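import Groth.Agent.H23.CubeField
import Groth.Agent.H23.KLBasic

/-!
The cube relation for pullbacks of invertible modules along maps to abelian varieties.
-/

set_option linter.style.haveILetI false
set_option linter.unusedSectionVars false

universe u

open CategoryTheory CategoryTheory.Limits MonoidalCategory CartesianMonoidalCategory MonObj AlgebraicGeometry TopologicalSpace

namespace Groth.Agent.AVCube

open Groth.Agent.H23
open scoped Groth.Agent.H23.PicMul

variable {k : Type u} [Field k] {A : Over (Spec (CommRingCat.of k))}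
  {L : A.left.Modules} (hL : PicF.IsInvertible L)

/-- The class of the pullback of `L` along `f`, as a unit. -/
noncomputable def pc {T : Over (Spec (CommRingCat.of k))} (f : T ⟶ A) : (PicF.Cl T.left)ˣ :=
  (PicMul.isUnit_of_isInvertibleCl (PicClLib.isInvertibleCl_pullCl f.left ⟨L, rfl, hL⟩)).unit

theorem val_pc {T : Over (Spec (CommRingCat.of k))} (f : T ⟶ A) :
    (pc hL f : PicF.Cl T.left) = PicF.cl ((Scheme.Modules.pullback f.left).obj L) := rfl

theorem val_pc' {T : Over (Spec (CommRingCat.of k))} (f : T ⟶ A) :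
    (pc hL f : PicF.Cl T.left) = PicF.pullCl f.left (PicF.cl L) := rfl

theorem val_pc_id : (pc hL (𝟙 A) : PicF.Cl A.left) = PicF.cl L := by
  rw [val_pc', Over.id_left, PicClLib.pullCl_id]

theorem pull_pc {T T' : Over (Spec (CommRingCat.of k))} (φ : T' ⟶ T) (f : T ⟶ A) :
    Units.map (PicMul.pullHom φ.left : PicF.Cl T.left →* PicF.Cl T'.left) (pc hL f) = pc hL (φ ≫ f) := by
  ext
  show PicF.pullCl φ.left (pc hL f : PicF.Cl T.left) = _
  rw [val_pc', val_pc', PicClLib.pullCl_comp, Over.comp_left]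

variable [GrpObj A] [IsProper A.hom] [GeometricallyIntegral A.hom]

theorem pc_one (T : Over (Spec (CommRingCat.of k))) : pc hL (1 : T ⟶ A) = 1 := by
  haveI : Subsingleton (Spec (CommRingCat.of k)) := inferInstanceAs (Subsingleton (PrimeSpectrum k))
  haveI : Nonempty (Spec (CommRingCat.of k)) := inferInstanceAs (Nonempty (PrimeSpectrum k))
  exact Units.ext (KLBasic.pull_one hL T)

/-- The alternating combination of three maps. -/
noncomputable def comb {T : Over (Spec (CommRingCat.of k))} (f g h : T ⟶ A) : (PicF.Cl T.left)ˣ :=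
  pc hL (f * g * h) * pc hL f * pc hL g * pc hL h / (pc hL (f * g) * pc hL (f * h) * pc hL (g * h))

theorem pull_comb {T T' : Over (Spec (CommRingCat.of k))} (φ : T' ⟶ T) (f g h : T ⟶ A) :
    Units.map (PicMul.pullHom φ.left : PicF.Cl T.left →* PicF.Cl T'.left) (comb hL f g h) =
      comb hL (φ ≫ f) (φ ≫ g) (φ ≫ h) := by
  simp only [comb, map_mul, map_div, pull_pc, MonObj.comp_mul]

theorem comb_eq_one_of_one {T : Over (Spec (CommRingCat.of k))} {f g h : T ⟶ A}
    (H : f = 1 ∨ g = 1 ∨ h = 1) : comb hL f g h = 1 := by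
  rw [comb, div_eq_one]
  rcases H with rfl | rfl | rfl <;> simp only [_root_.one_mul, _root_.mul_one, pc_one] <;> ac_rfl

/-- The universal case. -/
theorem comb_universal :
    comb hL (fst A (A ⊗ A)) (snd A (A ⊗ A) ≫ fst A A) (snd A (A ⊗ A) ≫ snd A A) = 1 := by
  let P := A ⊗ A ⊗ A
  let c := comb hL (fst A (A ⊗ A)) (snd A (A ⊗ A) ≫ fst A A) (snd A (A ⊗ A) ≫ snd A A)
  have inv {T : Over (Spec (CommRingCat.of k))} (f : T ⟶ A) :
      PicF.IsInvertibleCl (pc hL f : PicF.Cl T.left) :=
    PicClLib.isInvertibleCl_pullCl f.left ⟨L, rfl, hL⟩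
  have key : ∀ u v : (PicF.Cl P.left)ˣ, PicF.IsInvertibleCl (u : PicF.Cl P.left) →
      PicF.IsInvertibleCl (v : PicF.Cl P.left) → PicF.IsInvertibleCl ((u / v : (PicF.Cl P.left)ˣ) : PicF.Cl P.left) := by
    rintro u v hu ⟨M, hM, hMi⟩
    obtain ⟨D, hD, e⟩ := PicInv.exists_inverse hMi
    have h : PicF.cl D = ((v⁻¹ : (PicF.Cl P.left)ˣ) : PicF.Cl P.left) := by
      refine left_inv_eq_right_inv (a := PicF.cl M) ?_ ?_
      · rw [mul_comm]
        exact (PicGrp.cl_eq_cl_iff _ _).2 e
      · rw [hM]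
        exact Units.mul_inv v
    rw [div_eq_mul_inv, Units.val_mul]
    exact PicMul.isInvertibleCl_mul hu ⟨D, h, hD⟩
  obtain ⟨M, hM, hMi⟩ : PicF.IsInvertibleCl (c : PicF.Cl P.left) := by
    refine key _ _ ?_ ?_ <;> simp only [Units.val_mul] <;>
      repeat (first | exact inv _ | refine PicMul.isInvertibleCl_mul ?_ (inv _))
  have slice : ∀ {T : Over (Spec (CommRingCat.of k))} (φ : T ⟶ P),
      (φ ≫ fst A (A ⊗ A) = 1 ∨ φ ≫ snd A (A ⊗ A) ≫ fst A A = 1 ∨ φ ≫ snd A (A ⊗ A) ≫ snd A A = 1) →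
        TrivBasic.Triv ((Scheme.Modules.pullback φ.left).obj M) := by
    intro T φ H
    refine (PicGrp.cl_eq_cl_iff _ _).1 ?_
    show PicF.pullCl φ.left (PicF.cl M) = 1
    rw [hM]
    exact congrArg Units.val ((pull_comb hL φ _ _ _).trans (comb_eq_one_of_one hL H))
  haveI : GeometricallyConnected A.hom := ⟨fun K _ y Z g₁ g₂ h =>
    haveI := GeometricallyIrreducible.geometrically_irreducibleSpace (f := A.hom) y g₁ g₂ h
    show ConnectedSpace Z from { toNonempty := inferInstance }⟩
  have h := CubeField.cube A A A η[A] η[A] η[A] M hMi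
    (slice _ (Or.inl (by rw [lift_fst]; exact (Hom.one_def).symm)))
    (slice _ (Or.inr (Or.inl (by rw [lift_snd_assoc, lift_fst]; exact (Hom.one_def).symm))))
    (slice _ (Or.inr (Or.inr (by rw [lift_snd_assoc, lift_snd]; exact (Hom.one_def).symm))))
  exact Units.ext (hM.symm.trans ((PicGrp.cl_eq_cl_iff _ _).2 h))

/-- The cube relation for three maps. -/
theorem cube_rel {T : Over (Spec (CommRingCat.of k))} (f g h : T ⟶ A) :
    pc hL (f * g * h) * pc hL f * pc hL g * pc hL h = pc hL (f * g) * pc hL (f * h) * pc hL (g * h) := by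
  have e := pull_comb hL (lift f (lift g h)) (fst A (A ⊗ A)) (snd A (A ⊗ A) ≫ fst A A) (snd A (A ⊗ A) ≫ snd A A)
  simp only [comb_universal, map_one, lift_fst, lift_snd_assoc, lift_snd] at e
  exact div_eq_one.1 e.symm

end Groth.Agent.AVCube
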