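import Groth.Agent.MeroX.EffCartier
import Groth.Prelude.Def_BlowUp2
import Mathlib.RingTheory.UniqueFactorizationDomain.Basic
import Mathlib.AlgebraicGeometry.AffineScheme

/-!
In the spectrum of a factorial domain an affine open is the locus of one element; complements of
dense affine opens with factorial local rings outside are effective Cartier divisors.
-/

set_option linter.style.haveILetI false

universe u

open CategoryTheory CategoryTheory.Limits AlgebraicGeometry TopologicalSpace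

namespace Groth.Agent.EffCompl

section Ring

variable {R : Type u} [CommRing R] [IsDomain R] [UniqueFactorizationMonoid R]

/-- Clearing denominators against a coprime element. -/
theorem exists_dvd_mul_pow (h g a : R) (m : ℕ) :
    ∀ F : R, F ≠ 0 → (∀ π : R, Prime π → π ∣ F → π ∣ h ∨ ¬ π ∣ g) → F ∣ a * g ^ m → ∃ N, F ∣ a * h ^ N := by
  intro F
  induction F using UniqueFactorizationMonoid.induction_on_prime with
  | h₁ => exact fun h0 => absurd rfl h0
  | h₂ x hx => exact fun _ _ _ => ⟨0, hx.dvd⟩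
  | h₃ b π hb hπ ih =>
    intro _ hp hd
    obtain ⟨N, c, hc⟩ := ih hb (fun q hq hqb => hp q hq (hqb.mul_left π)) ((dvd_mul_left b π).trans hd)
    have h1 : π ∣ c * g ^ m := by
      obtain ⟨d, hd⟩ := hd
      refine ⟨d * h ^ N, mul_left_cancel₀ hb ?_⟩
      linear_combination h ^ N * hd - g ^ m * hc
    rcases hp π hπ (dvd_mul_right π b) with hh | hg
    · obtain ⟨e, rfl⟩ := hh
      exact ⟨N + 1, c * e, by rw [pow_succ]; linear_combination (π * e) * hc⟩
    · obtain ⟨c', rfl⟩ := (hπ.dvd_or_dvd h1).resolve_right fun h2 => hg (hπ.dvd_of_dvd_pow h2)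
      exact ⟨N, c', by linear_combination hc⟩

/-- A finite intersection of principal primes is principal. -/
theorem exists_gen (s : Finset (Ideal R)) (hs : ∀ P ∈ s, ∃ π : R, Prime π ∧ P = Ideal.span {π}) :
    ∃ h : R, h ≠ 0 ∧ (∀ π : R, Prime π → π ∣ h → ∃ P ∈ s, P = Ideal.span {π}) ∧
      ∀ x : R, (∀ P ∈ s, x ∈ P) ↔ h ∣ x := by
  classical
  induction s using Finset.induction with
  | empty => exact ⟨1, one_ne_zero, fun π hπ h1 => absurd (isUnit_of_dvd_one h1) hπ.not_unit,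
      fun x => ⟨fun _ => one_dvd x, fun _ P hP => absurd hP (Finset.notMem_empty P)⟩⟩
  | insert P s hPs ih =>
    obtain ⟨h, h0, hh, hiff⟩ := ih fun Q hQ => hs Q (Finset.mem_insert_of_mem hQ)
    obtain ⟨π, hπ, rfl⟩ := hs P (Finset.mem_insert_self _ _)
    have hπh : ¬ π ∣ h := fun hd => by
      obtain ⟨Q, hQ, hQe⟩ := hh π hπ hd
      exact hPs (hQe ▸ hQ)
    refine ⟨π * h, mul_ne_zero hπ.ne_zero h0, fun q hq hd => ?_, fun x => ?_⟩
    · rcases hq.dvd_or_dvd hd with h1 | h1
      · exact ⟨_, Finset.mem_insert_self _ _, Ideal.span_singleton_eq_span_singleton.2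
          (hq.associated_of_dvd hπ h1).symm⟩
      · obtain ⟨Q, hQ, hQe⟩ := hh q hq h1
        exact ⟨Q, Finset.mem_insert_of_mem hQ, hQe⟩
    · simp only [Finset.mem_insert, forall_eq_or_imp, hiff, Ideal.mem_span_singleton]
      refine ⟨fun ⟨h1, h2⟩ => ?_, fun h1 => ⟨(dvd_mul_right π h).trans h1, (dvd_mul_left h π).trans h1⟩⟩
      obtain ⟨y, rfl⟩ := h2
      exact (mul_comm π h) ▸ mul_dvd_mul_left h ((hπ.dvd_or_dvd h1).resolve_left hπh)

/-- The prime divisors of an element, as ideals. -/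
theorem finite_prime_divisors {f : R} (hf : f ≠ 0) :
    {P : Ideal R | ∃ π : R, Prime π ∧ π ∣ f ∧ P = Ideal.span {π}}.Finite := by
  classical
  refine ((UniqueFactorizationMonoid.factors f).toFinset.image fun π => Ideal.span ({π} : Set R)).finite_toSet.subset ?_
  rintro P ⟨π, hπ, hd, rfl⟩
  obtain ⟨q, hq, ha⟩ := UniqueFactorizationMonoid.exists_mem_factors_of_dvd hf hπ.irreducible hd
  exact Finset.mem_coe.2 (Finset.mem_image.2 ⟨q, Multiset.mem_toFinset.2 hq,
    (Ideal.span_singleton_eq_span_singleton.2 ha).symm⟩)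

/-- Splitting a radical ideal with affine complement. -/
theorem exists_hg {J : Ideal R} {f : R} (hfJ : f ∈ J) (hf : f ≠ 0) :
    ∃ h g : R, h ≠ 0 ∧ g ∈ J ∧ (∀ x ∈ J, h ∣ x) ∧ (∀ π : R, Prime π → π ∣ h → π ∣ f) ∧
      (∀ π : R, Prime π → π ∣ f → π ∣ h ∨ ¬ π ∣ g) ∧
      (∀ x, (∀ π : R, Prime π → π ∣ h → π ∣ x) → h ∣ x) := by
  classical
  let S := (finite_prime_divisors hf).toFinset
  obtain ⟨h, h0, hh, hiff⟩ := exists_gen (S.filter fun P => J ≤ P) fun P hP => by
    obtain ⟨π, hπ, -, rfl⟩ := (finite_prime_divisors hf).mem_toFinset.1 (Finset.mem_filter.1 hP).1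
    exact ⟨π, hπ, rfl⟩
  have hprime : ∀ P ∈ S.filter (fun P => ¬ J ≤ P), P.IsPrime := fun P hP => by
    obtain ⟨π, hπ, -, rfl⟩ := (finite_prime_divisors hf).mem_toFinset.1 (Finset.mem_filter.1 hP).1
    exact (Ideal.span_singleton_prime hπ.ne_zero).2 hπ
  obtain ⟨g, hgJ, hg⟩ : ∃ g ∈ J, ∀ P ∈ S.filter (fun P => ¬ J ≤ P), g ∉ P := by
    by_contra hne
    push Not at hne
    obtain ⟨P, hP, hJP⟩ := (Ideal.subset_union_prime (f := id) ⊥ ⊥ fun P hP _ _ => hprime P hP).1
      (fun x hx => by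
        obtain ⟨P, hP, hxP⟩ := hne x hx
        exact Set.mem_biUnion (Finset.mem_coe.2 hP) hxP)
    exact (Finset.mem_filter.1 hP).2 hJP
  have hmemS : ∀ π : R, Prime π → π ∣ f → Ideal.span {π} ∈ S := fun π hπ hd =>
    (finite_prime_divisors hf).mem_toFinset.2 ⟨π, hπ, hd, rfl⟩
  refine ⟨h, g, h0, hgJ, fun x hx => (hiff x).1 fun P hP => (Finset.mem_filter.1 hP).2 hx, fun π hπ hd => ?_,
    fun π hπ hd => ?_, fun x hx => (hiff x).1 fun P hP => ?_⟩
  · obtain ⟨P, hP, rfl⟩ := hh π hπ hd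
    obtain ⟨q, hq, hqf, he⟩ := (finite_prime_divisors hf).mem_toFinset.1 (Finset.mem_filter.1 hP).1
    exact (Ideal.span_singleton_eq_span_singleton.1 he).dvd.trans hqf
  · by_cases hJ : J ≤ Ideal.span {π}
    · exact Or.inl (Ideal.mem_span_singleton.1
        ((hiff h).2 dvd_rfl _ (Finset.mem_filter.2 ⟨hmemS π hπ hd, hJ⟩)))
    · exact Or.inr fun hdg => hg _ (Finset.mem_filter.2 ⟨hmemS π hπ hd, hJ⟩) (Ideal.mem_span_singleton.2 hdg)
  · obtain ⟨π, hπ, -, rfl⟩ := (finite_prime_divisors hf).mem_toFinset.1 (Finset.mem_filter.1 hP).1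
    exact Ideal.mem_span_singleton.2 (hx π hπ (Ideal.mem_span_singleton.1 ((hiff h).2 dvd_rfl _ hP)))

end Ring

section Scheme

/-- In a factorial domain a radical ideal with affine complement is principal. -/
theorem exists_eq_span {R : CommRingCat.{u}} [IsDomain R] [UniqueFactorizationMonoid R] (J : Ideal R)
    (hJ : J.IsRadical) (hne : J ≠ ⊥) (W : (Spec R).Opens) (hW : IsAffineOpen W)
    (hWJ : ∀ p : PrimeSpectrum R, p ∈ W ↔ ¬ J ≤ p.asIdeal) : ∃ h : R, h ≠ 0 ∧ J = Ideal.span {h} := by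
  classical
  obtain ⟨f, hfJ, hf⟩ := Submodule.exists_mem_ne_zero_of_ne_bot hne
  obtain ⟨h, g, h0, hgJ, hdvd, hhf, hsplit, hsq⟩ := exists_hg hfJ hf
  refine ⟨h, h0, le_antisymm (fun x hx => Ideal.mem_span_singleton.2 (hdvd x hx)) ?_⟩
  let Df : (Spec R).Opens := PrimeSpectrum.basicOpen f
  let Dh : (Spec R).Opens := PrimeSpectrum.basicOpen h
  have hfW : Df ≤ W := fun p hp => (hWJ p).2 fun hJp => hp (hJp hfJ)
  have hWh : W ≤ Dh := fun p hp hh => (hWJ p).1 hp fun x hx =>
    Ideal.mem_of_dvd _ (hdvd x hx) hh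
  have hinj : ∀ {U V : (Spec R).Opens} (i : V ≤ U), (∃ p, p ∈ V) →
      Function.Injective ((Spec R).presheaf.map (homOfLE i).op) := fun {U V} i hV => by
    obtain ⟨p, hp⟩ := hV
    haveI : Nonempty V := ⟨⟨p, hp⟩⟩
    exact map_injective_of_isIntegral (Spec R) (homOfLE i)
  let gen : PrimeSpectrum R := ⟨⊥, Ideal.isPrime_bot⟩
  have hgenf : gen ∈ Df := fun h => hf h
  have hgenW : gen ∈ W := hfW hgenf
  have hsurj : Function.Surjective ((Spec R).presheaf.map (homOfLE hWh).op) := by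
    intro s
    obtain ⟨⟨a, ⟨_, n, rfl⟩⟩, ha⟩ := IsLocalization.surj (Submonoid.powers f)
      (show Γ(Spec R, Df) from (Spec R).presheaf.map (homOfLE hfW).op s)
    have hres : ∀ {U V : (Spec R).Opens} (i : V ≤ U) (r : R),
        (Spec R).presheaf.map (homOfLE i).op (algebraMap R Γ(Spec R, U) r) = algebraMap R Γ(Spec R, V) r := fun {U V} i r => by
      simp only [IsAffineOpen.algebraMap_Spec_obj]
      rw [CommRingCat.hom_comp, RingHom.comp_apply, CommRingCat.hom_comp, RingHom.comp_apply, ← CommRingCat.comp_apply,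
        ← Functor.map_comp]
      rfl
    obtain ⟨m, hm⟩ : ∃ m : ℕ, f ^ n ∣ a * g ^ (m + 1) := by
      by_cases hg0 : g = 0
      · exact ⟨0, by rw [hg0, pow_one, mul_zero]; exact dvd_zero _⟩
      let Dg : (Spec R).Opens := PrimeSpectrum.basicOpen g
      have hgW : Dg ≤ W := fun p hp => (hWJ p).2 fun hJp => hp (hJp hgJ)
      obtain ⟨⟨b, ⟨_, m, rfl⟩⟩, hb⟩ := IsLocalization.surj (Submonoid.powers g)
        (show Γ(Spec R, Dg) from (Spec R).presheaf.map (homOfLE hgW).op s)
      refine ⟨m, ⟨b * g, ?_⟩⟩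
      have hinjR : Function.Injective (algebraMap R Γ(Spec R, Df ⊓ Dg)) := by
        have e : Df ⊓ Dg = PrimeSpectrum.basicOpen (f * g) := (PrimeSpectrum.basicOpen_mul f g).symm
        rw [e]
        exact IsLocalization.injective _ (powers_le_nonZeroDivisors_of_noZeroDivisors (mul_ne_zero hf hg0))
      have h1 := congrArg ((Spec R).presheaf.map (homOfLE (inf_le_left : Df ⊓ Dg ≤ Df)).op) ha
      have h2 := congrArg ((Spec R).presheaf.map (homOfLE (inf_le_right : Df ⊓ Dg ≤ Dg)).op) hb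
      simp only [map_mul, hres, ← CommRingCat.comp_apply, ← Functor.map_comp] at h1 h2
      rw [pow_succ, ← mul_assoc, ← mul_assoc]
      congr 1
      apply hinjR
      have e : (homOfLE hgW).op ≫ (homOfLE (inf_le_right : Df ⊓ Dg ≤ Dg)).op =
          (homOfLE hfW).op ≫ (homOfLE (inf_le_left : Df ⊓ Dg ≤ Df)).op := Subsingleton.elim _ _
      rw [e] at h2
      rw [map_mul, map_mul, ← h1, ← h2]
      ring
    obtain ⟨N, r, hr⟩ := exists_dvd_mul_pow h g a (m + 1) (f ^ n) (pow_ne_zero _ hf)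
      (fun π hπ hd => hsplit π hπ (hπ.dvd_of_dvd_pow hd)) hm
    refine ⟨IsLocalization.mk' Γ(Spec R, Dh) r (⟨h ^ N, N, rfl⟩ : Submonoid.powers h), hinj hfW ⟨gen, hgenf⟩ ?_⟩
    rw [← CommRingCat.comp_apply, ← Functor.map_comp]
    show (Spec R).presheaf.map (homOfLE (hfW.trans hWh)).op _ = _
    have hu : IsUnit (algebraMap R Γ(Spec R, Df) (f ^ n * h ^ N)) := by
      rw [map_mul]
      refine (IsLocalization.map_units Γ(Spec R, Df) (⟨f ^ n, n, rfl⟩ : Submonoid.powers f)).mul ?_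
      rw [← hres (hfW.trans hWh) (h ^ N)]
      exact (IsLocalization.map_units Γ(Spec R, Dh) (⟨h ^ N, N, rfl⟩ : Submonoid.powers h)).map _
    refine hu.mul_left_injective ?_
    have h3 := congrArg ((Spec R).presheaf.map (homOfLE (hfW.trans hWh)).op)
      (IsLocalization.mk'_spec Γ(Spec R, Dh) r (⟨h ^ N, N, rfl⟩ : Submonoid.powers h))
    simp only [map_mul, hres] at h3 ⊢
    rw [mul_left_comm, h3, ← mul_assoc, ha, ← map_mul, ← map_mul, hr]
  haveI hiso : IsIso ((Spec R).presheaf.map (homOfLE hWh).op) :=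
    (ConcreteCategory.isIso_iff_bijective _).2 ⟨hinj hWh ⟨gen, hgenW⟩, hsurj⟩
  have hDh : IsAffineOpen Dh := by
    have := (isAffineOpen_top (Spec R)).basicOpen ((Scheme.ΓSpecIso R).inv h)
    rwa [show (Spec R).basicOpen ((Scheme.ΓSpecIso R).inv h) = Dh from basicOpen_eq_of_affine h] at this
  have heq : Dh ≤ W := by
    have h4 := hDh.map_fromSpec hW (homOfLE hWh).op
    intro p hp
    obtain ⟨q, hq⟩ : p ∈ Set.range hDh.fromSpec := by rw [hDh.range_fromSpec]; exact hp
    obtain ⟨q', hq'⟩ := (Spec.map ((Spec R).presheaf.map (homOfLE hWh).op)).surjective q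
    have : p ∈ Set.range hW.fromSpec := ⟨q', by rw [← h4, Scheme.Hom.comp_apply, hq', hq]⟩
    rwa [hW.range_fromSpec] at this
  rw [Ideal.span_le, Set.singleton_subset_iff, SetLike.mem_coe, ← hJ.radical, Ideal.radical_eq_sInf,
    Submodule.mem_sInf]
  rintro p ⟨hJp, hp⟩
  by_contra hhp
  exact (hWJ ⟨p, hp⟩).1 (heq (show (⟨p, hp⟩ : PrimeSpectrum R) ∈ Dh from hhp)) hJp

end Scheme

section Glue

/-- The vanishing ideal of the complement of a dense affine open with factorial local rings outside is effective Cartier. -/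
theorem isEffCartier_vanishingIdeal_compl (X : Scheme.{u}) [IsLocallyNoetherian X]
    (hΔ : ∀ V W : X.Opens, IsAffineOpen V → IsAffineOpen W → IsAffineOpen (V ⊓ W))
    (U : X.Opens) (hU : IsAffineOpen U) (hdense : Dense (U : Set X))
    (hufd : ∀ x : X, x ∉ U → IsDomain (X.presheaf.stalk x) ∧ UniqueFactorizationMonoid (X.presheaf.stalk x)) :
    BlowUp.IsEffCartierIdeal
      (Scheme.IdealSheafData.vanishingIdeal ⟨(U : Set X)ᶜ, U.isOpen.isClosed_compl⟩) := by
  let Z : Closeds X := ⟨(U : Set X)ᶜ, U.isOpen.isClosed_compl⟩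
  refine MeroX.isEffCartier_of_stalk _ fun x hx V hxV => ?_
  have hxU : x ∉ U := by
    rw [← SetLike.mem_coe, Scheme.IdealSheafData.coe_support_vanishingIdeal] at hx
    exact hx
  haveI := (hufd x hxU).1
  haveI := (hufd x hxU).2
  letI := X.presheaf.algebra_section_stalk ⟨x, hxV⟩
  haveI := V.2.isLocalization_stalk ⟨x, hxV⟩
  let I₀ : Ideal Γ(X, V.1) := (Scheme.IdealSheafData.vanishingIdeal Z).ideal V
  let φ : Γ(X, V.1) →+* X.presheaf.stalk x := algebraMap _ _
  let J := I₀.map φ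
  let σ := Spec.map (X.presheaf.germ V.1 x hxV)
  let WV : (Spec Γ(X, V.1)).Opens := V.2.fromSpec ⁻¹ᵁ U
  have hWV : IsAffineOpen WV := by
    have e : WV = V.2.fromSpec ⁻¹ᵁ (V.1 ⊓ U) := by
      rw [Scheme.Hom.preimage_inf, V.2.fromSpec_preimage_self, top_inf_eq]
    rw [e]
    exact (hΔ _ _ V.2 hU).preimage_of_isOpenImmersion V.2.fromSpec (by
      rw [V.2.opensRange_fromSpec]; exact inf_le_left)
  haveI : IsAffineHom σ := isAffineHom_of_isAffine _
  let W : (Spec (X.presheaf.stalk x)).Opens := σ ⁻¹ᵁ WV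
  have hW : IsAffineOpen W := hWV.preimage σ
  have hI₀ : I₀ = PrimeSpectrum.vanishingIdeal (V.2.fromSpec ⁻¹' (Z : Set X)) := rfl
  have hrad₀ : I₀.IsRadical := by
    rw [hI₀]; exact PrimeSpectrum.isRadical_vanishingIdeal _
  have hrad : J.IsRadical := by
    show (I₀.map φ).radical ≤ I₀.map φ
    rw [← IsLocalization.map_radical (V.2.primeIdealOf ⟨x, hxV⟩).asIdeal.primeCompl]
    exact Ideal.map_mono hrad₀
  have hmem : ∀ p : PrimeSpectrum (X.presheaf.stalk x), p ∈ W ↔ ¬ J ≤ p.asIdeal := by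
    intro p
    show σ p ∈ WV ↔ _
    have h1 : σ p ∈ V.2.fromSpec ⁻¹' (Z : Set X) ↔ I₀ ≤ (σ p).asIdeal := by
      have hclosed : IsClosed (V.2.fromSpec ⁻¹' (Z : Set X)) := Z.isClosed.preimage V.2.fromSpec.continuous
      rw [hI₀, ← SetLike.coe_subset_coe, ← PrimeSpectrum.mem_zeroLocus,
        PrimeSpectrum.zeroLocus_vanishingIdeal_eq_closure]
      exact (Set.ext_iff.1 hclosed.closure_eq (σ p)).symm
    show V.2.fromSpec (σ p) ∈ U ↔ _
    rw [show J ≤ p.asIdeal ↔ I₀ ≤ (σ p).asIdeal from Ideal.map_le_iff_le_comap, ← h1]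
    exact not_not.symm
  have hne : J ≠ ⊥ := by
    intro h0
    -- the generic point of the stalk would avoid `U`
    let gen : PrimeSpectrum (X.presheaf.stalk x) := ⟨⊥, Ideal.isPrime_bot⟩
    have hgen : V.2.fromSpec (σ gen) ∉ U := fun hg => (hmem gen).1 hg (h0 ▸ le_rfl)
    let η := X.fromSpecStalk x gen
    have hη : η = V.2.fromSpec (σ gen) := by
      show X.fromSpecStalk x gen = _
      rw [← V.2.fromSpecStalk_eq_fromSpecStalk hxV, IsAffineOpen.fromSpecStalk, Scheme.Hom.comp_apply]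
    obtain ⟨y, hy, hyη⟩ : ∃ y, y ∈ U ∧ y ⤳ x := by
      obtain ⟨_, ⟨V', hV', rfl⟩, hxV', -⟩ :=
        X.isBasis_affineOpens.exists_subset_of_mem_open (Set.mem_univ x) isOpen_univ
      haveI : IsNoetherianRing Γ(X, V') := IsLocallyNoetherian.component_noetherian ⟨V', hV'⟩
      haveI : NoetherianSpace ↥(V' : Set X) := by
        rw [← hV'.range_fromSpec]; exact NoetherianSpace.range _ hV'.fromSpec.continuous
      let C : Set ↥(V' : Set X) := ⋃ Y ∈ {Y ∈ irreducibleComponents ↥(V' : Set X) | (⟨x, hxV'⟩ : ↥(V' : Set X)) ∉ Y}, Y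
      have hC : IsClosed C := ((NoetherianSpace.finite_irreducibleComponents).subset fun Y hY => hY.1).isClosed_biUnion
        fun Y hY => isClosed_of_mem_irreducibleComponents _ hY.1
      have hopen : IsOpen (Subtype.val '' Cᶜ : Set X) := V'.isOpen.isOpenMap_subtype_val _ hC.isOpen_compl
      obtain ⟨z, hzC, hzU⟩ := Dense.inter_open_nonempty hdense _ hopen ⟨x, ⟨x, hxV'⟩, by
        simp only [C, Set.mem_compl_iff, Set.mem_iUnion, not_exists]
        exact fun Y hY => hY.2, rfl⟩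
      obtain ⟨z', hz'C, rfl⟩ := hzC
      let Y := irreducibleComponent z'
      have hxY : (⟨x, hxV'⟩ : ↥(V' : Set X)) ∈ Y := by
        by_contra h
        exact hz'C (Set.mem_biUnion (x := Y) ⟨irreducibleComponent_mem_irreducibleComponents _, h⟩ mem_irreducibleComponent)
      have hirr : IsIrreducible (Subtype.val '' Y : Set X) :=
        isIrreducible_irreducibleComponent.image _ continuous_subtype_val.continuousOn
      obtain ⟨w, hw⟩ := QuasiSober.sober hirr.closure isClosed_closure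
      exact ⟨w, (hw.specializes (subset_closure ⟨z', mem_irreducibleComponent, rfl⟩)).mem_open U.isOpen hzU,
        hw.specializes (subset_closure ⟨⟨x, hxV'⟩, hxY, rfl⟩)⟩
    obtain ⟨q, rfl⟩ : y ∈ Set.range (X.fromSpecStalk x) := by rw [Scheme.range_fromSpecStalk]; exact hyη
    have h2 : X.fromSpecStalk x gen ⤳ X.fromSpecStalk x q :=
      ((PrimeSpectrum.le_iff_specializes gen q).1 (show (⊥ : Ideal _) ≤ q.asIdeal from bot_le)).map
        (X.fromSpecStalk x).continuous
    exact hgen (hη ▸ h2.mem_open U.isOpen hy)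
  obtain ⟨h, h0, hJ⟩ := exists_eq_span J hrad hne W hW hmem
  exact ⟨h, mem_nonZeroDivisors_of_ne_zero h0, hJ⟩

/-- The complement of a dense affine open with factorial local rings outside is an effective Cartier divisor. -/
theorem exists_effCartier_compl (X : Scheme.{u}) [IsLocallyNoetherian X]
    (hΔ : ∀ V W : X.Opens, IsAffineOpen V → IsAffineOpen W → IsAffineOpen (V ⊓ W))
    (U : X.Opens) (hU : IsAffineOpen U) (hdense : Dense (U : Set X))
    (hufd : ∀ x : X, x ∉ U → IsDomain (X.presheaf.stalk x) ∧ UniqueFactorizationMonoid (X.presheaf.stalk x)) :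
    ∃ D : X.IdealSheafData, BlowUp.IsEffCartierIdeal D ∧ (D.support : Set X) = (U : Set X)ᶜ :=
  ⟨_, isEffCartier_vanishingIdeal_compl X hΔ U hU hdense hufd, by
    rw [Scheme.IdealSheafData.coe_support_vanishingIdeal]; rfl⟩

end Glue

end Groth.Agent.EffCompl
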