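import Groth.Agent.Lib.AVAmple
import Groth.Agent.Lib.EffCompl
import Groth.Agent.H23.GeomConn
import Groth.Agent.H23.SecRep
import Groth.Agent.AmpleX.QuasiAffine
import Groth.Agent.AmpleX.Generated
import Groth.Agent.S2821
import Groth.Agent.S7795
import Groth.Agent.GrpSchLib.SmoothRegular
import Groth.Agent.H23.BcComp
import Groth.Agent.H23.PicInv
import Groth.Agent.S1561
import Groth.Agent.S2359
import Groth.Agent.S4381
import Mathlib.AlgebraicGeometry.Morphisms.Finite

/-!
Projectivity of abelian varieties over an arbitrary field.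
-/

set_option linter.style.haveILetI false
set_option linter.unusedSectionVars false
set_option backward.isDefEq.respectTransparency false
set_option backward.isDefEq.respectTransparency.types false
set_option maxHeartbeats 800000

universe u

open CategoryTheory CategoryTheory.Limits MonoidalCategory CartesianMonoidalCategory MonObj AlgebraicGeometry TopologicalSpace

namespace Groth.Agent.AVProj

open Groth.Agent.H23 Groth.Agent.H23.TrivBasic Groth.Agent.InvX Groth.Agent.AVAmple

theorem finite_of_isProper_quasiAffine {k : Type u} [Field k] {Z : Scheme.{u}}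
    (p : Z ⟶ Spec (CommRingCat.of k)) [IsProper p] [Z.IsQuasiAffine] : Finite Z := by
  haveI : IsAffine Z := by
    haveI : IsProper (Z.toSpecΓ ≫ Spec.map ((Scheme.ΓSpecIso (CommRingCat.of k)).inv ≫ p.appTop)) :=
      (GeomConn.eq_toSpecΓ_comp p) ▸ ‹IsProper p›
    haveI : IsProper Z.toSpecΓ :=
      IsProper.of_comp Z.toSpecΓ (Spec.map ((Scheme.ΓSpecIso (CommRingCat.of k)).inv ≫ p.appTop))
    haveI : IsClosedImmersion Z.toSpecΓ :=
      (IsClosedImmersion.iff_isProper_and_mono _).2 ⟨inferInstance, inferInstance⟩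
    exact (IsClosedImmersion.isAffine_surjective_of_isAffine Z.toSpecΓ).1
  haveI : IsAffineHom p := isAffineHom_of_isAffine p
  haveI : IsFinite p := IsFinite.iff_isProper_and_isAffineHom.2 ⟨inferInstance, inferInstance⟩
  obtain ⟨x⟩ : Nonempty (Spec (CommRingCat.of k)) := inferInstanceAs (Nonempty (PrimeSpectrum k))
  haveI : Subsingleton (Spec (CommRingCat.of k)) := inferInstanceAs (Subsingleton (PrimeSpectrum k))
  exact Set.finite_univ_iff.1 ((IsFinite.finite_preimage_singleton p x).subset fun z _ => Subsingleton.elim _ _)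

/-- A proper closed subscheme inside an affine open is finite. -/
theorem finite_of_range_subset_affine {k : Type u} [Field k] {X C : Scheme.{u}} (f : X ⟶ Spec (CommRingCat.of k))
    [IsProper f] (j : C ⟶ X) [IsClosedImmersion j] {U : X.Opens} (hU : IsAffineOpen U)
    (h : Set.range j ⊆ U) : Finite C := by
  haveI : IsProper (j ≫ f) := inferInstance
  haveI : IsAffine C := by
    have := hU.preimage j
    rw [show j ⁻¹ᵁ U = ⊤ from top_le_iff.1 fun c _ => h ⟨c, rfl⟩] at this
    haveI : IsAffine ((⊤ : C.Opens) : Scheme) := this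
    exact IsAffine.of_isIso (C.topIso).inv
  exact finite_of_isProper_quasiAffine (j ≫ f)

section Closed

variable {k : Type u} [Field k] [IsAlgClosed k] {A : Over (Spec (CommRingCat.of k))} [GrpObj A] [IsProper A.hom]
  [GeometricallyIntegral A.hom]

/-- An invertible module with a section whose locus is affine is ample. -/
theorem isAmple_of_affine_locus {L : A.left.Modules} (hL : PicF.IsInvertible L) {s : Γ(L, ⊤)} (hs : s ≠ 0)
    (hU : IsAffineOpen (locus s)) : CohB1.IsAmple L := by
  haveI : IsIntegral A.left := GeometricallyIntegral.isIntegral_of_subsingleton A.hom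
  haveI : IsCommMonObj A := isCommMonObj_of_isProper_of_geometricallyIntegral A
  haveI : JacobsonSpace A.left := LocallyOfFiniteType.jacobsonSpace A.hom
  refine isAmple_of_effective hL hs fun {C} j _ _ hT => ?_
  haveI : JacobsonSpace C := .of_isClosedEmbedding j.isClosedEmbedding
  obtain ⟨c₀, -, hc₀⟩ := nonempty_inter_closedPoints (Z := (Set.univ : Set C)) Set.univ_nonempty isClosed_univ.isLocallyClosed
  obtain ⟨p, hp⟩ := exists_pt (x := j c₀)
    (by rw [← Set.image_singleton]; exact j.isClosedEmbedding.isClosedMap _ (mem_closedPoints_iff.1 hc₀))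
  obtain ⟨b, hb⟩ := exists_pt_mem (locus_ne_bot hL hs)
  have h0 : (tr (p⁻¹ * b)).left (j c₀) ∈ locus s := by
    rw [← hp, show (tr (p⁻¹ * b)).left (pt p) = (p ≫ tr (p⁻¹ * b)).left (IsLocalRing.closedPoint k) from rfl,
      comp_tr, unit_comp, mul_inv_cancel_left]
    exact hb
  refine finite_of_range_subset_affine A.hom (j ≫ (tr (p⁻¹ * b)).left) hU ?_
  rintro _ ⟨c, rfl⟩
  exact range_subset_of_meet_one hL j hT (p⁻¹ * b) h0 c

end Closed

section Descent

variable {K : Type u} [Field K] {X : Scheme.{u}} (p : X ⟶ Spec (CommRingCat.of K)) [IsProper p]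
  (K' : Type u) [Field K'] [Algebra K K']

local notation "π'" => pullback.fst p (Spec.map (CommRingCat.ofHom (algebraMap K K')))

/-- If the pullback has a section generating at a point, then so has the module at its image. -/
theorem exists_locus_mem (M : X.Modules) (hM : PicF.IsInvertible M)
    (z : ↥(pullback p (Spec.map (CommRingCat.ofHom (algebraMap K K')))))
    (σ : Γ((Scheme.Modules.pullback π').obj M, ⊤)) (hz : z ∈ locus σ) :
    ∃ t : Γ(M, ⊤), π' z ∈ locus t := by
  letI : X.Over (Spec (CommRingCat.of K)) := ⟨p⟩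
  haveI : IsProper (X ↘ Spec (CommRingCat.of K)) := ‹IsProper p›
  haveI : Flat (X ↘ Spec (CommRingCat.of K)) := inferInstanceAs (Flat p)
  obtain ⟨Q, _, e, hQ⟩ := Seesaw.exists_rep (A := K) M hM
  obtain ⟨eB, he1, he2⟩ := hQ K' _ _ _ (IsPullback.of_hasPullback p _)
  let b := Module.finBasis K Q
  by_contra hne
  push Not at hne
  let M' := (Scheme.Modules.pullback π').obj M
  have hM' : PicF.IsInvertible M' := PicClLib.isInvertible_pullback _ hM
  obtain ⟨U, hzU, ε, hε⟩ := InvX.exists_frame hM' z
  let rs : Γ(M', ⊤) → Γ(M', U) := fun τ => AModX.res M' (le_top : U ≤ ⊤) τ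
  choose co hco using fun τ : Γ(M', ⊤) => hε.exists_coord le_rfl (rs τ)
  have hloc : ∀ τ, z ∈ locus τ ↔ IsUnit ((pullback p _).presheaf.germ U z hzU (co τ)) := fun τ => by
    have h := congrArg (fun W : Scheme.Opens _ => z ∈ W)
      (locus_eq_basicOpen hε (s := τ) (g := co τ) (show rs τ = co τ • ε by rw [hco τ, AModX.res_self]))
    simp only [Opens.mem_inf, hzU, and_true, eq_iff_iff] at h
    exact h.trans (Scheme.mem_basicOpen _ _ _ hzU)
  have hz' := (hloc σ).1 hz
  let f := eB.symm σ
  have hsum : f = ∑ i, LinearMap.mulLeft K (f (b i)) ∘ₗ (Algebra.linearMap K K' ∘ₗ b.coord i) := by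
    refine b.ext fun j => ?_
    rw [LinearMap.sum_apply, Finset.sum_eq_single j]
    · simp
    · intro i _ hij
      simp [Finsupp.single_eq_of_ne hij]
    · simp
  let g := fun (c : Γ(pullback p _, U)) => (pullback p (Spec.map (CommRingCat.ofHom (algebraMap K K')))).presheaf.germ U z hzU c
  have hmax : g (co σ) ∈ IsLocalRing.maximalIdeal _ := by
    have hσ : rs σ = ∑ i, (AModX.resR (le_top : U ≤ ⊤)
        (Coh.toGlobal (pullback.snd p (Spec.map (CommRingCat.ofHom (algebraMap K K')))) (f (b i))) *
        co (pullElt π' (e (b.coord i)))) • AModX.res M' le_rfl ε := by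
      rw [← eB.apply_symm_apply σ, show eB.symm σ = f from rfl]
      conv_lhs => rw [hsum]
      simp only [rs, map_sum, he1, he2]
      refine Finset.sum_congr rfl fun i _ => ?_
      rw [mul_smul, ← hco]
      exact AModX.res_smul _ _ _
    have hc : co σ = ∑ i, AModX.resR (le_top : U ≤ ⊤)
        (Coh.toGlobal (pullback.snd p (Spec.map (CommRingCat.ofHom (algebraMap K K')))) (f (b i))) *
        co (pullElt π' (e (b.coord i))) := by
      refine hε.coord_unique le_rfl ?_
      rw [← hco, hσ, Finset.sum_smul]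
    simp only [g, hc, map_sum, map_mul]
    refine Ideal.sum_mem _ fun i _ => Ideal.mul_mem_left _ _ ?_
    rw [IsLocalRing.mem_maximalIdeal, mem_nonunits_iff, ← hloc, locus_pullElt hM]
    exact hne _
  exact hmax hz'

/-- Ampleness descends along extensions of the ground field. -/
theorem isAmple_of_baseChange (L : X.Modules) (hL : PicF.IsInvertible L)
    (h : CohB1.IsAmple ((Scheme.Modules.pullback π').obj L)) : CohB1.IsAmple L := by
  let g := Spec.map (CommRingCat.ofHom (algebraMap K K'))
  haveI : IsProper (pullback.snd p g) := inferInstance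
  haveI : CompactSpace ↥(pullback p g) := QuasiCompact.compactSpace_of_compactSpace (pullback.snd p g)
  haveI : (pullback p g).IsSeparated := ⟨by
    rw [← Limits.terminal.comp_from (pullback.snd p g)]
    infer_instance⟩
  haveI : Surjective g := ⟨fun x => ⟨IsLocalRing.closedPoint K', Subsingleton.elim _ _⟩⟩
  obtain ⟨a, ha, κ, -, σ, -, -, hσ⟩ := AmpleX.exists_cover_genLocus h
  let M := CohB1.tensorPow L a
  have hM : PicF.IsInvertible M := InvX.isInvertible_tensorPow hL a
  obtain ⟨φ⟩ : Nonempty (CohB1.tensorPow ((Scheme.Modules.pullback π').obj L) a ≅ (Scheme.Modules.pullback π').obj M) :=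
    PicMul.cl_eq_iff.1 (by
      show _ = PicF.pullCl π' (PicF.cl M)
      rw [PicMul.cl_tensorPow, PicMul.cl_tensorPow, PicMul.pullCl_pow]
      rfl)
  refine AmpleX.isAmple_of_tensorPow hL ha (isAmple_of_nontriv p hM (fun x => ?_) fun {C} j _ _ hT => ?_)
  · obtain ⟨z, hz⟩ := (π').surjective x
    obtain ⟨i, hi⟩ := hσ z
    obtain ⟨t, ht⟩ := exists_locus_mem p K' M hM z (one (σ i ≫ φ.hom)) (by
      show z ∈ CohB1.genLocus _ (ofSect (one (σ i ≫ φ.hom)))
      rw [ofSect_one, genLocus_comp_iso]
      exact hi)
    exact ⟨t, hz ▸ ht⟩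
  · let j' := pullback.snd j π'
    have hamp : CohB1.IsAmple ((Scheme.Modules.pullback π').obj M) :=
      AmpleX.isAmple_of_iso φ (AmpleX.isAmple_tensorPow h ha)
    let q := j' ≫ pullback.snd p g
    haveI : IsProper q := inferInstanceAs (IsProper (pullback.snd j π' ≫ pullback.snd p g))
    have hq := S2359.result (pullback.snd p g) j' j'.isClosedEmbedding.isEmbedding _
      ((S4381.result (pullback.snd p g) _).2 hamp)
    have hampC := (S4381.result q _).1 hq
    obtain ⟨ψ⟩ : Nonempty ((Scheme.Modules.pullback j').obj ((Scheme.Modules.pullback π').obj M) ≅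
        Coh.structureModule _) := (PicGrp.cl_eq_cl_iff _ _).1 (by
      show PicF.pullCl j' (PicF.pullCl π' (PicF.cl M)) = _
      rw [PicClLib.pullCl_comp, show j' ≫ π' = pullback.fst j π' ≫ j from pullback.condition.symm,
        ← PicClLib.pullCl_comp, show PicF.pullCl j (PicF.cl M) = PicF.cl (Coh.structureModule C) from
          (PicGrp.cl_eq_cl_iff _ _).2 hT]
      exact PicMul.pullCl_one _)
    haveI : Scheme.IsQuasiAffine (pullback j π') := AmpleX.isQuasiAffine_of_isAmple (AmpleX.isAmple_of_iso ψ hampC)
    haveI : Finite ↥(pullback j π') := finite_of_isProper_quasiAffine q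
    haveI : Surjective π' := inferInstance
    exact Finite.of_surjective _ (pullback.fst j π').surjective

end Descent

section AV

theorem ne_zero_of_mem_locus {X : Scheme.{u}} {L : X.Modules} {s : Γ(L, ⊤)} {x : X} (hx : x ∈ locus s) : s ≠ 0 := by
  intro h0
  obtain ⟨U, hxU, hU⟩ := mem_locus_iff.1 hx
  rw [h0, map_zero] at hU
  have h01 := hU.coord_unique le_rfl (r := (0 : Γ(X, U))) (r' := 1) (by simp)
  haveI : Nontrivial Γ(X, U) := nontrivial_of_ne _ _ (fun h : (0 : Γ(X, U)) = 1 => by
    have h' := congrArg (X.presheaf.germ U x hxU) h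
    rw [map_zero, map_one] at h'
    exact zero_ne_one h')
  exact zero_ne_one h01

variable {k : Type u} [Field k] {X : Over (Spec (CommRingCat.of k))} [GrpObj X] [IsProper X.hom]
  [GeometricallyIntegral X.hom]

/-- An invertible module with a section whose locus is affine is ample, over any field. -/
theorem isAmple_of_affine_locus_field {L : X.left.Modules} (hL : PicF.IsInvertible L) {s : Γ(L, ⊤)}
    (hne : locus s ≠ ⊥) (hU : IsAffineOpen (locus s)) : CohB1.IsAmple L := by
  let k' := AlgebraicClosure k
  let g : Spec (CommRingCat.of k') ⟶ Spec (CommRingCat.of k) := Spec.map (CommRingCat.ofHom (algebraMap k k'))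
  refine isAmple_of_baseChange X.hom k' L hL ?_
  let Y : Over (Spec (CommRingCat.of k')) := Red.bc g X
  haveI : IsProper Y.hom := (BcComp.isAV_bc g X).1
  haveI : GeometricallyIntegral Y.hom := (BcComp.isAV_bc g X).2
  haveI : Surjective g := ⟨fun x => ⟨IsLocalRing.closedPoint k', Subsingleton.elim _ _⟩⟩
  let π : Y.left ⟶ X.left := pullback.fst X.hom g
  haveI : IsAffineHom g := isAffineHom_of_isAffine g
  haveI : IsAffineHom π := MorphismProperty.pullback_fst (P := @IsAffineHom) X.hom g inferInstance
  haveI : Surjective π := inferInstanceAs (Surjective (pullback.fst X.hom g))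
  let s' : Γ((Scheme.Modules.pullback π).obj L, ⊤) := pullElt π s
  have hloc : locus s' = π ⁻¹ᵁ locus s := locus_pullElt hL π s
  obtain ⟨x, hx⟩ := (Opens.ne_bot_iff_nonempty _).1 hne
  obtain ⟨y, hy⟩ := π.surjective x
  have hy' : y ∈ locus s' := by rw [hloc]; show π y ∈ locus s; rw [hy]; exact hx
  exact isAmple_of_affine_locus (A := Y) (PicClLib.isInvertible_pullback π hL) (ne_zero_of_mem_locus hy')
    (hloc ▸ hU.preimage π)

/-- An abelian variety carries an ample invertible module. -/
theorem exists_isAmple : ∃ L : X.left.Modules, CohB1.IsAmple L := by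
  let k' := AlgebraicClosure k
  haveI : IsIntegral X.left := GeometricallyIntegral.isIntegral_of_subsingleton X.hom
  haveI : IsLocallyNoetherian X.left := LocallyOfFiniteType.isLocallyNoetherian X.hom
  haveI : CompactSpace X.left := QuasiCompact.compactSpace_of_compactSpace X.hom
  haveI : X.left.IsSeparated := ⟨by
    rw [← Limits.terminal.comp_from X.hom]
    infer_instance⟩
  obtain ⟨x⟩ : Nonempty X.left := inferInstance
  obtain ⟨U, hU, hxU, -⟩ := exists_isAffineOpen_mem_and_subset (x := x) (U := ⊤) trivial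
  haveI : Smooth X.hom := S7795.result X
  obtain ⟨D, hD, hsupp⟩ := EffCompl.exists_effCartier_compl X.left (fun V W hV hW => hV.inf hW) U hU
    (U.isOpen.dense ⟨x, hxU⟩) fun y _ => by
      haveI := GrpSchLib.isRegularLocalRing_stalk_of_smooth X.hom y
      exact S2821.result _
  obtain ⟨L, hL, hLI⟩ := PicInv.exists_inverse ((S8914.result D).2 hD)
  have hLI' : ClSub.IsInverseOf L (ClSub.idealMod D) :=
    ⟨(PicMul.comm _ _).some ≪≫ hLI.some⟩
  obtain ⟨s, hs⟩ := exists_divisor_section D hD hL hLI'
  have hloc : locus s = U := by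
    refine Opens.ext (Set.ext fun y => ?_)
    rw [SetLike.mem_coe, hs y, ← SetLike.mem_coe, hsupp]
    exact not_not
  exact ⟨L, isAmple_of_affine_locus_field hL (hloc ▸ (Opens.ne_bot_iff_nonempty _).2 ⟨x, hxU⟩) (hloc ▸ hU)⟩

end AV

end Groth.Agent.AVProj
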