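import Groth.Agent.Lib.AVProj
import Groth.Agent.Lib.AVCube
import Groth.Agent.H23.FibreZero
import Groth.Agent.S8121
import Groth.Agent.VarDim.Top

/-!
Multiplication by `n` on an abelian variety is finite and surjective.
-/

set_option linter.style.haveILetI false
set_option linter.unusedSectionVars false
set_option backward.isDefEq.respectTransparency false
set_option backward.isDefEq.respectTransparency.types false
set_option maxHeartbeats 800000

universe u

open CategoryTheory CategoryTheory.Limits MonoidalCategory CartesianMonoidalCategory MonObj AlgebraicGeometry TopologicalSpace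

namespace Groth.Agent.AVMulN

open Groth.Agent.H23 Groth.Agent.H23.TrivBasic Groth.Agent.AVCube Groth.Agent.AVProj
open scoped Groth.Agent.H23.PicMul

variable {k : Type u} [Field k] {A : Over (Spec (CommRingCat.of k))} [GrpObj A] [IsProper A.hom]
  [GeometricallyIntegral A.hom]

/-- Pullback of a symmetric class along a power of the identity. -/
theorem pc_pow {L : A.left.Modules} (hL : PicF.IsInvertible L) (hsym : pc hL ((𝟙 A)⁻¹ : A ⟶ A) = pc hL (𝟙 A)) :
    ∀ n : ℕ, pc hL (𝟙 A ^ n) = pc hL (𝟙 A) ^ (n ^ 2)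
  | 0 => by rw [pow_zero, pc_one]; simp
  | 1 => by rw [pow_one]; simp
  | n + 2 => by
    have h1 := pc_pow hL hsym (n + 1)
    have h0 := pc_pow hL hsym n
    have h := cube_rel hL (𝟙 A ^ (n + 1)) (𝟙 A) ((𝟙 A)⁻¹)
    rw [mul_inv_cancel_right, mul_inv_cancel, pc_one, ← pow_succ, show 𝟙 A ^ (n + 1) * (𝟙 A)⁻¹ = 𝟙 A ^ n by
      rw [pow_succ, mul_inv_cancel_right], hsym, h1, h0, _root_.mul_one] at h
    rw [show pc hL (𝟙 A ^ (n + 2)) = pc hL (𝟙 A ^ (n + 1 + 1)) from rfl]
    refine mul_right_cancel (b := pc hL (𝟙 A) ^ (n ^ 2)) ?_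
    rw [← h, ← pow_add, ← pow_add, ← pow_succ, ← pow_succ]
    congr 1
    ring

/-- Pullback of a symmetric ample module along `[n]` stays ample. -/
theorem exists_ample_pullback (n : ℕ) (hn : 1 ≤ n) :
    ∃ L : A.left.Modules, PicF.IsInvertible L ∧ CohB1.IsAmple ((Scheme.Modules.pullback (𝟙 A ^ n : A ⟶ A).left).obj L) := by
  obtain ⟨L, hL, hs⟩ := S8121.result k A
  refine ⟨L, hL.1, ?_⟩
  have hsym : pc hL.1 ((𝟙 A)⁻¹ : A ⟶ A) = pc hL.1 (𝟙 A) := by
    ext
    rw [val_pc_id, val_pc]
    exact ((PicGrp.cl_eq_cl_iff _ _).2 hs).symm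
  have h := congrArg Units.val (pc_pow hL.1 hsym n)
  rw [Units.val_pow_eq_pow_val, val_pc, val_pc_id, ← PicMul.cl_tensorPow] at h
  obtain ⟨e⟩ := (PicGrp.cl_eq_cl_iff _ _).1 h
  exact AmpleX.isAmple_of_iso e.symm (AmpleX.isAmple_tensorPow hL (pow_pos hn 2))

theorem isFinite_pow (n : ℕ) (hn : 1 ≤ n) : IsFinite (𝟙 A ^ n : A ⟶ A).left := by
  let φ := (𝟙 A ^ n : A ⟶ A).left
  obtain ⟨L, hL, hamp⟩ := exists_ample_pullback (A := A) n hn
  haveI : IsProper (φ ≫ A.hom) := by rw [Over.w]; infer_instance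
  haveI : IsProper φ := IsProper.of_comp φ A.hom
  haveI : IsLocallyNoetherian A.left := LocallyOfFiniteType.isLocallyNoetherian A.hom
  haveI : CompactSpace A.left := QuasiCompact.compactSpace_of_compactSpace A.hom
  haveI : IsNoetherian A.left := {}
  haveI : JacobsonSpace A.left := LocallyOfFiniteType.jacobsonSpace A.hom
  haveI : LocallyQuasiFinite φ := AVAmple.locallyQuasiFinite_of_closed φ fun q hq => by
    refine AVAmple.finite_preimage φ hamp.1 hL (Iso.refl _) (fun {C} j _ _ hT => ?_) q hq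
    haveI : IsProper (j ≫ A.hom) := inferInstance
    have hq := S2359.result A.hom j j.isClosedEmbedding.isEmbedding _ ((S4381.result A.hom _).2 hamp)
    have hampC := (S4381.result (j ≫ A.hom) _).1 hq
    obtain ⟨ψ⟩ := hT
    haveI : Scheme.IsQuasiAffine C := AmpleX.isQuasiAffine_of_isAmple (AmpleX.isAmple_of_iso ψ hampC)
    exact finite_of_isProper_quasiAffine (j ≫ A.hom)
  exact IsFinite.of_isProper_of_locallyQuasiFinite φ

theorem surjective_pow (n : ℕ) (hn : 1 ≤ n) : Surjective (𝟙 A ^ n : A ⟶ A).left := by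
  haveI := isFinite_pow (A := A) n hn
  haveI : IsIntegral A.left := GeometricallyIntegral.isIntegral_of_subsingleton A.hom
  let φ := (𝟙 A ^ n : A ⟶ A).left
  obtain ⟨x⟩ : Nonempty A.left := inferInstance
  haveI : Nonempty (φ.fiber (φ x)) := ⟨φ.asFiber x⟩
  haveI : Finite (φ.fiber (φ x)) := inferInstance
  haveI : DiscreteTopology (φ.fiber (φ x)) := inferInstance
  exact (FibreZero.surjective_and_dim_eq A.hom A.hom le_rfl φ (Over.w _) (φ x)
    (le_antisymm (topologicalKrullDim_zero_of_discreteTopology _)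
      (@Order.krullDim_nonneg _ _ ⟨⟨closure {φ.asFiber x}, isIrreducible_singleton.closure, isClosed_closure⟩⟩))).1

end Groth.Agent.AVMulN
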