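import Groth.Agent.Lib.TopFormsPn
import Groth.Agent.H23.GrassRep
import Mathlib.AlgebraicGeometry.Morphisms.Smooth

/-!
Projective space is smooth of relative dimension `n`.
-/

set_option autoImplicit false
set_option backward.isDefEq.respectTransparency false
set_option backward.isDefEq.respectTransparency.types false
set_option maxHeartbeats 1000000

universe u

open CategoryTheory AlgebraicGeometry TopologicalSpace Opposite
open Groth.Agent.PnChart

namespace Groth.Agent.SmoothPn

attribute [local instance] MvPolynomial.gradedAlgebra

instance smoothOfRelativeDimension_toSpec (n : ℕ) (R : Type u) [CommRing R] :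
    SmoothOfRelativeDimension n (CohB1.ProjSpace.toSpec n R) := by
  refine ⟨fun x => ?_⟩
  obtain ⟨i, hi⟩ := exists_mem_D n R x
  refine ⟨⊤, isAffineOpen_top _, D n R i, isAffineOpen_D n R i, hi, by simp, ?_⟩
  letI := (str n R i).toAlgebra
  have h : Algebra.IsStandardSmoothOfRelativeDimension n Γ(Spec (CommRingCat.of R), ⊤)
      Γ(CohB1.ProjSpace n R, D n R i) := by
    haveI h0 : Algebra.IsStandardSmoothOfRelativeDimension n Γ(Spec (CommRingCat.of R), ⊤)
        (MvPolynomial (Fin n) Γ(Spec (CommRingCat.of R), ⊤)) := by
      simpa using H23.GrassRep.isStandardSmooth_mvPolynomial Γ(Spec (CommRingCat.of R), ⊤) (Fin n)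
    exact Algebra.IsStandardSmoothOfRelativeDimension.of_algEquiv (n := n)
      (AlgEquiv.ofBijective _ (aeval_bijective n R i))
  exact h

end Groth.Agent.SmoothPn
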