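import Groth.Agent.Lib.AVSeesaw
import Groth.Agent.H23.CubeAb
import Groth.Prelude.Def_AbDual

/-!
Pairings: classes on a product trivial on both axes are biadditive; rigidified classes are determined
fppf locally; basics on the Pic⁰ part of the relative Picard functor over a field.
-/

set_option linter.style.haveILetI false
set_option linter.unusedSectionVars false
set_option backward.isDefEq.respectTransparency false
set_option backward.isDefEq.respectTransparency.types false
set_option maxHeartbeats 400000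

universe u

open CategoryTheory CategoryTheory.Limits MonoidalCategory CartesianMonoidalCategory MonObj AlgebraicGeometry TopologicalSpace

namespace Groth.Agent.AVPair

open Groth.Agent.H23 Groth.Agent.H23.TrivBasic
open scoped Groth.Agent.H23.PicMul

variable {k : Type u} [Field k]

/-- Pullback of classes along a morphism over the field. -/
noncomputable abbrev pl {T T' : (Over (Spec (CommRingCat.of k)))} (φ : T' ⟶ T) : PicF.Cl T.left →* PicF.Cl T'.left := PicMul.pullHom φ.left

theorem pl_pl {T T' T'' : (Over (Spec (CommRingCat.of k)))} (ψ : T'' ⟶ T') (φ : T' ⟶ T) (c : PicF.Cl T.left) :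
    pl ψ (pl φ c) = pl (ψ ≫ φ) c :=
  PicClLib.pullCl_comp ψ.left φ.left c

theorem pl_id {T : (Over (Spec (CommRingCat.of k)))} (c : PicF.Cl T.left) : pl (𝟙 T) c = c :=
  PicClLib.pullCl_id c

theorem isInv_pl {T T' : (Over (Spec (CommRingCat.of k)))} (φ : T' ⟶ T) {c : PicF.Cl T.left} (hc : PicF.IsInvertibleCl c) :
    PicF.IsInvertibleCl (pl φ c) :=
  PicClLib.isInvertibleCl_pullCl φ.left hc

theorem isInv_one {T : Scheme.{u}} : PicF.IsInvertibleCl (1 : PicF.Cl T) :=
  ⟨_, rfl, PicLoc.isInvertible_structureModule T⟩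

theorem exists_inv {T : Scheme.{u}} {c : PicF.Cl T} (hc : PicF.IsInvertibleCl c) :
    ∃ d : PicF.Cl T, PicF.IsInvertibleCl d ∧ c * d = 1 := by
  obtain ⟨L, rfl, hL⟩ := hc
  obtain ⟨D, hD, e⟩ := PicInv.exists_inverse hL
  exact ⟨PicF.cl D, ⟨D, rfl, hD⟩, (PicGrp.cl_eq_cl_iff _ _).2 e⟩

theorem eq_of_mul_inv {T : Scheme.{u}} {c d e : PicF.Cl T} (hde : d * e = 1) (h : c * e = 1) : c = d :=
  left_inv_eq_right_inv (a := e) h ((mul_comm _ _).trans hde)

/-- Classes pulled back through a point are trivial. -/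
theorem pl_const {T T' : (Over (Spec (CommRingCat.of k)))} {c : PicF.Cl T.left} (hc : PicF.IsInvertibleCl c) (a : 𝟙_ (Over (Spec (CommRingCat.of k))) ⟶ T) :
    pl (toUnit T' ≫ a) c = 1 :=
  CubeAb.F_const hc a

theorem triv_iff {T T' : (Over (Spec (CommRingCat.of k)))} (φ : T' ⟶ T) {M : T.left.Modules} :
    Triv ((Scheme.Modules.pullback φ.left).obj M) ↔ pl φ (PicF.cl M) = 1 :=
  (PicGrp.cl_eq_cl_iff _ _).symm

section Biadd

variable {X Y : (Over (Spec (CommRingCat.of k)))} [GrpObj X] [IsProper X.hom] [GeometricallyIntegral X.hom]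
  [GrpObj Y] [LocallyOfFiniteType Y.hom] [GeometricallyIntegral Y.hom]

/-- A class trivial on both axes is additive in the first variable. -/
theorem add_left {c : PicF.Cl (X ⊗ Y).left} (hc : PicF.IsInvertibleCl c)
    (h1 : pl (lift (1 : Y ⟶ X) (𝟙 Y)) c = 1) (h2 : pl (lift (𝟙 X) (1 : X ⟶ Y)) c = 1)
    {T : (Over (Spec (CommRingCat.of k)))} (f g : T ⟶ X) (h : T ⟶ Y) :
    pl (lift (f * g) h) c = pl (lift f h) c * pl (lift g h) c := by
  let a : X ⊗ X ⊗ Y ⟶ X := fst X (X ⊗ Y)
  let b : X ⊗ X ⊗ Y ⟶ X := snd X (X ⊗ Y) ≫ fst X Y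
  let y : X ⊗ X ⊗ Y ⟶ Y := snd X (X ⊗ Y) ≫ snd X Y
  obtain ⟨D, hD, hcD⟩ := exists_inv (PicMul.isInvertibleCl_mul (isInv_pl (lift a y) hc) (isInv_pl (lift b y) hc))
  obtain ⟨M, hMd, hM⟩ := PicMul.isInvertibleCl_mul (isInv_pl (lift (a * b) y) hc) hD
  have e1 : ∀ {S : (Over (Spec (CommRingCat.of k)))} (q : S ⟶ Y), pl (lift (1 : S ⟶ X) q) c = 1 := fun {S} q => by
    rw [show lift (1 : S ⟶ X) q = q ≫ lift (1 : Y ⟶ X) (𝟙 Y) by
      rw [comp_lift, MonObj.comp_one, Category.comp_id], ← pl_pl, h1, map_one]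
  have e2 : ∀ {S : (Over (Spec (CommRingCat.of k)))} (p : S ⟶ X), pl (lift p (1 : S ⟶ Y)) c = 1 := fun {S} p => by
    rw [show lift p (1 : S ⟶ Y) = p ≫ lift (𝟙 X) (1 : X ⟶ Y) by
      rw [comp_lift, MonObj.comp_one, Category.comp_id], ← pl_pl, h2, map_one]
  have slice : ∀ {S : (Over (Spec (CommRingCat.of k)))} (φ : S ⟶ X ⊗ X ⊗ Y), φ ≫ a = 1 ∨ φ ≫ b = 1 ∨ φ ≫ y = 1 →
      Triv ((Scheme.Modules.pullback φ.left).obj M) := by
    intro S φ H
    refine (triv_iff φ).2 ?_
    have hs : pl φ (pl (lift (a * b) y) c) = pl φ (pl (lift a y) c * pl (lift b y) c) := by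
      simp only [map_mul, pl_pl, comp_lift, MonObj.comp_mul]
      rcases H with H | H | H <;>
        simp only [H, _root_.one_mul, _root_.mul_one, e1, e2]
    rw [hMd, map_mul, hs, ← map_mul, hcD, map_one]
  haveI : GeometricallyConnected X.hom := CubeAb.geometricallyConnected_of_integral X.hom
  have htr := CubeField.cube X X Y η[X] η[X] η[Y] M hM
    (slice _ (Or.inl (by rw [lift_fst]; exact (Hom.one_def).symm)))
    (slice _ (Or.inr (Or.inl (by simp only [b, lift_snd_assoc, lift_fst]; exact (Hom.one_def).symm))))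
    (slice _ (Or.inr (Or.inr (by simp only [y, lift_snd_assoc, lift_snd]; exact (Hom.one_def).symm))))
  have huniv : pl (lift (a * b) y) c = pl (lift a y) c * pl (lift b y) c :=
    eq_of_mul_inv hcD (hMd.symm.trans ((PicGrp.cl_eq_cl_iff _ _).2 htr))
  have := congrArg (pl (lift f (lift g h))) huniv
  simpa only [map_mul, pl_pl, comp_lift, MonObj.comp_mul, a, b, y, lift_fst, lift_snd_assoc, lift_snd] using this

theorem add_right [IsProper Y.hom] [LocallyOfFiniteType X.hom] {c : PicF.Cl (X ⊗ Y).left} (hc : PicF.IsInvertibleCl c)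
    (h1 : pl (lift (1 : Y ⟶ X) (𝟙 Y)) c = 1) (h2 : pl (lift (𝟙 X) (1 : X ⟶ Y)) c = 1)
    {T : (Over (Spec (CommRingCat.of k)))} (f : T ⟶ X) (g h : T ⟶ Y) :
    pl (lift f (g * h)) c = pl (lift f g) c * pl (lift f h) c := by
  have H := add_left (X := Y) (Y := X) (c := pl (lift (snd Y X) (fst Y X)) c) (isInv_pl _ hc)
    (by rw [pl_pl, comp_lift, lift_snd, lift_fst, h2]) (by rw [pl_pl, comp_lift, lift_snd, lift_fst, h1]) g h f
  simpa only [pl_pl, comp_lift, lift_snd, lift_fst] using H

end Biadd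

section Base

variable (X : (Over (Spec (CommRingCat.of k)))) [IsProper X.hom] [GeometricallyIntegral X.hom] {T : (Over (Spec (CommRingCat.of k)))} [LocallyOfFiniteType T.hom]

/-- Triviality over a point with values in a field. -/
theorem fieldTriv_of_whisker (M : (X ⊗ T).left.Modules) (hM : PicF.IsInvertible M) {S : (Over (Spec (CommRingCat.of k)))} (w : S ⟶ T)
    (h : Triv ((Scheme.Modules.pullback (X ◁ w).left).obj M)) {K : Type u} [Field K]
    (p : Spec (CommRingCat.of K) ⟶ S.left) :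
    SeesawGlobal.FieldTriv (snd X T).left M ((p ≫ w.left) (IsLocalRing.closedPoint K)) := by
  let f := (snd X T).left
  haveI : IsProper f := inferInstanceAs (IsProper (pullback.snd X.hom T.hom))
  haveI : Flat f := inferInstanceAs (Flat (pullback.snd X.hom T.hom))
  haveI : GeometricallyIntegral f := inferInstanceAs (GeometricallyIntegral (pullback.snd X.hom T.hom))
  haveI : IsLocallyNoetherian T.left := LocallyOfFiniteType.isLocallyNoetherian T.hom
  refine SeesawGlobal.fieldTriv_of_point f hM K (p ≫ w.left) rfl ?_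
  have hw : pullback.fst f (p ≫ w.left) ≫ (fst X T).left ≫ X.hom =
      (pullback.snd f (p ≫ w.left) ≫ p) ≫ S.hom := by
    rw [← Over.w w, Category.assoc, ← Category.assoc p, ← Category.assoc (pullback.snd f (p ≫ w.left)),
      ← pullback.condition, Category.assoc, Over.w (fst X T), Over.w (snd X T)]
  refine SeesawGlobal.triv_of_factor
    (pullback.lift (pullback.fst f (p ≫ w.left) ≫ (fst X T).left) (pullback.snd f (p ≫ w.left) ≫ p)
      (by rw [Category.assoc]; exact hw) : pullback f (p ≫ w.left) ⟶ (X ⊗ S).left) ?_ h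
  apply pullback.hom_ext
  · show (_ ≫ (X ◁ w).left) ≫ (fst X T).left = _
    rw [Category.assoc, ← Over.comp_left, whiskerLeft_fst]
    exact pullback.lift_fst _ _ _
  · show (_ ≫ (X ◁ w).left) ≫ (snd X T).left = _
    rw [Category.assoc, ← Over.comp_left, whiskerLeft_snd, Over.comp_left, ← Category.assoc]
    refine (congrArg (· ≫ w.left) (pullback.lift_snd _ _ _)).trans ?_
    rw [Category.assoc]
    exact pullback.condition.symm

variable [IsReduced T.left]

/-- Rigidified classes which are fppf locally trivial on the base are trivial. -/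
theorem eq_one_of_locally {c : PicF.Cl (X ⊗ T).left} (hc : PicF.IsInvertibleCl c) (σ : T ⟶ X)
    (hσ : pl (lift σ (𝟙 T)) c = 1) {R : Presieve T.left} (hR : R ∈ Scheme.fppfPrecoverage T.left)
    (h : ∀ ⦃U : Scheme.{u}⦄ (v : U ⟶ T.left), R v → pl (X ◁ AbDual.ovrHom T v) c = 1) : c = 1 := by
  obtain ⟨M, rfl, hM⟩ := hc
  obtain ⟨J, U, g, rfl⟩ := R.exists_eq_ofArrows
  obtain ⟨hcov, -⟩ := (Scheme.ofArrows_mem_precoverage_iff _).1 hR
  refine (PicGrp.cl_eq_cl_iff _ _).2 (AVSeesaw.triv_of_slices X T M hM (fun y _ => ?_) σ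
    ((PicGrp.cl_eq_cl_iff _ _).1 hσ))
  refine (SeesawGlobal.fieldTriv_iff_residueField y).1 ?_
  obtain ⟨i, p, hp⟩ := hcov y
  have := fieldTriv_of_whisker X M hM (AbDual.ovrHom T (g i)) ((triv_iff _).2 (h (g i) ⟨i⟩))
    ((U i).fromSpecResidueField p)
  have e : ((U i).fromSpecResidueField p ≫ (AbDual.ovrHom T (g i)).left)
      (IsLocalRing.closedPoint ((U i).residueField p)) = y :=
    (congrArg (g i) ((U i).fromSpecResidueField_apply p _)).trans hp
  exact e ▸ this

end Base

end Groth.Agent.AVPair
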