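import Groth.Agent.Lib.AVNu
import Mathlib.Analysis.Complex.Polynomial.Basic
import Mathlib.Algebra.MvPolynomial.Funext

/-!
The degree of a polynomial in an endomorphism in terms of the roots of its characteristic polynomial.
-/

set_option autoImplicit false
set_option linter.style.haveILetI false
set_option linter.unusedSectionVars false
set_option backward.isDefEq.respectTransparency false
set_option backward.isDefEq.respectTransparency.types false
set_option maxHeartbeats 1000000
set_option synthInstance.maxHeartbeats 400000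

universe u

open CategoryTheory MonoidalCategory CartesianMonoidalCategory MonObj AlgebraicGeometry TopologicalSpace
open Polynomial

noncomputable section

namespace Groth.Agent.AVCharRoots

variable {R : Type*} [CommRing R]

/-- The polynomial with given coefficients. -/
def poly {d : ℕ} (x : Fin d → R) : R[X] := ∑ i : Fin d, C (x i) * X ^ (i : ℕ)

/-- The coefficient vector. -/
def vec (d : ℕ) (G : R[X]) : Fin d → R := fun i => G.coeff i

theorem vec_poly {d : ℕ} (x : Fin d → R) : vec d (poly x) = x := by
  funext j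
  rw [vec, poly, finsetSum_coeff, Finset.sum_eq_single j]
  · simp
  · intro b _ hb
    rw [coeff_C_mul_X_pow, if_neg fun h => hb (Fin.ext h.symm)]
  · simp

theorem poly_vec {d : ℕ} {G : R[X]} (hG : G.natDegree < d) : poly (vec d G) = G := by
  simp only [poly, vec]
  rw [Fin.sum_univ_eq_sum_range (fun i => C (G.coeff i) * X ^ i)]
  exact (G.as_sum_range_C_mul_X_pow' hG).symm

theorem natDegree_poly_lt {d : ℕ} (hd : 0 < d) (x : Fin d → R) : (poly x).natDegree < d := by
  refine (Nat.lt_of_le_of_lt (natDegree_sum_le_of_forall_le _ _ (n := d - 1) fun i _ => ?_) (by omega))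
  exact (natDegree_C_mul_X_pow_le _ _).trans (by omega)

theorem map_poly {S : Type*} [CommRing S] (φ : R →+* S) {d : ℕ} (x : Fin d → R) :
    (poly x).map φ = poly (φ ∘ x) := by
  simp [poly, Polynomial.map_sum]

/-- Both sides of the multiplicativity relation agree as functions on `ℂ` when they agree on integers. -/
theorem mul_identity {n : ℕ} (N : MvPolynomial (Fin (n + 2)) ℚ) (P : ℚ[X])
    (h : ∀ (t : ℤ) (y : Fin (n + 1) → ℤ),
      MvPolynomial.eval (fun i => ((vec (n + 2) ((X - C t) * poly y) i : ℤ) : ℚ)) N =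
        P.eval (t : ℚ) * MvPolynomial.eval (fun i => ((vec (n + 2) (poly y) i : ℤ) : ℚ)) N)
    (t : ℂ) (y : Fin (n + 1) → ℂ) :
    MvPolynomial.aeval (vec (n + 2) ((X - C t) * poly y)) N =
      Polynomial.aeval t P * MvPolynomial.aeval (vec (n + 2) (poly y)) N := by
  let σ := Option (Fin (n + 1))
  let G : (MvPolynomial σ ℚ)[X] := poly fun j => MvPolynomial.X (some j)
  let H : (MvPolynomial σ ℚ)[X] := (X - C (MvPolynomial.X none)) * G
  let L : MvPolynomial σ ℚ := MvPolynomial.aeval (vec (n + 2) H) N
  let M : MvPolynomial σ ℚ := Polynomial.aeval (MvPolynomial.X none) P * MvPolynomial.aeval (vec (n + 2) G) N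
  have key : ∀ (S : Type) [CommRing S] [Algebra ℚ S] (x : σ → S),
      MvPolynomial.aeval x L = MvPolynomial.aeval (vec (n + 2) ((X - C (x none)) * poly fun j => x (some j))) N ∧
      MvPolynomial.aeval x M = Polynomial.aeval (x none) P *
        MvPolynomial.aeval (vec (n + 2) (poly fun j => x (some j))) N := by
    intro S _ _ x
    let φ : MvPolynomial σ ℚ →ₐ[ℚ] S := MvPolynomial.aeval x
    have e : ∀ (W : (MvPolynomial σ ℚ)[X]),
        φ (MvPolynomial.aeval (vec (n + 2) W) N) = MvPolynomial.aeval (vec (n + 2) (W.map φ.toRingHom)) N := fun W => by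
      rw [MvPolynomial.comp_aeval_apply]
      congr 2
      funext i
      rw [vec, vec, Polynomial.coeff_map]
      rfl
    have eG : G.map φ.toRingHom = poly fun j => x (some j) := by
      rw [map_poly]
      congr 1
      funext j
      exact MvPolynomial.aeval_X _ _
    refine ⟨?_, ?_⟩
    · show φ L = _
      rw [e, Polynomial.map_mul, eG, Polynomial.map_sub, map_X, map_C]
      congr 4
      simp [φ]
    · show φ M = _
      rw [map_mul, e, eG, ← Polynomial.aeval_algHom_apply]
      congr 2
      simp [φ]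
  have hLM : L = M := by
    refine MvPolynomial.funext_set (fun _ => Set.range fun z : ℤ => (z : ℚ))
      (fun _ => Set.infinite_range_of_injective fun a b h => by exact_mod_cast h) fun x hx => ?_
    have hx' : ∀ i, ∃ z : ℤ, (z : ℚ) = x i := fun i => hx i (Set.mem_univ i)
    choose z hz using hx'
    obtain rfl : x = fun i => (z i : ℚ) := funext fun i => (hz i).symm
    obtain ⟨hL, hM⟩ := key ℚ fun i => (z i : ℚ)
    rw [← MvPolynomial.aeval_eq_eval, hL, hM]
    have h' := h (z none) fun j => z (some j)
    have hc : ∀ W : ℤ[X], (fun i => ((vec (n + 2) W i : ℤ) : ℚ)) = vec (n + 2) (W.map (Int.castRingHom ℚ)) := fun W => by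
      funext i
      simp [vec, Polynomial.coeff_map]
    have hp : (poly fun j => z (some j)).map (Int.castRingHom ℚ) = poly fun j => ((z (some j) : ℤ) : ℚ) := map_poly _ _
    rw [hc, hc, Polynomial.map_mul, hp, Polynomial.map_sub, map_X, map_C] at h'
    simpa [Polynomial.coe_aeval_eq_eval, MvPolynomial.aeval_eq_eval] using h'
  obtain ⟨hL, hM⟩ := key ℂ fun i => i.elim t y
  rw [hLM, hM] at hL
  exact hL.symm

/-- Homogeneous polynomials scale. -/
theorem aeval_smul {σ : Type*} {S : Type*} [CommRing S] [Algebra ℚ S] {N : MvPolynomial σ ℚ} {m : ℕ}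
    (hN : N.IsHomogeneous m) (c : S) (x : σ → S) :
    MvPolynomial.aeval (fun i => c * x i) N = c ^ m * MvPolynomial.aeval x N := by
  classical
  rw [MvPolynomial.aeval_def, MvPolynomial.aeval_def, MvPolynomial.eval₂_eq, MvPolynomial.eval₂_eq, Finset.mul_sum]
  refine Finset.sum_congr rfl fun d hd => ?_
  have hdeg := hN (MvPolynomial.mem_support_iff.1 hd)
  rw [Finset.prod_congr rfl fun i _ => mul_pow c (x i) (d i), Finset.prod_mul_distrib, Finset.prod_pow_eq_pow_sum]
  have : ∑ i ∈ d.support, d i = m := by
    rw [← hdeg, Finsupp.weight_apply]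
    simp [Finsupp.sum]
  rw [this]
  ring

variable {k : Type u} [Field k] {A : Over (Spec (CommRingCat.of k))} [GrpObj A] [IsCommMonObj A]
  [IsProper A.hom] [GeometricallyIntegral A.hom]

theorem toHom_sum_smul {d : ℕ} (c : Fin d → ℤ) (ψ : Fin d → EndAV.End A) :
    EndAV.End.toHom (∑ i, c i • ψ i) = ∏ i, (EndAV.End.toHom (ψ i)) ^ c i := by
  let ρ : EndAV.End A →+ Additive (A ⟶ A) :=
    AddMonoidHom.mk' (fun φ => Additive.ofMul (EndAV.End.toHom φ)) fun _ _ => rfl
  have h := map_sum ρ (fun i => c i • ψ i) Finset.univ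
  simp only [map_zsmul] at h
  exact (congrArg Additive.toMul h).trans (by simp [ρ, toMul_sum, toMul_zsmul])

/-- The degree of a polynomial in `φ` is the product of its values at the roots. -/
theorem nu_aeval {r : ℕ} (hr : topologicalKrullDim A.left = r) (φ : EndAV.End A) (P : ℚ[X]) (hPm : P.Monic)
    (hPd : P.natDegree = 2 * r)
    (hP : ∀ t : ℤ, (AVNu.nu (EndAV.End.toHom (φ - (t : EndAV.End A))) : ℚ) = P.eval (t : ℚ)) (F : ℤ[X]) :
    (AVNu.nu (EndAV.End.toHom (Polynomial.aeval φ F)) : ℂ) =
      (((P.map (algebraMap ℚ ℂ)).roots).map fun a => Polynomial.aeval a F).prod := by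
  classical
  let n := F.natDegree
  obtain ⟨N, hN, hNv⟩ := AVDegPoly.exists_poly hr hr (fun i : Fin (n + 2) => EndAV.End.toHom (φ ^ (i : ℕ)))
  have hval : ∀ G : ℤ[X], G.natDegree < n + 2 →
      (AVNu.nu (EndAV.End.toHom (Polynomial.aeval φ G)) : ℚ) =
        MvPolynomial.eval (fun i => ((vec (n + 2) G i : ℤ) : ℚ)) N := by
    intro G hG
    have e : EndAV.End.toHom (Polynomial.aeval φ G) =
        ∏ i : Fin (n + 2), (EndAV.End.toHom (φ ^ (i : ℕ))) ^ (vec (n + 2) G i) := by
      rw [← toHom_sum_smul (vec (n + 2) G) fun i => φ ^ (i : ℕ), Polynomial.aeval_eq_sum_range' hG,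
        ← Fin.sum_univ_eq_sum_range (fun i => G.coeff i • φ ^ i)]
      rfl
    haveI : IsMonHom (∏ i : Fin (n + 2), (EndAV.End.toHom (φ ^ (i : ℕ))) ^ (vec (n + 2) G i)) :=
      e ▸ inferInstance
    rw [e]
    exact (AVNu.eq_nu hr hr _ (hNv (vec (n + 2) G))).symm
  have hmul := mul_identity N P (by
    intro t y
    have hy : (poly y).natDegree < n + 1 := natDegree_poly_lt (by omega) y
    have hXy : ((X - C t) * poly y).natDegree < n + 2 :=
      lt_of_le_of_lt (natDegree_mul_le.trans (Nat.add_le_add_right (natDegree_X_sub_C_le _) _)) (by omega)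
    rw [← hval _ hXy, ← hval _ (by omega), ← hP t]
    have e : EndAV.End.toHom (Polynomial.aeval φ ((X - C t) * poly y)) =
        EndAV.End.toHom (Polynomial.aeval φ (poly y)) ≫ EndAV.End.toHom (φ - (t : EndAV.End A)) := by
      rw [map_mul, map_sub, aeval_X, aeval_C, EndAV.End.toHom_mul]
      congr 3
      exact eq_intCast _ t
    rw [e, AVNu.nu_comp hr hr, Nat.cast_mul, mul_comm])
  have hone : MvPolynomial.eval (fun i => ((vec (n + 2) (1 : ℤ[X]) i : ℤ) : ℚ)) N = 1 := by
    rw [← hval 1 (by simp), map_one, EndAV.End.toHom_one, AVNu.nu_id]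
    simp
  let Pc := P.map (algebraMap ℚ ℂ)
  have hroots : ∀ (s : Multiset ℂ) (c : ℂ), Multiset.card s ≤ n →
      MvPolynomial.aeval (vec (n + 2) (C c * (s.map fun a => X - C a).prod)) N =
        c ^ (2 * r) * (s.map fun a => Pc.eval a).prod := by
    intro s
    induction s using Multiset.induction with
    | empty =>
      intro c _
      have e : vec (n + 2) (C c * (Multiset.map (fun a : ℂ => X - C a) 0).prod) =
          fun i => c * algebraMap ℚ ℂ ((vec (n + 2) (1 : ℤ[X]) i : ℤ) : ℚ) := by
        funext i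
        simp only [Multiset.map_zero, Multiset.prod_zero, _root_.mul_one, vec, coeff_one, coeff_C]
        split_ifs <;> simp
      rw [e, aeval_smul hN, show (fun i : Fin (n + 2) => algebraMap ℚ ℂ ((vec (n + 2) (1 : ℤ[X]) i : ℤ) : ℚ)) =
          algebraMap ℚ ℂ ∘ fun i => ((vec (n + 2) (1 : ℤ[X]) i : ℤ) : ℚ) from rfl,
        MvPolynomial.aeval_def, ← MvPolynomial.eval₂_comp, hone]
      simp
    | cons a s ih =>
      intro c hcard
      rw [Multiset.card_cons] at hcard
      let G := C c * (s.map fun b => X - C b).prod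
      have hG : G.natDegree < n + 1 := by
        refine lt_of_le_of_lt ((natDegree_C_mul_le _ _).trans (le_of_eq (natDegree_multiset_prod_X_sub_C_eq_card s))) ?_
        omega
      have h := hmul a (vec (n + 1) G)
      rw [poly_vec hG] at h
      rw [Multiset.map_cons, Multiset.prod_cons, Multiset.map_cons, Multiset.prod_cons,
        show C c * ((X - C a) * (s.map fun b => X - C b).prod) = (X - C a) * G by ring, h,
        ih c (by omega), ← Polynomial.eval_map_algebraMap]
      ring
  let Fc := F.map (Int.castRingHom ℂ)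
  have hsplit : Fc = C Fc.leadingCoeff * (Fc.roots.map (X - C ·)).prod :=
    (IsAlgClosed.splits Fc).eq_prod_roots
  have hev : (AVNu.nu (EndAV.End.toHom (Polynomial.aeval φ F)) : ℂ) = MvPolynomial.aeval (vec (n + 2) Fc) N := by
    have h := congrArg (algebraMap ℚ ℂ) (hval F (by omega))
    rw [map_natCast, MvPolynomial.eval₂_comp] at h
    rw [h, MvPolynomial.aeval_def]
    congr 1
    funext i
    simp [vec, Fc, Polynomial.coeff_map]
  have hPc : Pc = (Pc.roots.map (X - C ·)).prod :=
    (IsAlgClosed.splits Pc).eq_prod_roots_of_monic (hPm.map _)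
  have hcardP : Multiset.card Pc.roots = 2 * r := by
    rw [← (IsAlgClosed.splits Pc).natDegree_eq_card_roots, Polynomial.natDegree_map, hPd]
  have hFa : ∀ a, Polynomial.aeval a F = Fc.leadingCoeff * (Fc.roots.map fun b => a - b).prod := by
    intro a
    conv_lhs => rw [show Polynomial.aeval a F = Fc.eval a by rw [Polynomial.eval_map, Polynomial.aeval_def]; rfl, hsplit]
    simp [Polynomial.eval_multiset_prod, Multiset.map_map]
  rw [hev, hsplit, hroots _ _ ((Polynomial.card_roots' _).trans Polynomial.natDegree_map_le)]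
  rw [Multiset.map_congr rfl fun a _ => hFa a, Multiset.prod_map_mul, Multiset.map_const', Multiset.prod_replicate, hcardP,
    Multiset.prod_map_prod_map]
  congr 1
  refine congrArg Multiset.prod (Multiset.map_congr rfl fun b _ => ?_)
  conv_lhs => rw [hPc]
  rw [Polynomial.eval_multiset_prod, Multiset.map_map]
  have e : (Multiset.map ((fun p => p.eval b) ∘ fun a => X - C a) Pc.roots) =
      (Pc.roots.map fun a => a - b).map Neg.neg := by
    rw [Multiset.map_map]
    exact Multiset.map_congr rfl fun a _ => by simp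
  rw [e, Multiset.prod_map_neg, Multiset.card_map, hcardP, pow_mul, neg_one_sq, one_pow, _root_.one_mul]

end Groth.Agent.AVCharRoots
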