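import Mathlib.Analysis.Complex.Polynomial.Basic
import Mathlib.RingTheory.Polynomial.GaussLemma
import Mathlib.RingTheory.Polynomial.RationalRoot
import Mathlib.RingTheory.IntegralClosure.Algebra.Basic
import Mathlib.RingTheory.IntegralClosure.IsIntegralClosure.Basic
import Mathlib.Algebra.Polynomial.Lifts
import Mathlib.RingTheory.Ideal.GoingUp

/-!
A monic rational polynomial all of whose resultants with monic integral polynomials are integers has
integral coefficients.
-/

set_option autoImplicit false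
set_option linter.style.haveILetI false
set_option maxHeartbeats 1000000

open Polynomial

noncomputable section

namespace Groth.Agent.ResIntegral

theorem exists_int_polynomial (P : ℚ[X]) (hP : P.Monic)
    (h : ∀ F : ℤ[X], F.Monic → ∃ z : ℤ, ((P.map (algebraMap ℚ ℂ)).roots.map fun a => Polynomial.aeval a F).prod = (z : ℂ)) :
    ∃ P' : ℤ[X], P'.map (Int.castRingHom ℚ) = P := by
  classical
  obtain ⟨c, hc⟩ := IsLocalization.integerNormalization_map_to_map (nonZeroDivisors ℤ) P
  let P₁ := IsLocalization.integerNormalization (nonZeroDivisors ℤ) P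
  let P₀ := P₁.primPart
  have hc0 : (c : ℤ) ≠ 0 := nonZeroDivisors.coe_ne_zero c
  have hP₁ : P₁.map (algebraMap ℤ ℚ) = C ((c : ℤ) : ℚ) * P := by
    rw [hc, Algebra.smul_def]
    simp [Polynomial.algebraMap_eq]
  have hP₁0 : P₁ ≠ 0 := fun h0 => by
    rw [h0, Polynomial.map_zero] at hP₁
    exact mul_ne_zero (by simpa using hc0) hP.ne_zero hP₁.symm
  have hprim : P₀.IsPrimitive := P₁.isPrimitive_primPart
  set e : ℤ := P₀.leadingCoeff with he
  have hP₀ : P₀.map (algebraMap ℤ ℚ) = C (e : ℚ) * P := by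
    have h1 : C ((P₁.content : ℤ) : ℚ) * P₀.map (algebraMap ℤ ℚ) = C ((c : ℤ) : ℚ) * P := by
      rw [← hP₁]
      conv_rhs => rw [P₁.eq_C_content_mul_primPart]
      simp [P₀]
    have hcont : (P₁.content : ℚ) ≠ 0 := by simpa using mt content_eq_zero_iff.1 hP₁0
    have h2 : ((P₁.content : ℤ) : ℚ) * (e : ℚ) = ((c : ℤ) : ℚ) := by
      have h3 := congrArg Polynomial.leadingCoeff h1
      rwa [leadingCoeff_mul, leadingCoeff_C, leadingCoeff_map_of_injective (RingHom.injective_int _), leadingCoeff_mul,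
        leadingCoeff_C, hP.leadingCoeff, mul_one] at h3
    refine mul_left_cancel₀ (C_ne_zero.2 hcont) ?_
    rw [h1, ← mul_assoc, ← C_mul, h2]
  by_cases hu : IsUnit e
  · obtain ⟨u, hu⟩ := hu
    refine ⟨C ((↑u⁻¹ : ℤ)) * P₀, ?_⟩
    rw [Polynomial.map_mul, map_C, show P₀.map (Int.castRingHom ℚ) = C (e : ℚ) * P from hP₀, ← mul_assoc, ← C_mul]
    have : ((Int.castRingHom ℚ) (↑u⁻¹ : ℤ)) * (e : ℚ) = 1 := by
      rw [eq_intCast, ← Int.cast_mul, ← hu, Units.inv_mul, Int.cast_one]
    rw [this, C_1, one_mul]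
  exfalso
  have he0 : e ≠ 0 := leadingCoeff_ne_zero.2 hprim.ne_zero
  obtain ⟨p, hpi, hpe⟩ := WfDvdMonoid.exists_irreducible_factor hu he0
  have hp : Prime p := irreducible_iff_prime.1 hpi
  have hmax : (Ideal.span {p}).IsMaximal := PrincipalIdealRing.isMaximal_of_irreducible hp.irreducible
  let K := ℤ ⧸ Ideal.span {p}
  letI : Field K := Ideal.Quotient.field _
  let q : ℤ →+* K := Ideal.Quotient.mk _
  let h₀ := P₀.map q
  have hh0 : h₀ ≠ 0 := fun h0 => by
    refine hp.not_isUnit (isPrimitive_iff_isUnit_of_C_dvd.1 hprim p ((C_dvd_iff_dvd_coeff _ _).2 fun i => ?_))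
    have := congrArg (fun f => Polynomial.coeff f i) h0
    simp only [h₀, coeff_map, coeff_zero] at this
    exact Ideal.mem_span_singleton.1 (Ideal.Quotient.eq_zero_iff_mem.1 this)
  let hn : K[X] := C h₀.leadingCoeff⁻¹ * h₀
  have hnm : hn.Monic := by
    simp [hn, Polynomial.Monic, leadingCoeff_mul, leadingCoeff_C, inv_mul_cancel₀ (leadingCoeff_ne_zero.2 hh0)]
  let Fb : K[X] := X * hn + 1
  have hdeg : (1 : K[X]).degree < (X * hn).degree := by
    rw [degree_one, degree_eq_natDegree (mul_ne_zero X_ne_zero hnm.ne_zero), natDegree_mul X_ne_zero hnm.ne_zero, natDegree_X]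
    exact_mod_cast Nat.succ_le_iff.1 (by omega)
  have hFbm : Fb.Monic := (monic_X.mul hnm).add_of_left hdeg
  have hlift : Fb ∈ Polynomial.lifts q := (Polynomial.mem_lifts _).2 (Polynomial.map_surjective q Ideal.Quotient.mk_surjective Fb)
  obtain ⟨F, hFmap, hFdeg, hFm⟩ := Polynomial.lifts_and_degree_eq_and_monic hlift hFbm
  obtain ⟨z, hz⟩ := h F hFm
  let O := integralClosure ℤ ℂ
  haveI : (Ideal.span {p}).IsMaximal := hmax
  obtain ⟨𝔭, h𝔭, hcomap⟩ := Ideal.exists_ideal_over_maximal_of_isIntegral (S := O) (Ideal.span {p})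
    (by rw [(RingHom.injective_iff_ker_eq_bot (algebraMap ℤ O)).1 (FaithfulSMul.algebraMap_injective ℤ O)]; exact bot_le)
  let L := O ⧸ 𝔭
  letI : Field L := Ideal.Quotient.field 𝔭
  let π : O →+* L := Ideal.Quotient.mk 𝔭
  have hzp : ∀ w : ℤ, p ∣ w → π (algebraMap ℤ O w) = 0 := fun w hw => by
    refine Ideal.Quotient.eq_zero_iff_mem.2 ?_
    show w ∈ Ideal.comap (algebraMap ℤ O) 𝔭
    rw [hcomap]
    exact Ideal.mem_span_singleton.2 hw
  let ι : K →+* L := Ideal.Quotient.lift _ (π.comp (algebraMap ℤ O))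
    fun w hw => hzp w (Ideal.mem_span_singleton.1 hw)
  have hι : ι.comp q = π.comp (algebraMap ℤ O) := Ideal.Quotient.lift_comp_mk _ _ _
  -- the roots of `F`
  let Fc := F.map (Int.castRingHom ℂ)
  have hFc : Fc = (Fc.roots.map (X - C ·)).prod :=
    (IsAlgClosed.splits Fc).eq_prod_roots_of_monic (hFm.map _)
  let Pc := P.map (algebraMap ℚ ℂ)
  have hPc : Pc = (Pc.roots.map (X - C ·)).prod :=
    (IsAlgClosed.splits Pc).eq_prod_roots_of_monic (hP.map _)
  let n := Multiset.card Fc.roots
  have hn1 : n ≠ 0 := by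
    intro h0
    have h1 : Fc.natDegree = 0 := by rw [(IsAlgClosed.splits Fc).natDegree_eq_card_roots]; exact h0
    rw [Polynomial.natDegree_map_eq_of_injective (RingHom.injective_int _), ← Polynomial.natDegree_eq_of_degree_eq hFdeg.symm,
      natDegree_add_eq_left_of_degree_lt hdeg, natDegree_mul X_ne_zero hnm.ne_zero, natDegree_X] at h1
    omega
  let bs : Multiset O := Fc.roots.attach.map fun b => ⟨b.1, ⟨F, hFm, by
    have h1 := (mem_roots (hFm.map _).ne_zero).1 b.2
    rw [IsRoot, Polynomial.eval_map] at h1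
    rw [← h1]
    congr 1⟩⟩
  have hbs : bs.map (fun b : O => (b : ℂ)) = Fc.roots := by
    simp [bs, Multiset.map_map, Function.comp_def, Multiset.attach_map_val]
  have hswap : (Pc.roots.map fun a => Polynomial.aeval a F).prod =
      (-1) ^ (Multiset.card Pc.roots * n) * (Fc.roots.map fun b => Pc.eval b).prod := by
    have e1 : ∀ a, Polynomial.aeval a F = (Fc.roots.map fun b => a - b).prod := fun a => by
      conv_lhs => rw [show Polynomial.aeval a F = Fc.eval a by rw [Polynomial.eval_map, Polynomial.aeval_def]; rfl, hFc]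
      simp [Polynomial.eval_multiset_prod, Multiset.map_map]
    have e2 : ∀ b, Pc.eval b = (-1) ^ Multiset.card Pc.roots * (Pc.roots.map fun a => a - b).prod := fun b => by
      conv_lhs => rw [hPc]
      rw [Polynomial.eval_multiset_prod, Multiset.map_map]
      have e : (Multiset.map ((fun p => p.eval b) ∘ fun a => X - C a) Pc.roots) =
          (Pc.roots.map fun a => a - b).map Neg.neg := by
        rw [Multiset.map_map]
        exact Multiset.map_congr rfl fun a _ => by simp
      rw [e, Multiset.prod_map_neg, Multiset.card_map]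
    rw [Multiset.map_congr rfl fun a _ => e1 a, Multiset.map_congr rfl fun b _ => e2 b, Multiset.prod_map_mul,
      Multiset.map_const', Multiset.prod_replicate, ← mul_assoc, ← pow_mul, ← pow_add,
      Multiset.prod_map_prod_map, (Even.add_self _).neg_one_pow, one_mul]
  have key : algebraMap ℤ O ((-1) ^ (Multiset.card Pc.roots * n) * e ^ n * z) =
      (bs.map fun b => Polynomial.aeval b P₀).prod := by
    apply Subtype.ext
    push_cast
    rw [Multiset.map_map]
    have e3 : ∀ b : O, (Subtype.val ∘ fun b : O => Polynomial.aeval b P₀) b = (e : ℂ) * Pc.eval (b : ℂ) := fun b => by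
      rw [Function.comp_apply]
      show O.val (Polynomial.aeval b P₀) = _
      rw [← Polynomial.aeval_algHom_apply]
      show Polynomial.aeval (b : ℂ) P₀ = _
      have := congrArg (fun f : ℚ[X] => Polynomial.aeval (b : ℂ) f) hP₀
      simp only [Polynomial.aeval_map_algebraMap, map_mul, Polynomial.aeval_C] at this
      rw [this, Polynomial.eval_map, ← Polynomial.aeval_def]
      simp
    rw [Multiset.map_congr rfl fun b _ => e3 b, Multiset.prod_map_mul, Multiset.map_const', Multiset.prod_replicate,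
      show Multiset.card bs = n by rw [← Multiset.card_map (fun b : O => (b : ℂ)), hbs],
      show (bs.map fun b : O => Pc.eval (b : ℂ)) = Fc.roots.map fun b => Pc.eval b from
        (Multiset.map_map (fun b => Pc.eval b) (fun b : O => (b : ℂ)) bs).symm.trans
          (congrArg (Multiset.map fun b => Pc.eval b) hbs)]
    simp only [map_mul, map_pow, map_neg, map_one, eq_intCast]
    rw [← hz, hswap]
    have hsgn : ((-1 : ℂ) ^ (Multiset.card Pc.roots * n)) * (-1) ^ (Multiset.card Pc.roots * n) = 1 := by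
      rw [← pow_add, (Even.add_self _).neg_one_pow]
    linear_combination ((e : ℂ) ^ n * (Fc.roots.map fun b => Pc.eval b).prod) * hsgn
  have hzero : π ((bs.map fun b => Polynomial.aeval b P₀).prod) = 0 := by
    rw [← key]
    exact hzp _ (Dvd.dvd.mul_right (Dvd.dvd.mul_left (dvd_pow hpe hn1) _) _)
  rw [map_multiset_prod, Multiset.prod_eq_zero_iff, Multiset.map_map] at hzero
  obtain ⟨b, hb, hb0⟩ := Multiset.mem_map.1 hzero
  have hbe : ∀ G : ℤ[X], π (Polynomial.aeval b G) = (G.map q).eval₂ ι (π b) := fun G => by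
    rw [Polynomial.eval₂_map, hι, Polynomial.aeval_def, Polynomial.hom_eval₂]
  have hFb0 : Fb.eval₂ ι (π b) = 0 := by
    rw [← hFmap, ← hbe]
    have hbmem : (b : ℂ) ∈ Fc.roots := hbs ▸ Multiset.mem_map_of_mem _ hb
    have h1 : Polynomial.aeval b F = 0 := by
      apply Subtype.ext
      show O.val _ = (0 : ℂ)
      rw [← Polynomial.aeval_algHom_apply]
      have := (mem_roots (hFm.map _).ne_zero).1 hbmem
      rw [IsRoot, Polynomial.eval_map] at this
      rw [← this, Polynomial.aeval_def]
      rfl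
    rw [h1, map_zero]
  have hh₀ : h₀.eval₂ ι (π b) = 0 := by rw [← hbe]; exact hb0
  simp only [Fb, hn, Polynomial.eval₂_add, Polynomial.eval₂_mul, Polynomial.eval₂_one, Polynomial.eval₂_X,
    Polynomial.eval₂_C, hh₀, mul_zero, zero_add] at hFb0
  exact one_ne_zero hFb0

end Groth.Agent.ResIntegral
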