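import Groth.Agent.S12398
import Groth.Agent.S15674
import Groth.Agent.S19572
import Groth.Agent.Lib.AVCharRoots
import Groth.Agent.AVTors.TatePt
import Groth.Agent.AVTors.Dense
import Groth.Agent.AVDegLib.MulN

/-!
Tate modules and degrees under extension to an algebraically closed field: the characteristic polynomial.
-/

set_option autoImplicit false
set_option linter.style.haveILetI false
set_option linter.unusedSectionVars false
set_option backward.isDefEq.respectTransparency false
set_option backward.isDefEq.respectTransparency.types false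
set_option maxHeartbeats 1000000
set_option synthInstance.maxHeartbeats 400000

universe u

open CategoryTheory CategoryTheory.Limits MonoidalCategory CartesianMonoidalCategory MonObj AlgebraicGeometry

noncomputable section

namespace Groth.Agent.AVTateBC

attribute [local instance] Functor.monObjObj Functor.grpObjObj

variable {k : Type u} [Field k] (Ω : Type u) [Field Ω] [Algebra k Ω] [IsAlgClosed Ω]

local notation "F" => Over.pullback (AVTors.vΩ (k := k) Ω)

variable {A B : Over (Spec (CommRingCat.of k))} [GrpObj A] [IsCommMonObj A] [IsProper A.hom]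
  [GeometricallyIntegral A.hom] [GrpObj B] [IsCommMonObj B] [IsProper B.hom] [GeometricallyIntegral B.hom]

instance isProper_bc : IsProper ((F).obj A).hom :=
  inferInstanceAs (IsProper (pullback.snd A.hom (AVTors.vΩ Ω)))

instance geometricallyIntegral_bc : GeometricallyIntegral ((F).obj A).hom :=
  inferInstanceAs (GeometricallyIntegral (pullback.snd A.hom (AVTors.vΩ Ω)))

/-- Tate modules of the points with values in the extension. -/
def tateEquiv (A : Over (Spec (CommRingCat.of k))) [GrpObj A] [IsCommMonObj A] [IsCommMonObj ((F).obj A)]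
    (l : ℕ) [Fact l.Prime] :
    AbDual.TateMod A l (SGA7.pt Ω) ≃ₗ[ℤ_[l]] AbDual.TateMod ((F).obj A) l (AVTors.pt0 Ω) where
  toFun x := ⟨fun n => Additive.ofMul (AVTors.ePts Ω A (x.1 n).toMul),
    ⟨fun n => congrArg Additive.ofMul
      (((map_pow (AVTors.ePts Ω A) (x.1 n).toMul (l ^ n)).symm.trans
        (congrArg (AVTors.ePts Ω A) (x.2.1 n))).trans (map_one _)),
     fun n => congrArg Additive.ofMul
      ((map_pow (AVTors.ePts Ω A) (x.1 (n + 1)).toMul l).symm.trans
        (congrArg (AVTors.ePts Ω A) (congrArg Additive.toMul (x.2.2 n))))⟩⟩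
  invFun y := ⟨fun n => Additive.ofMul ((AVTors.ePts Ω A).symm (y.1 n).toMul),
    ⟨fun n => congrArg Additive.ofMul
      (((map_pow (AVTors.ePts Ω A).symm (y.1 n).toMul (l ^ n)).symm.trans
        (congrArg (AVTors.ePts Ω A).symm (y.2.1 n))).trans (map_one _)),
     fun n => congrArg Additive.ofMul
      ((map_pow (AVTors.ePts Ω A).symm (y.1 (n + 1)).toMul l).symm.trans
        (congrArg (AVTors.ePts Ω A).symm (congrArg Additive.toMul (y.2.2 n))))⟩⟩
  left_inv x := AbDual.TateMod.ext fun n => congrArg Additive.ofMul ((AVTors.ePts Ω A).symm_apply_apply _)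
  right_inv y := AbDual.TateMod.ext fun n => congrArg Additive.ofMul ((AVTors.ePts Ω A).apply_symm_apply _)
  map_add' x y := AbDual.TateMod.ext fun n => congrArg Additive.ofMul (map_mul (AVTors.ePts Ω A) _ _)
  map_smul' c x := AbDual.TateMod.ext fun n => congrArg Additive.ofMul (map_pow (AVTors.ePts Ω A) (x.1 n).toMul (c.appr n))

theorem tateEquiv_map [IsCommMonObj ((F).obj A)] [IsCommMonObj ((F).obj B)] (l : ℕ) [Fact l.Prime] (f : A ⟶ B)
    [IsMonHom f] [IsMonHom ((F).map f)] (x : AbDual.TateMod A l (SGA7.pt Ω)) :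
    tateEquiv Ω B l (AbDual.tateMapₗ (l := l) (T := SGA7.pt Ω) f x) =
      AbDual.tateMapₗ (l := l) (T := AVTors.pt0 Ω) ((F).map f) (tateEquiv Ω A l x) :=
  AbDual.TateMod.ext fun n => congrArg Additive.ofMul (AVTors.ePts_comp Ω _ f)

theorem finite_iff {g : ℕ} (hA : topologicalKrullDim A.left = g) (hB : topologicalKrullDim B.left = g)
    (f : A ⟶ B) [IsMonHom f] :
    IsPullback (pullback.fst A.hom (AVTors.vΩ Ω)) ((F).map f).left f.left (pullback.fst B.hom (AVTors.vΩ Ω)) ∧
      (IsFinite ((F).map f).left ↔ IsFinite f.left) := by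
  have hsq : IsPullback (pullback.fst A.hom (AVTors.vΩ Ω)) ((F).map f).left f.left (pullback.fst B.hom (AVTors.vΩ Ω)) := by
    refine (IsPullback.of_right ?_ ?_ (IsPullback.of_hasPullback B.hom (AVTors.vΩ Ω)).flip).flip
    · rw [Over.w f, show ((F).map f).left ≫ pullback.snd B.hom (AVTors.vΩ Ω) = pullback.snd A.hom (AVTors.vΩ Ω) from
        Over.w ((F).map f)]
      exact (IsPullback.of_hasPullback A.hom (AVTors.vΩ Ω)).flip
    · exact pullback.lift_fst _ _ _
  refine ⟨hsq, fun h => ?_, fun h => MorphismProperty.of_isPullback (P := @IsFinite) hsq h⟩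
  haveI := h
  haveI := H23.MaxAbelian.isIntegral_of_geometricallyIntegral (X := (F).obj A)
  haveI := H23.MaxAbelian.isIntegral_of_geometricallyIntegral (X := (F).obj B)
  have hs : Surjective ((F).map f).left :=
    H23.Isogeny.surjective_of_isFinite ((F).obj A).hom ((F).obj B).hom _ (Over.w _)
      ((AVTors.topologicalKrullDim_pullback Ω hA).trans (AVTors.topologicalKrullDim_pullback Ω hB).symm)
  haveI : Surjective f.left := ⟨fun y => by
    obtain ⟨z, hz⟩ := (MorphismProperty.pullback_fst (P := @Surjective) B.hom (AVTors.vΩ (k := k) Ω)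
      inferInstance).1 y
    obtain ⟨w, rfl⟩ := hs.1 z
    exact ⟨pullback.fst A.hom (AVTors.vΩ Ω) w,
      (congrArg (fun ψ : ((F).obj A).left ⟶ B.left => ψ w) hsq.w).trans hz⟩⟩
  exact (S19572.result k A B f (hA.trans hB.symm)).1

/-- The degree does not change under extension. -/
theorem nu_map {g : ℕ} (hA : topologicalKrullDim A.left = g) (hB : topologicalKrullDim B.left = g)
    (f : A ⟶ B) [IsMonHom f] [IsMonHom ((F).map f)] : AVNu.nu ((F).map f) = AVNu.nu f := by
  have hA' := AVTors.topologicalKrullDim_pullback Ω hA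
  have hB' := AVTors.topologicalKrullDim_pullback Ω hB
  obtain ⟨hsq, hiff⟩ := finite_iff Ω hA hB f
  by_cases hfin : IsFinite f.left
  · haveI := hfin
    haveI : IsFinite ((F).map f).left := hiff.2 hfin
    haveI := H23.MaxAbelian.isIntegral_of_geometricallyIntegral (X := A)
    haveI := H23.MaxAbelian.isIntegral_of_geometricallyIntegral (X := B)
    haveI := H23.MaxAbelian.isIntegral_of_geometricallyIntegral (X := (F).obj B)
    haveI : Surjective f.left :=
      H23.Isogeny.surjective_of_isFinite A.hom B.hom _ (Over.w _) (hA.trans hB.symm)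
    haveI : Flat f.left := (S19572.result k A B f (hA.trans hB.symm)).2
    let y := genericPoint ((F).obj B).left
    rw [← AVNu.finrank_eq_nu hA' hB' _ inferInstance y,
      ← AVNu.finrank_eq_nu hA hB f hfin (pullback.fst B.hom (AVTors.vΩ Ω) y)]
    exact Scheme.Hom.finrank_of_isPullback _ _ _ _ hsq y
  · rw [AVNu.nu_eq_zero hA hB f hfin, AVNu.nu_eq_zero hA' hB' _ fun h => hfin (hiff.1 h)]

variable (A)

/-- The characteristic polynomial of an endomorphism: the same for degrees and for all Tate modules. -/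
theorem exists_charpoly {g : ℕ} (hA : topologicalKrullDim A.left = g) (φ : EndAV.End A) :
    ∃ P : Polynomial ℤ, P.Monic ∧ P.natDegree = 2 * g ∧
      (∀ n : ℤ, (AVNu.nu (EndAV.End.toHom (φ - (n : EndAV.End A))) : ℤ) = P.eval n) ∧
      ∀ (l : ℕ) [Fact l.Prime], (l : k) ≠ 0 → ∀ [Module.Free ℤ_[l] (AbDual.TateMod A l (SGA7.pt Ω))]
        [Module.Finite ℤ_[l] (AbDual.TateMod A l (SGA7.pt Ω))],
          (EndAV.End.tateRep l (SGA7.pt Ω) φ).charpoly = P.map (Int.castRingHom ℤ_[l]) := by
  let A' := (F).obj A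
  haveI : IsCommMonObj A' := isCommMonObj_of_isProper_of_geometricallyIntegral A'
  have hA' := AVTors.topologicalKrullDim_pullback Ω hA
  let α' : A' ⟶ A' := (F).map φ.toHom
  obtain ⟨P, hPm, hPd, hPv⟩ := S15674.result Ω A' g hA' α'
  refine ⟨P, hPm, hPd, fun n => ?_, ?_⟩
  · have e : (F).map (EndAV.End.toHom (φ - (n : EndAV.End A))) = α' * 𝟙 A' ^ (-n) := by
      let ρ : (A ⟶ A) →* (A' ⟶ A') := MonoidHom.mk' (F).map fun a b => Functor.map_mul (F) a b
      show ρ _ = ρ φ.toHom * _
      rw [EndAV.End.toHom_sub, EndAV.End.toHom_intCast, map_div, map_zpow, zpow_neg, div_eq_mul_inv,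
        show ρ (𝟙 A) = 𝟙 A' from (F).map_id A]
    haveI : IsMonHom (α' * 𝟙 A' ^ (-n)) := e ▸ inferInstance
    rw [← nu_map Ω hA hA, ← AVNu.eq_nu hA' hA' ((F).map (EndAV.End.toHom (φ - (n : EndAV.End A))))
      (v := P.eval n) (by rw [e]; exact hPv n)]
  intro l _ hl _ _
  have hlΩ : (l : Ω) ≠ 0 := fun h => hl ((algebraMap k Ω).injective (by rwa [map_natCast, map_zero]))
  let τ := tateEquiv Ω A l
  haveI : Module.Free ℤ_[l] (AbDual.TateMod A' l (AVTors.pt0 Ω)) := Module.Free.of_equiv τ
  haveI : Module.Finite ℤ_[l] (AbDual.TateMod A' l (AVTors.pt0 Ω)) := Module.Finite.equiv τ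
  have h := S12398.result Ω l hlΩ A' α' P hPv
  rw [← h, ← LinearEquiv.charpoly_conj τ]
  congr 1
  refine LinearMap.ext fun y => ?_
  obtain ⟨x, rfl⟩ := τ.surjective y
  show τ (AbDual.tateMapₗ φ.toHom (τ.symm (τ x))) = _
  rw [τ.symm_apply_apply]
  exact tateEquiv_map Ω l φ.toHom x

/-- The degree is the determinant. -/
theorem det_eq_nu {g : ℕ} (hA : topologicalKrullDim A.left = g) (φ : EndAV.End A) (l : ℕ) [Fact l.Prime]
    (hl : (l : k) ≠ 0) [Module.Free ℤ_[l] (AbDual.TateMod A l (SGA7.pt Ω))]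
    [Module.Finite ℤ_[l] (AbDual.TateMod A l (SGA7.pt Ω))] :
    LinearMap.det (EndAV.End.tateRep l (SGA7.pt Ω) φ) = (AVNu.nu φ.toHom : ℤ_[l]) := by
  obtain ⟨P, hPm, hPd, hPv, hT⟩ := exists_charpoly Ω A hA φ
  have h0 := hPv 0
  rw [Int.cast_zero, sub_zero] at h0
  have hc := hT l hl
  have hfr : Module.finrank ℤ_[l] (AbDual.TateMod A l (SGA7.pt Ω)) = 2 * g := by
    obtain ⟨e⟩ := AVTors.exists_linearEquiv_pt Ω A hA l hl
    rw [← e.finrank_eq, Module.finrank_fin_fun]
  rw [LinearMap.det_eq_sign_charpoly_coeff, hc, hfr, pow_mul, neg_one_sq, one_pow, _root_.one_mul,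
    Polynomial.coeff_map, Polynomial.coeff_zero_eq_eval_zero, ← h0]
  simp

end Groth.Agent.AVTateBC
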