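import Groth.Agent.Lib.AVHomLattice
import Groth.Agent.Lib.AVTateBC
import Groth.Prelude.Def_EndRing
import Mathlib.LinearAlgebra.TensorProduct.Basis
import Mathlib.RingTheory.Polynomial.GaussLemma

/-!
The rational endomorphism algebra: minimal polynomials and characteristic polynomials.
-/

set_option autoImplicit false
set_option linter.style.haveILetI false
set_option linter.unusedSectionVars false
set_option backward.isDefEq.respectTransparency false
set_option backward.isDefEq.respectTransparency.types false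
set_option maxHeartbeats 1000000
set_option synthInstance.maxHeartbeats 400000

universe u

open CategoryTheory MonoidalCategory CartesianMonoidalCategory MonObj AlgebraicGeometry
open scoped TensorProduct Polynomial

noncomputable section

namespace Groth.Agent.AVEnd0

variable {k : Type u} [Field k] {A : Over (Spec (CommRingCat.of k))} [GrpObj A] [IsCommMonObj A] [IsProper A.hom]
  [GeometricallyIntegral A.hom]

theorem free_finite_end : Module.Free ℤ (EndAV.End A) ∧ Module.Finite ℤ (EndAV.End A) := by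
  obtain ⟨g, hg⟩ := AVTors.exists_dimNat A
  obtain ⟨h1, h2, -⟩ := AVHomLattice.free_finite (A := A) (B := A) hg hg
  exact ⟨h1, h2⟩

theorem toEnd0_injective : Function.Injective (EndAV.toEnd0 : EndAV.End A →ₐ[ℤ] EndAV.End0 A) := by
  obtain ⟨hf, hfin⟩ := free_finite_end (A := A)
  let b := Module.Free.chooseBasis ℤ (EndAV.End A)
  intro x y h
  refine b.repr.injective (Finsupp.ext fun i => ?_)
  have h1 := congrArg (fun z => (Algebra.TensorProduct.basis ℚ b).repr z i) h
  simp only [EndAV.toEnd0_apply, Algebra.TensorProduct.basis_repr_tmul] at h1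
  simpa using h1

theorem finite_end0 : Module.Finite ℚ (EndAV.End0 A) := by
  obtain ⟨hf, hfin⟩ := free_finite_end (A := A)
  infer_instance

theorem aeval_toEnd0 (φ : EndAV.End A) (F : ℤ[X]) :
    EndAV.toEnd0 (Polynomial.aeval φ F) = Polynomial.aeval (EndAV.toEnd0 φ) (F.map (Int.castRingHom ℚ)) := by
  rw [← Polynomial.aeval_algHom_apply]
  symm
  exact Polynomial.aeval_map_algebraMap ℚ (EndAV.toEnd0 φ) F

/-- An integral polynomial with the given rational one, up to a nonzero integer. -/
theorem exists_clear (p : ℚ[X]) : ∃ (c : ℤ) (P : ℤ[X]), c ≠ 0 ∧ P.map (Int.castRingHom ℚ) = Polynomial.C (c : ℚ) * p := by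
  obtain ⟨c, hc⟩ := IsLocalization.integerNormalization_map_to_map (nonZeroDivisors ℤ) p
  refine ⟨c, _, nonZeroDivisors.coe_ne_zero c, hc.trans ?_⟩
  rw [Algebra.smul_def]
  simp [Polynomial.algebraMap_eq]

section Charpoly

variable {g : ℕ} (hg : topologicalKrullDim A.left = g) (φ : EndAV.End A) {P : ℤ[X]} (hPm : P.Monic)
  (hPd : P.natDegree = 2 * g)
  (hPv : ∀ n : ℤ, (AVNu.nu (EndAV.End.toHom (φ - (n : EndAV.End A))) : ℤ) = P.eval n)

include hg hPm hPd hPv

theorem nu_aeval (F : ℤ[X]) :
    (AVNu.nu (EndAV.End.toHom (Polynomial.aeval φ F)) : ℂ) =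
      (((P.map (Int.castRingHom ℂ)).roots).map fun a => Polynomial.aeval a F).prod := by
  rw [AVCharRoots.nu_aeval hg φ (P.map (Int.castRingHom ℚ)) (hPm.map _)
    (by rw [Polynomial.natDegree_map_eq_of_injective (RingHom.injective_int _), hPd]) (fun n => by
      rw [Polynomial.eval_map, ← eq_intCast (Int.castRingHom ℚ) n, Polynomial.eval₂_at_apply, ← hPv]
      simp) F, Polynomial.map_map, RingHom.ext_int ((algebraMap ℚ ℂ).comp (Int.castRingHom ℚ)) (Int.castRingHom ℂ)]

/-- An irreducible factor of the characteristic polynomial divides the minimal polynomial. -/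
theorem dvd_minpoly {h : ℚ[X]} (hh : Irreducible h) (hdvd : h ∣ P.map (Int.castRingHom ℚ)) :
    h ∣ minpoly ℚ (EndAV.toEnd0 φ) := by
  by_contra hn
  obtain ⟨u, v, huv⟩ := (hh.coprime_iff_not_dvd).2 hn
  have hone : Polynomial.aeval (EndAV.toEnd0 φ) u * Polynomial.aeval (EndAV.toEnd0 φ) h = 1 := by
    have h1 := congrArg (Polynomial.aeval (EndAV.toEnd0 φ)) huv
    rwa [map_add, map_mul, map_mul, minpoly.aeval, mul_zero, add_zero, map_one] at h1
  obtain ⟨c, U, hc, hU⟩ := exists_clear u
  obtain ⟨e, H, he, hH⟩ := exists_clear h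
  have heq : Polynomial.aeval φ (U * H) = Polynomial.aeval φ (Polynomial.C (c * e)) := by
    refine toEnd0_injective ?_
    rw [aeval_toEnd0, aeval_toEnd0, Polynomial.map_mul, hU, hH, Polynomial.map_C,
      show Polynomial.C (c : ℚ) * u * (Polynomial.C (e : ℚ) * h) = Polynomial.C (c : ℚ) * Polynomial.C (e : ℚ) * (u * h) by ring,
      map_mul _ (Polynomial.C (c : ℚ) * Polynomial.C (e : ℚ)) (u * h), map_mul _ u h, hone, _root_.mul_one, ← Polynomial.C_mul]
    simp
  have h1 := nu_aeval hg φ hPm hPd hPv (U * H)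
  rw [heq, nu_aeval hg φ hPm hPd hPv] at h1
  obtain ⟨z, hz⟩ := IsAlgClosed.exists_root (h.map (algebraMap ℚ ℂ))
    (by rw [Polynomial.degree_map]; exact (Polynomial.degree_pos_of_irreducible hh).ne')
  have hzP : z ∈ (P.map (Int.castRingHom ℂ)).roots := by
    rw [Polynomial.mem_roots ((hPm.map _).ne_zero)]
    refine Polynomial.IsRoot.dvd hz ?_
    have := Polynomial.map_dvd (algebraMap ℚ ℂ) hdvd
    rwa [Polynomial.map_map, RingHom.ext_int ((algebraMap ℚ ℂ).comp (Int.castRingHom ℚ)) (Int.castRingHom ℂ)] at this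
  have hzH : Polynomial.aeval z (U * H) = 0 := by
    rw [map_mul, ← Polynomial.aeval_map_algebraMap ℚ z H, show algebraMap ℤ ℚ = Int.castRingHom ℚ from rfl, hH,
      map_mul, show Polynomial.aeval z h = 0 by rw [Polynomial.aeval_def, ← Polynomial.eval_map]; exact hz]
    simp
  rw [Multiset.prod_eq_zero (s := Multiset.map (fun a => Polynomial.aeval a (U * H)) _) (Multiset.mem_map.2 ⟨z, hzP, hzH⟩)] at h1
  obtain ⟨a, -, ha⟩ := Multiset.mem_map.1 (Multiset.prod_eq_zero_iff.1 h1)
  rw [Polynomial.aeval_C] at ha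
  simp only [algebraMap_int_eq, eq_intCast, Int.cast_eq_zero] at ha
  exact mul_ne_zero hc he ha

/-- With irreducible minimal polynomial the characteristic polynomial is its power. -/
theorem eq_pow_of_irreducible (hirr : Irreducible (minpoly ℚ (EndAV.toEnd0 φ))) :
    P.map (Int.castRingHom ℚ) =
      minpoly ℚ (EndAV.toEnd0 φ) ^ (2 * g / (minpoly ℚ (EndAV.toEnd0 φ)).natDegree) := by
  classical
  let mn := minpoly ℚ (EndAV.toEnd0 φ)
  have hmnm : mn.Monic := minpoly.monic (by
    by_contra hni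
    exact hirr.ne_zero (minpoly.eq_zero hni))
  let Q := P.map (Int.castRingHom ℚ)
  have hQm : Q.Monic := hPm.map _
  have hall : ∀ h ∈ UniqueFactorizationMonoid.normalizedFactors Q, h = mn := fun h hh => by
    have hi := UniqueFactorizationMonoid.irreducible_of_normalized_factor h hh
    have hm : h.Monic := by
      have := UniqueFactorizationMonoid.normalize_normalized_factor h hh
      rw [← this]
      exact Polynomial.monic_normalize hi.ne_zero
    exact Polynomial.eq_of_monic_of_associated hm hmnm (hi.associated_of_dvd hirr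
      (dvd_minpoly hg φ hPm hPd hPv hi (UniqueFactorizationMonoid.dvd_of_mem_normalizedFactors hh)))
  have hprod := UniqueFactorizationMonoid.prod_normalizedFactors (a := Q) hQm.ne_zero
  rw [Multiset.eq_replicate_card.2 hall, Multiset.prod_replicate] at hprod
  have hQ := Polynomial.eq_of_monic_of_associated (hmnm.pow _) hQm hprod
  have hd := congrArg Polynomial.natDegree hQ
  rw [Polynomial.natDegree_pow, show Q.natDegree = 2 * g by
    rw [Polynomial.natDegree_map_eq_of_injective (RingHom.injective_int _), hPd]] at hd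
  show Q = mn ^ (2 * g / mn.natDegree)
  rw [← hd, Nat.mul_div_cancel _ (Polynomial.natDegree_pos_iff_degree_pos.2 (Polynomial.degree_pos_of_irreducible hirr))]
  exact hQ.symm

end Charpoly

variable (Ω : Type u) [Field Ω] [Algebra k Ω] [IsAlgClosed Ω]

theorem aeval_tateRep (φ : EndAV.End A) (l : ℕ) [Fact l.Prime] (F : ℤ[X]) :
    EndAV.End.tateRep l (SGA7.pt Ω) (Polynomial.aeval φ F) =
      Polynomial.aeval (EndAV.End.tateRep l (SGA7.pt Ω) φ) (F.map (Int.castRingHom ℤ_[l])) := by
  rw [Polynomial.aeval_def, Polynomial.aeval_def, Polynomial.eval₂_map, Polynomial.hom_eval₂]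
  congr 1
  exact RingHom.ext_int _ _

theorem tateRep_injective (l : ℕ) [Fact l.Prime] (hl : (l : k) ≠ 0) :
    Function.Injective (EndAV.End.tateRep (A := A) l (SGA7.pt Ω)) :=
  AVTors.tateMap_injective (A := A) (B := A) Ω l hl

include Ω in
/-- The minimal polynomial has integral coefficients. -/
theorem exists_int_minpoly (φ : EndAV.End A) : ∃ m : ℤ[X], m.Monic ∧
    m.map (Int.castRingHom ℚ) = minpoly ℚ (EndAV.toEnd0 φ) ∧ Polynomial.aeval φ m = 0 := by
  obtain ⟨g, hg⟩ := AVTors.exists_dimNat A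
  obtain ⟨l, hlp, hl⟩ := AVHomLattice.exists_prime k
  haveI := Fact.mk hlp
  obtain ⟨e⟩ := AVTors.exists_linearEquiv_pt Ω A hg l hl
  haveI : Module.Free ℤ_[l] (AbDual.TateMod A l (SGA7.pt Ω)) := Module.Free.of_equiv e
  haveI : Module.Finite ℤ_[l] (AbDual.TateMod A l (SGA7.pt Ω)) := Module.Finite.equiv e
  obtain ⟨P, hPm, -, -, hT⟩ := AVTateBC.exists_charpoly Ω A hg φ
  have hP0 : Polynomial.aeval φ P = 0 := tateRep_injective Ω l hl (by
    rw [aeval_tateRep, ← hT l hl, LinearMap.aeval_self_charpoly, map_zero])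
  have hdvd : minpoly ℚ (EndAV.toEnd0 φ) ∣ P.map (Int.castRingHom ℚ) :=
    minpoly.dvd ℚ _ (by rw [← aeval_toEnd0, hP0, map_zero])
  obtain ⟨m, hm⟩ := IsIntegrallyClosed.eq_map_mul_C_of_dvd ℚ hPm hdvd
  have hμm : (minpoly ℚ (EndAV.toEnd0 φ)).Monic := minpoly.monic
    ⟨P.map (Int.castRingHom ℚ), hPm.map _, by rw [← Polynomial.aeval_def, ← aeval_toEnd0, hP0, map_zero]⟩
  rw [hμm.leadingCoeff, Polynomial.C_1, _root_.mul_one] at hm
  refine ⟨m, Polynomial.monic_of_injective (RingHom.injective_int (Int.castRingHom ℚ)) (by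
    rw [show Polynomial.map (Int.castRingHom ℚ) m = minpoly ℚ (EndAV.toEnd0 φ) from hm]; exact hμm), hm, ?_⟩
  refine toEnd0_injective ?_
  rw [aeval_toEnd0, show Polynomial.map (Int.castRingHom ℚ) m = minpoly ℚ (EndAV.toEnd0 φ) from hm, minpoly.aeval, map_zero]

/-- The minimal polynomial on a Tate module. -/
theorem minpoly_tateRep (φ : EndAV.End A) (l : ℕ) [Fact l.Prime] (hl : (l : k) ≠ 0)
    [Module.Free ℤ_[l] (AbDual.TateMod A l (SGA7.pt Ω))] [Module.Finite ℤ_[l] (AbDual.TateMod A l (SGA7.pt Ω))]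
    {m : ℤ[X]} (hm : m.Monic) (hmμ : m.map (Int.castRingHom ℚ) = minpoly ℚ (EndAV.toEnd0 φ))
    (hm0 : Polynomial.aeval φ m = 0) :
    minpoly ℤ_[l] (EndAV.End.tateRep l (SGA7.pt Ω) φ) = m.map (Int.castRingHom ℤ_[l]) := by
  let T := EndAV.End.tateRep (A := A) l (SGA7.pt Ω)
  let d := m.natDegree
  have hd : d = (minpoly ℚ (EndAV.toEnd0 φ)).natDegree := by
    rw [← hmμ, Polynomial.natDegree_map_eq_of_injective (RingHom.injective_int _)]
  have hli : LinearIndependent ℤ fun i : Fin d => φ ^ (i : ℕ) := by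
    have h := linearIndependent_pow (K := ℚ) (EndAV.toEnd0 φ)
    rw [← hd] at h
    rw [Fintype.linearIndependent_iff]
    intro c hc i
    have h1 := congrArg (EndAV.toEnd0 (A := A)) hc
    rw [map_sum, map_zero] at h1
    have h2 : ∑ j : Fin d, (c j : ℚ) • EndAV.toEnd0 φ ^ (j : ℕ) = 0 := by
      refine Eq.trans (Finset.sum_congr rfl fun j _ => ?_) h1
      rw [map_zsmul, map_pow, Int.cast_smul_eq_zsmul]
    exact Int.cast_eq_zero.1 (Fintype.linearIndependent_iff.1 h _ h2 i)
  have hT := AVHomLattice.linearIndependent_tateMap (A := A) (B := A) Ω l hl hli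
  refine (minpoly.unique' ℤ_[l] _ (hm.map _) (by rw [← aeval_tateRep, hm0, map_zero]) fun q hq => ?_).symm
  by_cases hq0 : q = 0
  · exact Or.inl hq0
  refine Or.inr fun h0 => hq0 ?_
  have hqd : q.natDegree < d := by
    have := Polynomial.natDegree_lt_natDegree hq0 hq
    rwa [Polynomial.natDegree_map_eq_of_injective (RingHom.injective_int _)] at this
  ext i
  rw [Polynomial.coeff_zero]
  by_cases hi : i < d
  · refine Fintype.linearIndependent_iff.1 hT (fun j => q.coeff j) ?_ ⟨i, hi⟩
    rw [Polynomial.aeval_eq_sum_range' hqd, ← Fin.sum_univ_eq_sum_range (fun j => q.coeff j • (T φ) ^ j)] at h0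
    refine Eq.trans (Finset.sum_congr rfl fun j _ => ?_) h0
    show _ • T (φ ^ (j : ℕ)) = _
    rw [map_pow]
  · exact Polynomial.coeff_eq_zero_of_natDegree_lt (by omega)

end Groth.Agent.AVEnd0
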