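import Groth.Agent.Lib.AVWeilCount
import Groth.Prelude.Def_Frob

/-!
The geometric Frobenius of an abelian variety over a finite field exists and is a homomorphism.
-/

set_option autoImplicit false
set_option linter.style.haveILetI false
set_option linter.unusedSectionVars false
set_option backward.isDefEq.respectTransparency false
set_option backward.isDefEq.respectTransparency.types false
set_option maxHeartbeats 1000000

universe u

open CategoryTheory CategoryTheory.Limits MonoidalCategory CartesianMonoidalCategory MonObj AlgebraicGeometry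

noncomputable section

namespace Groth.Agent.AVFrobExists

variable (p : ℕ) [Fact p.Prime]

/-- The iterated absolute Frobenius. -/
def frobPow (X : Scheme.{u}) [FrobSch.IsCharP X p] : ℕ → (X ⟶ X)
  | 0 => 𝟙 X
  | n + 1 => frobPow X n ≫ FrobSch.frob X p

variable {X Y : Scheme.{u}} [FrobSch.IsCharP X p] [FrobSch.IsCharP Y p]

theorem frobPow_base (n : ℕ) : (frobPow p X n).base = 𝟙 _ := by
  induction n with
  | zero => rfl
  | succ n ih => rw [frobPow, Scheme.Hom.comp_base, ih, FrobSch.frob_base, Category.id_comp]

theorem frobPow_preimage (n : ℕ) (U : X.Opens) : frobPow p X n ⁻¹ᵁ U = U := by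
  ext x
  show (frobPow p X n).base x ∈ U ↔ x ∈ U
  rw [frobPow_base]; rfl

theorem frobPow_appLE (n : ℕ) (U V : X.Opens) (h : V ≤ frobPow p X n ⁻¹ᵁ U) (s : Γ(X, U)) :
    (frobPow p X n).appLE U V h s =
      X.presheaf.map (homOfLE (h.trans (frobPow_preimage p n U).le)).op s ^ p ^ n := by
  induction n generalizing U V with
  | zero =>
    rw [pow_zero, pow_one]
    simp [frobPow, Scheme.Hom.appLE]
  | succ n ih =>
    show (frobPow p X n ≫ FrobSch.frob X p).appLE U V h s = _
    rw [Scheme.Hom.comp_appLE, CommRingCat.comp_apply, FrobSch.frob_app, ih, map_pow, ← pow_mul, pow_succ']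
    rfl

theorem frobPow_comp (n : ℕ) (f : X ⟶ Y) : frobPow p X n ≫ f = f ≫ frobPow p Y n := by
  induction n with
  | zero => simp [frobPow]
  | succ n ih => rw [frobPow, frobPow, Category.assoc, FrobSch.frob_comp, ← Category.assoc, ih, Category.assoc]

/-- The `q`-power Frobenius of a scheme over a field with `q` elements is a morphism over the field. -/
theorem exists_frob {k : Type u} [Field k] [Finite k] (A : Over (Spec (CommRingCat.of k)))
    [GrpObj A] [IsProper A.hom] [GeometricallyIntegral A.hom] :
    ∃ (π : A ⟶ A) (_ : IsMonHom π) (hle : ∀ U : A.left.Opens, U ≤ π.left ⁻¹ᵁ U), π.left.base = 𝟙 _ ∧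
      ∀ (U : A.left.Opens) (s : Γ(A.left, U)), (π.left.appLE U U (hle U)).hom s = s ^ Nat.card k := by
  haveI : IsCommMonObj A := isCommMonObj_of_isProper_of_geometricallyIntegral A
  haveI := Fintype.ofFinite k
  obtain ⟨p, hp⟩ := CharP.exists k
  haveI := hp
  obtain ⟨n, hpp, hn⟩ := FiniteField.card k p
  haveI : Fact p.Prime := ⟨hpp⟩
  haveI : FrobSch.IsCharP A.left p := FrobSch.IsCharP.of_hom A.hom p
  have hk : frobPow p (Spec (CommRingCat.of k)) n = 𝟙 _ := by
    refine ext_of_isAffine ?_
    refine CommRingCat.hom_ext (RingHom.ext fun s => ?_)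
    let e := (Scheme.ΓSpecIso (CommRingCat.of k)).commRingCatIsoToRingEquiv
    show (frobPow p (Spec (CommRingCat.of k)) n).app ⊤ s = s
    rw [Scheme.Hom.app_eq_appLE, frobPow_appLE]
    refine (congrArg (fun g => g.hom s ^ p ^ (n : ℕ)) ((Spec (CommRingCat.of k)).presheaf.map_id _)).trans ?_
    show s ^ p ^ (n : ℕ) = s
    apply e.injective
    rw [map_pow, ← hn]
    exact FiniteField.pow_card (e s)
  let π : A ⟶ A := Over.homMk (frobPow p A.left n) (by rw [frobPow_comp, hk, Category.comp_id])
  have hη : η[A] ≫ π = η[A] := by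
    refine Over.OverMorphism.ext ?_
    haveI : FrobSch.IsCharP (𝟙_ (Over (Spec (CommRingCat.of k)))).left p :=
      inferInstanceAs (FrobSch.IsCharP (Spec (CommRingCat.of k)) p)
    show (η[A]).left ≫ frobPow p A.left n = _
    rw [← frobPow_comp]
    exact (congrArg (· ≫ (η[A]).left) hk).trans (Category.id_comp _)
  refine ⟨π, AVDegPoly.isMonHom_of_one π hη, fun U => (frobPow_preimage p n U).ge, frobPow_base p n, fun U s => ?_⟩
  show (frobPow p A.left n).appLE U U _ s = _
  rw [frobPow_appLE, Nat.card_eq_fintype_card, hn]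
  congr 1
  exact congrArg (fun g => g.hom s) (A.left.presheaf.map_id _)

end Groth.Agent.AVFrobExists
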