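import Mathlib.Analysis.Complex.Polynomial.Basic
import Mathlib.Analysis.Real.Sqrt
import Mathlib.LinearAlgebra.Lagrange
import Mathlib.LinearAlgebra.Matrix.ToLinearEquiv

/-!
Positive functionals on real polynomials: a nonnegative variable is a square modulo the minimal polynomial.
-/

set_option autoImplicit false
set_option linter.style.haveILetI false

open Polynomial

noncomputable section

namespace Groth.Agent.PosMoments

/-- The functional with given moments. -/
def moment (c : ℕ → ℤ) : ℝ[X] →ₗ[ℝ] ℝ := Polynomial.lsum fun n => (c n : ℝ) • (LinearMap.id : ℝ →ₗ[ℝ] ℝ)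

theorem moment_monomial (c : ℕ → ℤ) (n : ℕ) (a : ℝ) : moment c (monomial n a) = c n * a := by
  simp [moment, Polynomial.lsum_apply, Polynomial.sum_monomial_index]

/-- An additive map is recovered from the moments. -/
theorem moment_map {R : Type*} [Ring R] [Algebra ℤ R] (b : R) (τ : R →+ ℤ) (f : ℤ[X]) :
    moment (fun n => τ (b ^ n)) (f.map (Int.castRingHom ℝ)) = (τ (Polynomial.aeval b f) : ℝ) := by
  induction f using Polynomial.induction_on' with
  | add p q hp hq => simp [Polynomial.map_add, hp, hq]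
  | monomial n a =>
    rw [Polynomial.map_monomial, moment_monomial, Polynomial.aeval_monomial, eq_intCast (Int.castRingHom ℝ),
      eq_intCast (algebraMap ℤ R), show (a : R) * b ^ n = a • b ^ n from (zsmul_eq_mul _ _).symm, map_zsmul, smul_eq_mul]
    push_cast
    ring

/-- The Gram matrix of `w ↦ Λ (g w²)` on polynomials of degree below `N`. -/
def gram (Λ : ℝ[X] →ₗ[ℝ] ℝ) (g : ℝ[X]) (N : ℕ) : Matrix (Fin N) (Fin N) ℝ :=
  fun i j => Λ (g * (X ^ (i : ℕ) * X ^ (j : ℕ)))

/-- The polynomial with given coefficients. -/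
def poly {N : ℕ} (v : Fin N → ℝ) : ℝ[X] := ∑ i, C (v i) * X ^ (i : ℕ)

theorem poly_coeff {N : ℕ} (f : ℝ[X]) (hf : f.natDegree < N) : poly (fun i : Fin N => f.coeff i) = f := by
  rw [poly, Fin.sum_univ_eq_sum_range (fun i => C (f.coeff i) * X ^ i)]
  exact (f.as_sum_range_C_mul_X_pow' hf).symm

theorem apply_poly (Λ : ℝ[X] →ₗ[ℝ] ℝ) (g : ℝ[X]) {N : ℕ} (v w : Fin N → ℝ) :
    Λ (g * (poly v * poly w)) = ∑ i, ∑ j, v i * w j * gram Λ g N i j := by
  simp only [poly, Finset.sum_mul, Finset.mul_sum, map_sum]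
  rw [Finset.sum_comm]
  refine Finset.sum_congr rfl fun i _ => Finset.sum_congr rfl fun j _ => ?_
  rw [show g * (C (v i) * X ^ (i : ℕ) * (C (w j) * X ^ (j : ℕ))) = (v i * w j) • (g * (X ^ (i : ℕ) * X ^ (j : ℕ))) by
    rw [Polynomial.smul_eq_C_mul, C_mul]; ring, map_smul, smul_eq_mul, gram]

theorem poly_cast {N : ℕ} (z : Fin N → ℤ) :
    poly (fun i => (z i : ℝ)) = (∑ i, C (z i) * X ^ (i : ℕ) : ℤ[X]).map (Int.castRingHom ℝ) := by
  simp [poly, Polynomial.map_sum]

/-- Nonnegativity on integral polynomials extends to real ones. -/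
theorem nonneg_of_int (Λ : ℝ[X] →ₗ[ℝ] ℝ) (g : ℝ[X])
    (h : ∀ f : ℤ[X], 0 ≤ Λ (g * (f.map (Int.castRingHom ℝ) * f.map (Int.castRingHom ℝ)))) (f : ℝ[X]) :
    0 ≤ Λ (g * (f * f)) := by
  let N := f.natDegree + 1
  rw [← poly_coeff (N := N) f (Nat.lt_succ_self _)]
  let Q : (Fin N → ℝ) → ℝ := fun v => ∑ i, ∑ j, v i * v j * gram Λ g N i j
  suffices H : ∀ v, 0 ≤ Q v by rw [apply_poly]; exact H _
  have hcont : Continuous Q := by fun_prop
  intro v
  have hdense : Dense (Set.range fun (q : Fin N → ℚ) i => (q i : ℝ)) :=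
    (DenseRange.piMap fun _ => Rat.denseRange_cast)
  refine le_of_not_gt fun hneg => ?_
  obtain ⟨_, hw, q, rfl⟩ := hdense.inter_open_nonempty _ (isOpen_lt hcont continuous_const) ⟨v, hneg⟩
  have hw' : Q (fun i => (q i : ℝ)) < 0 := hw
  let D : ℕ := ∏ i, (q i).den
  have hD : (0 : ℝ) < D := Nat.cast_pos.2 (Finset.prod_pos fun i _ => (q i).den_pos)
  have hz : ∀ i, ∃ z : ℤ, (z : ℝ) = (D : ℝ) * (q i : ℝ) := fun i => by
    obtain ⟨e, he⟩ := Finset.dvd_prod_of_mem (fun i => (q i).den) (Finset.mem_univ i)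
    refine ⟨(q i).num * e, ?_⟩
    rw [show (D : ℝ) = ((q i).den : ℝ) * (e : ℝ) by rw [← Nat.cast_mul]; exact congrArg Nat.cast he,
      Rat.cast_def]
    have : ((q i).den : ℝ) ≠ 0 := Nat.cast_ne_zero.2 (q i).den_pos.ne'
    push_cast
    field_simp
  choose z hz using hz
  have h1 := h (∑ i, C (z i) * X ^ (i : ℕ))
  rw [← poly_cast, apply_poly] at h1
  have h2 : (∑ i, ∑ j, (z i : ℝ) * (z j : ℝ) * gram Λ g N i j) = (D : ℝ) ^ 2 * Q (fun i => (q i : ℝ)) := by
    simp only [Q, Finset.mul_sum, hz]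
    exact Finset.sum_congr rfl fun i _ => Finset.sum_congr rfl fun j _ => by ring
  rw [h2] at h1
  exact absurd (pos_of_mul_pos_right (mul_pos (pow_pos hD 2) (neg_pos.2 hw')) (sq_nonneg _)) (by nlinarith [pow_pos hD 2])

/-- A nonnegative quadratic form vanishes on its null vectors. -/
theorem eq_zero_of_null (Λ : ℝ[X] →ₗ[ℝ] ℝ) (g : ℝ[X]) (h : ∀ f, 0 ≤ Λ (g * (f * f))) {u : ℝ[X]}
    (hu : Λ (g * (u * u)) = 0) (w : ℝ[X]) : Λ (g * (u * w)) = 0 := by
  by_contra hne
  set a := Λ (g * (u * w)) with ha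
  set b := Λ (g * (w * w)) with hb
  have key : ∀ t : ℝ, 0 ≤ b + 2 * t * a := fun t => by
    have h1 := h (w + C t * u)
    have e : g * ((w + C t * u) * (w + C t * u)) = g * (w * w) + (2 * t) • (g * (u * w)) + (t * t) • (g * (u * u)) := by
      rw [Polynomial.smul_eq_C_mul, Polynomial.smul_eq_C_mul, C_mul, C_mul, show (C (2 : ℝ)) = 2 from map_ofNat C 2]
      ring
    rwa [e, map_add, map_add, map_smul, map_smul, hu, smul_zero, add_zero, smul_eq_mul] at h1
  have := key (-(b + 1) / (2 * a))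
  field_simp at this
  have h2 : (2 : ℝ) * (-(b + 1) / (2 * a)) * a = -(b + 1) := by field_simp
  have := key (-(b + 1) / (2 * a))
  linarith

variable {m : ℤ[X]} (hm : m.Monic) (Λ : ℝ[X] →ₗ[ℝ] ℝ)
  (hI : ∀ w, Λ (m.map (Int.castRingHom ℝ) * w) = 0)
  (hint : ∀ f : ℤ[X], ∃ n : ℤ, Λ (f.map (Int.castRingHom ℝ)) = (n : ℝ))
  (hpos : ∀ f : ℤ[X], f ≠ 0 → f.natDegree < m.natDegree →
    0 < Λ (f.map (Int.castRingHom ℝ) * f.map (Int.castRingHom ℝ)))

include hm hI hint hpos

theorem nonneg (f : ℝ[X]) : 0 ≤ Λ (f * f) := by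
  have h := nonneg_of_int Λ 1 (fun f => ?_) f
  · rwa [one_mul] at h
  rw [one_mul]
  have e : f %ₘ m + m * (f /ₘ m) = f := Polynomial.modByMonic_add_div f m
  rw [← e]
  simp only [Polynomial.map_add, Polynomial.map_mul]
  set r := (f %ₘ m).map (Int.castRingHom ℝ)
  set q := (f /ₘ m).map (Int.castRingHom ℝ)
  set μ := m.map (Int.castRingHom ℝ)
  rw [show (r + μ * q) * (r + μ * q) = r * r + μ * (2 * r * q + μ * q * q) by ring, map_add, hI, add_zero]
  by_cases hr : f %ₘ m = 0
  · simp [r, hr]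
  · exact (hpos _ hr (Polynomial.natDegree_lt_natDegree hr (Polynomial.degree_modByMonic_lt f hm))).le

theorem posDef {f : ℝ[X]} (hf : f ≠ 0) (hd : f.natDegree < m.natDegree) : 0 < Λ (f * f) := by
  classical
  refine (nonneg hm Λ hI hint hpos f).lt_of_ne fun h0 => ?_
  let d := m.natDegree
  let v : Fin d → ℝ := fun i => f.coeff i
  have hv : v ≠ 0 := fun hv => hf (by rw [← poly_coeff (N := d) f hd, show (fun i : Fin d => f.coeff i) = 0 from hv]; simp [poly])
  have hker : Matrix.mulVec (gram Λ 1 d) v = 0 := by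
    funext i
    have h1 := eq_zero_of_null Λ 1 (fun u => by rw [one_mul]; exact nonneg hm Λ hI hint hpos u)
      (show Λ (1 * (f * f)) = 0 by rw [one_mul]; exact h0.symm) (X ^ (i : ℕ))
    rw [← poly_coeff (N := d) f hd] at h1
    simp only [poly, Finset.sum_mul, Finset.mul_sum, map_sum] at h1
    rw [Pi.zero_apply, ← h1, Matrix.mulVec, dotProduct]
    refine Finset.sum_congr rfl fun j _ => ?_
    rw [gram, show (1 : ℝ[X]) * (C (f.coeff ↑j) * X ^ (j : ℕ) * X ^ (i : ℕ)) = f.coeff j • (1 * (X ^ (i : ℕ) * X ^ (j : ℕ))) by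
      rw [Polynomial.smul_eq_C_mul]; ring, map_smul, smul_eq_mul, mul_comm]
  choose G hG using fun p : Fin d × Fin d => hint (X ^ (p.1 : ℕ) * X ^ (p.2 : ℕ))
  let GM : Matrix (Fin d) (Fin d) ℤ := fun i j => G (i, j)
  have hGM : gram Λ 1 d = GM.map (Int.castRingHom ℝ) := by
    ext i j
    have := hG (i, j)
    simp only [Polynomial.map_mul, Polynomial.map_pow, Polynomial.map_X] at this
    show Λ (1 * _) = ((G (i, j) : ℤ) : ℝ)
    rw [one_mul]
    exact this
  have hdet : GM.det = 0 := by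
    have h1 := Matrix.exists_mulVec_eq_zero_iff.1 ⟨v, hv, hker⟩
    rw [hGM, ← RingHom.mapMatrix_apply, ← RingHom.map_det] at h1
    exact (Int.castRingHom ℝ).injective_int (h1.trans (map_zero _).symm)
  obtain ⟨z, hz0, hz⟩ := Matrix.exists_mulVec_eq_zero_iff.2 hdet
  let F : ℤ[X] := ∑ i, C (z i) * X ^ (i : ℕ)
  have hFc : ∀ i : Fin d, F.coeff i = z i := fun i => by
    rw [show F.coeff i = ∑ j : Fin d, (C (z j) * X ^ (j : ℕ)).coeff i from Polynomial.finsetSum_coeff _ _ _,
      Finset.sum_eq_single i]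
    · simp
    · intro j _ hj
      rw [coeff_C_mul_X_pow, if_neg fun h => hj (Fin.ext h.symm)]
    · simp
  have hF : F ≠ 0 := fun hF => hz0 (funext fun i => by rw [← hFc i, hF]; simp)
  have hFd : F.natDegree < d := by
    refine lt_of_le_of_lt (natDegree_sum_le_of_forall_le _ _ (n := d - 1) fun i _ => ?_) (by omega)
    exact (natDegree_C_mul_X_pow_le _ _).trans (by omega)
  have h2 := hpos F hF hFd
  rw [← poly_cast z, ← one_mul (poly (fun i => (z i : ℝ)) * poly fun i => (z i : ℝ)), apply_poly] at h2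
  refine h2.ne' ?_
  refine Finset.sum_eq_zero fun i _ => ?_
  have h3 := congrFun hz i
  simp only [Matrix.mulVec, dotProduct, Pi.zero_apply] at h3
  have h4 : ∑ j, (GM i j : ℝ) * (z j : ℝ) = 0 := by exact_mod_cast h3
  rw [hGM]
  rw [Finset.sum_congr rfl fun j _ => show (z i : ℝ) * (z j : ℝ) * (GM.map (Int.castRingHom ℝ)) i j =
    (z i : ℝ) * ((GM i j : ℝ) * (z j : ℝ)) by simp; ring, ← Finset.mul_sum, h4, mul_zero]

/-- A nonnegative variable is a square. -/
theorem exists_sqrt (hX : ∀ f : ℤ[X], 0 ≤ Λ (X * (f.map (Int.castRingHom ℝ) * f.map (Int.castRingHom ℝ)))) :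
    ∃ p : ℝ[X], m.map (Int.castRingHom ℝ) ∣ p * p - X := by
  classical
  set μ := m.map (Int.castRingHom ℝ) with hμ
  have hμm : μ.Monic := hm.map _
  have hμd : μ.natDegree = m.natDegree := Polynomial.natDegree_map_eq_of_injective (RingHom.injective_int _) m
  have hsmall : ∀ z q : ℝ[X], μ = q * z → 0 < q.natDegree → z ≠ 0 → 0 < Λ (z * z) := fun z q h hq hz => by
    refine posDef hm Λ hI hint hpos hz ?_
    rw [← hμd, h, natDegree_mul (fun h0 => by simp [h0] at hq) hz]
    omega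
  have hnn := nonneg hm Λ hI hint hpos
  have hsplit : μ.Splits := by
    rw [Polynomial.splits_iff_splits]
    refine Or.inr fun {g} hg hgμ => ?_
    by_contra hne
    have h2 : g.natDegree = 2 := by
      have h1 := hg.natDegree_le_two
      have h0 := Polynomial.natDegree_pos_iff_degree_pos.2 (Polynomial.degree_pos_of_irreducible hg)
      have : g.natDegree ≠ 1 := fun h => hne ((Polynomial.degree_eq_iff_natDegree_eq_of_pos one_pos).2 h)
      omega
    let g' := g * C g.leadingCoeff⁻¹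
    have hg'm : g'.Monic := Polynomial.monic_mul_leadingCoeff_inv hg.ne_zero
    have hg' : Irreducible g' := (associated_mul_unit_right g (C g.leadingCoeff⁻¹)
      (isUnit_C.2 (isUnit_iff_ne_zero.2 (inv_ne_zero (leadingCoeff_ne_zero.2 hg.ne_zero))))).irreducible hg
    have hg'd : g'.natDegree = 2 := by
      rw [natDegree_mul_C (inv_ne_zero (leadingCoeff_ne_zero.2 hg.ne_zero)), h2]
    set a := -(g'.coeff 1) / 2 with ha
    set b := g'.coeff 0 - a ^ 2 with hb
    have hform : g' = (X - C a) * (X - C a) + C b := by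
      conv_lhs => rw [g'.as_sum_range_C_mul_X_pow, hg'd]
      have hlc : g'.coeff 2 = 1 := by rw [← hg'd]; exact hg'm
      rw [Finset.sum_range_succ, Finset.sum_range_succ, Finset.sum_range_one, hlc,
        show g'.coeff 1 = -2 * a by rw [ha]; ring, show g'.coeff 0 = b + a ^ 2 by rw [hb]; ring]
      simp only [C_add, C_mul, C_pow, C_neg, map_ofNat, C_1, pow_zero, pow_one]
      ring
    have hbpos : 0 < b := by
      by_contra hb0
      push Not at hb0
      have hroot : g'.IsRoot (a + Real.sqrt (-b)) := by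
        rw [hform, Polynomial.IsRoot]
        simp [Real.mul_self_sqrt (neg_nonneg.2 hb0)]
      have hd1 := Polynomial.degree_eq_one_of_irreducible_of_root hg' hroot
      have h5 : g'.natDegree = 1 := Polynomial.natDegree_eq_of_degree_eq_some (n := 1) (by rw [hd1]; rfl)
      omega
    obtain ⟨z, hz⟩ : g' ∣ μ := (associated_mul_unit_right g (C g.leadingCoeff⁻¹)
      (isUnit_C.2 (isUnit_iff_ne_zero.2 (inv_ne_zero (leadingCoeff_ne_zero.2 hg.ne_zero))))).symm.dvd.trans hgμ
    have hz0 : z ≠ 0 := fun h => hμm.ne_zero (by rw [hz, h, mul_zero])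
    have h1 := hI z
    rw [show μ * z = ((X - C a) * z) * ((X - C a) * z) + b • (z * z) by
      rw [hz, hform, Polynomial.smul_eq_C_mul]; ring, map_add, map_smul, smul_eq_mul] at h1
    have h3 := mul_pos hbpos (hsmall z g' hz (by omega) hz0)
    have h4 := hnn ((X - C a) * z)
    linarith
  have hprod : μ = (μ.roots.map fun a => X - C a).prod := hsplit.eq_prod_roots_of_monic hμm
  have hnd : μ.roots.Nodup := by
    rw [Multiset.nodup_iff_count_le_one]
    intro a
    by_contra hcount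
    rw [count_roots] at hcount
    obtain ⟨w, hw⟩ := (Polynomial.le_rootMultiplicity_iff hμm.ne_zero).1 (show 2 ≤ μ.rootMultiplicity a by omega)
    have hw0 : w ≠ 0 := fun h => hμm.ne_zero (by rw [hw, h, mul_zero])
    have h1 := hsmall ((X - C a) * w) (X - C a) (by rw [hw]; ring) (by rw [natDegree_X_sub_C]; exact one_pos)
      (mul_ne_zero (X_sub_C_ne_zero a) hw0)
    rw [show (X - C a) * w * ((X - C a) * w) = μ * w by rw [hw]; ring, hI] at h1
    exact lt_irrefl _ h1
  have hroot : ∀ a ∈ μ.roots, 0 ≤ a := by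
    intro a ha
    by_contra hneg
    obtain ⟨z, hz⟩ := dvd_iff_isRoot.2 ((mem_roots hμm.ne_zero).1 ha)
    have hz0 : z ≠ 0 := fun h => hμm.ne_zero (by rw [hz, h, mul_zero])
    have h1 := nonneg_of_int Λ X hX z
    rw [show X * (z * z) = μ * z + a • (z * z) by rw [hz, Polynomial.smul_eq_C_mul]; ring, map_add, map_smul, hI,
      zero_add, smul_eq_mul] at h1
    exact absurd h1 (not_le.2 (mul_neg_of_neg_of_pos (not_le.1 hneg)
      (hsmall z (X - C a) hz (by rw [natDegree_X_sub_C]; exact one_pos) hz0)))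
  let S := μ.roots.toFinset
  refine ⟨Lagrange.interpolate S id Real.sqrt, ?_⟩
  have hμS : μ = ∏ a ∈ S, (X - C a) := by
    conv_lhs => rw [hprod]
    rw [Finset.prod_eq_multiset_prod, Multiset.toFinset_val, Multiset.dedup_eq_self.2 hnd]
  rw [hμS]
  refine Finset.prod_dvd_of_coprime ?_ fun a ha => ?_
  · intro a _ b _ hab
    exact isCoprime_X_sub_C_of_isUnit_sub (sub_ne_zero.2 hab).isUnit
  · rw [dvd_iff_isRoot, IsRoot, eval_sub, eval_mul, eval_X,
      show eval a (Lagrange.interpolate S id Real.sqrt) = Real.sqrt a from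
        Lagrange.eval_interpolate_at_node Real.sqrt Function.injective_id.injOn ha,
      Real.mul_self_sqrt (hroot a (Multiset.mem_toFinset.1 ha)), sub_self]

/-- The nonnegative functional and its vanishing. -/
theorem apply_X (Λ' : ℝ[X] →ₗ[ℝ] ℝ) (hI' : ∀ w, Λ' (m.map (Int.castRingHom ℝ) * w) = 0)
    (hX : ∀ f : ℤ[X], 0 ≤ Λ (X * (f.map (Int.castRingHom ℝ) * f.map (Int.castRingHom ℝ))))
    (h' : ∀ f : ℤ[X], 0 ≤ Λ' (f.map (Int.castRingHom ℝ) * f.map (Int.castRingHom ℝ))) :
    0 ≤ Λ' X ∧ (Λ' X = 0 → Λ' (X * X) = 0) := by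
  obtain ⟨p, w, hw⟩ := exists_sqrt hm Λ hI hint hpos hX
  have hnn : ∀ f, 0 ≤ Λ' (1 * (f * f)) := nonneg_of_int Λ' 1 fun f => by rw [one_mul]; exact h' f
  have e : Λ' X = Λ' (1 * (p * p)) := by
    rw [one_mul, show p * p = m.map (Int.castRingHom ℝ) * w + X by rw [← hw]; ring, map_add, hI', zero_add]
  refine ⟨e ▸ hnn p, fun h0 => ?_⟩
  have h1 := eq_zero_of_null Λ' 1 hnn (e.symm.trans h0) (p * X)
  rw [one_mul, show p * (p * X) = m.map (Int.castRingHom ℝ) * (w * X) + X * X by
    rw [show p * (p * X) = (p * p - X) * X + X * X by ring, hw]; ring, map_add, hI', zero_add] at h1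
  exact h1

end Groth.Agent.PosMoments
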