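import Groth.Agent.Lib.AVRosati
import Groth.Agent.Lib.AVEnd0
import Groth.Agent.Lib.PosMoments
import Mathlib.LinearAlgebra.Charpoly.ToMatrix
import Mathlib.LinearAlgebra.Matrix.Charpoly.Basic

/-!
The trace functional on endomorphisms and its positivity on symmetric positive endomorphisms.
-/

set_option autoImplicit false
set_option linter.style.haveILetI false
set_option linter.unusedSectionVars false
set_option backward.isDefEq.respectTransparency false
set_option backward.isDefEq.respectTransparency.types false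
set_option maxHeartbeats 1000000
set_option synthInstance.maxHeartbeats 400000

universe u

open CategoryTheory CategoryTheory.Limits MonoidalCategory CartesianMonoidalCategory MonObj AlgebraicGeometry TopologicalSpace
open Groth.Agent.H23

noncomputable section

namespace Groth.Agent.AVRosati

attribute [local instance] PicMul.clMonoid

variable {k : Type u} [Field k]

local instance overLeft' (T : Over (Spec (CommRingCat.of k))) : T.left.Over (Spec (CommRingCat.of k)) := ⟨T.hom⟩

local instance isProper_overLeft' (T : Over (Spec (CommRingCat.of k))) [IsProper T.hom] :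
    IsProper (T.left ↘ Spec (CommRingCat.of k)) := ‹IsProper T.hom›

variable {A : Over (Spec (CommRingCat.of k))} [GrpObj A] [IsCommMonObj A] [IsProper A.hom] [GeometricallyIntegral A.hom]
  {L : A.left.Modules} (hL : CohB1.IsAmple L) {r : ℕ}

/-- The pairing of the symmetrised module. -/
abbrev P' {T : Over (Spec (CommRingCat.of k))} (f g : T ⟶ A) : TopInt.inv T.left :=
  AVDegPoly.polar (AVTrace.isInvertible_symm hL.1) f g

/-- The intersection number against the symmetrised module. -/
def cons' (r : ℕ) (c : TopInt.inv A.left) : ℤ :=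
  TopInt.form k (r + 1) (Fin.cons c fun _ => TopInt.mk (AVTrace.isAmple_symm hL).1)

variable (hr : topologicalKrullDim A.left = (r + 1 : ℕ))

include hr in
theorem cons'_mul (a b : TopInt.inv A.left) : cons' hL r (a * b) = cons' hL r a + cons' hL r b :=
  TopInt.form_cons_mul k hr.le a b _

include hr in
theorem cons'_pow (a : TopInt.inv A.left) (n : ℕ) : cons' hL r (a ^ n) = n * cons' hL r a :=
  TopInt.form_cons_pow k hr.le a n _

/-- The trace functional. -/
def tau : EndAV.End A →+ ℤ :=
  AddMonoidHom.mk' (fun u => cons' hL r (P' hL u.toHom (𝟙 A))) fun u v => by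
    rw [EndAV.End.toHom_add, P', AVDegPoly.polar_mul_left, cons'_mul hL hr]

theorem tau_apply (u : EndAV.End A) : tau hL hr u = cons' hL r (P' hL u.toHom (𝟙 A)) := rfl

include hr in
theorem pos_self (u : EndAV.End A) (hu : u ≠ 0) : 0 < cons' hL r (P' hL u.toHom u.toHom) := by
  rw [P', AVDegPoly.polar_self _ (AVTrace.symmetric_symm L), cons'_mul hL hr]
  have := AVHomForm.form_pos_of_ne_one (AVTrace.isAmple_symm hL) (AVTrace.isAmple_symm hL) hr u.toHom
    fun h => hu (EndAV.End.ext h)
  exact add_pos this this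

variable [IsAlgClosed k]

/-- The trace functional is central. -/
theorem tau_comm (u v : EndAV.End A) : tau hL hr (u * v) = tau hL hr (v * u) := by
  classical
  haveI : IsIntegral A.left := GeometricallyIntegral.isIntegral_of_subsingleton A.hom
  obtain ⟨l, hlp, hl⟩ := AVHomLattice.exists_prime k
  haveI := Fact.mk hlp
  obtain ⟨e⟩ := AVTors.exists_linearEquiv_pt k A hr l hl
  haveI : Module.Free ℤ_[l] (AbDual.TateMod A l (SGA7.pt (K := k) k)) := Module.Free.of_equiv e
  haveI : Module.Finite ℤ_[l] (AbDual.TateMod A l (SGA7.pt (K := k) k)) := Module.Finite.equiv e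
  obtain ⟨P, hPm, hPd, hPv, hT⟩ := AVTateBC.exists_charpoly k A hr (u * v)
  obtain ⟨Q, hQm, hQd, hQv, hT'⟩ := AVTateBC.exists_charpoly k A hr (v * u)
  have hPQ : P = Q := by
    refine Polynomial.map_injective _ (RingHom.injective_int (Int.castRingHom ℤ_[l])) ?_
    rw [← hT l hl, ← hT' l hl, map_mul, map_mul]
    let b := Module.Free.chooseBasis ℤ_[l] (AbDual.TateMod A l (SGA7.pt (K := k) k))
    rw [← LinearMap.charpoly_toMatrix _ b, ← LinearMap.charpoly_toMatrix _ b, LinearMap.toMatrix_mul,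
      LinearMap.toMatrix_mul, Matrix.charpoly_mul_comm]
  subst hPQ
  have hR : ∀ (x : EndAV.End A), (∀ n : ℤ, (AVNu.nu (EndAV.End.toHom (x - (n : EndAV.End A))) : ℤ) = P.eval n) →
      ((P.map (Int.castRingHom ℚ)).comp (-Polynomial.X)).Monic ∧
      ((P.map (Int.castRingHom ℚ)).comp (-Polynomial.X)).natDegree = 2 * (r + 1) ∧
      ∀ j : ℤ, (IsFinite (EndAV.End.toHom (x + (j : EndAV.End A))).left →
          ∀ a : A.left, (Scheme.Hom.finrank (EndAV.End.toHom (x + (j : EndAV.End A))).left a : ℚ) =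
            ((P.map (Int.castRingHom ℚ)).comp (-Polynomial.X)).eval (j : ℚ)) ∧
        (¬ IsFinite (EndAV.End.toHom (x + (j : EndAV.End A))).left →
          ((P.map (Int.castRingHom ℚ)).comp (-Polynomial.X)).eval (j : ℚ) = 0) := by
    intro x hx
    have hev : ∀ j : ℤ, ((P.map (Int.castRingHom ℚ)).comp (-Polynomial.X)).eval (j : ℚ) =
        (AVNu.nu (EndAV.End.toHom (x + (j : EndAV.End A))) : ℚ) := fun j => by
      rw [Polynomial.eval_comp, Polynomial.eval_neg, Polynomial.eval_X, show (-(j : ℚ)) = ((-j : ℤ) : ℚ) by simp,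
        Polynomial.eval_map, ← eq_intCast (Int.castRingHom ℚ) (-j), Polynomial.eval₂_at_apply, ← hx (-j),
        Int.cast_neg, sub_neg_eq_add]
      simp
    refine ⟨?_, ?_, fun j => ⟨fun hfin a => ?_, fun hnf => ?_⟩⟩
    · rw [Polynomial.Monic, Polynomial.leadingCoeff_comp (by simp), (hPm.map _).leadingCoeff, Polynomial.natDegree_map_eq_of_injective (RingHom.injective_int _), hPd]
      simp [pow_mul]
    · rw [Polynomial.natDegree_comp, Polynomial.natDegree_map_eq_of_injective (RingHom.injective_int _), hPd,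
        Polynomial.natDegree_neg, Polynomial.natDegree_X, _root_.mul_one]
    · rw [hev, AVNu.finrank_eq_nu hr hr _ hfin]
    · rw [hev, AVNu.nu_eq_zero hr hr _ hnf, Nat.cast_zero]
  have h1 := AVTrace.trace_eq hr (AVTrace.isAmple_symm hL) (AVTrace.symmetric_symm L) (u * v) _ (hR _ hPv)
  have h2 := AVTrace.trace_eq hr (AVTrace.isAmple_symm hL) (AVTrace.symmetric_symm L) (v * u) _ (hR _ hQv)
  have h3 := mul_left_cancel₀ (Nat.cast_ne_zero.2 (Nat.succ_ne_zero r)) (h1.symm.trans h2)
  exact Int.cast_injective (α := ℚ) h3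

/-- Symmetric for the involution. -/
def IsSym (u : EndAV.End A) : Prop :=
  ∀ (T : Over (Spec (CommRingCat.of k))) (f g : T ⟶ A), P' hL (f ≫ u.toHom) g = P' hL f (g ≫ u.toHom)

theorem isSym_of_rel (u : EndAV.End A)
    (h : ∀ x : (𝟙_ (Over (Spec (CommRingCat.of k))) ⟶ A), Nonempty (CohB1.tensorMod ((Scheme.Modules.pullback ((𝟙 A * (toUnit A ≫ x ≫ EndAV.End.toHom u))).left).obj L) ((Scheme.Modules.pullback (EndAV.End.toHom u).left).obj L) ≅ CohB1.tensorMod L ((Scheme.Modules.pullback (EndAV.End.toHom u).left).obj ((Scheme.Modules.pullback ((𝟙 A * (toUnit A ≫ x))).left).obj L)))) :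
    IsSym hL u := by
  intro T f g
  have h1 := universal_transpose hL.1 u u 1 (fun x => by
    refine (PicMul.cl_eq_iff).1 ?_
    have e := PicMul.cl_eq_iff.2 (h x)
    rw [PicMul.cl_tensor, PicMul.cl_tensor] at e ⊢
    have e1 : PicF.cl (CohB1.tensorPow L 1) = PicF.cl L := by rw [PicMul.cl_tensorPow, pow_one]
    show _ * PicF.pullCl _ (PicF.cl (CohB1.tensorPow L 1)) = _ * PicF.pullCl _ (PicF.pullCl _ (PicF.cl (CohB1.tensorPow L 1)))
    rw [e1]
    exact e) f g
  rw [pow_one] at h1
  rw [P', P', AVTrace.polar_symm hL.1, AVTrace.polar_symm hL.1, h1]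

theorem isSym_aeval {u : EndAV.End A} (hu : IsSym hL u) (F : Polynomial ℤ) : IsSym hL (Polynomial.aeval u F) := by
  have hpow : ∀ n : ℕ, IsSym hL (u ^ n) := by
    intro n
    induction n with
    | zero => intro T f g; rw [pow_zero, EndAV.End.toHom_one, Category.comp_id, Category.comp_id]
    | succ n ih =>
      intro T f g
      rw [EndAV.End.toHom_pow_succ, ← Category.assoc, hu T (f ≫ (u ^ n).toHom) g, ih T f (g ≫ u.toHom)]
      have hc : (u ^ n).toHom ≫ u.toHom = u.toHom ≫ (u ^ n).toHom := by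
        rw [← EndAV.End.toHom_mul, ← EndAV.End.toHom_mul, ← pow_succ, ← pow_succ']
      rw [hc, Category.assoc]
  intro T f g
  induction F using Polynomial.induction_on' with
  | add p q hp hq =>
    rw [map_add, EndAV.End.toHom_add, MonObj.comp_mul, MonObj.comp_mul, P', P', AVDegPoly.polar_mul_left,
      AVDegPoly.polar_mul_right]
    exact congrArg₂ (· * ·) hp hq
  | monomial n a =>
    rw [Polynomial.aeval_monomial, show algebraMap ℤ (EndAV.End A) a * u ^ n = a • u ^ n from (Algebra.smul_def a _).symm,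
      EndAV.End.toHom_zsmul, GrpObj.comp_zpow, GrpObj.comp_zpow]
    have h := congrArg Additive.ofMul (hpow n T f g)
    have e := fun (x y : T ⟶ A) => AVDegPoly.polarHom_apply (AVTrace.isInvertible_symm hL.1) (Additive.ofMul x) (Additive.ofMul y)
    apply Additive.ofMul.injective
    show AVDegPoly.polarHom (AVTrace.isInvertible_symm hL.1) (a • Additive.ofMul (f ≫ (u ^ n).toHom)) (Additive.ofMul g) =
      AVDegPoly.polarHom (AVTrace.isInvertible_symm hL.1) (Additive.ofMul f) (a • Additive.ofMul (g ≫ (u ^ n).toHom))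
    rw [map_zsmul, map_zsmul, AddMonoidHom.smul_apply, e, e]
    exact congrArg (a • ·) h

theorem tau_sq {z : EndAV.End A} (hz : IsSym hL z) : tau hL hr (z * z) = cons' hL r (P' hL z.toHom z.toHom) := by
  rw [tau_apply, EndAV.End.toHom_mul, hz A z.toHom (𝟙 A), Category.id_comp]

include hr in
/-- Translations do not change the intersection numbers. -/
theorem cons'_translate {M : A.left.Modules} (hM : PicF.IsInvertible M) (x : A ⟶ A)
    (a : 𝟙_ (Over (Spec (CommRingCat.of k))) ⟶ A) :
    cons' hL r (AVDegPoly.q hM (x * (toUnit A ≫ a))) = cons' hL r (AVDegPoly.q hM x) := by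
  let φ : (𝟙_ (Over (Spec (CommRingCat.of k))) ⟶ A) → ℤ := fun b => cons' hL r (AVDegPoly.polar hM x (toUnit A ≫ b))
  let φ' : Additive (𝟙_ (Over (Spec (CommRingCat.of k))) ⟶ A) →+ ℤ :=
    AddMonoidHom.mk' (fun b => φ b.toMul) fun b c => by
      show φ (b.toMul * c.toMul) = _
      simp only [φ, MonObj.comp_mul, AVDegPoly.polar_mul_right, cons'_mul hL hr]
  have hφ : φ a = 0 := by
    by_contra hne
    obtain ⟨N, hN⟩ : ∃ N : ℕ, N = 2 * (φ a).natAbs := ⟨_, rfl⟩
    have hN0 : 0 < N := by
      have := Int.natAbs_pos.2 hne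
      omega
    obtain ⟨b, hb⟩ := AVTors.exists_root (A := A) N hN0 a
    have h1 : φ' (Additive.ofMul a) = (N : ℤ) * φ' (Additive.ofMul b) := by
      rw [← hb, ofMul_pow, map_nsmul, nsmul_eq_mul]
    have h2 : ((N : ℕ) : ℤ) ∣ φ a := ⟨_, h1⟩
    have h3 := Int.natAbs_dvd_natAbs.2 h2
    rw [Int.natAbs_natCast] at h3
    have := Nat.le_of_dvd (Int.natAbs_pos.2 hne) h3
    have := Int.natAbs_pos.2 hne
    omega
  have e : AVDegPoly.q hM (toUnit A ≫ a) = 1 := Subtype.ext (AVCube.pc_const hM a)
  have h : AVDegPoly.q hM (x * (toUnit A ≫ a)) = AVDegPoly.polar hM x (toUnit A ≫ a) * AVDegPoly.q hM x := by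
    rw [AVDegPoly.polar, e, _root_.mul_one, div_mul_cancel]
  rw [h, cons'_mul hL hr, show cons' hL r (AVDegPoly.polar hM x (toUnit A ≫ a)) = φ a from rfl, hφ, zero_add]

include hr in
/-- An effective class is nonnegative on every pullback. -/
theorem cons'_q_nonneg {M : A.left.Modules} (hM : PicF.IsInvertible M) (s : Coh.structureModule A.left ⟶ M) (hs : s ≠ 0)
    (x : A ⟶ A) : 0 ≤ cons' hL r (AVDegPoly.q hM x) := by
  haveI : IsIntegral A.left := GeometricallyIntegral.isIntegral_of_subsingleton A.hom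
  haveI : JacobsonSpace A.left := LocallyOfFiniteType.jacobsonSpace A.hom
  have ht : InvX.one s ≠ 0 := fun h0 => hs (AmpleX.eq_zero_of_one_eq_zero _ h0)
  obtain ⟨b, hb⟩ := AVAmple.exists_pt_mem (TrivBasic.locus_ne_bot hM ht)
  obtain ⟨c₀, -, hc₀⟩ := nonempty_inter_closedPoints (Z := (Set.univ : Set A.left)) Set.univ_nonempty isClosed_univ.isLocallyClosed
  obtain ⟨p, hp⟩ := AVAmple.exists_pt (x := c₀) (mem_closedPoints_iff.1 hc₀)
  let w : A ⟶ A := x * (toUnit A ≫ ((p ≫ x)⁻¹ * b))
  rw [← cons'_translate hL hr hM x ((p ≫ x)⁻¹ * b)]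
  have hw : p ≫ w = b := by
    rw [MonObj.comp_mul, ← Category.assoc p (toUnit A), toUnit_unique (p ≫ toUnit A) (𝟙 _), Category.id_comp,
      mul_inv_cancel_left]
  let t : Γ((Scheme.Modules.pullback w.left).obj M, ⊤) := InvX.pullElt w.left (InvX.one s)
  have hloc : TrivBasic.locus t = w.left ⁻¹ᵁ TrivBasic.locus (InvX.one s) :=
    TrivBasic.locus_pullElt hM w.left (InvX.one s)
  have hmem : c₀ ∈ TrivBasic.locus t := by
    rw [hloc, ← hp]
    show (p ≫ w).left (IsLocalRing.closedPoint k) ∈ TrivBasic.locus (InvX.one s)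
    rw [hw]
    exact hb
  have ht0 : t ≠ 0 := by
    intro h0
    obtain ⟨W, hW, hfr⟩ := TrivBasic.mem_locus_iff.1 hmem
    haveI : Nonempty W := ⟨⟨_, hW⟩⟩
    exact zero_ne_one (hfr.coord_unique (le_refl W) (r := (0 : Γ(A.left, W))) (r' := 1) (by simp [h0]))
  by_cases hv : ∃ y, y ∉ TrivBasic.locus t
  · exact (TopInt.form_cons_pos k hr (AVTrace.isAmple_symm hL) _ (Lc := (Scheme.Modules.pullback w.left).obj M) rfl
      (PicClLib.isInvertible_pullback _ hM) (t := t) ht0 hv).le
  · push Not at hv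
    have hq : AVDegPoly.q hM w = 1 := by
      refine Subtype.ext (Units.ext ?_)
      refine Eq.trans ?_ PicMul.one_def.symm
      exact PicMul.cl_eq_iff.2 ⟨(TrivBasic.triv_of_frame (TrivBasic.locus_eq_top_iff.1 (top_le_iff.1 fun y _ => hv y))).some⟩
    show 0 ≤ cons' hL r (AVDegPoly.q hM w)
    rw [hq]
    have := cons'_mul hL hr 1 1
    rw [_root_.mul_one] at this
    omega

include hr in
/-- A positive endomorphism has a nonnegative form. -/
theorem form_nonneg {M : A.left.Modules} (hM : PicF.IsInvertible M) (s : Coh.structureModule A.left ⟶ M) (hs : s ≠ 0)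
    (a : EndAV.End A) {m : ℕ} (hm : 0 < m)
    (hrel : ∀ (T : Over (Spec (CommRingCat.of k))) (f g : T ⟶ A),
      AVDegPoly.polar hM f g = AVDegPoly.polar hL.1 f (g ≫ a.toHom) ^ m) (x : A ⟶ A) :
    0 ≤ cons' hL r (P' hL x (x ≫ a.toHom)) := by
  have h : P' hL x (x ≫ a.toHom) ^ m = (AVDegPoly.q hM x * AVDegPoly.q hM x⁻¹) ^ 2 := by
    rw [P', AVTrace.polar_symm hL.1, ← pow_mul, mul_comm 2 m, pow_mul, ← hrel]
    congr 1
    have h1 : AVDegPoly.polar hM x x * AVDegPoly.polar hM x x⁻¹ = 1 := by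
      rw [← AVDegPoly.polar_mul_right, mul_inv_cancel, AVTrace.polar_one_right]
    rw [eq_inv_of_mul_eq_one_left h1, AVDegPoly.polar, mul_inv_cancel, AVDegPoly.q_one, one_div, _root_.inv_inv]
  have h2 := congrArg (cons' hL r) h
  rw [cons'_pow hL hr, cons'_pow hL hr, cons'_mul hL hr] at h2
  have p1 := cons'_q_nonneg hL hr hM s hs x
  have p2 := cons'_q_nonneg hL hr hM s hs x⁻¹
  refine nonneg_of_mul_nonneg_right ?_ (show (0 : ℤ) < m by exact_mod_cast hm)
  rw [h2]
  positivity

/-- The trace of a product of positive symmetric endomorphisms. -/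
theorem tau_mul_pos {a b : EndAV.End A} (ha : IsSym hL a) (hb : IsSym hL b)
    (hpa : ∀ x : A ⟶ A, 0 ≤ cons' hL r (P' hL x (x ≫ a.toHom)))
    (hpb : ∀ x : A ⟶ A, 0 ≤ cons' hL r (P' hL x (x ≫ b.toHom))) (hab : a * b ≠ 0) :
    0 < tau hL hr (a * b) := by
  obtain ⟨m, hm, hmμ, hm0⟩ := AVEnd0.exists_int_minpoly (A := A) k b
  let c := PosMoments.moment fun n => tau hL hr (b ^ n)
  let τa : EndAV.End A →+ ℤ := (tau hL hr).comp (AddMonoidHom.mulLeft a)
  let c' := PosMoments.moment fun n => τa (b ^ n)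
  have hval : ∀ (τ : EndAV.End A →+ ℤ) (f : Polynomial ℤ),
      PosMoments.moment (fun n => τ (b ^ n)) (f.map (Int.castRingHom ℝ)) = (τ (Polynomial.aeval b f) : ℝ) :=
    fun τ f => PosMoments.moment_map b τ f
  have hI : ∀ (τ : EndAV.End A →+ ℤ) (w : Polynomial ℝ),
      PosMoments.moment (fun n => τ (b ^ n)) (m.map (Int.castRingHom ℝ) * w) = 0 := fun τ w => by
    induction w using Polynomial.induction_on' with
    | add p q hp hq => rw [mul_add, map_add, hp, hq, add_zero]
    | monomial n x =>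
      rw [← Polynomial.C_mul_X_pow_eq_monomial, ← mul_left_comm, ← Polynomial.smul_eq_C_mul, map_smul,
        show m.map (Int.castRingHom ℝ) * Polynomial.X ^ n = (m * Polynomial.X ^ n).map (Int.castRingHom ℝ) by simp,
        hval, map_mul, hm0, zero_mul, map_zero, Int.cast_zero, smul_zero]
  have hsq : ∀ (f : Polynomial ℤ), tau hL hr (Polynomial.aeval b (f * f)) =
      cons' hL r (P' hL (Polynomial.aeval b f).toHom (Polynomial.aeval b f).toHom) := fun f => by
    rw [map_mul, tau_sq hL hr (isSym_aeval hL hb f)]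
  have hpos : ∀ f : Polynomial ℤ, f ≠ 0 → f.natDegree < m.natDegree →
      0 < c (f.map (Int.castRingHom ℝ) * f.map (Int.castRingHom ℝ)) := fun f hf hfd => by
    rw [← Polynomial.map_mul, hval, hsq]
    refine Int.cast_pos.2 (pos_self hL hr _ fun h0 => ?_)
    have h1 := congrArg (EndAV.toEnd0 (A := A)) h0
    rw [AVEnd0.aeval_toEnd0, map_zero] at h1
    have h2 := minpoly.degree_le_of_ne_zero ℚ _ ((Polynomial.map_ne_zero_iff (RingHom.injective_int _)).2 hf) h1
    rw [← hmμ] at h2
    have h3 := Polynomial.natDegree_le_natDegree h2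
    rw [Polynomial.natDegree_map_eq_of_injective (RingHom.injective_int _),
      Polynomial.natDegree_map_eq_of_injective (RingHom.injective_int _)] at h3
    omega
  have hX : ∀ f : Polynomial ℤ, 0 ≤ c (Polynomial.X * (f.map (Int.castRingHom ℝ) * f.map (Int.castRingHom ℝ))) := fun f => by
    rw [show Polynomial.X * (f.map (Int.castRingHom ℝ) * f.map (Int.castRingHom ℝ)) =
      (Polynomial.X * f * f).map (Int.castRingHom ℝ) by simp [_root_.mul_assoc], hval]
    refine Int.cast_nonneg ?_
    let z := Polynomial.aeval b f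
    have hz := isSym_aeval hL hb f
    rw [map_mul (Polynomial.aeval b), map_mul (Polynomial.aeval b), Polynomial.aeval_X, tau_apply, EndAV.End.toHom_mul, EndAV.End.toHom_mul,
      show P' hL (z.toHom ≫ z.toHom ≫ b.toHom) (𝟙 A) = P' hL z.toHom (z.toHom ≫ b.toHom) from ?_]
    · exact hpb z.toHom
    · have hc : z.toHom ≫ b.toHom = b.toHom ≫ z.toHom := by
        rw [← EndAV.End.toHom_mul, ← EndAV.End.toHom_mul]
        refine congrArg EndAV.End.toHom ?_
        show b * Polynomial.aeval b f = Polynomial.aeval b f * b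
        nth_rw 1 [← Polynomial.aeval_X (R := ℤ) b]
        nth_rw 4 [← Polynomial.aeval_X (R := ℤ) b]
        rw [← map_mul, ← map_mul, mul_comm]
      rw [hc, ← Category.assoc, hz A (z.toHom ≫ b.toHom) (𝟙 A), Category.id_comp, ← hc, P', P', AVDegPoly.polar_comm]
  have hnn : ∀ f : Polynomial ℤ, 0 ≤ c' (f.map (Int.castRingHom ℝ) * f.map (Int.castRingHom ℝ)) := fun f => by
    rw [← Polynomial.map_mul, hval]
    refine Int.cast_nonneg ?_
    let z := Polynomial.aeval b f
    show 0 ≤ tau hL hr (a * Polynomial.aeval b (f * f))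
    rw [map_mul (Polynomial.aeval b), ← _root_.mul_assoc, tau_comm hL hr, tau_apply, EndAV.End.toHom_mul, EndAV.End.toHom_mul]
    rw [show P' hL ((z.toHom ≫ a.toHom) ≫ z.toHom) (𝟙 A) = P' hL z.toHom (z.toHom ≫ a.toHom) from by
      rw [isSym_aeval hL hb f A (z.toHom ≫ a.toHom) (𝟙 A), Category.id_comp, P', P', AVDegPoly.polar_comm]]
    exact hpa z.toHom
  obtain ⟨h1, h2⟩ := PosMoments.apply_X hm c (hI _) (fun f => ⟨_, hval _ f⟩) hpos c' (hI τa) hX hnn
  have hX1 : c' Polynomial.X = (tau hL hr (a * b) : ℝ) := by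
    rw [← Polynomial.map_X (Int.castRingHom ℝ), hval, Polynomial.aeval_X]
    rfl
  have hX2 : c' (Polynomial.X * Polynomial.X) = (tau hL hr (a * (b * b)) : ℝ) := by
    rw [← Polynomial.map_X (Int.castRingHom ℝ), ← Polynomial.map_mul, hval, map_mul, Polynomial.aeval_X]
    rfl
  rw [hX1] at h1 h2
  rw [hX2] at h2
  refine (Int.cast_nonneg_iff.1 h1).lt_of_ne fun h0 => hab ?_
  have h3 := Int.cast_eq_zero.1 (h2 (by rw [← h0]; simp))
  rw [← _root_.mul_assoc, tau_comm hL hr, tau_apply, EndAV.End.toHom_mul, EndAV.End.toHom_mul,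
    hb A (b.toHom ≫ a.toHom) (𝟙 A), Category.id_comp, P', AVDegPoly.polar_comm] at h3
  let S : EndAV.End A → ℤ := fun y => cons' hL r (P' hL y.toHom (b.toHom ≫ a.toHom))
  have hS : ∀ y : EndAV.End A, S y = 0 := by
    intro y
    have hkey : ∀ n : ℤ, 0 ≤ cons' hL r (P' hL y.toHom (y.toHom ≫ a.toHom)) + 2 * n * S y := by
      intro n
      have h := hpa (y + n • b).toHom
      rw [EndAV.End.toHom_add, EndAV.End.toHom_zsmul, MonObj.mul_comp] at h
      let φ : Additive (A ⟶ A) →+ Additive (A ⟶ A) →+ ℤ :=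
        AddMonoidHom.mk' (fun f => AddMonoidHom.mk' (fun g => cons' hL r (P' hL f.toMul g.toMul)) fun g g' => by
            simp only [toMul_add, P', AVDegPoly.polar_mul_right, cons'_mul hL hr])
          fun f f' => AddMonoidHom.ext fun g => by
            show cons' hL r _ = cons' hL r _ + cons' hL r _
            simp only [toMul_add, P', AVDegPoly.polar_mul_left, cons'_mul hL hr]
      have hz : (b.toHom ^ n) ≫ a.toHom = (b.toHom ≫ a.toHom) ^ n :=
        map_zpow (MonoidHom.mk' (fun g : A ⟶ A => g ≫ a.toHom) fun g g' => MonObj.mul_comp g g' a.toHom) _ _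
      rw [hz] at h
      change 0 ≤ φ (Additive.ofMul y.toHom + n • Additive.ofMul b.toHom)
        (Additive.ofMul (y.toHom ≫ a.toHom) + n • Additive.ofMul (b.toHom ≫ a.toHom)) at h
      simp only [map_add, map_zsmul, AddMonoidHom.add_apply, AddMonoidHom.smul_apply, smul_eq_mul] at h
      have e1 : φ (Additive.ofMul b.toHom) (Additive.ofMul (y.toHom ≫ a.toHom)) = S y := by
        show cons' hL r (P' hL b.toHom (y.toHom ≫ a.toHom)) = cons' hL r (P' hL y.toHom (b.toHom ≫ a.toHom))
        rw [P', AVDegPoly.polar_comm]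
        exact congrArg _ (ha A y.toHom b.toHom)
      have e2 : φ (Additive.ofMul b.toHom) (Additive.ofMul (b.toHom ≫ a.toHom)) = 0 := h3
      rw [e1, e2] at h
      have e3 : φ (Additive.ofMul y.toHom) (Additive.ofMul (b.toHom ≫ a.toHom)) = S y := rfl
      rw [e3] at h
      have e4 : φ (Additive.ofMul y.toHom) (Additive.ofMul (y.toHom ≫ a.toHom)) =
          cons' hL r (P' hL y.toHom (y.toHom ≫ a.toHom)) := rfl
      rw [e4] at h
      linarith
    by_contra hne
    have hY := hpa y.toHom
    set Y := cons' hL r (P' hL y.toHom (y.toHom ≫ a.toHom)) with hYdef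
    rcases lt_or_gt_of_ne hne with hlt | hgt
    · have := hkey (Y + 1)
      nlinarith
    · have := hkey (-(Y + 1))
      nlinarith
  by_contra hne
  exact (pos_self hL hr (a * b) hne).ne' (hS (a * b))

end Groth.Agent.AVRosati
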