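import Groth.Agent.Lib.AVFrobPull
import Groth.Agent.Lib.AVRosatiPos
import Groth.Agent.Lib.AVProj
import Groth.Agent.Lib.AVTateBC
import Mathlib.Analysis.Complex.Polynomial.Basic
import Mathlib.LinearAlgebra.Matrix.ToLinearEquiv

/-!
The roots of the characteristic polynomial of the Frobenius of an abelian variety over a finite field.
-/

set_option autoImplicit false
set_option linter.style.haveILetI false
set_option linter.unusedSectionVars false
set_option backward.isDefEq.respectTransparency false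
set_option backward.isDefEq.respectTransparency.types false
set_option maxHeartbeats 1000000
set_option synthInstance.maxHeartbeats 400000

universe u

open CategoryTheory CategoryTheory.Limits MonoidalCategory CartesianMonoidalCategory MonObj AlgebraicGeometry TopologicalSpace
open Groth.Agent.H23
open scoped Polynomial ComplexConjugate

noncomputable section

namespace Groth.Agent.AVWeil

attribute [local instance] PicMul.clMonoid

/-- An integral symmetric form which is positive on integral vectors is positive. -/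
theorem pos_of_int {d : ℕ} (B : Fin d → Fin d → ℤ) (hs : ∀ i j, B i j = B j i)
    (h : ∀ w : Fin d → ℤ, w ≠ 0 → 0 < ∑ i, ∑ j, w i * w j * B i j) (v : Fin d → ℝ) (hv : v ≠ 0) :
    0 < ∑ i, ∑ j, v i * v j * (B i j : ℝ) := by
  classical
  let Q : (Fin d → ℝ) → ℝ := fun v => ∑ i, ∑ j, v i * v j * (B i j : ℝ)
  have hcont : Continuous Q := by fun_prop
  have hnn : ∀ v, 0 ≤ Q v := by
    intro v
    have hdense : Dense (Set.range fun (q : Fin d → ℚ) i => (q i : ℝ)) :=
      (DenseRange.piMap fun _ => Rat.denseRange_cast)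
    refine le_of_not_gt fun hneg => ?_
    obtain ⟨_, hw, q, rfl⟩ := hdense.inter_open_nonempty _ (isOpen_lt hcont continuous_const) ⟨v, hneg⟩
    have hw' : Q (fun i => (q i : ℝ)) < 0 := hw
    let D : ℕ := ∏ i, (q i).den
    have hz : ∀ i, ∃ z : ℤ, (z : ℝ) = (D : ℝ) * (q i : ℝ) := fun i => by
      obtain ⟨e, he⟩ := Finset.dvd_prod_of_mem (fun i => (q i).den) (Finset.mem_univ i)
      refine ⟨(q i).num * e, ?_⟩
      rw [show (D : ℝ) = ((q i).den : ℝ) * (e : ℝ) by rw [← Nat.cast_mul]; exact congrArg Nat.cast he, Rat.cast_def]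
      have : ((q i).den : ℝ) ≠ 0 := Nat.cast_ne_zero.2 (q i).den_pos.ne'
      push_cast
      field_simp
    choose z hz using hz
    have hzQ : Q (fun i => (z i : ℝ)) = (D : ℝ) ^ 2 * Q (fun i => (q i : ℝ)) := by
      simp only [Q, hz, Finset.mul_sum]
      exact Finset.sum_congr rfl fun i _ => Finset.sum_congr rfl fun j _ => by ring
    have hnon : 0 ≤ Q (fun i => (z i : ℝ)) := by
      by_cases hz0 : z = 0
      · subst hz0; simp [Q]
      · have := (Int.cast_pos (R := ℝ)).2 (h z hz0)
        push_cast at this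
        exact this.le
    rw [hzQ] at hnon
    have hD : (0 : ℝ) < (D : ℝ) ^ 2 := pow_pos (Nat.cast_pos.2 (Finset.prod_pos fun i _ => (q i).den_pos)) 2
    exact absurd hnon (not_le.2 (mul_neg_of_pos_of_neg hD hw'))
  refine (hnn v).lt_of_ne fun h0 => ?_
  let M : Matrix (Fin d) (Fin d) ℤ := Matrix.of B
  have hker : (M.map (Int.castRingHom ℝ)).mulVec v = 0 := by
    funext i
    simp only [Matrix.mulVec, dotProduct, Matrix.map_apply, M, Matrix.of_apply, eq_intCast, Pi.zero_apply]
    set a := ∑ j, (B i j : ℝ) * v j with ha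
    by_contra hne
    have key : ∀ t : ℝ, 0 ≤ t * t * (B i i : ℝ) + 2 * t * a := fun t => by
      have h1 := hnn (v + t • (Pi.single i 1 : Fin d → ℝ))
      refine h1.trans_eq ?_
      have e : ∀ x y, (v + t • (Pi.single i 1 : Fin d → ℝ)) x * (v + t • (Pi.single i 1 : Fin d → ℝ)) y * (B x y : ℝ) =
          v x * v y * (B x y : ℝ) + (if y = i then t * (v x * (B x y : ℝ)) else 0) +
            (if x = i then t * (v y * (B x y : ℝ)) else 0) +
            (if x = i then (if y = i then t * t * (B x y : ℝ) else 0) else 0) := fun x y => by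
        simp only [Pi.add_apply, Pi.smul_apply, Pi.single_apply, smul_eq_mul]
        split_ifs <;> ring
      show ∑ x, ∑ y, _ = _
      simp only [e, Finset.sum_add_distrib, Finset.sum_ite_eq', Finset.mem_univ, if_true]
      rw [show (∑ x, ∑ y, v x * v y * (B x y : ℝ)) = 0 from h0.symm,
        Finset.sum_comm (f := fun x y => if x = i then t * (v y * (B x y : ℝ)) else 0),
        Finset.sum_comm (f := fun x y => if x = i then (if y = i then t * t * (B x y : ℝ) else 0) else 0)]
      simp only [Finset.sum_ite_eq', Finset.mem_univ, if_true, ha, Finset.mul_sum]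
      rw [zero_add, add_comm, ← Finset.sum_add_distrib]
      congr 1
      exact Finset.sum_congr rfl fun x _ => by rw [hs x i]; ring
    set c := (B i i : ℝ) with hc
    have hpos : (0 : ℝ) < |c| + 1 := by positivity
    have h2 := key (-a / (|c| + 1))
    have e : (-a / (|c| + 1)) * (-a / (|c| + 1)) * c + 2 * (-a / (|c| + 1)) * a =
        a ^ 2 / (|c| + 1) ^ 2 * (c - 2 * (|c| + 1)) := by field_simp; ring
    rw [e] at h2
    have h3 : 0 < a ^ 2 / (|c| + 1) ^ 2 := by positivity
    have h4 := le_abs_self c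
    nlinarith
  have hdet : M.det = 0 := by
    have h1 := Matrix.exists_mulVec_eq_zero_iff.1 ⟨v, hv, hker⟩
    rw [← RingHom.mapMatrix_apply, ← RingHom.map_det] at h1
    exact (Int.castRingHom ℝ).injective_int (h1.trans (map_zero _).symm)
  obtain ⟨z, hz0, hz⟩ := Matrix.exists_mulVec_eq_zero_iff.2 hdet
  refine (h z hz0).ne' (Finset.sum_eq_zero fun i _ => ?_)
  have h3 := congrFun hz i
  simp only [Matrix.mulVec, dotProduct, Pi.zero_apply, M, Matrix.of_apply] at h3
  rw [Finset.sum_congr rfl fun j _ => show z i * z j * B i j = z i * (B i j * z j) by ring, ← Finset.mul_sum, h3,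
    mul_zero]

section Main

variable {k : Type u} [Field k] {A : Over (Spec (CommRingCat.of k))} [GrpObj A] [IsCommMonObj A] [IsProper A.hom]
  [GeometricallyIntegral A.hom] (πA : A ⟶ A) [IsMonHom πA] (n : ℕ) (hπb : πA.left.base = 𝟙 _)
  (hπle : ∀ U : A.left.Opens, U ≤ πA.left ⁻¹ᵁ U)
  (hπapp : ∀ (U : A.left.Opens) (s : Γ(A.left, U)), (πA.left.appLE U U (hπle U)).hom s = s ^ n)

include hπb hπapp in
theorem q_comp {M : A.left.Modules} (hM : PicF.IsInvertible M) {T : Over (Spec (CommRingCat.of k))} (x : T ⟶ A) :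
    AVDegPoly.q hM (x ≫ πA) = AVDegPoly.q hM x ^ n := by
  refine Subtype.ext (Units.ext ?_)
  show PicF.pullCl (x ≫ πA).left (PicF.cl M) = _
  rw [Over.comp_left, ← PicClLib.pullCl_comp,
    show PicF.pullCl πA.left (PicF.cl M) = PicF.cl M ^ n from
      (PicMul.cl_eq_iff.2 (AVFrobPull.nonempty_iso πA.left n hπb hπle hπapp hM)).trans (PicMul.cl_tensorPow M n),
    PicMul.pullCl_pow]
  rfl

include hπb hπapp in
theorem polar_comp {M : A.left.Modules} (hM : PicF.IsInvertible M) {T : Over (Spec (CommRingCat.of k))}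
    (f g : T ⟶ A) : AVDegPoly.polar hM (f ≫ πA) (g ≫ πA) = AVDegPoly.polar hM f g ^ n := by
  rw [AVDegPoly.polar, AVDegPoly.polar, ← MonObj.mul_comp, q_comp πA n hπb hπle hπapp, q_comp πA n hπb hπle hπapp,
    q_comp πA n hπb hπle hπapp, div_pow, mul_pow]

variable {L : A.left.Modules} (hL : CohB1.IsAmple L) {r : ℕ} (hr : topologicalKrullDim A.left = (r + 1 : ℕ))

/-- The form of the symmetrised module on endomorphisms. -/
def form : EndAV.End A →+ EndAV.End A →+ ℤ :=
  AddMonoidHom.mk' (fun u => AddMonoidHom.mk' (fun v => AVRosati.cons' hL r (AVRosati.P' hL u.toHom v.toHom))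
      fun v w => by rw [EndAV.End.toHom_add, AVRosati.P', AVDegPoly.polar_mul_right, AVRosati.cons'_mul hL hr])
    fun u u' => AddMonoidHom.ext fun v => by
      show AVRosati.cons' hL r _ = AVRosati.cons' hL r _ + AVRosati.cons' hL r _
      rw [EndAV.End.toHom_add, AVRosati.P', AVDegPoly.polar_mul_left, AVRosati.cons'_mul hL hr]

theorem form_comm (u v : EndAV.End A) : form hL hr u v = form hL hr v u := by
  show AVRosati.cons' hL r (AVRosati.P' hL u.toHom v.toHom) = AVRosati.cons' hL r (AVRosati.P' hL v.toHom u.toHom)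
  rw [AVRosati.P', AVDegPoly.polar_comm]

include hπb hπapp in
theorem form_mul (u v : EndAV.End A) :
    form hL hr (EndAV.End.of πA * u) (EndAV.End.of πA * v) = n * form hL hr u v := by
  show AVRosati.cons' hL r (AVRosati.P' hL _ _) = _ * AVRosati.cons' hL r (AVRosati.P' hL u.toHom v.toHom)
  rw [EndAV.End.toHom_mul, EndAV.End.toHom_mul, AVRosati.P',
    show (EndAV.End.of πA).toHom = πA from rfl, polar_comp πA n hπb hπle hπapp, AVRosati.cons'_pow hL hr]

include hπb hπapp hL hr in
/-- Roots of the minimal polynomial have absolute value `√n`. -/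
theorem norm_root_minpoly {m : ℤ[X]} (hm : m.Monic)
    (hmμ : m.map (Int.castRingHom ℚ) = minpoly ℚ (EndAV.toEnd0 (EndAV.End.of πA)))
    (hm0 : Polynomial.aeval (EndAV.End.of πA) m = 0) {α : ℂ} (hα : (m.map (Int.castRingHom ℂ)).IsRoot α) :
    ‖α‖ = Real.sqrt n := by
  classical
  let π := EndAV.End.of πA
  let b : ℕ → ℕ → ℤ := fun i j => form hL hr (π ^ i) (π ^ j)
  let B := Polynomial.basisMonomials ℂ
  let Φ : ℂ[X] →ₗ[ℂ] ℂ[X] →ₗ[ℂ] ℂ := B.constr ℂ fun i => B.constr ℂ fun j => (b i j : ℂ)
  have hB : ∀ i, (Polynomial.X ^ i : ℂ[X]) = B i := fun i => by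
    rw [Polynomial.coe_basisMonomials, Polynomial.X_pow_eq_monomial]
  have hΦ : ∀ i j, Φ (Polynomial.X ^ i) (Polynomial.X ^ j) = (b i j : ℂ) := fun i j => by
    simp only [Φ, hB, Module.Basis.constr_basis]
  have hext : ∀ {Ψ Ψ' : ℂ[X] →ₗ[ℂ] ℂ[X] →ₗ[ℂ] ℂ},
      (∀ i j, Ψ (Polynomial.X ^ i) (Polynomial.X ^ j) = Ψ' (Polynomial.X ^ i) (Polynomial.X ^ j)) → Ψ = Ψ' :=
    fun h => B.ext fun i => B.ext fun j => by simpa only [hB] using h i j
  have hint : ∀ f g : ℤ[X], Φ (f.map (Int.castRingHom ℂ)) (g.map (Int.castRingHom ℂ)) =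
      (form hL hr (Polynomial.aeval π f) (Polynomial.aeval π g) : ℂ) := by
    intro f g
    induction f using Polynomial.induction_on' with
    | add p q hp hq => rw [Polynomial.map_add, map_add Φ, LinearMap.add_apply, hp, hq, map_add (Polynomial.aeval π),
        map_add (form hL hr), AddMonoidHom.add_apply, Int.cast_add]
    | monomial i a =>
      induction g using Polynomial.induction_on' with
      | add p q hp hq => rw [Polynomial.map_add, map_add (Φ _), hp, hq, map_add (Polynomial.aeval π),
          map_add (form hL hr _), Int.cast_add]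
      | monomial j c =>
        rw [Polynomial.map_monomial, Polynomial.map_monomial, ← Polynomial.C_mul_X_pow_eq_monomial,
          ← Polynomial.C_mul_X_pow_eq_monomial, ← Polynomial.smul_eq_C_mul, ← Polynomial.smul_eq_C_mul,
          map_smul Φ, LinearMap.smul_apply, map_smul (Φ _), hΦ, Polynomial.aeval_monomial, Polynomial.aeval_monomial,
          ← Algebra.smul_def, ← Algebra.smul_def, map_zsmul (form hL hr), AddMonoidHom.smul_apply, map_zsmul]
        simp only [eq_intCast, smul_eq_mul, Int.cast_mul, b]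
  have hshift : ∀ F G, Φ (Polynomial.X * F) (Polynomial.X * G) = (n : ℂ) * Φ F G := by
    have h := hext (Ψ := Φ.compl₁₂ (LinearMap.mulLeft ℂ Polynomial.X) (LinearMap.mulLeft ℂ Polynomial.X))
      (Ψ' := (n : ℂ) • Φ) fun i j => by
        rw [LinearMap.compl₁₂_apply, LinearMap.mulLeft_apply, LinearMap.mulLeft_apply, ← pow_succ', ← pow_succ', hΦ,
          LinearMap.smul_apply, LinearMap.smul_apply, hΦ, smul_eq_mul]
        simp only [b]
        rw [pow_succ', pow_succ', form_mul πA n hπb hπle hπapp]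
        push_cast
        rfl
    intro F G
    exact congrArg (fun Ψ => Ψ F G) h
  set mC := m.map (Int.castRingHom ℂ) with hmC
  have hvan : ∀ F G, Φ (mC * F) G = 0 := by
    have h := hext (Ψ := Φ.comp (LinearMap.mulLeft ℂ mC)) (Ψ' := 0) fun i j => by
      rw [LinearMap.comp_apply, LinearMap.mulLeft_apply, hmC,
        show m.map (Int.castRingHom ℂ) * Polynomial.X ^ i = (m * Polynomial.X ^ i).map (Int.castRingHom ℂ) by simp,
        show (Polynomial.X ^ j : ℂ[X]) = (Polynomial.X ^ j : ℤ[X]).map (Int.castRingHom ℂ) by simp, hint,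
        map_mul (Polynomial.aeval π), hm0, zero_mul, map_zero]
      simp
    intro F G
    exact congrArg (fun Ψ => Ψ F G) h
  have hsymm : ∀ F G, Φ F G = Φ G F := by
    have h := hext (Ψ := Φ) (Ψ' := Φ.flip) fun i j => by
      rw [LinearMap.flip_apply, hΦ, hΦ]
      simp only [b, form_comm hL hr (π ^ i)]
    intro F G
    exact congrArg (fun Ψ => Ψ F G) h
  have hvan' : ∀ F G, Φ G (mC * F) = 0 := fun F G => by rw [hsymm, hvan]
  -- positivity on real polynomials of small degree
  have hpd : ∀ f : ℝ[X], f ≠ 0 → f.natDegree < m.natDegree →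
      ∃ s : ℝ, 0 < s ∧ Φ (f.map Complex.ofRealHom) (f.map Complex.ofRealHom) = s := by
    intro f hf hfd
    refine ⟨∑ i : Fin m.natDegree, ∑ j : Fin m.natDegree, f.coeff i * f.coeff j * (b i j : ℝ), ?_, ?_⟩
    · refine pos_of_int (fun i j => b i j) (fun i j => form_comm hL hr _ _) (fun w hw => ?_) (fun i => f.coeff i) ?_
      · let F : ℤ[X] := ∑ i : Fin m.natDegree, Polynomial.C (w i) * Polynomial.X ^ (i : ℕ)
        have hFu : Polynomial.aeval π F ≠ 0 := by
          intro h0
          have h1 := congrArg (EndAV.toEnd0 (A := A)) h0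
          rw [AVEnd0.aeval_toEnd0, map_zero] at h1
          have hFc : ∀ i : Fin m.natDegree, F.coeff i = w i := fun i => by
            rw [show F.coeff i = ∑ j : Fin m.natDegree, (Polynomial.C (w j) * Polynomial.X ^ (j : ℕ)).coeff i from
              Polynomial.finsetSum_coeff _ _ _, Finset.sum_eq_single i]
            · simp
            · intro j _ hj
              rw [Polynomial.coeff_C_mul_X_pow, if_neg fun h => hj (Fin.ext h.symm)]
            · simp
          have hF0 : F ≠ 0 := fun hF => hw (funext fun i => by rw [← hFc i, hF]; simp)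
          have h2 := minpoly.degree_le_of_ne_zero ℚ _ ((Polynomial.map_ne_zero_iff (RingHom.injective_int _)).2 hF0) h1
          rw [← hmμ] at h2
          have h3 := Polynomial.natDegree_le_natDegree h2
          rw [Polynomial.natDegree_map_eq_of_injective (RingHom.injective_int _),
            Polynomial.natDegree_map_eq_of_injective (RingHom.injective_int _)] at h3
          have hd0 : 0 < m.natDegree := Nat.pos_of_ne_zero fun h => by omega
          have h4 : F.natDegree ≤ m.natDegree - 1 :=
            Polynomial.natDegree_sum_le_of_forall_le _ _ fun i _ =>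
              (Polynomial.natDegree_C_mul_X_pow_le _ _).trans (by omega)
          omega
        have h5 : 0 < form hL hr (Polynomial.aeval π F) (Polynomial.aeval π F) := AVRosati.pos_self hL hr _ hFu
        refine h5.trans_eq ?_
        simp only [F, map_sum, map_mul, Polynomial.aeval_C, map_pow, Polynomial.aeval_X, ← Algebra.smul_def,
          AddMonoidHom.finsetSum_apply, map_zsmul, AddMonoidHom.smul_apply, smul_eq_mul, b, Finset.mul_sum]
        exact Finset.sum_congr rfl fun i _ => Finset.sum_congr rfl fun j _ => by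
          rw [form_comm hL hr (π ^ (j : ℕ))]; ring
      · intro h0
        refine hf (Polynomial.ext fun i => ?_)
        rcases lt_or_ge i m.natDegree with hi | hi
        · exact congrFun h0 ⟨i, hi⟩
        · rw [Polynomial.coeff_eq_zero_of_natDegree_lt (hfd.trans_le hi), Polynomial.coeff_zero]
    · have e : f.map Complex.ofRealHom = ∑ i : Fin m.natDegree, (f.coeff i : ℂ) • (Polynomial.X : ℂ[X]) ^ (i : ℕ) := by
        conv_lhs => rw [f.as_sum_range_C_mul_X_pow' hfd, ← Fin.sum_univ_eq_sum_range (fun i => Polynomial.C (f.coeff i) * Polynomial.X ^ i), Polynomial.map_sum]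
        refine Finset.sum_congr rfl fun i _ => ?_
        rw [Polynomial.map_mul, Polynomial.map_C, Polynomial.map_pow, Polynomial.map_X, Polynomial.smul_eq_C_mul]
        rfl
      rw [e]
      simp only [map_sum, map_smul, LinearMap.sum_apply, LinearMap.smul_apply, hΦ, smul_eq_mul, Complex.ofReal_sum,
        Complex.ofReal_mul, Complex.ofReal_intCast, Finset.mul_sum]
      exact Finset.sum_congr rfl fun i _ => Finset.sum_congr rfl fun j _ => by
        simp only [b, form_comm hL hr (π ^ (j : ℕ))]; ring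
  obtain ⟨G, hG⟩ := Polynomial.dvd_iff_isRoot.2 hα
  have hG0 : G ≠ 0 := fun h => (hm.map _).ne_zero (by rw [← hmC, hG, h, mul_zero])
  have hGd : G.natDegree < m.natDegree := by
    have : mC.natDegree = m.natDegree := Polynomial.natDegree_map_eq_of_injective (RingHom.injective_int _) m
    rw [← this, hG, Polynomial.natDegree_mul (Polynomial.X_sub_C_ne_zero α) hG0, Polynomial.natDegree_X_sub_C]
    omega
  -- real and imaginary parts
  let re : ℝ[X] := Polynomial.ofFinsupp (AddMonoidAlgebra.ofCoeff (G.toFinsupp.coeff.mapRange Complex.re Complex.zero_re))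
  let im : ℝ[X] := Polynomial.ofFinsupp (AddMonoidAlgebra.ofCoeff (G.toFinsupp.coeff.mapRange Complex.im Complex.zero_im))
  have hre : ∀ i, re.coeff i = (G.coeff i).re := fun i => rfl
  have him : ∀ i, im.coeff i = (G.coeff i).im := fun i => rfl
  set R := re.map Complex.ofRealHom
  set I := im.map Complex.ofRealHom
  have hGe : G = R + Complex.I • I := by
    refine Polynomial.ext fun i => ?_
    simp only [R, I, Polynomial.coeff_add, Polynomial.coeff_smul, Polynomial.coeff_map, smul_eq_mul, hre, him,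
      Complex.ofRealHom_eq_coe]
    rw [mul_comm, Complex.re_add_im]
  set G' := G.map (starRingEnd ℂ) with hG'
  have hG'e : G' = R - Complex.I • I := by
    refine Polynomial.ext fun i => ?_
    simp only [hG', R, I, Polynomial.coeff_sub, Polynomial.coeff_smul, Polynomial.coeff_map, smul_eq_mul, hre, him,
      Complex.ofRealHom_eq_coe]
    apply Complex.ext <;> simp
  have hmG' : mC = (Polynomial.X - Polynomial.C (conj α)) * G' := by
    have h1 := congrArg (Polynomial.map (starRingEnd ℂ)) hG
    rwa [hmC, Polynomial.map_map, RingHom.ext_int ((starRingEnd ℂ).comp (Int.castRingHom ℂ)) (Int.castRingHom ℂ),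
      Polynomial.map_mul, Polynomial.map_sub, Polynomial.map_X, Polynomial.map_C, ← hmC, ← hG'] at h1
  obtain ⟨s, hs, hse⟩ : ∃ s : ℝ, 0 < s ∧ Φ G' G = s := by
    have e : Φ G' G = Φ R R + Φ I I := by
      rw [hGe, hG'e]
      simp only [map_add, map_sub, map_smul, LinearMap.add_apply, LinearMap.sub_apply, LinearMap.smul_apply, smul_eq_mul,
        hsymm I R]
      linear_combination (-(Φ I I)) * Complex.I_mul_I
    have hd : ∀ f : ℝ[X], (∀ i, G.coeff i = 0 → f.coeff i = 0) → f.natDegree < m.natDegree := fun f hf =>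
      lt_of_le_of_lt (Polynomial.natDegree_le_iff_coeff_eq_zero.2 fun i hi =>
        hf i (Polynomial.coeff_eq_zero_of_natDegree_lt hi)) hGd
    have hdre := hd re fun i hi => by rw [hre, hi, Complex.zero_re]
    have hdim := hd im fun i hi => by rw [him, hi, Complex.zero_im]
    by_cases h1 : re = 0
    · have h2 : im ≠ 0 := fun h2 => hG0 (by rw [hGe]; simp [R, I, h1, h2])
      obtain ⟨s, hs, hse⟩ := hpd im h2 hdim
      exact ⟨s, hs, by rw [e, hse]; simp [R, h1]⟩
    · obtain ⟨s, hs, hse⟩ := hpd re h1 hdre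
      by_cases h2 : im = 0
      · exact ⟨s, hs, by rw [e, hse]; simp [I, h2]⟩
      · obtain ⟨t, ht, hte⟩ := hpd im h2 hdim
        exact ⟨s + t, add_pos hs ht, by rw [e, hse, hte, Complex.ofReal_add]⟩
  have h1 := hshift G' G
  rw [show Polynomial.X * G = mC * 1 + α • G by rw [hG, Polynomial.smul_eq_C_mul]; ring,
    show Polynomial.X * G' = mC * 1 + conj α • G' by rw [hmG', Polynomial.smul_eq_C_mul]; ring] at h1
  simp only [map_add, map_smul, LinearMap.add_apply, LinearMap.smul_apply, hvan, hvan', mul_zero, zero_add, smul_eq_mul] at h1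
  rw [← _root_.mul_assoc, Complex.mul_conj', hse] at h1
  have h2 := mul_right_cancel₀ (Complex.ofReal_ne_zero.2 hs.ne') h1
  have h3 : ‖α‖ ^ 2 = (n : ℝ) := by exact_mod_cast h2
  rw [← h3, Real.sqrt_sq (norm_nonneg α)]

end Main

variable {k : Type u} [Field k] (Ω : Type u) [Field Ω] [Algebra k Ω] [IsAlgClosed Ω]
  (A : Over (Spec (CommRingCat.of k))) [GrpObj A] [IsCommMonObj A] [IsProper A.hom] [GeometricallyIntegral A.hom]

/-- A polynomial which is the characteristic polynomial on a Tate module has the degree and values of the degree polynomial. -/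
theorem charpoly_props {g : ℕ} (hg : topologicalKrullDim A.left = g) (φ : A ⟶ A) [IsMonHom φ] (l : ℕ) [Fact l.Prime]
    (hl : (l : k) ≠ 0) [Module.Free ℤ_[l] (AbDual.TateMod A l (SGA7.pt Ω))]
    [Module.Finite ℤ_[l] (AbDual.TateMod A l (SGA7.pt Ω))] {P : ℤ[X]}
    (hP : (AbDual.tateMapₗ (l := l) (T := SGA7.pt Ω) φ).charpoly = P.map (Int.castRingHom ℤ_[l])) :
    P.Monic ∧ P.natDegree = 2 * g ∧
      ∀ n : ℤ, (AVNu.nu (EndAV.End.toHom (EndAV.End.of φ - (n : EndAV.End A))) : ℤ) = P.eval n := by
  obtain ⟨Q, hQm, hQd, hQv, hT⟩ := AVTateBC.exists_charpoly Ω A hg (EndAV.End.of φ)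
  have h : P = Q := Polynomial.map_injective _ (RingHom.injective_int (Int.castRingHom ℤ_[l]))
    (hP.symm.trans (hT l hl))
  subst h
  exact ⟨hQm, hQd, hQv⟩

include Ω in
/-- The Riemann hypothesis for an abelian variety. -/
theorem norm_root {g : ℕ} (hg : topologicalKrullDim A.left = g) (πA : A ⟶ A) [IsMonHom πA] (n : ℕ)
    (hπb : πA.left.base = 𝟙 _) (hπle : ∀ U : A.left.Opens, U ≤ πA.left ⁻¹ᵁ U)
    (hπapp : ∀ (U : A.left.Opens) (s : Γ(A.left, U)), (πA.left.appLE U U (hπle U)).hom s = s ^ n)
    {P : ℤ[X]} (hPm : P.Monic) (hPd : P.natDegree = 2 * g)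
    (hPv : ∀ j : ℤ, (AVNu.nu (EndAV.End.toHom (EndAV.End.of πA - (j : EndAV.End A))) : ℤ) = P.eval j)
    {α : ℂ} (hα : α ∈ (P.map (Int.castRingHom ℂ)).roots) : ‖α‖ = Real.sqrt n := by
  obtain rfl | ⟨r, rfl⟩ : g = 0 ∨ ∃ r, g = r + 1 := by rcases g with _ | r; exacts [Or.inl rfl, Or.inr ⟨r, rfl⟩]
  · rw [Polynomial.eq_C_of_natDegree_eq_zero (p := P.map (Int.castRingHom ℂ))
      (by rw [Polynomial.natDegree_map_eq_of_injective (RingHom.injective_int _), hPd]), Polynomial.roots_C] at hα
    exact absurd hα (Multiset.notMem_zero α)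
  obtain ⟨L, hL⟩ := AVProj.exists_isAmple (X := A)
  obtain ⟨m, hm, hmμ, hm0⟩ := AVEnd0.exists_int_minpoly (A := A) Ω (EndAV.End.of πA)
  refine norm_root_minpoly πA n hπb hπle hπapp hL hg hm hmμ hm0 ?_
  have hαP : Polynomial.aeval α (P.map (Int.castRingHom ℚ)) = 0 := by
    rw [← show algebraMap ℤ ℚ = Int.castRingHom ℚ from rfl, Polynomial.aeval_map_algebraMap, Polynomial.aeval_def]
    have := (Polynomial.mem_roots'.1 hα).2
    rwa [Polynomial.IsRoot, Polynomial.eval_map, show Int.castRingHom ℂ = algebraMap ℤ ℂ from rfl] at this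
  have hint : IsIntegral ℚ α := ⟨_, hPm.map _, by rw [← Polynomial.aeval_def]; exact hαP⟩
  have hdvd := AVEnd0.dvd_minpoly hg (EndAV.End.of πA) hPm hPd hPv (minpoly.irreducible hint) (minpoly.dvd ℚ α hαP)
  rw [← hmμ] at hdvd
  obtain ⟨w, hw⟩ := hdvd
  have h2 := congrArg (Polynomial.aeval α) hw
  rw [map_mul, minpoly.aeval, zero_mul, ← show algebraMap ℤ ℚ = Int.castRingHom ℚ from rfl,
    Polynomial.aeval_map_algebraMap] at h2
  rw [Polynomial.IsRoot, Polynomial.eval_map]
  exact h2

end Groth.Agent.AVWeil
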