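import Groth.Agent.Lib.AVHomForm
import Groth.Agent.AVTors.TatePt
import Groth.Agent.AVTors.TateInj
import Groth.Agent.AVTors.Dense
import Groth.Agent.S19862
import Mathlib.LinearAlgebra.Matrix.ToLinearEquiv

/-!
Homomorphisms of abelian varieties form a lattice: a positive form, `l`-adic independence, finiteness.
-/

set_option autoImplicit false
set_option linter.style.haveILetI false
set_option linter.unusedSectionVars false
set_option backward.isDefEq.respectTransparency false
set_option backward.isDefEq.respectTransparency.types false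
set_option maxHeartbeats 1000000
set_option synthInstance.maxHeartbeats 200000

universe u

open CategoryTheory MonoidalCategory CartesianMonoidalCategory MonObj AlgebraicGeometry TopologicalSpace
open scoped Matrix

noncomputable section

namespace Groth.Agent.AVHomLattice

variable {k : Type u} [Field k] {A B : Over (Spec (CommRingCat.of k))}
  [GrpObj A] [IsCommMonObj A] [IsProper A.hom] [GeometricallyIntegral A.hom]
  [GrpObj B] [IsCommMonObj B] [IsProper B.hom] [GeometricallyIntegral B.hom]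

/-- The underlying morphism, additively. -/
def toAdd : EndAV.Hom A B →+ Additive (A ⟶ B) :=
  AddMonoidHom.mk' (fun φ => Additive.ofMul φ.toHom) fun _ _ => rfl

theorem hom_eq_zero_of_dim_zero (hA : topologicalKrullDim A.left = (0 : ℕ)) (φ : EndAV.Hom A B) : φ = 0 := by
  haveI : IsIntegral A.left := GeometricallyIntegral.isIntegral_of_subsingleton A.hom
  refine EndAV.Hom.ext ?_
  rw [EndAV.Hom.toHom_zero]
  obtain ⟨_, ⟨V, hV, rfl⟩, hxV, -⟩ :=
    B.left.isBasis_affineOpens.exists_subset_of_mem_open (Set.mem_univ (φ.toHom.left (genericPoint A.left))) isOpen_univ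
  refine AVHomForm.eq_one_of_range_subset_affine φ.toHom hV ?_
  have h : ∀ x : A.left, x = genericPoint A.left := fun x => by
    have hd := VarDim.topologicalKrullDim_eq_deg_genericPoint A.hom
    rw [hA] at hd
    have h0 : VarDim.deg A.hom (genericPoint A.left) = 0 := by exact_mod_cast hd.symm
    exact (VarDim.eq_of_specializes_of_deg_le A.hom (genericPoint_specializes x) (by omega)).symm
  rintro _ ⟨x, rfl⟩
  rw [h x]
  exact hxV

/-- A positive definite symmetric bilinear form on homomorphisms. -/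
theorem exists_form : ∃ β : EndAV.Hom A B →+ EndAV.Hom A B →+ ℤ,
    (∀ φ ψ, β φ ψ = β ψ φ) ∧ ∀ φ, φ ≠ 0 → 0 < β φ φ := by
  obtain ⟨g, hg⟩ := AVTors.exists_dimNat A
  rcases g with _ | r
  · exact ⟨0, fun _ _ => rfl, fun φ hφ => (hφ (hom_eq_zero_of_dim_zero hg φ)).elim⟩
  obtain ⟨M, hM, hsym⟩ := S8121.result k B
  obtain ⟨L, hL, -⟩ := S8121.result k A
  let β₀ := AVHomForm.Bf k (A := A) hL.1 hM.1 (r := r) hg.le
  refine ⟨(AddMonoidHom.compHom' toAdd).comp (β₀.comp toAdd),
    fun φ ψ => AVHomForm.Bf_symm k hL.1 hM.1 hg.le (toAdd φ) (toAdd ψ), fun φ hφ => ?_⟩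
  show 0 < β₀ (toAdd φ) (toAdd φ)
  rw [AVHomForm.Bf_self k hL.1 hM.1 hg.le hsym]
  exact mul_pos two_pos (AVHomForm.form_pos_of_ne_one hL hM hg φ.toHom fun h => hφ (EndAV.Hom.ext h))

theorem isTorsionFree : Module.IsTorsionFree ℤ (EndAV.Hom A B) := by
  obtain ⟨β, -, hpos⟩ := exists_form (A := A) (B := B)
  refine ⟨fun n hn φ ψ h => ?_⟩
  by_contra hne
  have h0 : n • (φ - ψ) = 0 := by rw [smul_sub]; exact sub_eq_zero.2 h
  have h1 := congrArg (β (φ - ψ)) h0
  rw [map_zsmul, map_zero, smul_eq_mul] at h1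
  exact (hpos _ (sub_ne_zero.2 hne)).ne' ((mul_eq_zero.1 h1).resolve_left hn.ne_zero)

variable (Ω : Type u) [Field Ω] [Algebra k Ω] [IsAlgClosed Ω] (l : ℕ) [Fact l.Prime]

/-- Independent homomorphisms act independently on the Tate module. -/
theorem linearIndependent_tateMap (hl : (l : k) ≠ 0) {n : ℕ} {e : Fin n → EndAV.Hom A B}
    (he : LinearIndependent ℤ e) :
    LinearIndependent ℤ_[l] fun i => EndAV.Hom.tateMap (A := A) (B := B) l (SGA7.pt Ω) (e i) := by
  classical
  obtain ⟨β, hsymm, hpos⟩ := exists_form (A := A) (B := B)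
  let G : Matrix (Fin n) (Fin n) ℤ := fun i j => β (e i) (e j)
  have hG : G.det ≠ 0 := fun h0 => by
    obtain ⟨v, hv, hGv⟩ := Matrix.exists_mulVec_eq_zero_iff.2 h0
    let φ := ∑ j, v j • e j
    have h1 : β φ φ = v ⬝ᵥ (G *ᵥ v) := by
      simp only [φ, map_sum, map_zsmul, AddMonoidHom.coe_finsetSum, Finset.sum_apply, AddMonoidHom.smul_apply,
        smul_eq_mul, dotProduct, Matrix.mulVec, Finset.mul_sum, G]
      rw [Finset.sum_comm]
      refine Finset.sum_congr rfl fun i _ => Finset.sum_congr rfl fun j _ => ?_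
      ring
    have hφ : φ = 0 := by
      by_contra hne
      have := hpos φ hne
      rw [h1, hGv, dotProduct_zero] at this
      exact lt_irrefl _ this
    exact hv (funext fun i => Fintype.linearIndependent_iff.1 he v hφ i)
  rw [Fintype.linearIndependent_iff]
  intro c hc
  have key : ∀ m : ℕ, ∀ i, (l : ℤ_[l]) ^ m ∣ ∑ j, ((G i j : ℤ) : ℤ_[l]) * c j := fun m i => by
    let a : Fin n → ℕ := fun j => (c j).appr m
    have ha : ∀ j, ∃ d : ℤ_[l], c j = (a j : ℤ_[l]) + (l : ℤ_[l]) ^ m * d := fun j => by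
      obtain ⟨d, hd⟩ := Ideal.mem_span_singleton'.1 (PadicInt.appr_spec m (c j))
      exact ⟨d, by rw [mul_comm, hd]; ring⟩
    choose d hd using ha
    let φ := ∑ j, a j • e j
    let T := EndAV.Hom.tateMap (A := A) (B := B) l (SGA7.pt Ω)
    have hT : T φ = (l : ℤ_[l]) ^ m • -∑ j, d j • T (e j) := by
      have h2 : ∑ j, ((a j : ℤ_[l]) • T (e j) + (l : ℤ_[l]) ^ m • d j • T (e j)) = 0 := by
        rw [← hc]
        refine Finset.sum_congr rfl fun j _ => ?_
        rw [smul_smul, ← add_smul, ← hd j]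
      rw [Finset.sum_add_distrib, ← Finset.smul_sum] at h2
      rw [smul_neg, ← eq_neg_of_add_eq_zero_left h2, map_sum]
      refine Finset.sum_congr rfl fun j _ => ?_
      rw [map_nsmul, Nat.cast_smul_eq_nsmul]
    obtain ⟨ψ, hψm, hψ⟩ := S19862.result k Ω l hl A B φ.toHom m (-∑ j, d j • T (e j)) hT
    have hφ : φ = l ^ m • EndAV.Hom.of ψ := EndAV.Hom.ext (by
      rw [hψ, EndAV.Hom.toHom_nsmul, EndAV.Hom.toHom_of, MonObj.pow_comp, Category.id_comp])
    have h3 := congrArg (β (e i)) hφ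
    simp only [φ, map_sum, map_nsmul, nsmul_eq_mul] at h3
    have h4 : ∑ j, ((G i j : ℤ) : ℤ_[l]) * c j = (l : ℤ_[l]) ^ m *
        ((β (e i) (EndAV.Hom.of ψ) : ℤ) : ℤ_[l]) + (l : ℤ_[l]) ^ m * ∑ j, ((G i j : ℤ) : ℤ_[l]) * d j := by
      have h5 := congrArg (Int.cast (R := ℤ_[l])) h3
      push_cast at h5
      rw [← h5, Finset.mul_sum, ← Finset.sum_add_distrib]
      refine Finset.sum_congr rfl fun j _ => ?_
      rw [hd j]
      simp only [G]
      ring
    rw [h4]
    exact Dvd.intro _ (mul_add ((l : ℤ_[l]) ^ m) _ _)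
  have hzero : ∀ i, ∑ j, ((G i j : ℤ) : ℤ_[l]) * c j = 0 := fun i => by
    by_contra hne
    set z := ∑ j, ((G i j : ℤ) : ℤ_[l]) * c j with hz
    have h1 := (PadicInt.norm_le_pow_iff_mem_span_pow z (z.valuation + 1)).2
      (Ideal.mem_span_singleton.2 (key (z.valuation + 1) i))
    rw [PadicInt.norm_eq_zpow_neg_valuation hne] at h1
    have h2 := (zpow_le_zpow_iff_right₀ (by exact_mod_cast (Fact.out : l.Prime).one_lt : (1 : ℝ) < l)).1 h1
    push_cast at h2
    omega
  have hdet : (G.map (Int.castRingHom ℤ_[l])).det ≠ 0 := by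
    rw [← RingHom.mapMatrix_apply, ← RingHom.map_det]
    exact fun h => hG (Int.cast_eq_zero.1 h)
  intro i
  by_contra hne
  exact hdet (Matrix.exists_mulVec_eq_zero_iff.1 ⟨c, fun h => hne (congrFun h i),
    funext fun i => (hzero i)⟩)

include Ω in
/-- The rank bound. -/
theorem card_le {g h : ℕ} (hg : topologicalKrullDim A.left = g) (hh : topologicalKrullDim B.left = h)
    (hl : (l : k) ≠ 0) {n : ℕ} {e : Fin n → EndAV.Hom A B} (he : LinearIndependent ℤ e) : n ≤ 4 * g * h := by
  obtain ⟨eA⟩ := AVTors.exists_linearEquiv_pt Ω A hg l hl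
  obtain ⟨eB⟩ := AVTors.exists_linearEquiv_pt Ω B hh l hl
  have h1 := ((linearIndependent_tateMap Ω l hl he).map' (LinearEquiv.arrowCongr eA.symm eB.symm).toLinearMap
    (LinearEquiv.ker _)).fintype_card_le_finrank
  rw [Fintype.card_fin, Module.finrank_linearMap, Module.finrank_fin_fun, Module.finrank_fin_fun] at h1
  linarith [show 2 * g * (2 * h) = 4 * g * h by ring]

theorem exists_prime (k : Type u) [Field k] : ∃ l : ℕ, l.Prime ∧ (l : k) ≠ 0 := by
  obtain ⟨p, hp⟩ := CharP.exists k
  obtain ⟨l, hlp, hl⟩ := Nat.exists_infinite_primes (p + 1)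
  refine ⟨l, hl, fun h => ?_⟩
  have hdvd := (CharP.cast_eq_zero_iff k p l).1 h
  rcases (Nat.dvd_prime hl).1 hdvd with h1 | h1
  · exact CharP.ringChar_ne_one (R := k) (by rw [← h1]; exact ringChar.eq k p)
  · omega

theorem card_le' {g h : ℕ} (hg : topologicalKrullDim A.left = g) (hh : topologicalKrullDim B.left = h)
    {n : ℕ} {e : Fin n → EndAV.Hom A B} (he : LinearIndependent ℤ e) : n ≤ 4 * g * h := by
  obtain ⟨l, hl, hlk⟩ := exists_prime k
  haveI := Fact.mk hl
  exact card_le (AlgebraicClosure k) l hg hh hlk he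

/-- Homomorphisms form a free module of rank at most `4gh`. -/
theorem free_finite {g h : ℕ} (hg : topologicalKrullDim A.left = g) (hh : topologicalKrullDim B.left = h) :
    Module.Free ℤ (EndAV.Hom A B) ∧ Module.Finite ℤ (EndAV.Hom A B) ∧
      Module.finrank ℤ (EndAV.Hom A B) ≤ 4 * g * h := by
  classical
  obtain ⟨β, hsymm, hpos⟩ := exists_form (A := A) (B := B)
  let P : ℕ → Prop := fun n => ∃ e : Fin n → EndAV.Hom A B, LinearIndependent ℤ e
  let n := Nat.findGreatest P (4 * g * h)
  obtain ⟨e, he⟩ : P n := Nat.findGreatest_spec (P := P) (Nat.zero_le _)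
    ⟨![], linearIndependent_empty_type⟩
  let Φ : EndAV.Hom A B →ₗ[ℤ] (Fin n → ℤ) := LinearMap.pi fun j => (β (e j)).toIntLinearMap
  have hinj : Function.Injective Φ := by
    rw [injective_iff_map_eq_zero]
    intro φ hφ
    by_contra hne
    have hnli : ¬ LinearIndependent ℤ (Fin.cons φ e : Fin (n + 1) → EndAV.Hom A B) := fun hli =>
      absurd (Nat.le_findGreatest (P := P) (card_le' hg hh hli) ⟨_, hli⟩) (Nat.not_succ_le_self n)
    obtain ⟨c, hc, j, hj⟩ := Fintype.not_linearIndependent_iff.1 hnli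
    rw [Fin.sum_univ_succ] at hc
    simp only [Fin.cons_zero, Fin.cons_succ] at hc
    have hc0 : c 0 ≠ 0 := fun h0 => by
      rw [h0, zero_smul, zero_add] at hc
      have := Fintype.linearIndependent_iff.1 he _ hc
      induction j using Fin.cases with
      | zero => exact hj h0
      | succ j => exact hj (this j)
    have h1 := congrArg (fun x => β x φ) hc
    have h2 : ∀ i, β (e i) φ = 0 := fun i => congrFun hφ i
    simp only [map_add, map_sum, map_zsmul, map_zero, AddMonoidHom.add_apply, AddMonoidHom.coe_finsetSum,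
      Finset.sum_apply, AddMonoidHom.smul_apply, AddMonoidHom.zero_apply, h2, mul_zero, smul_eq_mul, Finset.sum_const_zero,
      add_zero] at h1
    exact (mul_eq_zero.1 h1).elim hc0 (hpos φ hne).ne'
  haveI : Module.Finite ℤ (EndAV.Hom A B) := Module.Finite.of_injective Φ hinj
  haveI := isTorsionFree (A := A) (B := B)
  haveI : Module.Free ℤ (EndAV.Hom A B) := Module.free_of_finite_type_torsion_free'
  exact ⟨inferInstance, inferInstance,
    card_le' hg hh (Module.finBasis ℤ (EndAV.Hom A B)).linearIndependent⟩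

theorem linearIndependent_of {n : ℕ} {e : Fin n → (A ⟶ B)} [∀ i, IsMonHom (e i)]
    (he : LinearIndependent ℤ fun i => Additive.ofMul (e i)) : LinearIndependent ℤ fun i => EndAV.Hom.of (e i) :=
  LinearIndependent.of_comp (toAdd (A := A) (B := B)).toIntLinearMap he

theorem toHom_sum_zsmul {n : ℕ} (e : Fin n → EndAV.Hom A B) (a : Fin n → ℤ) :
    (∑ i, a i • e i).toHom = ∏ i, (e i).toHom ^ a i := by
  refine Additive.ofMul.injective ?_
  show toAdd (A := A) (B := B) (∑ i, a i • e i) = _
  rw [map_sum (toAdd (A := A) (B := B)), ofMul_prod]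
  exact Finset.sum_congr rfl fun i _ => (map_zsmul (toAdd (A := A) (B := B)) _ _).trans (ofMul_zpow _ _).symm

theorem exists_generators : ∃ (n : ℕ) (e : Fin n → (A ⟶ B)), (∀ i, IsMonHom (e i)) ∧
    ∀ f : A ⟶ B, IsMonHom f → ∃ a : Fin n → ℤ, f = ∏ i, e i ^ a i := by
  obtain ⟨g, hg⟩ := AVTors.exists_dimNat A
  obtain ⟨h, hh⟩ := AVTors.exists_dimNat B
  obtain ⟨hfree, hfin, -⟩ := free_finite (A := A) (B := B) hg hh
  let b := Module.finBasis ℤ (EndAV.Hom A B)
  refine ⟨_, fun i => (b i).toHom, fun i => inferInstance, fun f hf => ⟨fun i => b.repr (EndAV.Hom.of f) i, ?_⟩⟩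
  rw [← toHom_sum_zsmul (fun i => b i), b.sum_repr, EndAV.Hom.toHom_of]

end Groth.Agent.AVHomLattice
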