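import Groth.Agent.Lib.CurveEnd

/-!
Homomorphisms of invertible modules on an integral scheme, and their endomorphisms.
-/

set_option linter.style.haveILetI false

universe u

open CategoryTheory CategoryTheory.Limits AlgebraicGeometry TopologicalSpace Opposite

namespace Groth.Agent.InvEnd

variable {X : Scheme.{u}}

theorem isFinLocFreeOfRank_one {L : X.Modules} (hL : PicF.IsInvertible L) :
    FlatMod.IsFinLocFreeOfRank 1 L := fun x =>
  let ⟨U, hx, ⟨e⟩⟩ := hL x
  ⟨U, hx, ⟨e ≪≫ (coproductUniqueIso fun _ : Fin 1 => Coh.structureModule (U : Scheme.{u})).symm⟩⟩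

theorem frame_res {n : ℕ} {M : X.Modules} {U W : X.Opens} (h : W ≤ U) {s : Fin n → Γ(M, U)}
    (hs : H23.Frame.IsFrame M s) :
    H23.Frame.IsFrame M fun i => M.presheaf.map (homOfLE h).op (s i) := by
  intro V hV
  convert hs V (hV.trans h) using 1
  funext c
  refine Finset.sum_congr rfl fun i _ => ?_
  rw [← ConcreteCategory.comp_apply, ← M.presheaf.map_comp]
  rfl

theorem exists_frame_inv {L : X.Modules} (hL : PicF.IsInvertible L) (x : X) :
    ∃ (U : X.Opens) (_ : x ∈ U) (t : Γ(L, U)), ∀ (W : X.Opens) (h : W ≤ U),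
      Function.Bijective fun c : Γ(X, W) => c • L.presheaf.map (homOfLE h).op t := by
  obtain ⟨U, hx, ⟨e⟩⟩ := isFinLocFreeOfRank_one hL x
  obtain ⟨s, hs⟩ := H23.Frame.exists_frame e
  refine ⟨U, hx, s 0, fun W h => ?_⟩
  have : (fun c : Γ(X, W) => c • L.presheaf.map (homOfLE h).op (s 0)) =
      H23.Frame.comb L s W h ∘ (Equiv.funUnique (Fin 1) Γ(X, W)).symm := by
    funext c
    simp [H23.Frame.comb]
  rw [this]
  exact (hs W h).comp (Equiv.bijective _)

theorem mono_of_app_injective {L M : X.Modules} (f : L ⟶ M)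
    (h : ∀ W, Function.Injective (f.app W)) : Mono f := ⟨fun g g' hg => by
  apply Scheme.Modules.hom_ext
  intro W
  ext x
  exact h W (congrArg (fun φ => Scheme.Modules.Hom.app φ W x) hg)⟩

theorem app_injective_of_ne_zero [IsIntegral X] {L M : X.Modules} (hL : PicF.IsInvertible L)
    (hM : PicF.IsInvertible M) (f : L ⟶ M) (hf : f ≠ 0) (W : X.Opens) :
    Function.Injective (f.app W) := by
  choose U hU l hl using exists_frame_inv hL
  choose V hV m hm using exists_frame_inv hM
  have ha : ∀ x, ∃ a : Γ(X, U x ⊓ V x), f.app (U x ⊓ V x) (L.presheaf.map (homOfLE inf_le_left).op (l x)) =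
      a • M.presheaf.map (homOfLE inf_le_right).op (m x) := fun x => by
    obtain ⟨a, ha⟩ := (hm x (U x ⊓ V x) inf_le_right).2
      (f.app (U x ⊓ V x) (L.presheaf.map (homOfLE inf_le_left).op (l x)))
    exact ⟨a, ha.symm⟩
  choose a ha using ha
  have hloc : ∀ (x : X) (O : X.Opens) (h : O ≤ U x ⊓ V x) (c : Γ(X, O)),
      f.app O (c • L.presheaf.map (homOfLE (h.trans inf_le_left)).op (l x)) =
        (c * X.presheaf.map (homOfLE h).op (a x)) •
          M.presheaf.map (homOfLE (h.trans inf_le_right)).op (m x) := by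
    intro x O h c
    have h1 := congrArg (M.presheaf.map (homOfLE h).op) (ha x)
    have h2 := ConcreteCategory.congr_hom (f.mapPresheaf.naturality (homOfLE h).op)
      (L.presheaf.map (homOfLE inf_le_left).op (l x))
    have h3 := h2.trans h1
    rw [Scheme.Modules.map_smul] at h3
    rw [Scheme.Modules.Hom.app_smul, mul_smul]
    congr 1
    refine Eq.trans ?_ (h3.trans ?_)
    · show f.app O _ = f.app O (L.presheaf.map (homOfLE h).op (L.presheaf.map (homOfLE inf_le_left).op (l x)))
      rw [← ConcreteCategory.comp_apply (L.presheaf.map (homOfLE inf_le_left).op),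
        ← L.presheaf.map_comp]
      rfl
    · rw [← ConcreteCategory.comp_apply (M.presheaf.map (homOfLE inf_le_right).op),
        ← M.presheaf.map_comp]
      rfl
  by_cases hz : ∃ x, a x = 0
  · exfalso
    obtain ⟨x₀, hx₀⟩ := hz
    apply hf
    have hall : ∀ x, a x = 0 := by
      intro x
      haveI : Nonempty X := ⟨x⟩
      haveI hne : Nonempty (((U x ⊓ V x) ⊓ (U x₀ ⊓ V x₀) : X.Opens)) := by
        obtain ⟨z, hz⟩ := nonempty_preirreducible_inter (U x ⊓ V x).isOpen (U x₀ ⊓ V x₀).isOpen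
          ⟨x, hU x, hV x⟩ ⟨x₀, hU x₀, hV x₀⟩
        exact ⟨⟨z, hz⟩⟩
      set O := (U x ⊓ V x) ⊓ (U x₀ ⊓ V x₀)
      apply map_injective_of_isIntegral (X := X) (homOfLE (inf_le_left : O ≤ U x ⊓ V x))
      rw [map_zero]
      obtain ⟨c, hc⟩ := (hl x₀ O (inf_le_right.trans inf_le_left)).2
        (L.presheaf.map (homOfLE ((inf_le_left : O ≤ _).trans inf_le_left)).op (l x))
      have h0 := hloc x₀ O inf_le_right c
      simp only [hx₀, map_zero, mul_zero, zero_smul] at h0
      have h1 := hloc x O inf_le_left 1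
      rw [one_smul, one_mul] at h1
      apply (hm x O (inf_le_left.trans inf_le_right)).1
      show _ • _ = (0 : Γ(X, O)) • _
      rw [zero_smul, ← h1, ← hc]
      exact h0
    apply Scheme.Modules.hom_ext
    intro W
    ext s
    refine TopCat.Sheaf.eq_of_locally_eq' ⟨M.presheaf, M.isSheaf⟩ (fun x : W => W ⊓ (U x ⊓ V x)) W
      (fun x => homOfLE inf_le_left)
      (fun y hy => Opens.mem_iSup.mpr ⟨⟨y, hy⟩, hy, hU y, hV y⟩) _ _ fun x => ?_
    obtain ⟨c, hc⟩ := (hl x (W ⊓ (U x ⊓ V x)) (inf_le_right.trans inf_le_left)).2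
      (L.presheaf.map (homOfLE inf_le_left).op s)
    refine Eq.trans ?_ (map_zero _).symm
    refine (ConcreteCategory.congr_hom (f.mapPresheaf.naturality
      (homOfLE (inf_le_left : W ⊓ (U x ⊓ V x) ≤ W)).op) s).symm.trans ?_
    show f.app _ (L.presheaf.map _ s) = 0
    rw [← hc, hloc x _ inf_le_right c, hall, map_zero, mul_zero, zero_smul]
  · push Not at hz
    rw [injective_iff_map_eq_zero]
    intro s hs
    refine TopCat.Sheaf.eq_of_locally_eq' ⟨L.presheaf, L.isSheaf⟩ (fun x : W => W ⊓ (U x ⊓ V x)) W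
      (fun x => homOfLE inf_le_left)
      (fun y hy => Opens.mem_iSup.mpr ⟨⟨y, hy⟩, hy, hU y, hV y⟩) _ _ fun x => ?_
    set O := W ⊓ (U x ⊓ V x)
    haveI : Nonempty O := ⟨⟨(x : X), x.2, hU x, hV x⟩⟩
    obtain ⟨c, hc⟩ := (hl x O (inf_le_right.trans inf_le_left)).2
      (L.presheaf.map (homOfLE inf_le_left).op s)
    refine Eq.trans ?_ (map_zero _).symm
    show L.presheaf.map _ s = 0
    have h1 := ConcreteCategory.congr_hom (f.mapPresheaf.naturality
      (homOfLE (inf_le_left : O ≤ W)).op) s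
    have h2 : f.app O (L.presheaf.map (homOfLE (inf_le_left : O ≤ W)).op s) = 0 :=
      h1.trans ((congrArg _ hs).trans (map_zero (M.presheaf.map (homOfLE (inf_le_left : O ≤ W)).op).hom))
    rw [← hc, hloc x O inf_le_right c] at h2
    have h3 := (hm x O (inf_le_right.trans inf_le_right)).1
      (a₁ := c * X.presheaf.map (homOfLE (inf_le_right : O ≤ _)).op (a x)) (a₂ := 0)
      (by simpa using h2)
    have h4 : c = 0 := (mul_eq_zero.mp h3).resolve_right fun h =>
      hz x ((map_eq_zero_iff _ (map_injective_of_isIntegral (X := X)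
        (homOfLE (inf_le_right : O ≤ _)))).mp h)
    rw [← hc, h4]
    exact zero_smul _ _

theorem mono_of_ne_zero [IsIntegral X] {L M : X.Modules} (hL : PicF.IsInvertible L)
    (hM : PicF.IsInvertible M) (f : L ⟶ M) (hf : f ≠ 0) : Mono f :=
  mono_of_app_injective f (app_injective_of_ne_zero hL hM f hf)

theorem exists_scalar {k : Type u} [Field k] [IsAlgClosed k] [X.Over (Spec (CommRingCat.of k))]
    [IsIntegral X] [IsProper (X ↘ Spec (CommRingCat.of k))] {L : X.Modules}
    (hL : PicF.IsInvertible L) :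
    letI := CurveEnd.kAlgebra (k := k) L
    Function.Bijective (algebraMap k (End L)) := by
  letI := CurveEnd.kAlgebra (k := k) L
  haveI : Nontrivial (End L) := ⟨⟨𝟙 L, 0, fun h =>
    CurveEnd.not_isZero L 1 one_pos (isFinLocFreeOfRank_one hL) ((IsZero.iff_id_eq_zero L).mpr h)⟩⟩
  haveI : NoZeroDivisors (End L) := ⟨fun {f g} h => by
    by_cases hf : f = 0
    · exact Or.inl hf
    right
    haveI := mono_of_ne_zero hL hL f hf
    apply (cancel_mono (f : L ⟶ L)).mp
    rw [Limits.zero_comp]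
    exact h⟩
  haveI : IsDomain (End L) := NoZeroDivisors.to_isDomain _
  haveI : Algebra.IsIntegral k (End L) := ⟨fun f => by
    obtain ⟨p, hp, hpf⟩ := CurveEnd.exists_aeval_eq_zero (k := k) L 1 (isFinLocFreeOfRank_one hL) f
    exact ⟨p, hp, hpf⟩⟩
  exact IsAlgClosed.algebraMap_bijective_of_isIntegral (k := k) (K := End L)

end Groth.Agent.InvEnd
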