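import Groth.Agent.AModX.Res
import Groth.Agent.QCoh.ClosedPush
import Groth.Agent.QCoh.DevissageTheta

/-!
Morphisms of modules from compatible maps on a basis of opens.
-/

set_option linter.style.haveILetI false
set_option linter.unusedSectionVars false
set_option backward.isDefEq.respectTransparency false
set_option backward.isDefEq.respectTransparency.types false

universe u

open CategoryTheory CategoryTheory.Limits AlgebraicGeometry TopologicalSpace Opposite
open Groth.Agent.AModX

noncomputable section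

namespace Groth.Agent.BasisHom

variable {X : Scheme.{u}} {M N : X.Modules} {B : Set X.Opens} (hB : Opens.IsBasis B)

include hB in
theorem eq_of_basis {V : X.Opens} (x y : Γ(M, V))
    (h : ∀ W ∈ B, ∀ i : W ≤ V, res M i x = res M i y) : x = y :=
  eq_of_locally x y fun p hp => by
    obtain ⟨W, hW, hpW, hWV⟩ := Opens.isBasis_iff_nbhd.1 hB hp
    exact ⟨W, hWV, hpW, h W hW hWV⟩

variable (g : ∀ W ∈ B, Γ(M, W) → Γ(N, W))
  (hres : ∀ (W : X.Opens) (hW : W ∈ B) (W' : X.Opens) (hW' : W' ∈ B) (i : W' ≤ W) (x : Γ(M, W)),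
    res N i (g W hW x) = g W' hW' (res M i x))

include hB hres in
theorem exists_app (V : X.Opens) (x : Γ(M, V)) :
    ∃! y : Γ(N, V), ∀ (W : X.Opens) (hW : W ∈ B) (i : W ≤ V), res N i y = g W hW (res M i x) := by
  let σ := {W : X.Opens // W ∈ B ∧ W ≤ V}
  obtain ⟨y, hy, hu⟩ := existsUnique_glue (M := N) (fun W : σ => W.1) (fun W => W.2.2)
    (fun p hp => by
      obtain ⟨W, hW, hpW, hWV⟩ := Opens.isBasis_iff_nbhd.1 hB hp
      exact ⟨⟨W, hW, hWV⟩, hpW⟩)
    (fun W => g W.1 W.2.1 (res M W.2.2 x)) fun W W' => by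
      refine eq_of_basis hB _ _ fun W'' hW'' i => ?_
      rw [res_res, res_res, hres _ _ _ hW'', hres _ _ _ hW'', res_res, res_res]
  refine ⟨y, fun W hW i => hy ⟨W, hW, i⟩, fun y' hy' => hu y' fun W => hy' W.1 W.2.1 W.2.2⟩

include hB hres in
/-- Gluing compatible linear maps on a basis. -/
theorem exists_hom (hadd : ∀ W hW x x', g W hW (x + x') = g W hW x + g W hW x')
    (hsmul : ∀ W hW (r : Γ(X, W)) x, g W hW (r • x) = r • g W hW x) :
    ∃ φ : M ⟶ N, ∀ W (hW : W ∈ B) x, φ.app W x = g W hW x := by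
  choose G hG hU using exists_app hB g hres
  have hGadd : ∀ V x x', G V (x + x') = G V x + G V x' := fun V x x' =>
    (hU V _ _ fun W hW i => by rw [map_add, map_add, hadd, hG, hG]).symm
  have hGsmul : ∀ V (r : Γ(X, V)) x, G V (r • x) = r • G V x := fun V r x =>
    (hU V _ _ fun W hW i => by rw [res_smul, res_smul, hsmul, hG]).symm
  have hGres : ∀ V V' (i : V' ≤ V) x, res N i (G V x) = G V' (res M i x) := fun V V' i x =>
    hU V' _ _ fun W hW j => by rw [res_res, res_res, hG]
  let ap : M.presheaf ⟶ N.presheaf :=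
    { app := fun V => AddCommGrpCat.ofHom (AddMonoidHom.mk' (G V.unop) (hGadd V.unop))
      naturality := fun V V' i => by
        ext x
        exact (hGres V.unop V'.unop i.unop.le x).symm }
  let φ : M ⟶ N := ⟨PresheafOfModules.homMk ap fun V r x => hGsmul V.unop r x⟩
  refine ⟨φ, fun W hW x => ?_⟩
  show G W x = _
  have := hG W x W hW le_rfl
  rwa [res_self, res_self] at this

include hB in
theorem mono_of_basis (φ : M ⟶ N) (h : ∀ W ∈ B, ∀ x, φ.app W x = 0 → x = 0) : Mono φ :=
  QCoh.mono_of_isBasis φ hB fun W hW => (injective_iff_map_eq_zero (φ.app W).hom).2 (h W hW)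

include hB in
theorem epi_of_basis (φ : M ⟶ N) (h : ∀ W ∈ B, ∀ y, ∃ x, φ.app W x = y) : Epi φ := by
  refine Preadditive.epi_of_cancel_zero _ fun {Z} u hu => Scheme.Modules.hom_ext _ _ fun V => ?_
  ext y
  refine eq_of_basis hB _ _ fun W hW i => ?_
  obtain ⟨x, hx⟩ := h W hW (res N i y)
  show res Z i (u.app V y) = res Z i ((0 : N ⟶ Z).app V y)
  rw [← app_res, ← app_res, ← hx]
  exact congr(($hu).app W x)

theorem exists_app_eq_of_exact {S : ShortComplex X.Modules} (hS : S.Exact) [Mono S.f] (V : X.Opens) (x : Γ(S.X₂, V))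
    (hx : S.g.app V x = 0) : ∃ a, S.f.app V a = x := by
  haveI : PreservesFiniteColimits (QCoh.toAbFunctor X) :=
    (QCoh.toAbFunctor X).preservesFiniteColimits_of_preservesHomology
  exact TopCat.Sheaf.sections_exact_of_left_exact (U := V) (S := S.map (QCoh.toAbFunctor X))
    (hS.map (QCoh.toAbFunctor X)) ((QCoh.toAbFunctor X).map_mono S.f) x hx

include hB in
theorem exact_of_basis (S : ShortComplex X.Modules)
    (h : ∀ W ∈ B, ∀ x, S.g.app W x = 0 → ∃ a, S.f.app W a = x) : S.Exact := by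
  rw [ShortComplex.exact_iff_epi_kernel_lift]
  refine epi_of_basis hB _ fun W hW y => ?_
  have hy : S.g.app W ((kernel.ι S.g).app W y) = 0 := congr(($(kernel.condition S.g)).app W y)
  obtain ⟨a, ha⟩ := h W hW _ hy
  refine ⟨a, QCoh.app_injective (kernel.ι S.g) W ?_⟩
  exact (congr(($(kernel.lift_ι S.g S.f S.zero)).app W a)).trans ha

end Groth.Agent.BasisHom
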