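import Groth.Agent.Lib.Euler

/-!
Degrees of invertible modules on integral proper curves: monotonicity along nonzero maps.
-/

set_option linter.style.haveILetI false
set_option linter.unusedSectionVars false

universe u

open CategoryTheory CategoryTheory.Limits AlgebraicGeometry TopologicalSpace Opposite

namespace Groth.Agent.CurveDeg

variable {X : Scheme.{u}}

theorem isCoh_of_isFinLocFree [IsLocallyNoetherian X] {M : X.Modules} (h : FlatMod.IsFinLocFree M) :
    Coh.IsCoh M :=
  QCoh.isCoh_iff_isFP.2 (QCoh.isFP_of_isFinLocFree h)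

theorem isCoh_of_isInvertible [IsLocallyNoetherian X] {L : X.Modules} (hL : PicF.IsInvertible L) :
    Coh.IsCoh L :=
  isCoh_of_isFinLocFree fun x =>
    let ⟨U, hx, e⟩ := InvEnd.isFinLocFreeOfRank_one hL x
    ⟨U, 1, hx, e⟩

theorem isInvertible_structureModule : PicF.IsInvertible (Coh.structureModule X) := fun x => by
  refine ⟨⊤, trivial, ?_⟩
  exact ⟨Scheme.Modules.restrictUnitIso _⟩

/-- A nonzero map of invertible modules is onto over some non-empty open. -/
theorem exists_open_surjective [IsIntegral X] {N L : X.Modules} (hN : PicF.IsInvertible N)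
    (hL : PicF.IsInvertible L) (φ : N ⟶ L) (hφ : φ ≠ 0) :
    ∃ W : X.Opens, Nonempty W ∧ ∀ V : X.Opens, V ≤ W → Function.Surjective (φ.app V) := by
  obtain ⟨x⟩ : Nonempty X := inferInstance
  obtain ⟨U, hU, l, hl⟩ := InvEnd.exists_frame_inv hN x
  obtain ⟨U', hU', m, hm⟩ := InvEnd.exists_frame_inv hL x
  set O := U ⊓ U'
  haveI : Nonempty O := ⟨⟨x, hU, hU'⟩⟩
  obtain ⟨a, ha⟩ := (hm O inf_le_right).2 (φ.app O (N.presheaf.map (homOfLE inf_le_left).op l))
  have ha0 : a ≠ 0 := by
    rintro rfl
    apply one_ne_zero (α := Γ(X, O))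
    apply (hl O inf_le_left).1
    apply InvEnd.app_injective_of_ne_zero hN hL φ hφ O
    show φ.app O ((1 : Γ(X, O)) • N.presheaf.map _ l) = φ.app O ((0 : Γ(X, O)) • N.presheaf.map _ l)
    rw [one_smul, zero_smul, map_zero, ← ha]
    exact zero_smul _ _
  refine ⟨X.basicOpen a, ?_, fun V hV y => ?_⟩
  · obtain ⟨z, hz⟩ := (TopologicalSpace.Opens.ne_bot_iff_nonempty _).1
      fun h : X.basicOpen a = ⊥ => ha0 ((basicOpen_eq_bot_iff a).1 h)
    exact ⟨⟨z, hz⟩⟩
  · have hVO : V ≤ O := hV.trans (X.basicOpen_le a)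
    have hunit : IsUnit (X.presheaf.map (homOfLE hVO).op a) := by
      have h := RingedSpace.isUnit_res_basicOpen X.toRingedSpace a
      have h2 := h.map (X.presheaf.map (homOfLE hV).op).hom
      rw [show (X.presheaf.map (homOfLE hVO).op) =
        X.presheaf.map (homOfLE (X.basicOpen_le a)).op ≫ X.presheaf.map (homOfLE hV).op by
          rw [← X.presheaf.map_comp]; rfl]
      exact h2
    obtain ⟨c, hc⟩ := (hm V (hVO.trans inf_le_right)).2 y
    obtain ⟨v, hv⟩ := hunit
    refine ⟨(c * (↑v⁻¹ : Γ(X, V))) • N.presheaf.map (homOfLE (hVO.trans inf_le_left)).op l, ?_⟩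
    rw [Scheme.Modules.Hom.app_smul]
    have h1 := congrArg (L.presheaf.map (homOfLE hVO).op) ha
    have h2 := ConcreteCategory.congr_hom (φ.mapPresheaf.naturality (homOfLE hVO).op)
      (N.presheaf.map (homOfLE (inf_le_left : O ≤ U)).op l)
    have h3 : φ.app V (N.presheaf.map (homOfLE (hVO.trans inf_le_left)).op l) =
        X.presheaf.map (homOfLE hVO).op a • L.presheaf.map (homOfLE (hVO.trans inf_le_right)).op m := by
      refine Eq.trans ?_ (h2.trans (h1.symm.trans ?_))
      · show φ.app V _ = φ.app V (N.presheaf.map (homOfLE hVO).op (N.presheaf.map _ l))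
        rw [← ConcreteCategory.comp_apply (N.presheaf.map (homOfLE (inf_le_left : O ≤ U)).op),
          ← N.presheaf.map_comp]
        rfl
      · show L.presheaf.map _ (a • L.presheaf.map _ m) = _
        rw [Scheme.Modules.map_smul,
          ← ConcreteCategory.comp_apply (L.presheaf.map (homOfLE (inf_le_right : O ≤ U')).op),
          ← L.presheaf.map_comp]
        rfl
    rw [h3, ← mul_smul, ← hv, mul_assoc, Units.inv_mul, mul_one]
    exact hc

theorem topologicalKrullDim_le_zero_of_ne_univ {Y : Type*} [TopologicalSpace Y] [IrreducibleSpace Y]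
    (h1 : topologicalKrullDim Y ≤ 1) {T : Set Y} (hT : IsClosed T) (hne : T ≠ Set.univ) :
    topologicalKrullDim T ≤ 0 := by
  rw [topologicalKrullDim]
  by_contra h
  obtain ⟨a, b, hab⟩ := Order.krullDim_pos_iff.1 (not_le.1 h)
  have hemb := hT.isClosedEmbedding_subtypeVal
  let a' := IrreducibleCloseds.map _ hemb.continuous a
  let b' := IrreducibleCloseds.map _ hemb.continuous b
  have hlt : a' < b' := IrreducibleCloseds.map_strictMono_of_isInducing hemb.isInducing hab
  let top : IrreducibleCloseds Y := ⟨Set.univ, IrreducibleSpace.isIrreducible_univ Y, isClosed_univ⟩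
  have hbt : b' < top := by
    refine lt_of_le_of_ne (Set.subset_univ _) fun h => hne ?_
    have h2 : (b' : Set Y) ⊆ T := closure_minimal (by rintro _ ⟨z, -, rfl⟩; exact z.2) hT
    rw [h] at h2
    exact Set.univ_subset_iff.1 h2
  let c : LTSeries (IrreducibleCloseds Y) :=
    ⟨2, ![a', b', top], fun i => by fin_cases i; exacts [hlt, hbt]⟩
  have := (Order.LTSeries.length_le_krullDim c).trans h1
  exact absurd this (by norm_num [c])

variable (k : Type u) [Field k] [X.Over (Spec (CommRingCat.of k))] [IsIntegral X]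
  [IsProper (X ↘ Spec (CommRingCat.of k))]

theorem euler_le_and_isIso (hdim : topologicalKrullDim X ≤ 1) {N L : X.Modules}
    (hN : PicF.IsInvertible N) (hL : PicF.IsInvertible L) (φ : N ⟶ L) (hφ : φ ≠ 0) :
    Curv2.euler k X N ≤ Curv2.euler k X L ∧
      (Curv2.euler k X N = Curv2.euler k X L → IsIso φ) := by
  haveI : IsLocallyNoetherian X :=
    LocallyOfFiniteType.isLocallyNoetherian (X ↘ Spec (CommRingCat.of k))
  have hNc := isCoh_of_isInvertible hN
  have hLc := isCoh_of_isInvertible hL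
  have hQ : Coh.IsCoh (cokernel φ) := QCoh.isCoh_cokernel hNc.1 hLc φ
  haveI : Mono φ := InvEnd.mono_of_ne_zero hN hL φ hφ
  let S : ShortComplex X.Modules := ShortComplex.mk φ (cokernel.π φ) (cokernel.condition φ)
  have hS : S.ShortExact :=
    { exact := ShortComplex.exact_of_g_is_cokernel _ (cokernelIsCokernel φ) }
  have hdimQ : topologicalKrullDim (CohB1.support (cokernel φ)) ≤ 0 := by
    refine topologicalKrullDim_le_zero_of_ne_univ hdim (QCoh.isClosed_support_of_isFT hQ.1 hQ.2)
      fun hu => ?_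
    obtain ⟨W, ⟨⟨w, hw⟩⟩, hW⟩ := exists_open_surjective hN hL φ hφ
    obtain ⟨_, ⟨V, hV, rfl⟩, hwV, hVW⟩ :=
      X.isBasis_affineOpens.exists_subset_of_mem_open hw W.isOpen
    refine absurd (hu.symm.subset (Set.mem_univ w)) ((QCoh.notMem_support_iff hQ.1 hV hwV).2 fun m => ?_)
    obtain ⟨l, rfl⟩ := QCoh.app_surjective_of_epi hLc.1 hQ.1 (cokernel.π φ) hV m
    obtain ⟨n, rfl⟩ := hW V hVW l
    refine ⟨1, by rw [X.basicOpen_of_isUnit isUnit_one]; exact hwV, ?_⟩
    rw [one_smul]
    exact congrArg (fun ψ => Scheme.Modules.Hom.app ψ V n) (cokernel.condition φ)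
  have hgood := Euler.good_of_dim_le_zero k hQ hdimQ
  obtain ⟨h0, hz⟩ := Euler.euler_nonneg_of_good k hQ hgood
  have hadd := Euler.euler_add k hS hNc hLc hQ
  change Curv2.euler k X L = Curv2.euler k X N + Curv2.euler k X (cokernel φ) at hadd
  refine ⟨by omega, fun heq => ?_⟩
  haveI : Epi φ := Preadditive.epi_of_isZero_cokernel φ (hz (by omega))
  exact isIso_of_mono_of_epi φ

theorem deg_le_and_isIso (hdim : topologicalKrullDim X ≤ 1) {N L : X.Modules}
    (hN : PicF.IsInvertible N) (hL : PicF.IsInvertible L) (φ : N ⟶ L) (hφ : φ ≠ 0) :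
    Curv2.deg k X N 1 ≤ Curv2.deg k X L 1 ∧
      (Curv2.deg k X N 1 = Curv2.deg k X L 1 → IsIso φ) := by
  obtain ⟨h1, h2⟩ := euler_le_and_isIso k hdim hN hL φ hφ
  unfold Curv2.deg
  exact ⟨by omega, fun h => h2 (by omega)⟩

theorem deg_structureModule : Curv2.deg k X (Coh.structureModule X) 1 = 0 := by
  simp [Curv2.deg]

end Groth.Agent.CurveDeg
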