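import Groth.Agent.H23.Frame
import Mathlib.LinearAlgebra.Charpoly.ToMatrix
import Mathlib.FieldTheory.IsAlgClosed.Basic
import Mathlib.AlgebraicGeometry.Morphisms.Proper

/-!
Endomorphisms of locally free modules: Cayley-Hamilton over the scalars, and Fitting's lemma.
-/

set_option linter.style.haveILetI false

universe u

open CategoryTheory CategoryTheory.Limits AlgebraicGeometry TopologicalSpace Opposite Polynomial

namespace Groth.Agent.CurveEnd

variable {X : Scheme.{u}} (E : X.Modules)

/-- Multiplication by a global function, as a morphism of modules. -/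
noncomputable def smulMod (c : Γ(X, ⊤)) : E ⟶ E :=
  ⟨PresheafOfModules.homMk (Coh.smulAb E c).hom fun U r m => by
    show Coh.resTop X U c • r • (show E.val.obj U from m) = r • Coh.resTop X U c • (show E.val.obj U from m)
    rw [← mul_smul, ← mul_smul]
    congr 1
    exact mul_comm (G := X.presheaf.obj U) _ _⟩

theorem smulMod_app (c : Γ(X, ⊤)) (W : X.Opens) (x : Γ(E, W)) :
    (smulMod E c).app W x = (X.presheaf.map (homOfLE (le_top : W ≤ ⊤)).op c : Γ(X, W)) • x := rfl

theorem toSheaf_smulMod (c : Γ(X, ⊤)) :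
    (SheafOfModules.toSheaf X.ringCatSheaf).map (smulMod E c) = Coh.smulAb E c := rfl

/-- The scalar endomorphisms. -/
noncomputable def scalar : Γ(X, ⊤) →+* End E where
  toFun := smulMod E
  map_one' := by
    apply Scheme.Modules.hom_ext
    intro W
    ext x
    show (smulMod E 1).app W x = x
    rw [smulMod_app, map_one, one_smul]
  map_mul' a b := by
    apply Scheme.Modules.hom_ext
    intro W
    ext x
    show (smulMod E (a * b)).app W x = (smulMod E a).app W ((smulMod E b).app W x)
    simp only [smulMod_app, map_mul, mul_smul]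
  map_zero' := by
    apply Scheme.Modules.hom_ext
    intro W
    ext x
    show (smulMod E 0).app W x = 0
    rw [smulMod_app, map_zero, zero_smul]
  map_add' a b := by
    apply Scheme.Modules.hom_ext
    intro W
    ext x
    show (smulMod E (a + b)).app W x = (smulMod E a).app W x + (smulMod E b).app W x
    simp only [smulMod_app, map_add, add_smul]

theorem scalar_commute (c : Γ(X, ⊤)) (f : End E) : scalar E c * f = f * scalar E c := by
  apply Scheme.Modules.hom_ext
  intro W
  ext x
  show (smulMod E c).app W ((f : E ⟶ E).app W x) = (f : E ⟶ E).app W ((smulMod E c).app W x)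
  rw [smulMod_app, smulMod_app, Scheme.Modules.Hom.app_smul]

noncomputable instance endAlgebra : Algebra Γ(X, ⊤) (End E) :=
  (scalar E).toAlgebra' fun c f => scalar_commute E c f

/-- Evaluation of endomorphisms on an open. -/
noncomputable def evalAt (W : X.Opens) : End E →+* Module.End Γ(X, W) Γ(E, W) where
  toFun φ :=
    { toFun := fun x => (φ : E ⟶ E).app W x
      map_add' := fun x y => map_add _ x y
      map_smul' := fun r x => Scheme.Modules.Hom.app_smul (φ : E ⟶ E) r x }
  map_one' := rfl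
  map_mul' _ _ := rfl
  map_zero' := rfl
  map_add' _ _ := rfl

theorem evalAt_aeval (W : X.Opens) (f : End E) (p : Γ(X, ⊤)[X]) :
    evalAt E W (aeval f p) =
      aeval (evalAt E W f) (p.map (X.presheaf.map (homOfLE (le_top (a := W))).op).hom) :=
  map_aeval_eq_aeval_map (RingHom.ext fun c => LinearMap.ext fun x =>
    (smulMod_app E c W x).symm) p f

/-- Linear combinations of a frame, as a linear map. -/
noncomputable def combLin {r : ℕ} {W : X.Opens} (s : Fin r → Γ(E, W)) (V : X.Opens) (hV : V ≤ W) :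
    (Fin r → Γ(X, V)) →ₗ[Γ(X, V)] Γ(E, V) where
  toFun := H23.Frame.comb E s V hV
  map_add' c c' := by simp [H23.Frame.comb, add_smul, Finset.sum_add_distrib]
  map_smul' a c := by simp [H23.Frame.comb, Finset.smul_sum, mul_smul]

/-- The basis given by a frame. -/
noncomputable def frameBasis {r : ℕ} (W : X.Opens) (s : Fin r → Γ(E, W))
    (hs : H23.Frame.IsFrame E s) (V : X.Opens) (hV : V ≤ W) :
    Module.Basis (Fin r) Γ(X, V) Γ(E, V) :=
  Module.Basis.ofEquivFun (LinearEquiv.ofBijective (combLin E s V hV) (hs V hV)).symm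

/-- A monic polynomial which restricts to the characteristic polynomial on frames. -/
theorem exists_monic_aeval_eq_zero [IsIntegral X] (r : ℕ)
    (hE : FlatMod.IsFinLocFreeOfRank r E) (f : End E) :
    ∃ p : Γ(X, ⊤)[X], p.Monic ∧ aeval f p = 0 := by
  classical
  let S := { W : X.Opens // ∃ s : Fin r → Γ(E, W), H23.Frame.IsFrame E s }
  have hS : ∀ x : X, ∃ W : S, x ∈ W.1 := fun x => by
    obtain ⟨U, hx, ⟨e⟩⟩ := hE x
    exact ⟨⟨U, H23.Frame.exists_frame e⟩, hx⟩
  have hsub : ∀ (U : S) (W : X.Opens), W ≤ U.1 → ∃ s : Fin r → Γ(E, W), H23.Frame.IsFrame E s := by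
    rintro ⟨U, s, hs⟩ W hW
    refine ⟨fun i => E.presheaf.map (homOfLE hW).op (s i), fun V hV => ?_⟩
    convert hs V (hV.trans hW) using 1
    funext c
    refine Finset.sum_congr rfl fun i _ => ?_
    rw [← ConcreteCategory.comp_apply, ← E.presheaf.map_comp]
    rfl
  let B : ∀ (W : X.Opens) (s : Fin r → Γ(E, W)), H23.Frame.IsFrame E s →
      ∀ (V : X.Opens), V ≤ W → Module.Basis (Fin r) Γ(X, V) Γ(E, V) := frameBasis E
  have hB : ∀ (W : X.Opens) (s : Fin r → Γ(E, W)) (hs : H23.Frame.IsFrame E s) (V : X.Opens)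
      (hV : V ≤ W) (i : Fin r), B W s hs V hV i = E.presheaf.map (homOfLE hV).op (s i) := by
    intro W s hs V hV i
    simp only [B, frameBasis, combLin, Module.Basis.coe_ofEquivFun, LinearEquiv.symm_symm, LinearEquiv.ofBijective_apply,
      LinearMap.coe_mk, AddHom.coe_mk, H23.Frame.comb]
    rw [Finset.sum_eq_single i]
    · simp
    · intro j _ hj; simp [hj]
    · simp
  let M : ∀ (W : X.Opens) (s : Fin r → Γ(E, W)), H23.Frame.IsFrame E s →
      ∀ (V : X.Opens), V ≤ W → Matrix (Fin r) (Fin r) Γ(X, V) := fun W s hs V hV =>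
    LinearMap.toMatrix (B W s hs V hV) (B W s hs V hV) (evalAt E V f)
  have hM : ∀ (W : X.Opens) (s : Fin r → Γ(E, W)) (hs : H23.Frame.IsFrame E s) (V : X.Opens)
      (hV : V ≤ W), M W s hs V hV =
        (M W s hs W le_rfl).map (X.presheaf.map (homOfLE hV).op).hom := by
    intro W s hs V hV
    let ρ := (X.presheaf.map (homOfLE hV).op).hom
    refine (LinearMap.toMatrix (B W s hs V hV) (B W s hs V hV)).symm.injective ?_
    refine ((LinearMap.toMatrix (B W s hs V hV) (B W s hs V hV)).symm_apply_apply _).trans ?_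
    refine (B W s hs V hV).ext fun i => ?_
    rw [LinearMap.toMatrix_symm, Matrix.toLin_self, hB]
    have h1 : ∑ j, M W s hs W le_rfl j i • B W s hs W le_rfl j =
        (f : E ⟶ E).app W (B W s hs W le_rfl i) := by
      simp only [M, LinearMap.toMatrix_apply]
      exact (B W s hs W le_rfl).sum_repr _
    have h2 := congrArg (E.presheaf.map (homOfLE hV).op) h1
    have h3 : ∀ j, E.presheaf.map (homOfLE hV).op (B W s hs W le_rfl j) =
        E.presheaf.map (homOfLE hV).op (s j) := fun j => by
      rw [hB, ← ConcreteCategory.comp_apply, ← E.presheaf.map_comp]; rfl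
    rw [map_sum] at h2
    simp only [Scheme.Modules.map_smul, h3] at h2
    rw [← show (f : E ⟶ E).app V (E.presheaf.map (homOfLE hV).op (B W s hs W le_rfl i)) =
      E.presheaf.map (homOfLE hV).op ((f : E ⟶ E).app W (B W s hs W le_rfl i)) from
        ConcreteCategory.congr_hom ((f : E ⟶ E).mapPresheaf.naturality (homOfLE hV).op) _, h3] at h2
    simp only [hB]
    exact h2.symm
  let χ : ∀ W : S, Γ(X, W.1)[X] := fun W =>
    (M W.1 W.2.choose W.2.choose_spec W.1 le_rfl).charpoly
  have hres : ∀ (U : S) (V : X.Opens) (hV : V ≤ U.1),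
      (χ U).map (X.presheaf.map (homOfLE hV).op).hom = χ ⟨V, hsub U V hV⟩ := by
    intro U V hV
    simp only [χ, ← Matrix.charpoly_map, ← hM]
    haveI := Module.Free.of_basis (B U.1 U.2.choose U.2.choose_spec V hV)
    haveI := Module.Finite.of_basis (B U.1 U.2.choose U.2.choose_spec V hV)
    simp only [M, LinearMap.charpoly_toMatrix]
  have hcompat : ∀ i : ℕ, TopCat.Presheaf.IsCompatible X.sheaf.presheaf (fun W : S => W.1)
      (fun W => (χ W).coeff i) := by
    intro i U V
    have h := (hres U (U.1 ⊓ V.1) inf_le_left).trans (hres V (U.1 ⊓ V.1) inf_le_right).symm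
    have h' := congrArg (fun q : Γ(X, U.1 ⊓ V.1)[X] => q.coeff i) h
    simp only [Polynomial.coeff_map] at h'
    exact h'
  have hglue : ∀ i : ℕ, ∃ c : Γ(X, ⊤), ∀ W : S,
      X.presheaf.map (homOfLE le_top).op c = (χ W).coeff i := fun i => by
    obtain ⟨c, hc, -⟩ := TopCat.Sheaf.existsUnique_gluing' X.sheaf (fun W : S => W.1) ⊤
      (fun W => homOfLE le_top) (fun x _ => Opens.mem_iSup.mpr (hS x)) _ (hcompat i)
    exact ⟨c, hc⟩
  choose c hc using hglue
  let p : Γ(X, ⊤)[X] := Polynomial.X ^ r + ∑ i : Fin r, C (c i) * Polynomial.X ^ (i : ℕ)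
  have hpm : p.Monic := monic_X_pow_add (degree_sum_fin_lt _)
  have hp : ∀ W : S, p.map (X.presheaf.map (homOfLE (le_top (a := W.1))).op).hom = χ W := by
    intro W
    rcases subsingleton_or_nontrivial Γ(X, W.1) with h | h
    · exact Subsingleton.elim _ _
    have hm : (χ W).Monic := Matrix.charpoly_monic _
    have hd : (χ W).natDegree = r := by
      simp [χ, Matrix.charpoly_natDegree_eq_dim]
    conv_rhs => rw [hm.as_sum, hd]
    rw [← Fin.sum_univ_eq_sum_range (fun i => C ((χ W).coeff i) * Polynomial.X ^ i)]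
    simp only [p, Polynomial.map_add, Polynomial.map_pow, Polynomial.map_X, Polynomial.map_sum,
      Polynomial.map_mul, Polynomial.map_C]
    congr 1
    refine Finset.sum_congr rfl fun i _ => ?_
    congr 2
    exact hc i W
  refine ⟨p, hpm, ?_⟩
  apply Scheme.Modules.hom_ext
  intro W
  ext x
  refine TopCat.Sheaf.eq_of_locally_eq' ⟨E.presheaf, E.isSheaf⟩ (fun V : S => W ⊓ V.1) W
    (fun V => homOfLE inf_le_left) (fun y hy => ?_) _ _ fun V => ?_
  · obtain ⟨V, hV⟩ := hS y
    exact Opens.mem_iSup.mpr ⟨V, hy, hV⟩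
  · let V' : S := ⟨W ⊓ V.1, hsub V _ inf_le_right⟩
    haveI := Module.Free.of_basis (B V'.1 V'.2.choose V'.2.choose_spec V'.1 le_rfl)
    haveI := Module.Finite.of_basis (B V'.1 V'.2.choose V'.2.choose_spec V'.1 le_rfl)
    have h0 : evalAt E V'.1 (aeval f p) = 0 := by
      rw [evalAt_aeval, hp V']
      simp only [χ, M, LinearMap.charpoly_toMatrix]
      exact LinearMap.aeval_self_charpoly _
    have h1 := LinearMap.congr_fun h0 (E.presheaf.map (homOfLE inf_le_left).op x)
    have h2 := ConcreteCategory.congr_hom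
      (((aeval f p : End E) : E ⟶ E).mapPresheaf.naturality
        (homOfLE (inf_le_left : W ⊓ V.1 ≤ W)).op) x
    exact (h2.symm.trans h1).trans (map_zero _).symm

theorem isUnit_of_aeval_eq_zero {k A : Type*} [Field k] [Ring A] [Algebra k A] (f : A) (p : k[X])
    (h : aeval f p = 0) (h0 : p.coeff 0 ≠ 0) : IsUnit f := by
  have hp : p = Polynomial.X * p.divX + C (p.coeff 0) := (X_mul_divX_add p).symm
  rw [hp, map_add, map_mul, aeval_X, aeval_C, add_eq_zero_iff_eq_neg] at h
  have hu : IsUnit (f * aeval f p.divX) := h ▸ ((IsUnit.mk0 _ h0).map (algebraMap k A)).neg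
  have hc : Commute f (aeval f p.divX) := by
    simpa using (Commute.all Polynomial.X p.divX).map (aeval f)
  exact (hc.isUnit_mul_iff.mp hu).1

/-- Fitting: in an algebra without non-trivial idempotents, an algebraic element is a unit or
nilpotent. -/
theorem isUnit_or_isNilpotent {k A : Type*} [Field k] [Ring A] [Algebra k A]
    (hidem : ∀ e : A, e * e = e → e = 0 ∨ e = 1) (f : A) (p : k[X]) (hp : p ≠ 0)
    (h : aeval f p = 0) : IsUnit f ∨ IsNilpotent f := by
  obtain ⟨q, hq, hnd⟩ := exists_eq_pow_rootMultiplicity_mul_and_not_dvd p hp 0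
  rw [map_zero, sub_zero] at hq hnd
  set m := p.rootMultiplicity 0
  rcases Nat.eq_zero_or_pos m with hm | hm
  · refine Or.inl (isUnit_of_aeval_eq_zero f p h ?_)
    rw [hq, hm, pow_zero, one_mul]
    exact fun h0 => hnd (X_dvd_iff.mpr h0)
  obtain ⟨a, b, hab⟩ := ((prime_X.irreducible.coprime_iff_not_dvd).mpr hnd).pow_left (m := m)
  have he : aeval f (a * Polynomial.X ^ m) * aeval f (a * Polynomial.X ^ m) =
      aeval f (a * Polynomial.X ^ m) := by
    rw [← map_mul, ← sub_eq_zero, ← map_sub]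
    have : a * Polynomial.X ^ m * (a * Polynomial.X ^ m) - a * Polynomial.X ^ m = p * (-(a * b)) := by
      rw [hq]; linear_combination (a * Polynomial.X ^ m) * hab
    rw [this, map_mul, h, zero_mul]
  rcases hidem _ he with h0 | h1
  · refine Or.inr ⟨m, ?_⟩
    have h1 : aeval f (b * q) = 1 := by
      have := congrArg (aeval f) hab
      rwa [map_add, h0, zero_add, map_one] at this
    have h2 : aeval f (Polynomial.X ^ m * (b * q) : k[X]) = 0 := by
      rw [show Polynomial.X ^ m * (b * q) = b * p by rw [hq]; ring, map_mul, h, mul_zero]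
    rwa [map_mul, h1, mul_one, map_pow, aeval_X] at h2
  · obtain ⟨j, hj⟩ : ∃ j, m = j + 1 := ⟨m - 1, by omega⟩
    refine Or.inl (isUnit_iff_exists.mpr ⟨aeval f (a * Polynomial.X ^ j), ?_, ?_⟩)
    · nth_rewrite 1 [← aeval_X (R := k) f]
      rw [← map_mul, ← h1, hj]
      congr 1
      ring
    · nth_rewrite 2 [← aeval_X (R := k) f]
      rw [← map_mul, ← h1, hj]
      congr 1
      ring

theorem isNilpotent_zero_or_one_idem {C : Type*} [Category C] [Abelian C] {E : C}
    (hind : ∀ E₁ E₂ : C, Nonempty (E ≅ E₁ ⊞ E₂) → IsZero E₁ ∨ IsZero E₂) (e : End E)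
    (he : e * e = e) : e = 0 ∨ e = 1 := by
  let e₀ : E ⟶ E := e
  have he' : (1 - e) * (1 - e) = 1 - e := by
    rw [mul_sub, mul_one, sub_mul, one_mul, he, sub_self, sub_zero]
  obtain ⟨Y, i, p, hip, hpi⟩ := IsIdempotentComplete.idempotents_split E e₀ he
  obtain ⟨Z, j, q, hjq, hqj⟩ :=
    IsIdempotentComplete.idempotents_split E (𝟙 E - e₀) he'
  have hpj : i ≫ q = 0 := by
    have : Mono j := (SplitMono.mk (f := j) q hjq).mono
    rw [← cancel_mono j, Category.assoc, hqj, Limits.zero_comp]
    show i ≫ (𝟙 E - e₀) = 0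
    rw [Preadditive.comp_sub, Category.comp_id, ← hpi, reassoc_of% hip, sub_self]
  have hqi : j ≫ p = 0 := by
    have : Mono i := (SplitMono.mk (f := i) p hip).mono
    rw [← cancel_mono i, Category.assoc, hpi, Limits.zero_comp]
    have h1 : q ≫ j ≫ e₀ = 0 := by
      rw [reassoc_of% hqj]
      show (e * (1 - e) : End E) = 0
      rw [mul_sub, mul_one, he, sub_self]
    have h2 := congrArg (fun φ => j ≫ φ) h1
    simpa [reassoc_of% hjq] using h2
  let φ : E ≅ Y ⊞ Z :=
    { hom := biprod.lift p q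
      inv := biprod.desc i j
      hom_inv_id := by
        rw [biprod.lift_desc, hpi, hqj]
        show e₀ + (𝟙 E - e₀) = 𝟙 E
        abel
      inv_hom_id := by
        apply biprod.hom_ext <;> apply biprod.hom_ext' <;> simp [hip, hjq, hpj, hqi] }
  rcases hind Y Z ⟨φ⟩ with h | h
  · left
    show e₀ = 0
    rw [← hpi, h.eq_of_src i 0, Limits.comp_zero]
  · right
    have : (1 - e : End E) = 0 := by
      show 𝟙 E - e₀ = 0
      rw [← hqj, h.eq_of_src j 0, Limits.comp_zero]
    rw [sub_eq_zero] at this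
    exact this.symm

section Curve

variable {k : Type u} [Field k] [IsAlgClosed k] [X.Over (Spec (CommRingCat.of k))]
  [IsIntegral X] [IsProper (X ↘ Spec (CommRingCat.of k))]

theorem toGlobal_bijective :
    Function.Bijective (Coh.toGlobal (X ↘ Spec (CommRingCat.of k))) := by
  set s := X ↘ Spec (CommRingCat.of k)
  haveI : IsDomain Γ(X, ⊤) := inferInstance
  let ψ : k →+* Γ(X, ⊤) := s.appTop.hom.comp (Scheme.ΓSpecIso (CommRingCat.of k)).inv.hom
  letI : Algebra k Γ(X, ⊤) := ψ.toAlgebra
  have hfin : ψ.Finite :=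
    (finite_appTop_of_universallyClosed (K := k) s).comp
      (RingHom.Finite.of_surjective _
        (ConcreteCategory.bijective_of_isIso (Scheme.ΓSpecIso (CommRingCat.of k)).inv).2)
  haveI : Module.Finite k Γ(X, ⊤) := hfin
  exact IsAlgClosed.algebraMap_bijective_of_isIntegral (k := k) (K := Γ(X, ⊤))

/-- The scalar algebra structure on endomorphisms. -/
noncomputable abbrev kAlgebra : Algebra k (End E) :=
  ((scalar E).comp (Coh.toGlobal (X ↘ Spec (CommRingCat.of k)))).toAlgebra' fun _ f =>
    scalar_commute E _ f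

theorem exists_aeval_eq_zero (r : ℕ) (hE : FlatMod.IsFinLocFreeOfRank r E) (f : End E) :
    letI := kAlgebra (k := k) E
    ∃ p : k[X], p.Monic ∧ aeval f p = 0 := by
  obtain ⟨p, hp, hpf⟩ := exists_monic_aeval_eq_zero E r hE f
  letI := kAlgebra (k := k) E
  let e : k ≃+* Γ(X, ⊤) := RingEquiv.ofBijective _ (toGlobal_bijective (X := X))
  refine ⟨p.map e.symm.toRingHom, hp.map _, ?_⟩
  rw [Polynomial.aeval_def, Polynomial.eval₂_map]
  refine Eq.trans ?_ hpf
  rw [Polynomial.aeval_def]
  congr 1
  ext c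
  exact congrArg (scalar E) (e.apply_symm_apply c)

include k in
theorem isUnit_or_isNilpotent_end (r : ℕ) (hE : FlatMod.IsFinLocFreeOfRank r E)
    (hind : ∀ E₁ E₂ : X.Modules, Nonempty (E ≅ E₁ ⊞ E₂) → IsZero E₁ ∨ IsZero E₂) (f : End E) :
    IsUnit f ∨ IsNilpotent f := by
  letI := kAlgebra (k := k) E
  obtain ⟨p, hp, hpf⟩ := exists_aeval_eq_zero (k := k) E r hE f
  exact isUnit_or_isNilpotent (isNilpotent_zero_or_one_idem hind) f p hp.ne_zero hpf

end Curve

theorem not_isZero [IsIntegral X] (r : ℕ) (hr : 0 < r) (hE : FlatMod.IsFinLocFreeOfRank r E) : ¬ IsZero E := by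
  intro hz
  obtain ⟨x⟩ : Nonempty X := inferInstance
  obtain ⟨U, hx, ⟨e⟩⟩ := hE x
  obtain ⟨s, hs⟩ := H23.Frame.exists_frame e
  haveI : Nonempty U := ⟨⟨x, hx⟩⟩
  haveI : Nontrivial Γ(X, U) := inferInstance
  haveI : Nonempty (Fin r) := ⟨⟨0, hr⟩⟩
  obtain ⟨c, c', hne⟩ := exists_pair_ne (Fin r → Γ(X, U))
  apply hne
  apply (hs U le_rfl).1
  have hid : ∀ m : Γ(E, U), m = 0 := fun m => by
    have := congrArg (fun φ : E ⟶ E => φ.app U m) (hz.eq_of_src (𝟙 E) 0)
    exact this
  rw [hid (H23.Frame.comb E s U le_rfl c), hid (H23.Frame.comb E s U le_rfl c')]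


end Groth.Agent.CurveEnd
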