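import Groth.Agent.Lib.CurveTensor
import Groth.Agent.Lib.CurveEnd
import Groth.Agent.KFlatLib.Scheme.TensorAssoc
import Groth.Agent.InvX.Tensor
import Groth.Agent.H23.PicInv
import Groth.Agent.CurveCohLib.SmoothCurve
import Groth.Agent.CurveCohLib.Rank
import Groth.Agent.H23.Frame

/-!
Riemann–Roch for invertible modules on curves, and tensor inverses as equivalences.
-/

set_option linter.style.haveILetI false
set_option linter.unusedSectionVars false
set_option backward.isDefEq.respectTransparency false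
set_option backward.isDefEq.respectTransparency.types false

universe u

open CategoryTheory CategoryTheory.Limits AlgebraicGeometry TopologicalSpace Opposite MonoidalCategory

namespace Groth.Agent.CurveRR

variable {X : Scheme.{u}}

/-- Tensoring twice is tensoring with the product. -/
noncomputable def tensorCompIso (A B : X.Modules) :
    DCoh.tensorBi.obj B ⋙ DCoh.tensorBi.obj A ≅ DCoh.tensorBi.obj ((DCoh.tensorBi.obj A).obj B) :=
  (((KFlatLib.tensorAssocSch X).app A).app B).symm

/-- Tensoring with the structure sheaf. -/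
noncomputable def tensorStructureIso' (X : Scheme.{u}) :
    DCoh.tensorBi.obj (Coh.structureModule X) ≅ 𝟭 X.Modules :=
  NatIso.ofComponents (fun M => CurveTensor.structureTensorIso M) fun {M N} φ => by
    simp only [CurveTensor.structureTensorIso, Iso.trans_hom, Functor.mapIso_hom, Iso.app_hom, Functor.id_map]
    have h1 : (DCoh.tensorBi.obj (Coh.structureModule X)).map φ ≫
        DCoh.shP.map (λ_ (DCoh.toP.obj N)).hom =
      DCoh.shP.map (λ_ (DCoh.toP.obj M)).hom ≫ DCoh.shP.map (DCoh.toP.map φ) := by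
      rw [← DCoh.shP.map_comp, ← MonoidalCategory.leftUnitor_naturality, DCoh.shP.map_comp]
      rfl
    rw [← Category.assoc, h1, Category.assoc, Category.assoc]
    congr 1
    exact (@asIso _ _ _ _ (KFlatLib.counitShP X) (NatIso.isIso_of_isIso_app _)).hom.naturality φ

/-- A tensor inverse gives a natural isomorphism. -/
noncomputable def cancelIso {A B : X.Modules} (e : (DCoh.tensorBi.obj A).obj B ≅ Coh.structureModule X) :
    DCoh.tensorBi.obj B ⋙ DCoh.tensorBi.obj A ≅ 𝟭 X.Modules :=
  tensorCompIso A B ≪≫ DCoh.tensorBi.mapIso e ≪≫ tensorStructureIso' X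

variable {A B : X.Modules} (e : (DCoh.tensorBi.obj A).obj B ≅ Coh.structureModule X)

include e in
theorem eq_zero_of_map_eq_zero {P Q : X.Modules} (φ : P ⟶ Q)
    (h : (DCoh.tensorBi.obj B).map φ = 0) : φ = 0 := by
  have h1 := (cancelIso e).hom.naturality φ
  rw [Functor.id_map, Functor.comp_map, h, Functor.map_zero, zero_comp] at h1
  exact (cancel_epi ((cancelIso e).hom.app P)).1 (h1.symm.trans comp_zero.symm)

include e in
theorem isSplitEpi_of_map {P Q : X.Modules} (φ : P ⟶ Q)
    (h : IsSplitEpi ((DCoh.tensorBi.obj B).map φ)) : IsSplitEpi φ := by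
  obtain ⟨⟨s, hs⟩⟩ := h.exists_splitEpi
  refine IsSplitEpi.mk' ⟨(cancelIso e).inv.app Q ≫ (DCoh.tensorBi.obj A).map s ≫ (cancelIso e).hom.app P, ?_⟩
  have h1 := (cancelIso e).hom.naturality φ
  rw [Functor.id_map, Functor.comp_map] at h1
  rw [Category.assoc, Category.assoc, ← h1, ← Category.assoc ((DCoh.tensorBi.obj A).map s),
    ← Functor.map_comp, hs, CategoryTheory.Functor.map_id, Category.id_comp, Iso.inv_hom_id_app]
  rfl

/-- Maps out of the structure sheaf are determined by the image of `1`. -/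
theorem hom_ext_one {P : X.Modules} {φ ψ : Coh.structureModule X ⟶ P}
    (h : φ.app ⊤ (H23.Frame.one ⊤) = ψ.app ⊤ (H23.Frame.one ⊤)) : φ = ψ := by
  apply Scheme.Modules.hom_ext
  intro W
  ext a
  refine (H23.Frame.app_eq_smul φ W a).trans (Eq.trans ?_ (H23.Frame.app_eq_smul ψ W a).symm)
  rw [← H23.Frame.app_one_res φ (le_top : W ≤ ⊤), ← H23.Frame.app_one_res ψ (le_top : W ≤ ⊤), h]

theorem exists_lift_of_HH_one {S : ShortComplex X.Modules} (hS : S.ShortExact)
    (h : Subsingleton (Coh.HH X S.X₁ 1)) (φ : Coh.structureModule X ⟶ S.X₃) :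
    ∃ ψ : Coh.structureModule X ⟶ S.X₂, ψ ≫ S.g = φ := by
  obtain ⟨t, ht⟩ := QCoh.app_top_surjective_of_HH_one hS h (φ.app ⊤ (H23.Frame.one ⊤))
  refine ⟨QCoh.homOfTop t, hom_ext_one ?_⟩
  show S.g.app ⊤ ((QCoh.homOfTop t).app ⊤ (1 : Γ(X, ⊤))) = _
  rw [QCoh.homOfTop_app, one_smul]
  exact (congrArg _ (ConcreteCategory.congr_hom (S.X₂.presheaf.map_id _) t)).trans ht

theorem exists_hom_ne_zero {P : X.Modules} (k : Type u) [Field k] [X.Over (Spec (CommRingCat.of k))]
    (h : Module.finrank k (Coh.HH X P 0) ≠ 0) : ∃ s : Coh.structureModule X ⟶ P, s ≠ 0 := by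
  obtain ⟨t, ht⟩ : ∃ t : Coh.HH X P 0, t ≠ 0 := by
    by_contra hc
    push Not at hc
    haveI : Subsingleton (Coh.HH X P 0) := subsingleton_of_forall_eq 0 hc
    exact h Module.finrank_zero_of_subsingleton
  refine ⟨QCoh.homOfTop (Sheaf.H.equiv₀ (Coh.toAb P) isTerminalTop t : Γ(P, ⊤)), fun h0 => ht ?_⟩
  have h1 := congrArg (fun φ => Scheme.Modules.Hom.app φ ⊤ (1 : Γ(X, ⊤))) h0
  rw [QCoh.homOfTop_app, one_smul] at h1
  refine (Sheaf.H.equiv₀ (Coh.toAb P) isTerminalTop).injective ((Eq.trans ?_ h1).trans (map_zero _).symm)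
  exact (ConcreteCategory.congr_hom (P.presheaf.map_id _) _).symm

section RR

variable (k : Type u) [Field k] [X.Over (Spec (CommRingCat.of k))] [IsIntegral X]
  [IsProper (X ↘ Spec (CommRingCat.of k))]

theorem deg_tensor (hdim : topologicalKrullDim X = 1) {L M : X.Modules}
    (hL : PicF.IsInvertible L) (hM : PicF.IsInvertible M) :
    Curv2.deg k X ((DCoh.tensorBi.obj L).obj M) 1 = Curv2.deg k X L 1 + Curv2.deg k X M 1 := by
  haveI := CurveSlope.isLocallyNoetherian' k (X := X)
  have h := CurveTensor.euler_tensor k hdim (InvEnd.isFinLocFreeOfRank_one hL)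
    (CurveDeg.isCoh_of_isInvertible hM)
  rw [CurveBundle.rk_eq (InvEnd.isFinLocFreeOfRank_one hM)] at h
  unfold Curv2.deg at h ⊢
  rw [h]
  push_cast
  ring

theorem deg_congr {L M : X.Modules} (φ : L ≅ M) (n : ℕ) :
    Curv2.deg k X L n = Curv2.deg k X M n := by
  unfold Curv2.deg
  rw [Euler.euler_congr k φ]

theorem euler_eq_h0_sub_h1 (hdim : topologicalKrullDim X ≤ 1) {M : X.Modules} (hM : Coh.IsQCoh M) :
    Curv2.euler k X M =
      (Module.finrank k (Coh.HH X M 0) : ℤ) - Module.finrank k (Coh.HH X M 1) := by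
  rw [Euler.euler_eq_sum k M 2 fun i hi => by
    obtain ⟨n, rfl⟩ := Nat.exists_eq_add_of_le hi
    rw [add_comm]
    exact CurveVanish.subsingleton_HH_curve k hdim hM n]
  rw [Finset.sum_range_succ, Finset.sum_range_one]
  simp
  ring

theorem euler_structureModule [IsAlgClosed k] [Smooth (X ↘ Spec (CommRingCat.of k))]
    (hdim : topologicalKrullDim X ≤ 1) :
    Curv2.euler k X (Coh.structureModule X) = 1 - Curv2.genus k X := by
  haveI : ConnectedSpace X := inferInstance
  rw [euler_eq_h0_sub_h1 k hdim QCoh.isQCoh_structureModule, CurveCohLib.finrank_h0_eq_one k X]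
  unfold Curv2.genus
  push_cast
  ring

end RR

end Groth.Agent.CurveRR
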