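import Groth.Agent.CurveBC.Etale
import Groth.Agent.QCoh.LocFree
import Groth.Agent.H23.CurveCorr
import Groth.Prelude.Def_ResDeg

/-!
Degrees of pullbacks along dominant morphisms of proper curves.
-/

set_option autoImplicit false
set_option linter.style.haveILetI false
set_option linter.unusedSectionVars false
set_option backward.isDefEq.respectTransparency false
set_option backward.isDefEq.respectTransparency.types false
set_option maxHeartbeats 800000

universe u

open CategoryTheory CategoryTheory.Limits AlgebraicGeometry TopologicalSpace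

noncomputable section

namespace Groth.Agent.DegPull

variable {X Y : Scheme.{u}} [IsIntegral X] [IsIntegral Y]

theorem finrank_congr {R S R' S' : Type u} [CommRing R] [CommRing S] [CommRing R'] [CommRing S']
    (φ : R →+* S) (ψ : R' →+* S') (a : R →+* R') (b : S →+* S') (ha : Function.Bijective a)
    (hb : Function.Bijective b) (h : ∀ r, b (φ r) = ψ (a r)) :
    (letI := φ.toAlgebra; Module.finrank R S) = (letI := ψ.toAlgebra; Module.finrank R' S') := by
  letI := φ.toAlgebra
  letI := ψ.toAlgebra
  exact congrArg Cardinal.toNat (rank_eq_of_equiv_equiv a (AddEquiv.ofBijective b.toAddMonoidHom hb) ha fun r m => by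
    show b (φ r * m) = ψ (a r) * b m
    rw [map_mul, h])

theorem bijective_residue {R : Type u} [CommRing R] [IsLocalRing R] (hR : IsField R) :
    Function.Bijective (IsLocalRing.residue R) := by
  refine ⟨(RingHom.injective_iff_ker_eq_bot _).2 ?_, Ideal.Quotient.mk_surjective⟩
  rw [IsLocalRing.ker_residue]
  exact IsLocalRing.isField_iff_maximalIdeal_eq.1 hR

theorem finrank_residue_of_field {R S : Type u} [CommRing R] [CommRing S] [IsLocalRing R] [IsLocalRing S]
    (hR : IsField R) (hS : IsField S) (φ : R →+* S) [IsLocalHom φ] :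
    (letI := φ.toAlgebra; Module.finrank R S) =
      (letI := (IsLocalRing.ResidueField.map φ).toAlgebra
       Module.finrank (IsLocalRing.ResidueField R) (IsLocalRing.ResidueField S)) :=
  finrank_congr φ (IsLocalRing.ResidueField.map φ) _ _ (bijective_residue hR) (bijective_residue hS) fun _ => rfl

/-- The generic rank of the direct image of the structure sheaf along a dominant affine morphism. -/
theorem rk_push (f : X ⟶ Y) [IsAffineHom f] (hξ : f (genericPoint X) = genericPoint Y) :
    CurveBundle.rk ((Scheme.Modules.pushforward f).obj (Coh.structureModule X)) =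
      f.residueDegree (genericPoint X) := by
  let ξ := genericPoint X
  let M := (Scheme.Modules.pushforward f).obj (Coh.structureModule X)
  have hM : Coh.IsQCoh M := QCoh.isQCoh_pushforward f QCoh.isQCoh_structureModule
  have hrk : CurveBundle.rk M = Module.finrank (Y.presheaf.stalk (f ξ)) (M.presheaf.stalk (f ξ)) := by
    show Module.finrank (Y.presheaf.stalk (genericPoint Y)) (M.presheaf.stalk (genericPoint Y)) = _
    rw [hξ]
  have hKY : IsField (Y.presheaf.stalk (f ξ)) := by
    show IsField (Y.presheaf.stalk (f (genericPoint X)))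
    rw [hξ]; exact CurveBundle.isField_stalk_generic
  have hKX : IsField (X.presheaf.stalk ξ) := CurveBundle.isField_stalk_generic
  obtain ⟨U, hU, hy, -⟩ := exists_isAffineOpen_mem_and_subset (x := f ξ) (U := ⊤) trivial
  haveI : Nonempty U := ⟨⟨_, hy⟩⟩
  let V := f ⁻¹ᵁ U
  have hx : ξ ∈ V := hy
  haveI : Nonempty V := ⟨⟨_, hx⟩⟩
  let A := Γ(Y, U)
  let S := Γ(X, V)
  letI := QCoh.stalkAlg (X := Y) hy
  letI := QCoh.stalkModule M hy
  haveI := QCoh.isScalarTower_stalk M hy
  haveI := QCoh.isLocalization_stalk' hU hy
  haveI := QCoh.isLocalizedModule_germLin hM hU hy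
  let p := (hU.primeIdealOf ⟨f ξ, hy⟩).asIdeal.primeCompl
  have hp : p ≤ nonZeroDivisors A := fun a ha =>
    mem_nonZeroDivisors_iff_ne_zero.2 fun h0 => ha (h0 ▸ Ideal.zero_mem _)
  rw [hrk, IsLocalization.finrank_eq (Y.presheaf.stalk (f ξ)) p hp,
    IsLocalizedModule.finrank_eq p (QCoh.germLin M hy) hp]
  letI : Algebra A S := (f.app U).hom.toAlgebra
  have h1 : Module.finrank A Γ(M, U) = Module.finrank A S :=
    congrArg Cardinal.toNat (rank_eq_of_equiv_equiv (R := A) (R' := A) (M := Γ(M, U)) (M₁ := S) id
      { toFun := fun m => (show S from m), invFun := fun m => (show Γ(M, U) from m),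
        left_inv := fun _ => rfl, right_inv := fun _ => rfl, map_add' := fun _ _ => rfl }
      Function.bijective_id fun r m => rfl)
  rw [h1]
  haveI := functionField_isFractionRing_of_isAffineOpen X V (hU.preimage f)
  let K' := X.functionField
  letI : Algebra (Y.presheaf.stalk (f ξ)) K' := (f.stalkMap ξ).hom.toAlgebra
  letI : Algebra A K' := ((algebraMap S K').comp (algebraMap A S)).toAlgebra
  haveI : IsScalarTower A S K' := IsScalarTower.of_algebraMap_eq fun _ => rfl
  haveI : IsScalarTower A (Y.presheaf.stalk (f ξ)) K' := IsScalarTower.of_algebraMap_eq fun a =>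
    (Scheme.Hom.germ_stalkMap_apply f U ξ hy a).symm
  rw [IsFractionRing.finrank_left_eq (R := A) (S := S) K',
    ← IsLocalization.finrank_eq (Y.presheaf.stalk (f ξ)) p hp (N := K')]
  exact finrank_residue_of_field hKY hKX (f.stalkMap ξ).hom

variable (k : Type u) [Field k] [X.Over (Spec (CommRingCat.of k))] [Y.Over (Spec (CommRingCat.of k))]
  [IsProper (X ↘ Spec (CommRingCat.of k))] [IsProper (Y ↘ Spec (CommRingCat.of k))]

/-- A nonconstant morphism of proper curves is finite. -/
theorem isFinite (hX : topologicalKrullDim X = 1) (hY : topologicalKrullDim Y = 1) (f : X ⟶ Y)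
    (hf : f ≫ (Y ↘ Spec (CommRingCat.of k)) = X ↘ Spec (CommRingCat.of k))
    (hξ : f (genericPoint X) = genericPoint Y) : IsFinite f := by
  haveI : IsProper (f ≫ (Y ↘ Spec (CommRingCat.of k))) := hf ▸ inferInstance
  haveI : IsProper f := IsProper.of_comp f (Y ↘ Spec (CommRingCat.of k))
  exact H23.CurveCorr.isFinite_of_dominant (Y ↘ Spec (CommRingCat.of k)) f (hX.trans hY.symm).le hY.le hξ

/-- The degree of a pullback is the degree of the map times the degree. -/
theorem deg_pullback (hX : topologicalKrullDim X = 1) (hY : topologicalKrullDim Y = 1) (f : X ⟶ Y)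
    (hf : f ≫ (Y ↘ Spec (CommRingCat.of k)) = X ↘ Spec (CommRingCat.of k))
    (hξ : f (genericPoint X) = genericPoint Y) {n : ℕ} {E : Y.Modules} (hE : FlatMod.IsFinLocFreeOfRank n E) :
    Curv2.deg k X ((Scheme.Modules.pullback f).obj E) n =
      (f.residueDegree (genericPoint X) : ℤ) * Curv2.deg k Y E n := by
  haveI := CurveCohLib.isNoetherian_of_proper (k := k) (X := Y)
  haveI := CurveCohLib.isNoetherian_of_proper (k := k) (X := X)
  haveI := isFinite k hX hY f hf hξ
  have hO := QCoh.isQCoh_structureModule (X := X)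
  have he : ∀ M : X.Modules, Coh.IsQCoh M →
      Curv2.euler k X M = Curv2.euler k Y ((Scheme.Modules.pushforward f).obj M) := fun M hM =>
    finsum_congr fun i => by
      obtain ⟨e⟩ := PnCoh.exists_linearEquiv_push k f hf hM i
      rw [e.finrank_eq]
  have hEf : FlatMod.IsFinLocFree E := fun y => let ⟨W, hy, he⟩ := hE y; ⟨W, n, hy, he⟩
  obtain ⟨φ⟩ := S0927.result f (Coh.structureModule X) E hEf 0
  let ψ := (Scheme.Modules.pushforward f).rightDerivedZeroIsoSelf
  let a : (DCoh.tensorBi.obj E).obj ((Scheme.Modules.pushforward f).obj (Coh.structureModule X)) ≅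
      (Scheme.Modules.pushforward f).obj ((Scheme.Modules.pullback f).obj E) :=
    (DCoh.tensorBi.obj E).mapIso (ψ.app (Coh.structureModule X)).symm ≪≫ φ ≪≫ ψ.app _ ≪≫
      (Scheme.Modules.pushforward f).mapIso (KFlatLib.tensorUnitIso ((Scheme.Modules.pullback f).obj E))
  have hc : Coh.IsCoh ((Scheme.Modules.pushforward f).obj (Coh.structureModule X)) :=
    QCoh.isCoh_pushforward_finite f QCoh.isCoh_structureModule'
  have hpull : Coh.IsQCoh ((Scheme.Modules.pullback f).obj E) :=
    QCoh.isQCoh_pullback f (QCoh.isQCoh_of_isFinLocFree hEf)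
  have h1 := CurveTensor.euler_tensor k hY hE hc
  rw [CurveCohLib.euler_congr a, ← he _ hpull, ← he _ hO, rk_push f hξ] at h1
  unfold Curv2.deg at h1 ⊢
  rw [h1]
  ring

end Groth.Agent.DegPull
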