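import Groth.Agent.Lib.SnapLead
import Groth.Agent.Lib.DegPullFinite

/-!
Degrees through components; degrees on closed subschemes as Euler characteristics.
-/

set_option autoImplicit false
set_option linter.style.haveILetI false
set_option linter.unusedSectionVars false
set_option backward.isDefEq.respectTransparency false
set_option backward.isDefEq.respectTransparency.types false
set_option maxHeartbeats 1000000

universe u

open CategoryTheory CategoryTheory.Limits AlgebraicGeometry TopologicalSpace Groth.Agent.H23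

noncomputable section

namespace Groth.Agent.DegComp

variable (k : Type u) [Field k] {X : Scheme.{u}} [X.Over (Spec (CommRingCat.of k))]
  [IsProper (X ↘ Spec (CommRingCat.of k))]

/-- The twist of `Φ(M) = χ(E ⊗ M) - n χ(M)` on a closed subscheme is the degree of the restriction. -/
theorem euler_sub_eq_deg {n : ℕ} {E : X.Modules} (hE : FlatMod.IsFinLocFree E) {Z : Scheme.{u}} (i : Z ⟶ X)
    [IsClosedImmersion i] :
    letI : Z.Over (Spec (CommRingCat.of k)) := ⟨i ≫ (X ↘ (Spec (CommRingCat.of k)))⟩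
    Curv2.euler k X ((DCoh.tensorBi.obj E).obj ((Scheme.Modules.pushforward i).obj (Coh.structureModule Z))) -
        n * Curv2.euler k X ((Scheme.Modules.pushforward i).obj (Coh.structureModule Z)) =
      Curv2.deg k Z ((Scheme.Modules.pullback i).obj E) n := by
  letI : Z.Over (Spec (CommRingCat.of k)) := ⟨i ≫ (X ↘ (Spec (CommRingCat.of k)))⟩
  haveI : IsProper (Z ↘ Spec (CommRingCat.of k)) := inferInstanceAs (IsProper (i ≫ (X ↘ Spec (CommRingCat.of k))))
  have he : ∀ M : Z.Modules, Coh.IsQCoh M →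
      Curv2.euler k Z M = Curv2.euler k X ((Scheme.Modules.pushforward i).obj M) := fun M hM =>
    finsum_congr fun j => by
      obtain ⟨e⟩ := PnCoh.exists_linearEquiv_push k i rfl hM j
      rw [e.finrank_eq]
  obtain ⟨φ⟩ := S0927.result i (Coh.structureModule Z) E hE 0
  let ψ := (Scheme.Modules.pushforward i).rightDerivedZeroIsoSelf
  let a : (DCoh.tensorBi.obj E).obj ((Scheme.Modules.pushforward i).obj (Coh.structureModule Z)) ≅
      (Scheme.Modules.pushforward i).obj ((Scheme.Modules.pullback i).obj E) :=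
    (DCoh.tensorBi.obj E).mapIso (ψ.app (Coh.structureModule Z)).symm ≪≫ φ ≪≫ ψ.app _ ≪≫
      (Scheme.Modules.pushforward i).mapIso (KFlatLib.tensorUnitIso ((Scheme.Modules.pullback i).obj E))
  rw [CurveCohLib.euler_congr a, ← he _ QCoh.isQCoh_structureModule,
    ← he _ (QCoh.isQCoh_pullback i (QCoh.isQCoh_of_isFinLocFree hE))]
  rfl

/-- The degree on the closure of a point. -/
def degAt (E : X.Modules) (n : ℕ) (ξ : X) : ℤ :=
  @Curv2.deg k _ (IntMult.ptIdeal ξ).subscheme
    ⟨(IntMult.ptIdeal ξ).subschemeι ≫ (X ↘ (Spec (CommRingCat.of k)))⟩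
    ((Scheme.Modules.pullback (IntMult.ptIdeal ξ).subschemeι).obj E) n

/-- `χ(E ⊗ F) - n χ(F)` only depends on the top-dimensional cycle of `F`, in dimension one. -/
theorem euler_sum {n : ℕ} {E : X.Modules} (hE : FlatMod.IsFinLocFreeOfRank n E) {F : X.Modules}
    (hF : Coh.IsCoh F) (hd : topologicalKrullDim ↥(CohB1.support F) ≤ 1) :
    Curv2.euler k X ((DCoh.tensorBi.obj E).obj F) - n * Curv2.euler k X F =
      ∑ᶠ ξ : X, (if topologicalKrullDim (closure ({ξ} : Set X)) = (1 : WithBot ℕ∞) then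
        ((Module.length (X.presheaf.stalk ξ) (F.presheaf.stalk ξ)).toNat : ℤ) * degAt k E n ξ else 0) := by
  classical
  haveI := CurveCohLib.isNoetherian_of_proper (k := k) (X := X)
  have hEf : FlatMod.IsFinLocFree E := fun y => let ⟨W, hy, he⟩ := hE y; ⟨W, n, hy, he⟩
  let δ : X → ℤ := SnapLead.δ k
  let Φ₀ : X.Modules → ℤ := fun M => Curv2.euler k X ((DCoh.tensorBi.obj E).obj M) - n * Curv2.euler k X M
  obtain ⟨f, hf⟩ := KZ.exists_liftSub (Cyc.CohLe δ ((1 : ℕ) : ℤ)) Φ₀ fun S hS a b c => by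
    have e1 := CurveCohLib.euler_additive (k := k) hS a.1 b.1 c.1
    have e2 := CurveCohLib.euler_additive (k := k) (CurveTensor.shortExact_tensor hEf S.f S.g S.zero hS)
      (CurveTensor.isCoh_tensor hEf a.1) (CurveTensor.isCoh_tensor hEf b.1) (CurveTensor.isCoh_tensor hEf c.1)
    dsimp only [Φ₀] at e2 ⊢
    rw [e1, e2]
    ring
  have hlow : ∀ M, Cyc.CohLe δ (((1 : ℕ) : ℤ) - 1) M → Φ₀ M = 0 := fun M hM => by
    refine sub_eq_zero.2 (CurveTensor.euler_tensor_torsion k hE hM.1 fun x hx => ?_)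
    have h1 := hM.2 x (not_subsingleton_iff_nontrivial.1 hx)
    have h2 := SnapLead.dim_closure k x
    rw [show FibDim.rd (X ↘ Spec (CommRingCat.of k)) x = 0 by simp only [δ, SnapLead.δ] at h1; omega] at h2
    rw [← Euler.closure_eq_self_of_dim_le_zero isClosed_closure (le_of_eq (h2.trans (by rfl))) (subset_closure rfl)]
    exact isClosed_closure
  let Φ : Cyc.K0CohQuot δ ((1 : ℕ) : ℤ) (((1 : ℕ) : ℤ) - 1) →+ ℤ :=
    QuotientAddGroup.lift _ f ((AddSubgroup.closure_le _).2 (by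
      rintro _ ⟨M, hM, rfl⟩
      show f _ = 0
      rw [hf M (CycleClassK.cohLe_mono (by omega) hM), hlow M hM]))
  have hΦ : ∀ M, Cyc.CohLe δ ((1 : ℕ) : ℤ) M → Φ (Cyc.toK0CohQuot δ ((1 : ℕ) : ℤ) (((1 : ℕ) : ℤ) - 1) M) = Φ₀ M := hf
  obtain ⟨ψ, hψ⟩ := CycleClassK.exists_psi (SnapLead.isDimFun k (X := X)) ((1 : ℕ) : ℤ)
  have hFle : Cyc.CohLe δ ((1 : ℕ) : ℤ) F := SnapLead.cohLe_of_dim k hF hd
  have hfin : (Function.support (Cyc.sheafFun δ ((1 : ℕ) : ℤ) F)).Finite := by
    choose U hxU hU using CycleClassK.lfPts_sheafFun (SnapLead.isDimFun k) hFle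
    haveI : CompactSpace X := QuasiCompact.compactSpace_of_compactSpace (X ↘ Spec (CommRingCat.of k))
    obtain ⟨t, ht⟩ := isCompact_univ.elim_finite_subcover (fun x => (U x : Set X)) (fun x => (U x).isOpen)
      fun x _ => Set.mem_iUnion.2 ⟨x, hxU x⟩
    refine (t.finite_toSet.biUnion fun x _ => hU x).subset fun y hy => ?_
    obtain ⟨x, hxt, hyx⟩ := Set.mem_iUnion₂.1 (ht (Set.mem_univ y))
    exact Set.mem_iUnion₂.2 ⟨x, hxt, hy, hyx⟩
  let S := hfin.toFinset
  have hS : ∀ ξ ∈ S, δ ξ = ((1 : ℕ) : ℤ) := fun ξ hξ => by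
    have h := hfin.mem_toFinset.1 hξ
    by_contra hne
    exact h (by simp only [Cyc.sheafFun, if_neg hne])
  have hK : Cyc.toK0CohQuot δ ((1 : ℕ) : ℤ) (((1 : ℕ) : ℤ) - 1) F =
      ∑ ξ ∈ S, Cyc.sheafFun δ ((1 : ℕ) : ℤ) F ξ •
        Cyc.toK0CohQuot δ ((1 : ℕ) : ℤ) (((1 : ℕ) : ℤ) - 1) (Cyc.closureStructureSheaf ξ) := by
    refine CycleClassK.psi_injective (SnapLead.isDimFun k) hψ ?_
    rw [hψ F hFle, map_sum]
    funext x
    rw [Finset.sum_apply, Finset.sum_congr rfl fun ξ hξ => by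
      rw [map_zsmul, hψ _ (SnapLead.cohLe_closure k (hS ξ hξ)), SnapLead.sheafFun_closure k (hS ξ hξ)]]
    simp only [Pi.smul_apply, smul_eq_mul, mul_ite, mul_one, mul_zero, Finset.sum_ite_eq]
    split_ifs with hx
    · rfl
    · by_contra hne
      exact hx (hfin.mem_toFinset.2 hne)
  have h := congrArg Φ hK
  rw [hΦ F hFle, map_sum, Finset.sum_congr rfl fun ξ hξ => by
    rw [map_zsmul, hΦ _ (SnapLead.cohLe_closure k (hS ξ hξ))]] at h
  refine h.trans ?_
  rw [finsum_eq_sum_of_support_subset _ (s := S) ?_]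
  · refine Finset.sum_congr rfl fun ξ hξ => ?_
    rw [if_pos (by rw [SnapLead.dim_closure k]; have := hS ξ hξ; simp only [δ, SnapLead.δ] at this; exact_mod_cast this),
      smul_eq_mul, Cyc.sheafFun, if_pos (hS ξ hξ)]
    exact congrArg _ (euler_sub_eq_deg k hEf (IntMult.ptIdeal ξ).subschemeι)
  · intro ξ hξ
    simp only [Function.mem_support, ne_eq, ite_eq_right_iff, not_forall] at hξ
    obtain ⟨hdim, hne⟩ := hξ
    refine hfin.mem_toFinset.2 ?_
    rw [SnapLead.dim_closure k] at hdim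
    have hdd : δ ξ = ((1 : ℕ) : ℤ) := by simp only [δ, SnapLead.δ]; exact_mod_cast hdim
    simp only [Function.mem_support, Cyc.sheafFun, hdd, if_true, ne_eq, Nat.cast_eq_zero]
    intro h0
    exact hne (by simp [h0])

end Groth.Agent.DegComp
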