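import Groth.Agent.Lib.AVPair
import Groth.Agent.H23.RedSub
import Groth.Agent.InvX.GenEpi
import Groth.Agent.InvX.Tensor
import Groth.Agent.AmpleX.Proj
import Groth.Agent.AmpleX.QAGenerated
import Groth.Agent.S8914
import Groth.Agent.AmpleX.Comp
import Groth.Agent.AmpleX.RelAffine
import Groth.Agent.PnCoh.Chow.Proper
import Groth.Agent.S3572
import Groth.Agent.SegreX.Basic
import Groth.Agent.H23.EquidimFibres
import Mathlib.AlgebraicGeometry.ZariskisMainTheorem

/-!
Ampleness of invertible modules on proper schemes without curves on which they are trivial, and the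
squares of effective invertible modules on abelian varieties.
-/

set_option linter.style.haveILetI false
set_option linter.unusedSectionVars false
set_option backward.isDefEq.respectTransparency false
set_option backward.isDefEq.respectTransparency.types false
set_option maxHeartbeats 800000

universe u

open CategoryTheory CategoryTheory.Limits MonoidalCategory CartesianMonoidalCategory MonObj AlgebraicGeometry TopologicalSpace

namespace Groth.Agent.AVAmple

open Groth.Agent.H23 Groth.Agent.H23.TrivBasic Groth.Agent.InvX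

/-- Sections whose loci cover generate. -/
theorem generatedBy_of_locus {X : Scheme.{u}} {L : X.Modules} {κ : Type*} (s : κ → Γ(L, ⊤))
    (h : ∀ x, ∃ i, x ∈ locus (s i)) : ProjUP.GeneratedBy L s := fun x => by
  obtain ⟨i, hi⟩ := h x
  refine eq_top_iff.2 fun z _ => ?_
  obtain ⟨c, hc⟩ := ((isFrame_res_of_le_locus (le_refl (locus (s i)))).germ_bijective hi).2 z
  rw [← hc]
  refine Submodule.smul_mem _ c (Submodule.subset_span ⟨i, ?_⟩)
  exact (InvX.germ_res' (le_top : locus (s i) ≤ ⊤) hi (s i)).symm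

/-- A closed map with finite fibres over closed points is locally quasi-finite. -/
theorem locallyQuasiFinite_of_closed {X P : Scheme.{u}} (r : X ⟶ P) [JacobsonSpace X] [UniversallyClosed r]
    [LocallyOfFiniteType r] (h : ∀ q : P, IsClosed ({q} : Set P) → (r ⁻¹' {q}).Finite) : LocallyQuasiFinite r := by
  refine r.quasiFiniteLocus_eq_top_iff.1 (top_le_iff.1 fun x _ => ?_)
  by_contra hx
  obtain ⟨y, hy, hyc⟩ := nonempty_inter_closedPoints (Z := (r.quasiFiniteLocus : Set X)ᶜ) ⟨x, hx⟩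
    r.quasiFiniteLocus.isOpen.isClosed_compl.isLocallyClosed
  refine hy (r.quasiFiniteAt_iff_isOpen_singleton_asFiber.2 ?_)
  have hpc : IsClosed ({r y} : Set P) := by
    have := r.isClosedMap _ (mem_closedPoints_iff.1 hyc)
    rwa [Set.image_singleton] at this
  haveI hfin : Finite ↥(r ⁻¹' {r y} : Set X) := h _ hpc
  haveI hj : JacobsonSpace ↥(r ⁻¹' {r y} : Set X) :=
    .of_isClosedEmbedding (hpc.preimage r.continuous).isClosedEmbedding_subtypeVal
  have hd : DiscreteTopology ↥(r ⁻¹' {r y} : Set X) := inferInstance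
  haveI : DiscreteTopology (r.fiber (r y)) := (r.fiberHomeo (r y)).symm.discreteTopology
  exact isOpen_discrete _

/-- The fibres over closed points of a morphism under which a module nontrivial on curves is pulled back. -/
theorem finite_preimage {X P : Scheme.{u}} (r : X ⟶ P) [IsNoetherian X] {L : X.Modules} {N : P.Modules}
    (hL : PicF.IsInvertible L) (hN : PicF.IsInvertible N) (τ : (Scheme.Modules.pullback r).obj N ≅ L)
    (hC : ∀ {C : Scheme.{u}} (j : C ⟶ X), IsClosedImmersion j → IsIntegral C →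
      Triv ((Scheme.Modules.pullback j).obj L) → Finite C)
    (q : P) (hq : IsClosed ({q} : Set P)) : (r ⁻¹' {q}).Finite := by
  let Z : Set X := r ⁻¹' {q}
  have hZ : IsClosed Z := hq.preimage r.continuous
  have hcomp : ∀ Y ∈ irreducibleComponents Z, (Subtype.val '' Y : Set X).Finite := by
    intro Y hY
    have hcl : IsClosed (Subtype.val '' Y : Set X) :=
      hZ.isClosedEmbedding_subtypeVal.isClosedMap _ (isClosed_of_mem_irreducibleComponents _ hY)
    obtain ⟨C, j, hj, hred, hrange⟩ := RedSub.exists_reduced_subscheme X hcl.isLocallyClosed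
    haveI : IsClosedImmersion j := .of_isPreimmersion j (by rw [hrange]; exact hcl)
    haveI : IrreducibleSpace C := by
      have hirr : IsIrreducible (Set.range j) :=
        hrange ▸ hY.1.image _ continuous_subtype_val.continuousOn
      haveI := Subtype.irreducibleSpace hirr
      exact (j.isEmbedding.toHomeomorph).irreducibleSpace_iff.2 inferInstance
    haveI : IsIntegral C := isIntegral_of_irreducibleSpace_of_isReduced C
    have hmap : ∀ c, (j ≫ r) c = q := fun c => by
      obtain ⟨⟨z, hz⟩, -, hz'⟩ := hrange.le ⟨c, rfl⟩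
      show r (j c) = q
      rw [← hz']
      exact hz
    obtain ⟨V, hV, ε, hε⟩ := InvX.exists_frame hN q
    have hVtop : (j ≫ r) ⁻¹ᵁ V = ⊤ := top_le_iff.1 fun c _ => by
      show (j ≫ r) c ∈ V
      rw [hmap c]; exact hV
    have htr : Triv ((Scheme.Modules.pullback (j ≫ r)).obj N) :=
      triv_of_frame ((isFrame_pullElt (j ≫ r) hε).res hVtop.ge)
    have htr' : Triv ((Scheme.Modules.pullback j).obj L) :=
      Triv.of_iso ((Scheme.Modules.pullbackComp j r).symm.app _ ≪≫ (Scheme.Modules.pullback j).mapIso τ) htr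
    haveI := hC j inferInstance inferInstance htr'
    rw [← hrange]
    exact Set.finite_range j
  haveI : NoetherianSpace Z := inferInstance
  refine ((NoetherianSpace.finite_irreducibleComponents (α := Z)).biUnion hcomp).subset fun z hz => ?_
  exact Set.mem_biUnion (irreducibleComponent_mem_irreducibleComponents (⟨z, hz⟩ : Z))
    ⟨⟨z, hz⟩, mem_irreducibleComponent, rfl⟩

/-- A proper scheme with a globally generated invertible module nontrivial on every curve. -/
theorem isAmple_of_nontriv {k : Type u} [Field k] {X : Scheme.{u}} (f : X ⟶ Spec (CommRingCat.of k))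
    [IsProper f] {L : X.Modules} (hL : PicF.IsInvertible L)
    (hgen : ∀ x : X, ∃ t : Γ(L, ⊤), x ∈ locus t)
    (hC : ∀ {C : Scheme.{u}} (j : C ⟶ X), IsClosedImmersion j → IsIntegral C →
      Triv ((Scheme.Modules.pullback j).obj L) → Finite C) : CohB1.IsAmple L := by
  haveI : CompactSpace X := QuasiCompact.compactSpace_of_compactSpace f
  rcases isEmpty_or_nonempty X with hX | ⟨⟨x₀⟩⟩
  · exact ⟨hL, inferInstance, fun x => (hX.false x).elim⟩
  choose t ht using hgen
  obtain ⟨S, hS⟩ := isCompact_univ.elim_finite_subcover (fun x => (locus (t x) : Set X))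
    (fun x => (locus (t x)).isOpen) (fun x _ => Set.mem_iUnion.2 ⟨x, ht x⟩)
  obtain ⟨n, hn⟩ : ∃ n, S.card = n + 1 := by
    refine Nat.exists_eq_add_one.2 (Finset.card_pos.2 ?_)
    obtain ⟨i, hi⟩ := Set.mem_iUnion.1 (hS (Set.mem_univ x₀))
    obtain ⟨hiS, -⟩ := Set.mem_iUnion.1 hi
    exact ⟨i, hiS⟩
  let e : Fin (n + 1) ≃ S := ((finCongr hn.symm).trans S.equivFin.symm)
  have hs : ProjUP.GeneratedBy L fun i => t (e i) := generatedBy_of_locus _ fun x => by
    obtain ⟨i, hi⟩ := Set.mem_iUnion.1 (hS (Set.mem_univ x))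
    obtain ⟨hiS, hx⟩ := Set.mem_iUnion.1 hi
    exact ⟨e.symm ⟨i, hiS⟩, by rw [Equiv.apply_symm_apply]; exact hx⟩
  obtain ⟨r, hr, τ, -⟩ := S3572.result n f L hL _ hs
  let P := CohB1.ProjSpace n k
  let p := CohB1.ProjSpace.toSpec n k
  haveI hp : IsProper p := PnCoh.Chow.isProper_toSpec n k
  haveI : IsProper r := by
    haveI : IsProper (r ≫ p) := hr ▸ ‹IsProper f›
    exact IsProper.of_comp r p
  classical
  let T : Finset (MvPolynomial (Fin (n + 1)) k) := Finset.univ.image MvPolynomial.X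
  have hamp : CohB1.IsAmple (Twist.twistProjSpace n k 1) := by
    refine AmpleX.isAmple_twist_one _ T (fun g hg => ?_) ?_
    · obtain ⟨i, -, rfl⟩ := Finset.mem_image.1 hg
      exact ProjPt.X_mem i
    · refine Proj.iSup_basicOpen_eq_top _ _ ((SegreX.irrelevant_le_span n k).trans ?_)
      refine Ideal.span_mono ?_
      rintro _ ⟨i, rfl⟩
      exact ⟨⟨_, Finset.mem_image.2 ⟨i, Finset.mem_univ _, rfl⟩⟩, rfl⟩
  haveI : JacobsonSpace X := LocallyOfFiniteType.jacobsonSpace f
  haveI : IsLocallyNoetherian X := LocallyOfFiniteType.isLocallyNoetherian f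
  haveI : IsNoetherian X := {}
  haveI : LocallyQuasiFinite r := locallyQuasiFinite_of_closed r fun q hq =>
    finite_preimage r hL hamp.1 τ hC q hq
  haveI : IsFinite r := IsFinite.of_isProper_of_locallyQuasiFinite r
  have hqa : Mor2.IsQuasiAffine r := ⟨inferInstance, fun V hV => by
    haveI : IsAffine (r ⁻¹ᵁ V) := hV.preimage r
    infer_instance⟩
  haveI : QuasiCompact p := inferInstance
  have h := AmpleX.isRelAmple_pullback_quasiAffine p r hqa ((AmpleX.isRelAmple_iff_isAmple p _).2 hamp)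
  exact AmpleX.isAmple_of_iso τ ((AmpleX.isRelAmple_iff_isAmple (r ≫ p) _).1 h)

/-- Triviality on a slice gives triviality over the point. -/
theorem fieldTriv_of_slice {k : Type u} [Field k] (X Y : Over (Spec (CommRingCat.of k))) [IsProper X.hom]
    [GeometricallyIntegral X.hom] [LocallyOfFiniteType Y.hom] {M : (X ⊗ Y).left.Modules}
    (hM : PicF.IsInvertible M) (a : 𝟙_ (Over (Spec (CommRingCat.of k))) ⟶ Y)
    (h : Triv ((Scheme.Modules.pullback (lift (𝟙 X) (toUnit X ≫ a)).left).obj M)) :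
    SeesawGlobal.FieldTriv (snd X Y).left M (a.left (IsLocalRing.closedPoint k)) := by
  haveI : IsProper (snd X Y).left := inferInstanceAs (IsProper (pullback.snd X.hom Y.hom))
  haveI : Flat (snd X Y).left := inferInstanceAs (Flat (pullback.snd X.hom Y.hom))
  haveI : GeometricallyIntegral (snd X Y).left := inferInstanceAs (GeometricallyIntegral (pullback.snd X.hom Y.hom))
  haveI : IsLocallyNoetherian Y.left := LocallyOfFiniteType.isLocallyNoetherian Y.hom
  refine SeesawGlobal.fieldTriv_of_point (snd X Y).left hM k (a.left : Spec (CommRingCat.of k) ⟶ Y.left) rfl ?_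
  refine SeesawGlobal.triv_of_factor (pullback.fst (snd X Y).left a.left ≫ (fst X Y).left) ?_ h
  have h1 : (lift (𝟙 X) (toUnit X ≫ a)).left ≫ (fst X Y).left = 𝟙 _ := by
    rw [← Over.comp_left, lift_fst]
    rfl
  have h2 : (lift (𝟙 X) (toUnit X ≫ a)).left ≫ (snd X Y).left = (toUnit X).left ≫ a.left := by
    rw [← Over.comp_left, lift_snd, Over.comp_left]
  apply pullback.hom_ext
  · show (_ ≫ (lift (𝟙 X) (toUnit X ≫ a)).left) ≫ (fst X Y).left = pullback.fst _ _ ≫ (fst X Y).left
    rw [Category.assoc, h1, Category.comp_id]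
  · show (_ ≫ (lift (𝟙 X) (toUnit X ≫ a)).left) ≫ (snd X Y).left = pullback.fst _ _ ≫ (snd X Y).left
    rw [Category.assoc, h2, pullback.condition, ← Category.assoc]
    congr 1
    have hu : (toUnit X).left = X.hom := rfl
    have e1 : (snd X Y).left ≫ Y.hom = (fst X Y).left ≫ X.hom := (Over.w (snd X Y)).trans (Over.w (fst X Y)).symm
    rw [hu, Category.assoc, ← e1, ← Category.assoc, pullback.condition, Category.assoc, Over.w a]
    exact Category.comp_id _

theorem ofSect_one {X : Scheme.{u}} {M : X.Modules} (s : Coh.structureModule X ⟶ M) : ofSect (one s) = s := by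
  refine sub_eq_zero.1 (AmpleX.eq_zero_of_one_eq_zero _ ?_)
  show one (ofSect (one s)) - one s = 0
  rw [one_ofSect, sub_self]

/-- The section of the inverse of an effective Cartier ideal vanishing exactly on the divisor. -/
theorem exists_divisor_section {X : Scheme.{u}} (I : X.IdealSheafData) (hI : BlowUp.IsEffCartierIdeal I)
    {L : X.Modules} (hL : PicF.IsInvertible L) (hLI : ClSub.IsInverseOf L (ClSub.idealMod I)) :
    ∃ s : Γ(L, ⊤), ∀ x, x ∈ locus s ↔ x ∉ I.support := by
  obtain ⟨φ⟩ := hLI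
  have hIi := (S8914.result I).2 hI
  let val : ∀ {U : X.Opens}, Γ(L, U) → Γ(ClSub.idealMod I, U) → Γ(X, U) := fun {U} t k => φ.hom.app U (tmul t k)
  have val_smul : ∀ {U : X.Opens} (r r' : Γ(X, U)) (t : Γ(L, U)) (k : Γ(ClSub.idealMod I, U)),
      val (r • t) (r' • k) = r * (r' * val t k) := fun {U} r r' t k => by
    show (show Γ(X, U) from φ.hom.app U (tmul (r • t) (r' • k))) = _
    rw [tmul_smul_left, tmul_smul_right, Scheme.Modules.Hom.app_smul, Scheme.Modules.Hom.app_smul]
    rfl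
  let P : ∀ U : X.Opens, Γ(L, U) → Prop := fun U t => ∀ (V : X.Opens) (h : V ≤ U) (k : Γ(ClSub.idealMod I, V)),
    val (AModX.res L h t) k = OmegaSh.idealSect I V k
  have loc : ∀ x : X, ∃ (U : X.Opens) (_ : x ∈ U) (t e : Γ(L, U)) (h : Γ(ClSub.idealMod I, U)),
      IsAffineOpen U ∧ IsFrame e ∧ IsFrame h ∧ P U t ∧ IsUnit (val e h) ∧
        ∃ w : Γ(X, U), IsUnit w ∧ t = (w * OmegaSh.idealSect I U h) • e := fun x => by
    obtain ⟨U₀, hx₀, e₀, h₀, he₀, hh₀⟩ := exists_frame₂ hL hIi x
    obtain ⟨U, hU, hxU, hUU⟩ := exists_isAffineOpen_mem_and_subset hx₀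
    let e := AModX.res L hUU e₀
    let h := AModX.res (ClSub.idealMod I) hUU h₀
    have he : IsFrame e := he₀.res _
    have hh : IsFrame h := hh₀.res _
    have hv : IsUnit (val e h) := by
      have hf := (IsFrame.map_iso φ (isFrame_tmul he hh)) U le_rfl
      obtain ⟨r, hr⟩ := hf.2 (show Γ(Coh.structureModule X, U) from (1 : Γ(X, U)))
      rw [AModX.res_self] at hr
      exact IsUnit.of_mul_eq_one_right r hr
    obtain ⟨v, hv'⟩ := hv
    refine ⟨U, hxU, ((↑v⁻¹ : Γ(X, U)) * OmegaSh.idealSect I U h) • e, e, h, hU, he, hh, fun V hV k => ?_,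
      ⟨v, hv'⟩, _, Units.isUnit _, rfl⟩
    obtain ⟨r, rfl⟩ := hh.exists_coord hV k
    have hmap : OmegaSh.idealSect I V (AModX.res (ClSub.idealMod I) hV h) = AModX.resR hV (OmegaSh.idealSect I U h) :=
      OmegaLib.idealSect_map I hV h
    rw [AModX.res_smul, val_smul, OmegaLib.idealSect_smul, hmap, map_mul,
      show val (AModX.res L hV e) (AModX.res (ClSub.idealMod I) hV h) = AModX.resR hV (val e h) by
        show φ.hom.app V _ = _
        rw [← res_tmul]
        exact AModX.app_res φ.hom hV _, ← hv']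
    have h1 : AModX.resR hV (↑v⁻¹ : Γ(X, U)) * AModX.resR hV (↑v : Γ(X, U)) = 1 := by
      rw [← map_mul, Units.inv_mul, map_one]
    linear_combination (r * AModX.resR hV (OmegaSh.idealSect I U h)) * h1
  choose U hxU t e h hU he hh ht hv w hw htw using loc
  obtain ⟨s, hs, -⟩ := AModX.existsUnique_glue (M := L) (V := ⊤) U (fun _ => le_top) (fun x _ => ⟨x, hxU x⟩) t
    fun x y => by
      have hf : IsFrame (AModX.res L (inf_le_left : U x ⊓ U y ≤ U x) (e x)) := (he x).res _
      obtain ⟨a, ha⟩ := hf.exists_coord le_rfl (AModX.res L (inf_le_left : U x ⊓ U y ≤ U x) (t x))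
      obtain ⟨b, hb⟩ := hf.exists_coord le_rfl (AModX.res L (inf_le_right : U x ⊓ U y ≤ U y) (t y))
      rw [AModX.res_self] at ha hb
      have h1 := ht x _ inf_le_left (AModX.res (ClSub.idealMod I) (inf_le_left : U x ⊓ U y ≤ U x) (h x))
      have h2 := ht y _ inf_le_right (AModX.res (ClSub.idealMod I) (inf_le_left : U x ⊓ U y ≤ U x) (h x))
      have e1 : ∀ c : Γ(X, U x ⊓ U y), val (c • AModX.res L (inf_le_left : U x ⊓ U y ≤ U x) (e x))
          (AModX.res (ClSub.idealMod I) (inf_le_left : U x ⊓ U y ≤ U x) (h x)) =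
          c * AModX.resR inf_le_left (val (e x) (h x)) := fun c => by
        have := val_smul c 1 (AModX.res L (inf_le_left : U x ⊓ U y ≤ U x) (e x))
          (AModX.res (ClSub.idealMod I) (inf_le_left : U x ⊓ U y ≤ U x) (h x))
        rw [one_smul, _root_.one_mul] at this
        rw [this]
        congr 1
        show φ.hom.app _ _ = _
        rw [← res_tmul]
        exact AModX.app_res φ.hom _ _
      rw [ha, e1] at h1
      rw [hb, e1] at h2
      rw [ha, hb, ((hv x).map (AModX.resR inf_le_left)).mul_left_injective (h1.trans h2.symm)]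
  refine ⟨s, fun x => ?_⟩
  have h1 := locus_eq_basicOpen (he x) ((hs x).trans (htw x))
  rw [Scheme.basicOpen_mul, Scheme.basicOpen_of_isUnit X (hw x)] at h1
  have h2 : x ∈ locus s ↔ x ∈ X.basicOpen (OmegaSh.idealSect I (U x) (h x)) := by
    have h3 := congrArg (fun W : X.Opens => x ∈ W) h1
    simpa only [Opens.mem_inf, hxU x, true_and, and_true, eq_iff_iff] using h3
  rw [h2, Scheme.IdealSheafData.mem_support_iff_of_mem (U := ⟨U x, hU x⟩) (hxU x), Scheme.mem_zeroLocus_iff]
  constructor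
  · exact fun h3 h4 => h4 _ (OmegaLib.idealSect_mem I ⟨U x, hU x⟩ (h x)) h3
  · intro h3
    push Not at h3
    obtain ⟨g, hg, hxg⟩ := h3
    obtain ⟨k, rfl⟩ := OmegaLib.exists_of_mem I ⟨U x, hU x⟩ g hg
    obtain ⟨r, rfl⟩ := (hh x).exists_coord le_rfl k
    rw [OmegaLib.idealSect_smul, AModX.res_self, Scheme.basicOpen_mul] at hxg
    exact hxg.2

/-- A section of a module trivial on a proper integral subscheme generates there everywhere or nowhere. -/
theorem mem_locus_of_triv {k : Type u} [Field k] {X : Scheme.{u}} (f : X ⟶ Spec (CommRingCat.of k))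
    [IsProper f] {C : Scheme.{u}} (j : C ⟶ X) [IsClosedImmersion j] [IsIntegral C] {M : X.Modules}
    (hM : PicF.IsInvertible M) (hMC : Triv ((Scheme.Modules.pullback j).obj M)) (t : Γ(M, ⊤)) {c : C}
    (hc : j c ∈ locus t) (c' : C) : j c' ∈ locus t := by
  haveI : IsProper (j ≫ f) := inferInstance
  have hne : pullElt j t ≠ 0 := fun h0 => by
    have h1 : c ∈ locus (show Γ((Scheme.Modules.pullback j).obj M, ⊤) from pullElt j t) := by
      rw [locus_pullElt hM]
      exact hc
    obtain ⟨U, hcU, hU⟩ := mem_locus_iff.1 h1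
    rw [show (show Γ((Scheme.Modules.pullback j).obj M, ⊤) from pullElt j t) = 0 from h0, map_zero] at hU
    have h01 := hU.coord_unique le_rfl (r := (0 : Γ(C, U))) (r' := 1) (by simp)
    haveI : Nonempty U := ⟨⟨c, hcU⟩⟩
    exact zero_ne_one h01
  exact mem_locus_of_pullElt hM j t (isFrame_of_ne_zero hMC (isField_of_universallyClosed k (j ≫ f)) hne) c'

section AV

open Groth.Agent.AVPair
open scoped Groth.Agent.H23.PicMul

variable {k : Type u} [Field k] [IsAlgClosed k] {A : Over (Spec (CommRingCat.of k))} [GrpObj A] [IsProper A.hom]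
  [GeometricallyIntegral A.hom]

/-- The translation. -/
noncomputable abbrev tr (a : 𝟙_ (Over (Spec (CommRingCat.of k))) ⟶ A) : A ⟶ A := 𝟙 A * (toUnit A ≫ a)

/-- The point underlying a rational point. -/
noncomputable abbrev pt (a : 𝟙_ (Over (Spec (CommRingCat.of k))) ⟶ A) : A.left := a.left (IsLocalRing.closedPoint k)

theorem comp_tr {T : Over (Spec (CommRingCat.of k))} (f : T ⟶ A) (a : 𝟙_ (Over (Spec (CommRingCat.of k))) ⟶ A) :
    f ≫ tr a = f * (toUnit T ≫ a) := by
  rw [MonObj.comp_mul, Category.comp_id, ← Category.assoc, toUnit_unique (f ≫ toUnit A) (toUnit T)]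

theorem tr_tr (a b : 𝟙_ (Over (Spec (CommRingCat.of k))) ⟶ A) : tr a ≫ tr b = tr (a * b) := by
  rw [comp_tr]
  unfold tr
  rw [MonObj.comp_mul, _root_.mul_assoc]

theorem unit_comp (a : 𝟙_ (Over (Spec (CommRingCat.of k))) ⟶ A) :
    toUnit (𝟙_ (Over (Spec (CommRingCat.of k)))) ≫ a = a := by
  rw [toUnit_unique (toUnit _) (𝟙 (𝟙_ (Over (Spec (CommRingCat.of k))))), Category.id_comp]

theorem tr_one : tr (1 : 𝟙_ (Over (Spec (CommRingCat.of k))) ⟶ A) = 𝟙 A := by
  rw [tr, MonObj.comp_one, _root_.mul_one]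

theorem exists_pt {x : A.left} (hx : IsClosed ({x} : Set A.left)) :
    ∃ a : 𝟙_ (Over (Spec (CommRingCat.of k))) ⟶ A, pt a = x := by
  obtain ⟨p, hp⟩ := (pointEquivClosedPoint A.hom).surjective ⟨x, hx⟩
  exact ⟨Over.homMk p.1 p.2, congrArg Subtype.val hp⟩

theorem isClosed_pt (a : 𝟙_ (Over (Spec (CommRingCat.of k))) ⟶ A) : IsClosed ({pt a} : Set A.left) :=
  ((pointEquivClosedPoint A.hom) ⟨a.left, Over.w a⟩).2

theorem exists_pt_mem {W : A.left.Opens} (hW : W ≠ ⊥) :
    ∃ a : 𝟙_ (Over (Spec (CommRingCat.of k))) ⟶ A, pt a ∈ W := by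
  haveI : JacobsonSpace A.left := LocallyOfFiniteType.jacobsonSpace A.hom
  obtain ⟨y, hy, hyc⟩ := nonempty_inter_closedPoints ((Opens.ne_bot_iff_nonempty W).1 hW) W.isOpen.isLocallyClosed
  obtain ⟨a, rfl⟩ := exists_pt (mem_closedPoints_iff.1 hyc)
  exact ⟨a, hy⟩

theorem eq_top_of_pt {W : A.left.Opens} (h : ∀ a : 𝟙_ (Over (Spec (CommRingCat.of k))) ⟶ A, pt a ∈ W) : W = ⊤ := by
  haveI : JacobsonSpace A.left := LocallyOfFiniteType.jacobsonSpace A.hom
  refine top_le_iff.1 fun x _ => ?_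
  by_contra hx
  obtain ⟨y, hy, hyc⟩ := nonempty_inter_closedPoints (Z := (W : Set A.left)ᶜ) ⟨x, hx⟩
    W.isOpen.isClosed_compl.isLocallyClosed
  obtain ⟨a, rfl⟩ := exists_pt (mem_closedPoints_iff.1 hyc)
  exact hy (h a)

/-- Two translates of a nonempty open meet. -/
theorem inf_ne_bot {U : A.left.Opens} (hU : U ≠ ⊥) (g h : A.left ⟶ A.left) [IsIso g] [IsIso h] :
    g ⁻¹ᵁ U ⊓ h ⁻¹ᵁ U ≠ ⊥ := by
  haveI : IsIntegral A.left := GeometricallyIntegral.isIntegral_of_subsingleton A.hom
  obtain ⟨x, hx⟩ := (Opens.ne_bot_iff_nonempty U).1 hU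
  obtain ⟨y, hy⟩ := g.surjective x
  obtain ⟨z, hz⟩ := h.surjective x
  exact (Opens.ne_bot_iff_nonempty _).2 (nonempty_preirreducible_inter (g ⁻¹ᵁ U).isOpen (h ⁻¹ᵁ U).isOpen
    ⟨y, show g y ∈ U from hy ▸ hx⟩ ⟨z, show h z ∈ U from hz ▸ hx⟩)

instance isIso_tr (a : 𝟙_ (Over (Spec (CommRingCat.of k))) ⟶ A) : IsIso (tr a).left :=
  ⟨(tr a⁻¹).left, by rw [← Over.comp_left, tr_tr, mul_inv_cancel, tr_one, Over.id_left],
    by rw [← Over.comp_left, tr_tr, inv_mul_cancel, tr_one, Over.id_left]⟩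

/-- Every point avoids a suitable pair of opposite translates of the divisor. -/
theorem exists_pair {U : A.left.Opens} (hU : U ≠ ⊥) (x : A.left) :
    ∃ a : 𝟙_ (Over (Spec (CommRingCat.of k))) ⟶ A, x ∈ (tr a).left ⁻¹ᵁ U ⊓ (tr a⁻¹).left ⁻¹ᵁ U := by
  let W : A.left.Opens := ⨆ a : 𝟙_ (Over (Spec (CommRingCat.of k))) ⟶ A,
    (tr a).left ⁻¹ᵁ U ⊓ (tr a⁻¹).left ⁻¹ᵁ U
  suffices h : W = ⊤ from Opens.mem_iSup.1 (h.ge (trivial : x ∈ (⊤ : A.left.Opens)))
  refine eq_top_of_pt fun b => ?_
  let g : A ⟶ A := (toUnit A ≫ b) * 𝟙 A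
  let h : A ⟶ A := (toUnit A ≫ b) * (𝟙 A)⁻¹
  have key : ∀ (e e' : A ⟶ A), e ≫ e' = 𝟙 A → e' ≫ e = 𝟙 A → IsIso e.left := fun e e' h1 h2 =>
    ⟨e'.left, by rw [← Over.comp_left, h1, Over.id_left], by rw [← Over.comp_left, h2, Over.id_left]⟩
  have hc : ∀ {T : Over (Spec (CommRingCat.of k))} (f : T ⟶ A) (c : 𝟙_ (Over (Spec (CommRingCat.of k))) ⟶ A),
      f ≫ toUnit A ≫ c = toUnit T ≫ c := fun f c => by
    rw [← Category.assoc, toUnit_unique (f ≫ toUnit A) (toUnit _)]
  haveI : IsIso g.left := key g ((toUnit A ≫ b)⁻¹ * 𝟙 A)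
    (by simp only [g, MonObj.comp_mul, GrpObj.comp_inv, hc, Category.comp_id, inv_mul_cancel_left])
    (by simp only [g, MonObj.comp_mul, hc, Category.comp_id, mul_inv_cancel_left])
  haveI : IsIso h.left := key h ((𝟙 A)⁻¹ * (toUnit A ≫ b))
    (by simp only [h, MonObj.comp_mul, GrpObj.comp_inv, hc, Category.comp_id, _root_.mul_inv_rev,
      _root_.inv_inv, inv_mul_cancel_right])
    (by simp only [h, MonObj.comp_mul, GrpObj.comp_inv, hc, Category.comp_id, _root_.mul_inv_rev,
      _root_.inv_inv, mul_inv_cancel_left])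
  obtain ⟨a, ha, ha'⟩ := exists_pt_mem (inf_ne_bot hU g.left h.left)
  refine Opens.mem_iSup.2 ⟨a, ?_, ?_⟩
  · show (tr a).left (pt b) ∈ U
    have e : b ≫ tr a = a ≫ g := by simp only [comp_tr, g, MonObj.comp_mul, Category.comp_id, hc, unit_comp]
    rw [show (tr a).left (pt b) = (b ≫ tr a).left (IsLocalRing.closedPoint k) from rfl, e]
    exact ha
  · show (tr a⁻¹).left (pt b) ∈ U
    have e : b ≫ tr a⁻¹ = a ≫ h := by
      simp only [comp_tr, h, MonObj.comp_mul, GrpObj.comp_inv, Category.comp_id, hc, unit_comp]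
    rw [show (tr a⁻¹).left (pt b) = (b ≫ tr a⁻¹).left (IsLocalRing.closedPoint k) from rfl, e]
    exact ha'

/-- The product of opposite translates of a section, as a section of the square. -/
theorem exists_section {L : A.left.Modules} (hL : PicF.IsInvertible L) (s : Γ(L, ⊤))
    (a : 𝟙_ (Over (Spec (CommRingCat.of k))) ⟶ A) :
    ∃ t : Γ(CohB1.tensorMod L L, ⊤), locus t = (tr a).left ⁻¹ᵁ locus s ⊓ (tr a⁻¹).left ⁻¹ᵁ locus s := by
  let l : PicF.Cl A.left := PicF.cl L
  have hsq := CubeAb.square (A := A) ⟨L, rfl, hL⟩ a a⁻¹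
  rw [mul_inv_cancel, CubeAb.tr, MonObj.comp_one, _root_.mul_one, CubeAb.F, Over.id_left,
    show PicMul.pullHom (𝟙 A.left) l = l from PicClLib.pullCl_id l] at hsq
  obtain ⟨e⟩ := (PicMul.cl_eq_iff (A := CohB1.tensorMod L L)).1 hsq
  let L1 := (Scheme.Modules.pullback (tr a).left).obj L
  let L2 := (Scheme.Modules.pullback (tr a⁻¹).left).obj L
  let m := mulHom (M := L1) (N := L2) (ofSect (pullElt (tr a).left s)) (ofSect (pullElt (tr a⁻¹).left s))
  refine ⟨one (m ≫ e.inv), ?_⟩
  show CohB1.genLocus _ (ofSect (one (m ≫ e.inv))) = _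
  rw [ofSect_one, show m ≫ e.inv = m ≫ e.symm.hom from rfl, genLocus_comp_iso,
    genLocus_mulHom (PicClLib.isInvertible_pullback _ hL) (PicClLib.isInvertible_pullback _ hL)]
  congr 1
  · exact locus_pullElt hL (tr a).left s
  · exact locus_pullElt hL (tr a⁻¹).left s

/-- The square of an effective invertible module is generated by sections. -/
theorem exists_section_mem {L : A.left.Modules} (hL : PicF.IsInvertible L) {s : Γ(L, ⊤)} (hs : s ≠ 0)
    (x : A.left) : ∃ t : Γ(CohB1.tensorMod L L, ⊤), x ∈ locus t := by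
  haveI : IsIntegral A.left := GeometricallyIntegral.isIntegral_of_subsingleton A.hom
  obtain ⟨a, ha⟩ := exists_pair (locus_ne_bot hL hs) x
  obtain ⟨t, ht⟩ := exists_section hL s a
  exact ⟨t, ht ▸ ha⟩

theorem isGloballyGenerated_sq {L : A.left.Modules} (hL : PicF.IsInvertible L) {s : Γ(L, ⊤)} (hs : s ≠ 0) :
    Curv2.IsGloballyGenerated (CohB1.tensorMod L L) := by
  choose t ht using exists_section_mem hL hs
  exact InvX.isGloballyGenerated_of_generated (generatedBy_of_locus t fun x => ⟨x, ht x⟩)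

section Curve

variable {L : A.left.Modules} (hL : PicF.IsInvertible L) {s : Γ(L, ⊤)} (hs : s ≠ 0)
  {C : Scheme.{u}} (j : C ⟶ A.left) [IsClosedImmersion j] [IsIntegral C]
  (hC : Triv ((Scheme.Modules.pullback j).obj (CohB1.tensorMod L L)))

include hL hC

/-- A contracted subscheme meeting both translates of the complement lies in both. -/
theorem range_subset_of_meet (a : 𝟙_ (Over (Spec (CommRingCat.of k))) ⟶ A) {c : C}
    (hc : j c ∈ (tr a).left ⁻¹ᵁ locus s ⊓ (tr a⁻¹).left ⁻¹ᵁ locus s) (c' : C) :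
    j c' ∈ (tr a).left ⁻¹ᵁ locus s ⊓ (tr a⁻¹).left ⁻¹ᵁ locus s := by
  obtain ⟨t, ht⟩ := exists_section hL s a
  rw [← ht] at hc ⊢
  exact mem_locus_of_triv A.hom j (isInvertible_tensorMod hL hL) hC t hc c'

include hs

/-- Translations along a contracted subscheme fix the module. -/
theorem cl_tr_eq (p q : 𝟙_ (Over (Spec (CommRingCat.of k))) ⟶ A) (hp : pt p ∈ Set.range j)
    (hq : pt q ∈ Set.range j) : pl (tr (p⁻¹ * q)) (PicF.cl L) = PicF.cl L := by
  haveI : IsCommMonObj A := isCommMonObj_of_isProper_of_geometricallyIntegral A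
  haveI : IsIntegral A.left := GeometricallyIntegral.isIntegral_of_subsingleton A.hom
  let W : Over (Spec (CommRingCat.of k)) := Over.mk (j ≫ A.hom)
  let w : W ⟶ A := Over.homMk j rfl
  haveI : IsProper W.hom := inferInstanceAs (IsProper (j ≫ A.hom))
  haveI : IsIntegral W.left := inferInstanceAs (IsIntegral C)
  haveI : GeometricallyIntegral W.hom := EquidimFibres.geometricallyIntegral_of_isAlgClosed
  let m := snd W A * (fst W A ≫ w)
  let M := (Scheme.Modules.pullback m.left).obj L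
  let f := (snd W A).left
  haveI : IsProper f := inferInstanceAs (IsProper (pullback.snd W.hom A.hom))
  haveI : Flat f := inferInstanceAs (Flat (pullback.snd W.hom A.hom))
  haveI : GeometricallyIntegral f := inferInstanceAs (GeometricallyIntegral (pullback.snd W.hom A.hom))
  haveI : IsLocallyNoetherian A.left := LocallyOfFiniteType.isLocallyNoetherian A.hom
  have hgood : ∀ y : A.left, SeesawGlobal.FieldTriv f M y := by
    haveI : JacobsonSpace A.left := LocallyOfFiniteType.jacobsonSpace A.hom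
    obtain ⟨a₁, ha₁⟩ : ∃ a₁, pt a₁ ∈ Set.range j := ⟨p, hp⟩
    let G : A.left.Opens := (tr p).left ⁻¹ᵁ locus s ⊓ ((tr p⁻¹).left ≫ ((𝟙 A)⁻¹ : A ⟶ A).left) ⁻¹ᵁ locus s
    haveI : IsIso ((𝟙 A)⁻¹ : A ⟶ A).left := by
      refine ⟨((𝟙 A)⁻¹ : A ⟶ A).left, ?_, ?_⟩ <;>
        rw [← Over.comp_left, GrpObj.comp_inv, Category.comp_id, _root_.inv_inv, Over.id_left]
    have hG : G ≠ ⊥ := inf_ne_bot (locus_ne_bot hL hs) _ _
    have hsub : closedPoints A.left ∩ G ⊆ {y | SeesawGlobal.FieldTriv f M y} := by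
      rintro y ⟨hy, hy1, hy2⟩
      obtain ⟨a, rfl⟩ := exists_pt (mem_closedPoints_iff.1 hy)
      obtain ⟨c, hc⟩ := hp
      have e1 : p ≫ tr a = a ≫ tr p := by
        rw [comp_tr, comp_tr, toUnit_unique (toUnit _) (𝟙 _), Category.id_comp, Category.id_comp, mul_comm]
      have hpc : ∀ (q : 𝟙_ (Over (Spec (CommRingCat.of k))) ⟶ A) (c : 𝟙_ (Over (Spec (CommRingCat.of k))) ⟶ A),
          q ≫ toUnit A ≫ c = c := fun q c => by
        rw [← Category.assoc, toUnit_unique (q ≫ toUnit A) (𝟙 _), Category.id_comp]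
      have e2 : p ≫ tr a⁻¹ = a ≫ tr p⁻¹ ≫ (𝟙 A)⁻¹ := by
        simp only [tr, MonObj.comp_mul, GrpObj.comp_inv, Category.comp_id, hpc,
          _root_.mul_inv_rev, _root_.inv_inv]
      have hcmem : j c ∈ (tr a).left ⁻¹ᵁ locus s ⊓ (tr a⁻¹).left ⁻¹ᵁ locus s := by
        rw [hc]
        refine ⟨?_, ?_⟩
        · show (tr a).left (pt p) ∈ locus s
          rw [show (tr a).left (pt p) = (p ≫ tr a).left (IsLocalRing.closedPoint k) from rfl, e1]
          exact hy1
        · show (tr a⁻¹).left (pt p) ∈ locus s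
          rw [show (tr a⁻¹).left (pt p) = (p ≫ tr a⁻¹).left (IsLocalRing.closedPoint k) from rfl, e2]
          exact hy2
      refine fieldTriv_of_slice W A (PicClLib.isInvertible_pullback _ hL) a ?_
      rw [triv_iff]
      show pl (lift (𝟙 W) (toUnit W ≫ a)) (pl m (PicF.cl L)) = 1
      rw [pl_pl, ← triv_iff]
      simp only [m, MonObj.comp_mul, lift_snd, lift_fst_assoc, Category.id_comp]
      rw [mul_comm, ← comp_tr]
      have hall : ∀ c', (w ≫ tr a).left c' ∈ locus s := fun c' => (range_subset_of_meet hL j hC a hcmem c').1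
      exact triv_of_frame (locus_eq_top_iff.1 ((locus_pullElt hL (w ≫ tr a).left s).trans
        (top_le_iff.1 fun c' _ => hall c')))
    intro y
    refine closure_minimal hsub (SeesawGlobal.isClosed_fieldTriv f (PicClLib.isInvertible_pullback _ hL)) ?_
    rw [Set.inter_comm, JacobsonSpace.closure_inter_closedPoints_eq_closure G.isOpen.isLocallyClosed,
      (G.isOpen.dense ((Opens.ne_bot_iff_nonempty G).1 hG)).closure_eq]
    trivial
  obtain ⟨N, hN, ⟨e⟩⟩ := AVSeesaw.exists_base W A M (PicClLib.isInvertible_pullback _ hL)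
    fun y _ => (SeesawGlobal.fieldTriv_iff_residueField y).1 (hgood y)
  have key : ∀ r : 𝟙_ (Over (Spec (CommRingCat.of k))) ⟶ A, pt r ∈ Set.range j →
      pl (tr r) (PicF.cl L) = PicF.cl N := by
    rintro r ⟨c, hc⟩
    have hcc : IsClosed ({c} : Set C) := by
      have := (isClosed_pt r).preimage j.continuous
      rw [← hc, ← Set.image_singleton, Set.preimage_image_eq _ j.isEmbedding.injective] at this
      exact this
    obtain ⟨p', hp'⟩ := (pointEquivClosedPoint W.hom).surjective ⟨c, hcc⟩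
    let r' : 𝟙_ (Over (Spec (CommRingCat.of k))) ⟶ W := Over.homMk p'.1 p'.2
    have hr' : r' ≫ w = r := by
      apply Over.OverMorphism.ext
      refine congrArg Subtype.val ((pointEquivClosedPoint A.hom).injective
        (a₁ := ⟨(r' ≫ w).left, Over.w (r' ≫ w)⟩) (a₂ := ⟨r.left, Over.w r⟩) (Subtype.ext ?_))
      show j (p'.1 (IsLocalRing.closedPoint k)) = pt r
      rw [← hc]
      exact congrArg j (congrArg Subtype.val hp')
    have h1 : pl m (PicF.cl L) = pl (snd W A) (PicF.cl N) := ((PicGrp.cl_eq_cl_iff _ _).2 ⟨e⟩).symm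
    have h2 := congrArg (pl (lift (toUnit A ≫ r') (𝟙 A))) h1
    simpa only [pl_pl, pl_id, m, MonObj.comp_mul, lift_snd, lift_fst_assoc, Category.assoc, hr'] using h2
  have h3 := congrArg (pl (tr p⁻¹)) ((key q hq).trans (key p hp).symm)
  rwa [pl_pl, pl_pl, tr_tr, tr_tr, inv_mul_cancel, tr_one, pl_id] at h3

/-- A subscheme on which the square is trivial is finite when the module is nondegenerate. -/
theorem finite_of_triv_sq
    (hnd : Set.Finite {a : 𝟙_ (Over (Spec (CommRingCat.of k))) ⟶ A | pl (tr a) (PicF.cl L) = PicF.cl L}) :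
    Finite C := by
  haveI : JacobsonSpace A.left := LocallyOfFiniteType.jacobsonSpace A.hom
  haveI : JacobsonSpace C := .of_isClosedEmbedding j.isClosedEmbedding
  obtain ⟨c₀, -, hc₀⟩ := nonempty_inter_closedPoints (Z := (Set.univ : Set C)) Set.univ_nonempty isClosed_univ.isLocallyClosed
  have hcl : ∀ c ∈ closedPoints C, ∃ q : 𝟙_ (Over (Spec (CommRingCat.of k))) ⟶ A, pt q = j c := fun c hc =>
    exists_pt (by rw [← Set.image_singleton]; exact j.isClosedEmbedding.isClosedMap _ (mem_closedPoints_iff.1 hc))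
  choose q hq using hcl
  let p := q c₀ hc₀
  have hfin : (closedPoints C).Finite := by
    refine Set.Finite.of_finite_image (f := fun c => j c) ?_ j.isClosedEmbedding.injective.injOn
    refine (hnd.image fun d => pt (p * d)).subset ?_
    rintro _ ⟨c, hc, rfl⟩
    refine ⟨p⁻¹ * q c hc, cl_tr_eq hL hs j hC p (q c hc) ⟨c₀, (hq c₀ hc₀).symm⟩ ⟨c, (hq c hc).symm⟩, ?_⟩
    show pt (p * (p⁻¹ * q c hc)) = j c
    rw [mul_inv_cancel_left, hq]
  haveI := JacobsonSpace.discreteTopology hfin
  haveI : Subsingleton C := ⟨fun x y => by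
    have h := nonempty_preirreducible_inter (isOpen_discrete ({x} : Set C)) (isOpen_discrete ({y} : Set C))
      ⟨x, rfl⟩ ⟨y, rfl⟩
    obtain ⟨z, hzx, hzy⟩ := h
    exact hzx.symm.trans hzy⟩
  infer_instance

omit hs in
/-- A translate of a contracted subscheme lies in the complement as soon as it meets it. -/
theorem range_subset_of_meet_one (u : 𝟙_ (Over (Spec (CommRingCat.of k))) ⟶ A) {c : C}
    (hc : (tr u).left (j c) ∈ locus s) (c' : C) : (tr u).left (j c') ∈ locus s := by
  haveI : IsCommMonObj A := isCommMonObj_of_isProper_of_geometricallyIntegral A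
  haveI : IsIntegral A.left := GeometricallyIntegral.isIntegral_of_subsingleton A.hom
  haveI : JacobsonSpace A.left := LocallyOfFiniteType.jacobsonSpace A.hom
  have hU : locus s ≠ ⊥ := (Opens.ne_bot_iff_nonempty _).2 ⟨_, hc⟩
  haveI : IsIso ((𝟙 A)⁻¹ : A ⟶ A).left := by
    refine ⟨((𝟙 A)⁻¹ : A ⟶ A).left, ?_, ?_⟩ <;>
      rw [← Over.comp_left, GrpObj.comp_inv, Category.comp_id, _root_.inv_inv, Over.id_left]
  haveI : JacobsonSpace C := .of_isClosedEmbedding j.isClosedEmbedding
  obtain ⟨c₁, hc₁, hc₁'⟩ := nonempty_inter_closedPoints (Z := ((j ≫ (tr u).left) ⁻¹ᵁ locus s : Set C))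
    ⟨c, hc⟩ (Opens.isOpen _).isLocallyClosed
  obtain ⟨p, hp⟩ := exists_pt (x := j c₁)
    (by rw [← Set.image_singleton]; exact j.isClosedEmbedding.isClosedMap _ (mem_closedPoints_iff.1 hc₁'))
  have hpc : ∀ (q : 𝟙_ (Over (Spec (CommRingCat.of k))) ⟶ A) (c : 𝟙_ (Over (Spec (CommRingCat.of k))) ⟶ A),
      q ≫ toUnit A ≫ c = c := fun q c => by
    rw [← Category.assoc, toUnit_unique (q ≫ toUnit A) (𝟙 _), Category.id_comp]
  obtain ⟨v, hv, hv'⟩ := exists_pt_mem (inf_ne_bot hU (tr p).left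
    ((tr (p⁻¹ * u)).left ≫ ((𝟙 A)⁻¹ : A ⟶ A).left))
  let w := u⁻¹ * v⁻¹
  have hw : (u * v) * w = 1 := by
    show u * v * (u⁻¹ * v⁻¹) = 1
    rw [_root_.mul_mul_mul_comm, mul_inv_cancel, mul_inv_cancel, _root_.mul_one]
  let L1 := (Scheme.Modules.pullback (tr u).left).obj L
  let L2 := (Scheme.Modules.pullback (tr v).left).obj L
  let L3 := (Scheme.Modules.pullback (tr w).left).obj L
  let σ := mulHom (M := CohB1.tensorMod L1 L2) (N := L3)
    (mulHom (M := L1) (N := L2) (ofSect (pullElt (tr u).left s)) (ofSect (pullElt (tr v).left s)))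
    (ofSect (pullElt (tr w).left s))
  have i1 : PicF.IsInvertible L1 := PicClLib.isInvertible_pullback _ hL
  have i2 : PicF.IsInvertible L2 := PicClLib.isInvertible_pullback _ hL
  have i3 : PicF.IsInvertible L3 := PicClLib.isInvertible_pullback _ hL
  have i123 := isInvertible_tensorMod (isInvertible_tensorMod i1 i2) i3
  let τ := mulHom σ σ
  have hcl : PicF.cl (CohB1.tensorMod (CohB1.tensorMod L1 L2) L3) = PicF.cl L * PicF.cl L * PicF.cl L := by
    have e1 := CubeAb.square (A := A) ⟨L, rfl, hL⟩ u v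
    have e2 := CubeAb.square (A := A) ⟨L, rfl, hL⟩ (u * v) w
    rw [hw, CubeAb.tr, MonObj.comp_one, _root_.mul_one, CubeAb.F, Over.id_left,
      show PicMul.pullHom (𝟙 A.left) (PicF.cl L) = PicF.cl L from PicClLib.pullCl_id (PicF.cl L)] at e2
    rw [PicMul.cl_tensor, PicMul.cl_tensor]
    show pl (tr u) (PicF.cl L) * pl (tr v) (PicF.cl L) * pl (tr w) (PicF.cl L) = _
    rw [show pl (tr u) (PicF.cl L) * pl (tr v) (PicF.cl L) = _ from e1.symm, e2]
    show pl (tr (u * v)) (PicF.cl L) * PicF.cl L * pl (tr w) (PicF.cl L) = _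
    ac_rfl
  have hτ : Triv ((Scheme.Modules.pullback j).obj
      (CohB1.tensorMod (CohB1.tensorMod (CohB1.tensorMod L1 L2) L3) (CohB1.tensorMod (CohB1.tensorMod L1 L2) L3))) := by
    refine (PicGrp.cl_eq_cl_iff _ _).1 ?_
    show PicMul.pullHom j (PicF.cl _) = 1
    rw [PicMul.cl_tensor, hcl]
    have h2 : PicMul.pullHom j (PicF.cl L * PicF.cl L) = 1 := by
      rw [← PicMul.cl_tensor]; exact (PicGrp.cl_eq_cl_iff _ _).2 hC
    rw [show PicF.cl L * PicF.cl L * PicF.cl L * (PicF.cl L * PicF.cl L * PicF.cl L) =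
      (PicF.cl L * PicF.cl L) * (PicF.cl L * PicF.cl L) * (PicF.cl L * PicF.cl L) by ac_rfl, map_mul, map_mul, h2,
      _root_.mul_one, _root_.mul_one]
  have hloc : locus (one τ) = (tr u).left ⁻¹ᵁ locus s ⊓ (tr v).left ⁻¹ᵁ locus s ⊓ (tr w).left ⁻¹ᵁ locus s := by
    show CohB1.genLocus _ (ofSect (one τ)) = _
    rw [ofSect_one, genLocus_mulHom i123 i123, inf_idem, genLocus_mulHom (isInvertible_tensorMod i1 i2) i3,
      genLocus_mulHom i1 i2]
    congr 1
    · congr 1
      · exact locus_pullElt hL (tr u).left s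
      · exact locus_pullElt hL (tr v).left s
    · exact locus_pullElt hL (tr w).left s
  have hmem : j c₁ ∈ locus (one τ) := by
    rw [hloc]
    refine ⟨⟨hc₁, ?_⟩, ?_⟩
    · show (tr v).left (j c₁) ∈ locus s
      rw [← hp, show (tr v).left (pt p) = (p ≫ tr v).left (IsLocalRing.closedPoint k) from rfl,
        show p ≫ tr v = v ≫ tr p by simp only [tr, MonObj.comp_mul, Category.comp_id, hpc, mul_comm]]
      exact hv
    · show (tr w).left (j c₁) ∈ locus s
      rw [← hp, show (tr w).left (pt p) = (p ≫ tr w).left (IsLocalRing.closedPoint k) from rfl,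
        show p ≫ tr w = v ≫ tr (p⁻¹ * u) ≫ (𝟙 A)⁻¹ by
          simp [tr, w, MonObj.comp_mul, GrpObj.comp_inv, hpc, mul_comm, mul_left_comm, _root_.mul_assoc]]
      exact hv'
  have h3 := mem_locus_of_triv A.hom j (isInvertible_tensorMod i123 i123) hτ (one τ) hmem c'
  rw [hloc] at h3
  exact h3.1.1

omit hs in
/-- Translations along a contracted subscheme preserve the complement of the divisor. -/
theorem preimage_locus_eq (p q : 𝟙_ (Over (Spec (CommRingCat.of k))) ⟶ A) (hp : pt p ∈ Set.range j)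
    (hq : pt q ∈ Set.range j) : (tr (p⁻¹ * q)).left ⁻¹ᵁ locus s = locus s := by
  haveI : IsCommMonObj A := isCommMonObj_of_isProper_of_geometricallyIntegral A
  haveI : JacobsonSpace A.left := LocallyOfFiniteType.jacobsonSpace A.hom
  have key : ∀ p q : 𝟙_ (Over (Spec (CommRingCat.of k))) ⟶ A, pt p ∈ Set.range j → pt q ∈ Set.range j →
      ∀ b, pt b ∈ locus s → pt (b * (p⁻¹ * q)) ∈ locus s := by
    rintro p q ⟨c, hc⟩ ⟨c', hc'⟩ b hb
    have h := range_subset_of_meet_one hL j hC (p⁻¹ * b) (c := c) (by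
      show (tr (p⁻¹ * b)).left (j c) ∈ locus s
      rw [hc, show (tr (p⁻¹ * b)).left (pt p) = (p ≫ tr (p⁻¹ * b)).left (IsLocalRing.closedPoint k) from rfl,
        comp_tr, unit_comp, mul_inv_cancel_left]
      exact hb) c'
    rw [hc', show (tr (p⁻¹ * b)).left (pt q) = (q ≫ tr (p⁻¹ * b)).left (IsLocalRing.closedPoint k) from rfl,
      comp_tr, unit_comp, show q * (p⁻¹ * b) = b * (p⁻¹ * q) by simp [mul_comm, mul_left_comm]] at h
    exact h
  have hiff : ∀ b, pt b ∈ locus s ↔ pt b ∈ (tr (p⁻¹ * q)).left ⁻¹ᵁ locus s := fun b => by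
    show _ ↔ (b ≫ tr (p⁻¹ * q)).left (IsLocalRing.closedPoint k) ∈ locus s
    rw [comp_tr, unit_comp]
    refine ⟨key p q hp hq b, fun h => ?_⟩
    have := key q p hq hp _ h
    rwa [_root_.mul_assoc, show p⁻¹ * q * (q⁻¹ * p) = 1 by
      rw [_root_.mul_assoc, mul_inv_cancel_left, inv_mul_cancel],
      _root_.mul_one] at this
  refine Opens.ext ?_
  have hext : ∀ U V : A.left.Opens, (∀ b, pt b ∈ U → pt b ∈ V) → (U : Set A.left) ⊆ V := fun U V h x hx => by
    by_contra hx'
    obtain ⟨y, ⟨hy, hy'⟩, hyc⟩ := nonempty_inter_closedPoints (Z := (U : Set A.left) ∩ (V : Set A.left)ᶜ) ⟨x, hx, hx'⟩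
      (U.isOpen.isLocallyClosed.inter V.isOpen.isClosed_compl.isLocallyClosed)
    obtain ⟨b, rfl⟩ := exists_pt (mem_closedPoints_iff.1 hyc)
    exact hy' (h b hy)
  exact Set.Subset.antisymm (hext _ _ fun b => (hiff b).2) (hext _ _ fun b => (hiff b).1)

end Curve

/-- An effective nondegenerate invertible module is ample. -/
theorem isAmple_of_effective {L : A.left.Modules} (hL : PicF.IsInvertible L) {s : Γ(L, ⊤)} (hs : s ≠ 0)
    (hC : ∀ {C : Scheme.{u}} (j : C ⟶ A.left), IsClosedImmersion j → IsIntegral C →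
      Triv ((Scheme.Modules.pullback j).obj (CohB1.tensorMod L L)) → Finite C) : CohB1.IsAmple L := by
  have h := isAmple_of_nontriv A.hom (isInvertible_tensorMod hL hL) (exists_section_mem hL hs) hC
  refine AmpleX.isAmple_of_tensorPow hL two_pos ?_
  obtain ⟨e⟩ : Nonempty (CohB1.tensorMod L L ≅ CohB1.tensorPow L 2) := PicMul.cl_eq_iff.1 (by
    rw [PicMul.cl_tensorPow, pow_two, PicMul.cl_tensor])
  exact AmpleX.isAmple_of_iso e h

theorem isAmple_of_finite_fixing {L : A.left.Modules} (hL : PicF.IsInvertible L) {s : Γ(L, ⊤)} (hs : s ≠ 0)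
    (hnd : Set.Finite {a : 𝟙_ (Over (Spec (CommRingCat.of k))) ⟶ A | pl (tr a) (PicF.cl L) = PicF.cl L}) :
    CohB1.IsAmple L :=
  isAmple_of_effective hL hs fun j _ _ hT => finite_of_triv_sq hL hs j hT hnd

end AV

end Groth.Agent.AVAmple

namespace Groth.Agent.AVAmple

open Groth.Agent.H23 Groth.Agent.H23.TrivBasic Groth.Agent.InvX

/-- The divisor section is nonzero. -/
theorem exists_divisor_section_ne_zero {X : Scheme.{u}} [IsIntegral X] (I : X.IdealSheafData)
    (hI : BlowUp.IsEffCartierIdeal I) {L : X.Modules} (hL : PicF.IsInvertible L)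
    (hLI : ClSub.IsInverseOf L (ClSub.idealMod I)) :
    ∃ s : Γ(L, ⊤), s ≠ 0 ∧ ∀ x, x ∈ locus s ↔ x ∉ I.support := by
  obtain ⟨s, hs⟩ := exists_divisor_section I hI hL hLI
  refine ⟨s, fun h0 => ?_, hs⟩
  obtain ⟨x⟩ : Nonempty X := inferInstance
  obtain ⟨U, hxU, f, hf, hIf⟩ := hI x
  haveI : Nonempty U.1 := ⟨⟨x, hxU⟩⟩
  obtain ⟨y, hy⟩ := (Opens.ne_bot_iff_nonempty (X.basicOpen f)).1 fun hb =>
    nonZeroDivisors.ne_zero hf (AlgebraicGeometry.eq_zero_of_basicOpen_eq_bot f hb)
  have hyI : y ∉ I.support := by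
    rw [Scheme.IdealSheafData.mem_support_iff_of_mem (U := U) (X.basicOpen_le f hy), Scheme.mem_zeroLocus_iff, hIf]
    exact fun h => h f (Ideal.mem_span_singleton_self f) hy
  obtain ⟨V, hyV, hV⟩ := mem_locus_iff.1 ((hs y).2 hyI)
  rw [h0, map_zero] at hV
  have h01 := hV.coord_unique le_rfl (r := (0 : Γ(X, V))) (r' := 1) (by simp)
  haveI : Nonempty V := ⟨⟨y, hyV⟩⟩
  exact zero_ne_one h01

variable {k : Type u} [Field k] [IsAlgClosed k] {A : Over (Spec (CommRingCat.of k))} [GrpObj A] [IsProper A.hom]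
  [GeometricallyIntegral A.hom]

/-- The stabiliser of a closed set is finite if the stabiliser of its components is. -/
theorem finite_stabilizer {S : Set A.left} (hS : IsClosed S)
    (hb : Set.Finite {a : (𝟙_ (Over (Spec (CommRingCat.of k)))) ⟶ A |
      ∀ Z ∈ irreducibleComponents ↥S, (fun x : A.left => (tr a).left x) '' (Subtype.val '' Z) = Subtype.val '' Z}) :
    Set.Finite {a : (𝟙_ (Over (Spec (CommRingCat.of k)))) ⟶ A | (tr a).left ⁻¹' S = S} := by
  haveI : IsCommMonObj A := isCommMonObj_of_isProper_of_geometricallyIntegral A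
  haveI : IsLocallyNoetherian A.left := LocallyOfFiniteType.isLocallyNoetherian A.hom
  haveI : CompactSpace A.left := QuasiCompact.compactSpace_of_compactSpace A.hom
  haveI : IsNoetherian A.left := {}
  haveI : Finite (irreducibleComponents ↥S) := NoetherianSpace.finite_irreducibleComponents
  let H := {a : (𝟙_ (Over (Spec (CommRingCat.of k)))) ⟶ A | (tr a).left ⁻¹' S = S}
  have htr : ∀ (a b : (𝟙_ (Over (Spec (CommRingCat.of k)))) ⟶ A) (x : A.left),
      (tr b).left ((tr a).left x) = (tr (a * b)).left x := fun a b x => by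
    rw [← tr_tr a b, Over.comp_left, Scheme.Hom.comp_apply]
  have h1 : ∀ x : A.left, (tr (1 : (𝟙_ (Over (Spec (CommRingCat.of k)))) ⟶ A)).left x = x := fun x => by
    rw [tr_one]; rfl
  have himg : ∀ a ∈ H, ∀ Z : irreducibleComponents ↥S, ∃ Z' : irreducibleComponents ↥S,
      (fun x : A.left => (tr a).left x) '' (Subtype.val '' Z.1) = Subtype.val '' Z'.1 := fun a ha Z => by
    let e : A.left ≃ₜ A.left := (tr a).left.homeomorph
    let g : ↥S ≃ₜ ↥S := e.subtype fun x => by
      show x ∈ S ↔ (tr a).left x ∈ S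
      exact (Set.ext_iff.1 ha x).symm
    refine ⟨⟨g.symm ⁻¹' Z.1, preimage_mem_irreducibleComponents Z.2 g.symm.isOpenEmbedding ?_⟩, ?_⟩
    · rw [g.symm.surjective.range_eq, Set.inter_univ]
      exact Z.2.1.nonempty
    · show e '' (Subtype.val '' Z.1) = Subtype.val '' (g.symm ⁻¹' Z.1)
      rw [← Homeomorph.image_eq_preimage_symm, Set.image_image, Set.image_image]
      rfl
  choose Φ hΦ using himg
  have hfib : ∀ a₀ : H, {a : H | Φ a.1 a.2 = Φ a₀.1 a₀.2}.Finite := fun a₀ => by
    refine Set.Finite.of_finite_image ?_ Subtype.val_injective.injOn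
    refine (hb.image fun d => a₀.1 * d).subset ?_
    rintro _ ⟨a, ha, rfl⟩
    refine ⟨a₀.1⁻¹ * a.1, fun Z hZ => ?_, mul_inv_cancel_left _ _⟩
    have e1 := hΦ a₀.1 a₀.2 ⟨Z, hZ⟩
    have e2 := hΦ a.1 a.2 ⟨Z, hZ⟩
    rw [show Φ a.1 a.2 = Φ a₀.1 a₀.2 from ha, ← e1] at e2
    have e3 : (fun x : A.left => (tr a₀.1⁻¹).left x) '' ((fun x : A.left => (tr a.1).left x) '' (Subtype.val '' Z)) =
        Subtype.val '' Z := by
      rw [e2, Set.image_image]
      simp only [htr, mul_inv_cancel, h1, Set.image_id']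
    rw [Set.image_image] at e3
    simpa only [htr, mul_comm a.1] using e3
  have : Finite H := by
    refine Set.finite_univ_iff.1 ((Set.finite_iUnion fun φ : irreducibleComponents ↥S → irreducibleComponents ↥S =>
      show {a : H | Φ a.1 a.2 = φ}.Finite from ?_).subset fun a _ => Set.mem_iUnion.2 ⟨Φ a.1 a.2, rfl⟩)
    rcases Set.eq_empty_or_nonempty {a : H | Φ a.1 a.2 = φ} with h | ⟨a₀, ha₀⟩
    · rw [h]; exact Set.finite_empty
    · exact (hfib a₀).subset fun a ha => (show Φ a.1 a.2 = φ from ha).trans ha₀.symm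
  exact this

/-- An effective divisor with finite stabiliser is ample. -/
theorem isAmple_of_finite_stabilizer {L : A.left.Modules} (hL : PicF.IsInvertible L) {s : Γ(L, ⊤)} (hs : s ≠ 0)
    (hst : Set.Finite {a : (𝟙_ (Over (Spec (CommRingCat.of k)))) ⟶ A | (tr a).left ⁻¹ᵁ locus s = locus s}) :
    CohB1.IsAmple L := by
  haveI : JacobsonSpace A.left := LocallyOfFiniteType.jacobsonSpace A.hom
  refine isAmple_of_effective hL hs fun {C} j _ _ hT => ?_
  haveI : JacobsonSpace C := .of_isClosedEmbedding j.isClosedEmbedding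
  obtain ⟨c₀, -, hc₀⟩ := nonempty_inter_closedPoints (Z := (Set.univ : Set C)) Set.univ_nonempty isClosed_univ.isLocallyClosed
  have hcl : ∀ c ∈ closedPoints C, ∃ q : 𝟙_ (Over (Spec (CommRingCat.of k))) ⟶ A, pt q = j c := fun c hc =>
    exists_pt (by rw [← Set.image_singleton]; exact j.isClosedEmbedding.isClosedMap _ (mem_closedPoints_iff.1 hc))
  choose q hq using hcl
  have hfin : (closedPoints C).Finite := by
    refine Set.Finite.of_finite_image (f := fun c => j c) ?_ j.isClosedEmbedding.injective.injOn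
    refine (hst.image fun d => pt (q c₀ hc₀ * d)).subset ?_
    rintro _ ⟨c, hc, rfl⟩
    refine ⟨(q c₀ hc₀)⁻¹ * q c hc,
      preimage_locus_eq hL j hT _ (q c hc) ⟨c₀, (hq c₀ hc₀).symm⟩ ⟨c, (hq c hc).symm⟩, ?_⟩
    show pt (q c₀ hc₀ * ((q c₀ hc₀)⁻¹ * q c hc)) = j c
    rw [mul_inv_cancel_left, hq]
  haveI := JacobsonSpace.discreteTopology hfin
  haveI : Subsingleton C := ⟨fun x y => by
    obtain ⟨z, hzx, hzy⟩ := nonempty_preirreducible_inter (isOpen_discrete ({x} : Set C))
      (isOpen_discrete ({y} : Set C)) ⟨x, rfl⟩ ⟨y, rfl⟩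
    exact hzx.symm.trans hzy⟩
  infer_instance

end Groth.Agent.AVAmple
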