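import Groth.Agent.S0007
import Groth.Agent.QCoh.AffineCohom
import Groth.Agent.QCoh.HHExact
import Groth.Agent.QCoh.Qcqs
import Groth.Agent.QCoh.Local
import Groth.Agent.SiteBase.Top
import Groth.Agent.S0047
import Groth.Agent.KFlatLib.Perfect.Spread
import Groth.Agent.CurveCohLib.Proper
import Groth.Agent.Lib.CurveDeg

/-!
Vanishing of `H^i`, `i ≥ 2`, of quasi-coherent sheaves on curves.
-/

set_option linter.style.haveILetI false
set_option linter.unusedSectionVars false
set_option backward.isDefEq.respectTransparency false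
set_option backward.isDefEq.respectTransparency.types false

universe u

open CategoryTheory CategoryTheory.Limits CategoryTheory.Abelian AlgebraicGeometry TopologicalSpace Opposite

namespace Groth.Agent.CurveVanish

variable {X : Scheme.{u}}

/-- A sheaf whose stalks vanish off a finite set of closed points has no higher cohomology. -/
theorem subsingleton_HH_of_finite {M : X.Modules} {T : Set X} (hT : T.Finite)
    (hcl : ∀ x ∈ T, IsClosed ({x} : Set X)) (h0 : ∀ x, x ∉ T → Subsingleton (M.presheaf.stalk x))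
    (n : ℕ) : Subsingleton (Coh.HH X M (n + 1)) := by
  have hTc : ∀ T' : Set X, T' ⊆ T → IsClosed T' := fun T' h => by
    have := Set.Finite.isClosed_biUnion (hT.subset h) (f := fun y => ({y} : Set X)) fun y hy => hcl y (h hy)
    rwa [Set.biUnion_of_singleton] at this
  have hzero : ∀ (W : X.Opens), (∀ x ∈ W, x ∉ T) → ∀ s : Γ(M, W), s = 0 := fun W hW s => by
    refine QCoh.eq_zero_of_locally W s fun x hx => ?_
    haveI := h0 x (hW x hx)
    obtain ⟨V, hxV, i, j, h⟩ := M.presheaf.germ_eq x hx hx s 0 (Subsingleton.elim _ _)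
    exact ⟨V, i, hxV, h.trans (map_zero _)⟩
  have hfl : TopCat.Sheaf.IsFlasque (X := X.toPresheafedSpace.carrier) ⟨M.presheaf, M.isSheaf⟩ := ⟨fun {A B} f => by
    refine (AddCommGrpCat.epi_iff_surjective _).2 fun s => ?_
    let W : X.Opens := ⟨(A.unop : Set X) ∩ (T ∩ (B.unop : Set X))ᶜ,
      A.unop.2.inter (hTc _ Set.inter_subset_left).isOpen_compl⟩
    let V : Bool → X.Opens := fun b => cond b B.unop W
    let hV : ∀ b, V b ⟶ A.unop := fun b => homOfLE (by cases b; exacts [fun z hz => hz.1, f.unop.le])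
    let sec : ∀ b, Γ(M, V b) := fun b => Bool.rec (motive := fun b => Γ(M, V b)) 0 s b
    obtain ⟨t, ht, -⟩ := TopCat.Sheaf.existsUnique_gluing' ⟨M.presheaf, M.isSheaf⟩ V A.unop hV
      (fun z hz => by
        by_cases hzB : z ∈ B.unop
        · exact Opens.mem_iSup.2 ⟨true, hzB⟩
        · exact Opens.mem_iSup.2 ⟨false, hz, fun h => hzB h.2⟩) sec
      (fun a b => by
        cases a <;> cases b
        · rfl
        · exact ((hzero (W ⊓ B.unop) (fun z hz hzS => hz.1.2 ⟨hzS, hz.2⟩) _).trans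
            (hzero (W ⊓ B.unop) (fun z hz hzS => hz.1.2 ⟨hzS, hz.2⟩) _).symm)
        · exact ((hzero (B.unop ⊓ W) (fun z hz hzS => hz.2.2 ⟨hzS, hz.1⟩) _).trans
            (hzero (B.unop ⊓ W) (fun z hz hzS => hz.2.2 ⟨hzS, hz.1⟩) _).symm)
        · rfl)
    exact ⟨t, ht true⟩⟩
  exact QCoh.Ab.subsingleton_H_of_HU_top (X := X.toPresheafedSpace.carrier) (Coh.toAb M) (n + 1)
    (@SiteBase.subsingleton_HU_of_isFlasque _ (Coh.toAb M) hfl ⊤ n)

theorem subsingleton_H_X₁ {Y : TopCat.{u}} {T : ShortComplex (CohTop.Ab Y)} (hT : T.ShortExact)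
    (n : ℕ) (h₂ : Subsingleton (CohTop.H T.X₂ (n + 1))) (h₃ : Subsingleton (CohTop.H T.X₃ n)) :
    Subsingleton (CohTop.H T.X₁ (n + 1)) := by
  refine subsingleton_of_forall_eq 0 fun x => ?_
  obtain ⟨y, hy⟩ := Ext.covariant_sequence_exact₁ _ hT x (h₂.elim _ _) rfl
  rw [← hy, h₃.elim y 0]
  exact Ext.zero_comp _ _ _ _ _

theorem subsingleton_HH_X₁ {S : ShortComplex X.Modules} (hS : S.ShortExact) (n : ℕ)
    (h₂ : Subsingleton (Coh.HH X S.X₂ (n + 1))) (h₃ : Subsingleton (Coh.HH X S.X₃ n)) :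
    Subsingleton (Coh.HH X S.X₁ (n + 1)) :=
  subsingleton_H_X₁ (Y := X.toPresheafedSpace.carrier) (T := S.map (QCoh.toAbFunctor X))
    (QCoh.toAb_shortExact hS) n h₂ h₃

/-- `H^i = 0` for `i ≥ 2` when a nonempty affine open has finite complement of closed points. -/
theorem subsingleton_HH_ge_two [X.IsSeparated] (U : X.Opens) (hU : IsAffineOpen U)
    (hfin : ((U : Set X)ᶜ).Finite) (hcl : ∀ x ∉ U, IsClosed ({x} : Set X))
    {F : X.Modules} (hF : Coh.IsQCoh F) (n : ℕ) : Subsingleton (Coh.HH X F (n + 2)) := by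
  haveI : IsAffine U.toScheme := hU
  haveI : IsAffineHom (U.ι ≫ terminal.from X) := isAffineHom_of_isAffine _
  haveI : IsAffineHom U.ι := IsAffineHom.of_comp U.ι (terminal.from X)
  have hT : ∀ (M : X.Modules), (∀ x ∈ U, Subsingleton (M.presheaf.stalk x)) → ∀ m,
      Subsingleton (Coh.HH X M (m + 1)) := fun M h =>
    subsingleton_HH_of_finite hfin hcl fun x hx => h x (not_not.1 hx)
  let f := KFlatLib.unitW U F
  obtain ⟨I, π, j, hj, hfac, w, hS⟩ : ∃ (I : X.Modules) (π : F ⟶ I) (j : I ⟶ _), Mono j ∧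
      π ≫ j = f ∧ ∃ w : kernel.ι f ≫ π = 0, (ShortComplex.mk (kernel.ι f) π w).ShortExact :=
    ⟨Abelian.coimage f, Abelian.coimage.π f, Abelian.factorThruCoimage f, inferInstance,
      Abelian.coimage.fac f, cokernel.condition _,
      { exact := ShortComplex.exact_of_g_is_cokernel _ (cokernelIsCokernel _) }⟩
  have hS₂ : (ShortComplex.mk j (cokernel.π j) (cokernel.condition j)).ShortExact :=
    { exact := ShortComplex.exact_of_g_is_cokernel _ (cokernelIsCokernel _) }
  have hiso : ∀ x ∈ U, IsIso ((DerSch.stalkFunctor X x).map f) := fun x hx =>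
    KFlatLib.isIso_stalk_unitW hx F
  have hK : ∀ x ∈ U, Subsingleton ((kernel f).presheaf.stalk x) := fun x hx => by
    haveI := hiso x hx
    have hz : IsZero ((DerSch.stalkFunctor X x).obj (kernel f)) :=
      (isZero_kernel_of_mono ((DerSch.stalkFunctor X x).map f)).of_iso
        (PreservesKernel.iso (DerSch.stalkFunctor X x) f)
    exact ModuleCat.subsingleton_of_isZero hz
  have hC : ∀ x ∈ U, Subsingleton ((cokernel j).presheaf.stalk x) := fun x hx => by
    haveI := hiso x hx
    haveI : Epi ((DerSch.stalkFunctor X x).map j) := by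
      haveI : Epi ((DerSch.stalkFunctor X x).map π ≫ (DerSch.stalkFunctor X x).map j) := by
        rw [← Functor.map_comp, hfac]; infer_instance
      exact epi_of_epi ((DerSch.stalkFunctor X x).map π) _
    have hz : IsZero ((DerSch.stalkFunctor X x).obj (cokernel j)) :=
      (isZero_cokernel_of_epi ((DerSch.stalkFunctor X x).map j)).of_iso
        (PreservesCokernel.iso (DerSch.stalkFunctor X x) j)
    exact ModuleCat.subsingleton_of_isZero hz
  have hG : Subsingleton (Coh.HH X ((Scheme.Modules.pushforward U.ι).obj (F.restrict U.ι)) (n + 2)) := by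
    obtain ⟨e⟩ := QCoh.HH_push_of_isAffineHom U.ι (QCoh.isQCoh_restrict U.ι hF) (n + 2)
    haveI : IsAffine U.toScheme := hU
    haveI : Coh.IsQCoh (F.restrict U.ι) := QCoh.isQCoh_restrict U.ι hF
    haveI := S0007.result U.toScheme (F.restrict U.ι) (n + 2) (by omega)
    exact e.symm.toEquiv.subsingleton
  exact QCoh.subsingleton_HH_X₂ hS (n + 2) (hT _ hK (n + 1))
    (subsingleton_HH_X₁ hS₂ (n + 1) hG (hT _ hC n))

/-- `H^i = 0` for `i ≥ 2` on an integral proper curve. -/
theorem subsingleton_HH_curve (k : Type u) [Field k] [X.Over (Spec (CommRingCat.of k))] [IsIntegral X]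
    [IsProper (X ↘ Spec (CommRingCat.of k))] (hdim : topologicalKrullDim X ≤ 1)
    {F : X.Modules} (hF : Coh.IsQCoh F) (n : ℕ) : Subsingleton (Coh.HH X F (n + 2)) := by
  haveI := CurveCohLib.isNoetherian_of_proper (k := k) (X := X)
  haveI : X.IsSeparated := ⟨by
    rw [← terminal.comp_from (X ↘ Spec (CommRingCat.of k))]
    infer_instance⟩
  obtain ⟨U, hU, hxU⟩ := QCoh.exists_affine_mem (genericPoint X)
  have hne : ((U : Set X)ᶜ) ≠ Set.univ := fun h => (h.symm ▸ Set.mem_univ (genericPoint X) :) hxU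
  have hd := CurveDeg.topologicalKrullDim_le_zero_of_ne_univ hdim U.2.isClosed_compl hne
  have hcl : ∀ x ∉ U, IsClosed ({x} : Set X) := fun x hx => by
    rw [← Euler.closure_eq_self_of_dim_le_zero U.2.isClosed_compl hd hx]
    exact isClosed_closure
  exact subsingleton_HH_ge_two U hU (CurveCohLib.finite_of_closedPoints U.2.isClosed_compl hcl) hcl hF n

end Groth.Agent.CurveVanish
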