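import Groth.Agent.Lib.CurveTensor
import Groth.Agent.Lib.CurveVanish
import Groth.Agent.KFlatLib.Perfect.Spread

/-!
Additive functions on coherent modules which vanish on modules supported at closed points.
-/

set_option linter.style.haveILetI false
set_option linter.unusedSectionVars false
set_option backward.isDefEq.respectTransparency false
set_option backward.isDefEq.respectTransparency.types false

universe u

open CategoryTheory CategoryTheory.Limits AlgebraicGeometry TopologicalSpace Opposite

namespace Groth.Agent.CurvePsi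

variable {X : Scheme.{u}}

/-- An additive function on coherent modules killing those supported at closed points. -/
structure Psi (X : Scheme.{u}) where
  toFun : X.Modules → ℤ
  congr : ∀ {M N : X.Modules}, (M ≅ N) → toFun M = toFun N
  add : ∀ {A B C : X.Modules} (f : A ⟶ B) (g : B ⟶ C) (w : f ≫ g = 0),
    (ShortComplex.mk f g w).ShortExact → Coh.IsCoh A → Coh.IsCoh B → Coh.IsCoh C →
      toFun B = toFun A + toFun C
  zero : ∀ {M : X.Modules}, Coh.IsCoh M → (∀ x ∈ CohB1.support M, IsClosed ({x} : Set X)) →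
    toFun M = 0

variable (ψ : Psi X)

theorem Psi.eq_zero_of_isZero {M : X.Modules} (hc : Coh.IsCoh M) (h : IsZero M) : ψ.toFun M = 0 :=
  ψ.zero hc fun x hx => absurd
    (ModuleCat.subsingleton_of_isZero (Functor.map_isZero (DerSch.stalkFunctor X x) h)) hx

/-- A map of coherent modules bijective on stalks off closed points preserves the function. -/
theorem Psi.eq_of_map [IsNoetherian X] {A B : X.Modules} (hA : Coh.IsCoh A) (hB : Coh.IsCoh B)
    (f : A ⟶ B)
    (h : ∀ x : X, ¬ IsClosed ({x} : Set X) → IsIso ((DerSch.stalkFunctor X x).map f)) :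
    ψ.toFun A = ψ.toFun B := by
  obtain ⟨I, π, j, hj, hfac, hK, hI, hπ, w, hS⟩ := CurveSlope.exists_factor hA hB f
  haveI := hj; haveI := hπ
  have hC : Coh.IsCoh (cokernel j) := QCoh.isCoh_cokernel hI.1 hB j
  have h1 := ψ.add _ _ w hS hK hA hI
  have h2 := ψ.add _ _ _ (CurveSlope.shortExact_cokernel_of_mono j) hI hB hC
  have h3 : ψ.toFun (kernel f) = 0 := ψ.zero hK fun x hx => by
    by_contra hx'
    haveI := h x hx'
    exact hx (ModuleCat.subsingleton_of_isZero
      ((isZero_kernel_of_mono ((DerSch.stalkFunctor X x).map f)).of_iso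
        (PreservesKernel.iso (DerSch.stalkFunctor X x) f)))
  have h4 : ψ.toFun (cokernel j) = 0 := ψ.zero hC fun x hx => by
    by_contra hx'
    haveI := h x hx'
    haveI : Epi ((DerSch.stalkFunctor X x).map j) := by
      haveI : Epi ((DerSch.stalkFunctor X x).map π ≫ (DerSch.stalkFunctor X x).map j) := by
        rw [← Functor.map_comp, hfac]; infer_instance
      exact epi_of_epi ((DerSch.stalkFunctor X x).map π) _
    exact hx (ModuleCat.subsingleton_of_isZero
      ((isZero_cokernel_of_epi ((DerSch.stalkFunctor X x).map j)).of_iso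
        (PreservesCokernel.iso (DerSch.stalkFunctor X x) j)))
  omega

/-- Modules isomorphic on an open, with support outside it at closed points, have the same value. -/
theorem Psi.eq_of_iso_on [IsNoetherian X] (U : X.Opens) {F G : X.Modules} (hF : Coh.IsCoh F)
    (hG : Coh.IsCoh G) (φ : F.restrict U.ι ≅ G.restrict U.ι)
    (hsupp : ∀ x ∉ U, ¬ IsClosed ({x} : Set X) →
      Subsingleton (F.presheaf.stalk x) ∧ Subsingleton (G.presheaf.stalk x)) :
    ψ.toFun F = ψ.toFun G := by
  classical
  let a : G ⟶ (Scheme.Modules.pushforward U.ι).obj (F.restrict U.ι) :=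
    KFlatLib.unitW U G ≫ (Scheme.Modules.pushforward U.ι).map φ.inv
  let T : PUnit.{u + 1} ⊕ PUnit.{u + 1} → X.Modules := fun b => b.elim (fun _ => F) fun _ => G
  let s : (⨁ T) ⟶ (Scheme.Modules.pushforward U.ι).obj (F.restrict U.ι) :=
    biproduct.desc fun b => match b with
      | .inl _ => KFlatLib.unitW U F
      | .inr _ => a
  haveI : QuasiCompact U.ι := inferInstance
  have hQ : Coh.IsQCoh ((Scheme.Modules.pushforward U.ι).obj (F.restrict U.ι)) :=
    QCoh.isQCoh_pushforward _ (QCoh.isQCoh_restrict _ hF.1)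
  have hT : Coh.IsCoh (⨁ T) := QCoh.isCoh_biproduct T fun b => by
    rcases b with b | b
    · exact hF
    · exact hG
  have hK := QCoh.isQCoh_kernel hT.1 hQ s
  have hH : Coh.IsCoh (Abelian.coimage s) := QCoh.isCoh_cokernel hK hT (kernel.ι s)
  let m := Abelian.factorThruCoimage s
  have key : ∀ {A : X.Modules} (l : A ⟶ ⨁ T), (∀ x ∈ U, IsIso ((DerSch.stalkFunctor X x).map (l ≫ s))) →
      (∀ x ∉ U, ¬ IsClosed ({x} : Set X) → Subsingleton (A.presheaf.stalk x)) →
      Coh.IsCoh A → ψ.toFun A = ψ.toFun (Abelian.coimage s) := by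
    intro A l hl hA0 hA
    refine ψ.eq_of_map hA hH (l ≫ Abelian.coimage.π s) fun x hx => ?_
    by_cases hxU : x ∈ U
    · haveI := hl x hxU
      haveI : IsIso ((DerSch.stalkFunctor X x).map (l ≫ Abelian.coimage.π s) ≫
          (DerSch.stalkFunctor X x).map m) := by
        rw [← Functor.map_comp, Category.assoc, Abelian.coimage.fac]
        infer_instance
      haveI : Epi ((DerSch.stalkFunctor X x).map m) :=
        epi_of_epi ((DerSch.stalkFunctor X x).map (l ≫ Abelian.coimage.π s)) _
      haveI : IsIso ((DerSch.stalkFunctor X x).map m) := isIso_of_mono_of_epi _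
      exact IsIso.of_isIso_comp_right _ ((DerSch.stalkFunctor X x).map m)
    · haveI := hA0 x hxU hx
      haveI : Subsingleton ((DerSch.stalkFunctor X x).obj (⨁ T)) := by
        have hz : IsZero ((DerSch.stalkFunctor X x).obj (⨁ T)) := by
          rw [IsZero.iff_id_eq_zero, ← CategoryTheory.Functor.map_id, ← QCoh.biproduct_total' T, Functor.map_sum]
          refine Finset.sum_eq_zero fun b _ => ?_
          haveI : Subsingleton ((DerSch.stalkFunctor X x).obj (T b)) := by
            rcases b with b | b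
            · exact (hsupp x hxU hx).1
            · exact (hsupp x hxU hx).2
          rw [Functor.map_comp]
          exact ((ModuleCat.isZero_of_subsingleton ((DerSch.stalkFunctor X x).obj (T b))).eq_of_tgt
            ((DerSch.stalkFunctor X x).map (biproduct.π T b)) 0).symm ▸ zero_comp
        exact ModuleCat.subsingleton_of_isZero hz
      have hs : Function.Surjective ((DerSch.stalkFunctor X x).map (Abelian.coimage.π s)) :=
        (ModuleCat.epi_iff_surjective _).1 inferInstance
      haveI : Subsingleton ((Abelian.coimage s).presheaf.stalk x) := hs.subsingleton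
      rw [ConcreteCategory.isIso_iff_bijective]
      exact ⟨fun _ _ _ => Subsingleton.elim (α := A.presheaf.stalk x) _ _,
        fun y => ⟨0, Subsingleton.elim (α := (Abelian.coimage s).presheaf.stalk x) _ _⟩⟩
  refine Eq.trans (key (biproduct.ι T (.inl PUnit.unit)) (fun x hx => ?_) (fun x hxU hx => (hsupp x hxU hx).1) hF)
    (key (biproduct.ι T (.inr PUnit.unit)) (fun x hx => ?_) (fun x hxU hx => (hsupp x hxU hx).2) hG).symm
  · rw [biproduct.ι_desc]
    exact KFlatLib.isIso_stalk_unitW hx F
  · rw [biproduct.ι_desc]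
    haveI := KFlatLib.isIso_stalk_unitW hx G
    show IsIso ((DerSch.stalkFunctor X x).map a)
    rw [Functor.map_comp]
    infer_instance

/-- The value of a finite power. -/
theorem Psi.biproduct_eq [IsNoetherian X] {M : X.Modules} (hM : Coh.IsCoh M) :
    ∀ n : ℕ, Coh.IsCoh (⨁ fun _ : ULift.{u} (Fin n) => M) ∧
      ψ.toFun (⨁ fun _ : ULift.{u} (Fin n) => M) = n * ψ.toFun M
  | 0 => by
    refine ⟨QCoh.isCoh_biproduct _ fun _ => hM, ?_⟩
    rw [Nat.cast_zero, zero_mul]
    refine ψ.eq_zero_of_isZero (QCoh.isCoh_biproduct _ fun _ => hM) ?_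
    rw [IsZero.iff_id_eq_zero]
    exact biproduct.hom_ext _ _ fun j => j.down.elim0
  | n + 1 => by
    obtain ⟨hc, he⟩ := Psi.biproduct_eq hM n
    let A := ⨁ fun _ : ULift.{u} (Fin (n + 1)) => M
    let B := ⨁ fun _ : ULift.{u} (Fin n) => M
    let p : A ⟶ B := biproduct.lift fun j => biproduct.π _ ⟨j.down.castSucc⟩
    let i : M ⟶ A := biproduct.ι (fun _ : ULift.{u} (Fin (n + 1)) => M) ⟨Fin.last n⟩
    let q : A ⟶ M := biproduct.π (fun _ : ULift.{u} (Fin (n + 1)) => M) ⟨Fin.last n⟩
    let s : B ⟶ A := biproduct.desc fun j => biproduct.ι (fun _ : ULift.{u} (Fin (n + 1)) => M) ⟨j.down.castSucc⟩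
    have hw : i ≫ p = 0 := biproduct.hom_ext _ _ fun j => by
      simp only [i, p, Category.assoc, biproduct.lift_π, zero_comp]
      exact biproduct.ι_π_ne _ fun h => (Fin.castSucc_lt_last j.down).ne (congrArg ULift.down h).symm
    have hsp : (ShortComplex.mk i p hw).Splitting :=
      { r := q
        s := s
        f_r := biproduct.ι_π_self _ _
        s_g := by
          refine biproduct.hom_ext' _ _ fun j => ?_
          simp only [s, p, ← Category.assoc, biproduct.ι_desc]
          refine biproduct.hom_ext _ _ fun l => ?_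
          simp only [Category.assoc, biproduct.lift_π]
          erw [Category.id_comp]
          by_cases hjl : j = l
          · subst hjl; simp
          · rw [biproduct.ι_π_ne _ hjl]; exact biproduct.ι_π_ne _ (fun h => hjl (ULift.ext _ _
              (Fin.castSucc_injective _ (congrArg ULift.down h))))
        id := by
          refine biproduct.hom_ext' _ _ fun j => ?_
          rw [Preadditive.comp_add, Category.comp_id]
          obtain ⟨j⟩ := j
          induction j using Fin.lastCases with
          | last =>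
            have h1 : biproduct.ι (fun _ : ULift.{u} (Fin (n + 1)) => M) ⟨Fin.last n⟩ ≫ p = 0 := hw
            rw [← Category.assoc _ p, h1, zero_comp, add_zero, ← Category.assoc, biproduct.ι_π_self,
              Category.id_comp]
          | cast l =>
            have h1 : biproduct.ι (fun _ : ULift.{u} (Fin (n + 1)) => M) ⟨l.castSucc⟩ ≫ p =
                biproduct.ι (fun _ : ULift.{u} (Fin n) => M) ⟨l⟩ := by
              refine biproduct.hom_ext _ _ fun j => ?_
              simp only [p, Category.assoc, biproduct.lift_π]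
              by_cases hjl : (⟨l⟩ : ULift.{u} (Fin n)) = j
              · subst hjl; simp
              · rw [biproduct.ι_π_ne _ hjl]; exact biproduct.ι_π_ne _ (fun h => hjl (ULift.ext _ _
                  (Fin.castSucc_injective _ (congrArg ULift.down h))))
            have hq0 : biproduct.ι (fun _ : ULift.{u} (Fin (n + 1)) => M) ⟨l.castSucc⟩ ≫ q = 0 :=
              biproduct.ι_π_ne _ (fun h => (Fin.castSucc_lt_last l).ne (congrArg ULift.down h))
            rw [← Category.assoc _ p, h1, biproduct.ι_desc, ← Category.assoc, hq0, zero_comp, zero_add] }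
    have hA : Coh.IsCoh A := QCoh.isCoh_biproduct _ fun _ => hM
    refine ⟨hA, ?_⟩
    rw [ψ.add i p hw hsp.shortExact hM hA hc, he]
    push_cast
    ring


section Euler

variable (k : Type u) [Field k] [X.Over (Spec (CommRingCat.of k))]
  [IsProper (X ↘ Spec (CommRingCat.of k))]

/-- `F ↦ χ(E ⊗ F) − n χ(F)` for a bundle of rank `n`. -/
noncomputable def eulerPsi {E : X.Modules} {n : ℕ} (hE : FlatMod.IsFinLocFreeOfRank n E) : Psi X where
  toFun F := Curv2.euler k X ((DCoh.tensorBi.obj E).obj F) - n * Curv2.euler k X F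
  congr e := by
    rw [Euler.euler_congr k ((DCoh.tensorBi.obj E).mapIso e), Euler.euler_congr k e]
  add f g w hS hA hB hC := by
    have hEf : FlatMod.IsFinLocFree E := fun y => let ⟨W, hy, he⟩ := hE y; ⟨W, n, hy, he⟩
    rw [CurveBundle.euler_add' k _ _ _ (CurveTensor.shortExact_tensor hEf f g w hS)
      (CurveTensor.isCoh_tensor hEf hA) (CurveTensor.isCoh_tensor hEf hB)
      (CurveTensor.isCoh_tensor hEf hC), CurveBundle.euler_add' k f g w hS hA hB hC]
    ring
  zero hM h0 := by
    rw [CurveTensor.euler_tensor_torsion k hE hM h0, sub_self]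

/-- Precomposition with tensoring by a bundle. -/
noncomputable def tensorPsi (ψ : Psi X) {V : X.Modules} (hV : FlatMod.IsFinLocFree V) : Psi X where
  toFun F := ψ.toFun ((DCoh.tensorBi.obj V).obj F)
  congr e := ψ.congr ((DCoh.tensorBi.obj V).mapIso e)
  add f g w hS hA hB hC := ψ.add _ _ _ (CurveTensor.shortExact_tensor hV f g w hS)
    (CurveTensor.isCoh_tensor hV hA) (CurveTensor.isCoh_tensor hV hB) (CurveTensor.isCoh_tensor hV hC)
  zero hM h0 := ψ.zero (CurveTensor.isCoh_tensor hV hM)
    fun x hx => h0 x (CurveTensor.support_tensor_subset hx)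

theorem isClosed_of_dim_le_one {Y : Type*} [TopologicalSpace Y] [T0Space Y]
    (h1 : topologicalKrullDim Y ≤ 1) {x ξ : Y} (h : ξ ⤳ x) (hne : x ≠ ξ) : IsClosed ({x} : Set Y) := by
  by_contra hc
  obtain ⟨y, hy, hyx⟩ : ∃ y, x ⤳ y ∧ y ≠ x := by
    by_contra h'
    push Not at h'
    refine hc ?_
    rw [← closure_eq_iff_isClosed]
    exact Set.Subset.antisymm (fun y hy => h' y (specializes_iff_mem_closure.2 hy)) subset_closure
  let cl : Y → IrreducibleCloseds Y := fun z =>
    ⟨closure {z}, isIrreducible_singleton.closure, isClosed_closure⟩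
  have hlt : ∀ {a b : Y}, a ⤳ b → b ≠ a → cl b < cl a := fun {a b} hab hne' => by
    refine lt_of_le_of_ne (specializes_iff_closure_subset.1 hab) fun he => hne' ?_
    exact (inseparable_iff_closure_eq.2 (congrArg SetLike.coe he)).eq
  let c : LTSeries (IrreducibleCloseds Y) :=
    ⟨2, ![cl y, cl x, cl ξ], fun i => by fin_cases i; exacts [hlt hy hyx, hlt h hne]⟩
  have := (Order.LTSeries.length_le_krullDim c).trans h1
  exact absurd this (by norm_num [c])

/-- Tensoring with a rank `m` bundle multiplies such a function by `m`. -/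
theorem Psi.tensor_eq [IsNoetherian X] (hdim : topologicalKrullDim X ≤ 1) {V : X.Modules} {m : ℕ}
    (hV : FlatMod.IsFinLocFreeOfRank m V) {F : X.Modules} (hF : Coh.IsCoh F) :
    ψ.toFun ((DCoh.tensorBi.obj V).obj F) = m * ψ.toFun F := by
  have hVf : FlatMod.IsFinLocFree V := fun y => let ⟨W, hy, he⟩ := hV y; ⟨W, m, hy, he⟩
  refine QCoh.devissage (fun M => (tensorPsi ψ hVf).toFun M = m * ψ.toFun M)
    ?_ ?_ Set.univ ?_ ?_ ?_ hF (Set.subset_univ _)
  · rintro M N ⟨e⟩ h
    rw [← (tensorPsi ψ hVf).congr e, ← ψ.congr e, h]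
  · intro M h
    rw [(tensorPsi ψ hVf).eq_zero_of_isZero (QCoh.isCoh_isZero h hF) h,
      ψ.eq_zero_of_isZero (QCoh.isCoh_isZero h hF) h, mul_zero]
  · intro S hS h₁ h₂ h₃ _ p₁ p₃
    rw [(tensorPsi ψ hVf).add S.f S.g S.zero hS h₁ h₂ h₃, p₁, p₃, ψ.add S.f S.g S.zero hS h₁ h₂ h₃]
    ring
  · intro ξ _ _ Z i _ _ hr
    let G := (Coh.push i).obj (Coh.structureModule Z)
    have hG : Coh.IsCoh G := QCoh.isCoh_push_structure i
    have hsupp : CohB1.support G ⊆ closure ({ξ} : Set X) :=
      hr ▸ QCoh.support_push_subset i QCoh.isQCoh_structureModule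
    by_cases hc : IsClosed ({ξ} : Set X)
    · have h0 : ∀ x ∈ CohB1.support G, IsClosed ({x} : Set X) := fun x hx => by
        rw [hc.closure_eq] at hsupp
        exact Set.mem_singleton_iff.1 (hsupp hx) ▸ hc
      rw [ψ.zero hG h0, (tensorPsi ψ hVf).zero hG h0, mul_zero]
    obtain ⟨U, hξU, ⟨e⟩⟩ := hV ξ
    obtain ⟨hc1, hb⟩ := ψ.biproduct_eq hG m
    let R := Scheme.Modules.restrictFunctorIsoPullback U.ι
    let φ : ((DCoh.tensorBi.obj V).obj G).restrict U.ι ≅
        (⨁ fun _ : ULift.{u} (Fin m) => G).restrict U.ι :=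
      R.app _ ≪≫ ((KFlatLib.pullTensorBiIso U.ι).app V).app G ≪≫
        (DCoh.tensorBi.mapIso ((R.app V).symm ≪≫ e)).app _ ≪≫
        PreservesCoproduct.iso (DCoh.tensorBi.flip.obj _) _ ≪≫
        Sigma.whiskerEquiv (f := fun _ : Fin m => _) (g := fun _ : ULift.{u} (Fin m) => G.restrict U.ι)
          Equiv.ulift.symm (fun _ => (CurveTensor.structureTensorIso _ ≪≫ (R.app G).symm).symm) ≪≫
        (PreservesCoproduct.iso (Scheme.Modules.restrictFunctor U.ι) _).symm ≪≫
        (Scheme.Modules.restrictFunctor U.ι).mapIso (biproduct.isoCoproduct _).symm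
    show ψ.toFun ((DCoh.tensorBi.obj V).obj G) = _
    rw [ψ.eq_of_iso_on U (CurveTensor.isCoh_tensor hVf hG) hc1 φ fun x hxU hx => ?_, hb]
    have hx0 : Subsingleton (G.presheaf.stalk x) := by
      refine not_not.1 fun hne => hx (isClosed_of_dim_le_one hdim
        (specializes_iff_mem_closure.2 (hsupp hne)) ?_)
      rintro rfl
      exact hxU hξU
    refine ⟨not_not.1 fun hne => (CurveTensor.support_tensor_subset (E := V) (F := G) hne) hx0, ?_⟩
    have hz : IsZero ((DerSch.stalkFunctor X x).obj (⨁ fun _ : ULift.{u} (Fin m) => G)) := by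
      rw [IsZero.iff_id_eq_zero, ← CategoryTheory.Functor.map_id,
        ← QCoh.biproduct_total' (fun _ : ULift.{u} (Fin m) => G), Functor.map_sum]
      refine Finset.sum_eq_zero fun b _ => ?_
      haveI : Subsingleton ((DerSch.stalkFunctor X x).obj G) := hx0
      rw [Functor.map_comp, (ModuleCat.isZero_of_subsingleton ((DerSch.stalkFunctor X x).obj G)).eq_of_tgt
        ((DerSch.stalkFunctor X x).map (biproduct.π (fun _ : ULift.{u} (Fin m) => G) b)) 0, zero_comp]
    exact ModuleCat.subsingleton_of_isZero hz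
  · intro S hS h₁ h₂ h₃ _ p₂ p₃
    rw [(tensorPsi ψ hVf).add S.f S.g S.zero hS h₁ h₂ h₃, p₃, ψ.add S.f S.g S.zero hS h₁ h₂ h₃] at p₂
    linarith

theorem deg_tensor_locFree [IsNoetherian X] (hdim : topologicalKrullDim X ≤ 1) {E V : X.Modules}
    {n m : ℕ} (hE : FlatMod.IsFinLocFreeOfRank n E) (hV : FlatMod.IsFinLocFreeOfRank m V) :
    Curv2.deg k X ((DCoh.tensorBi.obj E).obj V) (n * m) =
      n * Curv2.deg k X V m + m * Curv2.deg k X E n := by
  have h := Psi.tensor_eq (eulerPsi k hE) hdim hV (QCoh.isCoh_structureModule' (X := X))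
  rw [(eulerPsi k hE).congr (KFlatLib.tensorUnitIso V)] at h
  simp only [eulerPsi] at h
  rw [Euler.euler_congr k (KFlatLib.tensorUnitIso E)] at h
  unfold Curv2.deg
  push_cast
  linear_combination h

end Euler

end Groth.Agent.CurvePsi
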