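import Groth.Agent.Lib.HomSections
import Groth.Agent.SheafHomX.Coherent
import Groth.Prelude.Def_ModSite2
import Mathlib.CategoryTheory.Abelian.RightDerived
import Mathlib.Algebra.Homology.HomologicalComplexAbelian
import Mathlib.Algebra.Homology.HomologySequence

/-!
Local Ext sheaves of modules on a scheme: dimension shifting in the first variable.
-/

set_option linter.style.haveILetI false
set_option linter.unusedSectionVars false
set_option backward.isDefEq.respectTransparency false
set_option backward.isDefEq.respectTransparency.types false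
set_option maxHeartbeats 1000000

universe u

open CategoryTheory CategoryTheory.Limits AlgebraicGeometry TopologicalSpace Opposite

noncomputable section

namespace Groth.Agent.ExtShShift

open Groth.Agent.SheafHomX Groth.Agent.KFlatLib

variable {X : Scheme.{u}}

/-- The internal hom is left exact in the first variable. -/
theorem homMap_exact {S : ShortComplex X.Modules} (hS : S.Exact) [Epi S.g] (N : X.Modules) :
    ∃ w, Mono ((homMap S.g).app N) ∧
      (ShortComplex.mk ((homMap S.g).app N) ((homMap S.f).app N) w).Exact := by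
  have hz : (homMap S.g).app N ≫ (homMap S.f).app N = 0 := by
    rw [← homMap_comp, S.zero, homMap_zero]
  have hten : ∀ Z : X.Modules, (S.map ((DCoh.tensorBi (X := X)).obj Z)).Exact ∧
      Epi (((DCoh.tensorBi (X := X)).obj Z).map S.g) := fun Z => by
    haveI : PreservesColimitsOfSize.{u, u} ((DCoh.tensorBi (X := X)).obj Z) :=
      ⟨fun {K} _ => preservesColimitsOfShape_of_natIso ((KFlatLib.tensorBiFlipIso X).app Z)⟩
    haveI : PreservesFiniteColimits ((DCoh.tensorBi (X := X)).obj Z) :=
      PreservesColimitsOfSize.preservesFiniteColimits _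
    exact ⟨hS.map_of_epi_of_preservesCokernel _ inferInstance inferInstance,
      ((DCoh.tensorBi (X := X)).obj Z).map_epi S.g⟩
  have hmono : Mono ((homMap S.g).app N) := Preadditive.mono_of_cancel_zero _ fun {Z} a ha => by
    haveI : Epi (((DCoh.tensorBi (X := X)).obj Z).map S.g) := (hten Z).2
    have h1 : ((adj S.X₂).homEquiv Z N).symm (a ≫ (homMap S.g).app N) = 0 := by
      rw [ha, Adjunction.homEquiv_counit, Functor.map_zero, zero_comp]
    rw [homEquiv_homMap] at h1
    refine hom_ext ?_
    rw [Adjunction.homEquiv_counit, Adjunction.homEquiv_counit, Functor.map_zero, zero_comp,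
      ← Adjunction.homEquiv_counit]
    exact (cancel_epi (((DCoh.tensorBi (X := X)).obj Z).map S.g)).1 (h1.trans comp_zero.symm)
  refine ⟨hz, hmono, ShortComplex.exact_of_f_is_kernel _ (KernelFork.IsLimit.ofι' _ hz fun {Z} a ha => ?_)⟩
  haveI : Epi (S.map ((DCoh.tensorBi (X := X)).obj Z)).g := (hten Z).2
  have hb : (S.map ((DCoh.tensorBi (X := X)).obj Z)).f ≫ ((adj S.X₂).homEquiv Z N).symm a = 0 := by
    have h := homEquiv_homMap S.f a
    rw [show a ≫ (homMap S.f).app N = 0 from ha, Adjunction.homEquiv_counit, Functor.map_zero,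
      zero_comp] at h
    exact h.symm
  refine ⟨(adj S.X₃).homEquiv Z N ((hten Z).1.desc _ hb), hom_ext ?_⟩
  rw [homEquiv_homMap, Equiv.symm_apply_apply]
  exact (hten Z).1.g_desc _ hb

/-- A map onto on sections over every open is an epimorphism. -/
theorem epi_of_sections {A B : X.Modules} (v : A ⟶ B)
    (h : ∀ U : X.Opens, Function.Surjective
      fun a : (lsh U.ι).obj (Coh.structureModule (U : Scheme.{u})) ⟶ A => a ≫ v) : Epi v := by
  refine Preadditive.epi_of_cancel_zero _ fun {Z} g hg => Scheme.Modules.hom_ext _ _ fun W => ?_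
  obtain ⟨W, rfl⟩ : ∃ W' : X.Opens, W'.ι ''ᵁ ⊤ = W := ⟨W, W.ι_image_top⟩
  ext s
  obtain ⟨a, ha⟩ := (HomSections.surjective_postcomp_iff W.ι v).1 (h W) (InvX.ofSect s)
  have h1 : (((Scheme.Modules.restrictFunctor W.ι).map g).app ⊤) (InvX.one
      (a ≫ (Scheme.Modules.restrictFunctor W.ι).map v)) = 0 := by
    haveI : (Scheme.Modules.restrictFunctor W.ι).Additive := Functor.additive_of_preserves_binary_products _
    show InvX.one ((a ≫ (Scheme.Modules.restrictFunctor W.ι).map v) ≫ (Scheme.Modules.restrictFunctor W.ι).map g) = 0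
    rw [Category.assoc, ← Functor.map_comp, hg, Functor.map_zero, comp_zero]
    rfl
  rw [show a ≫ (Scheme.Modules.restrictFunctor W.ι).map v = _ from ha, InvX.one_ofSect] at h1
  exact h1

/-- The internal hom into an injective turns monomorphisms into epimorphisms. -/
theorem epi_homMap_injective {M M' : X.Modules} (f : M ⟶ M') [Mono f] (I : X.Modules) [Injective I] :
    Epi ((homMap f).app I) := by
  refine epi_of_sections _ fun U => ?_
  rw [HomSections.surjective_homMap_iff]
  haveI : Injective ((Scheme.Modules.restrictFunctor U.ι).obj I) :=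
    Injective.injective_of_adjoint (lshAdj U.ι) I
  haveI : PreservesLimitsOfSize.{0, 0} (Scheme.Modules.restrictFunctor U.ι) :=
    (lshAdj U.ι).rightAdjoint_preservesLimits
  intro ψ
  exact ⟨Injective.factorThru ψ ((Scheme.Modules.restrictFunctor U.ι).map f), Injective.comp_factorThru _ _⟩

instance additive_hom' (M : X.Modules) : (hom M).Additive := additive_hom M

section Complex

variable {L : X.Modules} (I : InjectiveResolution L)

/-- The complex computing the local Ext sheaves. -/
abbrev cx (M : X.Modules) : CochainComplex X.Modules ℕ :=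
  ((hom M).mapHomologicalComplex _).obj I.cocomplex

/-- Its functoriality. -/
abbrev cxMap {M M' : X.Modules} (f : M ⟶ M') : cx I M' ⟶ cx I M :=
  (NatTrans.mapHomologicalComplex (homMap f) _).app I.cocomplex

theorem exists_shortExact {S : ShortComplex X.Modules} (hS : S.ShortExact) :
    ∃ w, (ShortComplex.mk (cxMap I S.g) (cxMap I S.f) w).ShortExact := by
  haveI := hS.mono_f
  haveI := hS.epi_g
  refine ⟨HomologicalComplex.hom_ext _ _ fun i => ?_, ?_⟩
  · show (homMap S.g).app _ ≫ (homMap S.f).app _ = 0
    rw [← homMap_comp, S.zero, homMap_zero]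
  refine HomologicalComplex.shortExact_of_degreewise_shortExact _ fun i => ?_
  haveI : Injective (I.cocomplex.X i) := I.injective i
  obtain ⟨w, h1, h2⟩ := homMap_exact hS.exact (I.cocomplex.X i)
  exact { exact := h2, mono_f := h1, epi_g := epi_homMap_injective S.f (I.cocomplex.X i) }

/-- The augmentation into the degree zero cycles. -/
def toCycles (M : X.Modules) : (hom M).obj L ⟶ (cx I M).cycles 0 :=
  (cx I M).liftCycles ((hom M).map (I.ι.f 0)) 1 (by simp) (by
    show (hom M).map (I.ι.f 0) ≫ (hom M).map (I.cocomplex.d 0 1) = 0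
    rw [← Functor.map_comp]
    have := I.ι_f_zero_comp_complex_d
    rw [this, Functor.map_zero])

theorem toCycles_i (M : X.Modules) : toCycles I M ≫ (cx I M).iCycles 0 = (hom M).map (I.ι.f 0) :=
  HomologicalComplex.liftCycles_i _ _ _ _ _

theorem isIso_toCycles (M : X.Modules) : IsIso (toCycles I M) := by
  haveI : PreservesLimitsOfSize.{0, 0} (hom M) := (adj M).rightAdjoint_preservesLimits
  haveI : Mono (I.ι.f 0) := inferInstance
  have w : I.ι.f 0 ≫ I.cocomplex.d 0 1 = 0 := I.ι_f_zero_comp_complex_d
  have hk := KernelFork.mapIsLimit (KernelFork.ofι (I.ι.f 0) w) I.exact₀.fIsKernel (hom M)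
  let e := IsLimit.conePointUniqueUpToIso hk ((cx I M).cyclesIsKernel 0 1 (by simp))
  suffices toCycles I M = e.hom by rw [this]; infer_instance
  rw [← cancel_mono ((cx I M).iCycles 0), toCycles_i]
  exact (IsLimit.conePointUniqueUpToIso_hom_comp hk ((cx I M).cyclesIsKernel 0 1 (by simp))
    WalkingParallelPair.zero).symm

/-- Degree zero. -/
def zeroIso (M : X.Modules) : (hom M).obj L ≅ (cx I M).homology 0 :=
  haveI := isIso_toCycles I M
  asIso (toCycles I M) ≪≫ CochainComplex.isoHomologyπ₀ (cx I M)

theorem zeroIso_naturality {M M' : X.Modules} (f : M ⟶ M') :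
    (homMap f).app L ≫ (zeroIso I M).hom =
      (zeroIso I M').hom ≫ HomologicalComplex.homologyMap (cxMap I f) 0 := by
  show (homMap f).app L ≫ toCycles I M ≫ (cx I M).homologyπ 0 =
    (toCycles I M' ≫ (cx I M').homologyπ 0) ≫ HomologicalComplex.homologyMap (cxMap I f) 0
  rw [Category.assoc, HomologicalComplex.homologyπ_naturality, ← Category.assoc, ← Category.assoc]
  congr 1
  rw [← cancel_mono ((cx I M).iCycles 0), Category.assoc, Category.assoc, toCycles_i,
    HomologicalComplex.cyclesMap_i, ← Category.assoc, toCycles_i]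
  exact ((homMap f).naturality (I.ι.f 0)).symm

variable {S : ShortComplex X.Modules} (hS : S.ShortExact)

include hS in
theorem isZero_succ_succ_iff (q : ℕ) (h₁ : IsZero ((cx I S.X₂).homology (q + 1)))
    (h₂ : IsZero ((cx I S.X₂).homology (q + 2))) :
    IsZero ((cx I S.X₃).homology (q + 2)) ↔ IsZero ((cx I S.X₁).homology (q + 1)) := by
  obtain ⟨w, hc⟩ := exists_shortExact I hS
  exact (hc.δIso (q + 1) (q + 2) (by simp) h₁ h₂).symm.isZero_iff

include hS in
theorem isZero_one_iff (h₁ : IsZero ((cx I S.X₂).homology 1)) :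
    IsZero ((cx I S.X₃).homology 1) ↔ Epi ((homMap S.f).app L) := by
  obtain ⟨w, hc⟩ := exists_shortExact I hS
  have hn := zeroIso_naturality I S.f
  have hepi : Epi (hc.δ 0 1 (by simp)) :=
    (hc.homology_exact₁ 0 1 (by simp)).epi_f (h₁.eq_of_tgt _ _)
  have h2 : IsZero ((cx I S.X₃).homology 1) ↔ Epi (HomologicalComplex.homologyMap (cxMap I S.f) 0) := by
    constructor
    · intro h
      exact (hc.homology_exact₃ 0 1 (by simp)).epi_f (h.eq_of_tgt _ _)
    · intro h
      haveI := hepi
      refine IsZero.of_epi_eq_zero (hc.δ 0 1 rfl) ?_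
      apply (cancel_epi (HomologicalComplex.homologyMap (cxMap I S.f) 0)).1
      exact (hc.comp_δ 0 1 rfl).trans comp_zero.symm
  rw [h2]
  have h3 : (homMap S.f).app L =
      (zeroIso I S.X₂).hom ≫ HomologicalComplex.homologyMap (cxMap I S.f) 0 ≫ (zeroIso I S.X₁).inv := by
    rw [← Category.assoc, ← hn, Category.assoc, Iso.hom_inv_id, Category.comp_id]
  constructor
  · intro h
    haveI := h
    rw [h3]
    infer_instance
  · intro h
    haveI := h
    have h4 : HomologicalComplex.homologyMap (cxMap I S.f) 0 =
        (zeroIso I S.X₂).inv ≫ (homMap S.f).app L ≫ (zeroIso I S.X₁).hom := by rw [hn, Iso.inv_hom_id_assoc]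
    rw [h4]
    infer_instance

/-- No higher local Ext out of a module with exact internal hom. -/
theorem isZero_of_exact (M : X.Modules) (hM : ∀ {A B : X.Modules} (u : A ⟶ B), Epi u → Epi ((hom M).map u))
    (q : ℕ) : IsZero ((cx I M).homology (q + 1)) := by
  haveI : PreservesLimitsOfSize.{0, 0} (hom M) := (adj M).rightAdjoint_preservesLimits
  haveI : (hom M).PreservesEpimorphisms := ⟨fun u h => hM u h⟩
  haveI : (hom M).PreservesHomology := Functor.preservesHomology_of_preservesEpis_and_kernels _
  exact (HomologicalComplex.exactAt_iff_isZero_homology (cx I M) (q + 1)).1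
    (show (cx I M).ExactAt (q + 1) from (I.cocomplex_exactAt_succ q).map (hom M))

/-- The local Ext sheaf is computed by the complex. -/
theorem nonempty_extSh_iso (M : X.Modules) [ModSite.HasSheafHom (O := X.sheaf) M]
    [HasInjectiveResolutions (ModSite.Mod X.sheaf)] (q : ℕ) :
    Nonempty ((ModSite.extSh (O := X.sheaf) M q).obj L ≅ (cx I M).homology q) := by
  let σ : ModSite.sheafHom (O := X.sheaf) M ≅ hom M :=
    (ModSite.sheafHomAdj (O := X.sheaf) M).rightAdjointUniq (adj M)
  haveI : (ModSite.sheafHom (O := X.sheaf) M).Additive := ModSite.sheafHom_additive X.sheaf M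
  haveI : @Functor.Additive (ModSite.Mod X.sheaf) (ModSite.Mod X.sheaf) _ _ _ _ (hom M) := additive_hom M
  exact ⟨I.isoRightDerivedObj (ModSite.sheafHom (O := X.sheaf) M) q ≪≫
    (HomologicalComplex.homologyFunctor _ _ q).mapIso ((NatIso.mapHomologicalComplex σ _).app I.cocomplex)⟩

end Complex

end Groth.Agent.ExtShShift
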