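import Groth.Agent.Lib.TensorScalar
import Groth.Agent.Lib.ExtShShift
import Groth.Agent.Lib.CurveRR
import Groth.Agent.CurveCohLib.Nonspecial
import Groth.Agent.H23.PicMul
import Groth.Agent.OmegaLib.IdealMod
import Groth.Prelude.Def_RegImm

/-!
The first local Ext sheaf of the structure sheaf of an effective divisor.
-/

set_option linter.style.haveILetI false
set_option linter.unusedSectionVars false
set_option backward.isDefEq.respectTransparency false
set_option backward.isDefEq.respectTransparency.types false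
set_option maxHeartbeats 1000000

universe u

open CategoryTheory CategoryTheory.Limits AlgebraicGeometry TopologicalSpace Opposite
open scoped Groth.Agent.H23.PicMul

noncomputable section

namespace Groth.Agent.DivisorExt

open Groth.Agent.SheafHomX Groth.Agent.KFlatLib

variable {X : Scheme.{u}} (K : X.IdealSheafData)

/-- The ideal sequence. -/
theorem ideal_shortExact (Z : X.IdealSheafData) :
    (ShortComplex.mk (ClSub.idealModι Z) (ClSub.toSubscheme Z) (kernel.condition _)).ShortExact := by
  haveI : Epi (ClSub.toSubscheme Z) := by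
    refine Preadditive.epi_of_isZero_cokernel _ (CurveCohLib.isZero_of_subsingleton_stalks fun x => ?_)
    haveI : Epi ((DerSch.stalkFunctor X x).map (ClSub.toSubscheme Z)) := by
      refine (ModuleCat.epi_iff_surjective _).2 fun q => ?_
      obtain ⟨V, hxV, s, rfl⟩ := (ClSub.quotMod Z).presheaf.germ_exist q
      obtain ⟨_, ⟨W, hW, rfl⟩, hxW, hWV⟩ :=
        X.isBasis_affineOpens.exists_subset_of_mem_open (show x ∈ V from hxV) V.2
      have hle : W ≤ V := hWV
      obtain ⟨r, hr⟩ := Z.subschemeι_app_surjective ⟨W, hW⟩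
        (show Γ(Z.subscheme, Z.subschemeι ⁻¹ᵁ W) from (ClSub.quotMod Z).presheaf.map (homOfLE hle).op s)
      refine ⟨(Coh.structureModule X).presheaf.germ W x hxW r, ?_⟩
      rw [← (ClSub.quotMod Z).presheaf.germ_res_apply (homOfLE hle) x hxW s]
      refine Eq.trans ?_ (congrArg ((ClSub.quotMod Z).presheaf.germ W x hxW) hr)
      exact TopCat.Presheaf.stalkFunctor_map_germ_apply W x hxW ((Scheme.Modules.toPresheaf X).map (ClSub.toSubscheme Z)) r
    exact ModuleCat.subsingleton_of_isZero ((isZero_cokernel_of_epi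
      ((DerSch.stalkFunctor X x).map (ClSub.toSubscheme Z))).of_iso
        (PreservesCokernel.iso (DerSch.stalkFunctor X x) (ClSub.toSubscheme Z)))
  exact { exact := ShortComplex.exact_of_f_is_kernel _ (kernelIsKernel _), mono_f := (inferInstance : Mono (kernel.ι (ClSub.toSubscheme Z))), epi_g := inferInstance }

/-- Multiplication by a section of the ideal: `A ⊗ I → A`. -/
abbrev mulIdeal (A : X.Modules) : (ten (ClSub.idealMod K)).obj A ⟶ A :=
  (DCoh.tensorBi.obj A).map (ClSub.idealModι K) ≫ (tensorUnitIso A).hom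

theorem mulIdeal_tmS (A : X.Modules) {U : X.Opens} (a : Γ(A, U)) (b : Γ(ClSub.idealMod K, U)) :
    (mulIdeal K A).app U (QCoh.tmS A _ a b) = OmegaSh.idealSect K U b • a := by
  refine (congrArg ((tensorUnitIso A).hom.app U)
    (tmSh_naturality_right A (ClSub.idealModι K) (U := U) a b)).trans ?_
  exact TensorScalar.unit_tmS A a ((ClSub.idealModι K).app U b)

/-- Ideal sections commute. -/
theorem idealSect_smul_comm {U : X.Opens} (b c : Γ(ClSub.idealMod K, U)) :
    OmegaSh.idealSect K U b • c = OmegaSh.idealSect K U c • b := by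
  apply OmegaLib.idealSect_injective K U
  rw [OmegaLib.idealSect_smul, OmegaLib.idealSect_smul, mul_comm]

theorem ten_map_mulIdeal (A : X.Modules) :
    (ten (ClSub.idealMod K)).map (mulIdeal K A) = mulIdeal K ((ten (ClSub.idealMod K)).obj A) := by
  refine TensorScalar.tensor3_hom_ext (A := A) (B := ClSub.idealMod K) (C := ClSub.idealMod K) fun U a b c => ?_
  refine (tmSh_naturality_left (mulIdeal K A) (ClSub.idealMod K) (U := U) _ c).trans ?_
  refine Eq.trans ?_ (mulIdeal_tmS K ((ten (ClSub.idealMod K)).obj A) (QCoh.tmS A (ClSub.idealMod K) a b) c).symm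
  show QCoh.tmS A _ ((mulIdeal K A).app U (QCoh.tmS A _ a b)) c = _
  rw [mulIdeal_tmS, QCoh.tmS_smul_left]
  refine (QCoh.tmS_smul_right A (ClSub.idealMod K) _ a c).symm.trans ?_
  rw [idealSect_smul_comm K b c]
  exact QCoh.tmS_smul_right A (ClSub.idealMod K) _ a b

/-- Tensoring with an invertible ideal is an equivalence. -/
theorem isEquivalence_ten {L I : X.Modules} (hL : ClSub.IsInverseOf L I) : (ten I).IsEquivalence := by
  obtain ⟨e⟩ := hL
  obtain ⟨c⟩ := H23.PicMul.comm I L
  let e' : (DCoh.tensorBi.obj I).obj L ≅ Coh.structureModule X := c ≪≫ e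
  haveI : (DCoh.tensorBi.obj I).IsEquivalence :=
    (CategoryTheory.Equivalence.mk (DCoh.tensorBi.obj I) (DCoh.tensorBi.obj L)
      (CurveRR.cancelIso (A := L) (B := I) e).symm (CurveRR.cancelIso e')).isEquivalence_functor
  exact Functor.isEquivalence_of_iso ((KFlatLib.tensorBiFlipIso X).app I).symm

variable (ω : X.Modules) (L : X.Modules)

theorem nonempty_cancel (hL : ClSub.IsInverseOf L (ClSub.idealMod K)) :
    Nonempty ((ten (ClSub.idealMod K)).obj ((DCoh.tensorBi.obj L).obj ω) ≅ ω) := by
  refine H23.PicMul.cl_eq_iff.1 ?_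
  show PicF.cl L * PicF.cl ω * PicF.cl (ClSub.idealMod K) = PicF.cl ω
  have h : PicF.cl L * PicF.cl (ClSub.idealMod K) = 1 := H23.PicMul.cl_eq_iff.2 hL
  rw [mul_right_comm, h, one_mul]

/-- The adjunct of an isomorphism is one when the left adjoint is an equivalence. -/
theorem isIso_homEquiv {C D : Type*} [Category C] [Category D] {F : C ⥤ D} {G : D ⥤ C} (adj : F ⊣ G)
    [F.Full] [F.Faithful] {A : C} {B : D} (e : F.obj A ≅ B) : IsIso (adj.homEquiv A B e.hom) := by
  rw [Adjunction.homEquiv_unit]
  infer_instance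

/-- The comparison map `ω → Hom(O, ω)`. -/
def toHomUnit : ω ⟶ (hom (Coh.structureModule X)).obj ω :=
  (adj (Coh.structureModule X)).homEquiv _ _ (tensorUnitIso ω).hom

theorem isIso_toHomUnit : IsIso (toHomUnit ω) := by
  haveI : (ten (Coh.structureModule X)).IsEquivalence :=
    Functor.isEquivalence_of_iso (KFlatLib.tensorStructureIso X).symm
  exact isIso_homEquiv (adj (Coh.structureModule X)) (tensorUnitIso ω)

theorem exists_cokernel_iso (hL : ClSub.IsInverseOf L (ClSub.idealMod K)) :
    Nonempty (cokernel ((homMap (ClSub.idealModι K)).app ω) ≅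
      cokernel (mulIdeal K ((DCoh.tensorBi.obj L).obj ω))) := by
  obtain ⟨e⟩ := nonempty_cancel K ω L hL
  haveI := isEquivalence_ten hL
  let φ := (adj (ClSub.idealMod K)).homEquiv _ _ e.hom
  haveI : IsIso φ := isIso_homEquiv (adj (ClSub.idealMod K)) e
  haveI := isIso_toHomUnit ω
  have key : toHomUnit ω ≫ (homMap (ClSub.idealModι K)).app ω =
      (e.inv ≫ mulIdeal K _) ≫ φ := by
    refine hom_ext ?_
    rw [homEquiv_homMap, Adjunction.homEquiv_naturality_left_symm, Equiv.symm_apply_apply,
      Functor.map_comp, ten_map_mulIdeal]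
    show ((DCoh.tensorBi (X := X)).flip.map (ClSub.idealModι K)).app ω ≫
      ((adj (Coh.structureModule X)).homEquiv _ _).symm ((adj (Coh.structureModule X)).homEquiv _ _ (tensorUnitIso ω).hom) = _
    rw [Equiv.symm_apply_apply]
    have n1 : mulIdeal K ((ten (ClSub.idealMod K)).obj ((DCoh.tensorBi.obj L).obj ω)) ≫ e.hom =
        (ten (ClSub.idealMod K)).map e.hom ≫ mulIdeal K ω := by
      have h1 := (tensorStructureIso X).hom.naturality e.hom
      have h2 := ((DCoh.tensorBi (X := X)).flip.map (ClSub.idealModι K)).naturality e.hom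
      show (_ ≫ _) ≫ _ = _ ≫ _ ≫ _
      rw [Category.assoc]
      refine Eq.trans (congrArg (_ ≫ ·) h1.symm) ?_
      rw [← Category.assoc, ← Category.assoc]
      exact congrArg (· ≫ _) h2.symm
    rw [Category.assoc, n1, ← Category.assoc, ← Functor.map_comp, e.inv_hom_id, CategoryTheory.Functor.map_id,
      Category.id_comp]
    rfl
  let u := toHomUnit ω ≫ (homMap (ClSub.idealModι K)).app ω
  exact ⟨cokernel.mapIso _ u (asIso (toHomUnit ω)).symm (Iso.refl _) (by simp [u]) ≪≫
    cokernel.mapIso u (mulIdeal K _) e.symm (asIso φ).symm (by simp [u, key])⟩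

/-- Tensoring the ideal sequence. -/
theorem nonempty_cokernel_mulIdeal (A : X.Modules) :
    Nonempty (cokernel (mulIdeal K A) ≅ (DCoh.tensorBi.obj A).obj (ClSub.quotMod K)) := by
  haveI := ideal_shortExact K |>.epi_g
  haveI : PreservesColimitsOfSize.{u, u} (DCoh.tensorBi.obj A) :=
    ⟨fun {K} _ => preservesColimitsOfShape_of_natIso ((KFlatLib.tensorBiFlipIso X).app A)⟩
  haveI : PreservesFiniteColimits (DCoh.tensorBi.obj A) := PreservesColimitsOfSize.preservesFiniteColimits _
  have hx := (ideal_shortExact K).exact.map_of_epi_of_preservesCokernel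
    (DCoh.tensorBi.obj A) inferInstance inferInstance
  have he : Epi ((DCoh.tensorBi.obj A).map (ClSub.toSubscheme K)) := inferInstance
  haveI : Epi ((ShortComplex.mk (ClSub.idealModι K) (ClSub.toSubscheme K) (kernel.condition _)).map (DCoh.tensorBi.obj A)).g := he
  exact ⟨cokernel.mapIso (mulIdeal K A) ((DCoh.tensorBi.obj A).map (ClSub.idealModι K)) (Iso.refl _)
    (tensorUnitIso A).symm (by simp) ≪≫
    IsColimit.coconePointUniqueUpToIso (cokernelIsCokernel _) hx.gIsCokernel⟩

/-- The direct image of the structure sheaf under an isomorphism. -/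
theorem isIso_unitToPush {Y : Scheme.{u}} (j : Y ⟶ X) [IsIso j] : IsIso (ClSub.unitToPush j) := by
  refine Scheme.Modules.Hom.isIso_iff_isIso_app.2 fun U => ?_
  rw [ConcreteCategory.isIso_iff_bijective]
  exact ConcreteCategory.bijective_of_isIso (j.app U)

theorem nonempty_quotMod_iso {D : Scheme.{u}} (i : D ⟶ X) [IsClosedImmersion i] :
    Nonempty (ClSub.quotMod i.ker ≅ (Scheme.Modules.pushforward i).obj (Coh.structureModule D)) := by
  haveI := isIso_unitToPush i.toImage
  exact ⟨(Scheme.Modules.pushforward i.ker.subschemeι).mapIso (asIso (ClSub.unitToPush i.toImage)) ≪≫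
    (Scheme.Modules.pushforwardComp i.toImage i.ker.subschemeι).app _ ≪≫
    (Scheme.Modules.pushforwardCongr i.toImage_imageι).app _⟩

/-- `Ext¹` out of the divisor. -/
theorem nonempty_homology_iso {ω' : X.Modules} (I : InjectiveResolution ω') :
    Nonempty ((ExtShShift.cx I (ClSub.quotMod K)).homology 1 ≅ cokernel ((homMap (ClSub.idealModι K)).app ω')) := by
  let S : ShortComplex X.Modules := ShortComplex.mk (ClSub.idealModι K) (ClSub.toSubscheme K) (kernel.condition _)
  have hS : S.ShortExact := ideal_shortExact K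
  have hz : IsZero ((ExtShShift.cx I S.X₂).homology 1) :=
    ExtShShift.isZero_of_exact I S.X₂ (fun u hu => by
      haveI := hu
      haveI : (ten (Coh.structureModule X)).IsEquivalence :=
        Functor.isEquivalence_of_iso (KFlatLib.tensorStructureIso X).symm
      let α : ten (Coh.structureModule X) ⊣ (ten (Coh.structureModule X)).inv :=
        (ten (Coh.structureModule X)).asEquivalence.toAdjunction
      haveI : (hom (Coh.structureModule X)).IsEquivalence :=
        Functor.isEquivalence_of_iso (α.rightAdjointUniq (adj (Coh.structureModule X)))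
      exact Functor.map_epi _ u) 0
  obtain ⟨w, hc⟩ := ExtShShift.exists_shortExact I hS
  have hex := hc.homology_exact₃ 0 1 rfl
  haveI : Epi (hc.δ 0 1 rfl) := (hc.homology_exact₁ 0 1 rfl).epi_f (hz.eq_of_tgt _ _)
  exact ⟨(IsColimit.coconePointUniqueUpToIso (cokernelIsCokernel _) hex.gIsCokernel).symm ≪≫
    cokernel.mapIso _ _ (ExtShShift.zeroIso I _).symm (ExtShShift.zeroIso I _).symm (by
      show HomologicalComplex.homologyMap (ExtShShift.cxMap I (ClSub.idealModι K)) 0 ≫ (ExtShShift.zeroIso I _).inv =
        (ExtShShift.zeroIso I _).inv ≫ (homMap (ClSub.idealModι K)).app ω'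
      rw [Iso.eq_inv_comp, ← Category.assoc, Iso.comp_inv_eq, ExtShShift.zeroIso_naturality])⟩

end Groth.Agent.DivisorExt
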