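import Groth.Agent.Lib.SurfPairing
import Groth.Agent.Lib.DivisorExt
import Groth.Agent.S1684
import Groth.Agent.S8914
import Groth.Agent.H23.P1Graph
import Groth.Agent.RegDimTwo.Basic
import Groth.Agent.VarDim.Fibre
import Groth.Agent.PnCoh.PushNat
import Groth.Agent.Lib.CurveRR
import Groth.Agent.PicClLib.Basic
import Groth.Agent.KFlatLib.Scheme.ProjModule
import Groth.Agent.CurveCohLib.SmoothCurve

/-!
Integral curves on regular surfaces: effective Cartier divisors, Euler characteristics along the ideal sequence.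
-/

set_option autoImplicit false
set_option linter.style.haveILetI false
set_option linter.unusedSectionVars false
set_option backward.isDefEq.respectTransparency false
set_option backward.isDefEq.respectTransparency.types false
set_option maxHeartbeats 1000000

universe u

open CategoryTheory CategoryTheory.Limits AlgebraicGeometry TopologicalSpace Opposite IsLocalRing
open Groth.Agent.H23

noncomputable section

namespace Groth.Agent.CurveOnSurf

attribute [local instance] PicMul.clMonoid

/-- Regular local rings of dimension at most two are factorial. -/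
theorem ufd_of_dim_le_two (A : Type u) [CommRing A] [IsRegularLocalRing A] (h : ringKrullDim A ≤ 2) :
    IsDomain A ∧ UniqueFactorizationMonoid A := by
  haveI := RegLoc6.isDomain_of_isRegularLocalRing A
  by_cases h2 : ringKrullDim A = 2
  · exact RegDimTwo.ufd A h2
  have hr := (isRegularLocalRing_iff A).mp inferInstance
  have h1 : (maximalIdeal A).spanFinrank ≤ 1 := by
    rw [← hr] at h h2
    by_contra hc
    have h3 : (maximalIdeal A).spanFinrank ≤ 2 := by exact_mod_cast h
    exact h2 (by rw [show (maximalIdeal A).spanFinrank = 2 by omega]; rfl)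
  have hp : (maximalIdeal A).IsPrincipal := by
    have hfg : (maximalIdeal A).FG := IsNoetherian.noetherian _
    have hfin := Submodule.FG.finite_generators hfg
    rw [← Submodule.FG.generators_ncard hfg, Set.ncard_le_one hfin] at h1
    have h1' : (Submodule.generators (maximalIdeal A)).Subsingleton := fun a ha b hb => h1 a ha b hb
    rcases h1'.eq_empty_or_singleton with he | ⟨g, hg⟩
    · exact ⟨⟨0, by rw [← Submodule.span_generators (maximalIdeal A), he, Submodule.span_empty, Submodule.span_singleton_eq_bot.2 rfl]⟩⟩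
    · exact ⟨⟨g, by rw [← Submodule.span_generators (maximalIdeal A), hg]⟩⟩
  haveI : IsPrincipalIdealRing A :=
    ((tfae_of_isNoetherianRing_of_isLocalRing_of_isDomain A).out 4 0 rfl rfl).1 hp
  exact ⟨inferInstance, inferInstance⟩

variable {k : Type u} [Field k] {X : Scheme.{u}}

/-- An integral curve on a regular surface is an effective Cartier divisor. -/
theorem isInvertible_ideal (f : X ⟶ Spec (CommRingCat.of k)) [LocallyOfFiniteType f] [IsIntegral X] (hdim : topologicalKrullDim X = 2)
    (hreg : ∀ x : X, IsRegularLocalRing (X.presheaf.stalk x)) {C : Scheme.{u}} (i : C ⟶ X) [IsClosedImmersion i]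
    [IsIntegral C] (hC : topologicalKrullDim C = 1) : PicF.IsInvertible (ClSub.idealMod i.ker) := by
  haveI : IsLocallyNoetherian X := LocallyOfFiniteType.isLocallyNoetherian f
  obtain ⟨hI, hgen⟩ := P1Graph.image_integral i
  haveI := hI
  refine (S8914.result i.ker).2 (S1684.result X i.ker ?_ fun x _ => ?_)
  · rw [hgen]
    let η := genericPoint C
    obtain ⟨b, hb, ⟨ξ, hξ, hdeg⟩, hle⟩ := VarDim.exists_deg_add_stalk f (i η)
    have h2 : (VarDim.deg f (genericPoint X) : WithBot ℕ∞) = 2 := by
      have := (VarDim.topologicalKrullDim_eq_deg_genericPoint f).symm.trans hdim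
      exact this
    have h1 : (VarDim.deg (i ≫ f) η : WithBot ℕ∞) = 1 := (VarDim.topologicalKrullDim_eq_deg_genericPoint (i ≫ f)).symm.trans hC
    have h2' : VarDim.deg f (genericPoint X) = 2 := by exact_mod_cast h2
    have h1' : VarDim.deg (i ≫ f) η = 1 := by exact_mod_cast h1
    have h0 : VarDim.deg f (i η) = 1 := by
      have h3 := VarDim.tdeg_comp i f η
      rw [VarDim.rdeg_preimmersion, add_zero, ← VarDim.deg_eq_tdeg, ← VarDim.deg_eq_tdeg] at h3
      rw [← h1']
      exact_mod_cast h3.symm
    have hup := hle (genericPoint X) (genericPoint_specializes (i η))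
    have hdown := VarDim.deg_le_of_specializes f (genericPoint_specializes ξ)
    rw [hb, show b = 1 by omega]
    rfl
  · haveI := hreg x
    refine ufd_of_dim_le_two _ ?_
    exact (SchTop.ringKrullDim_stalk_le x).trans hdim.le

variable [X.Over (Spec (CommRingCat.of k))] [IsProper (X ↘ Spec (CommRingCat.of k))] {C : Scheme.{u}} (i : C ⟶ X) [IsClosedImmersion i]

/-- Euler characteristics along the ideal sequence. -/
theorem euler_ideal :
    letI : C.Over (Spec (CommRingCat.of k)) := ⟨i ≫ (X ↘ (Spec (CommRingCat.of k)))⟩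
    Curv2.euler k X (Coh.structureModule X) =
      Curv2.euler k X (ClSub.idealMod i.ker) + Curv2.euler k C (Coh.structureModule C) := by
  letI : C.Over (Spec (CommRingCat.of k)) := ⟨i ≫ (X ↘ (Spec (CommRingCat.of k)))⟩
  haveI := CurveCohLib.isNoetherian_of_proper (k := k) (X := X)
  haveI : IsLocallyNoetherian C := LocallyOfFiniteType.isLocallyNoetherian i
  obtain ⟨e⟩ := DivisorExt.nonempty_quotMod_iso i
  have hOC : Coh.IsCoh (Coh.structureModule C) := AmpleVan.isCoh_invertible InvX.isInvertible_structureModule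
  have hq : Coh.IsCoh (ClSub.quotMod i.ker) := ParShLib.isCoh_quotMod _
  have hI : Coh.IsCoh (ClSub.idealMod i.ker) :=
    QCoh.isCoh_kernel QCoh.isCoh_structureModule' hq _
  have h := CurveCohLib.euler_additive (k := k) (DivisorExt.ideal_shortExact i.ker) hI QCoh.isCoh_structureModule' hq
  refine h.trans (congrArg (Curv2.euler k X (ClSub.idealMod i.ker) + ·) ?_)
  refine (CurveCohLib.euler_congr (k := k) e).trans (finsum_congr fun n => ?_)
  obtain ⟨a⟩ := PnCoh.exists_linearEquiv_push k i rfl hOC.1 n
  rw [a.finrank_eq]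

/-- An inverse of an invertible module is invertible. -/
theorem isInvertible_of_inverse {L I : X.Modules} (hI : PicF.IsInvertible I) (h : ClSub.IsInverseOf L I) :
    PicF.IsInvertible L ∧ PicF.cl L * PicF.cl I = 1 := by
  obtain ⟨I', hI', e'⟩ := PicInv.exists_inverse hI
  have h1 : PicF.cl L * PicF.cl I = 1 := by
    rw [← PicMul.cl_tensor, PicMul.one_def]
    exact PicMul.cl_eq_iff.2 h
  have h2 : PicF.cl I * PicF.cl I' = 1 := by
    rw [← PicMul.cl_tensor, PicMul.one_def]
    exact PicMul.cl_eq_iff.2 e'
  have h3 : PicF.cl L = PicF.cl I' := by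
    rw [← mul_one (PicF.cl L), ← h2, ← mul_assoc, h1, one_mul]
  obtain ⟨e⟩ := PicMul.cl_eq_iff.1 h3
  exact ⟨PicMul.isInvertible_of_iso e.symm hI', h1⟩

/-- The structure sheaf of a nonempty closed subscheme receives a nonzero map. -/
theorem mapLin_toSubscheme_ne_zero (K : X.IdealSheafData) [Nonempty K.subscheme] :
    PnCoh.Finite.mapLin k (ClSub.toSubscheme K) 0 ≠ 0 := fun h => by
  let e := Sheaf.H.equiv₀ (Coh.toAb (Coh.structureModule X)) isTerminalTop
  let y := e.symm (1 : Γ(X, ⊤))
  have h1 := Sheaf.H.equiv₀_naturality isTerminalTop ((QCoh.toAbFunctor X).map (ClSub.toSubscheme K)) y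
  have h2 : Sheaf.H.map ((QCoh.toAbFunctor X).map (ClSub.toSubscheme K)) 0 y = 0 := LinearMap.congr_fun h y
  rw [h2, map_zero] at h1
  have h4 : (K.subschemeι.app ⊤).hom (e y) = 0 := h1
  have h5 : e y = (1 : Γ(X, ⊤)) := AddEquiv.apply_symm_apply e _
  rw [h5] at h4
  haveI : Nonempty (K.subschemeι ⁻¹ᵁ (⊤ : X.Opens) : K.subscheme.Opens) :=
    ⟨⟨Classical.arbitrary K.subscheme, trivial⟩⟩
  exact one_ne_zero ((map_one (K.subschemeι.app ⊤).hom).symm.trans h4)

/-- Sections of an ideal of a nonempty closed subscheme vanish. -/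
theorem finrank_h0_ideal [IsAlgClosed k] [Smooth (X ↘ Spec (CommRingCat.of k))] [ConnectedSpace X]
    (K : X.IdealSheafData) [Nonempty K.subscheme] :
    Module.finrank k (Coh.HH X (ClSub.idealMod K) 0) = 0 := by
  have hS := DivisorExt.ideal_shortExact K
  haveI := CurveCohLib.isNoetherian_of_proper (k := k) (X := X)
  haveI := CurveCohLib.finite_HH (k := k) (X := X) QCoh.isCoh_structureModule' 0
  have h1 := CurveCohLib.finrank_h0_eq_one k X
  have h2 := LinearMap.finrank_range_add_finrank_ker (PnCoh.Finite.mapLin k (ClSub.toSubscheme K) 0)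
  have h3 : 1 ≤ Module.finrank k (LinearMap.range (PnCoh.Finite.mapLin k (ClSub.toSubscheme K) 0)) := by
    rw [Submodule.one_le_finrank_iff, Ne, LinearMap.range_eq_bot]
    exact mapLin_toSubscheme_ne_zero K
  rw [CurveCohLib.ker_mapLin_g k hS 0, LinearMap.finrank_range_of_inj (CurveCohLib.mapLin_f_zero_injective k hS)] at h2
  dsimp only at h2
  omega

/-- First cohomology of an ideal whose subscheme has only constant functions. -/
theorem finrank_h1_ideal [IsAlgClosed k] [Smooth (X ↘ Spec (CommRingCat.of k))] [ConnectedSpace X]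
    (K : X.IdealSheafData) [Nonempty K.subscheme]
    (hK : Module.finrank k (Coh.HH X (ClSub.quotMod K) 0) = 1)
    (hH1 : Subsingleton (Coh.HH X (Coh.structureModule X) 1)) :
    Module.finrank k (Coh.HH X (ClSub.idealMod K) 1) = 0 := by
  have hS := DivisorExt.ideal_shortExact K
  haveI := CurveCohLib.isNoetherian_of_proper (k := k) (X := X)
  haveI := CurveCohLib.finite_HH (k := k) (X := X) (ParShLib.isCoh_quotMod K) 0
  have hr : LinearMap.range (PnCoh.Finite.mapLin k (ClSub.toSubscheme K) 0) = ⊤ := by
    refine Submodule.eq_top_of_finrank_eq (le_antisymm (Submodule.finrank_le _) (hK.le.trans ?_))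
    rw [Submodule.one_le_finrank_iff, Ne, LinearMap.range_eq_bot]
    exact mapLin_toSubscheme_ne_zero K
  have h0 : PnCoh.Finite.deltaLin k hS 0 = 0 := LinearMap.ker_eq_top.1 ((CurveCohLib.ker_deltaLin k hS 0).trans hr)
  have h1 := CurveCohLib.ker_mapLin_f_succ k hS 0
  rw [h0, LinearMap.range_zero] at h1
  haveI : Subsingleton (Coh.HH X (ClSub.idealMod K) (0 + 1)) := (LinearMap.ker_eq_bot.1 h1).subsingleton
  exact Module.finrank_zero_of_subsingleton

omit [X.Over (Spec (CommRingCat.of k))] [IsProper (X ↘ Spec (CommRingCat.of k))] in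
/-- Tensoring on the left with an invertible module is an equivalence. -/
theorem isEquivalence_tensor {A : X.Modules} (hA : PicF.IsInvertible A) :
    (DCoh.tensorBi.obj A).IsEquivalence := by
  obtain ⟨A', -, ⟨e⟩⟩ := PicInv.exists_inverse hA
  obtain ⟨c⟩ := PicMul.comm A' A
  let e' : (DCoh.tensorBi.obj A').obj A ≅ Coh.structureModule X := c ≪≫ e
  exact (CategoryTheory.Equivalence.mk (DCoh.tensorBi.obj A) (DCoh.tensorBi.obj A')
    (CurveRR.cancelIso (A := A') (B := A) e').symm (CurveRR.cancelIso e)).isEquivalence_functor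

omit [X.Over (Spec (CommRingCat.of k))] [IsProper (X ↘ Spec (CommRingCat.of k))] in
/-- The dual of an invertible module. -/
theorem dual_of_sheafHom {F : X.Modules} (hF : PicF.IsInvertible F) [DCoh.HasSheafHom F] :
    PicF.IsInvertible ((DCoh.sheafHom F).obj (Coh.structureModule X)) ∧
      PicF.cl ((DCoh.sheafHom F).obj (Coh.structureModule X)) * PicF.cl F = 1 := by
  haveI := isEquivalence_tensor hF
  let adj := Adjunction.ofIsLeftAdjoint (DCoh.tensorBi.obj F)
  haveI : (DCoh.sheafHom F).IsEquivalence :=
    Functor.isEquivalence_of_iso ((DCoh.tensorBi.obj F).asEquivalence.toAdjunction.rightAdjointUniq adj)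
  obtain ⟨c⟩ := PicMul.comm ((DCoh.sheafHom F).obj (Coh.structureModule X)) F
  exact isInvertible_of_inverse hF ⟨c ≪≫ asIso (adj.counit.app (Coh.structureModule X))⟩

omit [X.Over (Spec (CommRingCat.of k))] [IsProper (X ↘ Spec (CommRingCat.of k))] in
theorem ten_obj (M I : X.Modules) : (SheafHomX.ten I).obj M = CohB1.tensorMod M I := rfl

/-- Euler characteristics along a monomorphism. -/
theorem euler_mono {A B : X.Modules} (g : A ⟶ B) [Mono g] (hA : Coh.IsCoh A) (hB : Coh.IsCoh B) :
    Curv2.euler k X B = Curv2.euler k X A + Curv2.euler k X (cokernel g) := by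
  haveI := CurveCohLib.isNoetherian_of_proper (k := k) (X := X)
  let S := ShortComplex.mk g (cokernel.π g) (cokernel.condition g)
  have hS : S.ShortExact := { exact := ShortComplex.exact_of_g_is_cokernel _ (cokernelIsCokernel g) }
  exact CurveCohLib.euler_additive (k := k) (S := S) hS hA hB (QCoh.isCoh_cokernel hA.1 hB g)

/-- The pairing of an integral curve with an invertible module. -/
theorem pair_ideal {M : X.Modules} (hM : PicF.IsInvertible M) (hI : PicF.IsInvertible (ClSub.idealMod i.ker)) :
    letI : C.Over (Spec (CommRingCat.of k)) := ⟨i ≫ (X ↘ (Spec (CommRingCat.of k)))⟩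
    SurfPairing.pair k (PicF.cl (ClSub.idealMod i.ker)) (PicF.cl M) =
      -Curv2.deg k C ((Scheme.Modules.pullback i).obj M) 1 := by
  letI : C.Over (Spec (CommRingCat.of k)) := ⟨i ≫ (X ↘ (Spec (CommRingCat.of k)))⟩
  haveI := CurveCohLib.isNoetherian_of_proper (k := k) (X := X)
  haveI : IsLocallyNoetherian C := LocallyOfFiniteType.isLocallyNoetherian i
  haveI := isEquivalence_tensor hM
  haveI : Mono (ClSub.idealModι i.ker) := inferInstanceAs (Mono (kernel.ι _))
  haveI : Mono (DivisorExt.mulIdeal i.ker M) := by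
    haveI : Mono ((DCoh.tensorBi.obj M).map (ClSub.idealModι i.ker)) := inferInstance
    exact mono_comp _ _
  obtain ⟨e₁⟩ := DivisorExt.nonempty_cokernel_mulIdeal i.ker M
  obtain ⟨e₂⟩ := DivisorExt.nonempty_quotMod_iso i
  obtain ⟨c⟩ := PicMul.comm M ((Scheme.Modules.pushforward i).obj (Coh.structureModule C))
  haveI := KFlatLib.isIso_projMod_of_isClosedImmersion i (Coh.structureModule C) M
  obtain ⟨u⟩ := PicMul.comm (Coh.structureModule C) ((Scheme.Modules.pullback i).obj M)
  let e : cokernel (DivisorExt.mulIdeal i.ker M) ≅ (Coh.push i).obj ((Scheme.Modules.pullback i).obj M) :=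
    e₁ ≪≫ (DCoh.tensorBi.obj M).mapIso e₂ ≪≫ c ≪≫ asIso (KFlatLib.projMod i (Coh.structureModule C) M) ≪≫
      (Scheme.Modules.pushforward i).mapIso (u ≪≫ KFlatLib.tensorUnitIso _)
  have hMc : Coh.IsCoh M := AmpleVan.isCoh_invertible hM
  have hiM : PicF.IsInvertible ((Scheme.Modules.pullback i).obj M) := PicClLib.isInvertible_pullback i hM
  have hMI : Coh.IsCoh ((SheafHomX.ten (ClSub.idealMod i.ker)).obj M) := by
    rw [ten_obj]
    exact AmpleVan.isCoh_invertible (PicMul.isInvertible_tensor hM hI)
  have h := euler_mono (k := k) (DivisorExt.mulIdeal i.ker M) hMI hMc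
  rw [show Curv2.euler k X ((SheafHomX.ten (ClSub.idealMod i.ker)).obj M) = Curv2.euler k X (CohB1.tensorMod M (ClSub.idealMod i.ker)) from congrArg _ (ten_obj M _)] at h
  have h2 : Curv2.euler k X (cokernel (DivisorExt.mulIdeal i.ker M)) = Curv2.euler k C ((Scheme.Modules.pullback i).obj M) := by
    refine (CurveCohLib.euler_congr (k := k) e).trans (finsum_congr fun n => ?_)
    obtain ⟨a⟩ := PnCoh.exists_linearEquiv_push k i rfl (AmpleVan.isCoh_invertible hiM).1 n
    rw [a.finrank_eq]
  have hχ := euler_ideal (k := k) i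
  rw [SurfPairing.pair, mul_comm (PicF.cl (ClSub.idealMod i.ker)), ← PicMul.cl_tensor, SurfPairing.χ_cl,
    SurfPairing.χ_cl, SurfPairing.χ_cl, SurfPairing.χ_one]
  unfold Curv2.deg
  push_cast
  linarith

end Groth.Agent.CurveOnSurf
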