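import Groth.Agent.SheafHomX.Smul
import Groth.Agent.Synt29.ConormalExact

/-!
Pure tensors: the unit isomorphism, and morphisms out of a triple tensor product.
-/

set_option linter.style.haveILetI false
set_option linter.unusedSectionVars false
set_option backward.isDefEq.respectTransparency false
set_option backward.isDefEq.respectTransparency.types false
set_option maxHeartbeats 1000000

universe u

open CategoryTheory CategoryTheory.Limits AlgebraicGeometry TopologicalSpace Opposite MonoidalCategory
open scoped TensorProduct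

noncomputable section

namespace Groth.Agent.TensorScalar

open Groth.Agent.KFlatLib

variable {X : Scheme.{u}}

/-- The unit isomorphism on pure tensors. -/
theorem unit_tmS (M : X.Modules) {U : X.Opens} (s : Γ(M, U)) (r : Γ(Coh.structureModule X, U)) :
    (tensorUnitIso M).hom.app U (QCoh.tmS M (Coh.structureModule X) s r) = OmegaSh.fnSect X U r • s := by
  let adj := PresheafOfModules.sheafificationAdjunction (𝟙 X.ringCatSheaf.obj)
  let ρ : DCoh.toP.obj M ⊗ DCoh.toP.obj (Coh.structureModule X) ⟶ DCoh.toP.obj M :=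
    (ρ_ (DCoh.toP.obj M)).hom
  have h1 : unitShP (DCoh.toP.obj M ⊗ DCoh.toP.obj (Coh.structureModule X)) ≫
      DCoh.toP.map (tensorUnitIso M).hom = ρ := by
    show unitShP _ ≫ DCoh.toP.map ((DCoh.shP.map ρ ≫ 𝟙 _) ≫ (counitShP X).app M) = ρ
    rw [Category.comp_id, Functor.map_comp, ← Category.assoc, ← unitShP_naturality, Category.assoc]
    refine Eq.trans ?_ (Category.comp_id ρ)
    exact congrArg (ρ ≫ ·) (adj.right_triangle_components M)
  exact (congrArg (fun g => (PresheafOfModules.Hom.app g (op U)) (tm (P := DCoh.toP.obj M)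
    (Q := DCoh.toP.obj (Coh.structureModule X)) (U := op U) s r)) h1).trans rfl

/-- The stalk map of a morphism on a germ. -/
theorem map_gm {M N : X.Modules} (f : M ⟶ N) {x : X} {U : X.Opens} (hx : x ∈ U) (s : Γ(M, U)) :
    (DerSch.stalkFunctor X x).map f (gm M U hx s) = gm N U hx (f.app U s) :=
  DerSch.stalkFunctor_map_germ x f U hx s

/-- Morphisms out of a triple tensor product are determined on pure tensors. -/
theorem tensor3_hom_ext {A B C P : X.Modules}
    {f g : (DCoh.tensorBi.obj ((DCoh.tensorBi.obj A).obj B)).obj C ⟶ P}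
    (h : ∀ (U : X.Opens) (a : Γ(A, U)) (b : Γ(B, U)) (c : Γ(C, U)),
      f.app U (QCoh.tmS _ C (QCoh.tmS A B a b) c) = g.app U (QCoh.tmS _ C (QCoh.tmS A B a b) c)) :
    f = g := by
  refine Synt29.ConormalExact.hom_ext_stalk f g fun x m => ?_
  obtain ⟨w, rfl⟩ := ((stalkTensorIso x ((DCoh.tensorBi.obj A).obj B) C).toLinearEquiv).surjective m
  induction w using TensorProduct.induction_on with
  | zero => simp
  | add p q hp hq => simp only [map_add, hp, hq]
  | tmul z c =>
    obtain ⟨v, rfl⟩ := ((stalkTensorIso x A B).toLinearEquiv).surjective z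
    induction v using TensorProduct.induction_on with
    | zero => simp
    | add p q hp hq => simp only [map_add, TensorProduct.add_tmul, hp, hq]
    | tmul a b =>
      obtain ⟨W, hW, s, t, rfl, rfl⟩ := exists_germP_pair (P := DCoh.toP.obj A) (Q := DCoh.toP.obj B) a b
      obtain ⟨V, i, hV, c', rfl⟩ := exists_germP_common (P := DCoh.toP.obj C) hW c
      let s' : Γ(A, V) := res (DCoh.toP.obj A) i s
      let t' : Γ(B, V) := res (DCoh.toP.obj B) i t
      have ha : germP (DCoh.toP.obj A) W hW s = gm A V hV s' := (germP_res i hV s).symm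
      have hb : germP (DCoh.toP.obj B) W hW t = gm B V hV t' := (germP_res i hV t).symm
      have e1 : (stalkTensorIso x A B).toLinearEquiv
          (germP (DCoh.toP.obj A) W hW s ⊗ₜ[X.presheaf.stalk x] germP (DCoh.toP.obj B) W hW t) =
            gm ((DCoh.tensorBi.obj A).obj B) V hV (QCoh.tmS A B s' t') := by
        rw [ha, hb]
        exact stalkTensorIso_gm A B V hV s' t'
      have e2 : (stalkTensorIso x ((DCoh.tensorBi.obj A).obj B) C).toLinearEquiv
          ((gm ((DCoh.tensorBi.obj A).obj B) V hV (QCoh.tmS A B s' t')) ⊗ₜ[X.presheaf.stalk x] gm C V hV c') =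
            gm ((DCoh.tensorBi.obj ((DCoh.tensorBi.obj A).obj B)).obj C) V hV (QCoh.tmS _ C (QCoh.tmS A B s' t') c') :=
        stalkTensorIso_gm _ C V hV _ c'
      erw [e1, e2, map_gm, map_gm, h]

end Groth.Agent.TensorScalar
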