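import Groth.Agent.Lib.CurveDeg
import Groth.Agent.SmoothReg.Scheme
import Groth.Agent.KFlatLib.Scheme.Exact
import Mathlib.LinearAlgebra.FreeModule.PID

/-!
Vector bundles on smooth curves: coherent submodules are locally free, generic ranks,
and the slope argument for maps of semistable bundles.
-/

set_option linter.style.haveILetI false
set_option linter.unusedSectionVars false
set_option backward.isDefEq.respectTransparency false
set_option backward.isDefEq.respectTransparency.types false

universe u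

open CategoryTheory CategoryTheory.Limits AlgebraicGeometry TopologicalSpace Opposite

namespace Groth.Agent.CurveBundle

variable {X : Scheme.{u}}

/-- The generic rank. -/
noncomputable def rk [IrreducibleSpace X] (M : X.Modules) : ℕ :=
  Module.finrank (X.presheaf.stalk (genericPoint X)) (M.presheaf.stalk (genericPoint X))

theorem isField_stalk_generic [IsIntegral X] : IsField (X.presheaf.stalk (genericPoint X)) :=
  Field.toIsField X.functionField

theorem isPrincipalIdealRing_stalk (k : Type u) [Field k] [X.Over (Spec (CommRingCat.of k))]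
    [IsIntegral X] [Smooth (X ↘ Spec (CommRingCat.of k))]
    [LocallyOfFiniteType (X ↘ Spec (CommRingCat.of k))]
    (hdim : topologicalKrullDim X ≤ 1) (x : X) : IsPrincipalIdealRing (X.presheaf.stalk x) := by
  by_cases hx : closure ({x} : Set X) = Set.univ
  · have : x = genericPoint X :=
      ((genericPoint_spec X).eq (isGenericPoint_def.2 hx)).symm
    subst this
    letI := (isField_stalk_generic (X := X)).toField
    infer_instance
  · have hd0 := CurveDeg.topologicalKrullDim_le_zero_of_ne_univ hdim isClosed_closure hx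
    have hcl : IsClosed ({x} : Set X) := by
      rw [← Euler.closure_eq_self_of_dim_le_zero isClosed_closure hd0 (subset_closure rfl)]
      exact isClosed_closure
    haveI := LocallyOfFiniteType.isLocallyNoetherian (X ↘ Spec (CommRingCat.of k))
    have hd : ringKrullDim (X.presheaf.stalk x) ≤ 1 :=
      (SmoothReg.ringKrullDim_stalk_closedPoint (X ↘ Spec (CommRingCat.of k)) hcl).le.trans hdim
    have hreg := SmoothReg.isRegularLocalRing_stalk_of_mem_smoothLocus
      (X ↘ Spec (CommRingCat.of k)) (x := x) (by rw [Scheme.Hom.smoothLocus_eq_top]; trivial)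
    rw [IsRegularLocalRing.iff_finrank_cotangentSpace] at hreg
    have h1 : Module.finrank (IsLocalRing.ResidueField (X.presheaf.stalk x))
        (IsLocalRing.CotangentSpace (X.presheaf.stalk x)) ≤ 1 := by
      rw [← hreg] at hd
      exact_mod_cast hd
    exact ((tfae_of_isNoetherianRing_of_isLocalRing_of_isDomain (R := X.presheaf.stalk x)).out 5 0).1 h1

theorem stalkMap_injective {K E : X.Modules} (i : K ⟶ E) [Mono i] (x : X) :
    Function.Injective (Algz.stalkMapₗ i x) := by
  haveI : Mono ((DerSch.stalkFunctor X x).map i) := inferInstance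
  exact (ModuleCat.mono_iff_injective _).1 this

theorem free_stalk_of_mono [IsIntegral X] [IsLocallyNoetherian X] {K E : X.Modules} (i : K ⟶ E) [Mono i]
    (hE : FlatMod.IsFinLocFree E) (x : X) [IsPrincipalIdealRing (X.presheaf.stalk x)] :
    Module.Free (X.presheaf.stalk x) (K.presheaf.stalk x) := by
  haveI := QCoh.free_stalk_of_isFinLocFree hE x
  haveI := QCoh.finite_stalk_of_isFT (QCoh.isQCoh_of_isFinLocFree hE)
    (QCoh.isFT_of_isFP (QCoh.isFP_of_isFinLocFree hE)) x
  obtain ⟨n, b⟩ := Submodule.basisOfPid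
    (Module.Free.chooseBasis (X.presheaf.stalk x) (E.presheaf.stalk x))
    (LinearMap.range (Algz.stalkMapₗ i x))
  exact Module.Free.of_basis (b.map (LinearEquiv.ofInjective _ (stalkMap_injective i x)).symm)

theorem rk_eq [IsIntegral X] {M : X.Modules} {n : ℕ} (h : FlatMod.IsFinLocFreeOfRank n M) :
    rk M = n := by
  obtain ⟨x⟩ : Nonempty X := inferInstance
  obtain ⟨U, hxU, ⟨e⟩⟩ := h (genericPoint X)
  obtain ⟨_, ⟨V, hV, rfl⟩, hxV, hle⟩ :=
    X.isBasis_affineOpens.exists_subset_of_mem_open hxU U.2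
  obtain ⟨l⟩ := QCoh.free_sections hV hle e
  exact QCoh.finrank_stalk_of_freeChart hV
    (QCoh.isQCoh_of_isFinLocFree fun y => let ⟨W, hy, he⟩ := h y; ⟨W, n, hy, he⟩) l hxV

theorem isFinLocFreeOfRank_rk [IsIntegral X] {M : X.Modules} (h : FlatMod.IsFinLocFree M) :
    FlatMod.IsFinLocFreeOfRank (rk M) M := by
  intro x
  obtain ⟨U, n, hxU, ⟨e⟩⟩ := h x
  obtain ⟨_, ⟨V, hV, rfl⟩, hxV, hle⟩ := X.isBasis_affineOpens.exists_subset_of_mem_open hxU U.2
  obtain ⟨l⟩ := QCoh.free_sections hV hle e
  have hη : genericPoint X ∈ V :=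
    ((genericPoint_spec X).specializes (Set.mem_univ x)).mem_open V.2 hxV
  have hn : rk M = n := QCoh.finrank_stalk_of_freeChart hV (QCoh.isQCoh_of_isFinLocFree h) l hη
  rw [hn]
  exact ⟨U, hxU, ⟨e⟩⟩

theorem rk_add [IsIntegral X] {S : ShortComplex X.Modules} (hS : S.ShortExact)
    (h₂ : Module.Finite (X.presheaf.stalk (genericPoint X)) (S.X₂.presheaf.stalk (genericPoint X))) :
    rk S.X₂ = rk S.X₁ + rk S.X₃ := by
  have hx := hS.map_of_exact (DerSch.stalkFunctor X (genericPoint X))
  letI := (isField_stalk_generic (X := X)).toField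
  haveI := h₂
  have hinj : Function.Injective (Algz.stalkMapₗ S.f (genericPoint X)) :=
    (ModuleCat.mono_iff_injective _).1 hx.mono_f
  have hsurj : Function.Surjective (Algz.stalkMapₗ S.g (genericPoint X)) :=
    (ModuleCat.epi_iff_surjective _).1 hx.epi_g
  have hex : LinearMap.range (Algz.stalkMapₗ S.f (genericPoint X)) =
      LinearMap.ker (Algz.stalkMapₗ S.g (genericPoint X)) :=
    ShortComplex.Exact.moduleCat_range_eq_ker hx.exact
  have h := (Algz.stalkMapₗ S.g (genericPoint X)).finrank_range_add_finrank_ker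
  rw [LinearMap.range_eq_top.2 hsurj, finrank_top, ← hex, LinearMap.finrank_range_of_inj hinj] at h
  unfold rk
  omega

theorem rk_add' [IsIntegral X] {A B C : X.Modules} (f : A ⟶ B) (g : B ⟶ C) (w : f ≫ g = 0)
    (hS : (ShortComplex.mk f g w).ShortExact)
    (h₂ : Module.Finite (X.presheaf.stalk (genericPoint X)) (B.presheaf.stalk (genericPoint X))) :
    rk B = rk A + rk C := by
  simpa only [ShortComplex.mk] using rk_add hS h₂

theorem euler_add' (k : Type u) [Field k] [X.Over (Spec (CommRingCat.of k))]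
    [IsProper (X ↘ Spec (CommRingCat.of k))] {A B C : X.Modules} (f : A ⟶ B) (g : B ⟶ C)
    (w : f ≫ g = 0) (hS : (ShortComplex.mk f g w).ShortExact)
    (hA : Coh.IsCoh A) (hB : Coh.IsCoh B) (hC : Coh.IsCoh C) :
    Curv2.euler k X B = Curv2.euler k X A + Curv2.euler k X C := by
  simpa only [ShortComplex.mk] using Euler.euler_add k hS hA hB hC

theorem finite_stalk_of_coh [IsLocallyNoetherian X] {M : X.Modules} (hM : Coh.IsCoh M) (x : X) :
    Module.Finite (X.presheaf.stalk x) (M.presheaf.stalk x) :=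
  QCoh.finite_stalk_of_isFT hM.1 hM.2 x

theorem support_ne_univ_of_rk [IsIntegral X] [IsLocallyNoetherian X] {M : X.Modules}
    (hM : Coh.IsCoh M) (h : rk M = 0) : CohB1.support M ≠ Set.univ := by
  intro hu
  letI := (isField_stalk_generic (X := X)).toField
  haveI := finite_stalk_of_coh hM (genericPoint X)
  have h' : ¬ Subsingleton (M.presheaf.stalk (genericPoint X)) :=
    hu.symm.subset (Set.mem_univ (genericPoint X))
  exact h' (Module.finrank_zero_iff.1 h)

theorem isZero_of_rk_zero [IsIntegral X] [IsLocallyNoetherian X] {M : X.Modules}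
    (hM : FlatMod.IsFinLocFree M) (h : rk M = 0) : IsZero M := by
  refine KFlatLib.isZero_of_stalk M fun x => ?_
  obtain ⟨U, hxU, ⟨e⟩⟩ := isFinLocFreeOfRank_rk hM x
  obtain ⟨_, ⟨V, hV, rfl⟩, hxV, hle⟩ := X.isBasis_affineOpens.exists_subset_of_mem_open hxU U.2
  obtain ⟨l⟩ := QCoh.free_sections hV hle e
  have h0 : Module.finrank (X.presheaf.stalk x) (M.presheaf.stalk x) = 0 :=
    (QCoh.finrank_stalk_of_freeChart hV (QCoh.isQCoh_of_isFinLocFree hM) l hxV).trans h
  haveI := QCoh.free_stalk_of_isFinLocFree hM x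
  haveI := QCoh.finite_stalk_of_isFT (QCoh.isQCoh_of_isFinLocFree hM)
    (QCoh.isFT_of_isFP (QCoh.isFP_of_isFinLocFree hM)) x
  haveI : Subsingleton ((DerSch.stalkFunctor X x).obj M) :=
    (Module.finrank_zero_iff.1 h0 : Subsingleton (M.presheaf.stalk x))
  exact ModuleCat.isZero_of_subsingleton _

section Curve

variable (k : Type u) [Field k] [X.Over (Spec (CommRingCat.of k))] [IsIntegral X]
  [IsProper (X ↘ Spec (CommRingCat.of k))] [Smooth (X ↘ Spec (CommRingCat.of k))]

include k in
theorem isFinLocFree_of_mono (hdim : topologicalKrullDim X ≤ 1) {K E : X.Modules}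
    (hK : Coh.IsCoh K) (i : K ⟶ E) [Mono i] (hE : FlatMod.IsFinLocFree E) :
    FlatMod.IsFinLocFree K := by
  haveI := LocallyOfFiniteType.isLocallyNoetherian (X ↘ Spec (CommRingCat.of k))
  refine QCoh.isFinLocFree_iff.2 ⟨QCoh.isCoh_iff_isFP.1 hK, fun x => ?_⟩
  haveI := isPrincipalIdealRing_stalk k hdim x
  exact free_stalk_of_mono i hE x

/-- The slope argument: a non-zero map between bundles of the same rank and degree, semistable,
one of them stable, is an isomorphism. -/
theorem isIso_of_slopes (hdim : topologicalKrullDim X ≤ 1) (r : ℕ) (E E' : X.Modules)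
    (hE : FlatMod.IsFinLocFreeOfRank r E) (hE' : FlatMod.IsFinLocFreeOfRank r E')
    (hdeg : Curv2.deg k X E r = Curv2.deg k X E' r)
    (hlt : ∀ (K I : X.Modules) (a b : ℕ) (i : K ⟶ E) (j : I ⟶ E'), Mono i → Mono j →
      0 < a → a < r → 0 < b → b < r →
      FlatMod.IsFinLocFreeOfRank a K → FlatMod.IsFinLocFreeOfRank b I →
      Curv2.deg k X K a * r + Curv2.deg k X I b * r < Curv2.deg k X E r * a + Curv2.deg k X E' r * b)
    (f : E ⟶ E') (hf : f ≠ 0) : IsIso f := by
  haveI := LocallyOfFiniteType.isLocallyNoetherian (X ↘ Spec (CommRingCat.of k))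
  have hEf : FlatMod.IsFinLocFree E := fun x => let ⟨U, hx, e⟩ := hE x; ⟨U, r, hx, e⟩
  have hEf' : FlatMod.IsFinLocFree E' := fun x => let ⟨U, hx, e⟩ := hE' x; ⟨U, r, hx, e⟩
  have hEc := CurveDeg.isCoh_of_isFinLocFree hEf
  have hEc' := CurveDeg.isCoh_of_isFinLocFree hEf'
  have hK : Coh.IsCoh (kernel f) := QCoh.isCoh_kernel hEc hEc' f
  obtain ⟨I, π, j, hj, hfac, hI, w, hS⟩ : ∃ (I : X.Modules) (π : E ⟶ I) (j : I ⟶ E'), Mono j ∧
      π ≫ j = f ∧ Coh.IsCoh I ∧ ∃ w : kernel.ι f ≫ π = 0,
        (ShortComplex.mk (kernel.ι f) π w).ShortExact :=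
    ⟨Abelian.coimage f, Abelian.coimage.π f, Abelian.factorThruCoimage f, inferInstance,
      Abelian.coimage.fac f, QCoh.isCoh_cokernel hK.1 hEc (kernel.ι f), cokernel.condition _,
      { exact := ShortComplex.exact_of_g_is_cokernel _ (cokernelIsCokernel _) }⟩
  have hKf := isFinLocFree_of_mono k hdim hK (kernel.ι f) hEf
  have hIf := isFinLocFree_of_mono k hdim hI j hEf'
  have hrk : rk E = rk (kernel f) + rk I := rk_add' _ _ w hS (finite_stalk_of_coh hEc _)
  rw [rk_eq hE] at hrk
  have hadd : Curv2.euler k X E = Curv2.euler k X (kernel f) + Curv2.euler k X I :=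
    euler_add' k _ _ w hS hK hEc hI
  have hI0 : rk I ≠ 0 := fun h0 => hf (by
    rw [← hfac, (isZero_of_rk_zero hIf h0).eq_of_tgt π 0, Limits.zero_comp])
  by_cases hK0 : rk (kernel f) = 0
  · have hKz := isZero_of_rk_zero hKf hK0
    haveI : Mono f := Preadditive.mono_of_isZero_kernel f hKz
    have hQ : Coh.IsCoh (cokernel f) := QCoh.isCoh_cokernel hEc.1 hEc' f
    have hS' : (ShortComplex.mk f (cokernel.π f) (cokernel.condition f)).ShortExact :=
      { exact := ShortComplex.exact_of_g_is_cokernel _ (cokernelIsCokernel f) }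
    have hrk' : rk E' = rk E + rk (cokernel f) := rk_add' _ _ _ hS' (finite_stalk_of_coh hEc' _)
    rw [rk_eq hE, rk_eq hE'] at hrk'
    have hgood := Euler.good_of_dim_le_zero k hQ
      (CurveDeg.topologicalKrullDim_le_zero_of_ne_univ hdim (QCoh.isClosed_support_of_isFT hQ.1 hQ.2)
        (support_ne_univ_of_rk hQ (by omega)))
    have hadd' : Curv2.euler k X E' = Curv2.euler k X E + Curv2.euler k X (cokernel f) :=
      euler_add' k _ _ _ hS' hEc hEc' hQ
    unfold Curv2.deg at hdeg
    haveI : Epi f := Preadditive.epi_of_isZero_cokernel f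
      ((Euler.euler_nonneg_of_good k hQ hgood).2 (by omega))
    exact isIso_of_mono_of_epi f
  · exfalso
    have h := hlt (kernel f) I (rk (kernel f)) (rk I) (kernel.ι f) j inferInstance inferInstance
      (Nat.pos_of_ne_zero hK0) (by omega) (Nat.pos_of_ne_zero hI0) (by omega)
      (isFinLocFreeOfRank_rk hKf) (isFinLocFreeOfRank_rk hIf)
    rw [← hdeg] at h
    unfold Curv2.deg at h
    have hr : (r : ℤ) = (rk (kernel f) : ℤ) + (rk I : ℤ) := by exact_mod_cast hrk
    rw [hadd, hr] at h
    linarith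

end Curve

end Groth.Agent.CurveBundle
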