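import Groth.Agent.Lib.SurfPairing
import Groth.Agent.Lib.CurveOnSurf
import Groth.Agent.AmpleX.Basis
import Groth.Agent.AmpleVan.Uniform
import Groth.Agent.H23.TrivBasic
import Groth.Agent.InvX.GenLocusPull
import Groth.Agent.Lib.InvEnd
import Groth.Agent.Lib.TensorScalar
import Groth.Agent.Lib.AVAmple
import Groth.Agent.CurveCohLib.Rank
import Groth.Agent.H23.DiagReg
import Groth.Agent.Snapper.IsoOn
import Groth.Agent.CurveCohLib.SmoothCurve

/-!
Global sections of invertible modules on integral proper schemes, and positivity of ample degrees on curves.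
-/

set_option autoImplicit false
set_option linter.style.haveILetI false
set_option linter.unusedSectionVars false
set_option backward.isDefEq.respectTransparency false
set_option backward.isDefEq.respectTransparency.types false
set_option maxHeartbeats 1000000

universe u

open CategoryTheory CategoryTheory.Limits AlgebraicGeometry TopologicalSpace Opposite
open Groth.Agent.H23 Groth.Agent.H23.TrivBasic

noncomputable section

namespace Groth.Agent.CurveAmple

attribute [local instance] PicMul.clMonoid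

variable {X : Scheme.{u}}

theorem ofSect_ne_zero {L : X.Modules} {s : Γ(L, ⊤)} (hs : s ≠ 0) : InvX.ofSect s ≠ 0 := fun h => hs (by
  rw [← InvX.one_ofSect s, h]
  rfl)

theorem mono_ofSect [IsIntegral X] {L : X.Modules} (hL : PicF.IsInvertible L) {s : Γ(L, ⊤)} (hs : s ≠ 0) :
    Mono (InvX.ofSect s) :=
  InvEnd.mono_of_ne_zero InvX.isInvertible_structureModule hL _ (ofSect_ne_zero hs)

/-- Outside the locus of a section the cokernel lives. -/
theorem support_cokernel_subset {L : X.Modules} (s : Γ(L, ⊤)) :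
    CohB1.support (cokernel (InvX.ofSect s)) ⊆ ((locus s : Set X))ᶜ := by
  intro x hx hxs
  refine Snapper.notMem_support_cokernel (InvX.ofSect s) ((ModuleCat.epi_iff_surjective _).2 fun q => ?_) hx
  obtain ⟨W, hxW, m, rfl⟩ := L.presheaf.germ_exist q
  obtain ⟨U, hxU, hU⟩ := mem_locus_iff.1 hxs
  obtain ⟨r, hr⟩ := (hU (W ⊓ U) inf_le_right).2 (AModX.res L (inf_le_left : W ⊓ U ≤ W) m)
  have hxWU : x ∈ W ⊓ U := ⟨hxW, hxU⟩
  have happ : (InvX.ofSect s).app (W ⊓ U) (show Γ(Coh.structureModule X, W ⊓ U) from r) =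
      AModX.res L (inf_le_left : W ⊓ U ≤ W) m := by
    rw [InvX.app_eq_smul, InvX.one_ofSect, ← hr]
    simp only [AModX.res_res]
  refine ⟨(Coh.structureModule X).presheaf.germ (W ⊓ U) x hxWU r, ?_⟩
  rw [← L.presheaf.germ_res_apply (homOfLE (inf_le_left : W ⊓ U ≤ W)) x hxWU m]
  refine Eq.trans ?_ (congrArg (L.presheaf.germ (W ⊓ U) x hxWU) happ)
  exact TopCat.Presheaf.stalkFunctor_map_germ_apply _ x hxWU ((Scheme.Modules.toPresheaf X).map (InvX.ofSect s)) r

variable {k : Type u} [Field k] [X.Over (Spec (CommRingCat.of k))] [IsProper (X ↘ Spec (CommRingCat.of k))]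

/-- Sections grow along monomorphisms. -/
theorem finrank_h0_le {A B : X.Modules} (f : A ⟶ B) [Mono f] (hB : Coh.IsCoh B) :
    Module.finrank k (Coh.HH X A 0) ≤ Module.finrank k (Coh.HH X B 0) := by
  haveI := CurveCohLib.finite_HH (k := k) hB 0
  let S := ShortComplex.mk f (cokernel.π f) (cokernel.condition f)
  have hS : S.ShortExact := { exact := ShortComplex.exact_of_g_is_cokernel _ (cokernelIsCokernel f) }
  exact LinearMap.finrank_le_finrank_of_injective (f := PnCoh.Finite.mapLin k f 0)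
    (CurveCohLib.mapLin_f_zero_injective (A := k) (S := S) hS)

theorem euler_eq_h0_of_vanishing {M : X.Modules} (h : ∀ q, Subsingleton (Coh.HH X M (q + 1))) :
    Curv2.euler k X M = Module.finrank k (Coh.HH X M 0) := by
  rw [CurveCohLib.euler_eq_sum (k := k) (N := 1) fun i hi => by
    obtain ⟨q, rfl⟩ := Nat.exists_eq_add_of_le' hi
    exact h q]
  simp

/-- A nonzero global section exists as soon as the space of sections is not zero. -/
theorem exists_section_ne_zero {M : X.Modules} (h : Nontrivial (Coh.HH X M 0)) : ∃ s : Γ(M, ⊤), s ≠ 0 := by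
  let e := Sheaf.H.equiv₀ (Coh.toAb M) isTerminalTop
  obtain ⟨a, ha⟩ := exists_ne (0 : Coh.HH X M 0)
  exact ⟨e a, fun h0 => ha (e.injective (h0.trans (map_zero e).symm))⟩

theorem nontrivial_h0 {M : X.Modules} {s : Γ(M, ⊤)} (hs : s ≠ 0) : Nontrivial (Coh.HH X M 0) := by
  let e := Sheaf.H.equiv₀ (Coh.toAb M) isTerminalTop
  exact ⟨e.symm s, 0, fun h0 => hs ((e.apply_symm_apply s).symm.trans ((congrArg e h0).trans (map_zero e)))⟩

variable [IsIntegral X]

/-- More than constants gives a section which is not everywhere a frame. -/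
theorem exists_section_locus_ne_top [IsAlgClosed k] [Smooth (X ↘ Spec (CommRingCat.of k))] {L : X.Modules}
    (hL : PicF.IsInvertible L) (h : 1 < Module.finrank k (Coh.HH X L 0)) :
    ∃ s : Γ(L, ⊤), s ≠ 0 ∧ locus s ≠ ⊤ := by
  obtain ⟨s, hs⟩ := exists_section_ne_zero (X := X) (M := L) (Module.nontrivial_of_finrank_pos (R := k) (by omega))
  refine ⟨s, hs, fun ht => ?_⟩
  obtain ⟨e⟩ := triv_of_frame (locus_eq_top_iff.1 ht)
  haveI : ConnectedSpace X := inferInstance
  rw [(CurveCohLib.hhEquiv (k := k) e 0).finrank_eq, CurveCohLib.finrank_h0_eq_one k X] at h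
  omega

variable (k) in
include k in
theorem exists_section_vanishing {H : X.Modules} (hH : CohB1.IsAmple H) {x : X} (hx : IsClosed ({x} : Set X))
    (hne : genericPoint X ≠ x) :
    ∃ (m : ℕ) (_ : 0 < m) (s : Γ(CohB1.tensorPow H m, ⊤)), s ≠ 0 ∧ x ∉ locus s := by
  haveI : X.IsSeparated := ⟨by
    rw [← Limits.terminal.comp_from (X ↘ Spec (CommRingCat.of k))]
    infer_instance⟩
  obtain ⟨m, hm, φ, hη, hle, -⟩ := AmpleX.exists_genLocus_le hH (x := genericPoint X) (U := (⟨{x}ᶜ, hx.isOpen_compl⟩ : X.Opens)) hne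
  refine ⟨m, hm, InvX.one φ, fun h0 => ?_, fun hxs => ?_⟩
  · obtain ⟨U, hU, hf⟩ := InvX.mem_genLocus hη
    rw [h0, map_zero] at hf
    have h01 := hf.coord_unique le_rfl (r := (0 : Γ(X, U))) (r' := 1) (by simp)
    haveI : Nonempty U := ⟨⟨_, hU⟩⟩
    exact zero_ne_one h01
  · obtain ⟨U, hU, hf⟩ := mem_locus_iff.1 hxs
    exact hle (InvX.le_genLocus φ hf hU) rfl

/-- The degree of a tensor power. -/
theorem deg_tensorPow (hdim : topologicalKrullDim X = 1) {L : X.Modules} (hL : PicF.IsInvertible L) :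
    ∀ n : ℕ, Curv2.deg k X (CohB1.tensorPow L n) 1 = n * Curv2.deg k X L 1
  | 0 => by
    show Curv2.deg k X (Coh.structureModule X) 1 = _
    unfold Curv2.deg
    push_cast
    ring
  | n + 1 => by
    show Curv2.deg k X ((DCoh.tensorBi.obj (CohB1.tensorPow L n)).obj L) 1 = _
    rw [CurveRR.deg_tensor k hdim (PicMul.isInvertible_tensorPow hL n) hL, deg_tensorPow hdim hL n]
    push_cast
    ring

/-- A nonzero section with a zero gives positive degree. -/
theorem deg_pos_of_section (hdim : topologicalKrullDim X = 1) {L : X.Modules} (hL : PicF.IsInvertible L)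
    {s : Γ(L, ⊤)} (hs : s ≠ 0) (hne : locus s ≠ ⊤) : 0 < Curv2.deg k X L 1 := by
  haveI := CurveCohLib.isNoetherian_of_proper (k := k) (X := X)
  haveI := mono_ofSect hL hs
  let f := InvX.ofSect s
  have hLc : Coh.IsCoh L := AmpleVan.isCoh_invertible hL
  have hQ : Coh.IsCoh (cokernel f) := QCoh.isCoh_cokernel QCoh.isCoh_structureModule'.1 hLc f
  have h0 : ∀ x ∈ CohB1.support (cokernel f), IsClosed ({x} : Set X) := fun x hx => by
    have hx' : x ∉ locus s := support_cokernel_subset s hx
    obtain ⟨b, hb, ⟨η, hη, hd⟩, hle⟩ := VarDim.exists_deg_add_stalk (X ↘ Spec (CommRingCat.of k)) x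
    obtain ⟨c, hxc, hc⟩ := VarDim.exists_closed_specialization (X ↘ Spec (CommRingCat.of k)) x
    have hg : genericPoint X ≠ x := fun h => hx' (h ▸ by
      obtain ⟨z, hz⟩ := (Opens.ne_bot_iff_nonempty _).1 (locus_ne_bot hL hs)
      exact (genericPoint_specializes z).mem_open (locus s).isOpen hz)
    have hd1 : VarDim.deg (X ↘ Spec (CommRingCat.of k)) (genericPoint X) = 1 := by
      have h : (VarDim.deg (X ↘ Spec (CommRingCat.of k)) (genericPoint X) : WithBot ℕ∞) = 1 :=
        (VarDim.topologicalKrullDim_eq_deg_genericPoint (X ↘ Spec (CommRingCat.of k))).symm.trans hdim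
      exact_mod_cast h
    have hlt : VarDim.deg (X ↘ Spec (CommRingCat.of k)) x < 1 := by
      by_contra hcon
      exact hg (VarDim.eq_of_specializes_of_deg_le (X ↘ Spec (CommRingCat.of k)) (genericPoint_specializes x) (by omega))
    have : c = x := (VarDim.eq_of_specializes_of_deg_le (X ↘ Spec (CommRingCat.of k)) hxc (by omega)).symm
    exact this ▸ hc
  have hadd := CurveOnSurf.euler_mono (k := k) f QCoh.isCoh_structureModule' hLc
  have hpos : 0 < Curv2.euler k X (cokernel f) := by
    refine lt_of_le_of_ne ?_ fun h => hne ?_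
    · rw [CurveCohLib.euler_eq_finrank_zero (k := k) hQ h0]
      positivity
    · have hz := CurveCohLib.isZero_of_euler_eq_zero (k := k) hQ h0 h.symm
      haveI : Epi f := Preadditive.epi_of_isZero_cokernel _ hz
      haveI : IsIso f := isIso_of_mono_of_epi f
      refine locus_eq_top_iff.2 fun V hV => ?_
      refine (congrArg Function.Bijective (funext fun r => ?_)).mp (ConcreteCategory.bijective_of_isIso (f.app V))
      exact (InvX.app_eq_smul f r).trans (by rw [InvX.one_ofSect])
  unfold Curv2.deg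
  push_cast
  linarith

/-- An ample module has positive degree on a curve. -/
theorem deg_pos_of_ample (hdim : topologicalKrullDim X = 1) {H : X.Modules} (hH : CohB1.IsAmple H) :
    0 < Curv2.deg k X H 1 := by
  obtain ⟨c, hgc, hc⟩ := VarDim.exists_closed_specialization (X ↘ Spec (CommRingCat.of k)) (genericPoint X)
  have hne : genericPoint X ≠ c := fun h => by
    have h0 := DiagReg.deg_eq_zero (X ↘ Spec (CommRingCat.of k)) (h ▸ hc)
    have h1 := (VarDim.topologicalKrullDim_eq_deg_genericPoint (X ↘ Spec (CommRingCat.of k))).symm.trans hdim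
    rw [h0] at h1
    exact absurd h1 (by decide)
  obtain ⟨m, hm, s, hs, hsc⟩ := exists_section_vanishing k hH hc hne
  have h := deg_pos_of_section (k := k) hdim (PicMul.isInvertible_tensorPow hH.1 m) hs (fun ht => hsc (ht ▸ trivial))
  rw [deg_tensorPow hdim hH.1 m] at h
  exact pos_of_mul_pos_right h (by positivity)

omit [X.Over (Spec (CommRingCat.of k))] [IsProper (X ↘ Spec (CommRingCat.of k))] [IsIntegral X] in
/-- Multiplication by a section, as a map `P ⟶ P ⊗ L`. -/
def mulBy {L : X.Modules} (P : X.Modules) (s : Γ(L, ⊤)) : P ⟶ CohB1.tensorMod P L :=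
  (KFlatLib.tensorUnitIso P).inv ≫ (DCoh.tensorBi.obj P).map (InvX.ofSect s)

omit [X.Over (Spec (CommRingCat.of k))] [IsProper (X ↘ Spec (CommRingCat.of k))] [IsIntegral X] in
theorem mulBy_app {L : X.Modules} (P : X.Modules) (s : Γ(L, ⊤)) {V : X.Opens} (e : Γ(P, V)) :
    (mulBy P s).app V e = InvX.tmul e (AModX.res L (le_top : V ≤ ⊤) s) := by
  have h1 : (KFlatLib.tensorUnitIso P).hom.app V
      (QCoh.tmS P (Coh.structureModule X) e (show Γ(Coh.structureModule X, V) from (1 : Γ(X, V)))) = e :=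
    (TensorScalar.unit_tmS P e _).trans (one_smul Γ(X, V) e)
  have h2 : (KFlatLib.tensorUnitIso P).inv.app V e =
      QCoh.tmS P (Coh.structureModule X) e (show Γ(Coh.structureModule X, V) from (1 : Γ(X, V))) := by
    conv_lhs => rw [← h1]
    exact ConcreteCategory.congr_hom
      (congrArg (fun q => Scheme.Modules.Hom.app q V) (KFlatLib.tensorUnitIso P).hom_inv_id) _
  show ((DCoh.tensorBi.obj P).map (InvX.ofSect s)).app V ((KFlatLib.tensorUnitIso P).inv.app V e) = _
  rw [h2]
  refine (KFlatLib.tmSh_naturality_right P (InvX.ofSect s) (U := V) e _).trans ?_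
  refine congrArg (fun z => InvX.tmul e z) ?_
  exact (InvX.app_eq_smul (InvX.ofSect s) (1 : Γ(X, V))).trans (by rw [one_smul, InvX.one_ofSect])

variable (k) in
include k in
theorem exists_generated_pow (hdim : topologicalKrullDim X = 1) {A : X.Modules} (hA : PicF.IsInvertible A)
    {s : Γ(A, ⊤)} (hs : s ≠ 0) :
    ∃ j : ℕ, ∀ x : X, x ∉ locus s → ∃ t : Γ(CohB1.tensorPow A (j + 1), ⊤), x ∈ locus t := by
  haveI := CurveCohLib.isNoetherian_of_proper (k := k) (X := X)
  let P : ℕ → X.Modules := fun j => CohB1.tensorPow A j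
  have hP : ∀ j, PicF.IsInvertible (P j) := PicMul.isInvertible_tensorPow hA
  have hPc : ∀ j, Coh.IsCoh (P j) := fun j => AmpleVan.isCoh_invertible (hP j)
  have hmono : ∀ j, Mono (mulBy (P j) s) := fun j => by
    haveI := CurveOnSurf.isEquivalence_tensor (hP j)
    haveI := mono_ofSect hA hs
    haveI : Mono ((DCoh.tensorBi.obj (P j)).map (InvX.ofSect s)) := inferInstance
    exact mono_comp _ _
  have hsupp : ∀ j, ∀ y ∈ CohB1.support (cokernel (mulBy (P j) s)), y ∉ locus s := by
    intro j y hy hys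
    obtain ⟨U₁, ε, hyU₁, hε⟩ : ∃ (U : X.Opens) (ε : Γ(P j, U)), y ∈ U ∧ InvX.IsFrame ε := by
      obtain ⟨U, hyU, ε, hε⟩ := InvX.exists_frame (hP j) y
      exact ⟨U, ε, hyU, hε⟩
    obtain ⟨U₂, hyU₂, hU₂⟩ := mem_locus_iff.1 hys
    refine Snapper.notMem_support_cokernel (mulBy (P j) s) ((ModuleCat.epi_iff_surjective _).2 fun q => ?_) hy
    have hyU : y ∈ U₁ ⊓ U₂ := ⟨hyU₁, hyU₂⟩
    let e := AModX.res (P j) (inf_le_left : U₁ ⊓ U₂ ≤ U₁) ε
    let w := InvX.tmul e (AModX.res A (le_top : U₁ ⊓ U₂ ≤ ⊤) s)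
    have hw : InvX.IsFrame w := InvX.isFrame_tmul (hε.res inf_le_left) (by
      have := hU₂.res (inf_le_right : U₁ ⊓ U₂ ≤ U₂)
      rwa [AModX.res_res] at this)
    obtain ⟨c, hc⟩ := (hw.germ_bijective hyU).2 q
    obtain ⟨W, hyW, a, ha⟩ := TopCat.Presheaf.exists_germ_eq X.presheaf c
    refine ⟨c • (P j).presheaf.germ (U₁ ⊓ U₂) y hyU e, ?_⟩
    refine (((DerSch.stalkFunctor X y).map (mulBy (P j) s)).hom.map_smul c _).trans (Eq.trans ?_ hc)
    refine congrArg (c • ·) ?_
    refine (TopCat.Presheaf.stalkFunctor_map_germ_apply _ y hyU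
      ((Scheme.Modules.toPresheaf X).map (mulBy (P j) s)) e).trans ?_
    exact congrArg _ (mulBy_app (P j) s e)
  have hcl : ∀ j, ∀ y ∈ CohB1.support (cokernel (mulBy (P j) s)), IsClosed ({y} : Set X) := fun j y hy => by
    have hy' := hsupp j y hy
    obtain ⟨c, hyc, hc⟩ := VarDim.exists_closed_specialization (X ↘ Spec (CommRingCat.of k)) y
    have hg : genericPoint X ≠ y := fun h => hy' (h ▸ by
      obtain ⟨z, hz⟩ := (Opens.ne_bot_iff_nonempty _).1 (locus_ne_bot hA hs)
      exact (genericPoint_specializes z).mem_open (locus s).isOpen hz)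
    have hd1 : VarDim.deg (X ↘ Spec (CommRingCat.of k)) (genericPoint X) = 1 := by
      have h : (VarDim.deg (X ↘ Spec (CommRingCat.of k)) (genericPoint X) : WithBot ℕ∞) = 1 :=
        (VarDim.topologicalKrullDim_eq_deg_genericPoint (X ↘ Spec (CommRingCat.of k))).symm.trans hdim
      exact_mod_cast h
    have hlt : VarDim.deg (X ↘ Spec (CommRingCat.of k)) y < 1 := by
      by_contra hcon
      exact hg (VarDim.eq_of_specializes_of_deg_le (X ↘ Spec (CommRingCat.of k)) (genericPoint_specializes y) (by omega))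
    have : c = y := (VarDim.eq_of_specializes_of_deg_le (X ↘ Spec (CommRingCat.of k)) hyc (by omega)).symm
    exact this ▸ hc
  let h1 : ℕ → ℕ := fun j => Module.finrank k (Coh.HH X (P j) 1)
  obtain ⟨j, hj⟩ : ∃ j, ∀ i, h1 j ≤ h1 i := ⟨Function.argmin h1, fun i => Function.argmin_le h1 i⟩
  haveI := hmono j
  have hE := CurveRR.euler_eq_h0_sub_h1 k hdim.le (M := P j) (hPc j).1
  have hF := CurveRR.euler_eq_h0_sub_h1 k hdim.le (M := P (j + 1)) (hPc (j + 1)).1
  have hj' : (Module.finrank k (Coh.HH X (P j) 1) : ℤ) ≤ Module.finrank k (Coh.HH X (P (j + 1)) 1) :=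
    Int.ofNat_le.2 (hj (j + 1))
  obtain ⟨-, hsur⟩ := (CurveCohLib.finrank_h0_le_and_injective (k := k) (E := P j) (F := P (j + 1))
    (mulBy (P j) s) (hPc j) (hPc (j + 1)) (hcl j)).2.1 (by linarith)
  refine ⟨j, fun x hx => ?_⟩
  have hQ : Coh.IsCoh (cokernel (mulBy (P j) s)) := QCoh.isCoh_cokernel (hPc j).1 (hPc (j + 1)) _
  obtain ⟨U₁, hxU₁, ε, hε⟩ := InvX.exists_frame (hP j) x
  obtain ⟨U₂, hxU₂, α, hα⟩ := InvX.exists_frame hA x
  let U := U₁ ⊓ U₂
  have hxU : x ∈ U := ⟨hxU₁, hxU₂⟩
  let e := AModX.res (P j) (inf_le_left : U ≤ U₁) ε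
  let a := AModX.res A (inf_le_right : U ≤ U₂) α
  have hea : InvX.IsFrame e := hε.res inf_le_left
  have haa : InvX.IsFrame a := hα.res inf_le_right
  let w : Γ(P (j + 1), U) := InvX.tmul e a
  have hw : InvX.IsFrame w := InvX.isFrame_tmul hea haa
  obtain ⟨g, hg⟩ := haa.exists_coord le_rfl (AModX.res A (le_top : U ≤ ⊤) s)
  rw [AModX.res_self] at hg
  have hgx : ¬ IsUnit (X.presheaf.germ U x hxU g) := fun hu => hx (by
    have h := (locus_eq_basicOpen haa hg).ge ((X.mem_basicOpen g x hxU).2 hu)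
    exact h.1)
  have himg : (mulBy (P j) s).app U e = g • w := by
    rw [mulBy_app, hg]
    exact InvX.tmul_smul_right g e a
  let F := DerSch.stalkFunctor X x
  let q : (cokernel (mulBy (P j) s)).presheaf.stalk x :=
    (F.map (cokernel.π (mulBy (P j) s))).hom ((P (j + 1)).presheaf.germ U x hxU w)
  obtain ⟨s', hs'⟩ : ∃ s' : Γ(cokernel (mulBy (P j) s), ⊤),
      (cokernel (mulBy (P j) s)).presheaf.germ ⊤ x trivial s' = q := by
    by_cases hxS : x ∈ CohB1.support (cokernel (mulBy (P j) s))
    · obtain ⟨s', h, -⟩ := CurveCohLib.exists_section_single hQ (hcl j) hxS q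
      exact ⟨s', h⟩
    · exact ⟨0, (not_not.1 hxS : Subsingleton ((cokernel (mulBy (P j) s)).presheaf.stalk x)).elim _ _⟩
  let E₀ := Sheaf.H.equiv₀ (Coh.toAb (cokernel (mulBy (P j) s))) isTerminalTop
  obtain ⟨τ, hτ⟩ := hsur (E₀.symm s')
  let t : Γ(P (j + 1), ⊤) := Sheaf.H.equiv₀ (Coh.toAb (P (j + 1))) isTerminalTop τ
  have hts : (cokernel.π (mulBy (P j) s)).app ⊤ t = s' := by
    refine (Sheaf.H.equiv₀_naturality isTerminalTop ((QCoh.toAbFunctor X).map (cokernel.π (mulBy (P j) s))) τ).trans ?_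
    exact (congrArg E₀ hτ).trans (E₀.apply_symm_apply s')
  refine ⟨t, ?_⟩
  let f := mulBy (P j) s
  have hex := ((ShortComplex.exact_of_g_is_cokernel (ShortComplex.mk f (cokernel.π f) (cokernel.condition f))
    (cokernelIsCokernel f)).map F)
  rw [ShortComplex.moduleCat_exact_iff] at hex
  obtain ⟨z, hz⟩ := hex ((P (j + 1)).presheaf.germ ⊤ x trivial t - (P (j + 1)).presheaf.germ U x hxU w) (by
    refine ((F.map (cokernel.π f)).hom.map_sub _ _).trans (sub_eq_zero.2 ?_)
    refine (TopCat.Presheaf.stalkFunctor_map_germ_apply ⊤ x trivial ((Scheme.Modules.toPresheaf X).map (cokernel.π f)) t).trans ?_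
    exact (congrArg _ hts).trans hs')
  obtain ⟨c, hc⟩ := (hea.germ_bijective hxU).2 z
  have hfz : (F.map f).hom z = (c * X.presheaf.germ U x hxU g) • (P (j + 1)).presheaf.germ U x hxU w := by
    rw [← hc]
    refine ((F.map f).hom.map_smul c _).trans ?_
    rw [mul_smul, ← QCoh.germ_smul']
    refine congrArg (c • ·) ?_
    refine (TopCat.Presheaf.stalkFunctor_map_germ_apply U x hxU ((Scheme.Modules.toPresheaf X).map f) e).trans ?_
    exact congrArg _ himg
  obtain ⟨h, hh⟩ := hw.exists_coord le_rfl (AModX.res (P (j + 1)) (le_top : U ≤ ⊤) t)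
  rw [AModX.res_self] at hh
  have hgerm : (P (j + 1)).presheaf.germ ⊤ x trivial t = X.presheaf.germ U x hxU h • (P (j + 1)).presheaf.germ U x hxU w := by
    rw [← QCoh.germ_smul', ← hh]
    exact (InvX.germ_res' (le_top : U ≤ ⊤) hxU t).symm
  have hu : X.presheaf.germ U x hxU h = 1 + c * X.presheaf.germ U x hxU g := by
    refine (hw.germ_bijective hxU).1 ?_
    show _ • _ = _ • _
    rw [← hgerm, add_smul, one_smul, ← hfz]
    exact eq_add_of_sub_eq' hz.symm
  refine ((locus_eq_basicOpen hw hh).ge ((X.mem_basicOpen h x hxU).2 ?_)).1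
  rw [hu]
  by_contra hnu
  exact hnu (IsLocalRing.isUnit_of_mem_nonunits_one_sub_self _ (by
    rw [sub_add_cancel_left]
    exact fun hh' => hgx (isUnit_of_mul_isUnit_right (IsUnit.neg_iff _ |>.1 hh'))))

/-- A positive degree forces ampleness on an integral curve. -/
theorem isAmple_of_deg_pos (hdim : topologicalKrullDim X = 1) {L : X.Modules} (hL : PicF.IsInvertible L)
    (hd : 0 < Curv2.deg k X L 1) : CohB1.IsAmple L := by
  haveI := CurveCohLib.isNoetherian_of_proper (k := k) (X := X)
  obtain ⟨m, hm, hχ⟩ : ∃ m : ℕ, 0 < m ∧ 0 < Curv2.euler k X (CohB1.tensorPow L m) := by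
    refine ⟨(-Curv2.euler k X (Coh.structureModule X)).toNat + 1, by omega, ?_⟩
    have h := deg_tensorPow (k := k) hdim hL ((-Curv2.euler k X (Coh.structureModule X)).toNat + 1)
    unfold Curv2.deg at h hd
    push_cast at h hd
    nlinarith [Int.self_le_toNat (-Curv2.euler k X (Coh.structureModule X))]
  let A := CohB1.tensorPow L m
  have hA : PicF.IsInvertible A := PicMul.isInvertible_tensorPow hL m
  have hAd : 0 < Curv2.deg k X A 1 := by
    rw [deg_tensorPow hdim hL m]
    positivity
  have hntriv : ∀ n, 0 < n → ¬ Triv (CohB1.tensorPow A n) := fun n hn ⟨e⟩ => by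
    have h1 := deg_tensorPow (k := k) hdim hA n
    rw [CurveRR.deg_congr k e] at h1
    have h2 : Curv2.deg k X (Coh.structureModule X) 1 = 0 := by
      unfold Curv2.deg
      push_cast
      ring
    rw [h2] at h1
    have : (0 : ℤ) < n * Curv2.deg k X A 1 := by positivity
    omega
  obtain ⟨s, hs⟩ := exists_section_ne_zero (M := A) (Module.nontrivial_of_finrank_pos (R := k) (by
    have h := CurveRR.euler_eq_h0_sub_h1 k hdim.le (M := A) (AmpleVan.isCoh_invertible hA).1
    have hχ' : 0 < Curv2.euler k X A := hχ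
    omega))
  obtain ⟨j, hj⟩ := exists_generated_pow k hdim hA hs
  let B := CohB1.tensorPow A (j + 1)
  have hB : PicF.IsInvertible B := PicMul.isInvertible_tensorPow hA _
  refine AmpleX.isAmple_of_tensorPow hL hm (AmpleX.isAmple_of_tensorPow hA (Nat.succ_pos j) ?_)
  refine AVAmple.isAmple_of_nontriv (X ↘ Spec (CommRingCat.of k)) hB (fun x => ?_) fun {C} i hi hCint htr => ?_
  · by_cases hx : x ∈ locus s
    · refine ⟨InvX.one (InvX.powHom (InvX.ofSect s) (j + 1)), ?_⟩
      show x ∈ CohB1.genLocus _ (InvX.ofSect (InvX.one _))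
      rw [AVAmple.ofSect_one, InvX.genLocus_powHom hA]
      exact hx
    · exact hj x hx
  · haveI := hi
    haveI := hCint
    by_contra hfin
    have hgen : i (genericPoint C) = genericPoint X := by
      by_contra hne
      have hdeg : VarDim.deg (X ↘ Spec (CommRingCat.of k)) (i (genericPoint C)) = 0 := by
        by_contra hpos
        have hd1 : VarDim.deg (X ↘ Spec (CommRingCat.of k)) (genericPoint X) = 1 := by
          have h : (VarDim.deg (X ↘ Spec (CommRingCat.of k)) (genericPoint X) : WithBot ℕ∞) = 1 :=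
            (VarDim.topologicalKrullDim_eq_deg_genericPoint (X ↘ Spec (CommRingCat.of k))).symm.trans hdim
          exact_mod_cast h
        exact hne (VarDim.eq_of_specializes_of_deg_le (X ↘ Spec (CommRingCat.of k))
          (genericPoint_specializes _) (by omega)).symm
      obtain ⟨c, hgc, hc⟩ := VarDim.exists_closed_specialization (X ↘ Spec (CommRingCat.of k)) (i (genericPoint C))
      have hcl : IsClosed ({i (genericPoint C)} : Set X) := by
        rw [VarDim.eq_of_specializes_of_deg_le (X ↘ Spec (CommRingCat.of k)) hgc (by omega)]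
        exact hc
      refine hfin (Finite.of_injective (fun _ : C => PUnit.unit) fun a b _ => ?_)
      have hh : ∀ z : C, i z = i (genericPoint C) := fun z =>
        (((genericPoint_specializes z).map i.continuous).mem_closed hcl rfl)
      exact i.isClosedEmbedding.injective ((hh a).trans (hh b).symm)
    haveI : Surjective i := ⟨fun z =>
      (genericPoint_specializes z).mem_closed i.isClosedEmbedding.isClosed_range ⟨_, hgen⟩⟩
    haveI : IsIso i := isIso_of_isClosedImmersion_of_surjective i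
    exact hntriv (j + 1) (Nat.succ_pos j) (triv_of_isIso i htr)

end Groth.Agent.CurveAmple
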