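import Groth.Agent.InvX.GenLocusPull
import Groth.Agent.H23.TrivBasic
import Groth.Agent.Lib.CurveAmple
import Groth.Agent.Lib.AVAmple
import Groth.Agent.AmpleX.QAGenerated
import Groth.Prelude.Def_Curv2

/-!
Globally generated invertible modules: generating loci of sections cover.
-/

set_option autoImplicit false
set_option linter.style.haveILetI false
set_option linter.unusedSectionVars false
set_option backward.isDefEq.respectTransparency false
set_option backward.isDefEq.respectTransparency.types false

universe u

open CategoryTheory CategoryTheory.Limits AlgebraicGeometry TopologicalSpace Opposite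
open Groth.Agent.H23 Groth.Agent.H23.TrivBasic

noncomputable section

namespace Groth.Agent.GenLocusGG

theorem exists_mem_locus {X : Scheme.{u}} {L : X.Modules} (hL : PicF.IsInvertible L)
    (h : Curv2.IsGloballyGenerated L) (x : X) : ∃ t : Γ(L, ⊤), x ∈ locus t := by
  obtain ⟨σ, p, hp⟩ := h
  by_contra hno
  push_neg at hno
  let f := X.fromSpecResidueField x
  have hN := PicClLib.isInvertible_pullback f hL
  obtain ⟨e⟩ := PicClLib.nonempty_pullback_structureModule f
  have h1 : ∀ s : Coh.structureModule X ⟶ L, (Scheme.Modules.pullback f).map s = 0 := fun s => by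
    by_contra hs
    have hz : InvX.one (e.inv ≫ (Scheme.Modules.pullback f).map s) ≠ 0 := fun h0 => hs
      ((cancel_epi e.inv).1 ((AmpleX.eq_zero_of_one_eq_zero _ h0).trans comp_zero.symm))
    obtain ⟨y, hy⟩ := (Opens.ne_bot_iff_nonempty _).1 (locus_ne_bot hN hz)
    have hy' : y ∈ CohB1.genLocus _ (InvX.ofSect (InvX.one (e.inv ≫ (Scheme.Modules.pullback f).map s))) := hy
    rw [AVAmple.ofSect_one, show e.inv = e.symm.hom from rfl, InvX.genLocus_pullback f hL s e.symm] at hy'
    have hx : f y = x := Scheme.fromSpecResidueField_apply ..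
    refine hno (InvX.one s) ?_
    show x ∈ CohB1.genLocus _ (InvX.ofSect (InvX.one s))
    rw [AVAmple.ofSect_one, ← hx]
    exact hy'
  let η := (Scheme.Modules.pullbackPushforwardAdjunction f).unit.app L
  have h2 : p ≫ η = 0 := by
    refine Cofan.IsColimit.hom_ext (SheafOfModules.isColimitFreeCofan σ) _ _ fun k => ?_
    show SheafOfModules.ιFree k ≫ p ≫ η = SheafOfModules.ιFree k ≫ (0 : SheafOfModules.free.{u} σ ⟶ _)
    rw [comp_zero, ← Category.assoc]
    generalize hq : (SheafOfModules.ιFree k ≫ p : @Quiver.Hom X.Modules _ (SheafOfModules.unit X.ringCatSheaf) L) = q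
    refine ((Scheme.Modules.pullbackPushforwardAdjunction f).unit.naturality q).trans ?_
    show _ ≫ (Scheme.Modules.pushforward f).map ((Scheme.Modules.pullback f).map q) = _
    rw [show (Scheme.Modules.pullback f).map q = 0 from h1 q, Functor.map_zero]
    exact comp_zero
  have h3 : η = 0 := (cancel_epi p).1 (h2.trans comp_zero.symm)
  obtain ⟨U, hxU, ε, hε⟩ := InvX.exists_frame hL x
  have h4 : (InvX.pullElt f ε) = 0 := congrArg (fun φ : L ⟶ _ => φ.app U ε) h3
  have hF := InvX.isFrame_pullElt f hε
  obtain ⟨y⟩ : Nonempty (Spec (X.residueField x)) := inferInstance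
  have hne : Nonempty (f ⁻¹ᵁ U : (Spec (X.residueField x)).Opens) :=
    ⟨⟨y, show f y ∈ U by rw [show f y = x from Scheme.fromSpecResidueField_apply ..]; exact hxU⟩⟩
  haveI := hne
  have h5 := (hF _ le_rfl).1 (a₁ := (1 : Γ(Spec (X.residueField x), f ⁻¹ᵁ U))) (a₂ := 0)
    (by simp [h4, AModX.res_self])
  exact one_ne_zero h5

end Groth.Agent.GenLocusGG
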