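import Groth.Agent.Lib.DegPullFinite
import Groth.Agent.Nakai.SemiAmple
import Groth.Agent.MorLib.GeomFibre
import Groth.Agent.VarDim.Fibre
import Groth.Agent.AlgSpLib.CartierRegular

/-!
Nefness and surjective pullback.
-/

set_option autoImplicit false
set_option linter.style.haveILetI false
set_option linter.unusedSectionVars false
set_option backward.isDefEq.respectTransparency false
set_option backward.isDefEq.respectTransparency.types false
set_option maxHeartbeats 800000

universe u

open CategoryTheory CategoryTheory.Limits AlgebraicGeometry TopologicalSpace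
open Groth.Agent.H23 Groth.Agent.H23.TrivBasic

noncomputable section

namespace Groth.Agent.NefPull

/-- On a one point scheme invertible modules are trivial. -/
theorem triv_of_subsingleton {Z : Scheme.{u}} [Subsingleton Z] [Nonempty Z] {L : Z.Modules}
    (hL : PicF.IsInvertible L) : Triv L := by
  obtain ⟨U, hU, e, he⟩ := InvX.exists_frame hL (Classical.arbitrary Z)
  obtain rfl : U = ⊤ := top_le_iff.1 fun x _ => by rw [Subsingleton.elim x (Classical.arbitrary Z)]; exact hU
  exact triv_of_frame he

variable {k : Type u} [Field k] {X : Scheme.{u}} [X.Over (Spec (CommRingCat.of k))]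
  [IsProper (X ↘ Spec (CommRingCat.of k))]

variable (k) in
/-- Degree nonnegative on all integral curves of `X`. -/
def IsNef (L : X.Modules) : Prop :=
  ∀ C : X.IdealSheafData, IsIntegral C.subscheme → topologicalKrullDim (C.support : Set X) = 1 →
    0 ≤ Curv2.euler k X (CohB1.tensorMod (ClSub.quotMod C) L) - Curv2.euler k X (ClSub.quotMod C)

theorem deg_triv {C : Scheme.{u}} [C.Over (Spec (CommRingCat.of k))] [IsProper (C ↘ Spec (CommRingCat.of k))] {L : C.Modules} (h : Triv L) :
    Curv2.deg k C L 1 = 0 := by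
  obtain ⟨τ⟩ := h
  unfold Curv2.deg
  rw [Euler.euler_congr k τ]
  push_cast
  ring

section Curve

variable {C : Scheme.{u}} [C.Over (Spec (CommRingCat.of k))] [IsIntegral C]
  [IsProper (C ↘ Spec (CommRingCat.of k))]

/-- The structure on a closure. -/
theorem closure_data (ξ : X) :
    IsIntegral (IntMult.ptIdeal ξ).subscheme ∧ Set.range (IntMult.ptIdeal ξ).subschemeι = closure {ξ} ∧
      ((IntMult.ptIdeal ξ).support : Set X) = closure {ξ} := by
  refine ⟨QCoh.isIntegral_closure_point ξ, AmpleVan.FiniteSurj.range_vanishingIdeal _, ?_⟩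
  rw [IntMult.ptIdeal, Scheme.IdealSheafData.coe_support_vanishingIdeal]
  rfl

/-- The degree on a curve mapping onto an integral curve of `X`. -/
theorem deg_eq (hC : topologicalKrullDim C = 1) (g : C ⟶ X)
    (hg : g ≫ (X ↘ Spec (CommRingCat.of k)) = C ↘ Spec (CommRingCat.of k)) {ξ : X}
    (hξ : g (genericPoint C) = ξ) (hdim : topologicalKrullDim ↥(closure ({ξ} : Set X)) = 1)
    {L : X.Modules} (hL : PicF.IsInvertible L) :
    ∃ r : ℕ, 0 < r ∧ Curv2.deg k C ((Scheme.Modules.pullback g).obj L) 1 =
      (r : ℤ) * (Curv2.euler k X (CohB1.tensorMod (ClSub.quotMod (IntMult.ptIdeal ξ)) L) -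
        Curv2.euler k X (ClSub.quotMod (IntMult.ptIdeal ξ))) := by
  haveI := CurveCohLib.isNoetherian_of_proper (k := k) (X := X)
  obtain ⟨hint, hrange, hsupp⟩ := closure_data ξ
  haveI := hint
  let J := IntMult.ptIdeal ξ
  let ι := J.subschemeι
  letI : J.subscheme.Over (Spec (CommRingCat.of k)) := ⟨ι ≫ (X ↘ Spec (CommRingCat.of k))⟩
  haveI : IsProper (J.subscheme ↘ Spec (CommRingCat.of k)) :=
    inferInstanceAs (IsProper (ι ≫ (X ↘ Spec (CommRingCat.of k))))
  have hJ : topologicalKrullDim J.subscheme = 1 := by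
    rw [IsHomeomorph.topologicalKrullDim_eq _
      ((ι.isEmbedding.toHomeomorph).trans (Homeomorph.setCongr hrange)).isHomeomorph, hdim]
  have hsub : Set.range g ⊆ Set.range ι := by
    rw [hrange]
    rintro _ ⟨c, rfl⟩
    exact specializes_iff_mem_closure.1 (hξ ▸ (genericPoint_specializes c).map g.continuous)
  obtain ⟨a, ha⟩ := H23.RedSub.exists_lift_closed g ι hsub
  have hak : a ≫ (J.subscheme ↘ Spec (CommRingCat.of k)) = C ↘ Spec (CommRingCat.of k) := by
    rw [← hg, ← ha, Category.assoc]; rfl
  have hgen : a (genericPoint C) = genericPoint J.subscheme := by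
    refine ι.isClosedEmbedding.injective ?_
    have h1 : ι (a (genericPoint C)) = ξ := by rw [← hξ, ← ha]; rfl
    rw [h1]
    refine (Specializes.antisymm ?_ ?_).eq
    · exact specializes_iff_mem_closure.2 (hrange ▸ ⟨_, rfl⟩)
    · exact h1 ▸ (genericPoint_specializes _).map ι.continuous
  haveI := DegPull.isFinite k hC hJ a hak hgen
  have hfin := MorLib.GF.finite_residueFieldMap a (genericPoint C)
  refine ⟨a.residueDegree (genericPoint C), ?_, ?_⟩
  · letI := (a.residueFieldMap (genericPoint C)).hom.toAlgebra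
    haveI : Module.Finite (J.subscheme.residueField (a (genericPoint C))) (C.residueField (genericPoint C)) := hfin
    exact Module.finrank_pos
  · rw [Nakai.euler_sub_eq_deg (k := k) hL J, ← DegPull.deg_pullback k hC hJ a hak hgen
      (InvEnd.isFinLocFreeOfRank_one (PicClLib.isInvertible_pullback ι hL))]
    exact (CurveRR.deg_congr k
      ((Scheme.Modules.pullbackComp a ι).app L ≪≫ (Scheme.Modules.pullbackCongr ha).app L) 1).symm

/-- A nef module has nonnegative degree on every curve over `X`. -/
theorem deg_nonneg (hC : topologicalKrullDim C = 1) (g : C ⟶ X)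
    (hg : g ≫ (X ↘ Spec (CommRingCat.of k)) = C ↘ Spec (CommRingCat.of k))
    {L : X.Modules} (hL : PicF.IsInvertible L) (hnef : IsNef k L) :
    0 ≤ Curv2.deg k C ((Scheme.Modules.pullback g).obj L) 1 := by
  let π := X ↘ Spec (CommRingCat.of k)
  let ξ := g (genericPoint C)
  haveI : LocallyOfFiniteType g := by
    haveI : LocallyOfFiniteType (g ≫ π) := by rw [hg]; infer_instance
    exact locallyOfFiniteType_of_comp g π
  have hdC : VarDim.deg (C ↘ Spec (CommRingCat.of k)) (genericPoint C) = 1 := by
    have h := VarDim.topologicalKrullDim_eq_deg_genericPoint (C ↘ Spec (CommRingCat.of k))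
    rw [hC] at h
    exact_mod_cast h.symm
  have hle : VarDim.deg π ξ ≤ 1 := hdC ▸ VarDim.deg_map_le g π hg (genericPoint C)
  rcases Nat.le_one_iff_eq_zero_or_eq_one.1 hle with h0 | h1
  · have hcl : IsClosed ({ξ} : Set X) := (VarDim.closedPoint_iff_deg_eq_zero π ξ).2 h0
    obtain ⟨-, hrange, -⟩ := closure_data ξ
    let J := IntMult.ptIdeal ξ
    let ι := J.subschemeι
    haveI : Subsingleton J.subscheme := ⟨fun a b => ι.isClosedEmbedding.injective (by
      have ha : ι a ∈ closure ({ξ} : Set X) := hrange ▸ ⟨a, rfl⟩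
      have hb : ι b ∈ closure ({ξ} : Set X) := hrange ▸ ⟨b, rfl⟩
      rw [hcl.closure_eq] at ha hb
      exact (Set.mem_singleton_iff.1 ha).trans (Set.mem_singleton_iff.1 hb).symm)⟩
    haveI : Nonempty J.subscheme := by
      obtain ⟨z, -⟩ : ξ ∈ Set.range ι := hrange ▸ subset_closure rfl
      exact ⟨z⟩
    obtain ⟨a, ha⟩ := H23.RedSub.exists_lift_closed g ι (by
      rw [hrange]
      rintro _ ⟨c, rfl⟩
      exact specializes_iff_mem_closure.1 ((genericPoint_specializes c).map g.continuous))
    exact (deg_triv (Triv.of_iso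
      ((Scheme.Modules.pullbackComp a ι).app L ≪≫ (Scheme.Modules.pullbackCongr ha).app L)
      ((triv_of_subsingleton (PicClLib.isInvertible_pullback ι hL)).pullback a))).ge
  · have hdim : topologicalKrullDim ↥(closure ({ξ} : Set X)) = 1 := by
      rw [VarDim.topologicalKrullDim_closure_singleton π, h1]; rfl
    obtain ⟨r, hr, e⟩ := deg_eq hC g hg rfl hdim hL
    obtain ⟨hint, -, hsupp⟩ := closure_data ξ
    rw [e]
    exact mul_nonneg (Int.natCast_nonneg r) (hnef _ hint (by rw [hsupp]; exact hdim))

end Curve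

variable {X' : Scheme.{u}} [X'.Over (Spec (CommRingCat.of k))] [IsProper (X' ↘ Spec (CommRingCat.of k))]

/-- Nefness passes to pullbacks. -/
theorem isNef_pullback (f : X' ⟶ X) (hf : f ≫ (X ↘ Spec (CommRingCat.of k)) = X' ↘ Spec (CommRingCat.of k))
    {L : X.Modules} (hL : PicF.IsInvertible L) (hnef : IsNef k L) : IsNef k ((Scheme.Modules.pullback f).obj L) := by
  intro C hC hdim
  haveI := hC
  letI : C.subscheme.Over (Spec (CommRingCat.of k)) := ⟨C.subschemeι ≫ (X' ↘ Spec (CommRingCat.of k))⟩
  haveI : IsProper (C.subscheme ↘ Spec (CommRingCat.of k)) :=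
    inferInstanceAs (IsProper (C.subschemeι ≫ (X' ↘ Spec (CommRingCat.of k))))
  have hd : topologicalKrullDim C.subscheme = 1 := by
    rw [IsHomeomorph.topologicalKrullDim_eq _
      ((C.subschemeι.isEmbedding.toHomeomorph).trans (Homeomorph.setCongr C.range_subschemeι)).isHomeomorph, hdim]
  rw [Nakai.euler_sub_eq_deg (k := k) (PicClLib.isInvertible_pullback f hL) C]
  have e : (Scheme.Modules.pullback C.subschemeι).obj ((Scheme.Modules.pullback f).obj L) ≅
      (Scheme.Modules.pullback (C.subschemeι ≫ f)).obj L := (Scheme.Modules.pullbackComp C.subschemeι f).app L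
  exact (deg_nonneg hd (C.subschemeι ≫ f) (by rw [Category.assoc, hf]; rfl) hL hnef).trans_eq
    (CurveRR.deg_congr k e 1).symm

/-- Nefness descends along surjective maps. -/
theorem isNef_of_pullback (f : X' ⟶ X) (hf : f ≫ (X ↘ Spec (CommRingCat.of k)) = X' ↘ Spec (CommRingCat.of k))
    [Surjective f] {L : X.Modules} (hL : PicF.IsInvertible L)
    (hnef : IsNef k ((Scheme.Modules.pullback f).obj L)) : IsNef k L := by
  intro C hC hdim
  haveI := hC
  let π := X ↘ Spec (CommRingCat.of k)
  let π' := X' ↘ Spec (CommRingCat.of k)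
  haveI : LocallyOfFiniteType f := by
    haveI : LocallyOfFiniteType (f ≫ π) := by rw [hf]; infer_instance
    exact locallyOfFiniteType_of_comp f π
  let ξ := C.subschemeι (genericPoint C.subscheme)
  have hcl : closure ({ξ} : Set X) = (C.support : Set X) := by
    refine Set.Subset.antisymm (closure_minimal (Set.singleton_subset_iff.2 (C.range_subschemeι ▸ ⟨_, rfl⟩))
      C.support.isClosed) fun x hx => ?_
    obtain ⟨c, rfl⟩ : x ∈ Set.range C.subschemeι := by rw [C.range_subschemeι]; exact hx
    exact specializes_iff_mem_closure.1 ((genericPoint_specializes c).map C.subschemeι.continuous)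
  have hξd : VarDim.deg π ξ = 1 := by
    have h := VarDim.topologicalKrullDim_closure_singleton π ξ
    rw [hcl, hdim] at h
    exact_mod_cast h.symm
  obtain ⟨η, hη, hη0⟩ := VarDim.exists_fdeg_eq_zero f (Surjective.surj (f := f) ξ)
  have hηd : topologicalKrullDim ↥(closure ({η} : Set X')) = 1 := by
    rw [VarDim.topologicalKrullDim_closure_singleton π', VarDim.deg_eq_add f π hf, hη, hη0, hξd]; rfl
  obtain ⟨hint, hrange, hsupp⟩ := closure_data η
  haveI := hint
  let J := IntMult.ptIdeal η
  letI : J.subscheme.Over (Spec (CommRingCat.of k)) := ⟨J.subschemeι ≫ π'⟩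
  haveI : IsProper (J.subscheme ↘ Spec (CommRingCat.of k)) := inferInstanceAs (IsProper (J.subschemeι ≫ π'))
  have hd : topologicalKrullDim J.subscheme = 1 := by
    rw [IsHomeomorph.topologicalKrullDim_eq _
      ((J.subschemeι.isEmbedding.toHomeomorph).trans (Homeomorph.setCongr hrange)).isHomeomorph, hηd]
  have hgen : J.subschemeι (genericPoint J.subscheme) = η := by
    refine (Specializes.antisymm ?_ ?_).eq
    · obtain ⟨z, hz⟩ : η ∈ Set.range J.subschemeι := hrange ▸ subset_closure rfl
      exact hz ▸ (genericPoint_specializes z).map J.subschemeι.continuous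
    · exact specializes_iff_mem_closure.2 (hrange ▸ ⟨_, rfl⟩)
  obtain ⟨r, hr, e⟩ := deg_eq hd (J.subschemeι ≫ f) (by rw [Category.assoc, hf]; rfl)
    (show f (J.subschemeι (genericPoint J.subscheme)) = ξ by rw [hgen, hη])
    (by rw [hcl]; exact hdim) hL
  have h1 := hnef J hint (by rw [hsupp]; exact hηd)
  have e' : (Scheme.Modules.pullback J.subschemeι).obj ((Scheme.Modules.pullback f).obj L) ≅
      (Scheme.Modules.pullback (J.subschemeι ≫ f)).obj L := (Scheme.Modules.pullbackComp J.subschemeι f).app L
  rw [Nakai.euler_sub_eq_deg (k := k) (PicClLib.isInvertible_pullback f hL) J,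
    CurveRR.deg_congr k e', e] at h1
  have hCeq : C = IntMult.ptIdeal ξ := by
    rw [IntMult.ptIdeal, AlgSpLib.CartierRegular.eq_vanishingIdeal_support C]
    congr 1
    exact Closeds.ext hcl.symm
  rw [hCeq]
  exact nonneg_of_mul_nonneg_right h1 (by exact_mod_cast hr)

end Groth.Agent.NefPull
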