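import Groth.Agent.Lib.PnDualTwist
import Groth.Agent.PnCoh.Finite.ProjSpace
import Groth.Agent.PnCoh.Finite.SerreVanishing

/-!
Serre duality in top degree for coherent modules on projective space.
-/

set_option linter.style.haveILetI false
set_option linter.unusedSectionVars false
set_option synthInstance.maxHeartbeats 400000
set_option maxHeartbeats 1600000

universe u

open CategoryTheory CategoryTheory.Limits AlgebraicGeometry TopologicalSpace Opposite
open Groth.Agent.PnCoh.Finite

noncomputable section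

namespace Groth.Agent.PnDual

section General

variable {R : Type u} [CommRing R] {X : Scheme.{u}} [X.Over (Spec (CommRingCat.of R))]
  {ω : X.Modules} {q : ℕ} {t : Coh.HH X ω q →ₗ[R] R}

theorem HHlin_sum {F G : X.Modules} {ι : Type*} (φ : ι → (F ⟶ G)) (s : Finset ι) (x : Coh.HH X F q) :
    Canon.HHlin R (∑ a ∈ s, φ a) q x = ∑ a ∈ s, Canon.HHlin R (φ a) q x := by
  classical
  induction s using Finset.induction with
  | empty =>
    rw [Finset.sum_empty, Finset.sum_empty]
    show Sheaf.H.map ((QCoh.toAbFunctor X).map 0) q x = 0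
    rw [Functor.map_zero]
    show ((Sheaf.functorH _ q).map 0).hom x = 0
    rw [Functor.map_zero]; rfl
  | insert a s ha ih =>
    rw [Finset.sum_insert ha, Finset.sum_insert ha, ← ih]
    show Sheaf.H.map ((QCoh.toAbFunctor X).map (φ a + ∑ b ∈ s, φ b)) q x = _
    rw [Functor.map_add]
    exact Sheaf.H.map_add_apply _ _ _

theorem dualityMap_comp {F F' : X.Modules} (g : F ⟶ F') (φ : F' ⟶ ω) (x : Coh.HH X F q) :
    Canon.dualityMap R X q ω t F (g ≫ φ) x = Canon.dualityMap R X q ω t F' φ (Canon.HHlin R g q x) :=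
  (congrArg t (HHlin_comp g φ q x)).symm

theorem injective_of_epi {F F' : X.Modules} (g : F ⟶ F') [Epi g]
    (h : Function.Injective (Canon.dualityMap R X q ω t F)) :
    Function.Injective (Canon.dualityMap R X q ω t F') := fun φ ψ e => by
  refine (cancel_epi g).1 (h (LinearMap.ext fun x => ?_))
  rw [dualityMap_comp, dualityMap_comp, e]

theorem bijective_of_presentation {S : ShortComplex X.Modules} (hS : S.ShortExact)
    (hv : Subsingleton (Coh.HH X S.X₁ (q + 1)))
    (h₂ : Function.Bijective (Canon.dualityMap R X q ω t S.X₂))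
    (h₁ : Function.Injective (Canon.dualityMap R X q ω t S.X₁)) :
    Function.Bijective (Canon.dualityMap R X q ω t S.X₃) := by
  haveI := hS.epi_g
  refine ⟨injective_of_epi S.g h₂.1, fun f => ?_⟩
  obtain ⟨φ, hφ⟩ := h₂.2 (f ∘ₗ Canon.HHlin R S.g q)
  have hz : S.f ≫ φ = S.f ≫ S.g ≫ 0 := h₁ (LinearMap.ext fun x => by
    rw [dualityMap_comp, hφ, LinearMap.comp_apply, HHlin_comp, ← Category.assoc, dualityMap_comp,
      S.zero]
    have h0 : Canon.HHlin R (0 : S.X₁ ⟶ S.X₃) q x = 0 := by
      have := HHlin_sum (R := R) (fun a : Fin 0 => (0 : S.X₁ ⟶ S.X₃)) (q := q) Finset.univ x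
      simpa using this
    rw [h0, map_zero, map_zero])
  rw [comp_zero, comp_zero] at hz
  refine ⟨hS.gIsCokernel.desc (CokernelCofork.ofπ φ hz), LinearMap.ext fun y => ?_⟩
  obtain ⟨x, rfl⟩ : ∃ x, Canon.HHlin R S.g q x = y :=
    exists_of_deltaLin_eq_zero R hS q (hv.elim _ _)
  rw [← dualityMap_comp]
  have hd : S.g ≫ hS.gIsCokernel.desc (CokernelCofork.ofπ φ hz) = φ :=
    hS.gIsCokernel.fac (CokernelCofork.ofπ φ hz) WalkingParallelPair.one
  rw [hd, hφ, LinearMap.comp_apply]

theorem bijective_of_decomposition {E : X.Modules} {ι : Type*} [Fintype ι] (T : ι → X.Modules)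
    (p : ∀ a, E ⟶ T a) (j : ∀ a, T a ⟶ E) (h : ∑ a, p a ≫ j a = 𝟙 E)
    (hT : ∀ a, Function.Bijective (Canon.dualityMap R X q ω t (T a))) :
    Function.Bijective (Canon.dualityMap R X q ω t E) := by
  refine ⟨fun φ ψ e => ?_, fun f => ?_⟩
  · rw [← Category.id_comp φ, ← Category.id_comp ψ, ← h, Preadditive.sum_comp, Preadditive.sum_comp]
    refine Finset.sum_congr rfl fun a _ => ?_
    rw [Category.assoc, Category.assoc,
      (hT a).1 (LinearMap.ext fun x => by rw [dualityMap_comp, dualityMap_comp, e] :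
        Canon.dualityMap R X q ω t (T a) (j a ≫ φ) = Canon.dualityMap R X q ω t (T a) (j a ≫ ψ))]
  · choose φ hφ using fun a => (hT a).2 (f ∘ₗ Canon.HHlin R (j a) q)
    refine ⟨∑ a, p a ≫ φ a, LinearMap.ext fun x => ?_⟩
    show t (Canon.HHlin R (∑ a, p a ≫ φ a) q x) = f x
    rw [HHlin_sum, map_sum]
    have h1 : ∀ a, t (Canon.HHlin R (p a ≫ φ a) q x) = f (Canon.HHlin R (p a ≫ j a) q x) := fun a => by
      show Canon.dualityMap R X q ω t E (p a ≫ φ a) x = _
      rw [dualityMap_comp, hφ, LinearMap.comp_apply, HHlin_comp]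
    rw [Finset.sum_congr rfl fun a _ => h1 a, ← map_sum, ← HHlin_sum, h, HHlin_id]

end General

section ProjSpace

variable {m : ℕ} {R : Type u} [CommRing R] [IsNoetherianRing R]

/-- The coordinates. -/
def coordsR (R : Type u) [CommRing R] (m : ℕ) : ULift.{u} (Fin (m + 1)) → MvPolynomial (Fin (m + 1)) R :=
  fun j => MvPolynomial.X j.down

theorem coordsR_mem (j : ULift.{u} (Fin (m + 1))) : coordsR R m j ∈ CohB1.polyGrading m R 1 :=
  MvPolynomial.isHomogeneous_X R j.down

theorem coordsR_cover : ⨆ j, D (CohB1.polyGrading m R) (coordsR R m j) = ⊤ := by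
  refine top_le_iff.1 ((PnCoh.iSup_mOpen_single (ι := Fin (m + 1)) (R := R)).ge.trans ?_)
  exact iSup_le fun j => le_iSup_of_le (ULift.up j) le_rfl

theorem coordsR_noetherian : ∀ j, IsNoetherianRing
    Γ(Proj (CohB1.polyGrading m R), D (CohB1.polyGrading m R) (coordsR R m j)) := fun j => by
  haveI hP : IsNoetherian (Proj (CohB1.polyGrading m R)) := Proj16.isNoetherian_proj _
  exact IsLocallyNoetherian.component_noetherian ⟨_, isAffineOpen_D coordsR_mem j⟩

theorem subsingleton_HH_above {F : (CohB1.ProjSpace m R).Modules} (hF : Coh.IsQCoh F) (q : ℕ) (hq : m < q) :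
    Subsingleton (Coh.HH (CohB1.ProjSpace m R) F q) :=
  QCoh.HH_subsingleton_of_cover (X := Proj (CohB1.polyGrading m R)) (m + 1)
    (fun j => D (CohB1.polyGrading m R) (coordsR R m (ULift.up j)))
    (fun j => isAffineOpen_D coordsR_mem _)
    (top_le_iff.1 (coordsR_cover.ge.trans (iSup_le fun j => le_iSup_of_le j.down le_rfl)))
    (fun V W hV hW => IsAffineOpen.inf hV hW) hF q hq

/-- Serre duality in top degree for modules with finite sections on the charts. -/
theorem bijective_dualityMap_good {b : ℤ} (hb : b = -((m : ℤ) + 1))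
    (t : HTw m R b ≃ₗ[R] R) {F : (CohB1.ProjSpace m R).Modules}
    (hF : Good (𝒜 := CohB1.polyGrading m R) (coordsR R m) F) :
    Function.Bijective (Canon.dualityMap R (CohB1.ProjSpace m R) m
      (Twist.twistProjSpace m R b) t.toLinearMap F) := by
  letI : (Proj (CohB1.polyGrading m R)).Over (Spec (CommRingCat.of R)) :=
    inferInstanceAs ((CohB1.ProjSpace m R).Over (Spec (CommRingCat.of R)))
  have hinj : ∀ F : (Proj (CohB1.polyGrading m R)).Modules, Good (coordsR R m) F →
      Function.Injective (Canon.dualityMap R (Proj (CohB1.polyGrading m R)) m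
        (Twist.twistProjSpace m R b) t.toLinearMap F) := by
    intro F hF
    obtain ⟨ι, _, d, S, p, j, hS, rfl, -, -, hpj⟩ :=
      exists_presentation coordsR_mem coordsR_cover coordsR_noetherian hF
    haveI := hS.epi_g
    exact injective_of_epi S.g (bijective_of_decomposition (fun a => Twist.twist _ (d a)) p j hpj
      fun a => bijective_dualityMap_twist' hb t (d a)).1
  obtain ⟨ι, _, d, S, p, j, hS, hS3, hK, -, hpj⟩ :=
    exists_presentation coordsR_mem coordsR_cover coordsR_noetherian hF
  subst hS3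
  exact bijective_of_presentation hS (subsingleton_HH_above hK.1 (m + 1) (Nat.lt_succ_self m))
    (bijective_of_decomposition (fun a => Twist.twist _ (d a)) p j hpj
      fun a => bijective_dualityMap_twist' hb t (d a)) (hinj S.X₁ hK)

/-- Serre duality in top degree for coherent modules. -/
theorem bijective_dualityMap_coh {b : ℤ} (hb : b = -((m : ℤ) + 1))
    (t : HTw m R b ≃ₗ[R] R) {F : (CohB1.ProjSpace m R).Modules} (hF : Coh.IsCoh F) :
    Function.Bijective (Canon.dualityMap R (CohB1.ProjSpace m R) m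
      (Twist.twistProjSpace m R b) t.toLinearMap F) :=
  bijective_dualityMap_good hb t (good_of_isCoh coordsR_mem hF)

end ProjSpace

end Groth.Agent.PnDual
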