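import Groth.Agent.H23.Frame
import Groth.Agent.AmpleX.QAGenerated
import Mathlib.AlgebraicGeometry.FunctionField

/-!
Nonzero maps from the structure module to a locally free module on an integral scheme are injective.
-/

set_option linter.style.haveILetI false
set_option linter.unusedSectionVars false
set_option backward.isDefEq.respectTransparency false
set_option maxHeartbeats 800000

universe u

open CategoryTheory CategoryTheory.Limits AlgebraicGeometry TopologicalSpace Opposite
open Groth.Agent.H23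

namespace Groth.Agent.UnitMono

variable {X : Scheme.{u}} [IsIntegral X] {F : X.Modules} (hF : FlatMod.IsFinLocFree F)

theorem exists_frame_at (hF : FlatMod.IsFinLocFree F) (x : X) :
    ∃ (U : X.Opens) (n : ℕ) (s : Fin n → Γ(F, U)), x ∈ U ∧ Frame.IsFrame F s := by
  obtain ⟨U, n, hx, ⟨e⟩⟩ := hF x
  obtain ⟨s, hs⟩ := Frame.exists_frame e
  exact ⟨U, n, s, hx, hs⟩

omit [IsIntegral X] in
theorem res_comb {U W W' : X.Opens} {n : ℕ} (s : Fin n → Γ(F, U)) (h : W ≤ U) (h' : W' ≤ W) (c : Fin n → Γ(X, W)) :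
    F.presheaf.map (homOfLE h').op (Frame.comb F s W h c) =
      Frame.comb F s W' (h'.trans h) fun i => X.presheaf.map (homOfLE h').op (c i) := by
  simp only [Frame.comb, map_sum]
  refine Finset.sum_congr rfl fun i _ => ?_
  rw [Scheme.Modules.map_smul]
  congr 1
  exact (ConcreteCategory.congr_hom (F.presheaf.map_comp (homOfLE h).op (homOfLE h').op) (s i)).symm

include hF in
/-- A section vanishing on a nonempty open vanishes. -/
theorem section_eq_zero (t : Γ(F, ⊤)) (O : X.Opens) [hO : Nonempty O]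
    (h : F.presheaf.map (homOfLE le_top).op t = (0 : Γ(F, O))) : t = 0 := by
  choose U' n' s' hU' hs' using fun x => exists_frame_at hF (X := X) x
  refine TopCat.Sheaf.eq_of_locally_eq' ⟨F.presheaf, F.isSheaf⟩
    U' ⊤ (fun x => homOfLE le_top)
    (fun y _ => Opens.mem_iSup.mpr ⟨y, hU' y⟩)
    _ _ fun x => ?_
  obtain ⟨U, n, s, hx, hs, rfl⟩ : ∃ (U : X.Opens) (n : ℕ) (s : Fin n → Γ(F, U)),
      x ∈ U ∧ Frame.IsFrame F s ∧ U = U' x := ⟨_, _, s' x, hU' x, hs' x, rfl⟩
  refine Eq.trans ?_ (map_zero _).symm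
  show F.presheaf.map (homOfLE le_top).op t = 0
  obtain ⟨c, hc⟩ := (hs (U' x) le_rfl).2 (F.presheaf.map (homOfLE le_top).op t)
  have hne : Nonempty ↥((U' x) ⊓ O) := by
    obtain ⟨z, hz⟩ := nonempty_preirreducible_inter (U' x).isOpen O.isOpen ⟨x, hx⟩ (let ⟨o⟩ := hO; ⟨o.1, o.2⟩)
    exact ⟨⟨z, hz⟩⟩
  haveI hne' : Nonempty (((U' x) ⊓ O : X.Opens) : Scheme.{u}) := hne
  have h0 : Frame.comb F s ((U' x) ⊓ O) (inf_le_left.trans le_rfl)
      (fun i => X.presheaf.map (homOfLE (inf_le_left : (U' x) ⊓ O ≤ (U' x))).op (c i)) = 0 := by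
    rw [← res_comb s le_rfl inf_le_left c, hc]
    have h1 := congrArg (F.presheaf.map (homOfLE (inf_le_right : (U' x) ⊓ O ≤ O)).op) h
    rw [map_zero] at h1
    refine Eq.trans ?_ h1
    rw [← ConcreteCategory.comp_apply, ← ConcreteCategory.comp_apply, ← Functor.map_comp, ← Functor.map_comp]
    rfl
  have h2 : (fun i => X.presheaf.map (homOfLE (inf_le_left : (U' x) ⊓ O ≤ (U' x))).op (c i)) = fun _ => 0 :=
    (hs ((U' x) ⊓ O) inf_le_left).1 (h0.trans (by simp [Frame.comb]))
  rw [← hc, show c = fun _ => 0 from funext fun i =>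
    (map_eq_zero_iff _ (map_injective_of_isIntegral (X := X) (homOfLE (inf_le_left : (U' x) ⊓ O ≤ (U' x))))).1
      (congrFun h2 i)]
  simp [Frame.comb]

include hF in
theorem mono_of_ne_zero (φ : Coh.structureModule X ⟶ F) (hφ : φ ≠ 0) : Mono φ := by
  have happ : ∀ W, Function.Injective (φ.app W) := by
    intro W
    refine (injective_iff_map_eq_zero _).2 fun a ha => ?_
    choose U' n' s' hU' hs' using fun x => exists_frame_at hF (X := X) x
    refine TopCat.Sheaf.eq_of_locally_eq' ⟨(Coh.structureModule X).presheaf, (Coh.structureModule X).isSheaf⟩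
      (fun x : W => W ⊓ U' x) W (fun x => homOfLE inf_le_left)
      (fun y hy => Opens.mem_iSup.mpr ⟨⟨y, hy⟩, hy, hU' y⟩) _ _ fun x => ?_
    obtain ⟨U, n, s, hx, hs, rfl⟩ : ∃ (U : X.Opens) (n : ℕ) (s : Fin n → Γ(F, U)),
        (x : X) ∈ U ∧ Frame.IsFrame F s ∧ U = U' x := ⟨_, _, s' x, hU' x, hs' x, rfl⟩
    let O := W ⊓ U' (x : X)
    haveI : Nonempty O := ⟨⟨(x : X), x.2, hx⟩⟩
    refine Eq.trans ?_ (map_zero _).symm
    show (X.presheaf.map (homOfLE (inf_le_left : O ≤ W)).op (a : Γ(X, W)) : Γ(X, O)) = 0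
    set b : Γ(X, O) := X.presheaf.map (homOfLE (inf_le_left : O ≤ W)).op (a : Γ(X, W))
    have hb : φ.app O (b : Γ(Coh.structureModule X, O)) = 0 := by
      have h1 := ConcreteCategory.congr_hom (φ.mapPresheaf.naturality (homOfLE (inf_le_left : O ≤ W)).op) a
      exact h1.trans ((congrArg _ ha).trans (map_zero (F.presheaf.map (homOfLE (inf_le_left : O ≤ W)).op).hom))
    rw [Frame.app_eq_smul] at hb
    obtain ⟨c, hc⟩ := (hs O inf_le_right).2 (φ.app O (Frame.one O))
    have h3 : (fun i => b * c i) = fun _ => (0 : Γ(X, O)) := by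
      refine (hs O inf_le_right).1 ?_
      rw [← hc] at hb
      simp only [Frame.comb, Finset.smul_sum, smul_smul] at hb ⊢
      simpa using hb
    by_contra hne
    have hz : φ.app O (Frame.one O) = 0 := by
      rw [← hc, show c = fun _ => 0 from funext fun i =>
        (mul_eq_zero.1 (congrFun h3 i)).resolve_left hne]
      simp [Frame.comb]
    apply hφ
    apply AmpleX.eq_zero_of_one_eq_zero
    refine section_eq_zero hF _ O ?_
    exact (Frame.app_one_res φ le_top).trans hz
  refine ⟨fun g g' hg => ?_⟩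
  apply Scheme.Modules.hom_ext
  intro W
  ext z
  exact happ W (congrArg (fun χ => Scheme.Modules.Hom.app χ W z) hg)

end Groth.Agent.UnitMono
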