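import Groth.Agent.Lib.HorrocksPn
import Groth.Agent.Lib.UnitMono
import Groth.Agent.Lib.PnDualCoh
import Groth.Agent.Lib.InvEnd
import Groth.Agent.KFlatLib.Perfect.Tensor
import Groth.Agent.QCoh.LocFree
import Groth.Agent.H23.PnChart
import Mathlib.Algebra.Category.ModuleCat.Biproducts

/-!
Invariants of sums of twists and vanishing of sections in very negative degree.
-/

set_option linter.style.haveILetI false
set_option linter.unusedSectionVars false
set_option backward.isDefEq.respectTransparency false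
set_option backward.isDefEq.respectTransparency.types false
set_option maxHeartbeats 1000000

universe u

open CategoryTheory CategoryTheory.Limits AlgebraicGeometry TopologicalSpace Opposite
open Groth.Agent.PnCoh.Finite Groth.Agent.ProjRegular Groth.Agent.RegEpi

noncomputable section

namespace Groth.Agent.TwistSum

section Sigma

variable {k : Type u} [Field k] {X : Scheme.{u}} [X.Over (Spec (CommRingCat.of k))]

theorem HHlin_zero' {A B : X.Modules} (q : ℕ) (x : Coh.HH X A q) : Canon.HHlin k (0 : A ⟶ B) q x = 0 := by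
  show Sheaf.H.map ((QCoh.toAbFunctor X).map 0) q x = 0
  rw [Functor.map_zero]
  show ((Sheaf.functorH _ q).map 0).hom x = 0
  rw [Functor.map_zero]
  rfl

/-- Cohomology of a finite sum. -/
theorem finrank_HH_sigma {b : ℕ} (T : Fin b → X.Modules) (q : ℕ) [∀ j, Module.Finite k (Coh.HH X (T j) q)] :
    Module.finrank k (Coh.HH X (∐ T) q) = ∑ j, Module.finrank k (Coh.HH X (T j) q) := by
  classical
  haveI := Abelian.hasFiniteBiproducts (C := X.Modules)
  let p : ∀ j, ∐ T ⟶ T j := fun j => Sigma.desc fun i => if h : i = j then eqToHom (by rw [h]) else 0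
  have hid : ∑ j, p j ≫ Sigma.ι T j = 𝟙 (∐ T) := by
    refine Sigma.hom_ext _ _ fun i => ?_
    rw [Preadditive.comp_sum, Category.comp_id, Finset.sum_eq_single i]
    · simp [p]
    · intro j _ hj
      simp [p, Ne.symm hj]
    · simp
  let e : Coh.HH X (∐ T) q ≃ₗ[k] ∀ j, Coh.HH X (T j) q :=
    LinearEquiv.ofBijective (LinearMap.pi fun j => Canon.HHlin k (p j) q)
      ⟨fun x y h => by
        have hx : ∀ z, Canon.HHlin k (∑ j, p j ≫ Sigma.ι T j) q z = z := fun z => by
          rw [hid, PnDual.HHlin_id]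
        rw [← hx x, ← hx y, PnDual.HHlin_sum, PnDual.HHlin_sum]
        refine Finset.sum_congr rfl fun j _ => ?_
        rw [← PnDual.HHlin_comp, ← PnDual.HHlin_comp]
        exact congrArg _ (congrFun h j),
      fun z => ⟨∑ j, Canon.HHlin k (Sigma.ι T j) q (z j), funext fun i => by
        simp only [LinearMap.pi_apply, map_sum]
        rw [Finset.sum_eq_single i]
        · rw [PnDual.HHlin_comp, show Sigma.ι T i ≫ p i = 𝟙 _ by simp [p], PnDual.HHlin_id]
        · intro j _ hj
          rw [PnDual.HHlin_comp, show Sigma.ι T j ≫ p i = 0 by simp [p, hj], HHlin_zero']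
        · simp⟩⟩
  rw [e.finrank_eq, Module.finrank_pi_fintype]

/-- A monomorphism gives an inequality on sections. -/
theorem finrank_le_of_mono {A B : X.Modules} (ψ : A ⟶ B) [Mono ψ] [Module.Finite k (Coh.HH X B 0)] :
    Module.finrank k (Coh.HH X A 0) ≤ Module.finrank k (Coh.HH X B 0) :=
  LinearMap.finrank_le_finrank_of_injective (PnDual.HHlin_f_injective (k := k)
    (S := ShortComplex.mk ψ (cokernel.π ψ) (cokernel.condition ψ))
    { exact := ShortComplex.exact_of_g_is_cokernel _ (cokernelIsCokernel ψ) })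

end Sigma

section Rank

variable {X : Scheme.{u}}

theorem finrank_stalk_of_rank {E : X.Modules} {r : ℕ} (hE : FlatMod.IsFinLocFreeOfRank r E) (x : X) :
    Module.finrank (X.presheaf.stalk x) (E.presheaf.stalk x) = r := by
  have hEf : FlatMod.IsFinLocFree E := fun y => let ⟨W, hy, he⟩ := hE y; ⟨W, r, hy, he⟩
  obtain ⟨U, hxU, ⟨e⟩⟩ := hE x
  obtain ⟨_, ⟨V, hV, rfl⟩, hxV, hle⟩ := X.isBasis_affineOpens.exists_subset_of_mem_open hxU U.2
  obtain ⟨l⟩ := QCoh.free_sections hV hle e
  exact QCoh.finrank_stalk_of_freeChart hV (QCoh.isQCoh_of_isFinLocFree hEf) l hxV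

theorem finrank_stalk_sigma {b : ℕ} (T : Fin b → X.Modules) (x : X)
    (hT : ∀ j, Nonempty ((DerSch.stalkFunctor X x).obj (T j) ≅ ModuleCat.of _ (X.presheaf.stalk x))) :
    Module.finrank (X.presheaf.stalk x) ((∐ T : X.Modules).presheaf.stalk x) = b := by
  classical
  haveI := Abelian.hasFiniteBiproducts (C := X.Modules)
  let S := DerSch.stalkFunctor X x
  haveI : S.Additive := Functor.additive_of_preserves_binary_products _
  haveI : PreservesFiniteBiproducts S := Functor.preservesFiniteBiproductsOfAdditive S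
  let e := S.mapIso (biproduct.isoCoproduct T).symm ≪≫ S.mapBiproduct T ≪≫
    biproduct.mapIso (fun j => (hT j).some) ≪≫
    ModuleCat.biproductIsoPi (fun _ : Fin b => ModuleCat.of (X.presheaf.stalk x) (X.presheaf.stalk x))
  refine e.toLinearEquiv.finrank_eq.trans ?_
  exact (Module.finrank_pi_fintype _).trans (by simp)

end Rank

variable {k : Type u} [Field k] {n : ℕ}

local notation "PP" => Proj (CohB1.polyGrading n k)
local notation "OP" => Coh.structureModule (Proj (CohB1.polyGrading n k))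
local notation "Ptw" => Twist.twist (CohB1.polyGrading n k)

theorem nonempty_PP : Nonempty (Proj (CohB1.polyGrading n k)) := by
  haveI : IsIntegral (CohB1.ProjSpace n k) := H23.PnChart.isIntegral_projSpace n k
  exact (inferInstance : Nonempty (CohB1.ProjSpace n k))

/-- The rank of a sum of twists. -/
theorem eq_rank_of_iso {r r' : ℕ} {E : (Proj (CohB1.polyGrading n k)).Modules}
    (hE : FlatMod.IsFinLocFreeOfRank r E) (a : Fin r' → ℤ) (e : E ≅ ∐ fun j => Ptw (a j)) : r' = r := by
  obtain ⟨x⟩ := nonempty_PP (k := k) (n := n)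
  obtain ⟨j, hj⟩ := Opens.mem_iSup.1 ((coords_cover (k := k) (n := n)).ge (trivial : x ∈ (⊤ : (PP).Opens)))
  have h1 := finrank_stalk_of_rank hE x
  have h2 := finrank_stalk_sigma (fun i => Ptw (a i)) x fun i =>
    ⟨((LinearEquiv.ofBijective _ (stalkGen_bijective (coords_mem j) hj (a i))).symm).toModuleIso ≪≫ Iso.refl _⟩
  rw [← h2, ← h1]
  exact ((DerSch.stalkFunctor _ x).mapIso e).toLinearEquiv.finrank_eq.symm

theorem isFinLocFree_twF {F : (Proj (CohB1.polyGrading n k)).Modules} (hF : FlatMod.IsFinLocFree F) (d : ℤ) :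
    FlatMod.IsFinLocFree ((twF d).obj F) :=
  KFlatLib.isFinLocFree_tensor hF fun x =>
    let ⟨W, hx, he⟩ := InvEnd.isFinLocFreeOfRank_one (isInvertible_twist (coords k n) coords_mem coords_cover d) x
    ⟨W, 1, hx, he⟩

variable [(Proj (CohB1.polyGrading n k)).Over (Spec (CommRingCat.of k))]

/-- A locally free module has no sections in very negative degree. -/
theorem low_of_isFinLocFree {F : (Proj (CohB1.polyGrading n k)).Modules} (hF : FlatMod.IsFinLocFree F)
    [Module.Finite k (Coh.HH PP F 0)]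
    (hbig : ∀ e : ℕ, e + 1 ≤ Module.finrank k (Coh.HH PP (Ptw (e : ℤ)) 0)) :
    ∃ d₀ : ℤ, ∀ d, d ≤ d₀ → Subsingleton (Coh.HH PP ((twF d).obj F) 0) := by
  haveI : IsIntegral (Proj (CohB1.polyGrading n k)) := H23.PnChart.isIntegral_projSpace n k
  refine ⟨-(Module.finrank k (Coh.HH PP F 0) : ℤ) - 1, fun d hd => ?_⟩
  obtain ⟨e, rfl⟩ : ∃ e : ℕ, d = -(e : ℤ) := ⟨(-d).toNat, by omega⟩
  refine subsingleton_of_forall_eq 0 fun x => ?_
  by_contra hx
  obtain ⟨φ, hφ⟩ := (evalOneLin_bijective k ((twF (-(e : ℤ))).obj F)).2 x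
  have hφ0 : φ ≠ 0 := by rintro rfl; exact hx (hφ.symm.trans (map_zero _))
  haveI := UnitMono.mono_of_ne_zero (isFinLocFree_twF hF _) φ hφ0
  obtain ⟨t1⟩ := twF_twF_iso F (-(e : ℤ)) (e : ℤ) 0 (by ring)
  obtain ⟨t2⟩ := twF_zero_iso (k := k) (n := n) F
  obtain ⟨u⟩ := unitIso (k := k) (n := n)
  obtain ⟨t⟩ := twist_tensor_iso (coords k n) coords_mem coords_cover 0 (e : ℤ)
  let ψ : Ptw (e : ℤ) ⟶ F :=
    ((eqToIso (by rw [zero_add])) ≪≫ t.symm ≪≫ ((twF (e : ℤ)).mapIso u).symm).hom ≫
      (twF (e : ℤ)).map φ ≫ (t1 ≪≫ t2).hom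
  haveI : Mono ψ := by
    haveI : Mono ((twF (e : ℤ)).map φ) := inferInstance
    exact @mono_comp _ _ _ _ _ _ inferInstance _ (@mono_comp _ _ _ _ _ _ inferInstance _ inferInstance)
  have hle : Module.finrank k (Coh.HH PP (Ptw (e : ℤ)) 0) ≤ Module.finrank k (Coh.HH PP F 0) :=
    finrank_le_of_mono (k := k) ψ
  have := hbig e
  omega

section Count

theorem antitone_eq_of_count {r : ℕ} (d d' : Fin r → ℤ) (hd : Antitone d) (hd' : Antitone d')
    (h : ∀ t : ℤ, (Finset.univ.filter fun i => t ≤ d i).card = (Finset.univ.filter fun i => t ≤ d' i).card) :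
    d = d' := by
  have key : ∀ (f g : Fin r → ℤ), Antitone f → Antitone g →
      (∀ t : ℤ, (Finset.univ.filter fun i => t ≤ f i).card = (Finset.univ.filter fun i => t ≤ g i).card) →
      ∀ i, g i ≤ f i := by
    intro f g hf hg hfg i
    by_contra hlt
    have h1 : Finset.univ.filter (fun j => g i ≤ f j) ⊆ Finset.Iio i := fun j hj => by
      rw [Finset.mem_filter] at hj
      rw [Finset.mem_Iio]
      by_contra hle
      have := hf (not_lt.1 hle)
      omega
    have h2 : Finset.Iic i ⊆ Finset.univ.filter (fun j => g i ≤ g j) := fun j hj =>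
      Finset.mem_filter.2 ⟨Finset.mem_univ _, hg (Finset.mem_Iic.1 hj)⟩
    have h3 := Finset.card_le_card h1
    have h4 := Finset.card_le_card h2
    rw [Fin.card_Iio] at h3
    rw [Fin.card_Iic] at h4
    have := hfg (g i)
    omega
  exact funext fun i => le_antisymm (key d' d hd' hd (fun t => (h t).symm) i) (key d d' hd hd' h i)

end Count

end Groth.Agent.TwistSum
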