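import Groth.Agent.Lib.SyzygyPn

/-!
Modules on projective space without intermediate cohomology are sums of twists.
-/

set_option linter.style.haveILetI false
set_option linter.unusedSectionVars false
set_option backward.isDefEq.respectTransparency false
set_option backward.isDefEq.respectTransparency.types false
set_option maxHeartbeats 1000000

universe u

open CategoryTheory CategoryTheory.Limits AlgebraicGeometry TopologicalSpace Opposite
open Groth.Agent.PnCoh.Finite Groth.Agent.ProjRegular Groth.Agent.RegEpi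

noncomputable section

namespace Groth.Agent.Horrocks

section Split

variable {C : Type*} [Category C] [Abelian C]

/-- A retraction splits off. -/
theorem exists_split {G O : C} (s : O ⟶ G) (φ : G ⟶ O) (h : s ≫ φ = 𝟙 O) :
    Nonempty (G ≅ O ⊞ kernel φ) := by
  haveI : IsSplitEpi φ := ⟨⟨⟨s, h⟩⟩⟩
  let S : ShortComplex C := ShortComplex.mk (kernel.ι φ) φ (kernel.condition φ)
  have hS : S.ShortExact :=
    { exact := ShortComplex.exact_of_f_is_kernel _ (kernelIsKernel φ) }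
  let sp := ShortComplex.Splitting.ofExactOfSection S hS.exact s h (inferInstanceAs (Mono (kernel.ι φ)))
  exact ⟨{ hom := biprod.lift φ sp.r
           inv := biprod.desc s (kernel.ι φ)
           hom_inv_id := by
            rw [biprod.lift_desc, add_comm]
            exact sp.id
           inv_hom_id := by
            apply biprod.hom_ext' <;> apply biprod.hom_ext <;> simp
            · exact h
            · exact sp.s_r
            · exact sp.f_r }⟩

/-- A binary sum with a finite coproduct. -/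
theorem exists_cons {r : ℕ} (A : C) (B : Fin r → C) (T : Fin (r + 1) → C) (e₀ : A ≅ T 0)
    (e : ∀ i, B i ≅ T i.succ) [HasCoproduct B] [HasCoproduct T] : Nonempty (A ⊞ ∐ B ≅ ∐ T) := by
  refine ⟨{ hom := biprod.desc (e₀.hom ≫ Sigma.ι T 0) (Sigma.desc fun i => (e i).hom ≫ Sigma.ι T i.succ)
            inv := Sigma.desc (Fin.cases (e₀.inv ≫ biprod.inl) fun i => (e i).inv ≫ Sigma.ι B i ≫ biprod.inr)
            hom_inv_id := ?_, inv_hom_id := ?_ }⟩
  · apply biprod.hom_ext'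
    · simp
    · refine Sigma.hom_ext _ _ fun i => ?_
      simp
  · refine Sigma.hom_ext _ _ fun i => ?_
    refine Fin.cases ?_ (fun j => ?_) i <;> simp

/-- Reindexed. -/
theorem exists_cons' {α : Type*} (P : α → C) {r : ℕ} (a₀ : α) (a : Fin r → α)
    [HasCoproduct fun j => P (a j)] [HasCoproduct fun j : Fin (r + 1) => P (Fin.cases a₀ a j)] :
    Nonempty (P a₀ ⊞ (∐ fun j => P (a j)) ≅ ∐ fun j : Fin (r + 1) => P (Fin.cases a₀ a j)) :=
  exists_cons (P a₀) (fun j => P (a j)) _ (Iso.refl _) fun _ => Iso.refl _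

end Split

variable (k : Type u) [Field k] (n : ℕ) [(Proj (CohB1.polyGrading n k)).Over (Spec (CommRingCat.of k))]

local notation "PP" => Proj (CohB1.polyGrading n k)
local notation "OP" => Coh.structureModule (Proj (CohB1.polyGrading n k))
local notation "Ptw" => Twist.twist (CohB1.polyGrading n k)

/-- Coherent, without intermediate cohomology and without sections in very negative degree. -/
structure ACM (G : (Proj (CohB1.polyGrading n k)).Modules) : Prop where
  coh : Coh.IsCoh G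
  mid : ∀ (d : ℤ) (i : ℕ), 1 ≤ i → i < n →
    Subsingleton (Coh.HH (Proj (CohB1.polyGrading n k)) ((twF d).obj G) i)
  low : ∃ d₀ : ℤ, ∀ d, d ≤ d₀ → Subsingleton (Coh.HH (Proj (CohB1.polyGrading n k)) ((twF d).obj G) 0)

/-- A nonzero top cohomology group gives a map to the dualizing module. -/
def Dual : Prop :=
  ∀ M : (Proj (CohB1.polyGrading n k)).Modules, Coh.IsCoh M →
    ¬ Subsingleton (Coh.HH (Proj (CohB1.polyGrading n k)) M n) →
      ∃ φ : M ⟶ Twist.twist (CohB1.polyGrading n k) (-((n : ℤ) + 1)), φ ≠ 0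

variable {k n}

theorem subsingleton_HH_retract {X : Scheme.{u}} {E T : X.Modules} (s : E ⟶ T) (r : T ⟶ E) (h : s ≫ r = 𝟙 E)
    (q : ℕ) (hT : Subsingleton (Coh.HH X T q)) : Subsingleton (Coh.HH X E q) :=
  subsingleton_HH_of_decomposition (ι := Fin 1) (fun _ => T) (fun _ => s) (fun _ => r) (by simp [h]) q fun _ => hT

theorem subsingleton_twF_retract {E T : (Proj (CohB1.polyGrading n k)).Modules} (s : E ⟶ T) (r : T ⟶ E)
    (h : s ≫ r = 𝟙 E) (d : ℤ) (q : ℕ) (hT : Subsingleton (Coh.HH PP ((twF d).obj T) q)) :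
    Subsingleton (Coh.HH PP ((twF d).obj E) q) :=
  subsingleton_HH_retract ((twF d).map s) ((twF d).map r)
    (by rw [← Functor.map_comp, h, CategoryTheory.Functor.map_id]) q hT

theorem ACM.of_iso {G G' : (Proj (CohB1.polyGrading n k)).Modules} (h : ACM k n G) (e : G ≅ G') :
    ACM k n G' where
  coh := SheafHomX.isCoh_of_iso e h.coh
  mid d i h1 h2 := QCoh.subsingleton_HH_of_iso ((twF d).mapIso e) i (h.mid d i h1 h2)
  low := h.low.elim fun d₀ hd => ⟨d₀, fun d hd' => QCoh.subsingleton_HH_of_iso ((twF d).mapIso e) 0 (hd d hd')⟩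

theorem ACM.twist {G : (Proj (CohB1.polyGrading n k)).Modules} (h : ACM k n G) (a : ℤ) :
    ACM k n ((twF a).obj G) where
  coh := ProjRegular.isCoh_twistBy h.coh a
  mid d i h1 h2 := by
    obtain ⟨e⟩ := twF_twF_iso G a d (a + d) rfl
    exact QCoh.subsingleton_HH_of_iso e.symm i (h.mid _ i h1 h2)
  low := by
    obtain ⟨d₀, hd⟩ := h.low
    refine ⟨d₀ - a, fun d hd' => ?_⟩
    obtain ⟨e⟩ := twF_twF_iso G a d (a + d) rfl
    exact QCoh.subsingleton_HH_of_iso e.symm 0 (hd _ (by omega))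

theorem isCoh_twF {M : (Proj (CohB1.polyGrading n k)).Modules} (hM : Coh.IsCoh M) (d : ℤ) :
    Coh.IsCoh ((twF d).obj M) :=
  ProjRegular.isCoh_twistBy hM d

theorem isCoh_unit : Coh.IsCoh (Coh.structureModule (Proj (CohB1.polyGrading n k))) := by
  haveI hP : IsNoetherian (Proj (CohB1.polyGrading n k)) := Proj16.isNoetherian_proj _
  obtain ⟨φ⟩ := unitIso (k := k) (n := n)
  exact SheafHomX.isCoh_of_iso φ.symm
    (CurveDeg.isCoh_of_isInvertible (isInvertible_twist (coords k n) coords_mem coords_cover 0))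

theorem exists_surj_sections (H : Syzygy.Hyp k n) {G : (Proj (CohB1.polyGrading n k)).Modules} (hG : Coh.IsCoh G)
    (hR : ∀ i : ℕ, 1 ≤ i → Subsingleton (Coh.HH PP ((twF (-(i : ℤ))).obj G) i)) :
    ∃ (b : ℕ) (ψ : (∐ fun _ : Fin b => OP) ⟶ G), Epi ψ ∧ b = Module.finrank k (Coh.HH PP G 0) := by
  haveI := H.fin G hG
  obtain ⟨b, ψ, -, hg, hb⟩ := Syzygy.exists_sigma_hom_bijective H.one G
  exact ⟨b, ψ, hg (ProjRegular.isGloballyGenerated coords_mem coords_cover coords_noetherian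
    (good_of_isCoh coords_mem hG) hR), hb⟩

/-- Splitting off a trivial summand. -/
theorem exists_summand (hn : 1 ≤ n) (H : Syzygy.Hyp k n) (HD : Dual k n) {G : (Proj (CohB1.polyGrading n k)).Modules}
    (hG : ACM k n G) (hR : ∀ i : ℕ, 1 ≤ i → Subsingleton (Coh.HH PP ((twF (-(i : ℤ))).obj G) i))
    (hnot : ¬ Subsingleton (Coh.HH PP ((twF (-((n : ℤ) + 1))).obj G) n)) :
    ∃ φ : G ⟶ OP, ∃ s : OP ⟶ G, s ≫ φ = 𝟙 _ := by
  obtain ⟨χ, hχ⟩ := HD _ (ProjRegular.isCoh_twistBy hG.coh _) hnot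
  obtain ⟨u⟩ := unitIso (k := k) (n := n)
  obtain ⟨t⟩ := twist_tensor_iso (coords k n) coords_mem coords_cover 0 (-((n : ℤ) + 1))
  let ω' : Twist.twist (CohB1.polyGrading n k) (-((n : ℤ) + 1)) ≅ (twF (-((n : ℤ) + 1))).obj OP :=
    (eqToIso (by rw [zero_add])) ≪≫ t.symm ≪≫ ((twF (-((n : ℤ) + 1))).mapIso u).symm
  obtain ⟨φ, hφ⟩ := (twF (k := k) (n := n) (-((n : ℤ) + 1))).map_surjective (χ ≫ ω'.hom)
  have hφ0 : φ ≠ 0 := by
    rintro rfl
    rw [Functor.map_zero] at hφ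
    exact hχ ((cancel_mono ω'.hom).1 (hφ.symm.trans zero_comp.symm))
  obtain ⟨b, ψ, hψ, -⟩ := exists_surj_sections H hG.coh hR
  haveI := hψ
  obtain ⟨a, ha⟩ : ∃ a, Sigma.ι (fun _ : Fin b => OP) a ≫ ψ ≫ φ ≠ 0 := by
    by_contra! hall
    apply hφ0
    refine (cancel_epi ψ).1 ((Sigma.hom_ext _ _ fun a => ?_).trans comp_zero.symm)
    rw [hall a, comp_zero]
  obtain ⟨c, hc⟩ := Syzygy.endo_eq_smul_id H.one (Sigma.ι (fun _ : Fin b => OP) a ≫ ψ ≫ φ)
  have hc0 : c ≠ 0 := fun h => ha (by rw [hc, h, zero_smul])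
  refine ⟨φ, c⁻¹ • (Sigma.ι (fun _ : Fin b => OP) a ≫ ψ), ?_⟩
  rw [Linear.smul_comp, Category.assoc, hc, smul_smul, inv_mul_cancel₀ hc0, one_smul]

/-- A regular module without intermediate cohomology is a sum of twists. -/
theorem exists_iso_sigma (hn : 1 ≤ n) (H : Syzygy.Hyp k n) (HD : Dual k n)
    (HN : ∀ e : ℕ, ¬ Subsingleton (Coh.HH PP (Ptw (e : ℤ)) 0)) :
    ∀ (N : ℕ) (G : (Proj (CohB1.polyGrading n k)).Modules), ACM k n G →
      (∀ i : ℕ, 1 ≤ i → Subsingleton (Coh.HH PP ((twF (-(i : ℤ))).obj G) i)) →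
      Module.finrank k (Coh.HH PP G 0) = N →
        ∃ (r : ℕ) (a : Fin r → ℤ), Nonempty (G ≅ ∐ fun j => Ptw (a j)) := by
  intro N
  induction N using Nat.strong_induction_on with
  | _ N ih =>
  intro G hG hR hN
  haveI hP : IsNoetherian (Proj (CohB1.polyGrading n k)) := Proj16.isNoetherian_proj _
  by_cases hz : IsZero G
  · refine ⟨0, Fin.elim0, ⟨hz.iso ?_⟩⟩
    exact (IsZero.iff_id_eq_zero _).2 (Sigma.hom_ext _ _ fun a => a.elim0)
  classical
  obtain ⟨e, he, hne⟩ : ∃ e : ℕ,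
      (∀ i : ℕ, 1 ≤ i → Subsingleton (Coh.HH PP ((twF (-(e : ℤ) - (i : ℤ))).obj G) i)) ∧
      ¬ Subsingleton (Coh.HH PP ((twF (-(e : ℤ) - ((n : ℤ) + 1))).obj G) n) := by
    by_contra! hall
    have hreg : ∀ (e : ℕ), ∀ i : ℕ, 1 ≤ i →
        Subsingleton (Coh.HH PP ((twF (-(e : ℤ) - (i : ℤ))).obj G) i) := by
      intro e
      induction e with
      | zero => intro i hi; simpa using hR i hi
      | succ e ihe =>
        intro i hi
        rcases lt_trichotomy i n with h | h | h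
        · exact hG.mid _ i hi h
        · subst h
          rw [show -((e + 1 : ℕ) : ℤ) - (i : ℤ) = -(e : ℤ) - ((i : ℤ) + 1) by push_cast; ring]
          exact hall e ihe
        · exact Syzygy.subsingleton_high' hG.coh _ i h
    obtain ⟨d₀, hd₀⟩ := hG.low
    obtain ⟨e, he⟩ : ∃ e : ℕ, -(e : ℤ) ≤ d₀ := ⟨(-d₀).toNat, by omega⟩
    have hc : Coh.IsCoh ((twF (-(e : ℤ))).obj G) := ProjRegular.isCoh_twistBy hG.coh _
    obtain ⟨b, ψ, hψ, hb⟩ := exists_surj_sections H hc fun i hi => by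
      obtain ⟨t⟩ := twF_twF_iso G (-(e : ℤ)) (-(i : ℤ)) (-(e : ℤ) - (i : ℤ)) (by ring)
      exact QCoh.subsingleton_HH_of_iso t.symm i (hreg e i hi)
    haveI := hd₀ (-(e : ℤ)) he
    rw [Module.finrank_zero_of_subsingleton] at hb
    subst hb
    haveI := hψ
    apply hz
    have hz' : IsZero ((twF (-(e : ℤ))).obj G) :=
      IsZero.of_epi_eq_zero ψ (Sigma.hom_ext _ _ fun i => i.elim0)
    obtain ⟨t1⟩ := twF_twF_iso G (-(e : ℤ)) (e : ℤ) 0 (by ring)
    obtain ⟨t2⟩ := twF_zero_iso (k := k) (n := n) G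
    exact IsZero.of_iso ((twF (e : ℤ)).map_isZero hz') (t1 ≪≫ t2).symm
  obtain ⟨φ, s, hs⟩ := exists_summand hn H HD (hG.twist (-(e : ℤ)))
    (fun i hi => by
      obtain ⟨t⟩ := twF_twF_iso G (-(e : ℤ)) (-(i : ℤ)) (-(e : ℤ) - (i : ℤ)) (by ring)
      exact QCoh.subsingleton_HH_of_iso t.symm i (he i hi))
    (fun hsub => hne (by
      obtain ⟨t⟩ := twF_twF_iso G (-(e : ℤ)) (-((n : ℤ) + 1)) (-(e : ℤ) - ((n : ℤ) + 1)) (by ring)
      exact QCoh.subsingleton_HH_of_iso t n hsub))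
  obtain ⟨sp⟩ := exists_split s φ hs
  obtain ⟨t1⟩ := twF_twF_iso G (-(e : ℤ)) (e : ℤ) 0 (by ring)
  obtain ⟨t2⟩ := twF_zero_iso (k := k) (n := n) G
  obtain ⟨u⟩ := unitIso (k := k) (n := n)
  obtain ⟨tt⟩ := twist_tensor_iso (coords k n) coords_mem coords_cover 0 (e : ℤ)
  haveI : PreservesBinaryBiproducts (twF (k := k) (n := n) (e : ℤ)) :=
    preservesBinaryBiproducts_of_preservesBiproducts _
  let K : (Proj (CohB1.polyGrading n k)).Modules := (twF (e : ℤ)).obj (kernel φ)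
  let eG : G ≅ Ptw (e : ℤ) ⊞ K :=
    (t1 ≪≫ t2).symm ≪≫ (twF (e : ℤ)).mapIso sp ≪≫ (twF (e : ℤ)).mapBiprod OP (kernel φ) ≪≫
      biprod.mapIso ((twF (e : ℤ)).mapIso u ≪≫ tt ≪≫ eqToIso (by rw [zero_add])) (Iso.refl _)
  have hr : (biprod.inr ≫ eG.inv) ≫ (eG.hom ≫ biprod.snd) = 𝟙 K := by simp
  have hl : (biprod.inl ≫ eG.inv) ≫ (eG.hom ≫ biprod.fst) = 𝟙 (Ptw (e : ℤ)) := by simp
  have hK : ACM k n K :=
    { coh := isCoh_twF (QCoh.isCoh_kernel (isCoh_twF hG.coh _) isCoh_unit φ) _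
      mid := fun d i h1 h2 => subsingleton_twF_retract _ _ hr d i (hG.mid d i h1 h2)
      low := hG.low.elim fun d₀ hd => ⟨d₀, fun d hd' => subsingleton_twF_retract _ _ hr d 0 (hd d hd')⟩ }
  haveI := H.fin G hG.coh
  haveI := H.fin K hK.coh
  have hlt : Module.finrank k (Coh.HH PP K 0) < N := by
    let f := (Canon.HHlin k (eG.hom ≫ biprod.snd) 0 : Coh.HH PP G 0 →ₗ[k] Coh.HH PP K 0)
    have hsurj : Function.Surjective f := fun x =>
      ⟨Canon.HHlin k (biprod.inr ≫ eG.inv) 0 x, by rw [PnDual.HHlin_comp, hr, PnDual.HHlin_id]⟩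
    refine hN ▸ lt_of_le_of_ne (LinearMap.finrank_le_finrank_of_surjective hsurj) fun heq => ?_
    have hinj : Function.Injective f :=
      (LinearMap.injective_iff_surjective_of_finrank_eq_finrank heq.symm).2 hsurj
    have h0 : Subsingleton (Coh.HH PP (Ptw (e : ℤ)) 0) := by
      refine subsingleton_of_forall_eq 0 fun x => ?_
      have hzero : Canon.HHlin k (biprod.inl ≫ eG.inv) 0 x = 0 := by
        apply hinj
        rw [map_zero]
        show Canon.HHlin k (eG.hom ≫ biprod.snd) 0 (Canon.HHlin k (biprod.inl ≫ eG.inv) 0 x) = 0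
        rw [PnDual.HHlin_comp, show (biprod.inl ≫ eG.inv) ≫ eG.hom ≫ biprod.snd = 0 by simp]
        show Sheaf.H.map ((QCoh.toAbFunctor PP).map 0) 0 x = 0
        rw [Functor.map_zero]
        show ((Sheaf.functorH _ 0).map 0).hom x = 0
        rw [Functor.map_zero]
        rfl
      have h2 := congrArg (Canon.HHlin k (eG.hom ≫ biprod.fst) 0) hzero
      rwa [PnDual.HHlin_comp, hl, PnDual.HHlin_id, map_zero] at h2
    exact HN e h0
  obtain ⟨r, a, ⟨α⟩⟩ := ih _ hlt K hK (fun i hi => subsingleton_twF_retract _ _ hr _ i (hR i hi)) rfl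
  refine ⟨r + 1, Fin.cases (e : ℤ) a, ?_⟩
  obtain ⟨β⟩ := exists_cons' (C := (Proj (CohB1.polyGrading n k)).Modules) (fun d : ℤ => Ptw d) (e : ℤ) a
  exact ⟨eG ≪≫ biprod.mapIso (Iso.refl _) α ≪≫ β⟩

end Groth.Agent.Horrocks
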