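import Groth.Agent.Lib.CurveSlope
import Groth.Agent.KFlatLib.Scheme.QCohTensor
import Groth.Agent.CurveCohLib.Skyscraper

/-!
Euler characteristics of tensor products with locally free modules on curves.
-/

set_option linter.style.haveILetI false
set_option linter.unusedSectionVars false
set_option backward.isDefEq.respectTransparency false
set_option backward.isDefEq.respectTransparency.types false

universe u

open CategoryTheory CategoryTheory.Limits AlgebraicGeometry TopologicalSpace Opposite MonoidalCategory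
open scoped TensorProduct

namespace Groth.Agent.CurveTensor

variable {X : Scheme.{u}}

theorem isIso_unit_of_isIso {Z : Scheme.{u}} (i : Z ⟶ X) [IsIso i] (M : X.Modules) :
    IsIso ((Scheme.Modules.restrictAdjunction i).unit.app M) := by
  refine Scheme.Modules.Hom.isIso_iff_isIso_app.2 fun U => ?_
  rw [Scheme.Modules.restrictAdjunction_unit_app_app]
  have he : i ''ᵁ i ⁻¹ᵁ U = U := by
    rw [Scheme.Hom.image_preimage_eq_opensRange_inf, Scheme.Hom.opensRange_of_isIso, top_inf_eq]
  rw [Subsingleton.elim (homOfLE (i.image_preimage_le U)) (eqToHom he)]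
  infer_instance

/-- `O ⊗ M ≅ M`. -/
noncomputable def structureTensorIso (M : X.Modules) :
    (DCoh.tensorBi.obj (Coh.structureModule X)).obj M ≅ M :=
  DCoh.shP.mapIso (λ_ (DCoh.toP.obj M)) ≪≫
    (@asIso _ _ _ _ (KFlatLib.counitShP X) (NatIso.isIso_of_isIso_app _)).app M

/-- `M ⊗ N ≅ N ⊗ M`. -/
noncomputable def commIso (M N : X.Modules) :
    (DCoh.tensorBi.obj M).obj N ≅ (DCoh.tensorBi.obj N).obj M :=
  DCoh.shP.mapIso (β_ (DCoh.toP.obj M) (DCoh.toP.obj N))

theorem finite_moduleSpecΓ_coproduct {R : CommRingCat.{u}} {ι : Type} [Fintype ι]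
    (G : ι → (Spec R).Modules)
    (h : ∀ i, Module.Finite R (moduleSpecΓFunctor.obj (G i))) :
    Module.Finite R (moduleSpecΓFunctor.obj (∐ G)) := by
  classical
  haveI := h
  haveI : (moduleSpecΓFunctor (R := R)).Additive := ⟨fun {M N f g} => rfl⟩
  suffices Module.Finite R (moduleSpecΓFunctor.obj (⨁ G)) from
    Module.Finite.equiv (moduleSpecΓFunctor.mapIso (biproduct.isoCoproduct G)).toLinearEquiv
  refine Module.Finite.of_surjective
    (∑ b, (moduleSpecΓFunctor.map (biproduct.ι G b)).hom.comp (LinearMap.proj b)) fun x =>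
      ⟨fun b => (moduleSpecΓFunctor.map (biproduct.π G b)).hom x, ?_⟩
  rw [LinearMap.sum_apply]
  refine Eq.trans ?_ (LinearMap.congr_fun (congrArg ModuleCat.Hom.hom
    ((congrArg moduleSpecΓFunctor.map (biproduct.total (f := G))).trans
      (moduleSpecΓFunctor.map_id _))) x)
  rw [Functor.map_sum, ModuleCat.hom_sum, LinearMap.sum_apply]
  refine Finset.sum_congr rfl fun b _ => ?_
  rw [Functor.map_comp]
  rfl

theorem isCoh_tensor {E F : X.Modules} (hE : FlatMod.IsFinLocFree E) (hF : Coh.IsCoh F) :
    Coh.IsCoh ((DCoh.tensorBi.obj E).obj F) := by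
  have hq := KFlatLib.isQCoh_tensor (QCoh.isQCoh_of_isFinLocFree hE) hF.1
  choose V hV n hx hn using fun x : X => QCoh.exists_affine_free hE x
  refine ⟨hq, QCoh.isFT_of_finite hq V (top_le_iff.1 fun x _ => Opens.mem_iSup.2 ⟨x, hx x⟩) hV fun x => ?_⟩
  let j := (hV x).fromSpec
  let e := Scheme.Modules.restrictFunctorIsoPullback j
  let φ : ((DCoh.tensorBi.obj E).obj F).restrict j ≅
      ∐ fun _ : Fin (n x) => F.restrict j :=
    e.app _ ≪≫ ((KFlatLib.pullTensorBiIso j).app E).app F ≪≫
      (DCoh.tensorBi.mapIso ((e.app E).symm ≪≫ (hn x).some)).app _ ≪≫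
      PreservesCoproduct.iso (DCoh.tensorBi.flip.obj _) _ ≪≫
      Sigma.mapIso fun _ => structureTensorIso _ ≪≫ (e.app F).symm
  haveI := QCoh.finite_sections hF (hV x)
  haveI hfin : Module.Finite Γ(X, V x) (moduleSpecΓFunctor.obj (F.restrict j)) :=
    Module.Finite.equiv (QCoh.chartEquiv (hV x) F)
  haveI := finite_moduleSpecΓ_coproduct (fun _ : Fin (n x) => F.restrict j) fun _ => hfin
  exact Module.Finite.equiv ((moduleSpecΓFunctor.mapIso φ).toLinearEquiv.symm.trans
    (QCoh.chartEquiv (hV x) _).symm)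

theorem shortExact_tensor {E : X.Modules} (hE : FlatMod.IsFinLocFree E) {A B C : X.Modules}
    (f : A ⟶ B) (g : B ⟶ C) (w : f ≫ g = 0) (hS : (ShortComplex.mk f g w).ShortExact) :
    (ShortComplex.mk ((DCoh.tensorBi.obj E).map f) ((DCoh.tensorBi.obj E).map g)
      (by rw [← Functor.map_comp, w, Functor.map_zero])).ShortExact := by
  let F := DCoh.tensorBi.obj E
  haveI : Epi g := hS.epi_g
  haveI : Mono f := hS.mono_f
  have hex : ((ShortComplex.mk f g w).map F).Exact :=
    hS.exact.map_of_epi_of_preservesCokernel F inferInstance inferInstance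
  haveI : Epi (F.map g) := inferInstance
  have hmono : Mono (F.map f) := by
    refine Preadditive.mono_of_isZero_kernel _ (KFlatLib.isZero_of_stalk _ fun x => ?_)
    haveI : Mono ((DerSch.stalkFunctor X x).map f) := inferInstance
    haveI : Mono ((DerSch.stalkFunctor X x).map (F.map f)) := by
      haveI := QCoh.free_stalk_of_isFinLocFree hE x
      haveI hflat : Module.Flat (X.presheaf.stalk x) ((DerSch.stalkFunctor X x).obj E) :=
        (inferInstance : Module.Flat (X.presheaf.stalk x) (E.presheaf.stalk x))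
      have hm : Mono ((tensorLeft ((DerSch.stalkFunctor X x).obj E)).map ((DerSch.stalkFunctor X x).map f)) :=
        (ModuleCat.mono_iff_injective _).2
          (Module.Flat.lTensor_preserves_injective_linearMap _ ((ModuleCat.mono_iff_injective _).1 inferInstance))
      exact ((MorphismProperty.monomorphisms (ModuleCat.{u} (X.presheaf.stalk x))).arrow_mk_iso_iff
        (((Functor.mapArrowFunctor _ _).mapIso (KFlatLib.stalkTensorLeftIso E x)).app (Arrow.mk f))).2 hm
    exact (isZero_kernel_of_mono ((DerSch.stalkFunctor X x).map (F.map f))).of_iso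
      (PreservesKernel.iso (DerSch.stalkFunctor X x) (F.map f))
  exact ShortComplex.ShortExact.mk' hex hmono inferInstance

section Torsion

variable (k : Type u) [Field k] [X.Over (Spec (CommRingCat.of k))]

theorem finrank_stalk_tensor {E F : X.Modules} (x : X) {n : ℕ}
    (b : Module.Basis (Fin n) (X.presheaf.stalk x) (E.presheaf.stalk x))
    (hfin : letI := CurveCohLib.stalkModuleK k F x; Module.Finite k (F.presheaf.stalk x)) :
    letI := CurveCohLib.stalkModuleK k F x
    letI := CurveCohLib.stalkModuleK k ((DCoh.tensorBi.obj E).obj F) x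
    Module.finrank k (((DCoh.tensorBi.obj E).obj F).presheaf.stalk x) =
      n * Module.finrank k (F.presheaf.stalk x) := by
  letI := CurveCohLib.stalkModuleK k F x
  letI := CurveCohLib.stalkModuleK k ((DCoh.tensorBi.obj E).obj F) x
  let T := (F.presheaf.stalk x : Type u)
  let M := (((DCoh.tensorBi.obj E).obj F).presheaf.stalk x : Type u)
  let e : M ≃ₗ[X.presheaf.stalk x] (Fin n → T) :=
    (KFlatLib.stalkTensorIso x E F).symm.toLinearEquiv ≪≫ₗ
      TensorProduct.congr b.equivFun (LinearEquiv.refl _ _) ≪≫ₗ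
      TensorProduct.comm (X.presheaf.stalk x) (Fin n → X.presheaf.stalk x) T ≪≫ₗ
      TensorProduct.piScalarRight (X.presheaf.stalk x) (X.presheaf.stalk x) T (Fin n)
  letI : Algebra k (X.presheaf.stalk x) := (Curv2.stalkMap k X x).toAlgebra
  haveI : IsScalarTower k (X.presheaf.stalk x) T := IsScalarTower.of_algebraMap_smul fun _ _ => rfl
  haveI : IsScalarTower k (X.presheaf.stalk x) M := IsScalarTower.of_algebraMap_smul fun _ _ => rfl
  haveI : Module.Finite k T := hfin
  show Module.finrank k M = n * Module.finrank k T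
  rw [(e.restrictScalars k).finrank_eq, Module.finrank_pi_fintype]
  simp

theorem exists_basis_stalk {E : X.Modules} {n : ℕ} (hE : FlatMod.IsFinLocFreeOfRank n E) (x : X) :
    Nonempty (Module.Basis (Fin n) (X.presheaf.stalk x) (E.presheaf.stalk x)) := by
  have hEf : FlatMod.IsFinLocFree E := fun y => let ⟨W, hy, he⟩ := hE y; ⟨W, n, hy, he⟩
  have hq := QCoh.isQCoh_of_isFinLocFree hEf
  haveI := QCoh.free_stalk_of_isFinLocFree hEf x
  haveI := QCoh.finite_stalk_of_isFT hq (QCoh.isFT_of_isFP (QCoh.isFP_of_isFinLocFree hEf)) x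
  obtain ⟨U, hxU, ⟨e⟩⟩ := hE x
  obtain ⟨_, ⟨V, hV, rfl⟩, hxV, hle⟩ := X.isBasis_affineOpens.exists_subset_of_mem_open hxU U.2
  obtain ⟨l⟩ := QCoh.free_sections hV hle e
  exact ⟨Module.finBasisOfFinrankEq _ _ (QCoh.finrank_stalk_of_freeChart hV hq l hxV)⟩

theorem support_tensor_subset {E F : X.Modules} :
    CohB1.support ((DCoh.tensorBi.obj E).obj F) ⊆ CohB1.support F := by
  intro x hx
  by_contra h
  haveI hs : Subsingleton (F.presheaf.stalk x) := not_not.1 h
  haveI hT : Subsingleton (TensorProduct (X.presheaf.stalk x) (E.presheaf.stalk x) (F.presheaf.stalk x)) :=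
    subsingleton_of_forall_eq 0 fun t => by
      induction t using TensorProduct.induction_on with
      | zero => rfl
      | tmul a b => rw [Subsingleton.elim b 0, TensorProduct.tmul_zero]
      | add a b ha hb => rw [ha, hb, add_zero]
  exact hx (@Equiv.subsingleton _ _ (KFlatLib.stalkTensorIso x E F).symm.toLinearEquiv.toEquiv hT)

variable [IsProper (X ↘ Spec (CommRingCat.of k))]

/-- Tensoring a module supported at closed points with a rank `n` bundle multiplies `χ` by `n`. -/
theorem euler_tensor_torsion {E F : X.Modules} {n : ℕ} (hE : FlatMod.IsFinLocFreeOfRank n E)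
    (hF : Coh.IsCoh F) (h0 : ∀ x ∈ CohB1.support F, IsClosed ({x} : Set X)) :
    Curv2.euler k X ((DCoh.tensorBi.obj E).obj F) = n * Curv2.euler k X F := by
  haveI := CurveCohLib.isNoetherian_of_proper (k := k) (X := X)
  have hEf : FlatMod.IsFinLocFree E := fun y => let ⟨W, hy, he⟩ := hE y; ⟨W, n, hy, he⟩
  have hfin := CurveCohLib.finite_of_closedPoints (QCoh.isClosed_support_of_isFT hF.1 hF.2) h0
  obtain ⟨h1, hk⟩ := CurveCohLib.euler_eq_sum_stalks (k := k) hF h0 hfin.toFinset (by simp)
  obtain ⟨h2, -⟩ := CurveCohLib.euler_eq_sum_stalks (k := k) (isCoh_tensor hEf hF)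
    (fun x hx => h0 x (support_tensor_subset hx)) hfin.toFinset
    (by simpa using (support_tensor_subset (E := E) (F := F)))
  rw [h1, h2, Finset.mul_sum]
  refine Finset.sum_congr rfl fun x hx => ?_
  obtain ⟨b⟩ := exists_basis_stalk hE x
  rw [finrank_stalk_tensor k x b (hk x hx)]
  push_cast
  ring

/-- `χ(E ⊗ F) = rk F · deg E + n · χ(F)` on an integral proper curve. -/
theorem euler_tensor [IsIntegral X] (hdim : topologicalKrullDim X = 1) {E : X.Modules} {n : ℕ}
    (hE : FlatMod.IsFinLocFreeOfRank n E) {F : X.Modules} (hF : Coh.IsCoh F) :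
    Curv2.euler k X ((DCoh.tensorBi.obj E).obj F) =
      (CurveBundle.rk F : ℤ) * Curv2.deg k X E n + n * Curv2.euler k X F := by
  haveI := CurveCohLib.isNoetherian_of_proper (k := k) (X := X)
  have hEf : FlatMod.IsFinLocFree E := fun y => let ⟨W, hy, he⟩ := hE y; ⟨W, n, hy, he⟩
  haveI := hF
  refine QCoh.devissage (fun M => Curv2.euler k X ((DCoh.tensorBi.obj E).obj M) =
      (CurveBundle.rk M : ℤ) * Curv2.deg k X E n + n * Curv2.euler k X M)
    ?_ ?_ Set.univ ?_ ?_ ?_ hF (Set.subset_univ _)
  · rintro M N ⟨e⟩ h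
    rw [← Euler.euler_congr k ((DCoh.tensorBi.obj E).mapIso e), ← Euler.euler_congr k e,
      ← CurveSlope.rk_congr e, h]
  · intro M h
    rw [CurveSlope.euler_eq_zero_of_isZero k h, CurveSlope.rk_eq_zero_of_isZero h,
      CurveSlope.euler_eq_zero_of_isZero k (Functor.map_isZero (DCoh.tensorBi.obj E) h)]
    simp
  · intro S hS h₁ h₂ h₃ _ p₁ p₃
    have ht := CurveBundle.euler_add' k _ _ _ (shortExact_tensor hEf S.f S.g S.zero hS)
      (isCoh_tensor hEf h₁) (isCoh_tensor hEf h₂) (isCoh_tensor hEf h₃)
    rw [ht, p₁, p₃, Euler.euler_add k hS h₁ h₂ h₃, CurveSlope.rk_add_coh k S.f S.g S.zero hS h₂]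
    push_cast
    ring
  · intro ξ _ _ Z i _ _ hr
    by_cases hξ : ξ = genericPoint X
    · subst hξ
      haveI : Surjective i := ⟨fun x => by
        have : x ∈ closure ({genericPoint X} : Set X) := (genericPoint_spec X).specializes trivial |>.mem_closure
        rwa [← hr] at this⟩
      haveI : IsIso i := isIso_of_isClosedImmersion_of_surjective i
      obtain ⟨e⟩ : Nonempty ((Coh.push i).obj (Coh.structureModule Z) ≅ Coh.structureModule X) :=
        ⟨(Coh.push i).mapIso (Scheme.Modules.restrictUnitIso i).symm ≪≫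
          (@asIso _ _ _ _ ((Scheme.Modules.restrictAdjunction i).unit.app (Coh.structureModule X))
            (isIso_unit_of_isIso i _)).symm⟩
      rw [← Euler.euler_congr k ((DCoh.tensorBi.obj E).mapIso e.symm), ← Euler.euler_congr k e.symm,
        ← CurveSlope.rk_congr e.symm, Euler.euler_congr k (KFlatLib.tensorUnitIso E),
        CurveBundle.rk_eq (InvEnd.isFinLocFreeOfRank_one CurveDeg.isInvertible_structureModule)]
      unfold Curv2.deg
      push_cast
      ring
    · have hc : IsClosed ({ξ} : Set X) := by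
        by_contra h
        exact hξ (CurveCohLib.eq_genericPoint_of_not_isClosed hdim h)
      have hsupp : ∀ x ∈ CohB1.support ((Coh.push i).obj (Coh.structureModule Z)), x = ξ := by
        intro x hx
        by_contra hne
        have hxr := QCoh.support_push_subset i QCoh.isQCoh_structureModule hx
        rw [hr, hc.closure_eq] at hxr
        exact hne hxr
      rw [euler_tensor_torsion k hE (QCoh.isCoh_push_structure i) fun x hx => hsupp x hx ▸ hc]
      letI := (CurveBundle.isField_stalk_generic (X := X)).toField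
      haveI : Subsingleton (((Coh.push i).obj (Coh.structureModule Z)).presheaf.stalk (genericPoint X)) :=
        not_not.1 fun h => hξ (hsupp _ h).symm
      have : CurveBundle.rk ((Coh.push i).obj (Coh.structureModule Z)) = 0 :=
        Module.finrank_zero_of_subsingleton
      rw [this]
      simp
  · intro S hS h₁ h₂ h₃ _ p₂ p₃
    have ht := CurveBundle.euler_add' k _ _ _ (shortExact_tensor hEf S.f S.g S.zero hS)
      (isCoh_tensor hEf h₁) (isCoh_tensor hEf h₂) (isCoh_tensor hEf h₃)
    have he := Euler.euler_add k hS h₁ h₂ h₃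
    have hk := CurveSlope.rk_add_coh k S.f S.g S.zero hS h₂
    have hk' : (CurveBundle.rk S.X₂ : ℤ) = (CurveBundle.rk S.X₁ : ℤ) + (CurveBundle.rk S.X₃ : ℤ) := by
      exact_mod_cast hk
    rw [p₂, p₃, he, hk'] at ht
    linarith

end Torsion

end Groth.Agent.CurveTensor
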