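import Groth.Agent.Lib.CurveStable
import Groth.Agent.Lib.CurveTensor
import Groth.Agent.Lib.CurveRR
import Groth.Agent.GeomConn5.Point
import Mathlib.AlgebraicGeometry.AlgClosed.Basic

/-!
Sections of a bundle on a curve vanishing at given points span a line subbundle of large degree.
-/

set_option linter.style.haveILetI false
set_option linter.unusedSectionVars false
set_option backward.isDefEq.respectTransparency false
set_option backward.isDefEq.respectTransparency.types false

universe u

open CategoryTheory CategoryTheory.Limits AlgebraicGeometry TopologicalSpace Opposite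

namespace Groth.Agent.CurveSection

open Groth.Agent.CurveBundle Groth.Agent.CurveSlope Groth.Agent.CurveStable

variable {X : Scheme.{u}} (k : Type u) [Field k] [X.Over (Spec (CommRingCat.of k))]

/-- At a closed point over an algebraically closed field the residue field is the base field. -/
theorem surjective_resMap [IsAlgClosed k] [LocallyOfFiniteType (X ↘ Spec (CommRingCat.of k))]
    {x : X} (hx : IsClosed ({x} : Set X)) : Function.Surjective (Curv2.resMap k X x) := by
  let e := residueFieldIsoBase (X ↘ Spec (CommRingCat.of k)) x hx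
  have h : e.inv = CommRingCat.ofHom (Curv2.resMap k X x) :=
    Spec.map_injective (by rw [SpecMap_residueFieldIsoBase_inv, GeomConn5.spec_resMap])
  exact fun y => ⟨e.hom y, by
    change (CommRingCat.ofHom (Curv2.resMap k X x)) (e.hom y) = y
    rw [← h]
    exact e.hom_inv_id_apply y⟩

theorem exists_stalkMap_sub_mem [IsAlgClosed k] [LocallyOfFiniteType (X ↘ Spec (CommRingCat.of k))]
    {x : X} (hx : IsClosed ({x} : Set X)) (a : X.presheaf.stalk x) :
    ∃ c : k, a - Curv2.stalkMap k X x c ∈ IsLocalRing.maximalIdeal (X.presheaf.stalk x) := by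
  obtain ⟨c, hc⟩ := surjective_resMap k hx (X.residue x a)
  exact ⟨c, Ideal.Quotient.eq.1 hc.symm⟩

/-- A curve has as many closed points as one likes. -/
theorem exists_closed_finset [IsIntegral X] [IsProper (X ↘ Spec (CommRingCat.of k))]
    (hdim : topologicalKrullDim X = 1) (n : ℕ) :
    ∃ S : Finset X, S.card = n ∧ ∀ x ∈ S, IsClosed ({x} : Set X) := by
  haveI : JacobsonSpace X :=
    LocallyOfFiniteType.jacobsonSpace (X ↘ Spec (CommRingCat.of k))
  have hinf : (closedPoints X).Infinite := fun hfin => by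
    have hc : IsClosed (closedPoints X) := by
      have := Set.Finite.isClosed_biUnion hfin (f := fun y => ({y} : Set X)) fun y hy => hy
      rwa [Set.biUnion_of_singleton] at this
    have hall : closedPoints X = Set.univ := by
      by_contra hne
      obtain ⟨x, hx, hx'⟩ := nonempty_inter_closedPoints
        (Set.nonempty_compl.2 hne) hc.isOpen_compl.isLocallyClosed
      exact hx hx'
    have hη : genericPoint X ∈ closedPoints X := hall ▸ Set.mem_univ _
    haveI : Subsingleton X := by
      refine ⟨fun a b => ?_⟩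
      have h : ∀ y : X, y = genericPoint X := fun y => by
        have := ((genericPoint_spec X).specializes (Set.mem_univ y)).mem_closed hη (Set.mem_singleton _)
        exact this
      rw [h a, h b]
    haveI : Subsingleton (IrreducibleCloseds X) := ⟨fun a b => IrreducibleCloseds.ext <| by
      obtain ⟨p, hp⟩ := a.isIrreducible.nonempty
      obtain ⟨q, hq⟩ := b.isIrreducible.nonempty
      ext y
      exact ⟨fun _ => Subsingleton.elim q y ▸ hq, fun _ => Subsingleton.elim p y ▸ hp⟩⟩
    have : topologicalKrullDim X ≤ 0 := Order.krullDim_nonpos_of_subsingleton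
    rw [hdim] at this
    exact absurd this (by norm_num)
  obtain ⟨S, hS, hcard⟩ := hinf.exists_subset_card_eq n
  exact ⟨S, hcard, fun x hx => hS hx⟩

variable [IsIntegral X] [IsProper (X ↘ Spec (CommRingCat.of k))]
  [Smooth (X ↘ Spec (CommRingCat.of k))]

/-- The quotient by a subsheaf of maximal degree among those of its rank containing it is
locally free. -/
theorem isFinLocFree_of_max_over (hdim : topologicalKrullDim X ≤ 1) {I F Q : X.Modules} (j : I ⟶ F)
    (p : F ⟶ Q) (w : j ≫ p = 0) (hS : (ShortComplex.mk j p w).ShortExact)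
    (hI : Coh.IsCoh I) (hF : FlatMod.IsFinLocFree F) (hQ : Coh.IsCoh Q)
    (hmax : ∀ (G : X.Modules) (g : G ⟶ F), Mono g → FlatMod.IsFinLocFree G → rk G = rk I →
      (∃ l : I ⟶ G, l ≫ g = j) → dg k G ≤ dg k I) : FlatMod.IsFinLocFree Q := by
  haveI := isLocallyNoetherian' k (X := X)
  have hFc := CurveDeg.isCoh_of_isFinLocFree hF
  by_contra hne
  obtain ⟨Q', q, hq, hQ', hrk, hdg⟩ := exists_quot_dg_lt k hdim hQ hne
  haveI : Epi p := hS.epi_g
  haveI := hq
  haveI : Epi (p ≫ q) := epi_comp p q
  have hK := QCoh.isCoh_kernel hFc hQ' (p ≫ q)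
  have h1 := rk_add_coh k _ _ _ (shortExact_kernel_of_epi (p ≫ q)) hFc
  have h2 := rk_add_coh k j p w hS hFc
  have h3 := dg_add k _ _ _ (shortExact_kernel_of_epi (p ≫ q)) hK hFc hQ'
  have h4 := dg_add k j p w hS hI hFc hQ
  have h5 := hmax _ (kernel.ι (p ≫ q)) inferInstance
    (isFinLocFree_of_mono k hdim hK (kernel.ι (p ≫ q)) hF) (by omega)
    ⟨kernel.lift _ j (by rw [← Category.assoc, w, zero_comp]), kernel.lift_ι _ _ _⟩
  omega

theorem homOfTop_stalk_eq_smul {P : X.Modules} (t : Γ(P, ⊤)) (x : X)
    (y : (DerSch.stalkFunctor X x).obj (Coh.structureModule X)) :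
    ∃ a : X.presheaf.stalk x,
      (DerSch.stalkFunctor X x).map (QCoh.homOfTop t) y = a • P.presheaf.germ ⊤ x trivial t := by
  obtain ⟨W, hxW, s, rfl⟩ := TopCat.Presheaf.exists_germ_eq (Coh.structureModule X).presheaf y
  refine ⟨X.presheaf.germ W x hxW s, ?_⟩
  refine (TopCat.Presheaf.stalkFunctor_map_germ_apply W x hxW
    ((Scheme.Modules.toPresheaf X).map (QCoh.homOfTop t)) s).trans ?_
  refine (congrArg (P.presheaf.germ W x hxW) (QCoh.homOfTop_app t s)).trans ?_
  refine (QCoh.germ_smul' P hxW s _).trans ?_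
  exact congrArg (X.presheaf.germ W x hxW s • ·) (P.presheaf.germ_res_apply (homOfLE le_top) x hxW t)

include k in
theorem mono_of_ne_zero (hdim : topologicalKrullDim X ≤ 1) {E F : X.Modules}
    (hE : FlatMod.IsFinLocFree E) (hrk : rk E = 1) (hF : FlatMod.IsFinLocFree F)
    (f : E ⟶ F) (hf : f ≠ 0) : Mono f := by
  haveI := isLocallyNoetherian' k (X := X)
  obtain ⟨I, π, j, -, -, -, hK, -, h1, -, h2, -⟩ := exists_decomp k hdim hE hF f
  exact Preadditive.mono_of_isZero_kernel f (isZero_of_rk_zero hK (by have := h2 hf; omega))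

/-- Many sections give one vanishing at all of the given points, hence a line subsheaf whose
degree is at least their number. -/
theorem exists_line_sub [IsAlgClosed k] (hdim : topologicalKrullDim X = 1) {G : X.Modules} {r : ℕ}
    (hG : FlatMod.IsFinLocFreeOfRank r G) (S : Finset X) (hS : ∀ x ∈ S, IsClosed ({x} : Set X))
    (h : r * S.card < Module.finrank k (Coh.HH X G 0)) :
    ∃ (M : X.Modules) (i : M ⟶ G), Mono i ∧ FlatMod.IsFinLocFreeOfRank 1 M ∧
      (S.card : ℤ) ≤ dg k M := by
  classical
  haveI := CurveCohLib.isNoetherian_of_proper (k := k) (X := X)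
  have hGf := isFinLocFree_of_rank hG
  have hGc := coh_of_free k hGf
  haveI := S0002.result k X G hGc 0
  letI instStalk := fun x : X => CurveCohLib.stalkModuleK k G x
  let N : (x : X) → Submodule (X.presheaf.stalk x) (G.presheaf.stalk x) := fun x =>
    IsLocalRing.maximalIdeal (X.presheaf.stalk x) • ⊤
  letI instQuot : ∀ x : X, Module k (G.presheaf.stalk x ⧸ N x) := fun x =>
    Module.compHom _ (Curv2.stalkMap k X x)
  let b := fun x : X => (CurveTensor.exists_basis_stalk hG x).some
  let L : (x : X) → (Fin r → k) →ₗ[k] (G.presheaf.stalk x ⧸ N x) := fun x =>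
    { toFun := fun c => Submodule.Quotient.mk (∑ i, Curv2.stalkMap k X x (c i) • b x i)
      map_add' := fun c d => by
        simp only [Pi.add_apply, map_add, add_smul, Finset.sum_add_distrib, Submodule.Quotient.mk_add]
      map_smul' := fun a c => by
        show Submodule.Quotient.mk (p := N x) _ = Curv2.stalkMap k X x a • Submodule.Quotient.mk (p := N x) _
        rw [← Submodule.Quotient.mk_smul, Finset.smul_sum]
        simp only [Pi.smul_apply, smul_eq_mul, map_mul, mul_smul] }
  have hL : ∀ x ∈ S, Function.Surjective (L x) := by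
    intro x hx q
    obtain ⟨g, rfl⟩ := Submodule.Quotient.mk_surjective _ q
    choose c hc using fun a => exists_stalkMap_sub_mem k (hS x hx) a
    refine ⟨fun i => c ((b x).repr g i), ((Submodule.Quotient.eq (N x)).2 ?_).symm⟩
    nth_rewrite 1 [← (b x).sum_repr g]
    rw [← Finset.sum_sub_distrib]
    refine Submodule.sum_mem _ fun i _ => ?_
    rw [← sub_smul]
    exact Submodule.smul_mem_smul (hc _) Submodule.mem_top
  let ψ : Coh.HH X G 0 →ₗ[k] (x : S) → G.presheaf.stalk x.1 ⧸ N x.1 :=
    LinearMap.pi fun x =>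
      { toFun := fun t => Submodule.Quotient.mk (G.presheaf.germ ⊤ x.1 trivial
          (Sheaf.H.equiv₀ (Coh.toAb G) isTerminalTop t : Γ(G, ⊤)))
        map_add' := fun s t => (congrArg (Submodule.Quotient.mk (p := N x.1))
          ((congrArg (G.presheaf.germ ⊤ x.1 trivial) (map_add (Sheaf.H.equiv₀ (Coh.toAb G) isTerminalTop) s t)).trans
            (map_add _ _ _))).trans (Submodule.Quotient.mk_add _)
        map_smul' := fun a t => (congrArg (Submodule.Quotient.mk (p := N x.1))
          (CurveCohLib.germ_h0Equiv_smul G a t x.1)).trans rfl }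
  obtain ⟨t, ht, ht0⟩ : ∃ t, ψ t = 0 ∧ t ≠ 0 := by
    by_contra hc
    push Not at hc
    haveI : ∀ x : S, Module.Finite k (G.presheaf.stalk x.1 ⧸ N x.1) := fun x =>
      Module.Finite.of_surjective (L x.1) (hL x.1 x.2)
    have h1 := LinearMap.finrank_le_finrank_of_injective
      (f := ψ) ((injective_iff_map_eq_zero ψ).2 hc)
    rw [Module.finrank_pi_fintype] at h1
    have h2 : (∑ x : S, Module.finrank k (G.presheaf.stalk x.1 ⧸ N x.1)) ≤ r * S.card := by
      refine (Finset.sum_le_card_nsmul _ _ r fun x _ => ?_).trans (by simp [mul_comm])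
      exact (LinearMap.finrank_le_finrank_of_surjective (hL x.1 x.2)).trans
        (by rw [Module.finrank_fin_fun])
    omega
  let s : Γ(G, ⊤) := Sheaf.H.equiv₀ (Coh.toAb G) isTerminalTop t
  let φ : Coh.structureModule X ⟶ G := QCoh.homOfTop s
  have hO1 : FlatMod.IsFinLocFreeOfRank 1 (Coh.structureModule X) := by
    exact InvEnd.isFinLocFreeOfRank_one (CurveDeg.isInvertible_structureModule (X := X))
  have hOf := isFinLocFree_of_rank hO1
  have hφ : φ ≠ 0 := fun h0 => ht0 (by
    have h1 := congrArg (fun f => Scheme.Modules.Hom.app f ⊤ (1 : Γ(X, ⊤))) h0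
    rw [QCoh.homOfTop_app, one_smul] at h1
    refine (Sheaf.H.equiv₀ (Coh.toAb G) isTerminalTop).injective ((Eq.trans ?_ h1).trans (map_zero _).symm)
    exact (ConcreteCategory.congr_hom (G.presheaf.map_id _) _).symm)
  haveI hφm : Mono φ := mono_of_ne_zero k hdim.le hOf (rk_eq hO1) hGf φ hφ
  obtain ⟨d, ⟨M, i, hi, hM, hrM, ⟨l, hl⟩, rfl⟩, hd⟩ := Int.exists_greatest_of_bdd
    (P := fun d => ∃ (M : X.Modules) (i : M ⟶ G), Mono i ∧ FlatMod.IsFinLocFree M ∧ rk M = 1 ∧
      (∃ l : Coh.structureModule X ⟶ M, l ≫ i = φ) ∧ dg k M = d)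
    ⟨(Module.finrank k (Coh.HH X G 0) : ℤ) - ((1 : ℕ) : ℤ) * Curv2.euler k X (Coh.structureModule X),
      fun d ⟨M, i, hi, hM, hr, _, hd⟩ => by
        haveI := hi
        rw [← hd, ← hr]
        exact dg_le_h0 k hdim.le i (coh_of_free k hM) hGc⟩
    ⟨_, _, φ, hφm, hOf, rk_eq hO1, ⟨𝟙 _, Category.id_comp _⟩, rfl⟩
  haveI := hi
  have hMc := coh_of_free k hM
  have hOc := coh_of_free k hOf
  have hQc : Coh.IsCoh (cokernel i) := QCoh.isCoh_cokernel hMc.1 hGc i
  have hQ := isFinLocFree_of_max_over k hdim.le i (cokernel.π i) _ (shortExact_cokernel_of_mono i)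
    hMc hGf hQc fun M' g hg hM' hr ⟨l', hl'⟩ =>
      hd _ ⟨M', g, hg, hM', hr.trans hrM, ⟨l ≫ l', by rw [Category.assoc, hl', hl]⟩, rfl⟩
  refine ⟨M, i, hi, hrM ▸ isFinLocFreeOfRank_rk hM, ?_⟩
  haveI : Mono l := by
    haveI : Mono (l ≫ i) := hl.symm ▸ hφm
    exact mono_of_mono l i
  have hTc : Coh.IsCoh (cokernel l) := QCoh.isCoh_cokernel hOc.1 hMc l
  have hT0 : rk (cokernel l) = 0 := by
    have := rk_add_coh k _ _ _ (shortExact_cokernel_of_mono l) hMc
    rw [rk_eq hO1] at this
    omega
  have hTcl : ∀ x ∈ CohB1.support (cokernel l), IsClosed ({x} : Set X) := fun x hx => by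
    by_contra hxc
    obtain rfl := CurveCohLib.eq_genericPoint_of_not_isClosed hdim hxc
    letI := (isField_stalk_generic (X := X)).toField
    haveI := finite_stalk_of_coh hTc (genericPoint X)
    exact hx (Module.finrank_zero_iff.1 hT0)
  have hsub : ∀ x ∈ S, x ∈ CohB1.support (cokernel l) := by
    intro x hx hsing
    haveI : Subsingleton ((cokernel l).presheaf.stalk x) := hsing
    haveI : Subsingleton ((DerSch.stalkFunctor X x).obj (cokernel l)) := hsing
    let F := DerSch.stalkFunctor X x
    haveI : Epi (F.map l) := Preadditive.epi_of_isZero_cokernel _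
      ((ModuleCat.isZero_of_subsingleton (F.obj (cokernel l))).of_iso (PreservesCokernel.iso F l).symm)
    obtain ⟨bO⟩ := CurveTensor.exists_basis_stalk hO1 x
    haveI := isPrincipalIdealRing_stalk k hdim.le x
    obtain ⟨π, hπ⟩ := (IsPrincipalIdealRing.principal (IsLocalRing.maximalIdeal (X.presheaf.stalk x))).principal
    obtain ⟨a, ha⟩ := homOfTop_stalk_eq_smul s x (bO 0)
    have hmem : G.presheaf.germ ⊤ x trivial s ∈ N x :=
      (Submodule.Quotient.mk_eq_zero _).1 (congrFun ht ⟨x, hx⟩)
    obtain ⟨g, -, hg⟩ : ∃ g ∈ (⊤ : Submodule (X.presheaf.stalk x) (G.presheaf.stalk x)),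
        π • g = G.presheaf.germ ⊤ x trivial s := by
      have hmem' : G.presheaf.germ ⊤ x trivial s ∈
          Ideal.span {π} • (⊤ : Submodule (X.presheaf.stalk x) (G.presheaf.stalk x)) := by
        rw [show Ideal.span {π} = IsLocalRing.maximalIdeal (X.presheaf.stalk x) from hπ.symm]
        exact hmem
      rw [Submodule.ideal_span_singleton_smul, Submodule.mem_smul_pointwise_iff_exists] at hmem'
      obtain ⟨g, hg1, hg2⟩ := hmem'
      exact ⟨g, hg1, hg2⟩
    have hinj : Function.Injective (F.map φ) := stalkMap_injective φ x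
    have hu : F.map φ (bO 0) = π • (a • g) := by
      rw [ha, ← hg, smul_comm]
    have hπ0 : π ≠ 0 := by
      rintro rfl
      rw [zero_smul] at hu
      exact bO.ne_zero 0 (hinj (hu.trans (map_zero (F.map φ).hom).symm))
    obtain ⟨m, hm⟩ : ∃ m, F.map i m = a • g := by
      have hex := ((shortExact_cokernel_of_mono i).map_of_exact F).exact
      refine (ShortComplex.moduleCat_exact_iff _).1 hex (a • g) ?_
      show F.map (cokernel.π i) (a • g) = 0
      haveI : Module.Free (X.presheaf.stalk x) (F.obj (cokernel i)) := QCoh.free_stalk_of_isFinLocFree hQ x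
      let bQ := Module.Free.chooseBasis (X.presheaf.stalk x) (F.obj (cokernel i))
      have h0 : π • F.map (cokernel.π i) (a • g) = 0 := by
        rw [← map_smul, ← hu]
        have hcomp : φ ≫ cokernel.π i = 0 := by rw [← hl, Category.assoc, cokernel.condition, comp_zero]
        have h1 := congrArg (fun f => F.map f (bO 0)) hcomp
        simp only [Functor.map_comp, Functor.map_zero] at h1
        exact h1
      refine bQ.repr.injective (Finsupp.ext fun j => ?_)
      have h2 := congrArg (fun y => bQ.repr y j) h0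
      simp only [map_smul, map_zero, Finsupp.smul_apply, smul_eq_mul, Finsupp.zero_apply] at h2 ⊢
      exact (mul_eq_zero.1 h2).resolve_left hπ0
    obtain ⟨e, he⟩ := (ModuleCat.epi_iff_surjective (F.map l)).1 inferInstance m
    have hpe : bO 0 = π • e := hinj (by
      rw [hu, map_smul]
      congr 1
      rw [← hm, ← he, ← hl, Functor.map_comp]
      rfl)
    have h1 := congrArg (fun y => bO.repr y 0) hpe
    simp at h1
    have : IsUnit π := IsUnit.of_mul_eq_one _ h1.symm
    exact (IsLocalRing.mem_maximalIdeal π).1 (hπ ▸ Submodule.mem_span_singleton_self π) this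
  have hfin : (CohB1.support (cokernel l)).Finite :=
    CurveCohLib.finite_of_closedPoints (QCoh.isClosed_support_of_isFT hTc.1 hTc.2) hTcl
  obtain ⟨hχ, hk⟩ := CurveCohLib.euler_eq_sum_stalks (k := k) hTc hTcl hfin.toFinset (by simp)
  have hcard : (S.card : ℤ) ≤ Curv2.euler k X (cokernel l) := by
    rw [hχ]
    refine le_trans ?_ (Finset.sum_le_sum_of_subset_of_nonneg (s := S)
      (fun x hx => hfin.mem_toFinset.2 (hsub x hx)) fun x _ _ => Int.natCast_nonneg _)
    rw [Finset.card_eq_sum_ones, Nat.cast_sum]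
    refine Finset.sum_le_sum fun x hx => ?_
    haveI : Nontrivial ((cokernel l).presheaf.stalk x) := not_subsingleton_iff_nontrivial.1 (hsub x hx)
    letI := CurveCohLib.stalkModuleK k (cokernel l) x
    haveI := hk x (hfin.mem_toFinset.2 (hsub x hx))
    exact_mod_cast Module.finrank_pos
  have := euler_add' k _ _ _ (shortExact_cokernel_of_mono l) hOc hMc hTc
  unfold dg
  rw [hrM]
  push_cast
  linarith

end Groth.Agent.CurveSection
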