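import Groth.Agent.S0002
import Groth.Agent.QCoh.Bound
import Groth.Agent.QCoh.LocFree
import Groth.Agent.QCoh.DevissageP
import Groth.Agent.QCoh.DevissageTheta
import Groth.Agent.PnCoh.Finite.HHLin
import Groth.Agent.Lib.InvEnd
import Groth.Prelude.Def_Curv2

/-!
Euler characteristics of coherent modules on proper schemes over a field: additivity,
modules with zero-dimensional support, and maps of invertible modules on a curve.
-/

set_option linter.style.haveILetI false
set_option linter.unusedSectionVars false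
set_option backward.isDefEq.respectTransparency false
set_option backward.isDefEq.respectTransparency.types false

universe u

open CategoryTheory CategoryTheory.Limits AlgebraicGeometry TopologicalSpace Opposite
open CategoryTheory.Abelian
open Groth.Agent.PnCoh.Finite (mapLin deltaLin)

namespace Groth.Agent.Euler

variable {X : Scheme.{u}}

section Field

variable (k : Type u) [Field k] [X.Over (Spec (CommRingCat.of k))]

theorem euler_eq_sum (F : X.Modules) (d : ℕ) (h : ∀ i, d ≤ i → Subsingleton (Coh.HH X F i)) :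
    Curv2.euler k X F =
      ∑ i ∈ Finset.range d, (-1 : ℤ) ^ i * (Module.finrank k (Coh.HH X F i) : ℤ) := by
  unfold Curv2.euler
  refine finsum_eq_sum_of_support_subset _ fun i hi => ?_
  simp only [Function.mem_support] at hi
  by_contra hni
  rw [Finset.coe_range, Set.mem_Iio, not_lt] at hni
  haveI := h i hni
  exact hi (by rw [Module.finrank_zero_of_subsingleton]; simp)

variable {S : ShortComplex X.Modules}

theorem range_mapLin_f (hS : S.ShortExact) (n : ℕ) :
    LinearMap.range (mapLin k S.f n) = LinearMap.ker (mapLin k S.g n) := by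
  have hT := QCoh.toAb_shortExact hS
  refine le_antisymm ?_ (fun x hx => Ext.covariant_sequence_exact₂ _ hT x hx)
  rintro _ ⟨y, rfl⟩
  refine LinearMap.mem_ker.2 ?_
  show Sheaf.H.map _ n (Sheaf.H.map _ n y) = 0
  refine (Groth.Agent.PnCoh.Finite.map_map (Y := X.toPresheafedSpace.carrier)
    (((QCoh.toAbFunctor X).map_comp S.f S.g).symm.trans
      (by rw [S.zero, Functor.map_zero])) n y).trans ?_
  show ((Sheaf.functorH _ n).map 0).hom y = 0
  rw [Functor.map_zero]
  rfl

theorem range_mapLin_g (hS : S.ShortExact) (n : ℕ) :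
    LinearMap.range (mapLin k S.g n) = LinearMap.ker (deltaLin k hS n) := by
  refine le_antisymm ?_ fun x hx =>
    Groth.Agent.PnCoh.Finite.exists_of_deltaLin_eq_zero k hS n (LinearMap.mem_ker.1 hx)
  rintro _ ⟨y, rfl⟩
  exact LinearMap.mem_ker.2 ((QCoh.Ab.connecting_eq_zero_iff
    (X := X.toPresheafedSpace.carrier) (QCoh.toAb_shortExact hS) n _).2 ⟨y, rfl⟩)

theorem range_deltaLin (hS : S.ShortExact) (n : ℕ) :
    LinearMap.range (deltaLin k hS n) = LinearMap.ker (mapLin k S.f (n + 1)) := by
  have hT := QCoh.toAb_shortExact hS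
  refine le_antisymm ?_ fun x hx => ?_
  · rintro _ ⟨y, rfl⟩
    refine LinearMap.mem_ker.2 ?_
    show ((y.comp hT.extClass rfl).comp (Ext.mk₀ ((QCoh.toAbFunctor X).map S.f)) (add_zero _)) = 0
    rw [Ext.comp_assoc_of_third_deg_zero]
    exact (congrArg (fun z => Ext.comp y z _) hT.extClass_comp).trans (Ext.comp_zero _ _ _ _ _)
  · exact Ext.covariant_sequence_exact₁ _ hT x hx rfl

theorem ker_mapLin_f_zero (hS : S.ShortExact) : LinearMap.ker (mapLin k S.f 0) = ⊥ := by
  rw [LinearMap.ker_eq_bot]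
  intro x y hxy
  apply (Sheaf.H.equiv₀ (Coh.toAb S.X₁) isTerminalTop).injective
  refine QCoh.app_f_injective hS ⊤ ?_
  have hx := Sheaf.H.equiv₀_naturality isTerminalTop ((QCoh.toAbFunctor X).map S.f) x
  have hy := Sheaf.H.equiv₀_naturality isTerminalTop ((QCoh.toAbFunctor X).map S.f) y
  exact hx.trans ((congrArg (Sheaf.H.equiv₀ (Coh.toAb S.X₂) isTerminalTop) hxy).trans hy.symm)

variable [IsProper (X ↘ Spec (CommRingCat.of k))]

include k in
theorem exists_bound : ∃ d : ℕ, ∀ M : X.Modules, Coh.IsQCoh M → ∀ p, d ≤ p →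
    Subsingleton (Coh.HH X M p) := by
  haveI : CompactSpace X := QuasiCompact.compactSpace_of_compactSpace (X ↘ Spec (CommRingCat.of k))
  haveI : X.IsSeparated := ⟨by
    rw [show terminal.from X = (X ↘ Spec (CommRingCat.of k)) ≫ terminal.from _ from
      terminal.hom_ext _ _]
    infer_instance⟩
  exact QCoh.exists_HH_bound

theorem euler_add (hS : S.ShortExact)
    (h₁ : Coh.IsCoh S.X₁) (h₂ : Coh.IsCoh S.X₂) (h₃ : Coh.IsCoh S.X₃) :
    Curv2.euler k X S.X₂ = Curv2.euler k X S.X₁ + Curv2.euler k X S.X₃ := by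
  haveI := fun n => S0002.result k X S.X₁ h₁ n
  haveI := fun n => S0002.result k X S.X₂ h₂ n
  haveI := fun n => S0002.result k X S.X₃ h₃ n
  obtain ⟨d, hd⟩ := exists_bound (X := X) k
  rw [euler_eq_sum k S.X₁ (d + 1) fun i hi => hd _ h₁.1 i (by omega),
    euler_eq_sum k S.X₂ (d + 1) fun i hi => hd _ h₂.1 i (by omega),
    euler_eq_sum k S.X₃ (d + 1) fun i hi => hd _ h₃.1 i (by omega), ← Finset.sum_add_distrib]
  let δ : ℕ → ℤ := fun i => Module.finrank k (LinearMap.range (deltaLin k hS i))
  let δ' : ℕ → ℤ := fun i => Module.finrank k (LinearMap.ker (mapLin k S.f i))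
  have key : ∀ i, (Module.finrank k (Coh.HH X S.X₁ i) : ℤ) + Module.finrank k (Coh.HH X S.X₃ i) =
      Module.finrank k (Coh.HH X S.X₂ i) + δ' i + δ i := by
    intro i
    have e1 := (mapLin k S.f i).finrank_range_add_finrank_ker
    have e2 := (mapLin k S.g i).finrank_range_add_finrank_ker
    have e3 := (deltaLin k hS i).finrank_range_add_finrank_ker
    rw [range_mapLin_f k hS i] at e1
    rw [range_mapLin_g k hS i] at e2
    simp only [δ, δ']
    omega
  have hsucc : ∀ i, δ' (i + 1) = δ i := fun i => by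
    simp only [δ, δ']; rw [range_deltaLin k hS i]
  have h0 : δ' 0 = 0 := by simp only [δ']; rw [ker_mapLin_f_zero k hS, finrank_bot]; rfl
  have hlast : δ d = 0 := by
    simp only [δ]
    haveI := hd _ h₁.1 (d + 1) (by omega)
    rw [Module.finrank_zero_of_subsingleton]
    rfl
  have tel : ∀ n, ∑ i ∈ Finset.range (n + 1), (-1 : ℤ) ^ i * (δ' i + δ i) = (-1) ^ n * δ n := by
    intro n
    induction n with
    | zero => simp [h0]
    | succ m ih => rw [Finset.sum_range_succ, ih, hsucc]; ring
  have hsum := tel d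
  rw [hlast, mul_zero] at hsum
  rw [← sub_eq_zero, ← Finset.sum_sub_distrib, ← neg_eq_zero, ← Finset.sum_neg_distrib]
  refine Eq.trans (Finset.sum_congr rfl fun i _ => ?_) hsum
  linear_combination ((-1 : ℤ) ^ i) * key i

theorem euler_congr {M N : X.Modules} (e : M ≅ N) :
    Curv2.euler k X M = Curv2.euler k X N := by
  unfold Curv2.euler
  refine finsum_congr fun i => ?_
  congr 2
  refine LinearEquiv.finrank_eq (LinearEquiv.ofBijective (mapLin k e.hom i) ?_)
  have h : ∀ {P Q : X.Modules} (e : P ≅ Q) (y : Coh.HH X Q i),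
      mapLin k e.hom i (mapLin k e.inv i y) = y := fun e y =>
    (Groth.Agent.PnCoh.Finite.map_map (Y := X.toPresheafedSpace.carrier)
      (((QCoh.toAbFunctor X).map_comp e.inv e.hom).symm.trans
        (by rw [e.inv_hom_id, CategoryTheory.Functor.map_id]; rfl)) i y).trans (Sheaf.H.map_id_apply y)
  exact Function.bijective_iff_has_inverse.mpr ⟨mapLin k e.inv i, fun x => h e.symm x, h e⟩

end Field

/-- Global sections detect morphisms out of `F`: an intrinsic form of global generation. -/
def GG (F : X.Modules) : Prop :=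
  ∀ (T : X.Modules) (g : F ⟶ T), (∀ s : Coh.structureModule X ⟶ F, s ≫ g = 0) → g = 0

theorem GG.isGloballyGenerated {F : X.Modules} (h : GG F) : Curv2.IsGloballyGenerated F := by
  refine ⟨Coh.structureModule X ⟶ F,
    Sigma.desc fun s : Coh.structureModule X ⟶ F => s, Preadditive.epi_of_cancel_zero _ fun g hg => ?_⟩
  refine h _ g fun s => ?_
  have := congrArg (fun φ => Sigma.ι (fun _ : (Coh.structureModule X ⟶ F) => Coh.structureModule X) s ≫ φ) hg
  simpa using this

/-- Vanishing of higher cohomology, together with generation by global sections. -/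
def Good (F : X.Modules) : Prop :=
  (∀ i, 1 ≤ i → Subsingleton (Coh.HH X F i)) ∧ GG F

theorem subsingleton_HH_of_isZero {M : X.Modules} (h : IsZero M) (n : ℕ) :
    Subsingleton (Coh.HH X M n) := by
  refine subsingleton_of_forall_eq 0 fun x => ?_
  have h1 : Sheaf.H.map ((QCoh.toAbFunctor X).map (𝟙 M)) n x = x := by
    rw [CategoryTheory.Functor.map_id, Sheaf.H.map_id_apply]
  rw [← h1, h.eq_of_src (𝟙 M) 0, Functor.map_zero]
  show ((Sheaf.functorH _ n).map 0).hom x = 0
  rw [Functor.map_zero]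
  rfl

theorem good_of_iso {M N : X.Modules} (e : M ≅ N) (h : Good M) : Good N := by
  refine ⟨fun i hi => ?_, fun T g hg => ?_⟩
  · haveI := h.1 i hi
    refine subsingleton_of_forall_eq 0 fun y => ?_
    have h1 : Sheaf.H.map ((QCoh.toAbFunctor X).map e.hom) i
        (Sheaf.H.map ((QCoh.toAbFunctor X).map e.inv) i y) = y :=
      (Groth.Agent.PnCoh.Finite.map_map (Y := X.toPresheafedSpace.carrier)
        (((QCoh.toAbFunctor X).map_comp e.inv e.hom).symm.trans
          (by rw [e.inv_hom_id, CategoryTheory.Functor.map_id]; rfl)) i y).trans (Sheaf.H.map_id_apply y)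
    rw [← h1]
    exact (congrArg _ (show Sheaf.H.map ((QCoh.toAbFunctor X).map e.inv) i y = 0 from
      @Subsingleton.elim (Coh.HH X M i) _ _ _)).trans (map_zero _)
  · have := h.2 T (e.hom ≫ g) fun s => by simpa using hg (s ≫ e.hom)
    rw [← cancel_epi e.hom, this, Limits.comp_zero]

theorem good_X₂ {S : ShortComplex X.Modules} (hS : S.ShortExact) (h₁ : Good S.X₁) (h₃ : Good S.X₃) :
    Good S.X₂ := by
  refine ⟨fun i hi => QCoh.subsingleton_HH_X₂ hS i (h₁.1 i hi) (h₃.1 i hi), fun T g hg => ?_⟩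
  have hfg : S.f ≫ g = 0 := h₁.2 T _ fun s => by simpa using hg (s ≫ S.f)
  haveI := hS.epi_g
  obtain ⟨g', rfl⟩ : ∃ g', S.g ≫ g' = g := ⟨hS.exact.desc g hfg, hS.exact.g_desc _ _⟩
  rw [h₃.2 T g' fun s => ?_, Limits.comp_zero]
  obtain ⟨y, hy⟩ := QCoh.app_top_surjective_of_HH_one hS (h₁.1 1 le_rfl) (s.app ⊤ (H23.Frame.one ⊤))
  have hs : QCoh.homOfTop y ≫ S.g = s := by
    apply Scheme.Modules.hom_ext
    intro W
    ext a
    refine Eq.trans ?_ (H23.Frame.app_eq_smul s W a).symm
    show S.g.app W ((QCoh.homOfTop y).app W a) = _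
    rw [QCoh.homOfTop_app, Scheme.Modules.Hom.app_smul, ← H23.Frame.app_one_res s (le_top : W ≤ ⊤), ← hy]
    congr 1
    exact ConcreteCategory.congr_hom (S.g.mapPresheaf.naturality (homOfLE (le_top : W ≤ ⊤)).op) y
  rw [← hs, Category.assoc]
  exact hg _

theorem isAffine_of_subsingleton (Z : Scheme.{u}) [Subsingleton Z] [Nonempty Z] : IsAffine Z := by
  obtain ⟨z⟩ : Nonempty Z := inferInstance
  obtain ⟨_, ⟨U, hU, rfl⟩, hzU, -⟩ :=
    Z.isBasis_affineOpens.exists_subset_of_mem_open (Set.mem_univ z) isOpen_univ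
  have : U = ⊤ := by
    ext w
    exact ⟨fun _ => trivial, fun _ => Subsingleton.elim z w ▸ hzU⟩
  subst this
  haveI : IsAffine (⊤ : Z.Opens) := hU
  exact IsAffine.of_isIso Z.topIso.inv

theorem good_of_support [IsNoetherian X] {F : X.Modules} (hF : Coh.IsCoh F)
    (hT : ∀ x ∈ CohB1.support F, closure {x} = ({x} : Set X)) : Good F := by
  refine QCoh.devissage_ideals Good (fun M N ⟨e⟩ h => good_of_iso e h)
    (fun M h => ⟨fun i _ => subsingleton_HH_of_isZero h i, fun T g _ => h.eq_of_src g 0⟩)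
    (CohB1.support F) (fun S hS _ _ _ h₁ h₃ => good_X₂ hS h₁ h₃) ?_ hF le_rfl
  intro ξ hξ _ Z i _ _ hr I ι _ hI _
  rw [hT ξ (hξ (subset_closure rfl))] at hr
  haveI : Subsingleton Z := ⟨fun a b => i.isClosedEmbedding.injective
    ((show i a = ξ by have h := Set.mem_range_self (f := i) a; rw [hr] at h; exact h).trans
      (show i b = ξ by have h := Set.mem_range_self (f := i) b; rw [hr] at h; exact h).symm)⟩
  haveI := isAffine_of_subsingleton Z
  refine ⟨fun j hj => ?_, fun T g hg => ?_⟩
  · obtain ⟨e⟩ := QCoh.HH_push_of_isAffineHom i hI j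
    haveI : Subsingleton (Coh.HH Z I j) :=
      QCoh.HH_subsingleton_of_cover 1 (fun _ => (⊤ : Z.Opens)) (fun _ => isAffineOpen_top Z)
        (by simp) (fun V W hV hW => hV.inf hW) hI j hj
    exact e.symm.toEquiv.subsingleton
  · apply Scheme.Modules.hom_ext
    intro W
    ext s
    by_cases hne : ξ ∈ W
    · have hW : i ⁻¹ᵁ W = ⊤ := by
        ext z
        refine ⟨fun _ => trivial, fun _ => ?_⟩
        show i z ∈ W
        have h := Set.mem_range_self (f := i) z
        rw [hr] at h
        rw [Set.mem_singleton_iff.1 h]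
        exact hne
      obtain ⟨t, ht⟩ : ∃ t : Γ((Coh.push i).obj I, ⊤),
          ((Coh.push i).obj I).presheaf.map (homOfLE le_top).op t = s :=
        ⟨I.presheaf.map (homOfLE (show i ⁻¹ᵁ (⊤ : X.Opens) ≤ i ⁻¹ᵁ W by rw [hW]; exact le_top)).op s, by
          show I.presheaf.map _ (I.presheaf.map _ s) = s
          rw [← ConcreteCategory.comp_apply, ← I.presheaf.map_comp]
          refine Eq.trans ?_ (ConcreteCategory.congr_hom (I.presheaf.map_id _) s)
          rfl⟩
      have h0 := congrArg (fun φ => Scheme.Modules.Hom.app φ ⊤ (H23.Frame.one ⊤)) (hg (QCoh.homOfTop t))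
      have h1 : g.app ⊤ t = 0 := by
        refine Eq.trans ?_ h0
        show g.app ⊤ t = g.app ⊤ ((QCoh.homOfTop t).app ⊤ (1 : Γ(X, ⊤)))
        rw [QCoh.homOfTop_app, one_smul]
        congr 1
        exact (ConcreteCategory.congr_hom (((Coh.push i).obj I).presheaf.map_id _) t).symm
      rw [← ht]
      exact (ConcreteCategory.congr_hom (g.mapPresheaf.naturality (homOfLE le_top).op) t).trans
        ((congrArg _ h1).trans (map_zero (T.presheaf.map (homOfLE (le_top : W ≤ ⊤)).op).hom))
    · have hW : i ⁻¹ᵁ W = ⊥ := by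
        ext z
        refine ⟨fun hz => hne ?_, fun hz => hz.elim⟩
        have h := Set.mem_range_self (f := i) z
        rw [hr] at h
        rw [← Set.mem_singleton_iff.1 h]
        exact hz
      have hsub : Subsingleton Γ(I, i ⁻¹ᵁ W) := ⟨fun a b =>
        TopCat.Sheaf.eq_of_locally_eq' ⟨I.presheaf, I.isSheaf⟩ (fun e : Empty => (⊥ : Z.Opens)) _
          (fun e => e.elim) (by rw [hW]; exact bot_le) a b (fun e => e.elim)⟩
      rw [show s = 0 from hsub.elim s 0, map_zero, map_zero]

theorem closure_eq_self_of_dim_le_zero {T : Set X} (hT : IsClosed T) (hd : topologicalKrullDim T ≤ 0)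
    {x : X} (hx : x ∈ T) : closure {x} = ({x} : Set X) := by
  refine Set.Subset.antisymm (fun y hy => ?_) subset_closure
  have hyT : y ∈ T := hT.closure_subset_iff.2 (Set.singleton_subset_iff.2 hx) hy
  let cy : IrreducibleCloseds T := ⟨closure {⟨y, hyT⟩}, isIrreducible_singleton.closure, isClosed_closure⟩
  let cx : IrreducibleCloseds T := ⟨closure {⟨x, hx⟩}, isIrreducible_singleton.closure, isClosed_closure⟩
  have hle : (cy : Set T) ⊆ cx := by
    refine isClosed_closure.closure_subset_iff.2 (Set.singleton_subset_iff.2 ?_)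
    show (⟨y, hyT⟩ : T) ∈ closure {⟨x, hx⟩}
    rw [closure_subtype, Set.image_singleton]
    exact hy
  have heq : cy = cx := by
    by_contra hne
    have h0 : Order.krullDim (IrreducibleCloseds T) ≤ 0 := hd
    exact absurd h0 (not_le.2 (Order.krullDim_pos_iff.2 ⟨cy, cx, lt_of_le_of_ne hle hne⟩))
  have hins : Inseparable (⟨y, hyT⟩ : T) ⟨x, hx⟩ :=
    inseparable_iff_closure_eq.2 (congrArg SetLike.coe heq)
  exact congrArg Subtype.val hins.eq

variable (k : Type u) [Field k] [X.Over (Spec (CommRingCat.of k))]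
  [IsProper (X ↘ Spec (CommRingCat.of k))]

include k in
theorem good_of_dim_le_zero {F : X.Modules} (hF : Coh.IsCoh F)
    (hd : topologicalKrullDim (CohB1.support F) ≤ 0) : Good F := by
  haveI : CompactSpace X := QuasiCompact.compactSpace_of_compactSpace (X ↘ Spec (CommRingCat.of k))
  haveI : IsLocallyNoetherian X :=
    LocallyOfFiniteType.isLocallyNoetherian (X ↘ Spec (CommRingCat.of k))
  haveI : IsNoetherian X := {}
  exact good_of_support hF fun x hx =>
    closure_eq_self_of_dim_le_zero (QCoh.isClosed_support_of_isFT hF.1 hF.2) hd hx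

theorem euler_nonneg_of_good {F : X.Modules} (hF : Coh.IsCoh F) (hG : Good F) :
    0 ≤ Curv2.euler k X F ∧ (Curv2.euler k X F = 0 → IsZero F) := by
  rw [euler_eq_sum k F 1 hG.1, Finset.sum_range_one, pow_zero, one_mul]
  refine ⟨Int.natCast_nonneg _, fun h0 => ?_⟩
  haveI := S0002.result k X F hF 0
  rw [Nat.cast_eq_zero] at h0
  haveI : Subsingleton (Coh.HH X F 0) := Module.finrank_zero_iff.1 h0
  haveI : Subsingleton Γ(F, ⊤) :=
    (Sheaf.H.equiv₀ (Coh.toAb F) isTerminalTop).toEquiv.symm.subsingleton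
  rw [IsZero.iff_id_eq_zero]
  refine hG.2 F (𝟙 F) fun s => ?_
  rw [Category.comp_id]
  apply Scheme.Modules.hom_ext
  intro W
  ext a
  refine (H23.Frame.app_eq_smul s W a).trans ?_
  rw [← H23.Frame.app_one_res s (le_top : W ≤ ⊤), Subsingleton.elim (s.app ⊤ (H23.Frame.one ⊤)) 0,
    map_zero, smul_zero]
  rfl

end Groth.Agent.Euler
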