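import Groth.Agent.Lib.ExtShLocal
import Groth.Agent.QCoh.Support

/-!
Local Ext sheaves of coherent modules are coherent.
-/

set_option linter.style.haveILetI false
set_option linter.unusedSectionVars false
set_option linter.overlappingInstances false
set_option backward.isDefEq.respectTransparency false
set_option backward.isDefEq.respectTransparency.types false
set_option maxHeartbeats 1000000

universe u

open CategoryTheory CategoryTheory.Limits AlgebraicGeometry TopologicalSpace Opposite

noncomputable section

namespace Groth.Agent.ExtShCoh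

open Groth.Agent.SheafHomX Groth.Agent.KFlatLib Groth.Agent.ExtShLocal

attribute [local instance] CategoryTheory.Abelian.hasFiniteBiproducts

section Affine

variable {R : CommRingCat.{u}} [IsNoetherianRing R]

theorem isCoh_cx {L : (Spec R).Modules} (hL : Coh.IsCoh L) (I : InjectiveResolution L) : ∀ (q : ℕ)
    {M : (Spec R).Modules}, Coh.IsCoh M → Coh.IsCoh ((ExtShShift.cx I M).homology q) := by
  haveI : IsLocallyNoetherian (Spec R) := isLocallyNoetherian_Spec.2 ‹_›
  intro q
  induction q with
  | zero => intro M hM; exact SheafHomX.isCoh_of_iso (ExtShShift.zeroIso I M) (SheafHomX.isCoh_hom hM hL)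
  | succ q ih =>
    intro M hM
    obtain ⟨σ, _, φ, hφ⟩ := exists_free_epi hM
    haveI := hφ
    let S : ShortComplex (Spec R).Modules := ShortComplex.mk (kernel.ι φ) φ (kernel.condition φ)
    have hS : S.ShortExact := { exact := ShortComplex.exact_of_f_is_kernel _ (kernelIsKernel φ) }
    have hP : Coh.IsCoh S.X₂ := isCoh_biproduct_self (CurveDeg.isCoh_of_isInvertible InvX.isInvertible_structureModule)
    have hK : Coh.IsCoh S.X₁ := QCoh.isCoh_kernel hP hM φ
    have hz : IsZero ((ExtShShift.cx I S.X₂).homology (q + 1)) :=
      ExtShShift.isZero_of_exact I S.X₂ (fun u hu => epi_hom_map_biproduct _ u fun _ => by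
        rw [show (hom (Coh.structureModule (Spec R))).map u =
          ((unitIso (Spec R)).hom.app _ ≫ (𝟭 (Spec R).Modules).map u) ≫ (unitIso (Spec R)).inv.app _ from by
            rw [← (unitIso (Spec R)).hom.naturality, Category.assoc, (unitIso (Spec R)).hom_inv_id_app, Category.comp_id]]
        simp only [Functor.id_map]
        haveI := hu
        infer_instance) q
    obtain ⟨w, hc⟩ := ExtShShift.exists_shortExact I hS
    have hex := hc.homology_exact₃ q (q + 1) rfl
    haveI : Epi (hc.δ q (q + 1) rfl) := (hc.homology_exact₁ q (q + 1) rfl).epi_f (hz.eq_of_tgt _ _)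
    exact SheafHomX.isCoh_of_iso (IsColimit.coconePointUniqueUpToIso (cokernelIsCokernel _) hex.gIsCokernel)
      (QCoh.isCoh_cokernel (ih hP).1 (ih hK) _)

end Affine

section Local

variable {X : Scheme.{u}} {Y : Scheme.{u}} (j : Y ⟶ X) [IsOpenImmersion j]

/-- The local Ext complexes restrict. -/
theorem nonempty_homology_restrict {L : X.Modules} (I : InjectiveResolution L) (M : X.Modules) (q : ℕ) :
    Nonempty (((ExtShShift.cx I M).homology q).restrict j ≅
      (ExtShShift.cx (restrictRes j I) ((Scheme.Modules.restrictFunctor j).obj M)).homology q) := by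
  haveI : (Scheme.Modules.restrictFunctor j).Additive := Functor.additive_of_preserves_binary_products _
  haveI := preservesHomology_restrict j
  let c : ((Scheme.Modules.restrictFunctor j).mapHomologicalComplex _).obj (ExtShShift.cx I M) ≅
      ExtShShift.cx (restrictRes j I) ((Scheme.Modules.restrictFunctor j).obj M) :=
    HomologicalComplex.Hom.isoOfComponents (fun i => (restrictIso j M).app _) fun i i' _ =>
      ((restrictIso j M).hom.naturality (I.cocomplex.d i i')).symm
  exact ⟨(((ExtShShift.cx I M).sc q).mapHomologyIso (Scheme.Modules.restrictFunctor j)).symm ≪≫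
    (HomologicalComplex.homologyMapIso c q)⟩

/-- Local Ext sheaves of coherent modules on a locally Noetherian scheme are coherent. -/
theorem isCoh_extSh [IsLocallyNoetherian X] {M L : X.Modules} (hM : Coh.IsCoh M) (hL : Coh.IsCoh L)
    [ModSite.HasSheafHom (O := X.sheaf) M] [HasInjectiveResolutions (ModSite.Mod X.sheaf)] (q : ℕ) :
    Coh.IsCoh ((ModSite.extSh (O := X.sheaf) M q).obj L) := by
  haveI : HasInjectiveResolutions X.Modules :=
    inferInstanceAs (HasInjectiveResolutions (ModSite.Mod X.sheaf))
  let I : InjectiveResolution L := InjectiveResolution.of _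
  obtain ⟨a⟩ := ExtShShift.nonempty_extSh_iso I M q
  refine SheafHomX.isCoh_of_iso a.symm ?_
  have hloc : ∀ (R : CommRingCat.{u}) (j : Spec R ⟶ X) [IsOpenImmersion j],
      Coh.IsCoh (((ExtShShift.cx I M).homology q).restrict j) := fun R j _ => by
    haveI : IsLocallyNoetherian (Spec R) := LocallyOfFiniteType.isLocallyNoetherian j
    haveI : IsNoetherianRing R := isLocallyNoetherian_Spec.1 ‹_›
    obtain ⟨b⟩ := nonempty_homology_restrict j I M q
    exact SheafHomX.isCoh_of_iso b.symm
      (isCoh_cx (SheafHomX.isCoh_restrict j hL) _ q (SheafHomX.isCoh_restrict j hM))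
  have hq := QCoh.isQCoh_of_charts fun R j _ => (hloc R j).1
  refine QCoh.isCoh_iff.2 ⟨hq, fun U => ?_⟩
  haveI : Module.Finite Γ(X, U.1) (moduleSpecΓFunctor.obj (((ExtShShift.cx I M).homology q).restrict U.2.fromSpec)) :=
    (QCoh.isFT_iff_finite (R := Γ(X, U.1)) _ (hloc _ U.2.fromSpec).1).1 (hloc _ U.2.fromSpec).2
  exact Module.Finite.equiv (QCoh.chartEquiv U.2 ((ExtShShift.cx I M).homology q)).symm

end Local

end Groth.Agent.ExtShCoh
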