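import Groth.Agent.Lib.ExtShCodim
import Groth.Agent.Lib.ExtShCoh
import Groth.Agent.KFlatLib.Scheme.ProjModule
import Groth.Agent.KFlatLib.Scheme.Grothendieck
import Groth.Agent.KZ.ClosedDev
import Mathlib.CategoryTheory.Abelian.Injective.Ext

/-!
The right adjoint of the direct image along a closed immersion, and `Ext` out of direct images.
-/

set_option linter.style.haveILetI false
set_option linter.unusedSectionVars false
set_option backward.isDefEq.respectTransparency false
set_option backward.isDefEq.respectTransparency.types false
set_option maxHeartbeats 1000000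

universe u

open CategoryTheory CategoryTheory.Limits AlgebraicGeometry TopologicalSpace Opposite
open CategoryTheory.Abelian

noncomputable section

namespace Groth.Agent.ClosedShriek

variable {X P : Scheme.{u}} (ι : X ⟶ P) [IsClosedImmersion ι]

theorem preservesColimits_push : PreservesColimitsOfSize.{u, u} (Scheme.Modules.pushforward ι) :=
  ⟨fun {K} _ => KFlatLib.preservesColimitsOfShape_push ι K⟩

theorem isLeftAdjoint_push : (Scheme.Modules.pushforward ι).IsLeftAdjoint := by
  haveI := preservesColimits_push ι
  haveI : WellPowered.{u} X.Modules := inferInstance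
  exact isLeftAdjoint_of_preservesColimits_of_isSeparating
    (P := ObjectProperty.singleton (separator X.Modules)) (isSeparator_separator _) _

/-- The right adjoint of the direct image. -/
def shriek : P.Modules ⥤ X.Modules :=
  haveI := isLeftAdjoint_push ι
  (Scheme.Modules.pushforward ι).rightAdjoint

/-- The adjunction. -/
def shriekAdj : Scheme.Modules.pushforward ι ⊣ shriek ι :=
  haveI := isLeftAdjoint_push ι
  Adjunction.ofIsLeftAdjoint (Scheme.Modules.pushforward ι)

instance additive_shriek : (shriek ι).Additive :=
  haveI : (Scheme.Modules.pushforward ι).IsLeftAdjoint := isLeftAdjoint_push ι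
  (shriekAdj ι).right_adjoint_additive

theorem preservesMonomorphisms_push : (Scheme.Modules.pushforward ι).PreservesMonomorphisms := by
  haveI := (Scheme.Modules.pullbackPushforwardAdjunction ι).isRightAdjoint
  exact Functor.preservesMonomorphisms_of_isRightAdjoint _

theorem injective_shriek (I : P.Modules) [Injective I] : Injective ((shriek ι).obj I) := by
  haveI := preservesMonomorphisms_push ι
  exact Injective.injective_of_adjoint (shriekAdj ι) I

/-- Tensoring with the structure sheaf of the subscheme. -/
def tenPushIso : SheafHomX.ten ((Scheme.Modules.pushforward ι).obj (Coh.structureModule X)) ≅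
    Scheme.Modules.pullback ι ⋙ Scheme.Modules.pushforward ι :=
  haveI : ∀ N, IsIso (KFlatLib.projMod ι (Coh.structureModule X) N) :=
    fun N => KFlatLib.isIso_projMod_of_isClosedImmersion ι _ N
  (KFlatLib.tensorBiFlipIso P).app _ ≪≫
    (NatIso.ofComponents (fun N => asIso (KFlatLib.projMod ι (Coh.structureModule X) N))
      (fun g => KFlatLib.projMod_naturality_right ι (Coh.structureModule X) g) :
      DCoh.tensorBi.obj ((Scheme.Modules.pushforward ι).obj (Coh.structureModule X)) ≅
        Scheme.Modules.pullback ι ⋙ DCoh.tensorBi.obj (Coh.structureModule X) ⋙ Scheme.Modules.pushforward ι) ≪≫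
    Functor.isoWhiskerLeft (Scheme.Modules.pullback ι) (Functor.isoWhiskerRight
      (((KFlatLib.tensorBiFlipIso X).app (Coh.structureModule X)).symm ≪≫ KFlatLib.tensorStructureIso X)
      (Scheme.Modules.pushforward ι) ≪≫ Functor.leftUnitor _)

/-- The internal hom out of the structure sheaf of the subscheme. -/
def shriekPushIso : SheafHomX.hom ((Scheme.Modules.pushforward ι).obj (Coh.structureModule X)) ≅
    shriek ι ⋙ Scheme.Modules.pushforward ι :=
  ((SheafHomX.adj _).ofNatIsoLeft (tenPushIso ι)).rightAdjointUniq
    ((Scheme.Modules.pullbackPushforwardAdjunction ι).comp (shriekAdj ι))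

variable {L : P.Modules} (I : InjectiveResolution L)

/-- The complex on the subscheme computing `Ext` out of direct images. -/
abbrev scx : CochainComplex X.Modules ℕ := ((shriek ι).mapHomologicalComplex _).obj I.cocomplex

/-- Its direct image computes the local `Ext` sheaves. -/
def pushScxIso : ((Scheme.Modules.pushforward ι).mapHomologicalComplex _).obj (scx ι I) ≅
    ExtShShift.cx I ((Scheme.Modules.pushforward ι).obj (Coh.structureModule X)) :=
  (NatIso.mapHomologicalComplex (shriekPushIso ι) _).symm.app I.cocomplex

theorem preservesFiniteColimits_push : PreservesFiniteColimits (Scheme.Modules.pushforward ι) :=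
  ⟨fun J _ _ => KFlatLib.preservesColimitsOfShape_push ι J⟩

theorem preservesHomology_push : (Scheme.Modules.pushforward ι).PreservesHomology := by
  haveI := (Scheme.Modules.pullbackPushforwardAdjunction ι).isRightAdjoint
  haveI : PreservesFiniteLimits (Scheme.Modules.pushforward ι) := inferInstance
  haveI := preservesFiniteColimits_push ι
  infer_instance

theorem nonempty_homology_iso [ModSite.HasSheafHom (O := P.sheaf) ((Scheme.Modules.pushforward ι).obj (Coh.structureModule X))]
    [HasInjectiveResolutions (ModSite.Mod P.sheaf)] (q : ℕ) :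
    Nonempty ((Scheme.Modules.pushforward ι).obj ((scx ι I).homology q) ≅
      (ModSite.extSh (O := P.sheaf) ((Scheme.Modules.pushforward ι).obj (Coh.structureModule X)) q).obj L) := by
  haveI := preservesHomology_push ι
  obtain ⟨a⟩ := ExtShShift.nonempty_extSh_iso I ((Scheme.Modules.pushforward ι).obj (Coh.structureModule X)) q
  exact ⟨(((scx ι I).sc q).mapHomologyIso (Scheme.Modules.pushforward ι)).symm ≪≫
    HomologicalComplex.homologyMapIso (pushScxIso ι I) q ≪≫ a.symm⟩

theorem isZero_of_push {M : X.Modules} (h : IsZero ((Scheme.Modules.pushforward ι).obj M)) : IsZero M := by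
  rw [IsZero.iff_id_eq_zero]
  haveI := preservesMonomorphisms_push ι
  haveI : IsIso ((Scheme.Modules.pushforward ι).map (0 : M ⟶ M)) :=
    ⟨0, h.eq_of_src _ _, h.eq_of_src _ _⟩
  haveI := KFlatLib.isIso_of_stalk (0 : M ⟶ M) fun x => by
    haveI := (NatIso.isIso_map_iff (KFlatLib.stalkPushIso ι x) (0 : M ⟶ M)).1
      (inferInstanceAs (IsIso ((KFlatLib.stalkAb (X := P) (ι.base x)).map
        ((Scheme.Modules.pushforward ι).map (0 : M ⟶ M)))))
    exact @isIso_of_reflects_iso _ _ _ _ _ _ _
      (forget₂ (ModuleCat (X.presheaf.stalk x)) AddCommGrpCat) this _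
  exact (cancel_mono (0 : M ⟶ M)).1 (by rw [comp_zero, comp_zero])

end Groth.Agent.ClosedShriek
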