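import Groth.Agent.Lib.KoszulExt
import Groth.Agent.Lib.ExtShCoh
import Groth.Agent.Lib.ClosedShriek
import Groth.Agent.PnCoh.Unit
import Groth.Agent.QCoh.Qcqs
import Groth.Agent.QCoh.ClosedPush
import Groth.Agent.QCoh.LocFree
import Groth.Prelude.Def_RegImm
import Mathlib.RingTheory.Regular.Flat

/-!
The local Ext sheaves of the structure sheaf of a regular immersion.
-/

set_option linter.style.haveILetI false
set_option linter.unusedSectionVars false
set_option backward.isDefEq.respectTransparency false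
set_option backward.isDefEq.respectTransparency.types false
set_option maxHeartbeats 1000000

universe u

open CategoryTheory CategoryTheory.Limits AlgebraicGeometry TopologicalSpace Opposite
open RingTheory.Sequence

noncomputable section

namespace Groth.Agent.RegImmExt

variable {P X : Scheme.{u}} (ι : X ⟶ P) [IsClosedImmersion ι]

local notation "O_" => Coh.structureModule

theorem isQCoh_push : Coh.IsQCoh ((Scheme.Modules.pushforward ι).obj (Coh.structureModule X)) :=
  QCoh.isQCoh_pushforward ι (PnCoh.isQCoh_structureModule X)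

/-- A direct image vanishes away from the image. -/
theorem isZero_restrict_push {U : Scheme.{u}} (j : U ⟶ P) [IsOpenImmersion j]
    (hU : Set.range j ⊆ (Set.range ι)ᶜ) (M : X.Modules) :
    IsZero ((Scheme.Modules.restrictFunctor j).obj ((Scheme.Modules.pushforward ι).obj M)) := by
  set R := (Scheme.Modules.restrictFunctor j).obj ((Scheme.Modules.pushforward ι).obj M)
  have hs : ∀ (O : U.Opens), Subsingleton Γ(R, O) := fun O => by
    have hbot : ι ⁻¹ᵁ (j ''ᵁ O) = ⊥ := bot_unique fun z hz => by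
      obtain ⟨y, -, hy⟩ := hz
      exact hU ⟨y, hy⟩ ⟨z, rfl⟩
    show Subsingleton Γ(M, ι ⁻¹ᵁ (j ''ᵁ O))
    rw [hbot]
    exact Module.subsingleton Γ(X, (⊥ : X.Opens)) _
  refine (IsZero.iff_id_eq_zero _).2 ?_
  ext O s
  exact (hs O).elim _ _

/-- A chart of the direct image of the structure sheaf. -/
theorem nonempty_chart {W : P.Opens} (hW : IsAffineOpen W) (rs : List Γ(P, W))
    (hker : RingHom.ker (ι.app W).hom = Ideal.ofList rs) :
    Nonempty (((Scheme.Modules.pushforward ι).obj (Coh.structureModule X)).restrict hW.fromSpec ≅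
      tilde (KoszulExt.Q (ModuleCat.of Γ(P, W) Γ(P, W)) rs)) := by
  let M := (Scheme.Modules.pushforward ι).obj (Coh.structureModule X)
  have hM := QCoh.isQCoh_restrict hW.fromSpec (isQCoh_push ι)
  let φ : Γ(P, W) →ₗ[Γ(P, W)] Γ(M, W) :=
    { toFun := fun r => (ι.app W r : Γ(X, ι ⁻¹ᵁ W))
      map_add' := fun a b => map_add (ι.app W).hom a b
      map_smul' := fun a b => map_mul (ι.app W).hom a b }
  have hk : LinearMap.ker φ = (Ideal.ofList rs • ⊤ : Submodule Γ(P, W) Γ(P, W)) := by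
    rw [smul_eq_mul, Ideal.mul_top, ← hker]
    rfl
  let l : KoszulExt.Q (ModuleCat.of Γ(P, W) Γ(P, W)) rs ≃ₗ[Γ(P, W)] Γ(M, W) :=
    (Submodule.quotEquivOfEq _ _ hk.symm).trans (φ.quotKerEquivOfSurjective (ι.app_surjective W hW))
  have := (isQuasicoherent_iff_isIso_fromTildeΓ _).1 hM
  exact ⟨(@asIso _ _ _ _ (M.restrict hW.fromSpec).fromTildeΓ this).symm ≪≫
    (tilde.functor Γ(P, W)).mapIso ((QCoh.chartEquiv hW M).symm.trans l.symm).toModuleIso⟩

variable {L : P.Modules} (I : InjectiveResolution L) (c : ℕ)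

/-- The sheaf computing `Ext^c`. -/
abbrev G : P.Modules := (ExtShShift.cx I ((Scheme.Modules.pushforward ι).obj (Coh.structureModule X))).homology c

/-- `Ext^c` in a chart in which the subscheme is cut out by a regular sequence. -/
theorem chart_iso {W : P.Opens} (hW : IsAffineOpen W) (rs : List Γ(P, W)) (hl : rs.length = c)
    (hreg : IsWeaklyRegular Γ(P, W) rs) (hker : RingHom.ker (ι.app W).hom = Ideal.ofList rs) {n : ℕ}
    (e : L.restrict hW.fromSpec ≅ FlatMod.freeMod (Spec Γ(P, W)) n) :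
    Nonempty ((G ι I c).restrict hW.fromSpec ≅
      tilde (KoszulExt.Q (ModuleCat.of Γ(P, W) (ULift.{u} (Fin n) →₀ Γ(P, W))) rs)) := by
  let N : ModuleCat.{u} Γ(P, W) := ModuleCat.of Γ(P, W) (ULift.{u} (Fin n) →₀ Γ(P, W))
  let eL : L.restrict hW.fromSpec ≅ tilde N :=
    e ≪≫ QCoh.freeModIso _ n ≪≫ (tildeFinsupp (R := Γ(P, W)) _).symm
  obtain ⟨eM⟩ := nonempty_chart ι hW rs hker
  obtain ⟨b⟩ := ExtShCoh.nonempty_homology_restrict hW.fromSpec I
    ((Scheme.Modules.pushforward ι).obj (Coh.structureModule X)) c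
  obtain ⟨-, ⟨q⟩, -⟩ := KoszulExt.ext_quotient (ExtShLocal.restrictRes hW.fromSpec I) N eL rs hreg
  rw [hl] at q
  exact ⟨b ≪≫ HomologicalComplex.homologyMapIso (KoszulExt.cxIso _ eM.symm) c ≪≫ q⟩

theorem chart_data (hι : RegImm.IsRegularImmersionOfCodim RegImm.Kind.regular c ι) (hL : FlatMod.IsFinLocFree L)
    (x : X) : ∃ (W : P.Opens) (hW : IsAffineOpen W) (rs : List Γ(P, W)) (n : ℕ), ι x ∈ W ∧
      RingHom.ker (ι.app W).hom = Ideal.ofList rs ∧
      Nonempty ((G ι I c).restrict hW.fromSpec ≅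
        tilde (KoszulExt.Q (ModuleCat.of Γ(P, W) (ULift.{u} (Fin n) →₀ Γ(P, W))) rs)) := by
  obtain ⟨U, hxU, -, rs, hlen, hreg, hker⟩ := hι.2 x
  obtain ⟨V, n, hxV, ⟨e⟩⟩ := hL (ι x)
  obtain ⟨g, hle, hg⟩ := U.2.exists_basicOpen_le ⟨ι x, hxV⟩ hxU
  let W := P.basicOpen g
  have hW : IsAffineOpen W := U.2.basicOpen g
  have hWU : W ≤ U.1 := P.basicOpen_le g
  let a := (P.presheaf.map (homOfLE hWU).op).hom
  let rs' := rs.map a
  have hker' : RingHom.ker (ι.app W).hom = Ideal.ofList rs' := by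
    show RingHom.ker (ι.app W).hom = Ideal.ofList (rs.map a)
    rw [← Ideal.map_ofList, ← hker, ← Scheme.Hom.ker_apply ι ⟨W, hW⟩, ← Scheme.Hom.ker_apply ι U]
    exact (ι.ker.map_ideal (U := ⟨W, hW⟩) (V := U) hWU).symm
  have hreg' : IsWeaklyRegular Γ(P, W) rs' := by
    haveI := U.2.isLocalization_basicOpen g
    exact hreg.toIsWeaklyRegular.of_isLocalization Γ(P, W) (Submonoid.powers g)
  exact ⟨W, hW, rs', n, hg, hker',
    chart_iso ι I c hW rs' (by simp [rs', hlen]) hreg' hker' (QCoh.freeChart hW hle e)⟩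

/-- A module with that direct image is free there. -/
theorem free_of_chart {E : X.Modules} (hE : Coh.IsQCoh E) {W : P.Opens} (hW : IsAffineOpen W)
    (rs : List Γ(P, W)) (hker : RingHom.ker (ι.app W).hom = Ideal.ofList rs) {n : ℕ}
    (q' : ((Scheme.Modules.pushforward ι).obj E).restrict hW.fromSpec ≅
      tilde (KoszulExt.Q (ModuleCat.of Γ(P, W) (ULift.{u} (Fin n) →₀ Γ(P, W))) rs)) :
    Nonempty (E.restrict (ι ⁻¹ᵁ W).ι ≅ FlatMod.freeMod ((ι ⁻¹ᵁ W : X.Opens) : Scheme.{u}) n) := by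
  let σ := ULift.{u} (Fin n)
  let l₀ : Γ((Scheme.Modules.pushforward ι).obj E, W) ≃ₗ[Γ(P, W)]
      KoszulExt.Q (ModuleCat.of Γ(P, W) (σ →₀ Γ(P, W))) rs :=
    (QCoh.chartEquiv hW _).trans (moduleSpecΓFunctor.mapIso q' ≪≫
      ((tilde.toTildeΓNatIso (R := Γ(P, W))).app _).symm).toLinearEquiv
  let φ : (σ →₀ Γ(P, W)) →+ (σ →₀ Γ(X, ι ⁻¹ᵁ W)) := Finsupp.mapRange.addMonoidHom (ι.app W).hom.toAddMonoidHom
  have hφs : ∀ (r : Γ(P, W)) v, φ (r • v) = ι.app W r • φ v := fun r v => by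
    ext i
    simp [φ]
  have hφk : ∀ v, φ v = 0 ↔ v ∈ (Ideal.ofList rs • ⊤ : Submodule Γ(P, W) (σ →₀ Γ(P, W))) := fun v => by
    refine ⟨fun h => ?_, fun h => ?_⟩
    · rw [← Finsupp.sum_single v, Finsupp.sum]
      refine Submodule.sum_mem _ fun i _ => ?_
      rw [← Finsupp.smul_single_one]
      refine Submodule.smul_mem_smul ?_ trivial
      rw [← hker]
      exact (congrArg (· i) h : φ v i = 0)
    · refine Submodule.smul_induction_on h (fun r hr m _ => ?_) fun a b ha hb => by rw [map_add, ha, hb, add_zero]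
      rw [← hker] at hr
      rw [hφs, show ι.app W r = 0 from hr, zero_smul]
  have hφsurj : Function.Surjective φ := Finsupp.mapRange_surjective _ (map_zero _) (ι.app_surjective W hW)
  let K : Submodule Γ(P, W) (σ →₀ Γ(P, W)) := Ideal.ofList rs • ⊤
  let ψ : (σ →₀ Γ(P, W)) ⧸ K.toAddSubgroup →+ (σ →₀ Γ(X, ι ⁻¹ᵁ W)) :=
    QuotientAddGroup.lift _ φ fun v hv => (hφk v).2 hv
  have hψ : Function.Bijective ψ := by
    refine ⟨(injective_iff_map_eq_zero _).2 fun z hz => ?_, fun w => ?_⟩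
    · obtain ⟨v, rfl⟩ := QuotientAddGroup.mk_surjective z
      exact (QuotientAddGroup.eq_zero_iff v).2 ((hφk v).1 hz)
    · obtain ⟨v, rfl⟩ := hφsurj w
      exact ⟨(v : _ ⧸ K.toAddSubgroup), rfl⟩
  let T : Γ(E, ι ⁻¹ᵁ W) → (σ →₀ Γ(X, ι ⁻¹ᵁ W)) := fun s => ψ (l₀ s)
  have hT : Function.Bijective T := hψ.comp l₀.bijective
  let l : Γ(E, ι ⁻¹ᵁ W) ≃ₗ[Γ(X, ι ⁻¹ᵁ W)] (σ →₀ Γ(X, ι ⁻¹ᵁ W)) := LinearEquiv.ofBijective
    { toFun := T
      map_add' := fun s t => (congrArg ψ (map_add l₀ s t)).trans (map_add ψ _ _)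
      map_smul' := fun b s => by
        obtain ⟨r, rfl⟩ := ι.app_surjective W hW b
        let s' : Γ((Scheme.Modules.pushforward ι).obj E, W) := s
        show ψ (l₀ (r • s')) = ι.app W r • ψ (l₀ s')
        rw [map_smul]
        generalize l₀ s' = z
        obtain ⟨v, rfl⟩ := Submodule.mkQ_surjective K z
        exact hφs r v } hT
  exact QCoh.exists_free_restrict hE (hW.preimage ι) l

/-- A module whose direct image is killed by the ideal and quasi-coherent is quasi-coherent. -/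
theorem isQCoh_of_push {M : X.Modules} (h : Coh.IsQCoh ((Scheme.Modules.pushforward ι).obj M)) : Coh.IsQCoh M := by
  let adj := Scheme.Modules.pullbackPushforwardAdjunction ι
  haveI : IsIso (adj.unit.app ((Scheme.Modules.pushforward ι).obj M)) :=
    (QCoh.isIso_unit_closed_iff ι h).2 fun U r hr s => by
      rw [Scheme.Hom.ker_apply] at hr
      let s' : Γ(M, ι ⁻¹ᵁ U.1) := s
      exact (congrArg (fun t : Γ(X, ι ⁻¹ᵁ U.1) => t • s') hr).trans (zero_smul _ s')
  haveI : IsIso ((Scheme.Modules.pushforward ι).map (adj.counit.app M)) :=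
    IsIso.of_isIso_fac_left (adj.right_triangle_components M)
  haveI : IsIso (adj.counit.app M) := KFlatLib.isIso_of_stalk _ fun x => by
    haveI := (NatIso.isIso_map_iff (KFlatLib.stalkPushIso ι x) (adj.counit.app M)).1
      (inferInstanceAs (IsIso ((KFlatLib.stalkAb (X := P) (ι.base x)).map
        ((Scheme.Modules.pushforward ι).map (adj.counit.app M)))))
    exact @isIso_of_reflects_iso _ _ _ _ _ _ _
      (forget₂ (ModuleCat (X.presheaf.stalk x)) AddCommGrpCat) this _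
  exact (QCoh.isQCoh_iff_iso (asIso (adj.counit.app M))).1 (QCoh.isQCoh_pullback ι h)

theorem isZero_chart {W : P.Opens} (hW : IsAffineOpen W) (h : (W : Set P) ⊆ (Set.range ι)ᶜ) :
    IsZero ((G ι I c).restrict hW.fromSpec) := by
  have hz := isZero_restrict_push ι hW.fromSpec (by rw [hW.range_fromSpec]; exact h) (Coh.structureModule X)
  obtain ⟨b⟩ := ExtShCoh.nonempty_homology_restrict hW.fromSpec I
    ((Scheme.Modules.pushforward ι).obj (Coh.structureModule X)) c
  refine IsZero.of_iso ?_ b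
  haveI : (SheafHomX.hom ((Scheme.Modules.restrictFunctor hW.fromSpec).obj
    ((Scheme.Modules.pushforward ι).obj (Coh.structureModule X)))).Additive := SheafHomX.additive_hom _
  refine (HomologicalComplex.exactAt_iff_isZero_homology _ c).1 (ShortComplex.exact_of_isZero_X₂ _ ?_)
  rw [IsZero.iff_id_eq_zero]
  show 𝟙 ((SheafHomX.hom _).obj _) = 0
  rw [← SheafHomX.homMap_id, hz.eq_of_src (𝟙 _) 0, SheafHomX.homMap_zero]

theorem isQCoh_G (hι : RegImm.IsRegularImmersionOfCodim RegImm.Kind.regular c ι) (hL : FlatMod.IsFinLocFree L) :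
    Coh.IsQCoh (G ι I c) := by
  have hp : ∀ p : P, ∃ (W : P.Opens) (hW : IsAffineOpen W), p ∈ W ∧ Coh.IsQCoh ((G ι I c).restrict hW.fromSpec) := by
    intro p
    by_cases hp : p ∈ Set.range ι
    · obtain ⟨x, rfl⟩ := hp
      obtain ⟨W, hW, rs, n, hx, -, ⟨a⟩⟩ := chart_data ι I c hι hL x
      exact ⟨W, hW, hx, (QCoh.isQCoh_iff_iso a.symm).1 (QCoh.isQCoh_spec_iff.2 ⟨_, ⟨Iso.refl _⟩⟩)⟩
    · obtain ⟨_, ⟨W, hW, rfl⟩, hx, hsub⟩ := P.isBasis_affineOpens.exists_subset_of_mem_open hp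
        ι.isClosedEmbedding.isClosed_range.isOpen_compl
      exact ⟨W, hW, hx, QCoh.isQCoh_of_isZero (isZero_chart ι I c hW hsub)⟩
  choose W hW hmem hq using hp
  refine QCoh.isQCoh_of_isOpenCover W (top_le_iff.1 fun p _ => Opens.mem_iSup.2 ⟨p, hmem p⟩) fun p => ?_
  exact (QCoh.isQCoh_iff_iso (QCoh.chartRestrictIso (hW p) _)).1 (QCoh.isQCoh_restrict _ (hq p))

/-- `Ext^c` of the structure sheaf into a locally free module is locally free on the subscheme. -/
theorem exists_finLocFree (hι : RegImm.IsRegularImmersionOfCodim RegImm.Kind.regular c ι)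
    (hL : FlatMod.IsFinLocFree L)
    [ModSite.HasSheafHom (O := P.sheaf) ((Scheme.Modules.pushforward ι).obj (Coh.structureModule X))]
    [HasInjectiveResolutions (ModSite.Mod P.sheaf)] :
    ∃ E : X.Modules, FlatMod.IsFinLocFree E ∧ Nonempty ((Scheme.Modules.pushforward ι).obj E ≅ G ι I c) := by
  obtain ⟨a⟩ := ExtShShift.nonempty_extSh_iso I ((Scheme.Modules.pushforward ι).obj (Coh.structureModule X)) c
  obtain ⟨b⟩ := ClosedShriek.nonempty_homology_iso ι I c
  let E' := (ClosedShriek.scx ι I).homology c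
  let e : (Scheme.Modules.pushforward ι).obj E' ≅ G ι I c := b ≪≫ a
  have hE := isQCoh_of_push ι ((QCoh.isQCoh_iff_iso e).2 (isQCoh_G ι I c hι hL))
  refine ⟨E', fun x => ?_, ⟨e⟩⟩
  obtain ⟨W, hW, rs, n, hx, hker, ⟨q⟩⟩ := chart_data ι I c hι hL x
  exact ⟨ι ⁻¹ᵁ W, n, hx, free_of_chart ι hE hW rs hker ((Scheme.Modules.restrictFunctor hW.fromSpec).mapIso e ≪≫ q)⟩

end Groth.Agent.RegImmExt
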