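import Groth.Agent.Lib.KoszulZigzag
import Groth.Agent.Lib.RegImmExt
import Groth.Agent.OmegaUniv.Restrict
import Groth.Agent.InvX.Tensor
import Groth.Agent.AModX.Res
import Groth.Prelude.Def_ExtPow2
import Groth.Prelude.Def_Omega2

/-!
The top exterior power of the conormal sheaf of a regular immersion: the wedge of a family of sections of the ideal,
its change under matrices, and the frames given by regular sequences.
-/

set_option linter.style.haveILetI false
set_option linter.unusedSectionVars false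
set_option backward.isDefEq.respectTransparency false
set_option backward.isDefEq.respectTransparency.types false
set_option maxHeartbeats 1000000

universe u

open CategoryTheory CategoryTheory.Limits AlgebraicGeometry TopologicalSpace Opposite
open RingTheory.Sequence Groth.Agent.AModX

noncomputable section

namespace Groth.Agent.ConormalWedge

variable {P X : Scheme.{u}} (ι : X ⟶ P) [IsClosedImmersion ι]

/-- Sections of the ideal. -/
abbrev Id (W : P.Opens) : Type u := Γ(ClSub.idealMod ι.ker, W)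

theorem isQCoh_idealMod : Coh.IsQCoh (ClSub.idealMod ι.ker) :=
  QCoh.isQCoh_kernel (PnCoh.isQCoh_structureModule P)
    (QCoh.isQCoh_pushforward ι.ker.subschemeι (PnCoh.isQCoh_structureModule _)) _

/-- The function given by a section of the ideal. -/
abbrev fn {W : P.Opens} (k : Id ι W) : Γ(P, W) := OmegaSh.idealSect ι.ker W k

theorem fn_mem {W : P.Opens} (k : Id ι W) : fn ι k ∈ RingHom.ker (ι.app W).hom :=
  OmegaUniv.app_idealSect ι W k

theorem exists_fn {W : P.Opens} (a : Γ(P, W)) (ha : a ∈ RingHom.ker (ι.app W).hom) : ∃ k : Id ι W, fn ι k = a :=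
  OmegaUniv.exists_idealSect_of_app_eq_zero ι W a ha

theorem fn_res {W V : P.Opens} (h : V ≤ W) (k : Id ι W) :
    fn ι (res (ClSub.idealMod ι.ker) h k) = resR h (fn ι k) :=
  OmegaLib.idealSect_map ι.ker h k

theorem fn_smul {W : P.Opens} (r : Γ(P, W)) (k : Id ι W) : fn ι (r • k) = r * fn ι k :=
  OmegaLib.idealSect_smul ι.ker W r k

theorem fn_sum {W : P.Opens} {σ : Type*} (s : Finset σ) (k : σ → Id ι W) :
    fn ι (∑ i ∈ s, k i) = ∑ i ∈ s, fn ι (k i) := map_sum (OmegaSh.idealSect ι.ker W) _ _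

theorem fn_injective {W : P.Opens} : Function.Injective (fn ι (W := W)) :=
  OmegaLib.idealSect_injective ι.ker W

/-- The class in the conormal sheaf. -/
def cn {W : P.Opens} (k : Id ι W) : Γ(Omega.conormal ι, ι ⁻¹ᵁ W) :=
  ((Scheme.Modules.pullbackPushforwardAdjunction ι).unit.app (ClSub.idealMod ι.ker)).app W k

theorem cn_add {W : P.Opens} (k k' : Id ι W) : cn ι (k + k') = cn ι k + cn ι k' :=
  map_add (((Scheme.Modules.pullbackPushforwardAdjunction ι).unit.app (ClSub.idealMod ι.ker)).app W).hom k k'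

theorem cn_smul {W : P.Opens} (r : Γ(P, W)) (k : Id ι W) : cn ι (r • k) = ι.app W r • cn ι k :=
  (Scheme.Modules.Hom.app_smul
    ((Scheme.Modules.pullbackPushforwardAdjunction ι).unit.app (ClSub.idealMod ι.ker)) r k).trans
    (QCoh.pushforward_smul ι W r _)

theorem cn_sum {W : P.Opens} {σ : Type*} (s : Finset σ) (k : σ → Id ι W) :
    cn ι (∑ i ∈ s, k i) = ∑ i ∈ s, cn ι (k i) := map_sum (AddMonoidHom.mk' (cn ι (W := W)) (cn_add ι)) _ _

theorem cn_res {W V : P.Opens} (h : V ≤ W) (h' : ι ⁻¹ᵁ V ≤ ι ⁻¹ᵁ W) (k : Id ι W) :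
    res (Omega.conormal ι) h' (cn ι k) = cn ι (res (ClSub.idealMod ι.ker) h k) :=
  (app_res ((Scheme.Modules.pullbackPushforwardAdjunction ι).unit.app (ClSub.idealMod ι.ker)) h k).symm

theorem cn_surjective {W : P.Opens} (hW : IsAffineOpen W) : Function.Surjective (cn ι (W := W)) :=
  (QCoh.unit_app_closed ι (isQCoh_idealMod ι) hW).1

theorem cn_eq_zero {W : P.Opens} (hW : IsAffineOpen W) (k : Id ι W) :
    cn ι k = 0 ↔ k ∈ RingHom.ker (ι.app W).hom • (⊤ : Submodule Γ(P, W) (Id ι W)) := by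
  rw [← Scheme.Hom.ker_apply ι ⟨W, hW⟩]
  exact (QCoh.unit_app_closed ι (isQCoh_idealMod ι) hW).2 k

/-- A regular system of generators of the ideal. -/
structure IsGens {r : ℕ} (W : P.Opens) (f : Fin r → Id ι W) : Prop where
  regular : IsWeaklyRegular Γ(P, W) (List.ofFn fun i => fn ι (f i))
  span_eq : Ideal.span (Set.range fun i => fn ι (f i)) = RingHom.ker (ι.app W).hom

variable {r : ℕ}

theorem IsGens.basicOpen {W : P.Opens} {f : Fin r → Id ι W} (hf : IsGens ι W f) (hW : IsAffineOpen W)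
    (g : Γ(P, W)) : IsGens ι (P.basicOpen g) fun i => res (ClSub.idealMod ι.ker) (P.basicOpen_le g) (f i) := by
  have hWU : P.basicOpen g ≤ W := P.basicOpen_le g
  have hl : (List.ofFn fun i => fn ι (res (ClSub.idealMod ι.ker) hWU (f i))) =
      (List.ofFn fun i => fn ι (f i)).map (P.presheaf.map (homOfLE hWU).op).hom := by
    rw [List.map_ofFn]
    exact congrArg List.ofFn (funext fun i => fn_res ι hWU (f i))
  constructor
  · haveI := hW.isLocalization_basicOpen g
    rw [hl]
    exact hf.regular.of_isLocalization Γ(P, P.basicOpen g) (Submonoid.powers g)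
  · have h := (ι.ker.map_ideal (U := ⟨P.basicOpen g, hW.basicOpen g⟩) (V := ⟨W, hW⟩) hWU).symm
    rw [Scheme.Hom.ker_apply, Scheme.Hom.ker_apply, ← hf.span_eq, Ideal.map_span] at h
    refine Eq.trans ?_ h.symm
    refine congrArg Ideal.span ?_
    rw [← Set.range_comp]
    exact congrArg Set.range (funext fun i => fn_res ι hWU (f i))

theorem exists_gens (hι : RegImm.IsRegularImmersionOfCodim RegImm.Kind.regular r ι) (x : X) :
    ∃ (W : P.Opens) (_ : IsAffineOpen W) (f : Fin r → Id ι W), ι x ∈ W ∧ IsGens ι W f := by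
  obtain ⟨U, hxU, -, rs, hlen, hreg, hker⟩ := hι.2 x
  subst hlen
  have hk : RingHom.ker (ι.app U.1).hom = Ideal.ofList rs := hker
  choose f hf using fun i : Fin rs.length =>
    exists_fn ι (rs[i]) (by rw [hk]; exact Ideal.subset_span (List.getElem_mem i.2))
  have hl : (List.ofFn fun i => fn ι (f i)) = rs := by
    simp only [hf]
    exact List.ofFn_getElem
  refine ⟨U.1, U.2, f, hxU, ⟨by rw [hl]; exact hreg.toIsWeaklyRegular, ?_⟩⟩
  rw [hk, ← congrArg Ideal.ofList hl]
  exact congrArg Ideal.span (Set.ext fun a => (List.mem_ofFn.trans Iff.rfl).symm)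

theorem exists_coord {W : P.Opens} {f : Fin r → Id ι W} (hf : IsGens ι W f) (k : Id ι W) :
    ∃ A : Fin r → Γ(P, W), fn ι k = ∑ i, A i * fn ι (f i) := by
  have h := fn_mem ι k
  rw [← hf.span_eq, Ideal.mem_span_range_iff_exists_fun] at h
  exact h.imp fun A hA => hA.symm

section Wedge

variable {L : X.Modules} (φ : ∀ U : X.affineOpens, (L.val.obj (op U.1)) ≃ₗ[Γ(X, U.1)]
    ↥(⋀[Γ(X, U.1)]^r ((Omega.conormal ι).val.obj (op U.1))))
  (hφ : ∀ (U V : X.affineOpens) (h : V.1 ≤ U.1) (e : Fin r → (Omega.conormal ι).val.obj (op U.1)),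
    L.val.map (homOfLE h).op ((φ U).symm (exteriorPower.ιMulti _ r e)) =
      (φ V).symm (exteriorPower.ιMulti _ r (fun j => (Omega.conormal ι).val.map (homOfLE h).op (e j))))

/-- The wedge of sections of the ideal. -/
def wedge {W : P.Opens} (hW : IsAffineOpen W) (a : Fin r → Id ι W) : Γ(L, ι ⁻¹ᵁ W) :=
  (φ ⟨ι ⁻¹ᵁ W, hW.preimage ι⟩).symm (exteriorPower.ιMulti _ r fun i => cn ι (a i))

include hφ in
theorem wedge_res {W V : P.Opens} (hW : IsAffineOpen W) (hV : IsAffineOpen V) (h : V ≤ W)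
    (h' : ι ⁻¹ᵁ V ≤ ι ⁻¹ᵁ W) (a : Fin r → Id ι W) :
    res L h' (wedge ι φ hW a) = wedge ι φ hV (fun i => res (ClSub.idealMod ι.ker) h (a i)) := by
  refine (hφ ⟨_, hW.preimage ι⟩ ⟨_, hV.preimage ι⟩ h' fun i => cn ι (a i)).trans ?_
  refine congrArg (fun e => (φ ⟨_, hV.preimage ι⟩).symm (exteriorPower.ιMulti _ r e)) (funext fun i => ?_)
  exact cn_res ι h h' (a i)

theorem wedge_det {W : P.Opens} (hW : IsAffineOpen W) {f a : Fin r → Id ι W}
    (A : Matrix (Fin r) (Fin r) Γ(P, W)) (hA : ∀ i, fn ι (a i) = ∑ j, A i j * fn ι (f j)) :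
    wedge ι φ hW a = ι.app W A.det • wedge ι φ hW f := by
  have ha : ∀ i, a i = ∑ j, A i j • f j := fun i => fn_injective ι <| by
    rw [hA, fn_sum]
    exact Finset.sum_congr rfl fun j _ => (fn_smul ι _ _).symm
  let U : X.affineOpens := ⟨ι ⁻¹ᵁ W, hW.preimage ι⟩
  let M := (Omega.conormal ι).val.obj (op U.1)
  let cf : Fin r → M := fun i => cn ι (f i)
  let Φ : (Fin r → Γ(X, U.1)) [⋀^Fin r]→ₗ[Γ(X, U.1)] L.val.obj (op U.1) :=
    (φ U).symm.toLinearMap.compAlternatingMap
      ((exteriorPower.ιMulti Γ(X, U.1) r (M := M)).compLinearMap (Fintype.linearCombination Γ(X, U.1) cf))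
  have h := KoszulZigzag.alt_top Φ (fun i j => ι.app W (A i j))
  have h1 : Φ (fun i j => ι.app W (A i j)) = wedge ι φ hW a := by
    refine congrArg (fun e => (φ U).symm (exteriorPower.ιMulti Γ(X, U.1) r e)) (funext fun i => ?_)
    rw [Fintype.linearCombination_apply, ha, cn_sum]
    exact Finset.sum_congr rfl fun j _ => (cn_smul ι _ _).symm
  have h2 : Φ (KoszulZigzag.std Γ(X, U.1) r) = wedge ι φ hW f := by
    refine congrArg (fun e => (φ U).symm (exteriorPower.ιMulti Γ(X, U.1) r e)) (funext fun i => ?_)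
    rw [KoszulZigzag.std, Fintype.linearCombination_apply_single, one_smul]
  rw [h1, h2] at h
  refine h.trans (congrArg (· • _) ?_)
  exact ((RingHom.map_det (ι.app W).hom A).symm : _)

theorem wedge_bijective {W : P.Opens} (hW : IsAffineOpen W) {f : Fin r → Id ι W} (hf : IsGens ι W f) :
    Function.Bijective fun b : Γ(X, ι ⁻¹ᵁ W) => b • wedge ι φ hW f := by
  let U : X.affineOpens := ⟨ι ⁻¹ᵁ W, hW.preimage ι⟩
  let S := Γ(X, U.1)
  let M := (Omega.conormal ι).val.obj (op U.1)
  let cf : Fin r → M := fun i => cn ι (f i)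
  let C := Fintype.linearCombination S cf
  have hC : Function.Bijective C := by
    refine ⟨(injective_iff_map_eq_zero _).2 fun c hc => ?_, fun m => ?_⟩
    · choose c' hc' using fun i => ι.app_surjective W hW (c i)
      have h0 : cn ι (∑ i, c' i • f i) = 0 := by
        rw [cn_sum]
        refine Eq.trans ?_ hc
        rw [Fintype.linearCombination_apply]
        exact Finset.sum_congr rfl fun i _ => (cn_smul ι _ _).trans (congrArg (· • _) (hc' i))
      have h1 : fn ι (∑ i, c' i • f i) ∈ RingHom.ker (ι.app W).hom • RingHom.ker (ι.app W).hom := by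
        refine Submodule.smul_induction_on ((cn_eq_zero ι hW _).1 h0) (fun b hb k _ => ?_) fun u v hu hv => ?_
        · rw [fn_smul, smul_eq_mul]
          exact Ideal.mul_mem_mul hb (fn_mem ι k)
        · rw [show fn ι (u + v) = fn ι u + fn ι v from map_add (OmegaSh.idealSect ι.ker W) u v]
          exact add_mem hu hv
      rw [fn_sum, Finset.sum_congr rfl fun i _ => fn_smul ι (c' i) (f i), ← hf.span_eq] at h1
      funext i
      rw [Pi.zero_apply, ← hc' i]
      have := KoszulZigzag.mem_of_mem_sq _ hf.regular c' h1 i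
      rwa [hf.span_eq] at this
    · obtain ⟨k, rfl⟩ := cn_surjective ι hW m
      obtain ⟨A, hA⟩ := exists_coord ι hf k
      have hk : k = ∑ i, A i • f i := fn_injective ι <| by
        rw [hA, fn_sum]
        exact Finset.sum_congr rfl fun i _ => (fn_smul ι _ _).symm
      refine ⟨fun i => ι.app W (A i), ?_⟩
      rw [Fintype.linearCombination_apply, hk, cn_sum]
      exact Finset.sum_congr rfl fun i _ => (cn_smul ι _ _).symm
  let E := LinearEquiv.ofBijective C hC
  let z := exteriorPower.ιMulti S r cf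
  let D : ↥(⋀[S]^r M) →ₗ[S] S := exteriorPower.alternatingMapLinearEquiv
    ((Pi.basisFun S (Fin r)).det.compLinearMap E.symm.toLinearMap)
  have hD : D z = 1 := by
    rw [exteriorPower.alternatingMapLinearEquiv_apply_ιMulti, AlternatingMap.compLinearMap_apply]
    refine Eq.trans (congrArg _ ?_) (Pi.basisFun S (Fin r)).det_self
    funext i
    refine (LinearEquiv.symm_apply_eq E).2 ?_
    show cf i = C (Pi.basisFun S (Fin r) i)
    rw [Pi.basisFun_apply, Fintype.linearCombination_apply_single, one_smul]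
  have hb : Function.Bijective fun b : S => b • z := by
    refine ⟨fun b b' h => ?_, fun w => ?_⟩
    · simpa [hD] using congrArg D h
    · have hw : w ∈ Submodule.span S (Set.range (exteriorPower.ιMulti S r (M := M))) := by
        rw [exteriorPower.ιMulti_span]; trivial
      induction hw using Submodule.span_induction with
      | mem w hw =>
        obtain ⟨v, rfl⟩ := hw
        choose c hc using fun i => hC.2 (v i)
        refine ⟨(Matrix.of c).det, ?_⟩
        have h := KoszulZigzag.alt_top ((exteriorPower.ιMulti S r (M := M)).compLinearMap C) c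
        simp only [AlternatingMap.compLinearMap_apply, hc] at h
        rw [h]
        refine congrArg (fun e => _ • exteriorPower.ιMulti S r (M := M) e) (funext fun i => ?_)
        rw [KoszulZigzag.std, Fintype.linearCombination_apply_single, one_smul]
      | zero => exact ⟨0, zero_smul _ _⟩
      | add x y _ _ hx hy =>
        obtain ⟨b, rfl⟩ := hx
        obtain ⟨b', rfl⟩ := hy
        exact ⟨b + b', add_smul _ _ _⟩
      | smul b x _ hx =>
        obtain ⟨b', rfl⟩ := hx
        exact ⟨b * b', mul_smul _ _ _⟩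
  refine (congrArg Function.Bijective (funext fun b => ?_)).mp ((φ U).symm.bijective.comp hb)
  exact map_smul (φ U).symm b z

include hφ in
theorem wedge_isFrame {W : P.Opens} (hW : IsAffineOpen W) {f : Fin r → Id ι W} (hf : IsGens ι W f) :
    InvX.IsFrame (M := L) (wedge ι φ hW f) := by
  have hloc : ∀ (V : X.Opens) (x : X), x ∈ V → x ∈ ι ⁻¹ᵁ W → ∃ g : Γ(P, W), x ∈ ι ⁻¹ᵁ P.basicOpen g ∧
      ι ⁻¹ᵁ P.basicOpen g ≤ V ⊓ ι ⁻¹ᵁ W := by
    intro V x hxV hxW
    obtain ⟨O, hO, hOV⟩ := ι.isClosedEmbedding.isInducing.isOpen_iff.1 V.2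
    obtain ⟨g, hg, hxg⟩ := hW.exists_basicOpen_le (V := ⟨O, hO⟩) ⟨ι x, show x ∈ ι ⁻¹' O from hOV ▸ hxV⟩ hxW
    refine ⟨g, hxg, fun y hy => ⟨?_, P.basicOpen_le g hy⟩⟩
    exact (Set.ext_iff.1 hOV y).1 (hg hy)
  have hbij : ∀ g : Γ(P, W), Function.Bijective fun b : Γ(X, ι ⁻¹ᵁ P.basicOpen g) =>
      b • res L (show ι ⁻¹ᵁ P.basicOpen g ≤ ι ⁻¹ᵁ W from fun y hy => P.basicOpen_le g hy) (wedge ι φ hW f) := fun g => by
    rw [wedge_res ι φ hφ hW (hW.basicOpen g) (P.basicOpen_le g)]
    exact wedge_bijective ι φ (hW.basicOpen g) (hf.basicOpen ι hW g)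
  refine InvX.isFrame_of_germ fun x hx => ⟨fun c c' hcc => ?_, fun z => ?_⟩
  · rw [← sub_eq_zero]
    obtain ⟨V, hxV, b, hb⟩ := X.presheaf.exists_germ_eq (x := x) (c - c')
    have hb0 : (c - c') • L.presheaf.germ (ι ⁻¹ᵁ W) x hx (wedge ι φ hW f) = 0 := by
      rw [sub_smul]; exact sub_eq_zero.2 hcc
    obtain ⟨g, hxg, hg⟩ := hloc V x hxV hx
    have h1 : ι ⁻¹ᵁ P.basicOpen g ≤ V := hg.trans inf_le_left
    have h2 : ι ⁻¹ᵁ P.basicOpen g ≤ ι ⁻¹ᵁ W := hg.trans inf_le_right
    have hz : L.presheaf.germ _ x hxg (resR h1 b • res L h2 (wedge ι φ hW f)) = 0 := by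
      rw [QCoh.germ_smul', InvX.germ_res' h2 hxg, InvX.germ_resR' h1 hxg, hb]
      exact hb0
    obtain ⟨O, hxO, i, j, hO⟩ := L.presheaf.germ_eq x hxg hxg _ _ (hz.trans (map_zero _).symm)
    obtain ⟨g', hxg', hg'⟩ := hloc O x hxO hx
    have h3 : ι ⁻¹ᵁ P.basicOpen g' ≤ ι ⁻¹ᵁ P.basicOpen g := fun y hy => i.le (hg' hy).1
    have h4 : ι ⁻¹ᵁ P.basicOpen g' ≤ O := hg'.trans inf_le_left
    have h5 : res L h3 (resR h1 b • res L h2 (wedge ι φ hW f)) = 0 := by
      have := congrArg (res L h4) (hO.trans (map_zero _))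
      rw [map_zero] at this
      refine Eq.trans ?_ this
      exact (QCoh.map_map _ _ _).symm
    rw [res_smul, res_res, resR_resR] at h5
    have h6 : resR (h3.trans h1) b = 0 := (hbij g').1 (h5.trans (zero_smul _ _).symm)
    rw [← hb, ← InvX.germ_resR' (h3.trans h1) hxg' b, h6, map_zero]
  · obtain ⟨V, hxV, m, rfl⟩ := L.presheaf.exists_germ_eq z
    obtain ⟨g, hxg, hg⟩ := hloc V x hxV hx
    have h1 : ι ⁻¹ᵁ P.basicOpen g ≤ V := hg.trans inf_le_left
    have h2 : ι ⁻¹ᵁ P.basicOpen g ≤ ι ⁻¹ᵁ W := hg.trans inf_le_right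
    obtain ⟨b, hb⟩ := (hbij g).2 (res L h1 m)
    refine ⟨X.presheaf.germ _ x hxg b, ?_⟩
    show X.presheaf.germ _ x hxg b • L.presheaf.germ (ι ⁻¹ᵁ W) x hx (wedge ι φ hW f) = _
    rw [← InvX.germ_res' h2 hxg, ← QCoh.germ_smul']
    exact (congrArg _ hb).trans (InvX.germ_res' h1 hxg m)

end Wedge

end Groth.Agent.ConormalWedge
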