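import Groth.Agent.Lib.AdaptedBasis
import Groth.Agent.Lib.ConormalWedge
import Groth.Agent.OmegaUniv.ToSectIso
import Groth.Agent.OmegaUniv.Unram
import Groth.Agent.PinchPO7.FrameLemmas
import Groth.Agent.Synt29.SmoothDim
import Groth.Agent.S9370

/-!
Frames of differentials adapted to a closed immersion between smooth schemes.
-/

set_option linter.style.haveILetI false
set_option linter.unusedSectionVars false
set_option backward.isDefEq.respectTransparency false
set_option backward.isDefEq.respectTransparency.types false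
set_option maxHeartbeats 1000000

universe u

open CategoryTheory CategoryTheory.Limits AlgebraicGeometry TopologicalSpace Opposite
open Groth.Agent.AModX Groth.Agent.H23

noncomputable section

namespace Groth.Agent.SmoothAdapted

section Sections

variable {X S : Scheme.{u}} (f : X ⟶ S) [QuasiSeparated f]

/-- Differentials of affine pieces as sections. -/
def secEquiv {U : X.Opens} (hU : IsAffineOpen U) {V : S.Opens} (hV : IsAffineOpen V) (e : U ≤ f ⁻¹ᵁ V) :
    letI := (f.appLE V U e).hom.toAlgebra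
    Ω[Γ(X, U)⁄Γ(S, V)] ≃ₗ[Γ(X, U)] Γ(Omega.sheaf f, U) :=
  letI := (f.appLE V U e).hom.toAlgebra
  LinearEquiv.ofBijective (OmAff.toSect f V U e).hom (OmegaUniv.toSect_bijective f hU hV e)

theorem secEquiv_D {U : X.Opens} (hU : IsAffineOpen U) {V : S.Opens} (hV : IsAffineOpen V) (e : U ≤ f ⁻¹ᵁ V)
    (b : Γ(X, U)) :
    letI := (f.appLE V U e).hom.toAlgebra
    secEquiv f hU hV e (KaehlerDifferential.D Γ(S, V) Γ(X, U) b) = OmegaSh.dSect f U b :=
  OmAff.toSect_d f V U e b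

theorem exists_frame_omega (n : ℕ) [SmoothOfRelativeDimension n f] (x : X) :
    ∃ (U : X.Opens) (_ : IsAffineOpen U) (V : S.Opens) (_ : IsAffineOpen V) (_ : U ≤ f ⁻¹ᵁ V) (_ : x ∈ U)
      (s : Fin n → Γ(Omega.sheaf f, U)), Frame.IsFrame (Omega.sheaf f) s := by
  obtain ⟨V, hV, U, hU, hxU, e, hstd⟩ :=
    SmoothOfRelativeDimension.exists_isStandardSmoothOfRelativeDimension (n := n) (f := f) x
  refine ⟨U, hU, V, hV, e, hxU, ?_⟩
  letI := (f.appLE V U e).hom.toAlgebra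
  haveI : Algebra.IsStandardSmoothOfRelativeDimension n Γ(S, V) Γ(X, U) := hstd
  haveI : Algebra.IsStandardSmooth Γ(S, V) Γ(X, U) :=
    Algebra.IsStandardSmoothOfRelativeDimension.isStandardSmooth n
  haveI : Nontrivial Γ(X, U) := by
    refine ⟨⟨0, 1, fun h => ?_⟩⟩
    have h1 := congrArg (X.presheaf.germ U x hxU) h
    rw [map_zero, map_one] at h1
    exact zero_ne_one h1
  have hr : Module.finrank Γ(X, U) Ω[Γ(X, U)⁄Γ(S, V)] = n := by
    have := Algebra.IsStandardSmoothOfRelativeDimension.rank_kaehlerDifferential (R := Γ(S, V)) (S := Γ(X, U)) n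
    simp [Module.finrank, this]
  let b := (Module.finBasisOfFinrankEq Γ(X, U) Ω[Γ(X, U)⁄Γ(S, V)] hr).reindex Equiv.ulift.symm
  obtain ⟨i⟩ := QCoh.exists_free_restrict (OmegaUniv.isQCoh_omega f) hU ((secEquiv f hU hV e).symm.trans b.repr)
  exact Frame.exists_frame i

/-- The basis of sections given by a frame. -/
def basisOfFrame {n : ℕ} {M : X.Modules} {U : X.Opens} {s : Fin n → Γ(M, U)} (hs : Frame.IsFrame M s) :
    Module.Basis (Fin n) Γ(X, U) Γ(M, U) :=
  Module.Basis.ofEquivFun (LinearEquiv.ofBijective (PinchPO7.combₗ M s U le_rfl) (hs U le_rfl)).symm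

theorem basisOfFrame_apply {n : ℕ} {M : X.Modules} {U : X.Opens} {s : Fin n → Γ(M, U)} (hs : Frame.IsFrame M s)
    (i : Fin n) : basisOfFrame hs i = s i := by
  classical
  rw [basisOfFrame, Module.Basis.coe_ofEquivFun]
  show Frame.comb M s U le_rfl (Pi.single i 1) = s i
  rw [Frame.comb, Finset.sum_eq_single i (fun j _ hj => by rw [Pi.single_eq_of_ne hj, zero_smul])
    (fun h => absurd (Finset.mem_univ i) h), Pi.single_eq_same, one_smul]
  exact res_self _

theorem comb_eq_sum {n : ℕ} {M : X.Modules} {U : X.Opens} (s : Fin n → Γ(M, U)) (c : Fin n → Γ(X, U)) :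
    Frame.comb M s U le_rfl c = ∑ i, c i • s i :=
  Finset.sum_congr rfl fun i _ => congrArg (c i • ·) (res_self _)

end Sections

variable {S P X : Scheme.{u}} {g : P ⟶ S} {f : X ⟶ S} [QuasiSeparated g] [QuasiSeparated f]
  (ι : X ⟶ P) [IsClosedImmersion ι]
  (cm : (Scheme.Modules.pullback ι).obj (Omega.sheaf g) ⟶ Omega.sheaf f)

/-- Restriction of differentials. -/
def rho (W : P.Opens) (m : Γ(Omega.sheaf g, W)) : Γ(Omega.sheaf f, ι ⁻¹ᵁ W) :=
  cm.app (ι ⁻¹ᵁ W) (OmegaSh.pullSect ι (Omega.sheaf g) W m)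

theorem rho_add (W : P.Opens) (m m' : Γ(Omega.sheaf g, W)) :
    rho ι cm W (m + m') = rho ι cm W m + rho ι cm W m' := by
  rw [rho, map_add, map_add]
  rfl

theorem rho_smul (W : P.Opens) (a : Γ(P, W)) (m : Γ(Omega.sheaf g, W)) :
    rho ι cm W (a • m) = ι.app W a • rho ι cm W m := by
  rw [rho, OmegaSh.pullSect_smul, Scheme.Modules.Hom.app_smul]
  rfl

theorem rho_sum (W : P.Opens) {σ : Type*} (s : Finset σ) (m : σ → Γ(Omega.sheaf g, W)) :
    rho ι cm W (∑ i ∈ s, m i) = ∑ i ∈ s, rho ι cm W (m i) :=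
  map_sum (AddMonoidHom.mk' (rho ι cm W) (rho_add ι cm W)) _ _

theorem rho_res {W V : P.Opens} (h : V ≤ W) (h' : ι ⁻¹ᵁ V ≤ ι ⁻¹ᵁ W) (m : Γ(Omega.sheaf g, W)) :
    res (Omega.sheaf f) h' (rho ι cm W m) = rho ι cm V (res (Omega.sheaf g) h m) :=
  (app_res cm h' _).symm.trans (congrArg (cm.app (ι ⁻¹ᵁ V))
    (app_res ((Scheme.Modules.pullbackPushforwardAdjunction ι).unit.app (Omega.sheaf g)) h m).symm)

variable (hc : OmegaSh.IsDiffCompat ι (OmegaSh.dOmega g) (OmegaSh.dOmega f) cm)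

include hc in
theorem rho_d (W : P.Opens) (a : Γ(P, W)) :
    rho ι cm W (OmegaSh.dSect g W a) = OmegaSh.dSect f (ι ⁻¹ᵁ W) (ι.app W a) := hc W a

include hc in
theorem rho_d_zero (W : P.Opens) (k : ConormalWedge.Id ι W) :
    rho ι cm W (OmegaSh.dSect g W (ConormalWedge.fn ι k)) = 0 := by
  rw [rho_d ι cm hc, RingHom.mem_ker.1 (ConormalWedge.fn_mem ι k)]
  exact map_zero ((OmegaSh.dOmega f).app (ι ⁻¹ᵁ W))

/-- The family of the differentials of sections of the ideal and of further differentials. -/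
def vec {c r n : ℕ} (hn : c + r = n) {W : P.Opens} (a : Fin c → ConormalWedge.Id ι W)
    (v : Fin r → Γ(Omega.sheaf g, W)) : Fin n → Γ(Omega.sheaf g, W) := fun k =>
  Fin.append (fun i => OmegaSh.dSect g W (ConormalWedge.fn ι (a i))) v (Fin.cast hn.symm k)

theorem vec_left {c r n : ℕ} (hn : c + r = n) {W : P.Opens} (a : Fin c → ConormalWedge.Id ι W)
    (v : Fin r → Γ(Omega.sheaf g, W)) (i : Fin c) :
    vec ι hn a v (Fin.cast hn (Fin.castAdd r i)) = OmegaSh.dSect g W (ConormalWedge.fn ι (a i)) := by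
  simp [vec]

theorem vec_right {c r n : ℕ} (hn : c + r = n) {W : P.Opens} (a : Fin c → ConormalWedge.Id ι W)
    (v : Fin r → Γ(Omega.sheaf g, W)) (j : Fin r) :
    vec ι hn a v (Fin.cast hn (Fin.natAdd c j)) = v j := by
  simp [vec]

theorem vec_res {c r n : ℕ} (hn : c + r = n) {W V : P.Opens} (h : V ≤ W) (a : Fin c → ConormalWedge.Id ι W)
    (v : Fin r → Γ(Omega.sheaf g, W)) (k : Fin n) :
    res (Omega.sheaf g) h (vec ι hn a v k) =
      vec ι hn (fun i => res (ClSub.idealMod ι.ker) h (a i)) (fun j => res _ h (v j)) k := by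
  obtain ⟨k, rfl⟩ : ∃ k' : Fin (c + r), Fin.cast hn k' = k := ⟨Fin.cast hn.symm k, by simp⟩
  refine Fin.addCases (fun i => ?_) (fun j => ?_) k
  · rw [vec_left, vec_left, ConormalWedge.fn_res ι h]
    exact (OmegaSh.dSect_map g h _).symm
  · rw [vec_right, vec_right]

/-- Frames adapted to the immersion. -/
structure Adapted (c r n : ℕ) (W : P.Opens) where
  /-- Generators of the ideal. -/
  gen : Fin c → ConormalWedge.Id ι W
  span_eq : Ideal.span (Set.range fun i => ConormalWedge.fn ι (gen i)) = RingHom.ker (ι.app W).hom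
  /-- Lifts of a frame of the differentials of the subscheme. -/
  om : Fin r → Γ(Omega.sheaf g, W)
  hn : c + r = n
  frameP : Frame.IsFrame (Omega.sheaf g) (vec ι hn gen om)
  frameX : Frame.IsFrame (Omega.sheaf f) fun j => rho ι cm W (om j)

/-- Restriction of adapted frames. -/
def Adapted.restrict {c r n : ℕ} {W : P.Opens} (D : Adapted ι cm c r n W) (hW : IsAffineOpen W) {V : P.Opens}
    (hV : IsAffineOpen V) (h : V ≤ W) : Adapted ι cm c r n V where
  gen i := res (ClSub.idealMod ι.ker) h (D.gen i)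
  span_eq := by
    have h1 := (ι.ker.map_ideal (U := ⟨V, hV⟩) (V := ⟨W, hW⟩) h).symm
    rw [Scheme.Hom.ker_apply, Scheme.Hom.ker_apply, ← D.span_eq, Ideal.map_span] at h1
    refine Eq.trans ?_ h1.symm
    refine congrArg Ideal.span ?_
    rw [← Set.range_comp]
    exact congrArg Set.range (funext fun i => ConormalWedge.fn_res ι h (D.gen i))
  om j := res _ h (D.om j)
  hn := D.hn
  frameP := by
    have h1 := D.frameP.res h
    rw [show (fun i => (Omega.sheaf g).presheaf.map (homOfLE h).op (vec ι D.hn D.gen D.om i)) = _ from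
      funext fun k => vec_res ι D.hn h D.gen D.om k] at h1
    exact h1
  frameX := by
    have h' : ι ⁻¹ᵁ V ≤ ι ⁻¹ᵁ W := fun y hy => h hy
    have h1 := D.frameX.res h'
    rw [show (fun i => (Omega.sheaf f).presheaf.map (homOfLE h').op (rho ι cm W (D.om i))) = _ from
      funext fun j => rho_res ι cm h h' (D.om j)] at h1
    exact h1

include hc in
theorem rho_secEquiv (hfg : ι ≫ g = f) {W : P.Opens} (hW : IsAffineOpen W) {V : S.Opens} (hV : IsAffineOpen V)
    (e : W ≤ g ⁻¹ᵁ V) (e' : ι ⁻¹ᵁ W ≤ f ⁻¹ᵁ V) :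
    letI := (g.appLE V W e).hom.toAlgebra
    letI := (f.appLE V (ι ⁻¹ᵁ W) e').hom.toAlgebra
    letI := (ι.app W).hom.toAlgebra
    haveI : IsScalarTower Γ(S, V) Γ(P, W) Γ(X, ι ⁻¹ᵁ W) := IsScalarTower.of_algebraMap_eq' (by
      show (f.appLE V (ι ⁻¹ᵁ W) e').hom = (g.appLE V W e ≫ ι.app W).hom
      rw [Scheme.Hom.app_eq_appLE, Scheme.Hom.appLE_comp_appLE]
      subst hfg
      rfl)
    ∀ z, rho ι cm W (secEquiv g hW hV e z) =
      secEquiv f (hW.preimage ι) hV e' (KaehlerDifferential.map Γ(S, V) Γ(S, V) Γ(P, W) Γ(X, ι ⁻¹ᵁ W) z) := by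
  letI := (g.appLE V W e).hom.toAlgebra
  letI := (f.appLE V (ι ⁻¹ᵁ W) e').hom.toAlgebra
  letI := (ι.app W).hom.toAlgebra
  haveI : IsScalarTower Γ(S, V) Γ(P, W) Γ(X, ι ⁻¹ᵁ W) := IsScalarTower.of_algebraMap_eq' (by
    show (f.appLE V (ι ⁻¹ᵁ W) e').hom = (g.appLE V W e ≫ ι.app W).hom
    rw [Scheme.Hom.app_eq_appLE, Scheme.Hom.appLE_comp_appLE]
    subst hfg
    rfl)
  intro z
  have hz : z ∈ Submodule.span Γ(P, W) (Set.range (KaehlerDifferential.D Γ(S, V) Γ(P, W))) := by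
    rw [KaehlerDifferential.span_range_derivation]; trivial
  induction hz using Submodule.span_induction with
  | mem y hy =>
    obtain ⟨b, rfl⟩ := hy
    rw [secEquiv_D g hW hV e b, KaehlerDifferential.map_D, rho_d ι cm hc]
    exact (secEquiv_D f (hW.preimage ι) hV e' _).symm
  | zero => rw [map_zero, map_zero, map_zero]; exact map_zero (AddMonoidHom.mk' (rho ι cm W) (rho_add ι cm W))
  | add y y' _ _ h h' => rw [map_add, map_add, map_add, rho_add, h, h']
  | smul a y _ h =>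
    rw [map_smul, rho_smul, h, map_smul, ← algebraMap_smul Γ(X, ι ⁻¹ᵁ W) a, map_smul]
    rfl

include hc in
theorem exists_adapted {n r : ℕ} [SmoothOfRelativeDimension n g] [SmoothOfRelativeDimension r f] (hfg : ι ≫ g = f)
    {c : ℕ} (x : X) {W₀ : P.Opens} (hW₀ : IsAffineOpen W₀) (hxW₀ : ι x ∈ W₀)
    {f₀ : Fin c → ConormalWedge.Id ι W₀} (hf₀ : ConormalWedge.IsGens ι W₀ f₀) :
    ∃ W : P.Opens, IsAffineOpen W ∧ ι x ∈ W ∧
      ∃ D : Adapted ι cm c r n W, ConormalWedge.IsGens ι W D.gen := by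
  haveI : Smooth g := SmoothOfRelativeDimension.smooth n g
  haveI : Smooth f := SmoothOfRelativeDimension.smooth r f
  obtain ⟨W₁, hW₁, V₁, hV₁, e₁, hxW₁, s, hs⟩ := exists_frame_omega g n (ι x)
  obtain ⟨U₂, hU₂, V₂, hV₂, e₂, hxU₂, t, ht⟩ := exists_frame_omega f r x
  obtain ⟨_, ⟨V, hV, rfl⟩, hxV, -⟩ := S.isBasis_affineOpens.exists_subset_of_mem_open (Set.mem_univ (g (ι x))) isOpen_univ
  obtain ⟨O, hO, hOU⟩ := ι.isClosedEmbedding.isInducing.isOpen_iff.1 U₂.2
  have hxO : ι x ∈ O := show x ∈ ι ⁻¹' O from hOU ▸ hxU₂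
  let O' : P.Opens := W₁ ⊓ g ⁻¹ᵁ V ⊓ ⟨O, hO⟩
  obtain ⟨g₀, hg₀, hxg₀⟩ := hW₀.exists_basicOpen_le (V := O') ⟨ι x, ⟨⟨hxW₁, hxV⟩, hxO⟩⟩ hxW₀
  let W := P.basicOpen g₀
  have hW : IsAffineOpen W := hW₀.basicOpen g₀
  have hf := hf₀.basicOpen ι hW₀ g₀
  have eW₁ : W ≤ W₁ := hg₀.trans (inf_le_left.trans inf_le_left)
  have e : W ≤ g ⁻¹ᵁ V := hg₀.trans (inf_le_left.trans inf_le_right)
  have eU₂ : ι ⁻¹ᵁ W ≤ U₂ := fun y hy => (Set.ext_iff.1 hOU y).1 (hg₀ hy).2
  have e' : ι ⁻¹ᵁ W ≤ f ⁻¹ᵁ V := by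
    subst hfg
    exact fun y hy => e hy
  letI := (g.appLE V W e).hom.toAlgebra
  letI := (f.appLE V (ι ⁻¹ᵁ W) e').hom.toAlgebra
  letI := (ι.app W).hom.toAlgebra
  haveI : IsScalarTower Γ(S, V) Γ(P, W) Γ(X, ι ⁻¹ᵁ W) := IsScalarTower.of_algebraMap_eq' (by
    show (f.appLE V (ι ⁻¹ᵁ W) e').hom = (g.appLE V W e ≫ ι.app W).hom
    rw [Scheme.Hom.app_eq_appLE, Scheme.Hom.appLE_comp_appLE]
    subst hfg
    rfl)
  haveI : Algebra.Smooth Γ(S, V) Γ(P, W) := g.smooth_appLE hV hW e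
  haveI : Algebra.Smooth Γ(S, V) Γ(X, ι ⁻¹ᵁ W) := f.smooth_appLE hV (hW.preimage ι) e'
  haveI : Nontrivial Γ(X, ι ⁻¹ᵁ W) := by
    refine ⟨⟨0, 1, fun h => ?_⟩⟩
    have h1 := congrArg (X.presheaf.germ (ι ⁻¹ᵁ W) x hxg₀) h
    rw [map_zero, map_one] at h1
    exact zero_ne_one h1
  let fW := fun i => res (ClSub.idealMod ι.ker) (P.basicOpen_le g₀) (f₀ i)
  have hsW := hs.res eW₁
  have htW := ht.res eU₂
  let EW := secEquiv g hW hV e
  let EU := secEquiv f (hW.preimage ι) hV e'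
  obtain ⟨hn, ω, hω, hdet⟩ := AdaptedBasis.exists_adapted (R := Γ(S, V)) (A := Γ(P, W)) (B := Γ(X, ι ⁻¹ᵁ W))
    (ι.app_surjective W hW) (fun i => ConormalWedge.fn ι (fW i)) hf.regular hf.span_eq
    ((basisOfFrame hsW).map EW.symm) ((basisOfFrame htW).map EU.symm)
  let δ := ((basisOfFrame hsW).map EW.symm).det fun k =>
    Fin.append (fun i => KaehlerDifferential.D Γ(S, V) Γ(P, W) (ConormalWedge.fn ι (fW i))) ω (Fin.cast hn.symm k)
  let W' := P.basicOpen δ
  have hW'W : W' ≤ W := P.basicOpen_le δ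
  have hxW' : ι x ∈ W' := by
    show x ∈ ι ⁻¹ᵁ P.basicOpen δ
    rw [Scheme.preimage_basicOpen]
    show x ∈ X.basicOpen (algebraMap Γ(P, W) Γ(X, ι ⁻¹ᵁ W) δ)
    rw [X.basicOpen_of_isUnit hdet]
    exact hxg₀
  have hv : ∀ k, EW (Fin.append (fun i => KaehlerDifferential.D Γ(S, V) Γ(P, W) (ConormalWedge.fn ι (fW i))) ω
      (Fin.cast hn.symm k)) = vec ι hn fW (fun j => EW (ω j)) k := fun k => by
    obtain ⟨k, rfl⟩ : ∃ k' : Fin (c + r), Fin.cast hn k' = k := ⟨Fin.cast hn.symm k, by simp⟩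
    refine Fin.addCases (fun i => ?_) (fun j => ?_) k
    · rw [vec_left]
      simp only [Fin.cast_cast, Fin.cast_eq_self, Fin.append_left]
      exact secEquiv_D g hW hV e _
    · rw [vec_right]
      simp only [Fin.cast_cast, Fin.cast_eq_self, Fin.append_right]
  refine ⟨W', hW.basicOpen δ, hxW', ⟨fun i => res (ClSub.idealMod ι.ker) hW'W (fW i),
    (hf.basicOpen ι hW δ).span_eq, fun j => res _ hW'W (EW (ω j)), hn, ?_, ?_⟩, hf.basicOpen ι hW δ⟩
  · let C : Matrix (Fin n) (Fin n) Γ(P, W') :=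
      ((((basisOfFrame hsW).map EW.symm).toMatrix fun k =>
        Fin.append (fun i => KaehlerDifferential.D Γ(S, V) Γ(P, W) (ConormalWedge.fn ι (fW i))) ω
          (Fin.cast hn.symm k)).map (resR hW'W)).transpose
    refine PinchPO7.isFrame_of_det (hsW.res hW'W) C (fun k => ?_) ?_
    · rw [← vec_res ι hn hW'W, ← hv, comb_eq_sum]
      let z := Fin.append (fun i => KaehlerDifferential.D Γ(S, V) Γ(P, W) (ConormalWedge.fn ι (fW i))) ω
        (Fin.cast hn.symm k)
      conv_rhs => rw [← (basisOfFrame hsW).sum_repr (EW z), map_sum]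
      refine Finset.sum_congr rfl fun j _ => ?_
      rw [res_smul, basisOfFrame_apply]
      rfl
    · rw [Matrix.det_transpose]
      rw [show ((((basisOfFrame hsW).map EW.symm).toMatrix fun k =>
        Fin.append (fun i => KaehlerDifferential.D Γ(S, V) Γ(P, W) (ConormalWedge.fn ι (fW i))) ω
          (Fin.cast hn.symm k)).map (resR hW'W)).det = resR hW'W δ from ((resR hW'W).map_det _).symm]
      exact isUnit_resR hW'W δ le_rfl
  · have h' : ι ⁻¹ᵁ W' ≤ ι ⁻¹ᵁ W := fun y hy => hW'W hy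
    have h1 := htW.res h'
    refine (congrArg (Frame.IsFrame _) (funext fun j => ?_)).mp h1
    rw [← rho_res ι cm hW'W h', rho_secEquiv ι cm hc hfg hW hV e e', hω]
    simp [EU, basisOfFrame_apply]
    rfl

end Groth.Agent.SmoothAdapted
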