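import Groth.Agent.ProjPt.Poly
import Groth.Agent.PnCoh.TwistTriv
import Groth.Agent.InvX.Tensor
import Groth.Agent.Lib.SmoothAdapted
import Groth.Prelude.Def_Twist2
import Mathlib.RingTheory.Kaehler.Polynomial

/-!
The standard charts of projective space: coordinates, frames of the twisting sheaves and of the differentials.
-/

set_option autoImplicit false
set_option linter.style.haveILetI false
set_option linter.unusedSectionVars false
set_option backward.isDefEq.respectTransparency false
set_option backward.isDefEq.respectTransparency.types false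
set_option maxHeartbeats 1000000

universe u

open CategoryTheory CategoryTheory.Limits AlgebraicGeometry TopologicalSpace Opposite MvPolynomial
open Groth.Agent.AModX
open HomogeneousLocalization (Away)

noncomputable section

namespace Groth.Agent.PnChart

attribute [local instance] MvPolynomial.gradedAlgebra

variable (n : ℕ) (R : Type u) [CommRing R]

local notation "𝒢" => CohB1.polyGrading n R
local notation "T" => (MvPolynomial.X : Fin (n + 1) → MvPolynomial (Fin (n + 1)) R)

/-- The standard chart. -/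
abbrev D (i : Fin (n + 1)) : (CohB1.ProjSpace n R).Opens := Proj.basicOpen 𝒢 (T i)

/-- The coordinate function `x_l / x_i`. -/
def a (i l : Fin (n + 1)) : Γ(CohB1.ProjSpace n R, D n R i) :=
  (Proj.awayToSection 𝒢 (T i)).hom (ProjPt.crd i l)

theorem a_self (i : Fin (n + 1)) : a n R i i = 1 := by rw [a, ProjPt.crd_self, map_one]

theorem isAffineOpen_D (i : Fin (n + 1)) : IsAffineOpen (D n R i) := by
  have h : D n R i = (Proj.awayι 𝒢 (T i) (ProjPt.X_mem i) Nat.one_pos).opensRange :=
    (Proj.opensRange_awayι _ _ _ _).symm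
  rw [h]
  exact isAffineOpen_opensRange _

theorem exists_mem_D (x : CohB1.ProjSpace n R) : ∃ i, x ∈ D n R i := by
  have h := Proj.iSup_basicOpen_eq_top 𝒢 T (by
    intro p hp
    have hp0 : MvPolynomial.coeff 0 p = 0 := by
      have hp' := (HomogeneousIdeal.mem_irrelevant_iff 𝒢 p).1 hp
      rw [GradedRing.proj_apply] at hp'
      have h0 : MvPolynomial.homogeneousComponent 0 p = 0 :=
        (MvPolynomial.decomposition.decompose'_apply p 0).symm.trans hp'
      rw [MvPolynomial.homogeneousComponent_zero] at h0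
      exact MvPolynomial.C_eq_zero.1 h0
    rw [← Set.image_univ, MvPolynomial.mem_ideal_span_X_image]
    intro m hm
    by_contra! hno
    have : m = 0 := Finsupp.ext fun i => hno i (Set.mem_univ i)
    subst this
    exact MvPolynomial.mem_support_iff.1 hm hp0)
  exact TopologicalSpace.Opens.mem_iSup.1 (show x ∈ ⨆ i, Proj.basicOpen 𝒢 (T i) by rw [h]; trivial)

theorem awayToSection_res (i j l : Fin (n + 1)) (h : D n R i ⊓ D n R j ≤ D n R l)
    (g : MvPolynomial (Fin (n + 1)) R) (hg : g ∈ 𝒢 1) (hx : T i * T j = T l * g)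
    (h' : D n R i ⊓ D n R j ≤ Proj.basicOpen 𝒢 (T i * T j)) (z : Away 𝒢 (T l)) :
    resR h ((Proj.awayToSection 𝒢 (T l)).hom z) =
      resR h' ((Proj.awayToSection 𝒢 (T i * T j)).hom (HomogeneousLocalization.awayMap 𝒢 hg hx z)) := by
  have h1 := ConcreteCategory.congr_hom (Proj.awayMap_awayToSection 𝒢 (f := T l) hg hx) z
  rw [CommRingCat.comp_apply, CommRingCat.comp_apply] at h1
  refine Eq.trans ?_ (congrArg (resR h') h1).symm
  exact (resR_resR _ _ _).symm

theorem away_rel (i j l : Fin (n + 1)) :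
    HomogeneousLocalization.awayMap 𝒢 (ProjPt.X_mem j) rfl (ProjPt.crd (R := R) i l) =
      HomogeneousLocalization.awayMap 𝒢 (ProjPt.X_mem j) rfl (ProjPt.crd i j) *
        HomogeneousLocalization.awayMap 𝒢 (ProjPt.X_mem i) (mul_comm (T i) (T j)) (ProjPt.crd j l) := by
  refine HomogeneousLocalization.val_injective _ ?_
  rw [HomogeneousLocalization.val_mul, ProjPt.crd, ProjPt.crd, ProjPt.crd, HomogeneousLocalization.awayMap_mk,
    HomogeneousLocalization.awayMap_mk, HomogeneousLocalization.awayMap_mk, Away.val_mk, Away.val_mk, Away.val_mk,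
    Localization.mk_mul, Localization.mk_eq_mk_iff, Localization.r_iff_exists]
  refine ⟨1, ?_⟩
  simp only [Submonoid.coe_one, one_mul, Submonoid.coe_mul]
  ring

theorem a_rel {V : (CohB1.ProjSpace n R).Opens} (i j l : Fin (n + 1)) (hi : V ≤ D n R i) (hj : V ≤ D n R j) :
    resR hi (a n R i l) = resR hi (a n R i j) * resR hj (a n R j l) := by
  have h' : D n R i ⊓ D n R j ≤ Proj.basicOpen 𝒢 (T i * T j) := (Proj.basicOpen_mul _ _ _).ge
  have h0 : resR (inf_le_left : D n R i ⊓ D n R j ≤ _) (a n R i l) =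
      resR inf_le_left (a n R i j) * resR (inf_le_right : D n R i ⊓ D n R j ≤ _) (a n R j l) := by
    rw [a, a, a, awayToSection_res n R i j i _ _ (ProjPt.X_mem j) rfl h',
      awayToSection_res n R i j i _ _ (ProjPt.X_mem j) rfl h',
      awayToSection_res n R i j j _ _ (ProjPt.X_mem i) (mul_comm _ _) h', away_rel, map_mul, map_mul]
  have h1 := congrArg (resR (le_inf hi hj)) h0
  rw [map_mul] at h1
  simp only [resR_resR] at h1
  exact h1

/-- The structure map on a chart. -/
abbrev str (i : Fin (n + 1)) : Γ(Spec (CommRingCat.of R), ⊤) →+* Γ(CohB1.ProjSpace n R, D n R i) :=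
  ((CohB1.ProjSpace.toSpec n R).appLE ⊤ (D n R i) (by simp)).hom

theorem str_eq (i : Fin (n + 1)) (c : R) :
    str n R i ((Scheme.ΓSpecIso (CommRingCat.of R)).inv c) = (Proj.awayToSection 𝒢 (T i)).hom (ProjPt.cst i c) := by
  let φ : CommRingCat.of R ⟶ Γ(CohB1.ProjSpace n R, D n R i) :=
    CommRingCat.ofHom (ProjPt.cst i) ≫ Proj.awayToSection 𝒢 (T i)
  have h : (D n R i).ι ≫ CohB1.ProjSpace.toSpec n R = (D n R i).toSpecΓ ≫ Spec.map φ := by
    let e := Proj.basicOpenIsoSpec 𝒢 (T i) (ProjPt.X_mem i) Nat.one_pos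
    have h1 : (D n R i).ι = e.hom ≫ Proj.awayι 𝒢 (T i) (ProjPt.X_mem i) Nat.one_pos :=
      (Iso.hom_inv_id_assoc e _).symm
    have h2 : Proj.awayι 𝒢 (T i) (ProjPt.X_mem i) Nat.one_pos ≫ CohB1.ProjSpace.toSpec n R =
        Spec.map (CommRingCat.ofHom (ProjPt.cst i)) := by
      show Proj.awayι 𝒢 (T i) (ProjPt.X_mem i) Nat.one_pos ≫ Proj.toSpecZero 𝒢 ≫ _ = _
      rw [← Category.assoc, Proj.awayι_toSpecZero, ← Spec.map_comp]
      rfl
    rw [h1, Category.assoc, h2, Spec.map_comp, ← Category.assoc]
    rfl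
  have h2 := congrArg (fun g => (Scheme.Hom.appTop g).hom ((Scheme.ΓSpecIso (CommRingCat.of R)).inv c)) h
  dsimp only at h2
  rw [Scheme.Hom.comp_appTop, Scheme.Hom.comp_appTop, CommRingCat.comp_apply, CommRingCat.comp_apply,
    Scheme.Opens.toSpecΓ_appTop, CommRingCat.comp_apply] at h2
  have h3 := ConcreteCategory.congr_hom (Scheme.ΓSpecIso_naturality φ) ((Scheme.ΓSpecIso (CommRingCat.of R)).inv c)
  rw [CommRingCat.comp_apply, CommRingCat.comp_apply, Iso.inv_hom_id_apply] at h3
  rw [h3] at h2
  have h4 := congrArg (D n R i).topIso.hom h2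
  rw [Iso.inv_hom_id_apply] at h4
  refine Eq.trans ?_ h4
  simp only [Scheme.Opens.topIso_hom, Scheme.Opens.ι_appTop, ← CommRingCat.comp_apply]
  show (Scheme.Hom.appLE (CohB1.ProjSpace.toSpec n R) ⊤ (D n R i) (by simp)).hom _ = _
  refine ConcreteCategory.congr_hom ?_ ((Scheme.ΓSpecIso (CommRingCat.of R)).inv c)
  simp only [Scheme.Hom.appLE, Category.assoc, ← Functor.map_comp]
  exact congrArg (fun m => (CohB1.ProjSpace.toSpec n R).appTop ≫ (CohB1.ProjSpace n R).presheaf.map m)
    (Subsingleton.elim _ _)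

/-- The polynomial ring of a chart. -/
def poly (i : Fin (n + 1)) : MvPolynomial (Fin n) R →+* Away 𝒢 (T i) :=
  eval₂Hom (ProjPt.cst i) fun k => ProjPt.crd i (i.succAbove k)

theorem poly_bijective (i : Fin (n + 1)) : Function.Bijective (poly n R i) := by
  let f : MvPolynomial (Fin (n + 1)) R →+* MvPolynomial (Fin n) R :=
    eval₂Hom MvPolynomial.C (i.insertNth 1 (MvPolynomial.X (R := R)))
  have hfi : f (T i) = 1 := by simp [f]
  have hu : IsUnit (f (T i)) := hfi ▸ isUnit_one
  let inv := ProjPt.coordHom 𝒢 f hu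
  have h1 : inv.comp (poly n R i) = RingHom.id _ := by
    refine MvPolynomial.ringHom_ext (fun c => ?_) fun k => ?_
    · show inv (poly n R i (MvPolynomial.C c)) = MvPolynomial.C c
      rw [poly, eval₂Hom_C, ProjPt.coordHom_cst]
      simp [f]
    · show inv (poly n R i (MvPolynomial.X k)) = MvPolynomial.X k
      rw [poly, eval₂Hom_X', ProjPt.coordHom_crd _ _ _ hfi]
      simp [f]
  have h2 : (poly n R i).comp inv = RingHom.id _ := by
    refine ProjPt.away_ext i _ _ (RingHom.ext fun c => ?_) fun k => ?_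
    · show poly n R i (inv (ProjPt.cst i c)) = ProjPt.cst i c
      rw [ProjPt.coordHom_cst]
      simp [f, poly]
    · show poly n R i (inv (ProjPt.crd i k)) = ProjPt.crd i k
      rw [ProjPt.coordHom_crd _ _ _ hfi]
      rcases Fin.eq_self_or_eq_succAbove i k with rfl | ⟨j, rfl⟩
      · simp [f, poly, ProjPt.crd_self]
      · simp [f, poly]
  exact Function.bijective_iff_has_inverse.2
    ⟨inv, fun p => RingHom.congr_fun h1 p, fun z => RingHom.congr_fun h2 z⟩

theorem aeval_bijective (i : Fin (n + 1)) :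
    letI := (str n R i).toAlgebra
    Function.Bijective (MvPolynomial.aeval (R := Γ(Spec (CommRingCat.of R), ⊤))
      fun k => a n R i (i.succAbove k)) := by
  letI := (str n R i).toAlgebra
  let σ := (Scheme.ΓSpecIso (CommRingCat.of R)).commRingCatIsoToRingEquiv.symm
  have hσ : ∀ c, (σ c : Γ(Spec (CommRingCat.of R), ⊤)) = (Scheme.ΓSpecIso (CommRingCat.of R)).inv c := fun c => rfl
  haveI : IsIso (Proj.awayToSection 𝒢 (T i)) :=
    inferInstanceAs (IsIso (Proj.basicOpenIsoAway 𝒢 (T i) (ProjPt.X_mem i) Nat.one_pos).hom)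
  have h : (MvPolynomial.aeval (R := Γ(Spec (CommRingCat.of R), ⊤))
      fun k => a n R i (i.succAbove k)).toRingHom.comp (MvPolynomial.map σ.toRingHom) =
      (Proj.awayToSection 𝒢 (T i)).hom.comp (poly n R i) := by
    refine MvPolynomial.ringHom_ext (fun c => ?_) fun k => ?_
    · show MvPolynomial.aeval (fun k => a n R i (i.succAbove k)) (MvPolynomial.map σ.toRingHom (C c)) =
        ((Proj.awayToSection 𝒢 (T i)).hom (poly n R i (C c)) : Γ(CohB1.ProjSpace n R, D n R i))
      rw [MvPolynomial.map_C, MvPolynomial.aeval_C, poly, eval₂Hom_C]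
      exact str_eq n R i c
    · show MvPolynomial.aeval (fun k => a n R i (i.succAbove k)) (MvPolynomial.map σ.toRingHom (X k)) =
        ((Proj.awayToSection 𝒢 (T i)).hom (poly n R i (X k)) : Γ(CohB1.ProjSpace n R, D n R i))
      rw [MvPolynomial.map_X, MvPolynomial.aeval_X, poly, eval₂Hom_X']
      rfl
  have h2 : Function.Bijective (MvPolynomial.map (σ := Fin n) σ.toRingHom) :=
    ⟨MvPolynomial.map_injective _ σ.injective, MvPolynomial.map_surjective _ σ.surjective⟩
  refine (Function.Bijective.of_comp_iff _ h2).1 ?_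
  refine (congrArg Function.Bijective (funext fun p => (RingHom.congr_fun h p).symm)).mp ?_
  exact (ConcreteCategory.bijective_of_isIso (Proj.awayToSection 𝒢 (T i))).comp (poly_bijective n R i)

theorem kaehler_bijective {A B : Type u} [CommRing A] [CommRing B] [Algebra A B] {m : ℕ} (x : Fin m → B)
    (hx : Function.Bijective (MvPolynomial.aeval (R := A) x)) :
    Function.Bijective fun c : Fin m → B => ∑ k, c k • KaehlerDifferential.D A B (x k) := by
  classical
  let e := AlgEquiv.ofBijective (MvPolynomial.aeval (R := A) x) hx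
  let L : (Fin m → B) →ₗ[B] Ω[B⁄A] := Fintype.linearCombination B fun k => KaehlerDifferential.D A B (x k)
  let δ : Derivation A B (Fin m → B) :=
    Derivation.mk'
      { toFun := fun b k => e (MvPolynomial.pderiv k (e.symm b))
        map_add' := fun b b' => funext fun k => by simp
        map_smul' := fun r b => funext fun k => by simp }
      fun b b' => funext fun k => by simp
  let M := δ.liftKaehlerDifferential
  have hδ : ∀ k, δ (x k) = Pi.single k 1 := fun k => by
    have hk : e.symm (x k) = MvPolynomial.X k := e.symm_apply_eq.2 (MvPolynomial.aeval_X x k).symm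
    funext l
    show e (MvPolynomial.pderiv l (e.symm (x k))) = _
    rw [hk, MvPolynomial.pderiv_X]
    by_cases hlk : l = k
    · subst hlk; simp
    · simp [hlk]
  have h1 : ∀ c, M (L c) = c := fun c => by
    rw [Fintype.linearCombination_apply, map_sum]
    simp only [map_smul, M, Derivation.liftKaehlerDifferential_comp_D, hδ]
    funext l
    simp [Finset.sum_apply, Pi.single_apply]
  refine ⟨fun c c' hcc => ?_, ?_⟩
  · have hL : L c = L c' := by simpa [L, Fintype.linearCombination_apply] using hcc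
    rw [← h1 c, ← h1 c', hL]
  have hrange : ∀ z, z ∈ LinearMap.range L := fun z => by
    have hz : z ∈ Submodule.span B (Set.range (KaehlerDifferential.D A B)) := by
      rw [KaehlerDifferential.span_range_derivation]; trivial
    refine (Submodule.span_le.2 ?_) hz
    rintro _ ⟨b, rfl⟩
    obtain ⟨p, rfl⟩ := hx.2 b
    show KaehlerDifferential.D A B _ ∈ LinearMap.range L
    induction p using MvPolynomial.induction_on with
    | C r => rw [MvPolynomial.aeval_C, Derivation.map_algebraMap]; exact zero_mem _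
    | add p q hp hq => rw [map_add, map_add]; exact add_mem hp hq
    | mul_X p k hp =>
      rw [map_mul, MvPolynomial.aeval_X, Derivation.leibniz]
      refine add_mem (Submodule.smul_mem _ _ ⟨Pi.single k 1, ?_⟩) (Submodule.smul_mem _ _ hp)
      rw [Fintype.linearCombination_apply_single, one_smul]
  intro z
  obtain ⟨c, hc⟩ := hrange z
  exact ⟨c, by simpa [L, Fintype.linearCombination_apply] using hc⟩

variable [QuasiSeparated (CohB1.ProjSpace.toSpec n R)]

local notation "Ω" => Omega.sheaf (CohB1.ProjSpace.toSpec n R)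

/-- The differentials of the coordinates. -/
abbrev da (i l : Fin (n + 1)) : Γ(Ω, D n R i) :=
  OmegaSh.dSect (CohB1.ProjSpace.toSpec n R) (D n R i) (a n R i l)

theorem isFrame_omega (i : Fin (n + 1)) : H23.Frame.IsFrame Ω fun k => da n R i (i.succAbove k) := by
  letI := (str n R i).toAlgebra
  let E := SmoothAdapted.secEquiv (CohB1.ProjSpace.toSpec n R) (isAffineOpen_D n R i)
    (isAffineOpen_top (Spec (CommRingCat.of R))) (by simp)
  have hb : Function.Bijective fun c : Fin n → Γ(CohB1.ProjSpace n R, D n R i) =>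
      ∑ k, c k • da n R i (i.succAbove k) := by
    refine (congrArg Function.Bijective (funext fun c => ?_)).mp
      (E.bijective.comp (kaehler_bijective (fun k => a n R i (i.succAbove k)) (aeval_bijective n R i)))
    show E (∑ k, c k • _) = _
    rw [map_sum]
    exact Finset.sum_congr rfl fun k _ => (map_smul E _ _).trans
      (congrArg (c k • ·) (SmoothAdapted.secEquiv_D _ _ _ _ _))
  let Lc : (Fin n → Γ(CohB1.ProjSpace n R, D n R i)) ≃ₗ[Γ(CohB1.ProjSpace n R, D n R i)] Γ(Ω, D n R i) :=
    LinearEquiv.ofBijective (Fintype.linearCombination _ fun k => da n R i (i.succAbove k))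
      ((congrArg Function.Bijective (funext fun c => (Fintype.linearCombination_apply _ _ c).symm)).mp hb)
  obtain ⟨e⟩ := QCoh.exists_free_restrict (OmegaUniv.isQCoh_omega (CohB1.ProjSpace.toSpec n R))
    (isAffineOpen_D n R i) (Lc.symm.trans
      ((Finsupp.linearEquivFunOnFinite _ _ _).symm.trans (Finsupp.domLCongr Equiv.ulift.symm)))
  obtain ⟨s, hs⟩ := H23.Frame.exists_frame e
  refine PinchPO7.isFrame_of_span hs fun k => ?_
  obtain ⟨c, hc⟩ := hb.2 (s k)
  exact ⟨c, (SmoothAdapted.comb_eq_sum _ _).trans hc⟩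

variable (d : ℤ)

theorem nonVan_D (i : Fin (n + 1)) {V : (CohB1.ProjSpace n R).Opens} (h : V ≤ D n R i) :
    PnCoh.NonVan (𝒜 := 𝒢) (T i) V := fun x => h x.2

/-- The frame `x_i ^ d` of `O(d)`. -/
def tw (i : Fin (n + 1)) : Γ(Twist.twistProjSpace n R d, D n R i) :=
  PnCoh.twPow (ProjPt.X_mem i) d (nonVan_D n R i le_rfl)

theorem res_tw (i : Fin (n + 1)) {V : (CohB1.ProjSpace n R).Opens} (h : V ≤ D n R i) :
    res (Twist.twistProjSpace n R d) h (tw n R d i) =
      (PnCoh.twPow (ProjPt.X_mem i) d (nonVan_D n R i h) : Γ(Twist.twistProjSpace n R d, V)) := rfl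

theorem isFrame_tw (i : Fin (n + 1)) : InvX.IsFrame (tw n R d i) := by
  intro V hV
  exact PnCoh.trivMap_bijective (ProjPt.X_mem i) d (nonVan_D n R i hV)

theorem notMem_of_mem_D {i : Fin (n + 1)} {x : CohB1.ProjSpace n R} (h : x ∈ D n R i) (q : ℕ) :
    T i ^ q ∉ x.asHomogeneousIdeal :=
  PnCoh.pow_notMem (show T i ∉ x.asHomogeneousIdeal from h) q

theorem a_val (i j : Fin (n + 1)) (x : D n R i) :
    ((a n R i j).1 x).val =
      (Localization.mk (T j) ⟨T i ^ 1, notMem_of_mem_D n R x.2 1⟩ : Twist.Loc 𝒢 x.1) := by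
  refine (ProjectiveSpectrum.Proj.awayToSection_apply 𝒢 (T i) (ProjPt.crd i j) x).trans ?_
  rw [ProjPt.crd, Away.val_mk, Localization.mk_eq_mk', IsLocalization.map_mk', ← Localization.mk_eq_mk']
  rfl

theorem tw_rel (m : ℕ) (hd : d = -(m : ℤ)) (i j : Fin (n + 1)) {V : (CohB1.ProjSpace n R).Opens} (hi : V ≤ D n R i)
    (hj : V ≤ D n R j) :
    res (Twist.twistProjSpace n R d) hi (tw n R d i) =
      resR hi (a n R i j) ^ m • res (Twist.twistProjSpace n R d) hj (tw n R d j) := by
  rw [res_tw, res_tw]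
  apply Subtype.ext
  funext x
  apply Subtype.ext
  refine Eq.trans ?_ (Twist.coe_smul_val d x.1 _ _).symm
  have hp : ((resR hi (a n R i j) ^ m).1 x).val =
      ((a n R i j).1 ⟨x.1, hi x.2⟩).val ^ m := HomogeneousLocalization.val_pow _ m
  subst hd
  refine Eq.trans ?_ (congrArg (· * _) hp).symm
  rw [a_val, PnCoh.twPow_apply, PnCoh.twPow_apply, Localization.mk_pow, Localization.mk_mul,
    Localization.mk_eq_mk_iff, Localization.r_iff_exists]
  refine ⟨1, ?_⟩
  simp only [Submonoid.coe_one, one_mul, Submonoid.coe_mul, SubmonoidClass.coe_pow, Int.toNat_natCast,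
    neg_neg, pow_one]
  rw [show (-(m : ℤ)).toNat = 0 by omega]
  ring

end Groth.Agent.PnChart
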