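import Groth.Agent.AModX.Res
import Groth.Agent.BigOpen.Ddual
import Groth.Agent.QCoh.FT
import Groth.Agent.Synt29.ExtBC

/-!
Exterior powers of quasi-coherent modules from compatible alternating maps on an open cover.
-/

set_option autoImplicit false
set_option linter.style.haveILetI false
set_option linter.unusedSectionVars false
set_option backward.isDefEq.respectTransparency false
set_option backward.isDefEq.respectTransparency.types false
set_option maxHeartbeats 1000000

universe u

open CategoryTheory AlgebraicGeometry TopologicalSpace Opposite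
open Groth.Agent.AModX
open scoped TensorProduct

noncomputable section

namespace Groth.Agent.AltGlue

variable {X : Scheme.{u}} {M L : X.Modules} {m : ℕ} {σ : Type u} {U : σ → X.Opens}

theorem res_update {V V' : X.Opens} (i : V' ≤ V) [DecidableEq (Fin m)] (e : Fin m → Γ(M, V)) (k : Fin m)
    (x : Γ(M, V)) :
    (fun j => res M i (Function.update e k x j)) = Function.update (fun j => res M i (e j)) k (res M i x) :=
  funext fun j => Function.apply_update (fun _ => res M i) e k x j

variable (hcov : ∀ x, ∃ a, x ∈ U a)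
  (α : ∀ a (V : X.Opens), V ≤ U a → Γ(M, V) [⋀^Fin m]→ₗ[Γ(X, V)] Γ(L, V))
  (hres : ∀ a V V' (h : V ≤ U a) (i : V' ≤ V) (e : Fin m → Γ(M, V)),
    res L i (α a V h e) = α a V' (i.trans h) (fun k => res M i (e k)))
  (hcomp : ∀ a b V (ha : V ≤ U a) (hb : V ≤ U b) (e : Fin m → Γ(M, V)), α a V ha e = α b V hb e)

include hcov hres hcomp in
/-- Compatible alternating maps on a cover glue. -/
theorem exists_glue : ∃ μ : ∀ V : X.Opens, Γ(M, V) [⋀^Fin m]→ₗ[Γ(X, V)] Γ(L, V),
    (∀ V V' (i : V' ≤ V) (e : Fin m → Γ(M, V)), res L i (μ V e) = μ V' (fun k => res M i (e k))) ∧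
      ∀ a V (h : V ≤ U a) (e : Fin m → Γ(M, V)), μ V e = α a V h e := by
  have hglue : ∀ (V : X.Opens) (e : Fin m → Γ(M, V)), ∃! t : Γ(L, V), ∀ a,
      res L (inf_le_left : V ⊓ U a ≤ V) t = α a (V ⊓ U a) inf_le_right (fun k => res M inf_le_left (e k)) :=
    fun V e => existsUnique_glue (M := L) (fun a => V ⊓ U a) (fun _ => inf_le_left)
      (fun p hp => (hcov p).imp fun a ha => ⟨hp, ha⟩)
      (fun a => α a (V ⊓ U a) inf_le_right (fun k => res M inf_le_left (e k))) fun a b => by
        rw [hres, hres]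
        refine (hcomp a b _ _ (inf_le_right.trans inf_le_right) _).trans ?_
        refine congrArg (α b _ _) (funext fun k => ?_)
        rw [res_res, res_res]
  choose t ht hu using hglue
  have hloc : ∀ (V : X.Opens) (e : Fin m → Γ(M, V)) (a : σ) (W : X.Opens) (hW : W ≤ V) (hWa : W ≤ U a),
      res L hW (t V e) = α a W hWa (fun k => res M hW (e k)) := fun V e a W hW hWa => by
    have h1 := congrArg (res L (le_inf hW hWa)) (ht V e a)
    rw [res_res, hres] at h1
    exact h1.trans (congrArg (α a W hWa) (funext fun k => res_res _ _ _))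
  have hext : ∀ (V : X.Opens) (x y : Γ(L, V)), (∀ a (W : X.Opens) (hW : W ≤ V), W ≤ U a →
      res L hW x = res L hW y) → x = y := fun V x y h => eq_of_locally x y fun p hp => by
    obtain ⟨a, ha⟩ := hcov p
    exact ⟨V ⊓ U a, inf_le_left, ⟨hp, ha⟩, h a _ inf_le_left inf_le_right⟩
  let μ : ∀ V : X.Opens, Γ(M, V) [⋀^Fin m]→ₗ[Γ(X, V)] Γ(L, V) := fun V =>
    { toFun := t V
      map_update_add' := fun e k x y => hext V _ _ fun a W hW hWa => by
        rw [map_add, hloc V _ a W hW hWa, hloc V _ a W hW hWa, hloc V _ a W hW hWa, res_update, res_update,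
          res_update, map_add]
        exact (α a W hWa).map_update_add _ _ _ _
      map_update_smul' := fun e k c x => hext V _ _ fun a W hW hWa => by
        rw [res_smul, hloc V _ a W hW hWa, hloc V _ a W hW hWa, res_update, res_update, res_smul]
        exact (α a W hWa).map_update_smul _ _ _ _
      map_eq_zero_of_eq' := fun e j k he hjk => hext V _ _ fun a W hW hWa => by
        rw [map_zero, hloc V _ a W hW hWa]
        exact (α a W hWa).map_eq_zero_of_eq _ (congrArg (res M hW) he) hjk }
  refine ⟨μ, fun V V' i e => hext V' _ _ fun a W hW hWa => ?_, fun a V h e => ?_⟩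
  · show res L hW (res L i (t V e)) = res L hW (t V' _)
    rw [res_res, hloc V e a W (hW.trans i) hWa, hloc V' _ a W hW hWa]
    exact congrArg (α a W hWa) (funext fun k => (res_res _ _ _).symm)
  · have h1 := hloc V e a V le_rfl h
    rw [res_self] at h1
    exact h1.trans (congrArg (α a V h) (funext fun k => res_self _))

variable (μ : ∀ V : X.Opens, Γ(M, V) [⋀^Fin m]→ₗ[Γ(X, V)] Γ(L, V))
  (hμ : ∀ V V' (i : V' ≤ V) (e : Fin m → Γ(M, V)), res L i (μ V e) = μ V' (fun k => res M i (e k)))

/-- The linear map on the exterior power. -/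
def lift (V : X.Opens) : ↥(⋀[Γ(X, V)]^m (M.val.obj (op V))) →ₗ[Γ(X, V)] Γ(L, V) :=
  exteriorPower.alternatingMapLinearEquiv (R := Γ(X, V)) (M := M.val.obj (op V)) (μ V)

theorem lift_ιMulti (V : X.Opens) (e : Fin m → Γ(M, V)) :
    lift μ V (exteriorPower.ιMulti Γ(X, V) m (M := M.val.obj (op V)) e) = μ V e :=
  exteriorPower.alternatingMapLinearEquiv_apply_ιMulti _ _

theorem lift_bijective_of_basis (V : X.Opens) (b : Module.Basis (Fin m) Γ(X, V) (M.val.obj (op V)))
    (h : Function.Bijective fun r : Γ(X, V) => r • μ V (fun k => b k)) : Function.Bijective (lift μ V) := by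
  refine (Function.Bijective.of_comp_iff _ (BigOpen.bijective_smul_topWedge b)).1 ?_
  refine (congrArg Function.Bijective (funext fun r => ?_)).mp h
  exact (((lift μ V).map_smul r _).trans (congrArg (r • ·) (lift_ιMulti μ V fun k => b k))).symm

include hμ in
/-- The lift is bijective on an affine open as soon as it is so on enough basic opens. -/
theorem lift_bijective (hM : Coh.IsQCoh M) (hL : Coh.IsQCoh L) {V : X.Opens} (hV : IsAffineOpen V)
    (s : Set Γ(X, V)) (hs : Ideal.span s = ⊤) (h : ∀ g : s, Function.Bijective (lift μ (X.basicOpen g.1))) :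
    Function.Bijective (lift μ V) := by
  letI : ∀ g : Γ(X, V), Module Γ(X, V) Γ(L, X.basicOpen g) := fun g => QCoh.basicModule g L
  let E := fun g : s => ↥(⋀[Γ(X, X.basicOpen g.1)]^m (M.val.obj (op (X.basicOpen g.1))))
  letI : ∀ g : s, Module Γ(X, V) (E g) := fun g =>
    Module.compHom _ (algebraMap Γ(X, V) Γ(X, X.basicOpen g.1))
  haveI hLloc : ∀ g : s, IsLocalizedModule.Away g.1 (QCoh.basicRes g.1 L) := fun g =>
    QCoh.isLocalizedModule_basicRes g.1 hL hV
  have key : ∀ g : s, ∃ fg : ↥(⋀[Γ(X, V)]^m (M.val.obj (op V))) →ₗ[Γ(X, V)] E g,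
      IsLocalizedModule.Away g.1 fg ∧ ∀ e : Fin m → Γ(M, V),
        fg (exteriorPower.ιMulti Γ(X, V) m (M := M.val.obj (op V)) e) =
          exteriorPower.ιMulti Γ(X, X.basicOpen g.1) m (M := M.val.obj (op (X.basicOpen g.1)))
            (fun k => res M (X.basicOpen_le g.1) (e k)) := by
    intro g
    letI := QCoh.basicModule g.1 M
    haveI := hV.isLocalization_basicOpen g.1
    haveI := QCoh.isLocalizedModule_basicRes g.1 hM hV
    haveI : IsScalarTower Γ(X, V) Γ(X, X.basicOpen g.1) Γ(M, X.basicOpen g.1) :=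
      IsScalarTower.of_algebraMap_smul fun _ _ => rfl
    haveI : IsScalarTower Γ(X, V) Γ(X, X.basicOpen g.1) (E g) :=
      IsScalarTower.of_algebraMap_smul fun _ _ => rfl
    have hbc : IsBaseChange Γ(X, X.basicOpen g.1) (QCoh.basicRes g.1 M) :=
      (isLocalizedModule_iff_isBaseChange (Submonoid.powers g.1) _ _).1 inferInstance
    let q : Γ(X, X.basicOpen g.1) ⊗[Γ(X, V)] Γ(M, V) ≃ₗ[Γ(X, X.basicOpen g.1)] Γ(M, X.basicOpen g.1) := hbc.equiv
    have hq : Function.Bijective (exteriorPower.map m q.toLinearMap) :=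
      ⟨exteriorPower.map_injective q.symm.toLinearMap (by ext; simp), exteriorPower.map_surjective q.surjective⟩
    let e₁ : Γ(X, X.basicOpen g.1) ⊗[Γ(X, V)] ↥(⋀[Γ(X, V)]^m (M.val.obj (op V))) ≃ₗ[Γ(X, X.basicOpen g.1)] E g :=
      LinearEquiv.ofBijective ((exteriorPower.map m q.toLinearMap).comp
        (Synt29.ExtBC.fwd Γ(X, V) Γ(X, X.basicOpen g.1) Γ(M, V) m))
        (hq.comp (Synt29.ExtBC.bijective_fwd m))
    let fg : ↥(⋀[Γ(X, V)]^m (M.val.obj (op V))) →ₗ[Γ(X, V)] E g :=
      (e₁.toLinearMap.restrictScalars Γ(X, V)).comp (TensorProduct.mk Γ(X, V) Γ(X, X.basicOpen g.1) _ 1)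
    refine ⟨fg, (isLocalizedModule_iff_isBaseChange (Submonoid.powers g.1) Γ(X, X.basicOpen g.1) fg).2
      (IsBaseChange.of_equiv e₁ fun _ => rfl), fun e => ?_⟩
    refine (congrArg (exteriorPower.map m q.toLinearMap)
      ((Synt29.ExtBC.fwd_tmul m _ _).trans (one_smul _ _))).trans ?_
    refine (exteriorPower.map_apply_ιMulti _ _).trans (congrArg _ (funext fun k => ?_))
    exact (hbc.equiv_tmul 1 (e k)).trans (one_smul _ _)
  choose fg hfg hfg' using key
  refine bijective_of_isLocalized_span s hs E fg (fun g => Γ(L, X.basicOpen g.1))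
    (fun g => QCoh.basicRes g.1 L) (lift μ V) fun g => ?_
  haveI := hfg g
  haveI : IsScalarTower Γ(X, V) Γ(X, X.basicOpen g.1) (E g) := IsScalarTower.of_algebraMap_smul fun _ _ => rfl
  haveI : IsScalarTower Γ(X, V) Γ(X, X.basicOpen g.1) Γ(L, X.basicOpen g.1) :=
    IsScalarTower.of_algebraMap_smul fun _ _ => rfl
  have heq : IsLocalizedModule.map (Submonoid.powers g.1) (fg g) (QCoh.basicRes g.1 L) (lift μ V) =
      (lift μ (X.basicOpen g.1)).restrictScalars Γ(X, V) := by
    refine IsLocalizedModule.ext (Submonoid.powers g.1) (fg g)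
      (IsLocalizedModule.map_units (QCoh.basicRes g.1 L)) ?_
    rw [IsLocalizedModule.map_comp]
    refine exteriorPower.linearMap_ext (AlternatingMap.ext fun e => ?_)
    exact ((congrArg (res L (X.basicOpen_le g.1)) (lift_ιMulti μ V e)).trans (hμ V _ _ e)).trans
      ((congrArg (lift μ (X.basicOpen g.1)) (hfg' g e)).trans (lift_ιMulti μ _ _)).symm
  rw [heq]
  exact h g

include hμ in
/-- An exterior power from compatible alternating maps. -/
theorem isExtPow_of (h : ∀ V : X.Opens, IsAffineOpen V → Function.Bijective (lift μ V)) :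
    ExtPow.IsExtPow m M L := by
  refine ⟨fun V => (LinearEquiv.ofBijective (lift μ V.1) (h V.1 V.2)).symm, fun V V' i e => ?_⟩
  show res L i (lift μ V.1 _) = lift μ V'.1 _
  exact ((congrArg (res L i) (lift_ιMulti μ V.1 e)).trans (hμ _ _ i e)).trans (lift_ιMulti μ V'.1 _).symm

end Groth.Agent.AltGlue
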