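import Groth.Agent.PnCoh.Finite.TwistTensor
import Groth.Agent.PnCoh.Finite.HomTwist
import Groth.Agent.PnCoh.Finite.TwistInv

/-!
Multiplication by a degree one element as a morphism of twisting sheaves.
-/

set_option linter.style.haveILetI false
set_option linter.unusedSectionVars false
set_option backward.isDefEq.respectTransparency false
set_option backward.isDefEq.respectTransparency.types false

universe u

open CategoryTheory CategoryTheory.Limits AlgebraicGeometry TopologicalSpace Opposite MonoidalCategory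
open Groth.Agent.KFlatLib Groth.Agent.PnCoh.Finite

namespace Groth.Agent.ProjShift

open Groth.Agent.PnCoh

variable {R A : Type u} [CommRing R] [CommRing A] [Algebra R A]
  {𝒜 : ℕ → Submodule R A} [GradedAlgebra 𝒜] {a : A} (ha : a ∈ 𝒜 1)

/-- `a / 1`. -/
noncomputable def frac (x : ProjectiveSpectrum 𝒜) (b : A) : Twist.Loc 𝒜 x :=
  Localization.mk b (1 : x.asHomogeneousIdeal.toIdeal.primeCompl)

include ha in
theorem frac_mem (x : ProjectiveSpectrum 𝒜) : frac x a ∈ Twist.twistAt 𝒜 1 x :=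
  Submodule.subset_span ⟨1, 0, ⟨a, ha⟩, ⟨1, SetLike.GradedOne.one_mem⟩,
    fun h => x.isPrime.ne_top ((Ideal.eq_top_iff_one _).mpr h), by simp, rfl⟩

/-- Multiplication of a section by `a`. -/
noncomputable def xSect (d : ℤ) {U : (Opens (ProjectiveSpectrum.top 𝒜))ᵒᵖ}
    (s : Twist.sectN (𝒜 := 𝒜) (d - 1) U) : Twist.sectN (𝒜 := 𝒜) d U :=
  ⟨fun x => ⟨(s.1 x).1 * frac x.1 a, by
      have h := mul_mem_twistAt (s.1 x).2 (frac_mem ha x.1)
      rwa [show d - 1 + 1 = d by omega] at h⟩,
    fun x => by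
      obtain ⟨V, hxV, iV, i, j, p, q, nq, hij, w⟩ := s.2 x
      refine ⟨V, hxV, iV, i + 1, j, ⟨p.1 * a, SetLike.mul_mem_graded p.2 ha⟩, q, nq, ?_, fun y => ?_⟩
      · rcases hij with h | h
        · exact Or.inl (by push_cast; omega)
        · exact Or.inr (show p.1 * a = 0 by rw [h, zero_mul])
      · show (s.1 (iV y)).1 * Localization.mk a _ = _
        rw [show (s.1 (iV y)).1 = _ from w y, Localization.mk_mul, mul_one]⟩

/-- Multiplication by `a` on presheaves of modules. -/
noncomputable def xPre (d : ℤ) :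
    DCoh.toP.obj (Twist.twist 𝒜 (d - 1)) ⟶ DCoh.toP.obj (Twist.twist 𝒜 d) where
  app U := ModuleCat.ofHom
    (X := (DCoh.toP.obj (Twist.twist 𝒜 (d - 1))).obj U) (Y := (DCoh.toP.obj (Twist.twist 𝒜 d)).obj U)
    { toFun := fun s => xSect ha d s
      map_add' := fun s t => Subtype.ext (funext fun x => Subtype.ext (add_mul (s.1 x).1 (t.1 x).1 _))
      map_smul' := fun c s => Subtype.ext (funext fun x => Subtype.ext (by
        show ((c • s : Twist.sectN (𝒜 := 𝒜) (d - 1) U).1 x).1 * _ =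
          ((c • xSect ha d s : Twist.sectN (𝒜 := 𝒜) d U).1 x).1
        exact smul_mul_assoc _ _ _)) }
  naturality {U V} i := by
    ext s
    rfl

/-- Multiplication by `a`. -/
noncomputable def xHom (d : ℤ) : Twist.twist 𝒜 (d - 1) ⟶ Twist.twist 𝒜 d := ⟨xPre ha d⟩

theorem xHom_comm {b : A} (hb : b ∈ 𝒜 1) (d : ℤ) :
    xHom ha (d - 1) ≫ xHom hb d = xHom hb (d - 1) ≫ xHom ha d := by
  apply Scheme.Modules.hom_ext
  intro U
  ext s
  refine Subtype.ext (funext fun x => Subtype.ext ?_)
  exact mul_right_comm _ _ _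

theorem toP_xHom (d : ℤ) : DCoh.toP.map (xHom ha d) = xPre ha d := rfl

/-- The generators correspond. -/
theorem xSect_twPow (d : ℤ) {U : (Proj 𝒜).Opens} (hU : NonVan (𝒜 := 𝒜) a U) :
    xSect ha d (U := op U) (twPow ha (d - 1) hU) = twPow ha d hU := by
  refine Subtype.ext (funext fun x => Subtype.ext ?_)
  show Localization.mk (a ^ (d - 1).toNat) _ * Localization.mk a _ = Localization.mk (a ^ d.toNat) _
  rw [Localization.mk_mul, mul_one, Localization.mk_eq_mk_iff, Localization.r_iff_exists]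
  refine ⟨1, ?_⟩
  simp only [OneMemClass.coe_one, one_mul, ← pow_succ, ← pow_add]
  congr 1
  omega

theorem bijective_stalk {x : (Proj 𝒜)} (hx : x ∈ D 𝒜 a) (d : ℤ) :
    Function.Bijective ((stalkP x).map (DCoh.toP.map (xHom ha d))) := by
  have hgen : (stalkP x).map (DCoh.toP.map (xHom ha d)) (stalkGen ha hx (d - 1)) = stalkGen ha hx d := by
    refine (stalkModMap_germ (DCoh.toP.map (xHom ha d)) (D 𝒜 a) hx _).trans ?_
    exact congrArg (germP (DCoh.toP.obj (Twist.twist 𝒜 d)) (D 𝒜 a) hx) (xSect_twPow ha d _)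
  have h1 := stalkGen_bijective ha hx (d - 1)
  have h2 := stalkGen_bijective ha hx d
  have key : ∀ r, (stalkP x).map (DCoh.toP.map (xHom ha d))
      (LinearMap.toSpanSingleton _ _ (stalkGen ha hx (d - 1)) r) =
      LinearMap.toSpanSingleton _ _ (stalkGen ha hx d) r := fun r => by
    rw [LinearMap.toSpanSingleton_apply, LinearMap.toSpanSingleton_apply, ← hgen]
    exact ((stalkP x).map (DCoh.toP.map (xHom ha d))).hom.map_smul r _
  constructor
  · intro m m' h
    obtain ⟨r, rfl⟩ := h1.2 m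
    obtain ⟨r', rfl⟩ := h1.2 m'
    rw [key, key] at h
    rw [h2.1 h]
  · intro y
    obtain ⟨r, rfl⟩ := h2.2 y
    exact ⟨_, key r⟩

/-- After tensoring, multiplication by `a` is bijective on stalks where `a` does not vanish. -/
theorem bijective_stalkAb (G : (Proj 𝒜).Modules) {x : (Proj 𝒜)} (hx : x ∈ D 𝒜 a) (d : ℤ) :
    Function.Bijective ((stalkAb x).map ((DCoh.tensorBi.obj G).map (xHom ha d))) := by
  haveI : IsIso ((stalkP x).map (DCoh.toP.map (xHom ha d))) :=
    (ConcreteCategory.isIso_iff_bijective _).2 (bijective_stalk ha hx d)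
  haveI : IsIso ((DerSch.stalkFunctor (Proj 𝒜) x).map (xHom ha d)) :=
    (NatIso.isIso_map_iff (stalkToPIso x) (xHom ha d)).2 this
  haveI : IsIso ((DCoh.tensorBi.obj G ⋙ DerSch.stalkFunctor (Proj 𝒜) x).map (xHom ha d)) :=
    (NatIso.isIso_map_iff (stalkTensorLeftIso G x) (xHom ha d)).2
      (Functor.map_isIso (tensorLeft _) ((DerSch.stalkFunctor (Proj 𝒜) x).map (xHom ha d)))
  exact (ConcreteCategory.isIso_iff_bijective _).1
    (Functor.map_isIso (forget₂ (ModuleCat ((Proj 𝒜).presheaf.stalk x)) AddCommGrpCat)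
      ((DCoh.tensorBi.obj G ⋙ DerSch.stalkFunctor (Proj 𝒜) x).map (xHom ha d)))

end Groth.Agent.ProjShift
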