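import Groth.Agent.PnCoh.Finite.TwistTensor
import Groth.Agent.PnCoh.Finite.Projective

/-!
Multiplication by a homogeneous element as a morphism of twisting sheaves.
-/

set_option linter.style.haveILetI false
set_option linter.unusedSectionVars false
set_option backward.isDefEq.respectTransparency false
set_option backward.isDefEq.respectTransparency.types false

universe u

open CategoryTheory CategoryTheory.Limits AlgebraicGeometry TopologicalSpace Opposite MonoidalCategory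
open Groth.Agent.KFlatLib Groth.Agent.PnCoh.Finite

noncomputable section

namespace Groth.Agent.PnDual

open Groth.Agent.PnCoh

variable {R A : Type u} [CommRing R] [CommRing A] [Algebra R A]
  {𝒜 : ℕ → Submodule R A} [GradedAlgebra 𝒜] {e : ℕ} {a : A} (ha : a ∈ 𝒜 e)

/-- `a / 1`. -/
def fracOne (x : ProjectiveSpectrum 𝒜) (b : A) : Twist.Loc 𝒜 x :=
  Localization.mk b (1 : x.asHomogeneousIdeal.toIdeal.primeCompl)

include ha in
theorem fracOne_mem (x : ProjectiveSpectrum 𝒜) : fracOne x a ∈ Twist.twistAt 𝒜 (e : ℤ) x :=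
  Submodule.subset_span ⟨e, 0, ⟨a, ha⟩, ⟨1, SetLike.GradedOne.one_mem⟩,
    fun h => x.isPrime.ne_top ((Ideal.eq_top_iff_one _).mpr h), by simp, rfl⟩

/-- Multiplication of a section by `a`. -/
def mulFracSect {d d' : ℤ} (h : d' = d + (e : ℤ)) {U : (Opens (ProjectiveSpectrum.top 𝒜))ᵒᵖ}
    (s : Twist.sectN (𝒜 := 𝒜) d U) : Twist.sectN (𝒜 := 𝒜) d' U :=
  ⟨fun x => ⟨(s.1 x).1 * fracOne x.1 a, h ▸ mul_mem_twistAt (s.1 x).2 (fracOne_mem ha x.1)⟩,
    fun x => by
      obtain ⟨V, hxV, iV, i, j, p, q, nq, hij, w⟩ := s.2 x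
      refine ⟨V, hxV, iV, i + e, j, ⟨p.1 * a, SetLike.mul_mem_graded p.2 ha⟩, q, nq, ?_, fun y => ?_⟩
      · rcases hij with h' | h'
        · exact Or.inl (by push_cast; omega)
        · exact Or.inr (show p.1 * a = 0 by rw [h', zero_mul])
      · show (s.1 (iV y)).1 * Localization.mk a _ = _
        rw [show (s.1 (iV y)).1 = _ from w y, Localization.mk_mul, mul_one]⟩

/-- Multiplication by `a` on presheaves of modules. -/
def mulFracPre {d d' : ℤ} (h : d' = d + (e : ℤ)) :
    DCoh.toP.obj (Twist.twist 𝒜 d) ⟶ DCoh.toP.obj (Twist.twist 𝒜 d') where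
  app U := ModuleCat.ofHom
    (X := (DCoh.toP.obj (Twist.twist 𝒜 d)).obj U) (Y := (DCoh.toP.obj (Twist.twist 𝒜 d')).obj U)
    { toFun := fun s => mulFracSect ha h s
      map_add' := fun s t => Subtype.ext (funext fun x => Subtype.ext (add_mul (s.1 x).1 (t.1 x).1 _))
      map_smul' := fun c s => Subtype.ext (funext fun x => Subtype.ext (by
        show ((c • s : Twist.sectN (𝒜 := 𝒜) d U).1 x).1 * _ =
          ((c • mulFracSect ha h s : Twist.sectN (𝒜 := 𝒜) d' U).1 x).1
        exact smul_mul_assoc _ _ _)) }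
  naturality {U V} i := by
    ext s
    rfl

/-- Multiplication by `a`. -/
def mulHom {d d' : ℤ} (h : d' = d + (e : ℤ)) : Twist.twist 𝒜 d ⟶ Twist.twist 𝒜 d' :=
  ⟨mulFracPre ha h⟩

theorem mulHom_app {d d' : ℤ} (h : d' = d + (e : ℤ)) (U : (Proj 𝒜).Opens)
    (s : Twist.sectN (𝒜 := 𝒜) d (op U)) :
    ((mulHom ha h).app U s : Twist.sectN (𝒜 := 𝒜) d' (op U)) = mulFracSect ha h s := rfl

theorem mulFracSect_apply {d d' : ℤ} (h : d' = d + (e : ℤ))
    {U : (Opens (ProjectiveSpectrum.top 𝒜))ᵒᵖ} (s : Twist.sectN (𝒜 := 𝒜) d U) (x) :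
    ((mulFracSect ha h s).1 x).1 = (s.1 x).1 * fracOne x.1 a := rfl

end Groth.Agent.PnDual
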