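import Groth.Agent.Lib.AVDual
import Groth.Prelude.Def_ThetaK

/-!
Families normalised at a point lie in Pic⁰; maps into closed subschemes are fppf local.
-/

set_option linter.style.haveILetI false
set_option linter.unusedSectionVars false
set_option backward.isDefEq.respectTransparency false
set_option backward.isDefEq.respectTransparency.types false
set_option maxHeartbeats 400000

universe u

open CategoryTheory CategoryTheory.Limits MonoidalCategory CartesianMonoidalCategory MonObj AlgebraicGeometry TopologicalSpace Opposite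

namespace Groth.Agent.AVDual

open Groth.Agent.H23 Groth.Agent.H23.TrivBasic Groth.Agent.AVPair
open scoped Groth.Agent.H23.PicMul

variable {k : Type u} [Field k] {X Y : Over (Spec (CommRingCat.of k))}

/-- A family over a proper geometrically integral base trivial at one point lies in Pic⁰. -/
theorem pz_of_slice [IsProper Y.hom] [GeometricallyIntegral Y.hom] (e : 𝟙_ (Over (Spec (CommRingCat.of k))) ⟶ Y)
    {c : PicF.Cl (X ⊗ Y).left} (hc : PicF.IsInvertibleCl c) (h : pl (lift (𝟙 X) (toUnit X ≫ e)) c = 1) :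
    PZ X Y c := by
  obtain ⟨L, rfl, hL⟩ := hc
  refine ⟨L, rfl, hL, fun y Ω _ _ σ _ => ?_⟩
  let s := σ ≫ Y.hom
  let P := pullback (snd X Y).left σ
  let T := pullback Y.hom s
  let q : T ⟶ Spec (CommRingCat.of Ω) := pullback.snd Y.hom s
  haveI : IsIntegral T := GeometricallyIntegral.isIntegral_of_subsingleton q
  let t : Spec (CommRingCat.of Ω) ⟶ T := pullback.lift σ (𝟙 _) (Category.id_comp _).symm
  let t₀ : Spec (CommRingCat.of Ω) ⟶ T := pullback.lift (s ≫ e.left) (𝟙 _) (by
    rw [Category.assoc, Over.w e]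
    show s ≫ 𝟙 _ = 𝟙 _ ≫ s
    rw [Category.comp_id, Category.id_comp])
  letI : P.Over (Spec (CommRingCat.of Ω)) := ⟨pullback.snd _ σ⟩
  let g : Pic13.prodK Ω P q ⟶ (X ⊗ Y).left :=
    pullback.lift (pullback.fst (P ↘ Spec (CommRingCat.of Ω)) q ≫ pullback.fst (snd X Y).left σ ≫ (fst X Y).left)
      (pullback.snd (P ↘ Spec (CommRingCat.of Ω)) q ≫ pullback.fst Y.hom s) (by
      rw [Category.assoc, Category.assoc, Category.assoc, Over.w (fst X Y), ← Over.w (snd X Y),
        pullback.condition (f := Y.hom)]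
      show _ ≫ _ ≫ (snd X Y).left ≫ Y.hom = _
      rw [pullback.condition_assoc (f := (snd X Y).left), ← Category.assoc, ← Category.assoc]
      exact congrArg (· ≫ s) (pullback.condition (f := (P ↘ Spec (CommRingCat.of Ω)))))
  refine ⟨T, q, inferInstance, inferInstance, inferInstance, (Scheme.Modules.pullback g).obj L,
    PicClLib.isInvertible_pullback g hL, t, t₀, pullback.lift_snd _ _ _, pullback.lift_snd _ _ _, ?_, ?_⟩
  · refine ⟨(Scheme.Modules.pullbackComp _ g).app L ≪≫
      eqToIso (congrArg (fun m => (Scheme.Modules.pullback m).obj L) ?_)⟩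
    apply pullback.hom_ext
    · rw [Category.assoc, pullback.lift_fst]
      erw [pullback.lift_fst_assoc]
      rw [Category.id_comp]
      rfl
    · rw [Category.assoc, pullback.lift_snd]
      erw [pullback.lift_snd_assoc]
      rw [Category.assoc, pullback.lift_fst]
      exact pullback.condition.symm
  · refine (PicGrp.cl_eq_cl_iff _ _).1 ?_
    show PicF.pullCl _ (PicF.pullCl g (PicF.cl L : PicF.Cl (X ⊗ Y).left)) = 1
    rw [PicClLib.pullCl_comp]
    refine (congrArg (fun m => PicF.pullCl m (PicF.cl L : PicF.Cl (X ⊗ Y).left))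
      (show _ = (pullback.fst (snd X Y).left σ ≫ (fst X Y).left) ≫ (lift (𝟙 X) (toUnit X ≫ e)).left from ?_)).trans ?_
    rotate_left
    · rw [← PicClLib.pullCl_comp,
        show PicF.pullCl (lift (𝟙 X) (toUnit X ≫ e)).left (PicF.cl L : PicF.Cl (X ⊗ Y).left) = 1 from h,
        PicMul.pullCl_one]
    apply pullback.hom_ext
    · rw [Category.assoc, pullback.lift_fst]
      erw [pullback.lift_fst_assoc]
      rw [Category.id_comp]
      show _ = (_ ≫ (lift (𝟙 X) (toUnit X ≫ e)).left) ≫ (fst X Y).left
      rw [Category.assoc _ (lift (𝟙 X) (toUnit X ≫ e)).left, ← Over.comp_left, lift_fst, Over.id_left,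
        Category.comp_id]
    · rw [Category.assoc, pullback.lift_snd]
      erw [pullback.lift_snd_assoc]
      rw [Category.assoc, pullback.lift_fst]
      show _ = (_ ≫ (lift (𝟙 X) (toUnit X ≫ e)).left) ≫ (snd X Y).left
      rw [Category.assoc _ (lift (𝟙 X) (toUnit X ≫ e)).left, ← Over.comp_left, lift_snd, Over.comp_left,
        show (toUnit X).left = X.hom from rfl]
      have hh : pullback.fst (snd X Y).left σ ≫ (fst X Y).left ≫ X.hom = pullback.snd _ σ ≫ s := by
        rw [Over.w (fst X Y), ← Over.w (snd X Y), pullback.condition_assoc]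
      refine Eq.trans ?_ (by rw [Category.assoc, reassoc_of% hh])
      rfl

/-- Factoring through a monomorphism is fppf local. -/
theorem exists_lift_of_locally {S : Scheme.{u}} {K T A : Over S} (i : K ⟶ A) [Mono i.left] (x : T ⟶ A)
    {R : Presieve T.left} (hR : R ∈ Scheme.fppfPrecoverage T.left)
    (h : ∀ ⦃U : Scheme.{u}⦄ (v : U ⟶ T.left), R v → ∃ y : U ⟶ K.left, y ≫ i.left = v ≫ x.left) :
    ∃ y : T ⟶ K, y ≫ i = x := by
  have hsh := fun Z : Scheme.{u} => (GrothendieckTopology.Subcanonical.isSheaf_of_isRepresentable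
    (J := Scheme.fppfTopology) (yoneda.obj Z)).isSheafFor _ (Precoverage.generate_mem_toGrothendieck hR)
  have hK := hsh K.left
  have hA := (hsh A.left).isSeparatedFor
  choose y hy using h
  let fam : Presieve.FamilyOfElements (yoneda.obj K.left) R := fun U v hv => y v hv
  have hfam : fam.Compatible := by
    intro Y₁ Y₂ Z g₁ g₂ f₁ f₂ h₁ h₂ hcomm
    refine (cancel_mono i.left).1 ?_
    show (g₁ ≫ y f₁ h₁) ≫ i.left = (g₂ ≫ y f₂ h₂) ≫ i.left
    rw [Category.assoc, Category.assoc, hy, hy, reassoc_of% hcomm]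
  obtain ⟨z, hz, -⟩ := hK fam hfam
  have hzx : z ≫ i.left = x.left := hA.ext fun U v hv => by
    show v ≫ z ≫ i.left = v ≫ x.left
    rw [← Category.assoc, show v ≫ z = y v hv from hz v hv]
    exact hy v hv
  exact ⟨Over.homMk z (by rw [← Over.w i, ← Category.assoc, hzx, Over.w x]), Over.OverMorphism.ext hzx⟩

end Groth.Agent.AVDual
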