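import Groth.Agent.Lib.FlatSections
import Groth.Agent.AmpleX.Sect
import Groth.Agent.H23.TrivBasic
import Groth.Agent.H23.PullPush
import Groth.Agent.ProjUPX.Affine
import Mathlib.AlgebraicGeometry.Morphisms.Flat

/-!
Invertible modules coming from the base after a flat cover come from the base, for `f_* O = O`.
-/

set_option backward.isDefEq.respectTransparency false
set_option backward.isDefEq.respectTransparency.types false
set_option linter.style.haveILetI false
set_option maxHeartbeats 800000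

universe u

open CategoryTheory CategoryTheory.Limits AlgebraicGeometry TopologicalSpace Opposite
open scoped TensorProduct

namespace Groth.Agent.BaseDescent

open Groth.Agent.H23 Groth.Agent.H23.TrivBasic
open scoped Groth.Agent.H23.PicMul

variable {X X' : Scheme.{u}} {A B : Type u} [CommRing A] [CommRing B] [Algebra A B]
  {pA : X ⟶ Spec (CommRingCat.of A)} {pB : X' ⟶ Spec (CommRingCat.of B)} {φ : X' ⟶ X}

/-- Sections after flat base change are combinations of pulled back sections. -/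
theorem bijective_lift [Module.Flat A B] [CompactSpace X] [QuasiSeparatedSpace X]
    (h : IsPullback φ pB pA (Spec.map (CommRingCat.ofHom (algebraMap A B)))) {M : X.Modules}
    (hM : PicF.IsInvertible M) :
    letI := QCoh.secModule (Coh.toGlobal pA) M ⊤
    letI := QCoh.secModule (Coh.toGlobal pB) ((Scheme.Modules.pullback φ).obj M) (φ ⁻¹ᵁ ⊤)
    letI := QCoh.secModule ((Coh.toGlobal pB).comp (algebraMap A B)) ((Scheme.Modules.pullback φ).obj M) (φ ⁻¹ᵁ ⊤)
    haveI : IsScalarTower A B Γ((Scheme.Modules.pullback φ).obj M, φ ⁻¹ᵁ ⊤) := .of_algebraMap_smul fun _ _ => rfl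
    ∃ e : B ⊗[A] Γ(M, ⊤) →ₗ[B] Γ((Scheme.Modules.pullback φ).obj M, φ ⁻¹ᵁ ⊤), Function.Bijective e ∧
      ∀ b s, e (b ⊗ₜ s) = (show Γ(X', φ ⁻¹ᵁ ⊤) from Coh.toGlobal pB b) • InvX.pullElt φ s :=
  letI := QCoh.secModule (Coh.toGlobal pA) M ⊤
  letI := QCoh.secModule (Coh.toGlobal pB) ((Scheme.Modules.pullback φ).obj M) (φ ⁻¹ᵁ ⊤)
  letI := QCoh.secModule ((Coh.toGlobal pB).comp (algebraMap A B)) ((Scheme.Modules.pullback φ).obj M) (φ ⁻¹ᵁ ⊤)
  haveI : IsScalarTower A B Γ((Scheme.Modules.pullback φ).obj M, φ ⁻¹ᵁ ⊤) := .of_algebraMap_smul fun _ _ => rfl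
  ⟨_, FlatSections.bijective_global φ _ _ _ _ (QCoh.isAffineBC_of_isPullback h (ProjUPX.isQCoh_of_isInvertible hM)),
    fun b s => by
      rw [LinearMap.liftBaseChange_tmul]
      refine congr_arg₂ (fun (r : Γ(X', φ ⁻¹ᵁ ⊤)) (x : Γ((Scheme.Modules.pullback φ).obj M, φ ⁻¹ᵁ ⊤)) => r • x)
        (AModX.resR_self _) ?_
      exact AModX.res_self _⟩

theorem exists_combination [Module.Flat A B] [CompactSpace X] [QuasiSeparatedSpace X]
    (h : IsPullback φ pB pA (Spec.map (CommRingCat.ofHom (algebraMap A B)))) {M : X.Modules}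
    (hM : PicF.IsInvertible M) (x : Γ((Scheme.Modules.pullback φ).obj M, φ ⁻¹ᵁ ⊤)) :
    ∃ S : Finset (B × Γ(M, ⊤)),
      x = ∑ p ∈ S, (show Γ(X', φ ⁻¹ᵁ ⊤) from Coh.toGlobal pB p.1) • InvX.pullElt φ p.2 := by
  letI := QCoh.secModule (Coh.toGlobal pA) M ⊤
  letI := QCoh.secModule (Coh.toGlobal pB) ((Scheme.Modules.pullback φ).obj M) (φ ⁻¹ᵁ ⊤)
  letI := QCoh.secModule ((Coh.toGlobal pB).comp (algebraMap A B)) ((Scheme.Modules.pullback φ).obj M) (φ ⁻¹ᵁ ⊤)
  haveI : IsScalarTower A B Γ((Scheme.Modules.pullback φ).obj M, φ ⁻¹ᵁ ⊤) := .of_algebraMap_smul fun _ _ => rfl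
  obtain ⟨e, he, het⟩ := bijective_lift h hM
  obtain ⟨z, rfl⟩ := he.2 x
  obtain ⟨S, rfl⟩ := TensorProduct.exists_finset z
  exact ⟨S, by simp only [map_sum, het]⟩

/-- `H⁰(O) = A` is stable under flat base change. -/
theorem bijective_toGlobal [Module.Flat A B] [CompactSpace X] [QuasiSeparatedSpace X]
    (h : IsPullback φ pB pA (Spec.map (CommRingCat.ofHom (algebraMap A B))))
    (hA : Function.Bijective (Coh.toGlobal pA)) : Function.Bijective (Coh.toGlobal pB) := by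
  let O := Coh.structureModule X
  letI := QCoh.secModule (Coh.toGlobal pA) O ⊤
  letI := QCoh.secModule (Coh.toGlobal pB) ((Scheme.Modules.pullback φ).obj O) (φ ⁻¹ᵁ ⊤)
  letI := QCoh.secModule ((Coh.toGlobal pB).comp (algebraMap A B)) ((Scheme.Modules.pullback φ).obj O) (φ ⁻¹ᵁ ⊤)
  haveI : IsScalarTower A B Γ((Scheme.Modules.pullback φ).obj O, φ ⁻¹ᵁ ⊤) := .of_algebraMap_smul fun _ _ => rfl
  obtain ⟨e, he, het⟩ := bijective_lift h (InvX.isInvertible_structureModule (X := X))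
  let one : Γ(O, ⊤) := (1 : Γ(X, ⊤))
  have h1 : Function.Bijective (LinearMap.toSpanSingleton A Γ(O, ⊤) one) := by
    refine (congrArg Function.Bijective (show ((LinearMap.toSpanSingleton A Γ(O, ⊤) one : A →ₗ[A] Γ(O, ⊤)) :
      A → Γ(O, ⊤)) = fun a => (show Γ(O, ⊤) from Coh.toGlobal pA a) from funext fun a => ?_)).mpr hA
    show AModX.resR (le_rfl : (⊤ : X.Opens) ≤ ⊤) (Coh.toGlobal pA a) * (1 : Γ(X, ⊤)) = _
    rw [mul_one, AModX.resR_self]
  let u : B ≃ₗ[A] B ⊗[A] Γ(O, ⊤) :=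
    (TensorProduct.rid A B).symm.trans (LinearEquiv.lTensor B (LinearEquiv.ofBijective _ h1))
  have hfr := (InvX.isFrame_pullElt φ (InvX.isFrame_one (X := X) ⊤) (φ ⁻¹ᵁ ⊤) le_rfl)
  refine Function.Bijective.of_comp_iff' hfr _ |>.1 ?_
  convert he.comp u.bijective using 1
  funext b
  show _ = e (u b)
  rw [show u b = b ⊗ₜ one by
    simp only [u, LinearEquiv.trans_apply, TensorProduct.rid_symm_apply, LinearEquiv.lTensor_tmul]
    exact congrArg (b ⊗ₜ[A] ·) ((LinearEquiv.ofBijective_apply _ _).trans (by simp)), het]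
  exact congrArg _ (AModX.res_self _)

theorem coord_sum {M : X.Modules} {W : X.Opens} {ε : Γ(M, W)} (ρ : B → Γ(X', φ ⁻¹ᵁ ⊤))
    (S : Finset (B × Γ(M, ⊤))) (g : Γ(M, ⊤) → Γ(X, W))
    (hg : ∀ s, AModX.res M (le_top : W ≤ ⊤) s = g s • ε) :
    AModX.res _ (φ.preimage_mono (le_top : W ≤ ⊤)) (∑ p ∈ S, ρ p.1 • InvX.pullElt φ p.2) =
      (∑ p ∈ S, AModX.resR (φ.preimage_mono (le_top : W ≤ ⊤)) (ρ p.1) * φ.app W (g p.2)) • InvX.pullElt φ ε := by
  rw [map_sum, Finset.sum_smul]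
  refine Finset.sum_congr rfl fun p _ => ?_
  rw [AModX.res_smul, InvX.res_pullElt φ (le_top : W ≤ ⊤), hg, InvX.pullElt_smul, mul_smul]

/-- The sections of an invertible module trivial after a flat extension give frames over basic opens. -/
theorem exists_locus [Module.Flat A B] [CompactSpace X] [QuasiSeparatedSpace X]
    (h : IsPullback φ pB pA (Spec.map (CommRingCat.ofHom (algebraMap A B))))
    (hA : Function.Bijective (Coh.toGlobal pA)) {L : X.Modules} (hL : PicF.IsInvertible L)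
    (htriv : Triv ((Scheme.Modules.pullback φ).obj L)) (P : Ideal B) [P.IsPrime] :
    ∃ a : A, algebraMap A B a ∉ P ∧ ∃ s : Γ(L, ⊤), X.basicOpen (Coh.toGlobal pA a) ≤ AmpleX.locus s := by
  classical
  obtain ⟨M, hM, ⟨π⟩⟩ := PicInv.exists_inverse hL
  have htrivM : Triv ((Scheme.Modules.pullback φ).obj M) := by
    refine (PicGrp.cl_eq_cl_iff _ _).1 ?_
    have h1 : PicMul.pullHom φ (PicF.cl L) * PicMul.pullHom φ (PicF.cl M) = 1 := by
      rw [← map_mul, show PicF.cl L * PicF.cl M = 1 from (PicGrp.cl_eq_cl_iff _ _).2 ⟨π⟩, map_one]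
    rw [show PicMul.pullHom φ (PicF.cl L) = 1 from (PicGrp.cl_eq_cl_iff _ _).2 htriv, one_mul] at h1
    exact h1
  obtain ⟨e, he⟩ := htriv.exists_frame
  obtain ⟨e', he'⟩ := htrivM.exists_frame
  obtain ⟨S, hS⟩ := exists_combination h hL e
  obtain ⟨T, hT⟩ := exists_combination h hM e'
  have hμ : ∀ s t, ∃ a, Coh.toGlobal pA a = (show Γ(X, ⊤) from π.hom.app ⊤ (InvX.tmul s t)) :=
    fun s t => hA.2 _
  choose a ha using hμ
  have hone : ∀ {W : X.Opens} (w : Γ(X, W)), AmpleX.locus (M := Coh.structureModule X) (U := W) w = X.basicOpen w := by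
    intro W w
    rw [← AmpleX.locus_inf (M := Coh.structureModule X) w le_rfl (InvX.isFrame_one W) (g := w) ?_, inf_eq_left.2 (AmpleX.locus_le _)]
    rw [AModX.res_self]
    exact (mul_one w).symm
  let r : B := ∑ p ∈ S, ∑ q ∈ T, p.1 * q.1 * algebraMap A B (a p.2 q.2)
  have hr : ∀ x : X', x ∈ X'.basicOpen (show Γ(X', φ ⁻¹ᵁ ⊤) from Coh.toGlobal pB r) := by
    intro x
    obtain ⟨W, hxW, ε, δ, hε, hδ⟩ := InvX.exists_frame₂ hL hM (φ x)
    have hg : ∀ s : Γ(L, ⊤), ∃ g, AModX.res L (le_top : W ≤ ⊤) s = g • ε := fun s => by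
      simpa only [AModX.res_self] using hε.exists_coord le_rfl (AModX.res L (le_top : W ≤ ⊤) s)
    have hh : ∀ t : Γ(M, ⊤), ∃ g, AModX.res M (le_top : W ≤ ⊤) t = g • δ := fun t => by
      simpa only [AModX.res_self] using hδ.exists_coord le_rfl (AModX.res M (le_top : W ≤ ⊤) t)
    choose g hg using hg
    choose k hk using hh
    let w : Γ(X, W) := π.hom.app W (InvX.tmul ε δ)
    have hw : X.basicOpen w = W := by
      rw [← hone w]
      exact le_antisymm (AmpleX.locus_le _) (AmpleX.le_locus _ le_rfl (by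
        rw [AModX.res_self]; exact (InvX.isFrame_tmul hε hδ).map_iso π))
    have hle := φ.preimage_mono (le_top : W ≤ ⊤)
    have hA' : ∀ s t, AModX.resR (le_top : W ≤ ⊤) (Coh.toGlobal pA (a s t)) = g s * k t * w := fun s t => by
      rw [ha]
      refine (AModX.app_res π.hom (le_top : W ≤ ⊤) (InvX.tmul s t)).symm.trans ?_
      rw [InvX.res_tmul, hg, hk, InvX.tmul_smul_left, InvX.tmul_smul_right, ← mul_smul, Scheme.Modules.Hom.app_smul]
      rfl
    have hU : ∀ {N : X.Modules} {η : Γ(N, W)} (_ : InvX.IsFrame η) {E : Γ((Scheme.Modules.pullback φ).obj N, φ ⁻¹ᵁ ⊤)}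
        (_ : InvX.IsFrame E) (G : Γ(X', φ ⁻¹ᵁ W)), AModX.res _ hle E = G • InvX.pullElt φ η →
        X'.basicOpen G = φ ⁻¹ᵁ W := fun hη E hE G hEG => by
      rw [← AmpleX.locus_inf E hle (InvX.isFrame_pullElt φ hη) hEG, inf_eq_right]
      exact le_trans hle (AmpleX.le_locus E le_rfl (by rw [AModX.res_self]; exact hE))
    have hG := hU hε he _ ((congrArg (AModX.res _ hle) hS).trans (coord_sum (φ := φ) (fun b => (show Γ(X', φ ⁻¹ᵁ ⊤) from Coh.toGlobal pB b)) S g hg))
    have hH := hU hδ he' _ ((congrArg (AModX.res _ hle) hT).trans (coord_sum (φ := φ) (fun b => (show Γ(X', φ ⁻¹ᵁ ⊤) from Coh.toGlobal pB b)) T k hk))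
    have hr' : AModX.resR hle (show Γ(X', φ ⁻¹ᵁ ⊤) from Coh.toGlobal pB r) =
        (∑ p ∈ S, AModX.resR hle (show Γ(X', φ ⁻¹ᵁ ⊤) from Coh.toGlobal pB p.1) * φ.app W (g p.2)) *
          (∑ q ∈ T, AModX.resR hle (show Γ(X', φ ⁻¹ᵁ ⊤) from Coh.toGlobal pB q.1) * φ.app W (k q.2)) * φ.app W w := by
      rw [Finset.sum_mul_sum, Finset.sum_mul]
      let ψ : B →+* Γ(X', φ ⁻¹ᵁ W) := (X'.presheaf.map (homOfLE hle).op).hom.comp (Coh.toGlobal pB)
      show ψ r = _
      simp only [r, map_sum, map_mul]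
      refine Finset.sum_congr rfl fun p _ => ?_
      rw [Finset.sum_mul]
      refine Finset.sum_congr rfl fun q _ => ?_
      have h2 : ψ (algebraMap A B (a p.2 q.2)) = φ.app W (g p.2 * k q.2 * w) := by
        rw [← hA']
        show AModX.resR hle (Coh.toGlobal pB (algebraMap A B (a p.2 q.2))) = _
        rw [QCoh.toGlobal_comm pA pB φ h.w]
        exact (QCoh.app_topRes φ W _).symm
      rw [h2, map_mul, map_mul]
      have h5 : ∀ {R : Type u} [CommRing R] (b c G K w : R), b * c * (G * K * w) = b * G * (c * K) * w := by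
        intros; ring
      exact h5 _ _ _ _ _
    have hb : x ∈ X'.basicOpen (AModX.resR hle (show Γ(X', φ ⁻¹ᵁ ⊤) from Coh.toGlobal pB r)) := by
      rw [hr', Scheme.basicOpen_mul, Scheme.basicOpen_mul, hG, hH, ← Scheme.preimage_basicOpen, hw]
      exact ⟨⟨hxW, hxW⟩, hxW⟩
    rw [show AModX.resR hle (show Γ(X', φ ⁻¹ᵁ ⊤) from Coh.toGlobal pB r) =
      X'.presheaf.map (homOfLE hle).op (show Γ(X', φ ⁻¹ᵁ ⊤) from Coh.toGlobal pB r) from rfl, Scheme.basicOpen_res] at hb
    exact hb.2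
  have hu : IsUnit r := by
    have h1 : IsUnit (Coh.toGlobal pB r) :=
      X'.toRingedSpace.isUnit_of_isUnit_germ ⊤ _ fun x hx => (X'.mem_basicOpen _ x hx).1 (hr x)
    have := h1.map (RingEquiv.ofBijective (Coh.toGlobal pB) (bijective_toGlobal h hA)).symm
    exact (RingEquiv.symm_apply_apply (RingEquiv.ofBijective (Coh.toGlobal pB) (bijective_toGlobal h hA)) r) ▸ this
  by_contra hc
  push Not at hc
  refine Ideal.IsPrime.ne_top ‹P.IsPrime› (P.eq_top_of_isUnit_mem ?_ hu)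
  refine P.sum_mem fun p _ => P.sum_mem fun q _ => P.mul_mem_left _ (by_contra fun hn => ?_)
  refine hc _ hn p.2 ?_
  rw [← hone (Coh.toGlobal pA (a p.2 q.2)), ha, AmpleX.locus_iso, AmpleX.locus_tmul hL hM]
  exact inf_le_left

variable {S S' : Scheme.{u}} (f : X ⟶ S)

/-- If `L` comes from the base after a flat cover it has frames over opens of the base. -/
theorem exists_frame [QuasiCompact f] [QuasiSeparated f] (hf : ∀ U : S.Opens, Function.Bijective (f.app U))
    (g : S' ⟶ S) [Flat g] (L : X.Modules) (hL : PicF.IsInvertible L) {N' : S'.Modules} (hN' : PicF.IsInvertible N')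
    (e : (Scheme.Modules.pullback (pullback.fst f g)).obj L ≅ (Scheme.Modules.pullback (pullback.snd f g)).obj N')
    (s' : S') : ∃ V : S.Opens, g s' ∈ V ∧ ∃ s : Γ(L, f ⁻¹ᵁ V), InvX.IsFrame s := by
  obtain ⟨_, ⟨V, hV, rfl⟩, hsV, -⟩ := S.isBasis_affineOpens.exists_subset_of_mem_open (Set.mem_univ (g s')) isOpen_univ
  replace hsV : g s' ∈ V := hsV
  obtain ⟨W, hsW, ν, hν⟩ := InvX.exists_frame hN' s'
  obtain ⟨_, ⟨U, hU, rfl⟩, hsU, hUle⟩ := S'.isBasis_affineOpens.exists_subset_of_mem_open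
    (a := s') (u := ((g ⁻¹ᵁ V ⊓ W : S'.Opens) : Set S')) ⟨hsV, hsW⟩ (g ⁻¹ᵁ V ⊓ W).2
  replace hsU : s' ∈ U := hsU
  replace hUle : U ≤ g ⁻¹ᵁ V ⊓ W := hUle
  letI : Algebra Γ(S, V) Γ(S', U) := (g.appLE V U (hUle.trans inf_le_left)).hom.toAlgebra
  haveI : Module.Flat Γ(S, V) Γ(S', U) := Flat.flat_appLE g hV hU (hUle.trans inf_le_left)
  let pA : (f ⁻¹ᵁ V).toScheme ⟶ Spec (CommRingCat.of Γ(S, V)) := (f ∣_ V) ≫ hV.isoSpec.hom
  let σ : Spec (CommRingCat.of Γ(S', U)) ⟶ Spec (CommRingCat.of Γ(S, V)) :=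
    Spec.map (CommRingCat.ofHom (algebraMap Γ(S, V) Γ(S', U)))
  haveI : IsAffine (Scheme.Opens.toScheme V) := hV
  haveI : QuasiCompact (f ∣_ V) := MorphismProperty.of_isPullback (isPullback_morphismRestrict f V).flip inferInstance
  haveI : QuasiSeparated (f ∣_ V) := MorphismProperty.of_isPullback (isPullback_morphismRestrict f V).flip inferInstance
  haveI : CompactSpace ↥(f ⁻¹ᵁ V).toScheme := QuasiCompact.compactSpace_of_compactSpace pA
  haveI : QuasiSeparatedSpace ↥(f ⁻¹ᵁ V).toScheme := AlgebraicGeometry.quasiSeparatedSpace_of_quasiSeparated pA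
  have hA : Function.Bijective (Coh.toGlobal pA) := by
    show Function.Bijective (pA.appTop ∘ (Scheme.ΓSpecIso (CommRingCat.of Γ(S, V))).inv)
    rw [Scheme.Hom.comp_appTop]
    exact ((PullPush.app_morphismRestrict_bijective f hf V ⊤).comp
      (ConcreteCategory.bijective_of_isIso hV.isoSpec.hom.appTop)).comp (ConcreteCategory.bijective_of_isIso _)
  have hV' : pA ≫ hV.fromSpec = (f ⁻¹ᵁ V).ι ≫ f := by
    show ((f ∣_ V) ≫ hV.isoSpec.hom) ≫ hV.fromSpec = _
    rw [Category.assoc, IsAffineOpen.isoSpec_hom_fromSpec, morphismRestrict_ι]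
  have hσ : σ ≫ hV.fromSpec = hU.fromSpec ≫ g := IsAffineOpen.SpecMap_appLE_fromSpec g hV hU _
  let φ := pullback.fst pA σ
  let pB := pullback.snd pA σ
  let LV := L.restrict (f ⁻¹ᵁ V).ι
  have hm : (φ ≫ (f ⁻¹ᵁ V).ι) ≫ f = (pB ≫ hU.fromSpec) ≫ g := by
    rw [Category.assoc, ← hV', ← Category.assoc, pullback.condition, Category.assoc, hσ, ← Category.assoc]
  have hν' : Triv ((Scheme.Modules.pullback hU.fromSpec).obj N') := by
    have h1 := InvX.isFrame_pullElt hU.fromSpec (hν.res (hUle.trans inf_le_right))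
    exact triv_of_frame (h1.res (W := ⊤) hU.fromSpec_preimage_self.ge)
  have htriv : Triv ((Scheme.Modules.pullback φ).obj LV) := by
    refine Triv.of_iso ((Scheme.Modules.pullback φ).mapIso ((Scheme.Modules.restrictFunctorIsoPullback _).app L)).symm ?_
    refine (triv_comp_iff φ _).2 ?_
    refine (triv_congr (pullback.lift_fst (f := f) (g := g) _ _ hm)).1 ?_
    refine (triv_comp_iff _ (pullback.fst f g)).1 ?_
    refine Triv.of_iso ((Scheme.Modules.pullback _).mapIso e).symm ?_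
    refine (triv_comp_iff _ (pullback.snd f g)).2 ?_
    refine (triv_congr (pullback.lift_snd (f := f) (g := g) _ _ hm)).2 ?_
    exact (triv_comp_iff pB hU.fromSpec).1 (hν'.pullback pB)
  let P := hU.primeIdealOf ⟨s', hsU⟩
  obtain ⟨a, ha, s, hs⟩ := exists_locus (IsPullback.of_hasPullback pA σ) hA (AmpleX.isInvertible_restrict _ hL) htriv P.asIdeal
  refine ⟨S.basicOpen a, ?_, ?_⟩
  · have h1 : σ P ∈ hV.fromSpec ⁻¹ᵁ S.basicOpen a := by
      rw [hV.fromSpec_preimage_basicOpen]; exact ha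
    have h2 : (σ ≫ hV.fromSpec) P ∈ S.basicOpen a := h1
    rw [hσ] at h2
    have h3 : g (hU.fromSpec P) ∈ S.basicOpen a := h2
    rwa [hU.fromSpec_primeIdealOf] at h3
  · let s₀ : Γ(L, (f ⁻¹ᵁ V).ι ''ᵁ ⊤) := s
    have hle : f ⁻¹ᵁ S.basicOpen a ≤ AmpleX.locus s₀ := by
      rw [← AmpleX.image_locus]
      intro x hx
      refine ⟨⟨x, S.basicOpen_le a hx⟩, hs ?_, rfl⟩
      show _ ∈ (f ⁻¹ᵁ V).toScheme.basicOpen (Coh.toGlobal pA a)
      have h4 : pA ⟨x, S.basicOpen_le a hx⟩ ∈ hV.fromSpec ⁻¹ᵁ S.basicOpen a := by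
        show (pA ≫ hV.fromSpec) ⟨x, S.basicOpen_le a hx⟩ ∈ S.basicOpen a
        rw [hV']
        exact hx
      rw [hV.fromSpec_preimage_basicOpen, ← basicOpen_eq_of_affine] at h4
      exact (pA.preimage_basicOpen_top _).le h4
    exact ⟨_, AmpleX.isFrame_res_of_le s₀ hle⟩

/-- Modules with frames over opens of the base come from the base. -/
theorem exists_base (hf : ∀ U : S.Opens, Function.Bijective (f.app U)) (L : X.Modules)
    (h : ∀ x : S, ∃ V : S.Opens, x ∈ V ∧ ∃ s : Γ(L, f ⁻¹ᵁ V), InvX.IsFrame s) :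
    ∃ N : S.Modules, PicF.IsInvertible N ∧ Nonempty (L ≅ (Scheme.Modules.pullback f).obj N) := by
  refine ⟨(Scheme.Modules.pushforward f).obj L, fun y => ?_, ?_⟩
  · obtain ⟨V, hy, s, hs⟩ := h y
    obtain ⟨φ⟩ := InvX.nonempty_iso_of_isFrame hs
    exact ⟨V, hy, ⟨asIso ((PullPush.pushRestrict f V).app L) ≪≫
      (Scheme.Modules.pushforward (f ∣_ V)).mapIso φ ≪≫
      (PullPush.structureModuleIsoPush (f ∣_ V) (PullPush.app_morphismRestrict_bijective f hf V)).symm⟩⟩
  · haveI : IsIso ((Scheme.Modules.pullbackPushforwardAdjunction f).counit.app L) := by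
      refine ModLoc.isIso_of_locally _ fun x => ?_
      obtain ⟨V, hy, s, hs⟩ := h (f x)
      obtain ⟨φ⟩ := InvX.nonempty_iso_of_isFrame hs
      exact ⟨f ⁻¹ᵁ V, hy, PullPush.isIso_restrict_counit f V L ((NatTrans.isIso_app_iff_of_iso _ φ).2
        (PullPush.isIso_counit_structureModule _ (PullPush.app_morphismRestrict_bijective f hf V)))⟩
    exact ⟨(asIso ((Scheme.Modules.pullbackPushforwardAdjunction f).counit.app L)).symm⟩

/-- Descent of modules coming from the base along a flat cover of the base. -/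
theorem descend [QuasiCompact f] [QuasiSeparated f] (hf : ∀ U : S.Opens, Function.Bijective (f.app U))
    (g : S' ⟶ S) [Flat g] [Surjective g] (L : X.Modules) (hL : PicF.IsInvertible L)
    (hdesc : ∃ N' : S'.Modules, PicF.IsInvertible N' ∧
      Nonempty ((Scheme.Modules.pullback (pullback.fst f g)).obj L ≅ (Scheme.Modules.pullback (pullback.snd f g)).obj N')) :
    ∃ N : S.Modules, PicF.IsInvertible N ∧ Nonempty (L ≅ (Scheme.Modules.pullback f).obj N) := by
  obtain ⟨N', hN', ⟨e⟩⟩ := hdesc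
  refine exists_base f hf L fun x => ?_
  obtain ⟨s', rfl⟩ := g.surjective x
  exact exists_frame f hf g L hL hN' e s'

end Groth.Agent.BaseDescent
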