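import Groth.Agent.H23.RigidGamma
import Groth.Agent.H23.RigidBase
import Groth.Agent.FlatMisc.SteinUC

/-!
`f_* O = O` for proper flat finitely presented morphisms with a section and constant functions on fibres.
-/

set_option backward.isDefEq.respectTransparency false
set_option backward.isDefEq.respectTransparency.types false
set_option linter.style.haveILetI false

universe u

open CategoryTheory CategoryTheory.Limits AlgebraicGeometry TopologicalSpace

namespace Groth.Agent.SectionGamma

open Groth.Agent.H23

/-- `f_* O = O` over any base. -/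
theorem bijective_app {X S : Scheme.{u}} (f : X ⟶ S) [IsProper f] [Flat f] [LocallyOfFinitePresentation f]
    (h0 : RigidApply.ConstFibres f) (e : S ⟶ X) (he : e ≫ f = 𝟙 S) (W : S.Opens) :
    Function.Bijective (f.app W) := by
  refine _root_.FlatMisc.bijective_app_of_isBasis f S.isBasis_affineOpens (fun V hV => ?_) W
  let p := pullback.snd f hV.fromSpec
  let e' : Spec (CommRingCat.of Γ(S, V)) ⟶ pullback f hV.fromSpec :=
    pullback.lift (hV.fromSpec ≫ e) (𝟙 _) (by rw [Category.assoc, he, Category.comp_id, Category.id_comp])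
  have he' : e' ≫ p = 𝟙 _ := pullback.lift_snd _ _ _
  have hcomp : ∀ a, e'.appTop (p.appTop a) = a := fun a => by
    rw [← CommRingCat.comp_apply, ← Scheme.Hom.comp_appTop, he', Scheme.Hom.id_appTop]
    rfl
  have hp : Function.Bijective p.appTop := by
    refine ⟨Function.LeftInverse.injective hcomp, fun h => ⟨e'.appTop h, sub_eq_zero.1 ?_⟩⟩
    refine RigidBase.eq_zero_of_section p (h0.baseChange hV.fromSpec) e' he' _ ?_
    rw [map_sub, hcomp, sub_self]
  haveI : IsAffine (Scheme.Opens.toScheme V) := hV
  have hpb : IsPullback ((f ⁻¹ᵁ V).ι) ((f ∣_ V) ≫ hV.isoSpec.hom) f hV.fromSpec :=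
    IsPullback.of_iso (isPullback_morphismRestrict f V).flip (Iso.refl _) (Iso.refl _) hV.isoSpec (Iso.refl _)
      (by simp) (by simp) (by simp) (by simp [IsAffineOpen.isoSpec_hom_fromSpec])
  have hr : Function.Bijective ((f ∣_ V) ≫ hV.isoSpec.hom).appTop := by
    rw [← hpb.isoPullback_hom_snd, Scheme.Hom.comp_appTop]
    exact (ConcreteCategory.bijective_of_isIso hpb.isoPullback.hom.appTop).comp hp
  rw [Scheme.Hom.comp_appTop] at hr
  have h1 : Function.Bijective (f ∣_ V).appTop :=
    (Function.Bijective.of_comp_iff _ (ConcreteCategory.bijective_of_isIso hV.isoSpec.hom.appTop)).1 hr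
  have e2 := (morphismRestrict_app f V ⊤)
  rw [Scheme.Hom.appTop, e2] at h1
  have hb : Function.Bijective (f.app (V.ι ''ᵁ ⊤)) :=
    (Function.Bijective.of_comp_iff' (ConcreteCategory.bijective_of_isIso
      (X.presheaf.map (eqToHom (image_morphismRestrict_preimage f V ⊤)).op)) _).1 h1
  rwa [V.ι_image_top] at hb

end Groth.Agent.SectionGamma
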