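import Groth.Agent.Lib.RigPoints
import Groth.Agent.Lib.PicZeroPrim

/-!
Existence of Poincaré classes for a given dual abelian scheme.
-/

set_option autoImplicit false
set_option linter.style.haveILetI false
set_option linter.unusedSectionVars false
set_option backward.isDefEq.respectTransparency false
set_option backward.isDefEq.respectTransparency.types false
set_option maxHeartbeats 800000

universe u

open CategoryTheory CategoryTheory.Limits MonoidalCategory CartesianMonoidalCategory MonObj AlgebraicGeometry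
open TopologicalSpace

noncomputable section

namespace Groth.Agent.AVPoincareExist

open Groth.Agent.AbDualBase
open scoped Groth.Agent.H23.PicMul

variable {S : Scheme.{u}} {A At : Over S}

/-- A point of the fibre of a cover at a geometric point. -/
theorem exists_lift {U T : Scheme.{u}} (g : U ⟶ T) [LocallyOfFinitePresentation g] {Ω : Type u} [Field Ω]
    [IsAlgClosed Ω] (σ : Spec (CommRingCat.of Ω) ⟶ T) {x : U} (hx : g x = σ (IsLocalRing.closedPoint Ω)) :
    ∃ s : Spec (CommRingCat.of Ω) ⟶ U, s ≫ g = σ := by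
  obtain ⟨p, -, -⟩ := Scheme.Pullback.exists_preimage_pullback (f := g) (g := σ) x (IsLocalRing.closedPoint Ω) hx
  let q := pullback.snd g σ
  haveI : LocallyOfFinitePresentation q := MorphismProperty.pullback_snd g σ ‹_›
  haveI : LocallyOfFiniteType q := inferInstance
  haveI : JacobsonSpace (Spec (CommRingCat.of Ω)) := inferInstanceAs (JacobsonSpace (PrimeSpectrum Ω))
  haveI : JacobsonSpace (pullback g σ : Scheme.{u}) := LocallyOfFiniteType.jacobsonSpace q
  obtain ⟨w, -, hw⟩ := nonempty_inter_closedPoints (Z := (Set.univ : Set (pullback g σ : Scheme.{u}))) ⟨p, trivial⟩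
    isClosed_univ.isLocallyClosed
  obtain ⟨⟨s, hs⟩, -⟩ := (pointEquivClosedPoint q).surjective ⟨w, hw⟩
  refine ⟨s ≫ pullback.fst g σ, ?_⟩
  rw [Category.assoc, pullback.condition, ← Category.assoc]
  exact (congrArg (· ≫ σ) hs).trans (Category.id_comp σ)

/-- Pic⁰ classes form a domain for descent. -/
theorem dom : RigPoints.Dom A.hom (AbDual.IsPicZeroCl A.hom) where
  inv h := pz_invertible h
  pull g _ h := pz_xtMap g h
  twist {T c m} h hm := by
    rw [mul_comm]
    exact PicZeroPrim.pz_base_mul hm h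
  desc {T c} hc {I} U g _ hl hcov h := by
    obtain ⟨L, rfl, hL⟩ := hc
    refine ⟨L, rfl, hL, fun t Ω _ _ σ hσ => ?_⟩
    obtain ⟨i, x, hx⟩ := hcov (σ (IsLocalRing.closedPoint Ω))
    haveI := hl i
    obtain ⟨s, hs⟩ := exists_lift (g i).left σ hx
    obtain ⟨L', hL'c, -, hL't⟩ := h i
    have h0 := hL't (s (IsLocalRing.closedPoint Ω)) Ω s
      (by rw [Set.range_eq_singleton_iff]; intro z; exact congrArg s (Subsingleton.elim z _))
    let e : pullback (PicF.XTproj A.hom T) σ ⟶ pullback (PicF.XTproj A.hom (U i)) s :=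
      pullback.lift ((RigPoints.isPullback_XTmap A.hom (g i)).lift (pullback.fst _ σ) (pullback.snd _ σ ≫ s)
        (by rw [Category.assoc, hs, pullback.condition])) (pullback.snd _ σ) (IsPullback.lift_snd _ _ _ _)
    have he : e ≫ pullback.fst (PicF.XTproj A.hom (U i)) s ≫ PicF.XTmap A.hom (g i) = pullback.fst _ σ := by
      rw [pullback.lift_fst_assoc, IsPullback.lift_fst]
    letI : (pullback (PicF.XTproj A.hom T) σ).Over (Spec (CommRingCat.of Ω)) := ⟨pullback.snd _ σ⟩
    refine AVDual.algEquivZero_of_iso (Nonempty.some ((PicGrp.cl_eq_cl_iff _ _).1 ?_))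
      (AVDual.algEquivZero_pullback _ _ e (pullback.lift_snd _ _ _) h0)
    show PicF.pullCl e (PicF.pullCl (pullback.fst (PicF.XTproj A.hom (U i)) s) (PicF.cl L')) =
      PicF.pullCl (pullback.fst (PicF.XTproj A.hom T) σ) (PicF.cl L)
    rw [hL'c, PicClLib.pullCl_comp, PicClLib.pullCl_comp, Category.assoc, he]

variable [GrpObj A] [IsProper A.hom] [Smooth A.hom] [GeometricallyConnected A.hom]

/-- Functions on base changes are constant. -/
theorem isIso_app (T : Over S) (V : T.left.Opens) : IsIso ((PicF.XTproj A.hom T).app V) := by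
  let f := PicF.XTproj A.hom T
  haveI : IsProper f := inferInstanceAs (IsProper (pullback.snd A.hom T.hom))
  haveI : Smooth f := inferInstanceAs (Smooth (pullback.snd A.hom T.hom))
  haveI : GeometricallyConnected f := inferInstanceAs (GeometricallyConnected (pullback.snd A.hom T.hom))
  haveI : GeometricallyReduced f := H23.RigidGamma.geometricallyReduced_of_smooth f
  exact (ConcreteCategory.isIso_iff_bijective _).2 (SectionGamma.bijective_app f (H23.RigidGamma.constFibres f)
    (PicF.secT A.hom η[A].left (Over.w η[A]) T) (pullback.lift_snd _ _ _) V)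

variable [GrpObj At] {φ : ∀ T : Over S, PicF.Cl (PicF.XT A.hom T) → (T ⟶ At)}
  (hφ : AbDual.IsDualAV Scheme.fppfPrecoverage A At φ)

include hφ in
/-- Every point of the dual comes from exactly one rigidified class in Pic⁰. -/
theorem existsUnique_rig {T : Over S} (g : T ⟶ At) :
    ∃! c : PicF.Rig A.hom η[A].left (Over.w η[A]) T, AbDual.IsPicZeroCl A.hom T c.1 ∧ φ T c.1 = g := by
  have hP : RigPoints.Pts A.hom (AbDual.IsPicZeroCl A.hom) At φ :=
    ⟨hφ.relPic.natural, hφ.relPic.locallySurjective, hφ.relPic.locallyInjective⟩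
  obtain ⟨c, hc, hcg⟩ := RigPoints.surjective A.hom η[A].left (Over.w η[A]) isIso_app dom hP g
  exact ⟨c, ⟨hc, hcg⟩, fun d hd =>
    RigPoints.injective A.hom η[A].left (Over.w η[A]) isIso_app dom hP hd.1 hc (hd.2.trans hcg.symm)⟩

include hφ in
/-- **A Poincaré class exists.** -/
theorem exists_poincare :
    ∃ P : (PicF.XT A.hom At).Modules, PicF.IsInvertible P ∧ AbDual.IsPoincareCl A At φ (PicF.cl P) := by
  obtain ⟨c, ⟨hc, hc1⟩, -⟩ := existsUnique_rig hφ (𝟙 At)
  obtain ⟨P, hPc, hP⟩ := c.2.1
  exact ⟨P, hP, by rw [hPc]; exact ⟨hc, hc1, c.2.2⟩⟩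

end Groth.Agent.AVPoincareExist
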