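import Groth.Agent.Lib.AbDualBase
import Groth.Prelude.Def_AgPol

/-!
Duals and transposes are compatible with base change.
-/

set_option linter.style.haveILetI false
set_option linter.unusedSectionVars false
set_option backward.isDefEq.respectTransparency false
set_option backward.isDefEq.respectTransparency.types false
set_option maxHeartbeats 400000

universe u

open CategoryTheory CategoryTheory.Limits MonoidalCategory CartesianMonoidalCategory MonObj AlgebraicGeometry

namespace Groth.Agent.AVDualBC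

open Groth.Agent.H23 Groth.Agent.AbDualBase
open scoped Groth.Agent.H23.PicMul CategoryTheory.Obj

variable {S S' : Scheme.{u}} (f : S' ⟶ S)

/-- Membership in Pic⁰ is stable under maps of families. -/
theorem pz_gen {X X' : Scheme.{u}} {p : X ⟶ S} {p' : X' ⟶ S'} {T : Over S} {T' : Over S'} (g : T'.left ⟶ T.left)
    (m : PicF.XT p' T' ⟶ PicF.XT p T) (hm : m ≫ PicF.XTproj p T = PicF.XTproj p' T' ≫ g)
    {c : PicF.Cl (PicF.XT p T)} (h : AbDual.IsPicZeroCl p T c) :
    AbDual.IsPicZeroCl p' T' (PicF.pullCl m c) := by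
  obtain ⟨L, rfl, hL, hLt⟩ := h
  refine ⟨_, rfl, PicClLib.isInvertible_pullback _ hL, fun t Ω _ _ σ hσ => ?_⟩
  have hr : Set.range (σ ≫ g) = {g t} := by
    rw [Scheme.Hom.comp_base, TopCat.coe_comp, Set.range_comp, hσ, Set.image_singleton]
  have h0 := hLt (g t) Ω (σ ≫ g) hr
  let e : pullback (PicF.XTproj p' T') σ ⟶ pullback (PicF.XTproj p T) (σ ≫ g) :=
    pullback.lift (pullback.fst _ σ ≫ m) (pullback.snd _ σ) (by
      rw [Category.assoc, hm, pullback.condition_assoc])
  have h1 := AVDual.algEquivZero_pullback _ _ e (pullback.lift_snd _ _ _) h0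
  refine @AVDual.algEquivZero_of_iso Ω _ _ ⟨pullback.snd _ σ⟩ _ _ ?_ h1
  exact (Scheme.Modules.pullbackComp _ _).app L ≪≫
    eqToIso (congrArg (fun m => (Scheme.Modules.pullback m).obj L) (pullback.lift_fst _ _ _)) ≪≫
    ((Scheme.Modules.pullbackComp _ _).app L).symm

/-- An object over the new base, over the old one. -/
noncomputable abbrev dn (U : Over S') : Over S := Over.mk (U.hom ≫ f)

/-- A morphism over the new base, over the old one. -/
noncomputable abbrev dnMap {U V : Over S'} (g : U ⟶ V) : dn f U ⟶ dn f V :=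
  Over.homMk g.left (show g.left ≫ V.hom ≫ f = U.hom ≫ f by rw [← Category.assoc, Over.w g])

/-- The graph. -/
noncomputable def graph (U : Over S') : U ⟶ Red.bc f (dn f U) :=
  Over.homMk (pullback.lift (𝟙 U.left) U.hom (Category.id_comp _)) (pullback.lift_snd _ _ _)

variable {f}

/-- The point of the base change. -/
noncomputable def up {U : Over S'} {X : Over S} (x : dn f U ⟶ X) : U ⟶ Red.bc f X :=
  graph f U ≫ (Over.pullback f).map x

theorem up_fst {U : Over S'} {X : Over S} (x : dn f U ⟶ X) :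
    (up x).left ≫ pullback.fst X.hom f = x.left := by
  simp [up, graph, Over.pullback]
  exact Category.id_comp _

theorem up_injective {U : Over S'} {X : Over S} : Function.Injective (up (f := f) (U := U) (X := X)) := fun x y e =>
  Over.OverMorphism.ext (by rw [← up_fst x, ← up_fst y, e])

theorem up_mul {U : Over S'} {X : Over S} [GrpObj X] (x y : dn f U ⟶ X) :
    up (f := f) (x * y) = up x * up y := by
  rw [up, Functor.map_mul, MonObj.comp_mul]
  rfl

theorem up_comp {U : Over S'} {X Y : Over S} (x : dn f U ⟶ X) (g : X ⟶ Y) :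
    up (f := f) (x ≫ g) = up x ≫ (Over.pullback f).map g := by
  rw [up, up, Functor.map_comp, Category.assoc]

theorem up_pre {U V : Over S'} (g : V ⟶ U) {X : Over S} (x : dn f U ⟶ X) :
    up (dnMap f g ≫ x) = g ≫ up x := by
  refine Over.OverMorphism.ext (pullback.hom_ext ?_ ?_)
  · refine (up_fst _).trans ?_
    show g.left ≫ x.left = (g.left ≫ (up x).left) ≫ pullback.fst X.hom f
    rw [Category.assoc, up_fst]
  · exact (Over.w (up (dnMap f g ≫ x))).trans (Over.w (g ≫ up x)).symm

theorem up_surjective {U : Over S'} {X : Over S} (y : U ⟶ Red.bc f X) : ∃ x, up (f := f) x = y := by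
  refine ⟨Over.homMk (y.left ≫ pullback.fst X.hom f) ?_, Over.OverMorphism.ext (pullback.hom_ext ?_ ?_)⟩
  · show (y.left ≫ pullback.fst X.hom f) ≫ X.hom = U.hom ≫ f
    rw [Category.assoc, pullback.condition, ← Category.assoc]
    exact congrArg (· ≫ f) (Over.w y)
  · rw [up_fst]; rfl
  · exact (Over.w (up _)).trans (Over.w y).symm

variable {A B At Bt : Over S}

theorem bcDual_eq (φ : AgPol.DualMap A At) (U : Over S') (c : PicF.Cl (PicF.XT (Red.bc f A).hom U)) :
    AgPol.bcDual f A At φ U c = up (φ (dn f U) (PicF.pullCl (AgPol.bcXTIso f A U).inv c)) := by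
  refine Over.OverMorphism.ext (pullback.hom_ext ?_ ?_)
  · rw [up_fst]; exact pullback.lift_fst _ _ _
  · exact (Over.w (AgPol.bcDual f A At φ U c)).trans (Over.w (up _)).symm

theorem hom_xtMap {U V : Over S'} (g : V ⟶ U) :
    PicF.XTmap (Red.bc f A).hom g ≫ (AgPol.bcXTIso f A U).hom =
      (AgPol.bcXTIso f A V).hom ≫ PicF.XTmap A.hom (dnMap f g) := by
  refine pullback.hom_ext ?_ ?_
  · simp [AgPol.bcXTIso, PicF.XTmap]
  · simp [AgPol.bcXTIso, PicF.XTmap]

theorem inv_xtMap {U V : Over S'} (g : V ⟶ U) :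
    (AgPol.bcXTIso f A V).inv ≫ PicF.XTmap (Red.bc f A).hom g =
      PicF.XTmap A.hom (dnMap f g) ≫ (AgPol.bcXTIso f A U).inv := by
  rw [Iso.inv_comp_eq, ← Category.assoc, ← hom_xtMap, Category.assoc, Iso.hom_inv_id, Category.comp_id]

theorem pz_inv {U : Over S'} {c : PicF.Cl (PicF.XT (Red.bc f A).hom U)}
    (h : AbDual.IsPicZeroCl (Red.bc f A).hom U c) :
    AbDual.IsPicZeroCl A.hom (dn f U) (PicF.pullCl (AgPol.bcXTIso f A U).inv c) :=
  pz_gen (T := U) (T' := dn f U) (𝟙 U.left) (AgPol.bcXTIso f A U).inv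
    (((pullbackLeftPullbackSndIso_inv_snd_snd A.hom f U.hom).trans (Category.comp_id _).symm :)) h

theorem pz_hom {U : Over S'} {c : PicF.Cl (PicF.XT A.hom (dn f U))} (h : AbDual.IsPicZeroCl A.hom (dn f U) c) :
    AbDual.IsPicZeroCl (Red.bc f A).hom U (PicF.pullCl (AgPol.bcXTIso f A U).hom c) :=
  pz_gen (T := dn f U) (T' := U) (𝟙 U.left) (AgPol.bcXTIso f A U).hom
    (((pullbackLeftPullbackSndIso_hom_snd A.hom f U.hom).trans (Category.comp_id _).symm :)) h

variable [GrpObj At] {φ : AgPol.DualMap A At}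

theorem isDualAV (hφ : AbDual.IsDualAV Scheme.fppfPrecoverage A At φ) :
    AbDual.IsDualAV Scheme.fppfPrecoverage (Red.bc f A) (Red.bc f At) (AgPol.bcDual f A At φ) where
  relPic :=
  { natural := fun T T' g c hc => by
      rw [bcDual_eq, bcDual_eq, ← up_pre, ← hφ.relPic.natural _ _ (dnMap f g) _ (pz_inv hc), PicClLib.pullCl_comp,
        inv_xtMap, ← PicClLib.pullCl_comp]
    locallySurjective := fun T g => by
      obtain ⟨x, rfl⟩ := up_surjective g
      obtain ⟨R, hR, hs⟩ := hφ.relPic.locallySurjective (dn f T) x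
      refine ⟨R, hR, fun U v hv => ?_⟩
      obtain ⟨c, hc, hcv⟩ := hs v hv
      let a : dn f (AbDual.ovr T v) ⟶ AbDual.ovr (dn f T) v := Over.homMk (𝟙 U) (by
        show 𝟙 U ≫ v ≫ T.hom ≫ f = (v ≫ T.hom) ≫ f
        rw [Category.id_comp, Category.assoc])
      refine ⟨PicF.pullCl (AgPol.bcXTIso f A (AbDual.ovr T v)).hom (PicF.pullCl (PicF.XTmap A.hom a) c),
        pz_hom (pz_xtMap a hc), ?_⟩
      rw [bcDual_eq, PicClLib.pullCl_comp (AgPol.bcXTIso f A (AbDual.ovr T v)).inv, Iso.inv_hom_id, PicClLib.pullCl_id,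
        hφ.relPic.natural _ _ a c hc, hcv, ← up_pre]
      refine congrArg up (Over.OverMorphism.ext ?_)
      show 𝟙 U ≫ v ≫ x.left = v ≫ x.left
      rw [Category.id_comp]
    locallyInjective := fun T c c' hc hc' e => by
      rw [bcDual_eq, bcDual_eq] at e
      obtain ⟨R, hR, hi⟩ := hφ.relPic.locallyInjective (dn f T) _ _ (pz_inv hc) (pz_inv hc') (up_injective e)
      refine ⟨R, hR, fun U v hv => ?_⟩
      let a : dn f (AbDual.ovr T v) ⟶ AbDual.ovr (dn f T) v := Over.homMk (𝟙 U) (by
        show 𝟙 U ≫ v ≫ T.hom ≫ f = (v ≫ T.hom) ≫ f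
        rw [Category.id_comp, Category.assoc])
      have key : ∀ d : PicF.Cl (PicF.XT (Red.bc f A).hom T),
          PicF.pullCl (PicF.XTmap (Red.bc f A).hom (AbDual.ovrHom T v)) d =
          PicF.pullCl (AgPol.bcXTIso f A (AbDual.ovr T v)).hom (PicF.pullCl (PicF.XTmap A.hom a)
            (PicF.pullCl (PicF.XTmap A.hom (AbDual.ovrHom (dn f T) v)) (PicF.pullCl (AgPol.bcXTIso f A T).inv d))) := fun d => by
        rw [PicClLib.pullCl_comp, PicClLib.pullCl_comp, PicClLib.pullCl_comp]
        refine congrArg (PicF.pullCl · d) ?_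
        rw [← cancel_mono (AgPol.bcXTIso f A T).hom, hom_xtMap]
        simp only [Category.assoc, Iso.inv_hom_id, Category.comp_id]
        refine congrArg (_ ≫ ·) (pullback.hom_ext ?_ ?_)
        · simp [PicF.XTmap]
        · simp [PicF.XTmap, a]
      rw [key, key, hi v hv] }
  mul T L M hL hM := by
    have e : PicF.cl (CohB1.tensorMod L M) = PicF.cl L * PicF.cl M := rfl
    rw [e, bcDual_eq, bcDual_eq, bcDual_eq, ← up_mul, PicMul.pullCl_mul, phi_mul hφ (pz_inv hL) (pz_inv hM)]

theorem isTranspose {φA : AgPol.DualMap A At} {φB : AgPol.DualMap B Bt} {g : A ⟶ B} {gt : Bt ⟶ At}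
    (hg : AbDual.IsTranspose g φA φB gt) :
    AbDual.IsTranspose ((Over.pullback f).map g) (AgPol.bcDual f A At φA) (AgPol.bcDual f B Bt φB)
      ((Over.pullback f).map gt) := fun T c hc => by
  rw [bcDual_eq, bcDual_eq, ← up_comp, ← hg _ _ (pz_inv hc), PicClLib.pullCl_comp, PicClLib.pullCl_comp]
  refine congrArg (fun m => up (φA _ (PicF.pullCl m c))) ?_
  rw [← cancel_epi (AgPol.bcXTIso f A T).hom, Iso.hom_inv_id_assoc,
    ← cancel_mono (AgPol.bcXTIso f B T).hom, Category.assoc, Category.assoc, Iso.inv_hom_id, Category.comp_id]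
  refine pullback.hom_ext ?_ ?_
  · simp [AgPol.bcXTIso, AbDual.bcMap, Over.pullback]
  · simp [AgPol.bcXTIso, AbDual.bcMap, Over.pullback]

end Groth.Agent.AVDualBC
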