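import Groth.Agent.Lib.AVHomDescent
import Groth.Agent.AGFLib.QuasiComp.Hom
import Groth.Agent.AVTors.TateInj
import Groth.Agent.H23.MaxAbelian
import Groth.Agent.AGFLib.QuasiComp.Compl
import Groth.Agent.S19572
import Groth.Agent.S7790
import Groth.Agent.S4717
import Groth.Agent.H23.RedSub

/-!
Poincaré reducibility: abelian subvarieties are retracts up to isogeny.
-/

set_option autoImplicit false
set_option linter.style.haveILetI false
set_option linter.unusedSectionVars false
set_option backward.isDefEq.respectTransparency false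
set_option backward.isDefEq.respectTransparency.types false
set_option maxHeartbeats 1000000

universe u

open CategoryTheory CategoryTheory.Limits MonoidalCategory CartesianMonoidalCategory MonObj AlgebraicGeometry TopologicalSpace

noncomputable section

namespace Groth.Agent.AVPoincare

open AVHomDescent

attribute [local instance] Functor.monObjObj Functor.grpObjObj

variable {k : Type u} [Field k] {K : Type u} [Field K] [Algebra k K]
  {A B : Over (Spec (CommRingCat.of k))} [GrpObj A] [GrpObj B]

variable (k K) in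
/-- The base change functor. -/
abbrev bc : Over (Spec (CommRingCat.of k)) ⥤ Over (Spec (CommRingCat.of K)) :=
  Over.pullback (Spec.map (CommRingCat.ofHom (algebraMap k K)))

/-- A homomorphism of base changes, as a family. -/
def ofBC (f : (bc k K).obj A ⟶ (bc k K).obj B) : A ⊗ P k K ⟶ B :=
  Over.homMk (f.left ≫ pullback.fst B.hom (P k K).hom) (by
    have h := Over.w f
    show (f.left ≫ pullback.fst B.hom (P k K).hom) ≫ B.hom = pullback.fst A.hom (P k K).hom ≫ A.hom
    rw [Category.assoc, pullback.condition, pullback.condition]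
    exact (Category.assoc _ _ _).symm.trans (congrArg (· ≫ (P k K).hom) h))

theorem isFam_ofBC (f : (bc k K).obj A ⟶ (bc k K).obj B) [IsMonHom f] : IsFam (ofBC f) := by
  intro W a a' t
  let u := Spec.map (CommRingCat.ofHom (algebraMap k K))
  let W' : Over (Spec (CommRingCat.of K)) := Over.mk t.left
  let e : (Over.map u).obj W' ⟶ W := Over.homMk (𝟙 W.left) (by
    show 𝟙 W.left ≫ W.hom = t.left ≫ u
    rw [Category.id_comp]; exact (Over.w t).symm)
  haveI : IsIso e.left := inferInstanceAs (IsIso (𝟙 W.left))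
  haveI : Epi e := Over.epi_of_epi_left _
  let β : ((Over.map u).obj W' ⟶ A) → ((Over.map u).obj W' ⟶ B) :=
    fun x => (AVTors.bcPts u W' B).symm (AVTors.bcPts u W' A x ≫ f)
  have hβ : ∀ x y, β (x * y) = β x * β y := fun x y => by
    simp only [β, map_mul, MonObj.mul_comp]
  have key : ∀ b : W ⟶ A, e ≫ lift b t ≫ ofBC f = β (e ≫ b) := fun b => by
    ext1
    show 𝟙 W.left ≫ (lift b t).left ≫ f.left ≫ pullback.fst B.hom _ =
      (((Over.mapPullbackAdj u).homEquiv W' B).symm ((Over.mapPullbackAdj u).homEquiv W' A (e ≫ b) ≫ f)).left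
    have hl : (lift b t).left = ((Over.mapPullbackAdj u).homEquiv W' A (e ≫ b)).left := by
      refine pullback.hom_ext ?_ ?_
      · refine (congrArg CommaMorphism.left (lift_fst b t)).trans ?_
        simp [Adjunction.homEquiv_unit, e, u]
        exact ((Category.id_comp _).trans (Category.id_comp _)).symm
      · refine (congrArg CommaMorphism.left (lift_snd b t)).trans ?_
        exact (Over.w ((Over.mapPullbackAdj u).homEquiv W' A (e ≫ b))).symm
    rw [hl, Category.id_comp]
    simp [Adjunction.homEquiv_counit]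
    rfl
  rw [← cancel_epi e, key, MonObj.comp_mul, MonObj.comp_mul, key, key, hβ]

theorem whiskerRight_ofBC {Z W : Over (Spec (CommRingCat.of k))} [GrpObj W] (u : Z ⟶ A) (v : B ⟶ W) (w : Z ⟶ W)
    (f : (bc k K).obj A ⟶ (bc k K).obj B) (h : (bc k K).map u ≫ f ≫ (bc k K).map v = (bc k K).map w) :
    (u ▷ P k K) ≫ ofBC f ≫ v = fst Z (P k K) ≫ w := by
  ext1
  have h1 := congrArg (fun φ => CommaMorphism.left φ ≫ pullback.fst W.hom (P k K).hom) h
  show (u ▷ P k K).left ≫ (f.left ≫ pullback.fst B.hom (P k K).hom) ≫ v.left =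
    pullback.fst Z.hom (P k K).hom ≫ w.left
  have hu : (u ▷ P k K).left = ((bc k K).map u).left := by
    refine pullback.hom_ext ?_ ?_
    · refine (congrArg CommaMorphism.left (whiskerRight_fst u (P k K))).trans ?_
      exact (pullback.lift_fst _ _ _).symm
    · refine (congrArg CommaMorphism.left (whiskerRight_snd u (P k K))).trans ?_
      exact (pullback.lift_snd _ _ _).symm
  have hv : ((bc k K).map v).left ≫ pullback.fst W.hom (P k K).hom = pullback.fst B.hom (P k K).hom ≫ v.left :=
    pullback.lift_fst _ _ _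
  have hw : ((bc k K).map w).left ≫ pullback.fst W.hom (P k K).hom = pullback.fst Z.hom (P k K).hom ≫ w.left :=
    pullback.lift_fst _ _ _
  simp only [Over.comp_left, Category.assoc] at h1
  rw [hu, ← hw, ← h1]
  simp only [Category.assoc]
  rw [← hv]

variable [IsProper A.hom] [GeometricallyIntegral A.hom] [IsProper B.hom] [GeometricallyIntegral B.hom]
  [IsCommMonObj B]

/-- An abelian subvariety is a retract up to multiplication by a positive integer. -/
theorem exists_retraction (i : B ⟶ A) [IsMonHom i] [IsClosedImmersion i.left] :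
    ∃ (g : A ⟶ B) (n : ℕ), IsMonHom g ∧ 0 < n ∧ i ≫ g = 𝟙 B ^ n := by
  let K := AlgebraicClosure k
  let b : Spec (CommRingCat.of K) ⟶ Spec (CommRingCat.of k) := Spec.map (CommRingCat.ofHom (algebraMap k K))
  haveI hAp : IsProper ((bc k K).obj A).hom := inferInstanceAs (IsProper (pullback.snd A.hom b))
  haveI hBp : IsProper ((bc k K).obj B).hom := inferInstanceAs (IsProper (pullback.snd B.hom b))
  haveI : GeometricallyIntegral ((bc k K).obj A).hom := inferInstanceAs (GeometricallyIntegral (pullback.snd A.hom b))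
  haveI : GeometricallyIntegral ((bc k K).obj B).hom := inferInstanceAs (GeometricallyIntegral (pullback.snd B.hom b))
  haveI : IsIntegral ((bc k K).obj A).left := GeometricallyIntegral.isIntegral_of_subsingleton ((bc k K).obj A).hom
  haveI : IsIntegral ((bc k K).obj B).left := GeometricallyIntegral.isIntegral_of_subsingleton ((bc k K).obj B).hom
  haveI : Smooth ((bc k K).obj A).hom := S7795.result _
  haveI : Smooth ((bc k K).obj B).hom := S7795.result _
  haveI : ConnectedSpace ((bc k K).obj A).left := ⟨inferInstance⟩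
  haveI : ConnectedSpace ((bc k K).obj B).left := ⟨inferInstance⟩
  haveI : IsClosedImmersion ((bc k K).map i).left :=
    MorphismProperty.of_isPullback (P := @IsClosedImmersion)
      (IsPullback.of_bot (h₁₁ := pullback.fst B.hom b) (v₁₁ := ((bc k K).map i).left) (v₁₂ := i.left)
        (h₂₁ := pullback.fst A.hom b) (by
          rw [show ((bc k K).map i).left ≫ pullback.snd A.hom b = pullback.snd B.hom b from pullback.lift_snd _ _ _,
            Over.w i]
          exact IsPullback.of_hasPullback B.hom b)
        (pullback.lift_fst _ _ _).symm (IsPullback.of_hasPullback A.hom b)) ‹IsClosedImmersion i.left›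
  obtain ⟨f, hf, n, hn, h⟩ := AGFLib.QuasiComp.exists_hom ((bc k K).map i)
  obtain ⟨g, m, hg, hm, hrel⟩ := exists_descent (ofBC f) (isFam_ofBC f)
  refine ⟨g, n * m, hg, Nat.mul_pos hn hm, ?_⟩
  have := hrel B B i (𝟙 B) (𝟙 B ^ n) (whiskerRight_ofBC i (𝟙 B) _ f (by
    rw [CategoryTheory.Functor.map_id, Category.comp_id, h]
    refine Eq.trans ?_ (map_pow (MonoidHom.mk' (fun φ : B ⟶ B => (bc k K).map φ)
      fun x y => Functor.map_mul _ x y) (𝟙 B) n).symm
    show _ = (bc k K).map (𝟙 B) ^ n
    rw [CategoryTheory.Functor.map_id]))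
  rw [Category.comp_id] at this
  rw [this, pow_mul]

omit [Algebra k K] in
/-- Over an algebraically closed field a surjective homomorphism has a section up to a positive integer. -/
theorem exists_section_closed [IsAlgClosed K] {A B : Over (Spec (CommRingCat.of K))} [GrpObj A] [GrpObj B]
    [IsProper A.hom] [GeometricallyIntegral A.hom] [IsProper B.hom] [GeometricallyIntegral B.hom]
    (p : A ⟶ B) [IsMonHom p] [Surjective p.left] :
    ∃ (s : B ⟶ A) (m : ℕ), IsMonHom s ∧ 0 < m ∧ s ≫ p = 𝟙 B ^ m := by
  haveI : IsIntegral A.left := GeometricallyIntegral.isIntegral_of_subsingleton A.hom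
  haveI : Smooth A.hom := S7795.result A
  haveI : ConnectedSpace A.left := ⟨inferInstance⟩
  obtain ⟨N, _, k₀, hk₀, hk₀c, -, hker⟩ := GrpSchLib.exists_kernel p
  haveI : LocallyOfFiniteType N.hom := by rw [← Over.w k₀]; infer_instance
  haveI : QuasiCompact N.hom := by rw [← Over.w k₀]; infer_instance
  haveI : IsSeparated N.hom := by rw [← Over.w k₀]; infer_instance
  obtain ⟨C, _, e, he, hec, hCs, hCc, hCq, S, hS, hcov⟩ := AGFLib.BorelExist.exists_idComp (P := N)
  let c := e ≫ k₀
  haveI : IsClosedImmersion c.left := inferInstanceAs (IsClosedImmersion (e.left ≫ k₀.left))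
  haveI : IsProper C.hom := by rw [← Over.w c]; infer_instance
  obtain ⟨H, _, h, hh, hhc, hHs, hHc, -, hsurj, hfin⟩ := AGFLib.QuasiComp.exists_compl c
  haveI : IsProper H.hom := by rw [← Over.w h]; infer_instance
  haveI : IsReduced H.left := GrpSchLib.isReduced_of_smooth_field H.hom
  haveI : IrreducibleSpace H.left := AGFLib.Rosen.irreducibleSpace_of_connected
  haveI : IsIntegral H.left := isIntegral_of_irreducibleSpace_of_isReduced H.left
  haveI : GeometricallyIntegral H.hom := H23.EquidimFibres.geometricallyIntegral_of_isAlgClosed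
  let q : H ⟶ B := h ≫ p
  have hcp : c ≫ p = 1 := by
    rw [Category.assoc, hker.w, ← Category.assoc, comp_toUnit]; rfl
  haveI : Surjective q.left := by
    have e1 : ((c ⊗ₘ h) ≫ μ[A]) ≫ p = snd C H ≫ q := by
      rw [show (c ⊗ₘ h) ≫ μ[A] = (fst C H ≫ c) * (snd C H ≫ h) by
        rw [Hom.mul_def, CartesianMonoidalCategory.lift_fst_comp_snd_comp], MonObj.mul_comp, Category.assoc, hcp,
        MonObj.comp_one, _root_.one_mul, Category.assoc]
    have h1 : Surjective (((c ⊗ₘ h) ≫ μ[A]) ≫ p).left := by
      rw [Over.comp_left]; infer_instance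
    rw [e1, Over.comp_left] at h1
    haveI := h1
    exact Surjective.of_comp (snd C H).left q.left
  haveI : IsProper q.left := by
    haveI : IsProper (q.left ≫ B.hom) := by rw [Over.w q]; infer_instance
    exact IsProper.of_comp q.left B.hom
  let PT := 𝟙_ (Over (Spec (CommRingCat.of K)))
  have hCH : ({y : PT ⟶ H | ∃ x : PT ⟶ C, x ≫ c = y ≫ h}).Finite := by
    haveI : IsFinite (pullback.fst c.left h.left ≫ C.hom) := hfin
    haveI : Finite ↥(pullback c.left h.left) := Set.finite_univ_iff.1
      (((pullback.fst c.left h.left ≫ C.hom).finite_preimage_singleton (IsLocalRing.closedPoint K)).subset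
        fun x _ => Subsingleton.elim (α := Spec (CommRingCat.of K)) _ _)
    refine Set.Finite.of_finite_image (f := fun y : PT ⟶ H => y.left (IsLocalRing.closedPoint K))
      ((Set.finite_range fun z => (pullback.snd c.left h.left) z).subset ?_) ?_
    · rintro _ ⟨y, ⟨x, hx⟩, rfl⟩
      refine ⟨(pullback.lift x.left y.left (congrArg CommaMorphism.left hx) : _ ⟶ pullback c.left h.left)
        (IsLocalRing.closedPoint K), ?_⟩
      dsimp only
      rw [← Scheme.Hom.comp_apply, pullback.lift_snd]
    · intro y _ y' _ hy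
      exact Over.OverMorphism.ext (ext_of_apply_closedPoint_eq H.hom (Over.w y) (Over.w y') hy)
  have hKq : ({y : PT ⟶ H | y ≫ q = 1}).Finite := by
    refine (hS.biUnion fun s _ => ?_ : (⋃ s ∈ S, {y : PT ⟶ H | ∃ x : PT ⟶ C, (s ≫ k₀) * (x ≫ c) = y ≫ h}).Finite).subset ?_
    · by_cases hne : {y : PT ⟶ H | ∃ x : PT ⟶ C, (s ≫ k₀) * (x ≫ c) = y ≫ h}.Nonempty
      · obtain ⟨y₀, x₀, h₀⟩ := hne
        refine (hCH.image fun y => y₀ * y).subset ?_
        rintro y ⟨x, hx⟩
        refine ⟨y₀⁻¹ * y, ⟨x₀⁻¹ * x, ?_⟩, mul_inv_cancel_left _ _⟩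
        rw [MonObj.mul_comp, MonObj.mul_comp, GrpObj.inv_comp, GrpObj.inv_comp, ← hx, ← h₀, _root_.mul_inv_rev,
          _root_.mul_assoc, inv_mul_cancel_left]
      · rw [Set.not_nonempty_iff_eq_empty.1 hne]; exact Set.finite_empty
    · intro y (hy : y ≫ q = 1)
      rw [← Category.assoc] at hy
      let z : PT ⟶ N := hker.lift (y ≫ h) (toUnit _) hy
      have hz : z ≫ k₀ = y ≫ h := hker.lift_fst _ _ _
      obtain ⟨s, hs, x, hx⟩ := hcov z
      refine Set.mem_biUnion hs ⟨x, ?_⟩
      rw [← hz, ← hx, MonObj.mul_comp, Category.assoc]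
  haveI : LocallyQuasiFinite q.left := by
    refine GrpSchLib.HomFinite.locallyQuasiFinite_of_finite_preimage q ?_
    obtain ⟨NK, _, kq, -, hkqc, -, hkq⟩ := GrpSchLib.exists_kernel q
    haveI : LocallyOfFiniteType NK.hom := by rw [← Over.w kq]; infer_instance
    haveI : QuasiCompact NK.hom := by rw [← Over.w kq]; infer_instance
    haveI : IsSeparated NK.hom := by rw [← Over.w kq]; infer_instance
    haveI : Mono kq := by
      haveI : Mono kq.left := inferInstance
      exact Over.mono_of_mono_left kq
    haveI : IsFinite NK.hom := AGFLib.QuotProper.isFinite_of_finite_pts ((fun t : PT ⟶ NK => t ≫ kq) ⁻¹' {y | y ≫ q = 1})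
      (hKq.preimage fun a _ b _ hab => (cancel_mono kq).1 hab)
      (fun t => by
        show (t ≫ kq) ≫ q = 1
        rw [Category.assoc, hkq.w, ← Category.assoc, comp_toUnit]; rfl)
    haveI : Finite NK.left := Set.finite_univ_iff.1
      ((NK.hom.finite_preimage_singleton (IsLocalRing.closedPoint K)).subset
        fun x _ => Subsingleton.elim (α := Spec (CommRingCat.of K)) _ _)
    refine (Set.finite_range kq.left).subset fun x hx => ?_
    obtain ⟨w, hw, -⟩ := Scheme.exists_preimage_of_isPullback (hkq.map (Over.forget _)) x (IsLocalRing.closedPoint K) hx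
    exact ⟨w, hw⟩
  haveI : IsFinite q.left := GrpSchLib.HomFinite.isFinite_of_isAlgClosed q
  haveI : IsIntegral B.left := GeometricallyIntegral.isIntegral_of_subsingleton B.hom
  haveI : IsLocallyNoetherian H.left := LocallyOfFiniteType.isLocallyNoetherian H.hom
  haveI : IsLocallyNoetherian B.left := LocallyOfFiniteType.isLocallyNoetherian B.hom
  obtain ⟨-, hflat⟩ := S19572.result K H B q ((S4717.result q.left).2 q.left.surjective)
  haveI := hflat
  haveI : GeometricallyConnected H.hom := H23.CubeAb.geometricallyConnected_of_integral H.hom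
  haveI : GeometricallyConnected B.hom := H23.CubeAb.geometricallyConnected_of_integral B.hom
  let d := Scheme.Hom.finrank q.left (η[B].left (IsLocalRing.closedPoint K))
  have hd : 1 ≤ d := ((Scheme.Hom.one_le_finrank_iff_surjective (f := q.left)).2 inferInstance) _
  obtain ⟨⟨g, ⟨hgm, hqg⟩, -⟩, hall⟩ := S7790.result H B q d hd fun s => congrArg _ (congrArg _
    (@Subsingleton.elim (Spec (CommRingCat.of K)) inferInstance _ _))
  haveI := hgm
  refine ⟨g ≫ h, d, inferInstance, by omega, ?_⟩
  rw [Category.assoc]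
  exact (hall g hgm hqg).1

variable [IsCommMonObj A]

/-- A surjective homomorphism has a section up to a positive integer. -/
theorem exists_section (p : A ⟶ B) [IsMonHom p] [Surjective p.left] :
    ∃ (s : B ⟶ A) (m : ℕ), IsMonHom s ∧ 0 < m ∧ s ≫ p = 𝟙 B ^ m := by
  let K := AlgebraicClosure k
  let b : Spec (CommRingCat.of K) ⟶ Spec (CommRingCat.of k) := Spec.map (CommRingCat.ofHom (algebraMap k K))
  haveI : IsProper ((bc k K).obj A).hom := inferInstanceAs (IsProper (pullback.snd A.hom b))
  haveI : IsProper ((bc k K).obj B).hom := inferInstanceAs (IsProper (pullback.snd B.hom b))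
  haveI : GeometricallyIntegral ((bc k K).obj A).hom := inferInstanceAs (GeometricallyIntegral (pullback.snd A.hom b))
  haveI : GeometricallyIntegral ((bc k K).obj B).hom := inferInstanceAs (GeometricallyIntegral (pullback.snd B.hom b))
  haveI : Surjective ((bc k K).map p).left :=
    MorphismProperty.of_isPullback (P := @Surjective)
      (IsPullback.of_bot (h₁₁ := pullback.fst A.hom b) (v₁₁ := ((bc k K).map p).left) (v₁₂ := p.left)
        (h₂₁ := pullback.fst B.hom b) (by
          rw [show ((bc k K).map p).left ≫ pullback.snd B.hom b = pullback.snd A.hom b from pullback.lift_snd _ _ _,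
            Over.w p]
          exact IsPullback.of_hasPullback A.hom b)
        (pullback.lift_fst _ _ _).symm (IsPullback.of_hasPullback B.hom b)) ‹Surjective p.left›
  obtain ⟨f, n, hf, hn, h⟩ := exists_section_closed ((bc k K).map p)
  obtain ⟨g, m, hg, hm, hrel⟩ := exists_descent (ofBC f) (isFam_ofBC f)
  refine ⟨g, n * m, hg, Nat.mul_pos hn hm, ?_⟩
  have := hrel B B (𝟙 B) p (𝟙 B ^ n) (whiskerRight_ofBC (𝟙 B) p _ f (by
    rw [CategoryTheory.Functor.map_id, Category.id_comp, h]
    refine Eq.trans ?_ (map_pow (MonoidHom.mk' (fun φ : B ⟶ B => (bc k K).map φ)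
      fun x y => Functor.map_mul _ x y) (𝟙 B) n).symm
    show _ = (bc k K).map (𝟙 B) ^ n
    rw [CategoryTheory.Functor.map_id]))
  rw [Category.id_comp] at this
  rw [this, pow_mul]

/-- Every homomorphism of abelian varieties is regular up to a positive integer. -/
theorem exists_regular {A B : Over (Spec (CommRingCat.of k))} [GrpObj A] [GrpObj B] [IsCommMonObj A] [IsCommMonObj B]
    [IsProper A.hom] [GeometricallyIntegral A.hom] [IsProper B.hom] [GeometricallyIntegral B.hom]
    (x : A ⟶ B) [IsMonHom x] :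
    ∃ (y : B ⟶ A) (n : ℕ), IsMonHom y ∧ 0 < n ∧ x ≫ y ≫ x = x ^ n := by
  obtain ⟨N, _, j, hjm, hjc, hNp, hNi, hjr⟩ := H23.MaxAbelian.exists_image x ⟨η[A], IsMonHom.one_hom x⟩
    ⟨μ[A], by rw [IsMonHom.mul_hom, Hom.mul_def, ← lift_map, lift_fst_snd, Category.id_comp]⟩
    ⟨ι[A], by rw [Hom.inv_def, GrpObj.inv_hom]⟩
  haveI := hjc
  haveI : IsIntegral A.left := GeometricallyIntegral.isIntegral_of_subsingleton A.hom
  haveI : Mono j := Over.mono_of_mono_left j
  haveI : IsCommMonObj N := ⟨by
    rw [← cancel_mono j]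
    simp [IsMonHom.mul_hom, ← BraidedCategory.braiding_naturality_assoc]⟩
  obtain ⟨p₀, hp₀⟩ := H23.RedSub.exists_lift_closed x.left j.left hjr.ge
  let p : A ⟶ N := Over.homMk p₀ (by rw [← Over.w j, reassoc_of% hp₀, Over.w x])
  have hpj : p ≫ j = x := Over.OverMorphism.ext hp₀
  haveI : IsMonHom p := by
    constructor
    · rw [← cancel_mono j, Category.assoc, hpj, IsMonHom.one_hom, IsMonHom.one_hom]
    · rw [← cancel_mono j, Category.assoc, hpj, Category.assoc, IsMonHom.mul_hom, IsMonHom.mul_hom,
        ← Category.assoc, tensorHom_comp_tensorHom, hpj]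
  haveI : Surjective p.left := ⟨fun z => by
    obtain ⟨a, ha⟩ : j.left z ∈ Set.range x.left := hjr ▸ ⟨z, rfl⟩
    exact ⟨a, j.left.isClosedEmbedding.injective ((Scheme.Hom.comp_apply _ _ _).symm.trans
      ((congrArg (fun f : A ⟶ B => f.left a) hpj).trans ha))⟩⟩
  obtain ⟨r, n, hr, hn, hrj⟩ := exists_retraction j
  obtain ⟨s, m, hs, hm, hsp⟩ := exists_section p
  refine ⟨r ≫ s, n * m, inferInstance, Nat.mul_pos hn hm, ?_⟩
  rw [← hpj]
  simp only [Category.assoc]
  rw [reassoc_of% hrj, reassoc_of% hsp]
  simp only [MonObj.pow_comp, MonObj.comp_pow, Category.id_comp, ← pow_mul]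

end Groth.Agent.AVPoincare
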