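import Groth.Agent.Lib.AbDualBase
import Groth.Agent.Lib.AVPoincare
import Groth.Agent.AVTors.Card
import Groth.Agent.AVTors.Dense
import Groth.Agent.AGFLib.BorelFixed
import Groth.Agent.AGFLib.QuotProper
import Groth.Agent.S7815

/-!
Transposes of isogenies of abelian schemes are isogenies.
-/

set_option linter.style.haveILetI false
set_option linter.unusedSectionVars false
set_option backward.isDefEq.respectTransparency false
set_option backward.isDefEq.respectTransparency.types false
set_option maxHeartbeats 800000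
set_option synthInstance.maxHeartbeats 400000

universe u

open CategoryTheory CategoryTheory.Limits MonoidalCategory CartesianMonoidalCategory MonObj AlgebraicGeometry TopologicalSpace

namespace Groth.Agent.AVDualIsog

open Groth.Agent.H23
open scoped Groth.Agent.H23.PicMul CategoryTheory.Obj

section Points

variable {P Q : Scheme.{u}} (f : P ⟶ Q)

theorem exists_geomPoint (x : Q) :
    ∃ (Ω : Type u) (_ : Field Ω) (_ : IsAlgClosed Ω) (p : Spec (CommRingCat.of Ω) ⟶ Q), Set.range p = {x} := by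
  let j : Spec (CommRingCat.of (AlgebraicClosure (Q.residueField x))) ⟶ Q :=
    Spec.map (CommRingCat.ofHom (algebraMap (Q.residueField x) (AlgebraicClosure (Q.residueField x)))) ≫
      Q.fromSpecResidueField x
  refine ⟨_, inferInstance, inferInstance, j, Set.eq_singleton_iff_unique_mem.2
    ⟨⟨IsLocalRing.closedPoint _, Q.fromSpecResidueField_apply x _⟩, ?_⟩⟩
  rintro _ ⟨z, rfl⟩
  exact Q.fromSpecResidueField_apply x _

theorem surjective_of_points
    (h : ∀ (Ω : Type u) [Field Ω] [IsAlgClosed Ω] (p : Spec (CommRingCat.of Ω) ⟶ Q),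
      ∃ q : Spec (CommRingCat.of Ω) ⟶ P, q ≫ f = p) : Surjective f := by
  refine ⟨fun x => ?_⟩
  obtain ⟨Ω, _, _, p, hp⟩ := exists_geomPoint x
  obtain ⟨q, hq⟩ := h Ω p
  refine ⟨q (IsLocalRing.closedPoint Ω), ?_⟩
  rw [← Scheme.Hom.comp_apply, hq]
  exact hp.le ⟨_, rfl⟩

/-- A proper morphism with finitely many points over each geometric point is finite. -/
theorem isFinite_of_points [IsProper f]
    (h : ∀ (Ω : Type u) [Field Ω] [IsAlgClosed Ω] (p : Spec (CommRingCat.of Ω) ⟶ Q),
      Finite {q : Spec (CommRingCat.of Ω) ⟶ P // q ≫ f = p}) : IsFinite f := by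
  haveI : LocallyQuasiFinite f := LocallyQuasiFinite.of_finite_preimage_singleton f fun x => by
    obtain ⟨Ω, _, _, p, hp⟩ := exists_geomPoint x
    haveI := h Ω p
    let q := pullback.snd f p
    haveI : JacobsonSpace ↥(pullback f p) := LocallyOfFiniteType.jacobsonSpace q
    haveI : Finite {s : Spec (CommRingCat.of Ω) ⟶ pullback f p // s ≫ q = 𝟙 _} :=
      Finite.of_injective (fun s => (⟨s.1 ≫ pullback.fst f p, by
        rw [Category.assoc, pullback.condition, ← Category.assoc, s.2, Category.id_comp]⟩ :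
          {r : Spec (CommRingCat.of Ω) ⟶ P // r ≫ f = p})) fun s t hst => Subtype.ext
        (pullback.hom_ext (congrArg Subtype.val hst) (s.2.trans t.2.symm))
    haveI : Finite (closedPoints ↥(pullback f p)) := Finite.of_equiv _ (pointEquivClosedPoint q)
    have hfin : (Set.univ : Set ↥(pullback f p)).Finite := by
      rw [← closure_closedPoints]
      have hc : IsClosed (closedPoints ↥(pullback f p)) := by
        rw [← Set.biUnion_of_singleton (closedPoints ↥(pullback f p))]
        exact (Set.toFinite _).isClosed_biUnion fun _ hz => mem_closedPoints_iff.1 hz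
      rw [hc.closure_eq]
      exact Set.toFinite _
    refine (hfin.image (pullback.fst f p)).subset fun y hy => ?_
    obtain ⟨z, hz, -⟩ := Scheme.Pullback.exists_preimage_pullback (f := f) (g := p) y (IsLocalRing.closedPoint Ω)
      (hy.trans (hp.le ⟨_, rfl⟩).symm)
    exact ⟨z, trivial, hz⟩
  exact IsFinite.of_isProper_of_locallyQuasiFinite f

end Points

section Field

variable {Ω : Type u} [Field Ω] [IsAlgClosed Ω] {A B : Over (Spec (CommRingCat.of Ω))}

local notation "PT" => 𝟙_ (Over (Spec (CommRingCat.of Ω)))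

theorem exists_lift_point [LocallyOfFiniteType A.hom] (f : A ⟶ B) [Surjective f.left] (t : PT ⟶ B) :
    ∃ a : PT ⟶ A, a ≫ f = t := by
  let q : pullback f.left t.left ⟶ Spec (CommRingCat.of Ω) := pullback.snd f.left t.left
  haveI : LocallyOfFiniteType q := by
    haveI : LocallyOfFiniteType (f.left ≫ B.hom) := by rw [Over.w f]; infer_instance
    haveI : LocallyOfFiniteType f.left := locallyOfFiniteType_of_comp f.left B.hom
    infer_instance
  haveI : JacobsonSpace ↥(pullback f.left t.left) := LocallyOfFiniteType.jacobsonSpace q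
  obtain ⟨w, -⟩ := q.surjective (IsLocalRing.closedPoint Ω)
  obtain ⟨z, -, hz⟩ := nonempty_inter_closedPoints (Z := (Set.univ : Set ↥(pullback f.left t.left))) ⟨w, trivial⟩
    isClosed_univ.isLocallyClosed
  obtain ⟨⟨s, hs⟩, -⟩ := (pointEquivClosedPoint q).surjective ⟨z, hz⟩
  have e : (s ≫ pullback.fst f.left t.left) ≫ f.left = t.left := by
    rw [Category.assoc, pullback.condition, ← Category.assoc, hs, Category.id_comp]
  refine ⟨Over.homMk (s ≫ pullback.fst f.left t.left) ?_, Over.OverMorphism.ext e⟩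
  show (s ≫ pullback.fst f.left t.left) ≫ A.hom = 𝟙 _
  rw [← Over.w f, ← Category.assoc, e, Over.w t]
  rfl

variable [GrpObj A] [IsCommMonObj A] [IsProper A.hom] [GeometricallyIntegral A.hom]
  [GrpObj B] [IsCommMonObj B] [IsProper B.hom] [GeometricallyIntegral B.hom]

/-- An inverse up to a positive integer of a surjective homomorphism with finite kernel. -/
theorem exists_qinv (a : A ⟶ B) [IsMonHom a] [Surjective a.left] [Finite {x : PT ⟶ A // x ≫ a = 1}] :
    ∃ (g : B ⟶ A) (n : ℕ), 0 < n ∧ g ≫ a = 𝟙 B ^ n ∧ a ≫ g = 𝟙 A ^ n := by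
  haveI : IsIntegral A.left := GeometricallyIntegral.isIntegral_of_subsingleton A.hom
  haveI : IsIntegral B.left := GeometricallyIntegral.isIntegral_of_subsingleton B.hom
  obtain ⟨y, n, hy, hn, he⟩ := AVPoincare.exists_regular a
  haveI := hy
  have h1 : y ≫ a = 𝟙 B ^ n := AGFLib.BorelFixed.hom_ext_pts fun t => by
    obtain ⟨u, rfl⟩ := exists_lift_point a t
    rw [Category.assoc, he, MonObj.comp_pow, MonObj.comp_pow, Category.comp_id]
  let q : (PT ⟶ A) →* (PT ⟶ B) := MonoidHom.mk' (fun x => x ≫ a) fun x x' => MonObj.mul_comp x x' a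
  haveI : Finite q.ker := ‹Finite {x : PT ⟶ A // x ≫ a = 1}›
  let N := Nat.card q.ker
  have hN : 0 < N := Nat.card_pos
  have hpow : ∀ {W : Over (Spec (CommRingCat.of Ω))} (f : W ⟶ A) (m : ℕ), (f ^ m) ≫ a = (f ≫ a) ^ m := fun f m => by
    induction m with
    | zero => rw [pow_zero, pow_zero, MonObj.one_comp]
    | succ m ih => rw [pow_succ, pow_succ, MonObj.mul_comp, ih]
  refine ⟨y ^ N, n * N, mul_pos hn hN, ?_, ?_⟩
  · rw [hpow, h1, pow_mul]
  · refine AGFLib.BorelFixed.hom_ext_pts fun t => ?_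
    simp only [MonObj.comp_pow, Category.comp_id]
    rw [pow_mul]
    have hm : t ≫ a ≫ y * (t ^ n)⁻¹ ∈ q.ker := by
      show (t ≫ a ≫ y * (t ^ n)⁻¹) ≫ a = 1
      rw [MonObj.mul_comp, GrpObj.inv_comp, Category.assoc, Category.assoc, he, MonObj.comp_pow, hpow,
        mul_inv_cancel]
    have h2 : (t ≫ a ≫ y * (t ^ n)⁻¹) ^ N = 1 := congrArg Subtype.val (pow_card_eq_one' (x := (⟨_, hm⟩ : q.ker)))
    rw [mul_pow, inv_pow] at h2
    exact mul_inv_eq_one.1 h2

end Field

section Fibre

variable {S : Scheme.{u}} {Ω : Type u} [Field Ω] [IsAlgClosed Ω] (σ : Spec (CommRingCat.of Ω) ⟶ S)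

theorem map_pow' {X Y : Over S} [GrpObj Y] (f : X ⟶ Y) (n : ℕ) :
    (Over.pullback σ).map (f ^ n) = (Over.pullback σ).map f ^ n := by
  induction n with
  | zero => rw [pow_zero, pow_zero, Functor.map_one]
  | succ n ih => rw [pow_succ, pow_succ, Functor.map_mul, ih]

/-- The points of the fibre, from the points over a geometric point. -/
noncomputable def toFibre {X : Over S} (x : Over.mk σ ⟶ X) :
    𝟙_ (Over (Spec (CommRingCat.of Ω))) ⟶ (Over.pullback σ).obj X :=
  Over.homMk (pullback.lift x.left (𝟙 _) (by rw [Category.id_comp]; exact Over.w x)) (pullback.lift_snd _ _ _)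

theorem toFibre_comp {X Y : Over S} (x : Over.mk σ ⟶ X) (f : X ⟶ Y) :
    toFibre σ (x ≫ f) = toFibre σ x ≫ (Over.pullback σ).map f := by
  refine Over.OverMorphism.ext (pullback.hom_ext ?_ ?_)
  · simp [toFibre, Over.pullback]
  · simp [toFibre, Over.pullback]

theorem toFibre_injective {X : Over S} : Function.Injective (toFibre σ (X := X)) := fun x y h => by
  have := congrArg (fun m => CommaMorphism.left m ≫ pullback.fst X.hom σ) h
  simp only [toFibre, Over.homMk_left] at this
  rw [pullback.lift_fst, pullback.lift_fst] at this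
  exact Over.OverMorphism.ext this

theorem toFibre_surjective {X : Over S} (y : 𝟙_ (Over (Spec (CommRingCat.of Ω))) ⟶ (Over.pullback σ).obj X) :
    ∃ x, toFibre σ x = y := by
  have hy : y.left ≫ pullback.snd X.hom σ = 𝟙 _ := Over.w y
  refine ⟨Over.homMk (y.left ≫ pullback.fst X.hom σ) (by
    show (y.left ≫ pullback.fst X.hom σ) ≫ X.hom = σ
    rw [Category.assoc, pullback.condition, ← Category.assoc, hy, Category.id_comp]), ?_⟩
  refine Over.OverMorphism.ext (pullback.hom_ext ?_ ?_)
  · simp [toFibre]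
  · simp [toFibre, hy]

theorem toFibre_mul {X : Over S} [GrpObj X] (x y : Over.mk σ ⟶ X) :
    toFibre σ (x * y) = toFibre σ x * toFibre σ y := by
  have h : ∀ z : Over.mk σ ⟶ X, toFibre σ z = toFibre σ (𝟙 _) ≫ (Over.pullback σ).map z := fun z => by
    rw [← toFibre_comp, Category.id_comp]
  rw [h (x * y), h x, h y, Functor.map_mul, MonObj.comp_mul]

theorem toFibre_one {X : Over S} [GrpObj X] : toFibre σ (1 : Over.mk σ ⟶ X) = 1 := by
  have h : toFibre σ (1 : Over.mk σ ⟶ X) = toFibre σ (𝟙 _) ≫ (Over.pullback σ).map 1 := by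
    rw [← toFibre_comp, Category.id_comp]
  rw [h, Functor.map_one, MonObj.comp_one]

theorem toFibre_pow {X : Over S} [GrpObj X] (x : Over.mk σ ⟶ X) (n : ℕ) : toFibre σ (x ^ n) = toFibre σ x ^ n := by
  induction n with
  | zero => rw [pow_zero, pow_zero, toFibre_one]
  | succ n ih => rw [pow_succ, pow_succ, toFibre_mul, ih]

variable (X : Over S) [GrpObj X] [IsCommMonObj X] [IsProper X.hom] [Smooth X.hom] [GeometricallyConnected X.hom]

/-- Finitely many torsion points over a geometric point. -/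
theorem finite_tors (n : ℕ) (hn : 0 < n) : Finite {x : Over.mk σ ⟶ X // x ^ n = 1} := by
  haveI := AbDualBase.geometricallyIntegral_fibre σ X
  haveI : IsProper ((Over.pullback σ).obj X).hom := inferInstanceAs (IsProper (pullback.snd X.hom σ))
  obtain ⟨g, hg⟩ := AVTors.exists_dimNat ((Over.pullback σ).obj X)
  haveI := (AVTors.card_torsPts_le (A := (Over.pullback σ).obj X) hg n hn).1
  exact Finite.of_injective (fun x => (⟨toFibre σ x.1, by
    show toFibre σ x.1 ^ n = 1
    rw [← toFibre_pow, x.2, toFibre_one]⟩ : AbDual.torsPts ((Over.pullback σ).obj X) n (AVTors.pt0 Ω)))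
    fun x y h => Subtype.ext (toFibre_injective σ (congrArg Subtype.val h))

/-- Points over a geometric point are divisible. -/
theorem exists_root (n : ℕ) (hn : 0 < n) (y : Over.mk σ ⟶ X) : ∃ z : Over.mk σ ⟶ X, z ^ n = y := by
  haveI := AbDualBase.geometricallyIntegral_fibre σ X
  haveI : IsProper ((Over.pullback σ).obj X).hom := inferInstanceAs (IsProper (pullback.snd X.hom σ))
  obtain ⟨b, hb⟩ := AVTors.exists_root (A := (Over.pullback σ).obj X) n hn (toFibre σ y)
  obtain ⟨z, rfl⟩ := toFibre_surjective σ b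
  exact ⟨z, toFibre_injective σ ((toFibre_pow σ z n).trans hb)⟩

/-- Pic⁰ classes over a geometric point pull back under the powers of the identity to their powers. -/
theorem pull_pow (n : ℕ) {c : PicF.Cl (PicF.XT X.hom (Over.mk σ))} (hc : AbDual.IsPicZeroCl X.hom (Over.mk σ) c) :
    PicF.pullCl ((𝟙 ((Over.pullback σ).obj X) : _ ⟶ _) ^ n).left c = c ^ n ∧
      AbDual.IsPicZeroCl X.hom (Over.mk σ) (c ^ n) := by
  haveI := AbDualBase.geometricallyIntegral_fibre σ X
  have hb : PicF.pullCl (AbDual.bcMap (𝟙 X ^ n) (Over.mk σ)) c = c ^ n := by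
    induction n with
    | zero => rw [pow_zero, pow_zero]; exact AbDualBase.pull_one σ hc
    | succ n ih =>
      rw [pow_succ, AbDualBase.pull_mul σ _ _ hc, ih, AbDualBase.bcMap_id, PicClLib.pullCl_id, ← pow_succ]
  refine ⟨?_, hb ▸ AbDualBase.pz_bc _ hc⟩
  rw [← hb, ← AbDualBase.map_left_eq, map_pow', CategoryTheory.Functor.map_id]

theorem phi_pow {Xt : Over S} [GrpObj Xt] {φ : ∀ T : Over S, PicF.Cl (PicF.XT X.hom T) → (T ⟶ Xt)}
    (hφ : AbDual.IsDualAV Scheme.fppfPrecoverage X Xt φ) (n : ℕ) {c : PicF.Cl (PicF.XT X.hom (Over.mk σ))}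
    (hc : AbDual.IsPicZeroCl X.hom (Over.mk σ) c) : φ _ (c ^ n) = φ _ c ^ n := by
  induction n with
  | zero => rw [pow_zero, pow_zero]; exact AbDualBase.phi_one hφ _
  | succ n ih => rw [pow_succ, AbDualBase.phi_mul hφ (pull_pow σ X n hc).2 hc, ih, pow_succ]

end Fibre

section Main

variable {S : Scheme.{u}} {X Y Xt Yt : Over S} [GrpObj X] [IsCommMonObj X] [GrpObj Y] [IsCommMonObj Y]
  [GrpObj Xt] [IsCommMonObj Xt] [GrpObj Yt] [IsCommMonObj Yt]
  [IsProper X.hom] [Smooth X.hom] [GeometricallyConnected X.hom]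
  [IsProper Y.hom] [Smooth Y.hom] [GeometricallyConnected Y.hom]
  [IsProper Xt.hom] [Smooth Xt.hom] [GeometricallyConnected Xt.hom]
  [IsProper Yt.hom] [Smooth Yt.hom] [GeometricallyConnected Yt.hom]
  {φX : ∀ T : Over S, PicF.Cl (PicF.XT X.hom T) → (T ⟶ Xt)}
  {φY : ∀ T : Over S, PicF.Cl (PicF.XT Y.hom T) → (T ⟶ Yt)}
  (hX : AbDual.IsDualAV Scheme.fppfPrecoverage X Xt φX) (hY : AbDual.IsDualAV Scheme.fppfPrecoverage Y Yt φY)
  {φ : X ⟶ Y} [IsMonHom φ] [Surjective φ.left]
  (hker : ∀ (Ω : Type u) [Field Ω] [IsAlgClosed Ω] (σ : Spec (CommRingCat.of Ω) ⟶ S),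
    Finite {a : Over.mk σ ⟶ X // a ≫ φ = 1})
  {ft : Yt ⟶ Xt} [IsMonHom ft] (hft : AbDual.IsTranspose φ φX φY ft)
include hX hY hker hft

theorem points (Ω : Type u) [Field Ω] [IsAlgClosed Ω] (σ : Spec (CommRingCat.of Ω) ⟶ S) :
    (∀ y : Over.mk σ ⟶ Xt, ∃ x, x ≫ ft = y) ∧ Finite {x : Over.mk σ ⟶ Yt // x ≫ ft = 1} := by
  let G := Over.pullback σ
  haveI := AbDualBase.geometricallyIntegral_fibre σ X
  haveI := AbDualBase.geometricallyIntegral_fibre σ Y
  haveI : IsProper (G.obj X).hom := inferInstanceAs (IsProper (pullback.snd X.hom σ))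
  haveI : IsProper (G.obj Y).hom := inferInstanceAs (IsProper (pullback.snd Y.hom σ))
  have hsq : IsPullback (pullback.fst X.hom σ) (G.map φ).left φ.left (pullback.fst Y.hom σ) := by
    refine IsPullback.of_bot ?_ (by simp [G, Over.pullback]) (IsPullback.of_hasPullback Y.hom σ)
    have h := IsPullback.of_hasPullback X.hom σ
    convert h using 1
    · exact Over.w (G.map φ)
    · exact Over.w φ
  haveI : Surjective (G.map φ).left := MorphismProperty.of_isPullback (P := @Surjective) hsq inferInstance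
  haveI : Finite {x : 𝟙_ (Over (Spec (CommRingCat.of Ω))) ⟶ G.obj X // x ≫ G.map φ = 1} := by
    haveI := hker Ω σ
    refine Finite.of_surjective (fun a : {a : Over.mk σ ⟶ X // a ≫ φ = 1} =>
      (⟨toFibre σ a.1, by rw [← toFibre_comp, a.2, toFibre_one]⟩ :
        {x : 𝟙_ (Over (Spec (CommRingCat.of Ω))) ⟶ G.obj X // x ≫ G.map φ = 1})) fun x => ?_
    obtain ⟨a, ha⟩ := toFibre_surjective σ x.1
    exact ⟨⟨a, toFibre_injective σ (by rw [toFibre_comp, ha, x.2, toFibre_one])⟩, Subtype.ext ha⟩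
  obtain ⟨g, n, hn, hga, hag⟩ := exists_qinv (G.map φ)
  have hpull : ∀ c, PicF.pullCl (AbDual.bcMap φ (Over.mk σ)) c = PicF.pullCl (G.map φ).left c := fun c => by
    rw [AbDualBase.map_left_eq]
  refine ⟨fun y => ?_, ?_⟩
  · obtain ⟨z, rfl⟩ := exists_root σ Xt n hn y
    obtain ⟨d, hd, rfl⟩ := AbDualBase.exists_class hX σ z
    have hc : AbDual.IsPicZeroCl Y.hom (Over.mk σ) (PicF.pullCl g.left d) :=
      AbDualBase.pz_of_maps (A := Y) (B := X) (T := Over.mk σ) (T' := Over.mk σ) (𝟙 _) g.left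
        ((Over.w g).trans (Category.comp_id _).symm) hd
    refine ⟨φY _ (PicF.pullCl g.left d), ?_⟩
    erw [← hft _ _ hc]
    rw [hpull]
    refine (congrArg (φX _) ?_).trans (phi_pow σ X hX n hd)
    rw [PicClLib.pullCl_comp, ← Over.comp_left, hag]
    exact (pull_pow σ X n hd).1
  · haveI := finite_tors σ Yt n hn
    refine Finite.of_injective (fun x : {x : Over.mk σ ⟶ Yt // x ≫ ft = 1} =>
      (⟨x.1, ?_⟩ : {x : Over.mk σ ⟶ Yt // x ^ n = 1})) fun x y h => Subtype.ext (Subtype.mk.inj h)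
    obtain ⟨c, hc, hx⟩ := AbDualBase.exists_class hY σ x.1
    have h1 : PicF.pullCl (G.map φ).left c = 1 := by
      refine AbDualBase.eq_of_phi_point hX σ (hpull c ▸ AbDualBase.pz_bc φ hc) (AbDualBase.pz_one _) ?_
      rw [← hpull, AbDualBase.phi_one hX]
      erw [hft _ _ hc]
      rw [hx]
      exact x.2
    have h2 : c ^ n = 1 := by
      rw [← (pull_pow σ Y n hc).1, ← hga, Over.comp_left, ← PicClLib.pullCl_comp, h1]
      exact PicMul.pullCl_one _
    rw [← hx, ← phi_pow σ Y hY n hc, h2, AbDualBase.phi_one hY]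

theorem transpose_isogeny : IsFinite ft.left ∧ Surjective ft.left ∧ Flat ft.left := by
  have hsurj : Surjective ft.left := surjective_of_points ft.left fun Ω _ _ p => by
    obtain ⟨x, hx⟩ := (points hX hY hker hft Ω (p ≫ Xt.hom)).1 (Over.homMk p rfl)
    exact ⟨x.left, congrArg CommaMorphism.left hx⟩
  haveI : IsProper ft.left := by
    haveI : IsProper (ft.left ≫ Xt.hom) := by rw [Over.w ft]; infer_instance
    exact IsProper.of_comp ft.left Xt.hom
  have hfin : IsFinite ft.left := isFinite_of_points ft.left fun Ω _ _ p => by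
    haveI := (points hX hY hker hft Ω (p ≫ Xt.hom)).2
    rcases isEmpty_or_nonempty {q : Spec (CommRingCat.of Ω) ⟶ Yt.left // q ≫ ft.left = p} with h | ⟨⟨q₀, hq₀⟩⟩
    · exact Finite.of_subsingleton
    let lft : {q : Spec (CommRingCat.of Ω) ⟶ Yt.left // q ≫ ft.left = p} → (Over.mk (p ≫ Xt.hom) ⟶ Yt) := fun q =>
      Over.homMk q.1 ((congrArg (q.1 ≫ ·) (Over.w ft)).symm.trans ((Category.assoc _ _ _).symm.trans (congrArg (· ≫ Xt.hom) q.2)))
    have hl : ∀ q, lft q ≫ ft = Over.homMk p rfl := fun q => Over.OverMorphism.ext q.2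
    exact Finite.of_injective (fun q => (⟨lft q * (lft ⟨q₀, hq₀⟩)⁻¹, by
        rw [MonObj.mul_comp, GrpObj.inv_comp, hl, hl, mul_inv_cancel]⟩ :
        {x : Over.mk (p ≫ Xt.hom) ⟶ Yt // x ≫ ft = 1}))
      fun q r h => Subtype.ext (show (lft q).left = (lft r).left from congrArg (fun m : _ ⟶ Yt => m.left) (mul_right_cancel (Subtype.mk.inj h : lft q * _ = lft r * _)))
  haveI := hsurj
  haveI := hfin
  refine ⟨hfin, hsurj, ((S7815.result Yt Xt ft).2 fun s => ⟨?_, ?_⟩).1⟩
  · infer_instance
  · infer_instance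

end Main

end Groth.Agent.AVDualIsog
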