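import Groth.Agent.Lib.AVTorsChar
import Groth.Agent.Lib.AVRosatiPos
import Groth.Agent.Lib.AVDualIsog
import Groth.Agent.Lib.AVPoincare
import Groth.Agent.GrpSchLib.RigidHom
import Groth.Agent.S15659
import Groth.Prelude.Def_AgPol

/-!
The homomorphism to the dual attached to an invertible module, and its relation to the polar pairing.
-/

set_option autoImplicit false
set_option linter.style.haveILetI false
set_option linter.unusedSectionVars false
set_option backward.isDefEq.respectTransparency false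
set_option backward.isDefEq.respectTransparency.types false
set_option maxHeartbeats 1000000
set_option synthInstance.maxHeartbeats 400000

universe u

open CategoryTheory CategoryTheory.Limits MonoidalCategory CartesianMonoidalCategory MonObj AlgebraicGeometry TopologicalSpace
open Groth.Agent.H23

noncomputable section

namespace Groth.Agent.AVLambda

open Groth.Agent.AVPair
attribute [local instance] PicMul.clMonoid

variable {k : Type u} [Field k]

/-- The underlying class. -/
abbrev val {X : Scheme.{u}} (c : TopInt.inv X) : PicF.Cl X := ((c : (PicF.Cl X)ˣ) : PicF.Cl X)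

theorem val_pow {X : Scheme.{u}} (c : TopInt.inv X) (n : ℕ) : val (c ^ n) = val c ^ n := by
  simp [val]

theorem val_injective {X : Scheme.{u}} : Function.Injective (val (X := X)) :=
  fun _ _ h => Subtype.ext (Units.ext h)

variable {A At : Over (Spec (CommRingCat.of k))} [GrpObj A] [IsCommMonObj A] [IsProper A.hom] [GeometricallyIntegral A.hom]

theorem val_q {T T' : Over (Spec (CommRingCat.of k))} (h : T' ⟶ T) {L : A.left.Modules} (hL : PicF.IsInvertible L) (f : T ⟶ A) :
    pl h (val (AVDegPoly.q hL f)) = val (AVDegPoly.q hL (h ≫ f)) :=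
  congrArg Units.val (AVCube.pull_pc hL h f)

theorem val_polar {T T' : Over (Spec (CommRingCat.of k))} (h : T' ⟶ T) {L : A.left.Modules} (hL : PicF.IsInvertible L) (f g : T ⟶ A) :
    pl h (val (AVDegPoly.polar hL f g)) = val (AVDegPoly.polar hL (h ≫ f) (h ≫ g)) := by
  have e : ∀ {T : Over (Spec (CommRingCat.of k))} (f g : T ⟶ A),
      AVDegPoly.polar hL f g * (AVDegPoly.q hL f * AVDegPoly.q hL g) = AVDegPoly.q hL (f * g) := fun f g =>
    div_mul_cancel _ _
  have h1 := congrArg (fun c => pl h (val c)) (e f g)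
  have h2 := congrArg val (e (h ≫ f) (h ≫ g))
  simp only [val, Subgroup.coe_mul, Units.val_mul, map_mul] at h1 h2
  rw [val_q, val_q, val_q, MonObj.comp_mul] at h1
  exact ((AVDegPoly.q hL (h ≫ f) : (PicF.Cl T'.left)ˣ).isUnit.mul
    (AVDegPoly.q hL (h ≫ g) : (PicF.Cl T'.left)ˣ).isUnit).mul_right_cancel (h1.trans h2.symm)

theorem val_polar_one {T : Over (Spec (CommRingCat.of k))} {L : A.left.Modules} (hL : PicF.IsInvertible L) (f : T ⟶ A) :
    val (AVDegPoly.polar hL f 1) = 1 ∧ val (AVDegPoly.polar hL 1 f) = 1 := by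
  rw [AVDegPoly.polar_comm hL 1 f, AVTrace.polar_one_right]
  exact ⟨rfl, rfl⟩

/-- The class of the pairing on the square. -/
abbrev base {L : A.left.Modules} (hL : PicF.IsInvertible L) : PicF.Cl (A ⊗ A).left :=
  val (AVDegPoly.polar hL (fst A A) (snd A A))

theorem pz_of_trivial {c : PicF.Cl (A ⊗ A).left} (hc : PicF.IsInvertibleCl c)
    (h : pl (lift (𝟙 A) (1 : A ⟶ A)) c = 1) : AVDual.PZ A A c := by
  haveI : GeometricallyConnected A.hom := H23.CubeAb.geometricallyConnected_of_integral A.hom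
  refine AbDualBase.pz_of_slice η[A] hc (n := 1) ⟨_, rfl, InvX.isInvertible_structureModule⟩ ?_
  refine h.trans ?_
  exact (PicMul.pullCl_one _).symm

variable {L : A.left.Modules} (hL : PicF.IsInvertible L)

theorem base_slice : pl (lift (𝟙 A) (1 : A ⟶ A)) (base hL) = 1 := by
  rw [val_polar, lift_fst, lift_snd]
  exact (val_polar_one hL _).1

theorem base_axis : pl (lift (1 : A ⟶ A) (𝟙 A)) (base hL) = 1 := by
  rw [val_polar, lift_fst, lift_snd]
  exact (val_polar_one hL _).2

theorem pz_base_pow (n : ℕ) : AVDual.PZ A A (base hL ^ n) :=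
  pz_of_trivial (by rw [← val_pow]; exact (AVDegPoly.polar hL (fst A A) (snd A A) ^ n).2)
    (by rw [map_pow, base_slice, one_pow])

theorem pz_base : AVDual.PZ A A (base hL) := by
  simpa using pz_base_pow hL 1

variable [GrpObj At] [IsCommMonObj At] {φ : ∀ T : Over (Spec (CommRingCat.of k)), PicF.Cl (PicF.XT A.hom T) → (T ⟶ At)}
  (hφ : AbDual.IsDualAV Scheme.fppfPrecoverage A At φ)

/-- The homomorphism to the dual. -/
abbrev lam (φ : ∀ T : Over (Spec (CommRingCat.of k)), PicF.Cl (PicF.XT A.hom T) → (T ⟶ At))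
    {L : A.left.Modules} (hL : PicF.IsInvertible L) : A ⟶ At := φ A (base hL)

include hφ

theorem eta_lam : η[A] ≫ lam φ hL = 1 := by
  rw [← AVDual.phi_pl hφ _ (pz_base hL), val_polar, whiskerLeft_fst, whiskerLeft_snd,
    ← show (1 : A ⊗ 𝟙_ (Over (Spec (CommRingCat.of k))) ⟶ A) = snd A (𝟙_ _) ≫ η[A] from
      (congrArg (· ≫ η[A]) (toUnit_unique _ _)), (val_polar_one hL _).1]
  exact AVDual.phi_one hφ _

theorem isMonHom_lam [IsSeparated At.hom] : IsMonHom (lam φ hL) :=
  GrpSchLib.RigidHom.isMonHom_of_one _ (eta_lam hL hφ)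

theorem phi_base_pow (n : ℕ) : φ A (base hL ^ n) = lam φ hL ^ n := by
  induction n with
  | zero => rw [pow_zero, pow_zero]; exact AVDual.phi_one hφ A
  | succ n ih => rw [pow_succ, AVDual.phi_mul hφ (pz_base_pow hL n) (pz_base hL), ih, pow_succ]

/-- The relation between the pairings, from a relation between the homomorphisms. -/
theorem polar_of_rel {M : A.left.Modules} (hM : PicF.IsInvertible M) (a : A ⟶ A) (n : ℕ)
    (h : a ≫ lam φ hL = lam φ hM ^ n) {T : Over (Spec (CommRingCat.of k))} (f g : T ⟶ A) :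
    AVDegPoly.polar hM f g ^ n = AVDegPoly.polar hL f (g ≫ a) := by
  haveI : IsIntegral A.left := GeometricallyIntegral.isIntegral_of_subsingleton A.hom
  have e : base hM ^ n = pl (A ◁ a) (base hL) := by
    refine AVDual.eq_of_phi hφ (pz_base_pow hM n) (AVDual.pz_pl a (pz_base hL)) ?_ 1 ?_
    · rw [phi_base_pow hM hφ n, AVDual.phi_pl hφ a (pz_base hL), h]
    · rw [map_pow, base_axis, one_pow, pl_pl, lift_whiskerLeft, val_polar, lift_fst, lift_snd]
      exact (val_polar_one hL _).2.symm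
  have h1 := congrArg (pl (lift f g)) e
  rw [map_pow, val_polar, lift_fst, lift_snd, pl_pl, lift_whiskerLeft, val_polar, lift_fst, lift_snd,
    ← val_pow] at h1
  exact val_injective h1

omit hφ in
/-- The homomorphism attached to a module is unique. -/
theorem eq_lam_of_isLambda {lam' : A ⟶ At} (h : AgPol.IsLambda A At φ L lam') : lam' = lam φ hL := by
  obtain ⟨N, hN, hNe, rfl⟩ := h
  refine congrArg (φ A) ?_
  have e : (PicF.cl N : PicF.Cl (A ⊗ A).left) * pl (fst A A) (PicF.cl L) * pl (snd A A) (PicF.cl L) =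
      pl μ[A] (PicF.cl L) := (PicGrp.cl_eq_cl_iff _ _).2 hNe
  have e2 : base hL * val (AVDegPoly.q hL (fst A A)) * val (AVDegPoly.q hL (snd A A)) =
      val (AVDegPoly.q hL (fst A A * snd A A)) := by
    have := congrArg val (div_mul_cancel (AVDegPoly.q hL (fst A A * snd A A))
      (AVDegPoly.q hL (fst A A) * AVDegPoly.q hL (snd A A)))
    simp only [val, Subgroup.coe_mul, Units.val_mul] at this
    exact (_root_.mul_assoc _ _ _).trans this
  rw [show fst A A * snd A A = μ[A] by rw [Hom.mul_def, lift_fst_snd, Category.id_comp]] at e2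
  exact (AVDegPoly.q hL (fst A A) : (PicF.Cl (A ⊗ A).left)ˣ).isUnit.mul_right_cancel
    ((AVDegPoly.q hL (snd A A) : (PicF.Cl (A ⊗ A).left)ˣ).isUnit.mul_right_cancel (e.trans e2.symm))

variable [IsAlgClosed k] {r : ℕ}

omit hφ in
/-- A symmetric relation with an effective module gives a positive symmetric endomorphism. -/
theorem sym_nonneg {L : A.left.Modules} (hL : CohB1.IsAmple L) (hr : topologicalKrullDim A.left = (r + 1 : ℕ))
    {M : A.left.Modules} (hM : PicF.IsInvertible M) (s : Coh.structureModule A.left ⟶ M) (hs : s ≠ 0)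
    (a : EndAV.End A) (n : ℕ)
    (h : ∀ (T : Over (Spec (CommRingCat.of k))) (f g : T ⟶ A),
      AVDegPoly.polar hM f g ^ n = AVDegPoly.polar hL.1 f (g ≫ a.toHom)) :
    AVRosati.IsSym hL a ∧ ∀ x : A ⟶ A, 0 ≤ AVRosati.cons' hL r (AVRosati.P' hL x (x ≫ a.toHom)) := by
  refine ⟨fun T f g => ?_, fun x => ?_⟩
  · rw [AVRosati.P', AVRosati.P', AVTrace.polar_symm hL.1, AVTrace.polar_symm hL.1,
      AVDegPoly.polar_comm hL.1 (f ≫ a.toHom) g, ← h, ← h, AVDegPoly.polar_comm hM g f]
  · have h1 : AVDegPoly.polar hM x x * AVDegPoly.polar hM x x⁻¹ = 1 := by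
      rw [← AVDegPoly.polar_mul_right, mul_inv_cancel, AVTrace.polar_one_right]
    have h2 : AVDegPoly.polar hM x x = AVDegPoly.q hM x * AVDegPoly.q hM x⁻¹ := by
      rw [eq_inv_of_mul_eq_one_left h1, AVDegPoly.polar, mul_inv_cancel, AVDegPoly.q_one, one_div, _root_.inv_inv]
    rw [AVRosati.P', AVTrace.polar_symm hL.1, ← h, h2, AVRosati.cons'_pow hL hr, AVRosati.cons'_pow hL hr,
      AVRosati.cons'_mul hL hr]
    have p1 := AVRosati.cons'_q_nonneg hL hr hM s hs x
    have p2 := AVRosati.cons'_q_nonneg hL hr hM s hs x⁻¹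
    positivity

/-- The homomorphism of an ample module has no kernel up to torsion. -/
theorem eq_one_of_comp_lam {L : A.left.Modules} (hL : CohB1.IsAmple L) (hr : topologicalKrullDim A.left = (r + 1 : ℕ))
    (u : A ⟶ A) [IsMonHom u] (h : u ≫ lam φ hL.1 = 1) : u = 1 := by
  have h1 : ∀ {T : Over (Spec (CommRingCat.of k))} (f g : T ⟶ A), AVDegPoly.polar hL.1 f (g ≫ u) = 1 :=
    fun f g => ((polar_of_rel hL.1 hφ hL.1 u 0 (by rw [h, pow_zero]) f g).symm.trans (pow_zero _))
  by_contra hne
  have h2 := AVRosati.pos_self hL hr (EndAV.End.of u) fun h0 => hne ((congrArg EndAV.End.toHom h0).trans rfl)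
  refine h2.ne' ?_
  show AVRosati.cons' hL r (AVRosati.P' hL u u) = 0
  have h3 := h1 u (𝟙 A)
  rw [Category.id_comp] at h3
  rw [AVRosati.P', AVTrace.polar_symm hL.1, h3, one_pow]
  have := AVRosati.cons'_mul hL hr 1 1
  rw [_root_.mul_one] at this
  omega

variable [IsProper At.hom] [GeometricallyIntegral At.hom]

/-- The homomorphism of an ample module is invertible up to a positive integer. -/
theorem exists_qinv_lam {L : A.left.Modules} (hL : CohB1.IsAmple L) (hr : topologicalKrullDim A.left = (r + 1 : ℕ)) :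
    Surjective (lam φ hL.1).left ∧ ∃ (ψ : At ⟶ A) (n : ℕ), IsMonHom ψ ∧ 0 < n ∧
      lam φ hL.1 ≫ ψ = 𝟙 A ^ n ∧ ψ ≫ lam φ hL.1 = 𝟙 At ^ n := by
  haveI := isMonHom_lam hL.1 hφ
  haveI : IsIntegral A.left := GeometricallyIntegral.isIntegral_of_subsingleton A.hom
  haveI : IsIntegral At.left := GeometricallyIntegral.isIntegral_of_subsingleton At.hom
  set l := lam φ hL.1 with hl
  obtain ⟨y, n, hy, hn, he⟩ := AVPoincare.exists_regular l
  haveI := hy
  have hpow : ∀ {W : Over (Spec (CommRingCat.of k))} (f : W ⟶ A) (m : ℕ), (f ^ m) ≫ l = (f ≫ l) ^ m := fun f m => by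
    induction m with
    | zero => rw [pow_zero, pow_zero, MonObj.one_comp]
    | succ m ih => rw [pow_succ, pow_succ, MonObj.mul_comp, ih]
  haveI : IsMonHom (𝟙 A ^ n : A ⟶ A) := AVDegLib.isMonHom_pow n
  have hu : (l ≫ y) * (𝟙 A ^ n)⁻¹ = 1 := by
    haveI : IsMonHom ((l ≫ y) * (𝟙 A ^ n)⁻¹) := GrpSchLib.RigidHom.isMonHom_of_one _ (by
      rw [MonObj.comp_mul, GrpObj.comp_inv, ← Category.assoc, IsMonHom.one_hom l, IsMonHom.one_hom y,
        IsMonHom.one_hom (𝟙 A ^ n : A ⟶ A), mul_inv_cancel])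
    refine eq_one_of_comp_lam hφ hL hr _ ?_
    rw [← hl, MonObj.mul_comp, GrpObj.inv_comp, hpow, Category.assoc, he, Category.id_comp, mul_inv_cancel] 
  have h1 : l ≫ y = 𝟙 A ^ n := mul_inv_eq_one.1 hu
  have hfin : ({a : 𝟙_ (Over (Spec (CommRingCat.of k))) ⟶ A | a ≫ l = 1}).Finite := by
    obtain ⟨g, hg⟩ := AVTors.exists_dimNat A
    haveI := (AVTors.card_torsPts_le (A := A) hg n hn).1
    have : Finite {a : 𝟙_ (Over (Spec (CommRingCat.of k))) ⟶ A // a ≫ l = 1} :=
      Finite.of_injective (fun a => (⟨a.1, show a.1 ^ n = 1 by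
        have h := congrArg (a.1 ≫ ·) h1
        simp only [← Category.assoc, a.2, MonObj.one_comp, MonObj.comp_pow, Category.comp_id] at h
        exact h.symm⟩ : AbDual.torsPts A n (AVTors.pt0 k))) fun a b h => Subtype.ext (Subtype.mk.inj h)
    exact Set.finite_coe_iff.1 this
  haveI := S15659.isFinite_of_finite_kernel l hfin
  haveI hsurj := (AVTorsChar.surjective_of_isFinite hφ l).1
  refine ⟨hsurj, y, n, hy, hn, h1, ?_⟩
  refine AGFLib.BorelFixed.hom_ext_pts fun t => ?_
  obtain ⟨u, rfl⟩ := AVDualIsog.exists_lift_point l t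
  rw [Category.assoc, he, MonObj.comp_pow, MonObj.comp_pow, Category.comp_id]

end Groth.Agent.AVLambda
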