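import Groth.Agent.Lib.AVKerPair
import Groth.Agent.Lib.AVDualBC
import Groth.Agent.Lib.AVLambda
import Groth.Agent.Lib.AVProj
import Groth.Agent.AVTors.IsogDegree
import Groth.Agent.AVTors.TatePt
import Groth.Agent.GrpSchLib.AffineHopf

/-!
The dual has the same dimension; transposes of isogenies have the same degree.
-/

set_option linter.style.haveILetI false
set_option linter.unusedSectionVars false
set_option backward.isDefEq.respectTransparency false
set_option backward.isDefEq.respectTransparency.types false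
set_option maxHeartbeats 1000000
set_option synthInstance.maxHeartbeats 400000

universe u

open CategoryTheory CategoryTheory.Limits MonoidalCategory CartesianMonoidalCategory MonObj AlgebraicGeometry TopologicalSpace

namespace Groth.Agent.AVDeg

open Groth.Agent.H23 Groth.Agent.AVPair
open CoactBr (sp)
open scoped Groth.Agent.H23.PicMul CategoryTheory.Obj

section Dim

theorem dim_dual_geom {K : Type u} [Field K] [IsAlgClosed K] {A At : Over (Spec (CommRingCat.of K))} [GrpObj A]
    [IsCommMonObj A] [IsProper A.hom] [GeometricallyIntegral A.hom] [GrpObj At] [IsCommMonObj At] [IsProper At.hom]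
    [GeometricallyIntegral At.hom] {φ : AgPol.DualMap A At}
    (hφ : AbDual.IsDualAV Scheme.fppfPrecoverage A At φ) {g g' : ℕ} (hg : topologicalKrullDim A.left = g)
    (hg' : topologicalKrullDim At.left = g') : g' = g := by
  refine le_antisymm (AVTorsChar.dim_dual_le hφ hg hg') ?_
  rcases g with _ | r
  · exact Nat.zero_le _
  obtain ⟨L, hL⟩ := AVProj.exists_isAmple (X := A)
  obtain ⟨-, ψ, n, -, hn, h, -⟩ := AVLambda.exists_qinv_lam hφ hL hg
  haveI : IsSeparated ψ.left := by
    haveI : IsSeparated (ψ.left ≫ A.hom) := by rw [Over.w ψ]; infer_instance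
    exact IsSeparated.of_comp ψ.left A.hom
  haveI : IsFinite ((AVLambda.lam φ hL.1).left ≫ ψ.left) := by
    rw [← Over.comp_left, h, ← zpow_natCast]
    exact (AVDegLib.zpow_props (A := A) (n : ℤ) (by exact_mod_cast hn.ne')).1
  haveI : IsFinite (AVLambda.lam φ hL.1).left := IsFinite.of_comp (AVLambda.lam φ hL.1).left ψ.left
  have h2 := (AVTorsChar.surjective_of_isFinite hφ (AVLambda.lam φ hL.1)).2
  rw [hg, hg'] at h2
  exact le_of_eq (by exact_mod_cast h2)

variable {k : Type u} [Field k] {A At : Over (Spec (CommRingCat.of k))} [GrpObj A] [IsProper A.hom]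
  [GeometricallyIntegral A.hom] [GrpObj At] [IsProper At.hom] [GeometricallyIntegral At.hom] {φ : AgPol.DualMap A At}

/-- The dual has the dimension of the variety. -/
theorem dim_dual (hφ : AbDual.IsDualAV Scheme.fppfPrecoverage A At φ) {g g' : ℕ}
    (hg : topologicalKrullDim A.left = g) (hg' : topologicalKrullDim At.left = g') : g' = g := by
  let Ω := AlgebraicClosure k
  let f := AVTors.vΩ (k := k) Ω
  haveI : IsProper (Red.bc f A).hom := inferInstanceAs (IsProper (pullback.snd A.hom f))
  haveI : GeometricallyIntegral (Red.bc f A).hom := inferInstanceAs (GeometricallyIntegral (pullback.snd A.hom f))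
  haveI : IsProper (Red.bc f At).hom := inferInstanceAs (IsProper (pullback.snd At.hom f))
  haveI : GeometricallyIntegral (Red.bc f At).hom := inferInstanceAs (GeometricallyIntegral (pullback.snd At.hom f))
  haveI : IsCommMonObj (Red.bc f A) := isCommMonObj_of_isProper_of_geometricallyIntegral _
  haveI : IsCommMonObj (Red.bc f At) := isCommMonObj_of_isProper_of_geometricallyIntegral _
  exact dim_dual_geom (AVDualBC.isDualAV hφ) (AVTors.topologicalKrullDim_pullback Ω hg)
    (AVTors.topologicalKrullDim_pullback Ω hg')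

end Dim

section Kernel

variable {k : Type u} [Field k] {A B : Over (Spec (CommRingCat.of k))} [GrpObj A] [GrpObj B]

/-- The kernel of a finite flat homomorphism is the spectrum of a Hopf algebra. -/
theorem exists_hopf_kernel [IsSeparated B.hom] (f : A ⟶ B) [IsMonHom f] [IsFinite f.left] :
    ∃ (H : Type u) (_ : CommRing H) (_ : HopfAlgebra k H) (_ : FiniteDimensional k H) (i : sp k H ⟶ A),
      IsMonHom i ∧ AlgGrp.IsKernel i f := by
  obtain ⟨N, _, i, hi, -, -, hk⟩ := GrpSchLib.exists_kernel f
  have hsq : IsPullback i.left N.hom f.left η[B].left := hk.map (Over.forget _)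
  haveI : IsFinite N.hom := MorphismProperty.of_isPullback (P := @IsFinite) hsq inferInstance
  haveI : IsAffine N.left := isAffine_of_isAffineHom N.hom
  obtain ⟨H, _, _, ⟨e⟩⟩ := GrpSchLib.AffineHopf.exists_hopf N
  let e' : sp k H ≅ N := (Grp.forget _).mapIso e
  haveI : IsMonHom e'.hom := e.hom.hom.isMonHom_hom
  have hfin : IsFinite (sp k H).hom := by
    haveI : IsIso e'.hom.left := inferInstanceAs (IsIso ((Over.forget _).map e'.hom))
    rw [← Over.w e'.hom]; infer_instance
  haveI : FiniteDimensional k H := RingHom.finite_algebraMap.1 ((IsFinite.SpecMap_iff _).1 hfin)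
  haveI := hi
  exact ⟨H, inferInstance, inferInstance, inferInstance, e'.hom ≫ i, inferInstance,
    hk.of_iso e'.symm (Iso.refl _) (Iso.refl _) (Iso.refl _) (by simp) (toUnit_unique _ _) (by simp) (by simp)⟩

theorem finrank_eq_of_kernel {H : Type u} [CommRing H] [Algebra k H] [Module.Finite k H] {i : sp k H ⟶ A} {f : A ⟶ B}
    [IsFinite f.left] [Flat f.left] (hi : AlgGrp.IsKernel i f) {d : ℕ}
    (hd : ∀ y : ↥B.left, Scheme.Hom.finrank f.left y = d) : Module.finrank k H = d := by
  let x : PrimeSpectrum k := IsLocalRing.closedPoint k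
  have hsq : IsPullback i.left (sp k H).hom f.left η[B].left := hi.map (Over.forget _)
  refine Eq.trans ?_ ((Scheme.Hom.finrank_of_isPullback _ _ _ _ hsq x).trans (hd _))
  refine Eq.trans ?_ (Scheme.Hom.finrank_SpecMap_algebraMap k H x).symm
  rw [Module.rankAtStalk_eq_finrank_of_free]
  rfl

end Kernel

section Degree

variable {k : Type u} [Field k] {A B At Bt : Over (Spec (CommRingCat.of k))}
  [GrpObj A] [IsProper A.hom] [Smooth A.hom] [GeometricallyConnected A.hom]
  [GrpObj At] [IsProper At.hom] [Smooth At.hom] [GeometricallyConnected At.hom]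
  [GrpObj B] [IsProper B.hom] [Smooth B.hom] [GeometricallyConnected B.hom]
  [GrpObj Bt] [IsProper Bt.hom] [Smooth Bt.hom] [GeometricallyConnected Bt.hom]
  {φA : AgPol.DualMap A At} (hA : AbDual.IsDualAV Scheme.fppfPrecoverage A At φA)
  {φB : AgPol.DualMap B Bt} (hB : AbDual.IsDualAV Scheme.fppfPrecoverage B Bt φB)
include hA hB

theorem isMonHom_transpose {f : A ⟶ B} {ft : Bt ⟶ At} (hft : AbDual.IsTranspose f φA φB ft) : IsMonHom ft := by
  haveI := AVDual.geometricallyIntegral_of_smooth Bt
  refine GrpSchLib.RigidHom.isMonHom_of_one _ ?_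
  have h := hft (𝟙_ _) 1 (AbDualBase.pz_one _)
  rw [AbDualBase.pullCl_one', AbDualBase.phi_one hA, AbDualBase.phi_one hB] at h
  rw [h]
  exact congrArg (· ≫ ft) (by rw [Hom.one_def, toUnit_unique (toUnit _) (𝟙 _), Category.id_comp])

theorem exists_transpose (f : A ⟶ B) :
    ∃ ft : Bt ⟶ At, AbDual.IsTranspose f φA φB ft := by
  obtain ⟨δ, hδ⟩ := AbDualBase.exists_hom hB (K := At) (fun T c => φA T (PicF.pullCl (AbDual.bcMap f T) c))
    fun T T' g c hc => by
      rw [PicClLib.pullCl_comp, ← AbDualBase.xtMap_bcMap, ← PicClLib.pullCl_comp,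
        hA.relPic.natural _ _ g _ (AbDualBase.pz_bc f hc)]
  exact ⟨δ, fun T c hc => (hδ T c hc).symm⟩

variable [IsCommMonObj A] [IsCommMonObj B] [IsCommMonObj At] [IsCommMonObj Bt]

theorem transpose_isogeny {f : A ⟶ B} [IsMonHom f] [IsFinite f.left] [Surjective f.left] {ft : Bt ⟶ At} [IsMonHom ft]
    (hft : AbDual.IsTranspose f φA φB ft) : IsFinite ft.left ∧ Surjective ft.left ∧ Flat ft.left :=
  AVDualIsog.transpose_isogeny hA hB (fun Ω _ _ σ => by
    haveI : IsFinite (pullback.fst (1 : Over.mk σ ⟶ B).left f.left) :=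
      MorphismProperty.pullback_fst (P := @IsFinite) _ _ inferInstance
    let q : pullback (1 : Over.mk σ ⟶ B).left f.left ⟶ Spec (CommRingCat.of Ω) :=
      pullback.fst (1 : Over.mk σ ⟶ B).left f.left
    haveI : IsFinite q := ‹_›
    haveI : IsAffine (pullback (1 : Over.mk σ ⟶ B).left f.left) := isAffine_of_isAffineHom q
    haveI : Finite ↥(pullback (1 : Over.mk σ ⟶ B).left f.left) := by
      haveI : Subsingleton ↥(Spec (CommRingCat.of Ω)) := inferInstanceAs (Subsingleton (PrimeSpectrum Ω))
      exact Set.finite_univ_iff.1 ((q.finite_preimage_singleton (IsLocalRing.closedPoint Ω)).subset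
        fun z _ => Subsingleton.elim _ _)
    haveI : Finite {s : Spec (CommRingCat.of Ω) ⟶ pullback (1 : Over.mk σ ⟶ B).left f.left // s ≫ q = 𝟙 _} :=
      Finite.of_equiv _ (AVTors.sectEquiv q).symm
    exact Finite.of_injective (fun a : {a : Over.mk σ ⟶ A // a ≫ f = 1} =>
      (⟨pullback.lift (𝟙 _) a.1.left (by rw [Category.id_comp, ← Over.comp_left, a.2]), pullback.lift_fst _ _ _⟩ :
        {s : Spec (CommRingCat.of Ω) ⟶ pullback (1 : Over.mk σ ⟶ B).left f.left // s ≫ q = 𝟙 _}))
      fun a b e => by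
        have := congrArg (fun s => s.1 ≫ pullback.snd _ _) e
        simp only [pullback.lift_snd] at this
        exact Subtype.ext (Over.OverMorphism.ext this)) hft

theorem degree_le {f : A ⟶ B} [IsMonHom f] [IsFinite f.left] [Flat f.left] [Surjective f.left]
    {ft : Bt ⟶ At} [IsMonHom ft] (hft : AbDual.IsTranspose f φA φB ft) {d d' : ℕ}
    (hd : ∀ y : ↥B.left, Scheme.Hom.finrank f.left y = d)
    (hd' : ∀ y : ↥At.left, Scheme.Hom.finrank ft.left y = d') : d' ≤ d := by
  obtain ⟨hfin, hsur, hfl⟩ := transpose_isogeny hA hB hft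
  haveI := AVDual.geometricallyIntegral_of_smooth A
  haveI := hfin; haveI := hfl
  obtain ⟨HA, _, _, _, i, hi, hik⟩ := exists_hopf_kernel f
  obtain ⟨HB, _, _, _, j, hj, hjk⟩ := exists_hopf_kernel ft
  haveI := hi; haveI := hj
  rw [← finrank_eq_of_kernel hik hd, ← finrank_eq_of_kernel hjk hd']
  exact (AVKerPair.transpose_kernel hA hB hft hjk hik).1

/-- An isogeny and its transpose have the same degree. -/
theorem degree_eq {f : A ⟶ B} [IsMonHom f] [IsFinite f.left] [Flat f.left] [Surjective f.left]
    {ft : Bt ⟶ At} (hft : AbDual.IsTranspose f φA φB ft) {d : ℕ}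
    (hd : ∀ y : ↥B.left, Scheme.Hom.finrank f.left y = d) :
    IsFinite ft.left ∧ Flat ft.left ∧ Surjective ft.left ∧ ∀ x : ↥At.left, Scheme.Hom.finrank ft.left x = d := by
  haveI := isMonHom_transpose hA hB hft
  obtain ⟨hfin, hsur, hfl⟩ := transpose_isogeny hA hB hft
  refine ⟨hfin, hfl, hsur, fun x => ?_⟩
  haveI := hfin; haveI := hsur; haveI := hfl
  haveI := AVDual.geometricallyIntegral_of_smooth A
  haveI := AVDual.geometricallyIntegral_of_smooth B
  haveI := AVDual.geometricallyIntegral_of_smooth At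
  haveI := AVDual.geometricallyIntegral_of_smooth Bt
  haveI : IsIntegral A.left := GeometricallyIntegral.isIntegral_of_subsingleton A.hom
  haveI : IsIntegral B.left := GeometricallyIntegral.isIntegral_of_subsingleton B.hom
  haveI : IsIntegral At.left := GeometricallyIntegral.isIntegral_of_subsingleton At.hom
  haveI : IsIntegral Bt.left := GeometricallyIntegral.isIntegral_of_subsingleton Bt.hom
  haveI : GeometricallyReduced A.hom := inferInstance
  haveI : GeometricallyReduced B.hom := inferInstance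
  haveI : IsLocallyNoetherian A.left := LocallyOfFiniteType.isLocallyNoetherian A.hom
  haveI : IsLocallyNoetherian B.left := LocallyOfFiniteType.isLocallyNoetherian B.hom
  haveI : IsLocallyNoetherian At.left := LocallyOfFiniteType.isLocallyNoetherian At.hom
  haveI : IsLocallyNoetherian Bt.left := LocallyOfFiniteType.isLocallyNoetherian Bt.hom
  let a₀ : A.left := η[A].left (IsLocalRing.closedPoint k)
  let b₀ : B.left := η[B].left (IsLocalRing.closedPoint k)
  have hd1 : 1 ≤ d := hd b₀ ▸ ((Scheme.Hom.one_le_finrank_iff_surjective (f := f.left)).2 inferInstance) b₀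
  obtain ⟨⟨g, ⟨hgm, hfg⟩, -⟩, hall⟩ := S7790.result A B f d hd1 fun s => hd _
  obtain ⟨hgf, hgfin, hgfl, hgsur⟩ := hall g hgm hfg
  haveI := hgm; haveI := hgfin; haveI := hgfl; haveI := hgsur
  obtain ⟨gt, hgt⟩ := exists_transpose hB hA g
  haveI := isMonHom_transpose hB hA hgt
  obtain ⟨hgtfin, hgtsur, hgtfl⟩ := transpose_isogeny hB hA hgt
  haveI := hgtfin; haveI := hgtsur; haveI := hgtfl
  have hcomp : ft ≫ gt = 𝟙 Bt ^ d := by
    haveI : IsMonHom (𝟙 Bt ^ d : Bt ⟶ Bt) := AVDegLib.isMonHom_pow d
    refine mul_inv_eq_one.1 (AbDualBase.eq_one_of_geometric _ ?_ fun Ω _ _ σ x => ?_)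
    · rw [MonObj.comp_mul, GrpObj.comp_inv, ← Category.assoc, IsMonHom.one_hom ft, IsMonHom.one_hom gt,
        IsMonHom.one_hom (𝟙 Bt ^ d : Bt ⟶ Bt), mul_inv_cancel, Hom.one_def, toUnit_unique (toUnit _) (𝟙 _),
        Category.id_comp]
    · obtain ⟨c, hc, rfl⟩ := AbDualBase.exists_class hB σ x
      rw [MonObj.comp_mul, GrpObj.comp_inv, mul_inv_eq_one, ← Category.assoc, ← hft _ c hc,
        ← hgt _ _ (AbDualBase.pz_bc f hc), AbDualBase.pull_bcMap_comp, hgf, MonObj.comp_pow, Category.comp_id,
        ← AVDualIsog.phi_pow σ B hB d hc, ← AbDualBase.map_left_eq, AVDualIsog.map_pow', CategoryTheory.Functor.map_id]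
      exact congrArg (φB _) (AVDualIsog.pull_pow σ B d hc).1
  obtain ⟨rA, hrA⟩ := AVTors.exists_dimNat A
  obtain ⟨rB, hrB⟩ := AVTors.exists_dimNat B
  obtain ⟨rt, hrt⟩ := AVTors.exists_dimNat Bt
  have hr : rt = rA := by
    have h1 : topologicalKrullDim A.left = topologicalKrullDim B.left := by
      rw [VarDim.topologicalKrullDim_eq_deg_genericPoint A.hom, VarDim.topologicalKrullDim_eq_deg_genericPoint B.hom]
      have h3 := VarDim.deg_eq_add f.left B.hom (Over.w f) (genericPoint A.left)
      rw [H23.Isogeny.fdeg_eq_zero_of_finite f.left, add_zero] at h3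
      rw [h3, AVDegLib.map_eta f]
    rw [hrA, hrB] at h1
    have := dim_dual hB hrB hrt
    have h4 : rA = rB := by exact_mod_cast h1
    omega
  let x₀ : At.left := η[At].left (IsLocalRing.closedPoint k)
  let y₀ : Bt.left := η[Bt].left (IsLocalRing.closedPoint k)
  let d' := Scheme.Hom.finrank ft.left x₀
  have hc : ∀ z, Scheme.Hom.finrank ft.left z = d' := fun z =>
    ft.left.isLocallyConstant_finrank.apply_eq_of_preconnectedSpace _ _
  let e' := Scheme.Hom.finrank gt.left y₀
  have hce : ∀ z, Scheme.Hom.finrank gt.left z = e' := fun z =>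
    gt.left.isLocallyConstant_finrank.apply_eq_of_preconnectedSpace _ _
  let e := Scheme.Hom.finrank g.left a₀
  have hcg : ∀ z, Scheme.Hom.finrank g.left z = e := fun z =>
    g.left.isLocallyConstant_finrank.apply_eq_of_preconnectedSpace _ _
  have h1 : d' ≤ d := degree_le hA hB hft hd hc
  have h2 : e' ≤ e := degree_le hB hA hgt hcg hce
  have p1 := AVTors.finrank_comp_eq f g b₀ a₀
  have p2 := AVTors.finrank_comp_eq ft gt x₀ y₀
  rw [hfg, ← zpow_natCast, AVDegLib.finrank_zpow hrA (d : ℤ) (by exact_mod_cast (by omega : d ≠ 0)), hd] at p1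
  rw [hcomp, ← zpow_natCast, AVDegLib.finrank_zpow hrt (d : ℤ) (by exact_mod_cast (by omega : d ≠ 0)), hr] at p2
  rw [hc x]
  have hde : d * e = d' * e' := p1.symm.trans p2
  have he : 1 ≤ e := ((Scheme.Hom.one_le_finrank_iff_surjective (f := g.left)).2 inferInstance) a₀
  by_contra hne
  have hlt : d' < d := lt_of_le_of_ne h1 hne
  have : d' * e' < d * e := lt_of_le_of_lt (Nat.mul_le_mul_left d' h2) (Nat.mul_lt_mul_of_pos_right hlt he)
  omega

end Degree

end Groth.Agent.AVDeg
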