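import Groth.Agent.Lib.AVCube
import Groth.Agent.H23.PullPush
import Mathlib.AlgebraicGeometry.Morphisms.FiniteType

/-!
The seesaw principle for a proper geometrically integral scheme over a field, and additivity.
-/

set_option linter.style.haveILetI false
set_option linter.unusedSectionVars false
set_option backward.isDefEq.respectTransparency false
set_option backward.isDefEq.respectTransparency.types false

universe u

open CategoryTheory CategoryTheory.Limits MonoidalCategory CartesianMonoidalCategory MonObj AlgebraicGeometry TopologicalSpace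

namespace Groth.Agent.AVSeesaw

open Groth.Agent.H23 Groth.Agent.H23.TrivBasic
open scoped Groth.Agent.H23.PicMul

variable {k : Type u} [Field k] (X Y : Over (Spec (CommRingCat.of k))) [IsProper X.hom]
  [GeometricallyIntegral X.hom]

theorem bijective_app (U : Y.left.Opens) : Function.Bijective ((snd X Y).left.app U) :=
  Rigid.bijective_app_snd X.hom Y.hom U

variable [LocallyOfFiniteType Y.hom] [IsReduced Y.left]

/-- Fibrewise trivial invertible modules are trivial locally on the base. -/
theorem exists_frame (L : (X ⊗ Y).left.Modules) (hL : PicF.IsInvertible L)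
    (h : ∀ y : Y.left, IsClosed ({y} : Set Y.left) →
      Triv ((Scheme.Modules.pullback (pullback.fst (snd X Y).left (Y.left.fromSpecResidueField y))).obj L)) (y : Y.left) :
    ∃ V : Y.left.Opens, y ∈ V ∧ ∃ s : Γ(L, (snd X Y).left ⁻¹ᵁ V), InvX.IsFrame s := by
  let f := (snd X Y).left
  haveI : IsProper f := inferInstanceAs (IsProper (pullback.snd X.hom Y.hom))
  haveI : Flat f := inferInstanceAs (Flat (pullback.snd X.hom Y.hom))
  haveI : GeometricallyIntegral f := inferInstanceAs (GeometricallyIntegral (pullback.snd X.hom Y.hom))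
  haveI : IsLocallyNoetherian Y.left := LocallyOfFiniteType.isLocallyNoetherian Y.hom
  haveI : JacobsonSpace (Spec (CommRingCat.of k)) := inferInstanceAs (JacobsonSpace (PrimeSpectrum k))
  haveI : JacobsonSpace Y.left := LocallyOfFiniteType.jacobsonSpace Y.hom
  have hall : ∀ w, SeesawGlobal.FieldTriv f L w := by
    intro w
    have hcl := closure_minimal (t := {w | SeesawGlobal.FieldTriv f L w})
      (fun z hz => (SeesawGlobal.fieldTriv_iff_residueField z).2 (h z (mem_closedPoints_iff.1 hz)))
      (SeesawGlobal.isClosed_fieldTriv f hL)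
    exact hcl (by rw [closure_closedPoints]; trivial)
  exact SeesawGlobal.exists_frame_of_isReduced f hL
    (fun v K _ k' _ => by
      show Function.Bijective (pullback.snd (pullback.snd X.hom Y.hom) k').appTop
      rw [← pullbackLeftPullbackSndIso_hom_snd X.hom Y.hom k', Scheme.Hom.comp_appTop]
      exact (SeesawGlobal.bijective_appTop_iso (pullbackLeftPullbackSndIso X.hom Y.hom k')).comp
        (Rigid.bijective_app_snd X.hom (k' ≫ Y.hom) ⊤))
    hall y

/-- Fibrewise trivial invertible modules come from the base. -/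
theorem exists_base (L : (X ⊗ Y).left.Modules) (hL : PicF.IsInvertible L)
    (h : ∀ y : Y.left, IsClosed ({y} : Set Y.left) →
      Triv ((Scheme.Modules.pullback (pullback.fst (snd X Y).left (Y.left.fromSpecResidueField y))).obj L)) :
    ∃ N : Y.left.Modules, PicF.IsInvertible N ∧
      Nonempty ((Scheme.Modules.pullback (snd X Y).left).obj N ≅ L) := by
  let f := (snd X Y).left
  have hf := bijective_app X Y
  refine ⟨(Scheme.Modules.pushforward f).obj L, fun y => ?_, ?_⟩
  · obtain ⟨V, hy, s, hs⟩ := exists_frame X Y L hL h y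
    obtain ⟨φ⟩ := InvX.nonempty_iso_of_isFrame hs
    exact ⟨V, hy, ⟨asIso ((PullPush.pushRestrict f V).app L) ≪≫
      (Scheme.Modules.pushforward (f ∣_ V)).mapIso φ ≪≫
      (PullPush.structureModuleIsoPush (f ∣_ V) (PullPush.app_morphismRestrict_bijective f hf V)).symm⟩⟩
  · haveI : IsIso ((Scheme.Modules.pullbackPushforwardAdjunction f).counit.app L) := by
      refine ModLoc.isIso_of_locally _ fun x => ?_
      obtain ⟨V, hy, s, hs⟩ := exists_frame X Y L hL h (f x)
      obtain ⟨φ⟩ := InvX.nonempty_iso_of_isFrame hs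
      exact ⟨f ⁻¹ᵁ V, hy, PullPush.isIso_restrict_counit f V L ((NatTrans.isIso_app_iff_of_iso _ φ).2
        (PullPush.isIso_counit_structureModule _ (PullPush.app_morphismRestrict_bijective f hf V)))⟩
    exact ⟨asIso ((Scheme.Modules.pullbackPushforwardAdjunction f).counit.app L)⟩

/-- A fibrewise trivial invertible module trivial along a section is trivial. -/
theorem triv_of_slices (L : (X ⊗ Y).left.Modules) (hL : PicF.IsInvertible L)
    (h : ∀ y : Y.left, IsClosed ({y} : Set Y.left) →
      Triv ((Scheme.Modules.pullback (pullback.fst (snd X Y).left (Y.left.fromSpecResidueField y))).obj L))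
    (σ : Y ⟶ X) (hσ : Triv ((Scheme.Modules.pullback (lift σ (𝟙 Y)).left).obj L)) : Triv L :=
  SeesawGlobal.triv_of_section (f := (snd X Y).left) (bijective_app X Y) (lift σ (𝟙 Y)).left
    (by rw [← Over.comp_left, lift_snd]; rfl) hσ (exists_frame X Y L hL h)

end Groth.Agent.AVSeesaw

namespace Groth.Agent.AVSeesaw

open Groth.Agent.H23 Groth.Agent.H23.TrivBasic
open scoped Groth.Agent.H23.PicMul

variable {k : Type u} [Field k] [IsAlgClosed k] (X Y : Over (Spec (CommRingCat.of k))) [IsProper X.hom]
  [GeometricallyIntegral X.hom] [LocallyOfFiniteType Y.hom]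

/-- Over an algebraically closed field the fibres over closed points are the slices at rational points. -/
theorem triv_fibre_of_points (L : (X ⊗ Y).left.Modules)
    (h : ∀ a : 𝟙_ (Over (Spec (CommRingCat.of k))) ⟶ Y,
      Triv ((Scheme.Modules.pullback (lift (𝟙 X) (toUnit X ≫ a)).left).obj L))
    (y : Y.left) (hy : IsClosed ({y} : Set Y.left)) :
    Triv ((Scheme.Modules.pullback (pullback.fst (snd X Y).left (Y.left.fromSpecResidueField y))).obj L) := by
  obtain ⟨⟨a, ha⟩, hay⟩ := (pointEquivClosedPoint Y.hom).surjective ⟨y, hy⟩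
  obtain rfl : a (IsLocalRing.closedPoint k) = y := congrArg Subtype.val hay
  let g := Y.left.fromSpecResidueField (a (IsLocalRing.closedPoint k))
  let φ := Scheme.descResidueField (Scheme.stalkClosedPointTo a)
  have hd : Spec.map φ ≫ g = a := Scheme.descResidueField_stalkClosedPointTo_fromSpecResidueField k _ a
  obtain ⟨ψ, hψ⟩ : ∃ ψ, Spec.map ψ = g ≫ Y.hom := ⟨Spec.preimage (g ≫ Y.hom), Spec.map_preimage _⟩
  have hcomp : Spec.map φ ≫ (g ≫ Y.hom) = 𝟙 _ := by rw [← Category.assoc, hd, ha]
  have h1 : ψ ≫ φ = 𝟙 _ := Spec.map_injective (by rw [Spec.map_comp, Spec.map_id, hψ]; exact hcomp)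
  haveI : IsIso φ := (ConcreteCategory.isIso_iff_bijective φ).2
    ⟨φ.hom.injective, fun c => ⟨ψ c, congr($h1 c)⟩⟩
  have hinv : g ≫ Y.hom = inv (Spec.map φ) := (IsIso.inv_eq_of_hom_inv_id hcomp).symm
  let A : 𝟙_ (Over (Spec (CommRingCat.of k))) ⟶ Y := Over.homMk a ha
  refine SeesawGlobal.triv_of_factor (pullback.fst (snd X Y).left g ≫ (fst X Y).left) ?_ (h A)
  have e := pullback.condition (f := (snd X Y).left) (g := g)
  have e2 : pullback.fst (snd X Y).left g ≫ (fst X Y).left ≫ X.hom = pullback.snd (snd X Y).left g ≫ g ≫ Y.hom := by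
    rw [Over.w (fst X Y), ← Over.w (snd X Y), ← Category.assoc, e, Category.assoc]
  refine pullback.hom_ext (f := X.hom) (g := Y.hom) ?_ ?_
  · show ((pullback.fst (snd X Y).left g ≫ (fst X Y).left) ≫ (lift (𝟙 X) (toUnit X ≫ A)).left) ≫ (fst X Y).left = _
    rw [Category.assoc, ← Over.comp_left, lift_fst, Over.id_left, Category.comp_id]
    rfl
  · show ((pullback.fst (snd X Y).left g ≫ (fst X Y).left) ≫ (lift (𝟙 X) (toUnit X ≫ A)).left) ≫ (snd X Y).left = _
    rw [Category.assoc, ← Over.comp_left, lift_snd, Over.comp_left]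
    show (_ ≫ _) ≫ X.hom ≫ a = pullback.fst _ _ ≫ (snd X Y).left
    have hga : g ≫ Y.hom ≫ a = g := by
      rw [← Category.assoc, hinv, IsIso.inv_comp_eq]
      exact hd.symm
    rw [e, Category.assoc, reassoc_of% e2, hga]

end Groth.Agent.AVSeesaw

namespace Groth.Agent.AVCube

open Groth.Agent.H23
open scoped Groth.Agent.H23.PicMul

variable {k : Type u} [Field k] {A : Over (Spec (CommRingCat.of k))} [GrpObj A] [IsProper A.hom]
  [GeometricallyIntegral A.hom] {L : A.left.Modules} (hL : PicF.IsInvertible L)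

/-- The pullback along a constant map is trivial. -/
theorem pc_const {T : Over (Spec (CommRingCat.of k))} (a : 𝟙_ (Over (Spec (CommRingCat.of k))) ⟶ A) :
    pc hL (toUnit T ≫ a) = 1 := by
  haveI : Subsingleton ↥(𝟙_ (Over (Spec (CommRingCat.of k)))).left :=
    inferInstanceAs (Subsingleton (PrimeSpectrum k))
  haveI : Nonempty ↥(𝟙_ (Over (Spec (CommRingCat.of k)))).left := inferInstanceAs (Nonempty (PrimeSpectrum k))
  rw [← pull_pc, show pc hL a = 1 from Units.ext (KLBasic.trivial_of_subsingleton (PicClLib.isInvertible_pullback a.left hL)),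
    map_one]

theorem inv_pc {T : Over (Spec (CommRingCat.of k))} (f : T ⟶ A) : ∃ D : T.left.Modules, PicF.IsInvertible D ∧
    PicF.cl D = (((pc hL f)⁻¹ : (PicF.Cl T.left)ˣ) : PicF.Cl T.left) := by
  obtain ⟨D, hD, e⟩ := PicInv.exists_inverse (PicClLib.isInvertible_pullback f.left hL)
  refine ⟨D, hD, ?_⟩
  refine left_inv_eq_right_inv (a := (pc hL f : PicF.Cl T.left)) ?_ (Units.mul_inv _)
  rw [mul_comm]
  exact (PicGrp.cl_eq_cl_iff _ _).2 e

/-- Translation invariance is additivity. -/
theorem add_of_invariant [IsAlgClosed k]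
    (h : ∀ a : 𝟙_ (Over (Spec (CommRingCat.of k))) ⟶ A, pc hL (𝟙 A * (toUnit A ≫ a)) = pc hL (𝟙 A))
    {T : Over (Spec (CommRingCat.of k))} (f g : T ⟶ A) : pc hL (f * g) = pc hL f * pc hL g := by
  haveI : IsIntegral A.left := GeometricallyIntegral.isIntegral_of_subsingleton A.hom
  haveI : IsReduced (A ⊗ A).left := FBaseLib.isReduced_pullback A.hom A.hom
  let c := pc hL (fst A A * snd A A) * (pc hL (fst A A))⁻¹ * (pc hL (snd A A))⁻¹
  obtain ⟨D1, hD1, e1⟩ := inv_pc hL (fst A A)
  obtain ⟨D2, hD2, e2⟩ := inv_pc hL (snd A A)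
  let M := CohB1.tensorMod (CohB1.tensorMod ((Scheme.Modules.pullback (fst A A * snd A A).left).obj L) D1) D2
  have hM : PicF.IsInvertible M := PicMul.isInvertible_tensor
    (PicMul.isInvertible_tensor (PicClLib.isInvertible_pullback _ hL) hD1) hD2
  have eM : PicF.cl M = (c : PicF.Cl (A ⊗ A).left) := by
    simp only [M, c, PicMul.cl_tensor, Units.val_mul, e1, e2, val_pc]
  have slice : ∀ {T : Over (Spec (CommRingCat.of k))} (φ : T ⟶ A ⊗ A),
      pc hL ((φ ≫ fst A A) * (φ ≫ snd A A)) = pc hL (φ ≫ fst A A) * pc hL (φ ≫ snd A A) →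
        TrivBasic.Triv ((Scheme.Modules.pullback φ.left).obj M) := by
    intro T φ hφ
    refine (PicGrp.cl_eq_cl_iff _ _).1 ?_
    show PicF.pullCl φ.left (PicF.cl M) = 1
    rw [eM]
    refine congrArg Units.val (show Units.map (PicMul.pullHom φ.left : _ →* _) c = 1 from ?_)
    simp only [c, map_mul, map_inv, pull_pc, MonObj.comp_mul, hφ]
    rw [mul_right_comm, mul_inv_cancel_right, mul_inv_cancel]
  have hc : c = 1 := Units.ext (eM.symm.trans ((PicGrp.cl_eq_cl_iff _ _).2
    (AVSeesaw.triv_of_slices A A M hM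
      (AVSeesaw.triv_fibre_of_points A A M fun a => slice _ (by
        rw [lift_fst, lift_snd, h, pc_const, _root_.mul_one]))
      1 (slice _ (by rw [lift_fst, lift_snd, _root_.one_mul, pc_one, _root_.one_mul])))))
  have := congrArg (Units.map (PicMul.pullHom (lift f g).left : PicF.Cl (A ⊗ A).left →* PicF.Cl T.left)) hc
  simp only [c, map_mul, map_inv, pull_pc, MonObj.comp_mul, lift_fst, lift_snd, map_one] at this
  rwa [mul_inv_eq_one, mul_inv_eq_iff_eq_mul, mul_comm] at this

end Groth.Agent.AVCube
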