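import Groth.Agent.Lib.LerayLow
import Groth.Agent.H28.PnFlat
import Groth.Agent.S0033
import Groth.Agent.S0927
import Groth.Agent.S2391
import Groth.Agent.SeesawX.Glue
import Groth.Agent.SeesawX.Pair
import Groth.Agent.SeesawX.Crit
import Groth.Agent.H23.CubeAb
import Groth.Agent.Lib.CurveDeg
import Groth.Agent.H23.CubeField
import Groth.Agent.Lib.AVSeesaw
import Groth.Prelude.Def_DCoh4

/-!
Vanishing of the cohomology of nontrivial translation invariant invertible modules on abelian varieties.
-/

set_option autoImplicit false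
set_option linter.style.haveILetI false
set_option linter.unusedSectionVars false
set_option backward.isDefEq.respectTransparency false
set_option backward.isDefEq.respectTransparency.types false
set_option maxHeartbeats 1000000
set_option synthInstance.maxHeartbeats 400000

universe u

open CategoryTheory CategoryTheory.Limits MonoidalCategory CartesianMonoidalCategory MonObj AlgebraicGeometry TopologicalSpace Opposite

noncomputable section

namespace Groth.Agent.AVVanish

open Groth.Agent

section Modules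

variable {A B : Scheme.{u}}

theorem hom_zero_of_subsingleton {M : A.Modules} (h : Subsingleton Γ(M, ⊤)) (s : Coh.structureModule A ⟶ M) :
    s = 0 := SeesawX.hom_ext_one _ _ (h.elim _ _)

theorem exists_hom_ne_zero {M : A.Modules} (h : ¬ Subsingleton Γ(M, ⊤)) :
    ∃ s : Coh.structureModule A ⟶ M, s ≠ 0 := by
  by_contra hc
  push_neg at hc
  refine h (subsingleton_of_forall_eq 0 fun t => ?_)
  rw [← InvX.one_ofSect t, hc (InvX.ofSect t)]
  rfl

theorem eq_zero_of_map_eq_zero (g : A ⟶ B) (e : B ⟶ A) (he : e ≫ g = 𝟙 B) {M N : B.Modules} (s : M ⟶ N)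
    (hs : (Scheme.Modules.pullback g).map s = 0) : s = 0 := by
  haveI : (Scheme.Modules.pullback e).Additive :=
    haveI := (Scheme.Modules.pullbackPushforwardAdjunction e).isLeftAdjoint
    Functor.additive_of_preserves_binary_products _
  let α : Scheme.Modules.pullback g ⋙ Scheme.Modules.pullback e ≅ 𝟭 B.Modules :=
    Scheme.Modules.pullbackComp e g ≪≫ Scheme.Modules.pullbackCongr he ≪≫ Scheme.Modules.pullbackId B
  rw [← cancel_epi (α.hom.app M)]
  refine (α.hom.naturality s).symm.trans ?_
  show (Scheme.Modules.pullback e).map ((Scheme.Modules.pullback g).map s) ≫ _ = _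
  rw [hs, Functor.map_zero, zero_comp, comp_zero]

/-- The sections of a pullback along a morphism with a section. -/
theorem not_subsingleton_pullback (g : A ⟶ B) (e : B ⟶ A) (he : e ≫ g = 𝟙 B) {M : B.Modules}
    (h : ¬ Subsingleton Γ(M, ⊤)) : ¬ Subsingleton Γ((Scheme.Modules.pullback g).obj M, ⊤) := fun hp => by
  obtain ⟨s, hs⟩ := exists_hom_ne_zero h
  refine hs (eq_zero_of_map_eq_zero g e he s ?_)
  rw [← cancel_epi (SeesawX.unitIso g).inv, comp_zero]
  exact hom_zero_of_subsingleton hp _

theorem isZero_of_point [Subsingleton B] {M : B.Modules} (h : Subsingleton Γ(M, ⊤)) : IsZero M := by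
  refine (IsZero.iff_id_eq_zero _).2 (Scheme.Modules.hom_ext _ _ fun U => ConcreteCategory.hom_ext _ _ fun x => ?_)
  have hs : Subsingleton Γ(M, U) := by
    by_cases hU : ∃ y : B, y ∈ U
    · obtain ⟨y, hy⟩ := hU
      obtain rfl : U = ⊤ := top_le_iff.1 fun z _ => (Subsingleton.elim y z) ▸ hy
      exact h
    · refine ⟨fun a b => (QCoh.abSheaf M).eq_of_locally_eq' (fun i : PEmpty.{1} => i.elim) U (fun i => i.elim)
        (fun z hz => absurd ⟨z, hz⟩ hU) a b fun i => i.elim⟩
  exact hs.elim _ _

theorem isFlasqueMod_of_isZero {M : B.Modules} (h : IsZero M) : QCoh.IsFlasqueMod M where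
  epi {U V} _ := by
    refine (AddCommGrpCat.epi_iff_surjective _).2 fun t => ⟨0, ?_⟩
    have e : ∀ x : Γ(M, V.unop), x = 0 := fun x => congr(($((IsZero.iff_id_eq_zero _).1 h)).app V.unop x)
    exact (e _).trans (e t).symm

theorem subsingleton_sections_of_isZero {M : B.Modules} (h : IsZero M) : Subsingleton Γ(M, ⊤) :=
  subsingleton_of_forall_eq 0 fun x => congr(($((IsZero.iff_id_eq_zero _).1 h)).app ⊤ x)

theorem subsingleton_HH_zero_iff (M : B.Modules) :
    Subsingleton (Coh.HH B M 0) ↔ Subsingleton Γ(M, ⊤) :=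
  (Sheaf.H.equiv₀ (Coh.toAb M) isTerminalTop).toEquiv.subsingleton_congr

/-- Morphisms into the image of a free module of finite rank under an additive functor. -/
theorem hom_map_free_eq_zero {A' : Scheme.{u}} (Φ : B.Modules ⥤ A'.Modules) [Φ.Additive] (n : ℕ)
    (h : ∀ s : Coh.structureModule A' ⟶ Φ.obj (Coh.structureModule B), s = 0)
    (s : Coh.structureModule A' ⟶ Φ.obj (FlatMod.freeMod B n)) : s = 0 := by
  classical
  let inj : Fin n → (Coh.structureModule B ⟶ FlatMod.freeMod B n) := fun i =>
    Sigma.ι (fun _ : Fin n => Coh.structureModule B) i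
  let π : Fin n → (FlatMod.freeMod B n ⟶ Coh.structureModule B) := fun i =>
    Sigma.desc fun j => if j = i then 𝟙 _ else 0
  have hid : ∑ i, π i ≫ inj i = 𝟙 (FlatMod.freeMod B n) := by
    refine Sigma.hom_ext _ _ fun j => ?_
    rw [Preadditive.comp_sum, Finset.sum_eq_single j]
    · simp [π, inj]
    · intro i _ hij
      simp [π, inj, Ne.symm hij]
    · simp
  rw [← Category.comp_id s, ← Φ.map_id, ← hid, Functor.map_sum, Preadditive.comp_sum]
  refine Finset.sum_eq_zero fun i _ => ?_
  rw [Φ.map_comp, ← Category.assoc, h (s ≫ Φ.map (π i)), zero_comp]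

end Modules

section AV

variable {k : Type u} [Field k] {X : Over (Spec (CommRingCat.of k))} [GrpObj X] [IsProper X.hom]
  [GeometricallyIntegral X.hom]

open Groth.Agent.H23

attribute [local instance] PicMul.clMonoid

variable {L : X.left.Modules}

theorem pull_one_eq (hL : PicF.IsInvertible L)
    (hΛ : PicF.pullCl μ[X].left (PicF.cl L) =
      PicF.pullCl (fst X X).left (PicF.cl L) * PicF.pullCl (snd X X).left (PicF.cl L)) :
    PicF.pullCl (1 : X ⟶ X).left (PicF.cl L) = 1 ∧
      PicF.cl L * PicF.pullCl ((𝟙 X)⁻¹).left (PicF.cl L) = 1 := by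
  have key : ∀ a b : X ⟶ X, PicF.pullCl (a * b).left (PicF.cl L) =
      PicF.pullCl a.left (PicF.cl L) * PicF.pullCl b.left (PicF.cl L) := fun a b => by
    have h := congrArg (PicMul.pullHom (lift a b).left) hΛ
    rw [map_mul] at h
    have e : ∀ g : X ⊗ X ⟶ X, (PicMul.pullHom (lift a b).left) (PicF.pullCl g.left (PicF.cl L)) =
        PicF.pullCl (lift a b ≫ g).left (PicF.cl L) := fun g => by
      rw [Over.comp_left, ← PicClLib.pullCl_comp (lift a b).left g.left (PicF.cl L)]; rfl
    rw [e, e, e, lift_fst, lift_snd, ← Hom.mul_def] at h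
    exact h
  have h1 := key 1 1
  rw [_root_.one_mul] at h1
  have hu : IsUnit (PicF.pullCl (1 : X ⟶ X).left (PicF.cl L)) := (PicMul.isUnit_cl hL).map (PicMul.pullHom _)
  have h1' : PicF.pullCl (1 : X ⟶ X).left (PicF.cl L) = 1 :=
    hu.mul_left_cancel (h1.symm.trans (_root_.mul_one _).symm)
  refine ⟨h1', ?_⟩
  have h2 := key (𝟙 X) (𝟙 X)⁻¹
  rw [mul_inv_cancel, h1', Over.id_left, PicClLib.pullCl_id] at h2
  exact h2.symm

/-- No sections. -/
theorem subsingleton_sections (hL : PicF.IsInvertible L)
    (hΛ : PicF.pullCl μ[X].left (PicF.cl L) =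
      PicF.pullCl (fst X X).left (PicF.cl L) * PicF.pullCl (snd X X).left (PicF.cl L))
    (hnt : ¬ TrivBasic.Triv L) : Subsingleton Γ(L, ⊤) := by
  haveI : IsIntegral X.left := GeometricallyIntegral.isIntegral_of_subsingleton X.hom
  haveI : GeometricallyConnected X.hom := CubeAb.geometricallyConnected_of_integral X.hom
  by_contra hs
  obtain ⟨t, ht⟩ : ∃ t : Γ(L, ⊤), t ≠ 0 := by
    by_contra hc
    push_neg at hc
    exact hs (subsingleton_of_forall_eq 0 hc)
  let nv : X ⟶ X := (𝟙 X)⁻¹
  have hnv : nv ≫ nv = 𝟙 X := by rw [GrpObj.comp_inv, Category.comp_id, inv_inv]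
  obtain ⟨φ⟩ := (PicGrp.cl_eq_cl_iff (CohB1.tensorMod L ((Scheme.Modules.pullback nv.left).obj L))
    (Coh.structureModule X.left)).1 (pull_one_eq hL hΛ).2
  have hnz := not_subsingleton_pullback nv.left nv.left (by rw [← Over.comp_left, hnv]; rfl) hs
  obtain ⟨t', ht'⟩ : ∃ t' : Γ((Scheme.Modules.pullback nv.left).obj L, ⊤), t' ≠ 0 := by
    by_contra hc
    push_neg at hc
    exact hnz (subsingleton_of_forall_eq 0 hc)
  refine hnt (SeesawX.triv_of_pair hL (PicClLib.isInvertible_pullback _ hL) φ (fun c hc => ?_) ht ht')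
  have hb := CubeField.bijective_appTop_of_connected X
  obtain ⟨a, rfl⟩ := hb.2 c
  obtain ⟨b, rfl⟩ := (Scheme.ΓSpecIso (CommRingCat.of k)).commRingCatIsoToRingEquiv.symm.surjective a
  have hb0 : (b : k) ≠ 0 := fun h0 => hc (by rw [show b = 0 from h0, map_zero, map_zero])
  exact ((IsUnit.mk0 (b : k) hb0).map _).map _

variable [HasInjectiveResolutions X.left.Modules] [HasInjectiveResolutions (X ⊗ X).left.Modules]

theorem isPullback_fst : IsPullback (fst X X).left (snd X X).left X.hom X.hom :=
  IsPullback.of_hasPullback X.hom X.hom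

theorem isPullback_snd : IsPullback (snd X X).left (fst X X).left X.hom X.hom :=
  (IsPullback.of_hasPullback X.hom X.hom).flip

/-- All cohomology vanishes. -/
theorem subsingleton_HH (hL : PicF.IsInvertible L)
    (hΛ : PicF.pullCl μ[X].left (PicF.cl L) =
      PicF.pullCl (fst X X).left (PicF.cl L) * PicF.pullCl (snd X X).left (PicF.cl L))
    (hnt : ¬ TrivBasic.Triv L) : ∀ i : ℕ, Subsingleton (Coh.HH X.left L i) := by
  haveI : IsLocallyNoetherian X.left := LocallyOfFiniteType.isLocallyNoetherian X.hom
  haveI : Subsingleton ↥(Spec (CommRingCat.of k)) := inferInstanceAs (Subsingleton (PrimeSpectrum k))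
  haveI : Coh.IsQCoh L := (CurveDeg.isCoh_of_isInvertible hL).1
  have hE : FlatMod.IsFinLocFree L := fun x => by
    obtain ⟨U, hU, e⟩ := SeesawX.isFinLocFreeOfRank_one hL x
    exact ⟨U, 1, hU, e⟩
  have hsec := subsingleton_sections hL hΛ hnt
  intro i
  induction i using Nat.strong_induction_on with
  | _ i ih =>
  rcases i with _ | q
  · exact (subsingleton_HH_zero_iff L).2 hsec
  have hπ0 : IsZero ((Scheme.Modules.pushforward X.hom).obj L) := isZero_of_point hsec
  have hπ : ∀ n < q, IsZero ((Coh.Rpush X.hom (n + 1)).obj L) := by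
    intro n hn
    induction n using Nat.strong_induction_on with
    | _ n ihn =>
    exact isZero_of_point ((LerayLow.subsingleton_iff X.hom (isFlasqueMod_of_isZero hπ0) n
      fun m hm => ihn m hm (hm.trans hn)).1 (ih (n + 1) (by omega)))
  by_contra hne
  have hR : ¬ Subsingleton Γ((Coh.Rpush X.hom (q + 1)).obj L, ⊤) :=
    fun h => hne ((LerayLow.subsingleton_iff X.hom (isFlasqueMod_of_isZero hπ0) q hπ).2 h)
  have hπ0' : IsZero ((Coh.Rpush X.hom 0).obj L) := by
    haveI := SpObjSS.enoughInjectives_of_hasInjectiveResolutions (C := X.left.Modules)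
    haveI := QCoh.preservesFiniteLimits_push X.hom
    exact hπ0.of_iso ((Scheme.Modules.pushforward X.hom).rightDerivedZeroIsoSelf.app L)
  have hz : ∀ n < q + 1, IsZero ((Coh.Rpush X.hom n).obj L) := fun n hn => by
    rcases n with _ | n
    · exact hπ0'
    · exact hπ n (by omega)
  haveI : Flat X.hom := inferInstance
  haveI : (Scheme.Modules.pullback X.hom).Additive :=
    haveI := (Scheme.Modules.pullbackPushforwardAdjunction X.hom).isLeftAdjoint
    Functor.additive_of_preserves_binary_products _
  haveI := SpObjSS.enoughInjectives_of_hasInjectiveResolutions (C := (X ⊗ X).left.Modules)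
  let F₁ := (Scheme.Modules.pullback (fst X X).left).obj L
  let F₂ := CohB1.tensorMod ((Scheme.Modules.pullback (fst X X).left).obj L)
    ((Scheme.Modules.pullback (snd X X).left).obj L)
  -- the projection with `pr₁^*L`
  have hA : ¬ Subsingleton (Coh.HH (X ⊗ X).left F₁ (q + 1)) := by
    haveI := QCoh.preservesFiniteLimits_push (snd X X).left
    have e : ∀ n, Nonempty ((Scheme.Modules.pullback X.hom).obj ((Coh.Rpush X.hom n).obj L) ≅
        (Coh.Rpush (snd X X).left n).obj F₁) := fun n => S0033.result X.hom X.hom _ _ isPullback_fst L n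
    have hfl : QCoh.IsFlasqueMod ((Scheme.Modules.pushforward (snd X X).left).obj F₁) :=
      isFlasqueMod_of_isZero ((((Scheme.Modules.pullback X.hom).map_isZero (hz 0 (by omega))).of_iso
        (e 0).some.symm).of_iso ((Scheme.Modules.pushforward (snd X X).left).rightDerivedZeroIsoSelf.app F₁).symm)
    rw [LerayLow.subsingleton_iff (snd X X).left hfl q
      (fun n hn => ((Scheme.Modules.pullback X.hom).map_isZero (hz (n + 1) (by omega))).of_iso (e (n + 1)).some.symm),
      LerayLow.subsingleton_sections_congr (e (q + 1)).some.symm]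
    exact not_subsingleton_pullback X.hom η[X].left (Over.w η[X]) hR
  -- the projection with `L ⊠ L`
  have hB : Subsingleton (Coh.HH (X ⊗ X).left F₂ (q + 1)) := by
    haveI := QCoh.preservesFiniteLimits_push (fst X X).left
    let Φ : (Spec (CommRingCat.of k)).Modules ⥤ X.left.Modules :=
      Scheme.Modules.pullback X.hom ⋙ (DCoh.tensorBi (X := X.left)).obj L
    have e : ∀ n, Nonempty (Φ.obj ((Coh.Rpush X.hom n).obj L) ≅ (Coh.Rpush (fst X X).left n).obj F₂) := fun n => by
      obtain ⟨a⟩ := S0033.result X.hom X.hom _ _ isPullback_snd L n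
      obtain ⟨b⟩ := S0927.result (fst X X).left ((Scheme.Modules.pullback (snd X X).left).obj L) L hE n
      exact ⟨((DCoh.tensorBi (X := X.left)).obj L).mapIso a ≪≫ b⟩
    have hfl : QCoh.IsFlasqueMod ((Scheme.Modules.pushforward (fst X X).left).obj F₂) :=
      isFlasqueMod_of_isZero (((Φ.map_isZero (hz 0 (by omega))).of_iso (e 0).some.symm).of_iso
        ((Scheme.Modules.pushforward (fst X X).left).rightDerivedZeroIsoSelf.app F₂).symm)
    rw [LerayLow.subsingleton_iff (fst X X).left hfl q
      (fun n hn => (Φ.map_isZero (hz (n + 1) (by omega))).of_iso (e (n + 1)).some.symm),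
      LerayLow.subsingleton_sections_congr (e (q + 1)).some.symm]
    haveI : Flat X.hom := inferInstance
    obtain ⟨hfree, hloc⟩ := S2391.result X.hom L (CurveDeg.isCoh_of_isInvertible hL)
      (Seesaw.isFlatOver_of_isInvertible X.hom hL) (q + 1) (IsLocallyConstant.of_discrete _)
    obtain ⟨n, ⟨ε⟩⟩ := SeesawX.exists_free_iso_of_field hfree
    refine subsingleton_of_forall_eq 0 fun t => ?_
    have hO : ∀ s : Coh.structureModule X.left ⟶ Φ.obj (Coh.structureModule (Spec (CommRingCat.of k))), s = 0 := by
      intro s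
      have hc : PicF.cl (Φ.obj (Coh.structureModule (Spec (CommRingCat.of k)))) = PicF.cl L := by
        show PicF.cl (CohB1.tensorMod L _) = _
        rw [PicMul.cl_tensor, show PicF.cl ((Scheme.Modules.pullback X.hom).obj
          (Coh.structureModule (Spec (CommRingCat.of k)))) = 1 from
          (PicGrp.cl_eq_cl_iff _ _).2 (PicClLib.nonempty_pullback_structureModule X.hom), _root_.mul_one]
      obtain ⟨ε'⟩ := (PicGrp.cl_eq_cl_iff _ _).1 hc
      exact hom_zero_of_subsingleton ((LerayLow.subsingleton_sections_congr ε').2 hsec) s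
    have hs : InvX.ofSect t = 0 := by
      have h0 := hom_map_free_eq_zero Φ n hO (InvX.ofSect t ≫ Φ.map ε.hom)
      rw [← cancel_mono (Φ.map ε.hom), h0, zero_comp]
    rw [← InvX.one_ofSect t, hs]
    rfl
  -- the shear
  let sh : X ⊗ X ≅ X ⊗ X :=
    { hom := lift μ[X] (snd X X)
      inv := lift (fst X X * (snd X X)⁻¹) (snd X X)
      hom_inv_id := by
        apply CartesianMonoidalCategory.hom_ext
        · rw [Category.assoc, lift_fst, Category.id_comp, MonObj.comp_mul, GrpObj.comp_inv, lift_fst, lift_snd,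
            show μ[X] = fst X X * snd X X by rw [Hom.mul_def, lift_fst_snd, Category.id_comp], mul_inv_cancel_right]
        · simp
      inv_hom_id := by
        apply CartesianMonoidalCategory.hom_ext
        · rw [Category.assoc, lift_fst, Category.id_comp,
            show μ[X] = fst X X * snd X X by rw [Hom.mul_def, lift_fst_snd, Category.id_comp], MonObj.comp_mul,
            lift_fst, lift_snd, inv_mul_cancel_right]
        · simp }
  let shl : (X ⊗ X).left ≅ (X ⊗ X).left := (Over.forget _).mapIso sh
  refine hA ?_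
  have hc : PicF.cl F₂ = PicF.cl ((Scheme.Modules.pullback shl.hom).obj F₁) := by
    show PicF.cl (CohB1.tensorMod _ _) = PicF.pullCl shl.hom (PicF.pullCl (fst X X).left (PicF.cl L))
    rw [PicMul.cl_tensor, PicClLib.pullCl_comp, show shl.hom = sh.hom.left from rfl, ← Over.comp_left,
      show sh.hom ≫ fst X X = μ[X] from lift_fst _ _]
    exact hΛ.symm
  obtain ⟨a⟩ := (PicGrp.cl_eq_cl_iff _ _).1 hc
  have h1 := QCoh.subsingleton_HH_of_iso a _ hB
  refine QCoh.subsingleton_HH_of_iso ((Scheme.Modules.pullbackComp shl.inv shl.hom).app F₁ ≪≫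
    (Scheme.Modules.pullbackCongr shl.inv_hom_id).app F₁ ≪≫ (Scheme.Modules.pullbackId _).app F₁) _
    (H28.PnFlat.subsingleton_HH_pullback_of_iso shl.symm _ q h1)

end AV

end Groth.Agent.AVVanish
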