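import Groth.Agent.H23.TraceSplit
import Groth.Agent.H23.CoverPush
import Groth.Agent.H23.PullPush
import Groth.Agent.KFlatLib.Scheme.QCohTensor
import Groth.Agent.QCoh.AffineCohom
import Groth.Agent.QCoh.OpenSub
import Groth.Agent.KFlatLib.Scheme.AcyclicPush
import Groth.Agent.Lib.AVVanish
import Groth.Agent.S0927
import Groth.Prelude.Def_DCoh4

/-!
Cohomology of an invertible module injects into that of its pullback along a cover of invertible degree.
-/

set_option autoImplicit false
set_option linter.style.haveILetI false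
set_option linter.unusedSectionVars false
set_option backward.isDefEq.respectTransparency false
set_option backward.isDefEq.respectTransparency.types false
set_option maxHeartbeats 1000000
set_option synthInstance.maxHeartbeats 400000

universe u

open CategoryTheory CategoryTheory.Limits AlgebraicGeometry TopologicalSpace Opposite

noncomputable section

namespace Groth.Agent.AVTraceRetract

open Groth.Agent

variable {X Y : Scheme.{u}} (f : Y ⟶ X)

theorem subsingleton_HH_of_retract {M N : X.Modules} (i : M ⟶ N) (p : N ⟶ M) (h : i ≫ p = 𝟙 M) (q : ℕ)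
    (hN : Subsingleton (Coh.HH X N q)) : Subsingleton (Coh.HH X M q) := by
  haveI := hN
  have e : ∀ x : Coh.HH X M q, (Sheaf.H.map ((QCoh.toAbFunctor X).map p) q
      (Sheaf.H.map ((QCoh.toAbFunctor X).map i) q x) : Coh.HH X M q) = x := fun x => by
    rw [← Sheaf.H.map_comp_apply, ← (QCoh.toAbFunctor X).map_comp, h, (QCoh.toAbFunctor X).map_id]
    exact Sheaf.H.map_id_apply x
  exact ⟨fun x y => ((e x).symm.trans (congrArg (Sheaf.H.map ((QCoh.toAbFunctor X).map p) q)
    (hN.elim _ _))).trans (e y)⟩

/-- The unit of a cover of invertible degree has a retraction. -/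
theorem exists_retraction {d : ℕ} (hf : FinCov.IsCover f d) (hd : IsUnit ((d : Γ(X, ⊤)))) :
    ∃ (i : Coh.structureModule X ⟶ (Scheme.Modules.pushforward f).obj (Coh.structureModule Y))
      (p : (Scheme.Modules.pushforward f).obj (Coh.structureModule Y) ⟶ Coh.structureModule X), i ≫ p = 𝟙 _ := by
  haveI : IsFinite f := hf.1.1
  have hA : FlatMod.IsFinLocFreeOfRank d (RelSpec.QCAlg.directImage f).toModule :=
    H23.CoverPush.isFinLocFreeOfRank_push_of_isCover f hf
  obtain ⟨τ, hτ, -⟩ := H23.FinTrace.existsUnique_isTrace (H23.DblAlg.isFinLocFree_of_rank hA)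
  obtain ⟨σ, hσ, -⟩ := H23.TraceSplit.exists_section hA hτ hd
  exact ⟨σ, τ, hσ⟩

/-- The projection formula in degree zero. -/
theorem nonempty_projection {L : X.Modules} (hL : PicF.IsInvertible L) :
    Nonempty (((DCoh.tensorBi (X := X)).obj L).obj ((Scheme.Modules.pushforward f).obj (Coh.structureModule Y)) ≅
      (Scheme.Modules.pushforward f).obj ((Scheme.Modules.pullback f).obj L)) := by
  haveI : HasInjectiveResolutions Y.Modules := KFlatLib.hasInjectiveResolutions_modules
  haveI := SpObjSS.enoughInjectives_of_hasInjectiveResolutions (C := Y.Modules)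
  haveI := QCoh.preservesFiniteLimits_push f
  obtain ⟨e₃⟩ := S0927.result f (Coh.structureModule Y) L (H23.PullPush.isFinLocFree_of_isInvertible hL) 0
  let e₂ := KFlatLib.tensorUnitIso ((Scheme.Modules.pullback f).obj L)
  let r := (Scheme.Modules.pushforward f).rightDerivedZeroIsoSelf
  let a : (Coh.Rpush f 0).obj (Coh.structureModule Y) ≅ (Scheme.Modules.pushforward f).obj (Coh.structureModule Y) :=
    r.app (Coh.structureModule Y)
  let b : (Coh.Rpush f 0).obj (CohB1.tensorMod ((Scheme.Modules.pullback f).obj L) (Coh.structureModule Y)) ≅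
      (Scheme.Modules.pushforward f).obj (CohB1.tensorMod ((Scheme.Modules.pullback f).obj L) (Coh.structureModule Y)) :=
    r.app (CohB1.tensorMod ((Scheme.Modules.pullback f).obj L) (Coh.structureModule Y))
  exact ⟨((DCoh.tensorBi (X := X)).obj L).mapIso a.symm ≪≫ e₃ ≪≫ b ≪≫ (Scheme.Modules.pushforward f).mapIso e₂⟩

/-- A retract after tensoring. -/
theorem exists_retract {d : ℕ} (hf : FinCov.IsCover f d) (hd : IsUnit ((d : Γ(X, ⊤))))
    {L : X.Modules} (hL : PicF.IsInvertible L) :
    ∃ (i : L ⟶ (Scheme.Modules.pushforward f).obj ((Scheme.Modules.pullback f).obj L))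
      (p : (Scheme.Modules.pushforward f).obj ((Scheme.Modules.pullback f).obj L) ⟶ L), i ≫ p = 𝟙 L := by
  obtain ⟨i, p, hip⟩ := exists_retraction f hf hd
  obtain ⟨e⟩ := nonempty_projection f hL
  have h1 := congrArg (((DCoh.tensorBi (X := X)).obj L).map) hip
  rw [Functor.map_comp, CategoryTheory.Functor.map_id] at h1
  exact ⟨(KFlatLib.tensorUnitIso L).inv ≫ ((DCoh.tensorBi (X := X)).obj L).map i ≫ e.hom,
    e.inv ≫ ((DCoh.tensorBi (X := X)).obj L).map p ≫ (KFlatLib.tensorUnitIso L).hom, by
      simp only [Category.assoc, Iso.hom_inv_id_assoc]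
      rw [reassoc_of% h1, Iso.inv_hom_id]⟩

/-- Vanishing descends along a cover of invertible degree. -/
theorem subsingleton_HH_of_cover {d : ℕ} (hf : FinCov.IsCover f d) (hd : IsUnit ((d : Γ(X, ⊤))))
    {L : X.Modules} (hL : PicF.IsInvertible L) (q : ℕ)
    (h : Subsingleton (Coh.HH Y ((Scheme.Modules.pullback f).obj L) q)) : Subsingleton (Coh.HH X L q) := by
  haveI : IsFinite f := hf.1.1
  have hP : PicF.IsInvertible ((Scheme.Modules.pullback f).obj L) := PicClLib.isInvertible_pullback _ hL
  obtain ⟨i, p, hip⟩ := exists_retract f hf hd hL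
  obtain ⟨ε⟩ := QCoh.HH_push_of_isAffineHom f
    (QCoh.isQCoh_of_isFinLocFree (H23.PullPush.isFinLocFree_of_isInvertible hP)) q
  exact subsingleton_HH_of_retract i p hip q ε.symm.toEquiv.subsingleton

end Groth.Agent.AVTraceRetract
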