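import Groth.Agent.Lib.AVPhiApp
import Groth.Agent.Lib.AVTraceRetract
import Groth.Agent.S1844
import Groth.Agent.S0051
import Groth.Agent.AVDegLib.MulN
import Groth.Agent.Lib.AVEnd0

/-!
Vanishing of the higher cohomology of ample modules on abelian varieties; non-vanishing of nondegenerate ones.
-/

set_option autoImplicit false
set_option linter.style.haveILetI false
set_option linter.unusedSectionVars false
set_option backward.isDefEq.respectTransparency false
set_option backward.isDefEq.respectTransparency.types false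
set_option maxHeartbeats 1000000
set_option synthInstance.maxHeartbeats 400000

universe u

open CategoryTheory CategoryTheory.Limits MonoidalCategory CartesianMonoidalCategory MonObj AlgebraicGeometry TopologicalSpace Opposite

noncomputable section

namespace Groth.Agent.AVAmpleVan

open Groth.Agent Groth.Agent.H23 Groth.Agent.AVCube
open scoped Groth.Agent.H23.PicMul

variable {k : Type u} [Field k] [IsAlgClosed k] {A : Over (Spec (CommRingCat.of k))} [GrpObj A] [IsProper A.hom]
  [GeometricallyIntegral A.hom]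

local notation3 "pt₀" => 𝟙_ (Over (Spec (CommRingCat.of k)))

theorem isIso_translate (x : pt₀ ⟶ A) : IsIso (𝟙 A * (toUnit A ≫ x)).left := AVAmple.isIso_tr x

/-- Translation preserves vanishing. -/
theorem subsingleton_HH_translate (x : pt₀ ⟶ A) (L : A.left.Modules) (q : ℕ)
    (h : Subsingleton (Coh.HH A.left L q)) :
    Subsingleton (Coh.HH A.left ((Scheme.Modules.pullback (𝟙 A * (toUnit A ≫ x)).left).obj L) q) := by
  haveI := isIso_translate x
  exact AVPhiSurj.subsingleton_HH_pullback (asIso (𝟙 A * (toUnit A ≫ x)).left) L q h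

variable {L : A.left.Modules} (hL : PicF.IsInvertible L)

/-- `[-1]^*L ⊗ L⁻¹` is translation invariant. -/
theorem inv_div_invariant [IsCommMonObj A] (a : pt₀ ⟶ A) :
    pc hL ((𝟙 A * (toUnit A ≫ a))⁻¹) / pc hL (𝟙 A * (toUnit A ≫ a)) = pc hL (𝟙 A)⁻¹ / pc hL (𝟙 A) := by
  have h1 := cube_rel hL (𝟙 A)⁻¹ (𝟙 A) (toUnit A ≫ a⁻¹)
  have h2 := cube_rel hL (𝟙 A) (toUnit A ≫ a) (toUnit A ≫ a⁻¹)
  have e : (toUnit A ≫ a) * (toUnit A ≫ a⁻¹) = 1 := by rw [← MonObj.comp_mul, mul_inv_cancel, MonObj.comp_one]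
  rw [inv_mul_cancel, _root_.one_mul, pc_one, pc_const, _root_.one_mul, _root_.mul_one, _root_.one_mul] at h1
  simp only [_root_.mul_assoc (𝟙 A), e, _root_.mul_one, pc_one, pc_const] at h2
  rw [mul_inv, ← GrpObj.comp_inv, div_eq_div_iff_mul_eq_mul]
  refine mul_right_cancel (b := pc hL (𝟙 A * (toUnit A ≫ a⁻¹))) ?_
  rw [mul_right_comm, ← h1, _root_.mul_assoc, h2, _root_.mul_assoc]

/-- The pullback of a class by `[m]` is a translate of its `m²`-th power. -/
theorem exists_pow_translate (hLa : CohB1.IsAmple L) (m : ℕ) (hm : 0 < m) :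
    ∃ x : pt₀ ⟶ A, Nonempty ((Scheme.Modules.pullback (𝟙 A ^ m : A ⟶ A).left).obj L ≅
      (Scheme.Modules.pullback (𝟙 A * (toUnit A ≫ x)).left).obj (CohB1.tensorPow L (m ^ 2))) := by
  haveI : IsCommMonObj A := isCommMonObj_of_isProper_of_geometricallyIntegral A
  obtain ⟨D, hD, eD⟩ := inv_pc hLa.1 (𝟙 A)
  let P := CohB1.tensorMod ((Scheme.Modules.pullback ((𝟙 A)⁻¹ : A ⟶ A).left).obj L) D
  have hP : PicF.IsInvertible P := PicMul.isInvertible_tensor (PicClLib.isInvertible_pullback _ hLa.1) hD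
  let N := CohB1.tensorPow P (m * (m - 1) / 2)
  have hN : PicF.IsInvertible N := PicMul.isInvertible_tensorPow hP _
  have eP : PicF.cl P = ((pc hLa.1 (𝟙 A)⁻¹ / pc hLa.1 (𝟙 A) : (PicF.Cl A.left)ˣ) : PicF.Cl A.left) := by
    rw [PicMul.cl_tensor, eD, div_eq_mul_inv, Units.val_mul, val_pc]
  have hinv : ∀ a : pt₀ ⟶ A, Nonempty ((Scheme.Modules.pullback (𝟙 A * (toUnit A ≫ a)).left).obj N ≅ N) := by
    intro a
    refine (PicGrp.cl_eq_cl_iff _ _).1 ?_
    show PicMul.pullHom _ (PicF.cl N) = PicF.cl N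
    rw [PicMul.cl_tensorPow, map_pow, eP]
    refine congrArg (· ^ _) (congrArg Units.val (show Units.map (PicMul.pullHom _ : _ →* _) _ = _ from ?_))
    rw [map_div, pull_pc, pull_pc, GrpObj.comp_inv, Category.comp_id]
    exact inv_div_invariant hLa.1 a
  have hK : CohB1.IsAmple (CohB1.tensorPow L (m ^ 2)) := AmpleX.isAmple_tensorPow hLa (by positivity)
  obtain ⟨x, hx⟩ := AVPhiApp.exists_translate_ample hK hN hinv
  refine ⟨x, (PicGrp.cl_eq_cl_iff _ _).1 ?_⟩
  rw [← (PicGrp.cl_eq_cl_iff _ _).2 hx, (PicGrp.cl_eq_cl_iff _ _).2 (S1844.result k A L hLa.1 m hm)]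
  simp only [N, PicMul.cl_tensor, PicMul.cl_tensorPow, eP]
  rw [← val_pc hLa.1, ← val_pc_id hLa.1, ← Units.val_pow_eq_pow_val, ← Units.val_pow_eq_pow_val,
    ← Units.val_pow_eq_pow_val, ← Units.val_pow_eq_pow_val, ← Units.val_mul, ← Units.val_mul]
  refine congrArg Units.val ?_
  have hc : m * (m + 1) / 2 + m * (m - 1) / 2 = m ^ 2 := by
    obtain ⟨n, rfl⟩ : ∃ n, m = n + 1 := ⟨m - 1, by omega⟩
    obtain ⟨c, hc⟩ : 2 ∣ n * (n + 1) := (Nat.even_mul_succ_self n).two_dvd
    have e1 : (n + 1) * (n + 1 + 1) = 2 * (c + n + 1) := by nlinarith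
    have e2 : (n + 1) * (n + 1 - 1) = 2 * c := by rw [Nat.add_sub_cancel, mul_comm, hc]
    rw [e1, e2, Nat.mul_div_cancel_left _ two_pos, Nat.mul_div_cancel_left _ two_pos]
    nlinarith
  rw [← hc, pow_add, div_pow, mul_comm (pc hLa.1 (𝟙 A) ^ (m * (m + 1) / 2)) (pc hLa.1 (𝟙 A) ^ (m * (m - 1) / 2)),
    ← _root_.mul_assoc, div_mul_cancel, mul_comm]

/-- Higher cohomology of an ample module vanishes. -/
theorem subsingleton_HH_of_isAmple (hLa : CohB1.IsAmple L) (j : ℕ) (hj : 0 < j) :
    Subsingleton (Coh.HH A.left L j) := by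
  haveI : IsIntegral A.left := GeometricallyIntegral.isIntegral_of_subsingleton A.hom
  haveI : IsLocallyNoetherian A.left := LocallyOfFiniteType.isLocallyNoetherian A.hom
  haveI : GeometricallyConnected A.hom := CubeAb.geometricallyConnected_of_integral A.hom
  haveI : CompactSpace A.left := QuasiCompact.compactSpace_of_compactSpace A.hom
  have hO : Coh.IsCoh (Coh.structureModule A.left) :=
    CurveDeg.isCoh_of_isInvertible (InvX.isInvertible_structureModule)
  obtain ⟨n₀, hn₀⟩ := (S0051.result k A.left A.hom L hLa.1).1 hLa _ hO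
  obtain ⟨m, hm, hn, hmk⟩ : ∃ m : ℕ, 0 < m ∧ n₀ ≤ m ∧ (m : k) ≠ 0 := by
    by_cases h : ((n₀ + 1 : ℕ) : k) = 0
    · refine ⟨n₀ + 2, by omega, by omega, ?_⟩
      rw [show n₀ + 2 = n₀ + 1 + 1 from rfl, Nat.cast_add, h, Nat.cast_one, zero_add]
      exact one_ne_zero
    · exact ⟨n₀ + 1, by omega, by omega, h⟩
  obtain ⟨h1, h2, h3⟩ := AVDegLib.zpow_props (A := A) (m : ℤ) (by exact_mod_cast hm.ne')
  rw [zpow_natCast] at h1 h2 h3
  obtain ⟨g, hg⟩ := AVTors.exists_dimNat A
  have hdeg : ∀ a, Scheme.Hom.finrank (𝟙 A ^ m : A ⟶ A).left a = m ^ (2 * g) := fun a => by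
    have := AVDegLib.finrank_zpow hg (m : ℤ) (by exact_mod_cast hm.ne') a
    simpa using this
  have hcov : FinCov.IsCover (𝟙 A ^ m : A ⟶ A).left (m ^ (2 * g)) :=
    ⟨⟨h1, h2, AVDegLib.lfp_endo _⟩, hdeg⟩
  have hunit : IsUnit (((m ^ (2 * g) : ℕ) : Γ(A.left, ⊤))) := by
    have : IsUnit ((m : k) ^ (2 * g)) := (isUnit_iff_ne_zero.2 hmk).pow _
    rw [← Nat.cast_pow] at this
    have := (this.map (Scheme.ΓSpecIso (CommRingCat.of k)).inv.hom).map A.hom.appTop.hom
    rwa [map_natCast, map_natCast] at this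
  refine AVTraceRetract.subsingleton_HH_of_cover _ hcov hunit hLa.1 j ?_
  obtain ⟨x, ⟨e⟩⟩ := exists_pow_translate hLa m hm
  refine QCoh.subsingleton_HH_of_iso e.symm _ (subsingleton_HH_translate x _ j ?_)
  have h4 := hn₀ (m ^ 2) (hn.trans (Nat.le_self_pow two_ne_zero m)) j hj
  obtain ⟨e'⟩ : Nonempty (CohB1.tensorMod (Coh.structureModule A.left) (CohB1.tensorPow L (m ^ 2)) ≅
      CohB1.tensorPow L (m ^ 2)) :=
    (PicGrp.cl_eq_cl_iff _ _).1 (by rw [PicMul.cl_tensor]; exact _root_.one_mul _)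
  exact QCoh.subsingleton_HH_of_iso e' _ h4

/-- The difference of a translate of `L` and `L` has no cohomology unless trivial. -/
theorem subsingleton_HH_diff {N : A.left.Modules} (hN : PicF.IsInvertible N) (b : pt₀ ⟶ A)
    (eN : PicF.cl N = ((pc hL (𝟙 A * (toUnit A ≫ b)) * (pc hL (𝟙 A))⁻¹ : (PicF.Cl A.left)ˣ) : PicF.Cl A.left))
    (hb : ¬ Nonempty ((Scheme.Modules.pullback (𝟙 A * (toUnit A ≫ b)).left).obj L ≅ L)) (n : ℕ) :
    Subsingleton (Coh.HH A.left N n) := by
  haveI : HasInjectiveResolutions A.left.Modules := KFlatLib.hasInjectiveResolutions_modules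
  haveI : HasInjectiveResolutions (A ⊗ A).left.Modules := KFlatLib.hasInjectiveResolutions_modules
  let u : ∀ {T : Over (Spec (CommRingCat.of k))}, (T ⟶ A) → (PicF.Cl T.left)ˣ := fun {T} g =>
    pc hL (g * (toUnit T ≫ b)) * (pc hL g)⁻¹
  have eu : ∀ {T : Over (Spec (CommRingCat.of k))} (g : T ⟶ A),
      PicF.pullCl g.left (PicF.cl N) = (u g : PicF.Cl T.left) := by
    intro T g
    rw [eN]
    show ((Units.map (PicMul.pullHom g.left : PicF.Cl A.left →* PicF.Cl T.left) _ : (PicF.Cl T.left)ˣ) :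
      PicF.Cl T.left) = _
    simp only [map_mul, map_inv, pull_pc, MonObj.comp_mul, Category.comp_id, comp_toUnit_assoc]
    rfl
  have hadd : ∀ {T : Over (Spec (CommRingCat.of k))} (f g : T ⟶ A), u (f * g) = u f * u g := by
    intro T f g
    have h1 := cube_rel hL f g (toUnit T ≫ b)
    rw [pc_const, _root_.mul_one] at h1
    exact AVPhiSurj.comb_algebra' h1
  refine AVVanish.subsingleton_HH hN ?_ ?_ n
  · rw [eu, eu, eu, show μ[A] = fst A A * snd A A by rw [Hom.mul_def, lift_fst_snd, Category.id_comp],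
      hadd, Units.val_mul]
  · intro ht
    refine hb ((PicGrp.cl_eq_cl_iff _ _).1 ?_)
    have h3 : pc hL (𝟙 A * (toUnit A ≫ b)) * (pc hL (𝟙 A))⁻¹ = 1 := Units.ext (by
      rw [← eN]; exact (PicGrp.cl_eq_cl_iff _ _).2 ht)
    rw [← val_pc hL, mul_inv_eq_one.1 h3, val_pc_id]

/-- `μ^*L ⊗ pr₁^*L⁻¹` has no cohomology if `L` has none. -/
theorem subsingleton_HH_prod (hall : ∀ i, Subsingleton (Coh.HH A.left L i)) {G : (A ⊗ A).left.Modules}
    (eG : PicF.cl G = ((pc hL (fst A A * snd A A) * (pc hL (fst A A))⁻¹ : (PicF.Cl (A ⊗ A).left)ˣ) :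
      PicF.Cl (A ⊗ A).left)) (n : ℕ) : Subsingleton (Coh.HH (A ⊗ A).left G n) := by
  haveI : Subsingleton ↥(Spec (CommRingCat.of k)) := inferInstanceAs (Subsingleton (PrimeSpectrum k))
  haveI : HasInjectiveResolutions A.left.Modules := KFlatLib.hasInjectiveResolutions_modules
  haveI : HasInjectiveResolutions (A ⊗ A).left.Modules := KFlatLib.hasInjectiveResolutions_modules
  haveI := SpObjSS.enoughInjectives_of_hasInjectiveResolutions (C := A.left.Modules)
  haveI := QCoh.preservesFiniteLimits_push A.hom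
  haveI : Flat A.hom := inferInstance
  haveI : IsLocallyNoetherian A.left := LocallyOfFiniteType.isLocallyNoetherian A.hom
  haveI : Coh.IsQCoh L := (CurveDeg.isCoh_of_isInvertible hL).1
  haveI : IsProper (snd A A).left := inferInstanceAs (IsProper (pullback.snd A.hom A.hom))
  haveI : LocallyOfFinitePresentation A.hom :=
    AlgStLib.locallyOfFinitePresentation_of_isLocallyNoetherian A.hom inferInstance
  haveI : LocallyOfFinitePresentation (snd A A).left :=
    inferInstanceAs (LocallyOfFinitePresentation (pullback.snd A.hom A.hom))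
  haveI : (Scheme.Modules.pullback A.hom).Additive :=
    haveI := (Scheme.Modules.pullbackPushforwardAdjunction A.hom).isLeftAdjoint
    Functor.additive_of_preserves_binary_products _
  have hπ0 : IsZero ((Scheme.Modules.pushforward A.hom).obj L) :=
    AVVanish.isZero_of_point ((AVVanish.subsingleton_HH_zero_iff L).1 (hall 0))
  have hπ : ∀ q, IsZero ((Coh.Rpush A.hom q).obj L) := by
    intro q
    induction q using Nat.strong_induction_on with
    | _ q ih =>
    rcases q with _ | q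
    · exact hπ0.of_iso ((Scheme.Modules.pushforward A.hom).rightDerivedZeroIsoSelf.app L)
    · exact AVVanish.isZero_of_point ((LerayLow.subsingleton_iff A.hom (AVVanish.isFlasqueMod_of_isZero hπ0) q
        fun m hm => ih (m + 1) (by omega)).1 (hall (q + 1)))
  obtain ⟨D, hD, eD⟩ := inv_pc hL (𝟙 A)
  have hE : FlatMod.IsFinLocFree D := H23.PullPush.isFinLocFree_of_isInvertible hD
  let F₂ := CohB1.tensorMod ((Scheme.Modules.pullback (snd A A).left).obj D) ((Scheme.Modules.pullback (fst A A).left).obj L)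
  have h₂ : ∀ q, IsZero ((Coh.Rpush (snd A A).left q).obj F₂) := fun q => by
    obtain ⟨a⟩ := S0033.result A.hom A.hom _ _ AVVanish.isPullback_fst L q
    obtain ⟨b⟩ := S0927.result (snd A A).left ((Scheme.Modules.pullback (fst A A).left).obj L) D hE q
    let Φ : A.left.Modules ⥤ A.left.Modules := (DCoh.tensorBi (X := A.left)).obj D
    exact (Φ.map_isZero (((Scheme.Modules.pullback A.hom).map_isZero (hπ q)).of_iso a.symm)).of_iso b.symm
  let sh : A ⊗ A ≅ A ⊗ A :=
    { hom := lift (fst A A * snd A A) (fst A A)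
      inv := lift (snd A A) ((snd A A)⁻¹ * fst A A)
      hom_inv_id := by
        apply CartesianMonoidalCategory.hom_ext
        · simp
        · rw [Category.assoc, lift_snd, MonObj.comp_mul, GrpObj.comp_inv, lift_snd, lift_fst,
            inv_mul_cancel_left, Category.id_comp]
      inv_hom_id := by
        apply CartesianMonoidalCategory.hom_ext
        · rw [Category.assoc, lift_fst, MonObj.comp_mul, lift_snd, lift_fst, mul_inv_cancel_left, Category.id_comp]
        · simp }
  let shl : (A ⊗ A).left ≅ (A ⊗ A).left := (Over.forget _).mapIso sh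
  have h := AVPhiSurj.subsingleton_HH_pullback shl F₂ n (AVPhiSurj.subsingleton_HH_of_Rpush h₂ n)
  have hc : PicF.cl ((Scheme.Modules.pullback shl.hom).obj F₂) = PicF.cl G := by
    show PicMul.pullHom sh.hom.left (PicF.cl F₂) = _
    rw [eG, PicMul.cl_tensor, show PicF.cl ((Scheme.Modules.pullback (snd A A).left).obj D) =
      PicMul.pullHom (snd A A).left (PicF.cl D) from rfl, eD, ← val_pc hL]
    show ((Units.map (PicMul.pullHom sh.hom.left : _ →* _) (Units.map (PicMul.pullHom (snd A A).left : _ →* _)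
      (pc hL (𝟙 A))⁻¹ * pc hL (fst A A)) : (PicF.Cl (A ⊗ A).left)ˣ) : PicF.Cl (A ⊗ A).left) = _
    simp only [map_mul, map_inv, pull_pc, Category.comp_id, sh, lift_fst, lift_snd]
    rw [mul_comm]
  obtain ⟨e⟩ := (PicGrp.cl_eq_cl_iff _ _).1 hc
  exact QCoh.subsingleton_HH_of_iso e _ h

include hL in
/-- A nondegenerate module has some cohomology. -/
theorem exists_nontrivial_HH
    (hfin : Set.Finite {a : pt₀ ⟶ A |
      Nonempty ((Scheme.Modules.pullback (𝟙 A * (toUnit A ≫ a)).left).obj L ≅ L)}) :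
    ∃ i, ¬ Subsingleton (Coh.HH A.left L i) := by
  by_contra hall
  push_neg at hall
  haveI : IsIntegral A.left := GeometricallyIntegral.isIntegral_of_subsingleton A.hom
  haveI : IsLocallyNoetherian A.left := LocallyOfFiniteType.isLocallyNoetherian A.hom
  haveI : JacobsonSpace A.left := LocallyOfFiniteType.jacobsonSpace A.hom
  haveI : IsProper (A ⊗ A).hom := inferInstanceAs (IsProper (pullback.fst A.hom A.hom ≫ A.hom))
  haveI : IsLocallyNoetherian (A ⊗ A).left := LocallyOfFiniteType.isLocallyNoetherian (A ⊗ A).hom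
  haveI : HasInjectiveResolutions (A ⊗ A).left.Modules := KFlatLib.hasInjectiveResolutions_modules
  haveI : IsProper (snd A A).left := inferInstanceAs (IsProper (pullback.snd A.hom A.hom))
  haveI : LocallyOfFinitePresentation A.hom :=
    AlgStLib.locallyOfFinitePresentation_of_isLocallyNoetherian A.hom inferInstance
  haveI : LocallyOfFinitePresentation (snd A A).left :=
    inferInstanceAs (LocallyOfFinitePresentation (pullback.snd A.hom A.hom))
  haveI : Flat A.hom := inferInstance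
  haveI : Flat (snd A A).left := inferInstanceAs (Flat (pullback.snd A.hom A.hom))
  obtain ⟨D, hD, eD⟩ := inv_pc hL (fst A A)
  let G := CohB1.tensorMod ((Scheme.Modules.pullback (fst A A * snd A A).left).obj L) D
  have hG : PicF.IsInvertible G := PicMul.isInvertible_tensor (PicClLib.isInvertible_pullback _ hL) hD
  have eG : PicF.cl G = ((pc hL (fst A A * snd A A) * (pc hL (fst A A))⁻¹ : (PicF.Cl (A ⊗ A).left)ˣ) :
      PicF.Cl (A ⊗ A).left) := by rw [PicMul.cl_tensor, eD, Units.val_mul, val_pc]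
  have hfp : CohB1.IsFP G := KZ.LFRes.isFP_of_isCoh (CurveDeg.isCoh_of_isInvertible hG)
  have hfl : FlatMod.IsFlatOver (snd A A).left G := H23.Seesaw.isFlatOver_of_isInvertible _ hG
  have hs : ∀ b : pt₀ ⟶ A, PicF.cl ((Scheme.Modules.pullback (lift (𝟙 A) (toUnit A ≫ b)).left).obj G) =
      ((pc hL (𝟙 A * (toUnit A ≫ b)) * (pc hL (𝟙 A))⁻¹ : (PicF.Cl A.left)ˣ) : PicF.Cl A.left) := fun b => by
    show PicF.pullCl _ (PicF.cl G) = _
    rw [eG]
    show ((Units.map (PicMul.pullHom _ : PicF.Cl (A ⊗ A).left →* PicF.Cl A.left) _ : (PicF.Cl A.left)ˣ) :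
        PicF.Cl A.left) = _
    simp only [map_mul, map_inv, pull_pc, MonObj.comp_mul, lift_fst, lift_snd]
  let KL : Set A.left := (fun a : pt₀ ⟶ A => a.left (IsLocalRing.closedPoint k)) '' {a : pt₀ ⟶ A |
      Nonempty ((Scheme.Modules.pullback (𝟙 A * (toUnit A ≫ a)).left).obj L ≅ L)}
  have hKc : ∀ z ∈ KL, IsClosed ({z} : Set A.left) := by rintro _ ⟨a, -, rfl⟩; exact AVPhiSurj.isClosed_pt a
  have hR := AVPhiSurj.isZero_Rpush hfp hfl (fun n => subsingleton_HH_prod hL hall eG n) (hfin.image _) hKc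
    fun y hy n => by
      refine AVPhiSurj.subsingleton_fiberH_of_closedPoints hfp hfl KL (Set.biUnion_of_singleton KL ▸
        (hfin.image _).isClosed_biUnion hKc) n (fun y hyc hyK => ?_) y hy
      obtain ⟨b, hby⟩ := AVPhiSurj.exists_pt hyc
      exact (AVPhiSurj.fiberH_iff _ A.hom y hyc b.left (Over.w b) hby _ _ (AVPhiSurj.isPullback_lift_snd b) G n).2
        (subsingleton_HH_diff hL (PicClLib.isInvertible_pullback _ hG) b (hs b) (fun hb => hyK ⟨b, hb, hby⟩) n)
  obtain ⟨φ⟩ : TrivBasic.Triv ((Scheme.Modules.pullback (lift (𝟙 A) (toUnit A ≫ η[A])).left).obj G) := by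
    refine (PicGrp.cl_eq_cl_iff _ _).1 ?_
    rw [hs, show (toUnit A ≫ η[A]) = 1 from Hom.one_def.symm, _root_.mul_one, mul_inv_cancel]
    rfl
  have h0 := AVPhiSurj.subsingleton_HH_fibre (f := (snd A A).left) hG hR η[A].left _ _
    (AVPhiSurj.isPullback_lift_snd η[A]) 0
  have hO : Subsingleton Γ(Coh.structureModule A.left, ⊤) :=
    (LerayLow.subsingleton_sections_congr φ).1 ((AVVanish.subsingleton_HH_zero_iff _).1 h0)
  haveI : Subsingleton Γ(A.left, ⊤) := hO
  exact one_ne_zero (Subsingleton.elim (1 : Γ(A.left, ⊤)) 0)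

end Groth.Agent.AVAmpleVan
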