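import Groth.Agent.Lib.SmoothPairing

/-!
The differentials of a smooth morphism are locally free, their top exterior powers invertible.
-/

set_option autoImplicit false
set_option linter.style.haveILetI false
set_option backward.isDefEq.respectTransparency false
set_option backward.isDefEq.respectTransparency.types false

universe u

open CategoryTheory CategoryTheory.Limits AlgebraicGeometry TopologicalSpace Opposite

namespace Groth.Agent.SmoothTop

variable {X S : Scheme.{u}} (f : X ⟶ S) [QuasiSeparated f] (n : ℕ) [SmoothOfRelativeDimension n f]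

theorem exists_locFree (x : X) : ∃ U : X.Opens, x ∈ U ∧
    FlatMod.IsFinLocFreeOfRank n ((Omega.sheaf f).restrict U.ι) := by
  obtain ⟨U, hU, V, -, -, hxU, s, hs⟩ := SmoothAdapted.exists_frame_omega f n x
  obtain ⟨i⟩ := H23.Frame.exists_iso_of_frame s hs
  exact ⟨U, hxU, fun z => ⟨⊤, trivial, ⟨(Scheme.Modules.restrictFunctor _).mapIso i ≪≫ QCoh.freeModRestrict _ n⟩⟩⟩

theorem isInvertible_top {L : X.Modules} (hL : ExtPow.IsExtPow n (Omega.sheaf f) L) : PicF.IsInvertible L :=
  InvX.isInvertible_of_frames fun x => by
    obtain ⟨U, hxU, hr⟩ := exists_locFree f n x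
    obtain ⟨W, t, hxW, ht⟩ := BigOpen.exists_frame (OmegaUniv.isQCoh_omega f) hL hr hxU
    exact ⟨W, hxW, t, ht⟩

end Groth.Agent.SmoothTop
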