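import Groth.Agent.Lib.SmoothDuality
import Groth.Agent.Lib.TopPower
import Groth.Agent.ConsPropLib.FibreLocFreeRank
import Groth.Agent.CurveCohLib.Proper
import Groth.Agent.Lib.AmpleEmbedPow
import Groth.Agent.S8121
import Groth.Agent.S1937
import Groth.Agent.S7795
import Groth.Agent.SeesawX.Glue
import Groth.Agent.TFOneX.Beta
import Groth.Agent.CurveFin.RelDim

/-!
Serre duality on abelian varieties: the canonical module is trivial.
-/

set_option autoImplicit false
set_option linter.style.haveILetI false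
set_option linter.unusedSectionVars false
set_option backward.isDefEq.respectTransparency false
set_option backward.isDefEq.respectTransparency.types false
set_option maxHeartbeats 800000
set_option synthInstance.maxHeartbeats 400000

universe u

open CategoryTheory CategoryTheory.Limits MonoidalCategory CartesianMonoidalCategory MonObj AlgebraicGeometry TopologicalSpace Opposite

noncomputable section

namespace Groth.Agent.AVDuality

open Groth.Agent Groth.Agent.H23

/-- A module with a global frame has a trivial top exterior power. -/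
theorem exists_top_triv {X : Scheme.{u}} {M : X.Modules} {m : ℕ} (hM : Coh.IsQCoh M)
    {s : Fin m → Γ(M, (⊤ : X.Opens))} (hs : H23.Frame.IsFrame M s) :
    ∃ W : X.Modules, ExtPow.IsExtPow m M W ∧ TrivBasic.Triv W := by
  have hinv : PicF.IsInvertible (TopPower.L M m) := InvX.isInvertible_of_frames fun x =>
    ⟨⊤, trivial, _, TopPower.isFrame_wedge hs⟩
  refine ⟨TopPower.L M m, AltGlue.isExtPow_of (TopPower.mu M m) (TopPower.mu_res M m) fun V hV => ?_,
    TrivBasic.triv_of_frame (TopPower.isFrame_wedge hs)⟩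
  refine AltGlue.lift_bijective (TopPower.mu M m) (TopPower.mu_res M m) hM ((QCoh.isQCoh_of_isFinLocFree fun x =>
    let ⟨U, hx, e⟩ := InvEnd.isFinLocFreeOfRank_one hinv x; ⟨U, 1, hx, e⟩)) hV Set.univ ?_ ?_
  · refine hV.self_le_iSup_basicOpen_iff.1 fun y hy => ?_
    exact Opens.mem_iSup.2 ⟨⟨1, trivial⟩, by simpa using hy⟩
  · rintro ⟨g, -⟩
    rw [TopPower.lift_eq_eta]
    exact TopPower.bijective_eta hs le_top

variable {k : Type u} [Field k] {A : Over (Spec (CommRingCat.of k))} [GrpObj A] [IsProper A.hom]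

/-- The canonical module of a proper smooth group scheme is trivial. -/
theorem exists_canonical_triv (n : ℕ) [SmoothOfRelativeDimension n A.hom] :
    ∃ W : A.left.Modules, ExtPow.IsExtPow n (Omega.sheaf A.hom) W ∧ TrivBasic.Triv W := by
  haveI : Subsingleton ↥(Spec (CommRingCat.of k)) := inferInstanceAs (Subsingleton (PrimeSpectrum k))
  obtain ⟨b⟩ := GrpOmega.nonempty_omega_iso A
  have hΩ : FlatMod.IsFinLocFreeOfRank n
      ((Scheme.Modules.pullback η[A].left).obj (Omega.sheaf A.hom)) :=
    TFOneX.isFinLocFreeOfRank_pullback η[A].left (ConsPropLib.isFinLocFreeOfRank_of_cover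
      (J := A.left) (fun x => (SmoothTop.exists_locFree A.hom n x).choose.ι)
      (fun x => ⟨x, ⟨x, (SmoothTop.exists_locFree A.hom n x).choose_spec.1⟩, rfl⟩)
      fun x => (SmoothTop.exists_locFree A.hom n x).choose_spec.2)
  haveI : Subsingleton ↥(𝟙_ (Over (Spec (CommRingCat.of k)))).left := inferInstanceAs (Subsingleton (PrimeSpectrum k))
  obtain ⟨U, hU, ⟨e⟩⟩ := hΩ (IsLocalRing.closedPoint k)
  obtain rfl : U = ⊤ := top_le_iff.1 fun z _ => (Subsingleton.elim _ z) ▸ hU
  haveI : IsIso (⊤ : (Spec (CommRingCat.of k)).Opens).ι :=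
    inferInstanceAs (IsIso (Spec (CommRingCat.of k)).topIso.hom)
  let t := (⊤ : (Spec (CommRingCat.of k)).Opens).ι
  let M := (Scheme.Modules.pullback η[A].left).obj (Omega.sheaf A.hom)
  let e₁ : M ≅ FlatMod.freeMod (Spec (CommRingCat.of k)) n :=
    ((Scheme.Modules.pullbackId _).app M).symm ≪≫ (Scheme.Modules.pullbackCongr (IsIso.inv_hom_id t).symm).app M ≪≫
    ((Scheme.Modules.pullbackComp (inv t) t).app M).symm ≪≫
    (Scheme.Modules.pullback (inv t)).mapIso (((Scheme.Modules.restrictFunctorIsoPullback t).app M).symm ≪≫ e) ≪≫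
    SeesawX.freePullIso _ n
  let e₂ : Omega.sheaf A.hom ≅ FlatMod.freeMod A.left n :=
    b.symm ≪≫ (Scheme.Modules.pullback A.hom).mapIso e₁ ≪≫ SeesawX.freePullIso _ n
  obtain ⟨s, hs⟩ := H23.Frame.exists_frame (U := (⊤ : A.left.Opens))
    ((Scheme.Modules.restrictFunctor _).mapIso e₂ ≪≫ QCoh.freeModRestrict _ n)
  exact exists_top_triv (OmegaUniv.isQCoh_omega A.hom) hs

open scoped Groth.Agent.H23.PicMul in
/-- Serre duality for invertible modules on an abelian variety. -/
theorem finrank_dual [GeometricallyIntegral A.hom] (n : ℕ) [SmoothOfRelativeDimension n A.hom]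
    [A.left.Over (Spec (CommRingCat.of k))] (hA : A.left ↘ Spec (CommRingCat.of k) = A.hom)
    {L L' : A.left.Modules} (hL : PicF.IsInvertible L) (h : PicF.cl L * PicF.cl L' = 1) (p : ℕ) (hp : p ≤ n) :
    Module.finrank k (Coh.HH A.left L' (n - p)) = Module.finrank k (Coh.HH A.left L p) := by
  haveI : IsIntegral A.left := GeometricallyIntegral.isIntegral_of_subsingleton A.hom
  haveI : IsProper (A.left ↘ Spec (CommRingCat.of k)) := by rw [hA]; infer_instance
  haveI : SmoothOfRelativeDimension n (A.left ↘ Spec (CommRingCat.of k)) := by rw [hA]; infer_instance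
  obtain ⟨W, hW, hWt⟩ := exists_canonical_triv (A := A) n
  obtain ⟨L₀, hL₀, -⟩ := S8121.result k A
  obtain ⟨r, j, -, -, hι, hιs, -⟩ := AmpleEmbedPow.exists_closedImmersion A.hom hL₀
  haveI := hι
  rw [← SmoothDuality.finrank_dual j (hιs.trans hA.symm) (W := W) (by rw [hA]; exact hW) hL h p hp]
  obtain ⟨φ⟩ := hWt
  have hc : PicF.cl (CohB1.tensorMod L' W) = PicF.cl L' := by
    rw [PicMul.cl_tensor, PicMul.cl_eq_iff.2 ⟨φ⟩, PicMul.one_def.symm, _root_.mul_one]
  obtain ⟨m⟩ := PicMul.cl_eq_iff.1 hc
  exact ((CurveCohLib.hhEquiv (k := k) m (n - p)).finrank_eq).symm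

open scoped Groth.Agent.H23.PicMul in
/-- Vanishing transfers to the inverse in complementary degree. -/
theorem subsingleton_HH_dual [GeometricallyIntegral A.hom] (n : ℕ) [SmoothOfRelativeDimension n A.hom]
    {L L' : A.left.Modules} (hL : PicF.IsInvertible L) (hL' : PicF.IsInvertible L')
    (h : PicF.cl L * PicF.cl L' = 1) (p : ℕ) (hp : p ≤ n) :
    Subsingleton (Coh.HH A.left L' (n - p)) ↔ Subsingleton (Coh.HH A.left L p) := by
  haveI : IsLocallyNoetherian A.left := LocallyOfFiniteType.isLocallyNoetherian A.hom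
  letI : A.left.Over (Spec (CommRingCat.of k)) := ⟨A.hom⟩
  haveI : IsProper (A.left ↘ Spec (CommRingCat.of k)) := inferInstanceAs (IsProper A.hom)
  haveI := CurveCohLib.finite_HH (k := k) (CurveDeg.isCoh_of_isInvertible hL') (n - p)
  haveI := CurveCohLib.finite_HH (k := k) (CurveDeg.isCoh_of_isInvertible hL) p
  rw [← Module.finrank_zero_iff (R := k), ← Module.finrank_zero_iff (R := k), finrank_dual n rfl hL h p hp]

end Groth.Agent.AVDuality
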