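import Groth.Agent.Lib.LerayCorner
import Groth.Agent.Lib.AVAmpleVan
import Groth.Agent.Lib.AVDuality
import Groth.Agent.Snapper.DimVanish

/-!
The index theorem for non-degenerate invertible modules on abelian varieties.
-/

set_option autoImplicit false
set_option linter.style.haveILetI false
set_option linter.unusedSectionVars false
set_option backward.isDefEq.respectTransparency false
set_option backward.isDefEq.respectTransparency.types false
set_option maxHeartbeats 1000000
set_option synthInstance.maxHeartbeats 400000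

universe u

open CategoryTheory CategoryTheory.Limits MonoidalCategory CartesianMonoidalCategory MonObj AlgebraicGeometry TopologicalSpace Opposite

noncomputable section

namespace Groth.Agent.AVIndex

open Groth.Agent Groth.Agent.QCoh

section General

variable {X Y : Scheme.{u}}

/-- A module supported on finitely many closed points is flasque. -/
theorem isFlasqueMod_of_finite_support {N : Y.Modules} {K : Set Y} (hKf : K.Finite)
    (hKc : ∀ z ∈ K, IsClosed ({z} : Set Y))
    (h : ∀ x ∉ K, ∃ W : Y.Opens, x ∈ W ∧ IsZero (N.restrict W.ι)) : IsFlasqueMod N where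
  epi {U V} i := by
    refine (AddCommGrpCat.epi_iff_surjective _).2 fun s => ?_
    have hle : V.unop ≤ U.unop := i.unop.le
    have hcl : IsClosed (K ∩ (V.unop : Set Y)) := by
      rw [← Set.biUnion_of_singleton (K ∩ (V.unop : Set Y))]
      exact (hKf.inter_of_left _).isClosed_biUnion fun z hz => hKc z hz.1
    let W : Y.Opens := U.unop ⊓ ⟨(K ∩ (V.unop : Set Y))ᶜ, hcl.isOpen_compl⟩
    have htop : U.unop = V.unop ⊔ W := le_antisymm (fun z hz => by
      by_cases hzV : z ∈ V.unop
      · exact Or.inl hzV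
      · exact Or.inr ⟨hz, fun hc => hzV hc.2⟩) (sup_le hle inf_le_left)
    haveI : Subsingleton Γ(N, V.unop ⊓ W) := H28.PnFlat.subsingleton_of_isZero_restrict
      (CohBCX.isZero_restrict_of_local _ fun x hx => h x fun hK => hx.2.2 ⟨hK, hx.1⟩)
    obtain ⟨c, hc, -⟩ := exists_glue_sup (G := N) htop hle (inf_le_left : W ≤ U.unop) s 0 (Subsingleton.elim _ _)
    exact ⟨c, hc⟩

variable (f : X ⟶ Y) [HasInjectiveResolutions X.Modules] {M : X.Modules}

/-- With flasque direct images the Leray spectral sequence degenerates. -/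
theorem subsingleton_HH_of_flasque_Rpush (hfl : ∀ n, IsFlasqueMod ((Coh.Rpush f n).obj M)) (n : ℕ)
    (hz : IsZero ((Coh.Rpush f n).obj M)) : Subsingleton (Coh.HH X M n) := by
  have hj : ∀ n j, Subsingleton (Coh.HH Y ((Coh.Rpush f n).obj M) (j + 1)) := fun n j =>
    LerayCorner.subsingleton_HH_of_isFlasqueMod (hfl n) j
  have hZ : ∀ m j, Subsingleton (Coh.HH Y (LerayCorner.Z f M m) (j + 1)) := by
    intro m
    induction m with
    | zero =>
      intro j
      obtain ⟨e⟩ := LerayCorner.nonempty_Z_zero f M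
      exact subsingleton_HH_of_iso e.symm _ (hj 0 j)
    | succ m ih =>
      intro j
      exact subsingleton_HH_X₂ (LerayCorner.shortExact_two f M m) (j + 1)
        (LerayCorner.subsingleton_HH_X₃ (LerayCorner.shortExact_one f M m) (j + 1)
          (LerayCorner.subsingleton_HH_God_push f M m j) (ih (j + 1)))
        (LerayCorner.subsingleton_HH_cokernel_incl f (hj (m + 1) j))
  rcases n with _ | n
  · obtain ⟨e⟩ := LerayCorner.nonempty_Z_zero f M
    have h0 := AVVanish.subsingleton_sections_of_isZero (hz.of_iso e)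
    exact (AVVanish.subsingleton_HH_zero_iff M).2 h0
  refine (LerayLow.subsingleton_iff_surjective M n).2 fun z => ?_
  obtain ⟨r⟩ := LerayCorner.nonempty_cokernel_incl f M n
  haveI := LerayCorner.mono_incl f M n
  haveI : Epi (LerayCorner.incl f M n) := Preadditive.epi_of_cokernel_zero ((hz.of_iso r).eq_of_tgt _ _)
  haveI : IsIso (LerayCorner.incl f M n) := isIso_of_mono_of_epi _
  obtain ⟨a, ha⟩ := app_top_surjective_of_HH_one (LerayCorner.shortExact_one f M n) (hZ n 0)
    ((inv (LerayCorner.incl f M n)).app ⊤ z)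
  refine ⟨a, ?_⟩
  have h1 := congr($(congrArg (fun φ => Scheme.Modules.Hom.app φ ⊤)
    (cokernel.π_desc ((Scheme.Modules.pushforward f).map (toGod (godQ M n)))
      ((Scheme.Modules.pushforward f).map (godπ M n)) (LerayCorner.comp_eq_zero f M n))) a)
  refine h1.symm.trans ?_
  refine (congrArg ((LerayCorner.incl f M n).app ⊤) ha).trans ?_
  exact congr($(congrArg (fun φ => Scheme.Modules.Hom.app φ ⊤)
    (IsIso.inv_hom_id (LerayCorner.incl f M n))) z)

/-- Cohomology as a functor of the module. -/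
def HHfun (X : Scheme.{u}) (j : ℕ) : X.Modules ⥤ AddCommGrpCat.{u} :=
  toAbFunctor X ⋙ Sheaf.functorH.{u, u, u, u} (Opens.grothendieckTopology X) j

instance (X : Scheme.{u}) (j : ℕ) : (HHfun X j).Additive := by unfold HHfun; infer_instance

end General

section AV

open Groth.Agent.H23 Groth.Agent.AVCube
open scoped Groth.Agent.H23.PicMul

variable {k : Type u} [Field k] [IsAlgClosed k] {A : Over (Spec (CommRingCat.of k))} [GrpObj A] [IsProper A.hom]
  [GeometricallyIntegral A.hom] (g : ℕ) [SmoothOfRelativeDimension g A.hom]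


variable (hd : topologicalKrullDim ↥A.left = g) {L : A.left.Modules} (hL : PicF.IsInvertible L)
  (hfin : Set.Finite {a : (𝟙_ (Over (Spec (CommRingCat.of k)))) ⟶ A |
    Nonempty ((Scheme.Modules.pullback (𝟙 A * (toUnit A ≫ a)).left).obj L ≅ L)})

include hd in
theorem subsingleton_HH_gt {M : A.left.Modules} (hM : PicF.IsInvertible M) (j : ℕ) (hj : g < j) :
    Subsingleton (Coh.HH A.left M j) := by
  haveI : IsLocallyNoetherian A.left := LocallyOfFiniteType.isLocallyNoetherian A.hom
  haveI : CompactSpace A.left := QuasiCompact.compactSpace_of_compactSpace A.hom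
  haveI : AlgebraicGeometry.IsNoetherian A.left := {}
  haveI : A.left.IsSeparated := ⟨by rw [← Limits.terminal.comp_from A.hom]; infer_instance⟩
  exact Snapper.subsingleton_HH_of_dim_le (d := g) (by rw [hd]) (CurveDeg.isCoh_of_isInvertible hM).1 hj

include hd hL hfin in
/-- `μ^*L ⊗ pr₁^*L⁻¹` has no cohomology above the dimension. -/
theorem subsingleton_HH_prod_gt {G : (A ⊗ A).left.Modules} (hG : PicF.IsInvertible G)
    (eG : PicF.cl G = ((pc hL (fst A A * snd A A) * (pc hL (fst A A))⁻¹ : (PicF.Cl (A ⊗ A).left)ˣ) :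
      PicF.Cl (A ⊗ A).left)) (n : ℕ) (hn : g < n) : Subsingleton (Coh.HH (A ⊗ A).left G n) := by
  haveI : IsIntegral A.left := GeometricallyIntegral.isIntegral_of_subsingleton A.hom
  haveI : IsLocallyNoetherian A.left := LocallyOfFiniteType.isLocallyNoetherian A.hom
  haveI : JacobsonSpace A.left := LocallyOfFiniteType.jacobsonSpace A.hom
  haveI : IsProper (A ⊗ A).hom := inferInstanceAs (IsProper (pullback.fst A.hom A.hom ≫ A.hom))
  haveI : IsLocallyNoetherian (A ⊗ A).left := LocallyOfFiniteType.isLocallyNoetherian (A ⊗ A).hom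
  haveI : HasInjectiveResolutions (A ⊗ A).left.Modules := KFlatLib.hasInjectiveResolutions_modules
  haveI : IsProper (snd A A).left := inferInstanceAs (IsProper (pullback.snd A.hom A.hom))
  haveI : LocallyOfFinitePresentation A.hom :=
    AlgStLib.locallyOfFinitePresentation_of_isLocallyNoetherian A.hom inferInstance
  haveI : LocallyOfFinitePresentation (snd A A).left :=
    inferInstanceAs (LocallyOfFinitePresentation (pullback.snd A.hom A.hom))
  haveI : Flat A.hom := inferInstance
  haveI : Flat (snd A A).left := inferInstanceAs (Flat (pullback.snd A.hom A.hom))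
  have hfp : CohB1.IsFP G := KZ.LFRes.isFP_of_isCoh (CurveDeg.isCoh_of_isInvertible hG)
  have hfl : FlatMod.IsFlatOver (snd A A).left G := H23.Seesaw.isFlatOver_of_isInvertible _ hG
  haveI : Coh.IsQCoh G := QCoh.isQCoh_of_isFP hfp
  have hs : ∀ b : (𝟙_ (Over (Spec (CommRingCat.of k)))) ⟶ A, PicF.cl ((Scheme.Modules.pullback (lift (𝟙 A) (toUnit A ≫ b)).left).obj G) =
      ((pc hL (𝟙 A * (toUnit A ≫ b)) * (pc hL (𝟙 A))⁻¹ : (PicF.Cl A.left)ˣ) : PicF.Cl A.left) := fun b => by
    show PicF.pullCl _ (PicF.cl G) = _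
    rw [eG]
    show ((Units.map (PicMul.pullHom _ : PicF.Cl (A ⊗ A).left →* PicF.Cl A.left) _ : (PicF.Cl A.left)ˣ) :
        PicF.Cl A.left) = _
    simp only [map_mul, map_inv, pull_pc, MonObj.comp_mul, lift_fst, lift_snd]
  let KL : Set A.left := (fun a : (𝟙_ (Over (Spec (CommRingCat.of k)))) ⟶ A => a.left (IsLocalRing.closedPoint k)) '' {a : (𝟙_ (Over (Spec (CommRingCat.of k)))) ⟶ A |
      Nonempty ((Scheme.Modules.pullback (𝟙 A * (toUnit A ≫ a)).left).obj L ≅ L)}
  have hKc : ∀ z ∈ KL, IsClosed ({z} : Set A.left) := by rintro _ ⟨a, -, rfl⟩; exact AVPhiSurj.isClosed_pt a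
  have hfib : ∀ y ∉ KL, ∀ m, Subsingleton (CohIII.fiberH (snd A A).left G y m) := fun y hy m => by
    refine AVPhiSurj.subsingleton_fiberH_of_closedPoints hfp hfl KL (Set.biUnion_of_singleton KL ▸
      (hfin.image _).isClosed_biUnion hKc) m (fun y hyc hyK => ?_) y hy
    obtain ⟨b, hby⟩ := AVPhiSurj.exists_pt hyc
    exact (AVPhiSurj.fiberH_iff _ A.hom y hyc b.left (Over.w b) hby _ _ (AVPhiSurj.isPullback_lift_snd b) G m).2
      (AVAmpleVan.subsingleton_HH_diff hL (PicClLib.isInvertible_pullback _ hG) b (hs b)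
        (fun hb => hyK ⟨b, hb, hby⟩) m)
  have hfl' : ∀ m, IsFlasqueMod ((Coh.Rpush (snd A A).left m).obj G) := fun m =>
    isFlasqueMod_of_finite_support (hfin.image _) hKc fun x hx => by
      obtain ⟨W, hxW, -, -, hW⟩ := CohPullX.exists_vanish_nhd hfp hfl x m (hfib x hx m)
      exact ⟨W, hxW, hW⟩
  refine subsingleton_HH_of_flasque_Rpush _ hfl' n (S15985.result _ G hfp hfl n fun y => ?_)
  refine AVPhiSurj.subsingleton_fiberH_of_closedPoints hfp hfl ∅ isClosed_empty n (fun y hy _ => ?_) y
    (Set.notMem_empty y)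
  obtain ⟨b, hby⟩ := AVPhiSurj.exists_pt hy
  exact (AVPhiSurj.fiberH_iff _ A.hom y hy b.left (Over.w b) hby _ _ (AVPhiSurj.isPullback_lift_snd b) G n).2
    (subsingleton_HH_gt g hd (PicClLib.isInvertible_pullback _ hG) n hn)

include hd hL hfin in
/-- `pr₂^*L⁻¹ ⊗ pr₁^*L` has cohomology in degree `g` only. -/
theorem subsingleton_HH_box {D : A.left.Modules} (hD : PicF.IsInvertible D)
    (eD : PicF.cl D = (((pc hL (𝟙 A))⁻¹ : (PicF.Cl A.left)ˣ) : PicF.Cl A.left)) (n : ℕ) (hn : n ≠ g) :
    Subsingleton (Coh.HH (A ⊗ A).left (CohB1.tensorMod ((Scheme.Modules.pullback (snd A A).left).obj D)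
      ((Scheme.Modules.pullback (fst A A).left).obj L)) n) := by
  obtain ⟨Q, hQ, eQ⟩ := inv_pc hL (fst A A)
  let G := CohB1.tensorMod ((Scheme.Modules.pullback (fst A A * snd A A).left).obj L) Q
  have hG : PicF.IsInvertible G := PicMul.isInvertible_tensor (PicClLib.isInvertible_pullback _ hL) hQ
  have eG : PicF.cl G = ((pc hL (fst A A * snd A A) * (pc hL (fst A A))⁻¹ : (PicF.Cl (A ⊗ A).left)ˣ) :
      PicF.Cl (A ⊗ A).left) := by rw [PicMul.cl_tensor, eQ, Units.val_mul, val_pc]
  have hGn : Subsingleton (Coh.HH (A ⊗ A).left G n) := by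
    rcases lt_or_gt_of_ne hn with hlt | hgt
    swap
    · exact subsingleton_HH_prod_gt g hd hL hfin hG eG n hgt
    have hpcD : ∀ {T : Over (Spec (CommRingCat.of k))} (φ : T ⟶ A), pc hD φ = (pc hL φ)⁻¹ := fun {T} φ => by
      refine Units.ext ?_
      rw [val_pc' hD, eD]
      show ((Units.map (PicMul.pullHom φ.left : PicF.Cl A.left →* PicF.Cl T.left) _ : (PicF.Cl T.left)ˣ) :
        PicF.Cl T.left) = _
      rw [map_inv, pull_pc, Category.comp_id]
    have hfinD : Set.Finite {a : (𝟙_ (Over (Spec (CommRingCat.of k)))) ⟶ A |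
        Nonempty ((Scheme.Modules.pullback (𝟙 A * (toUnit A ≫ a)).left).obj D ≅ D)} := by
      refine hfin.subset fun a ha => (PicGrp.cl_eq_cl_iff _ _).1 ?_
      have h1 : pc hD (𝟙 A * (toUnit A ≫ a)) = pc hD (𝟙 A) := Units.ext (by
        rw [val_pc, val_pc_id]; exact (PicGrp.cl_eq_cl_iff _ _).2 ha)
      rw [hpcD, hpcD, inv_inj] at h1
      rw [← val_pc hL, h1, val_pc_id]
    obtain ⟨Q', hQ', eQ'⟩ := inv_pc hD (fst A A)
    let G' := CohB1.tensorMod ((Scheme.Modules.pullback (fst A A * snd A A).left).obj D) Q'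
    have hG' : PicF.IsInvertible G' := PicMul.isInvertible_tensor (PicClLib.isInvertible_pullback _ hD) hQ'
    have eG' : PicF.cl G' = ((pc hD (fst A A * snd A A) * (pc hD (fst A A))⁻¹ : (PicF.Cl (A ⊗ A).left)ˣ) :
        PicF.Cl (A ⊗ A).left) := by rw [PicMul.cl_tensor, eQ', Units.val_mul, val_pc]
    have hc : PicF.cl G * PicF.cl G' = 1 := by
      rw [eG, eG', ← Units.val_mul, hpcD, hpcD, inv_inv]
      rw [show pc hL (fst A A * snd A A) * (pc hL (fst A A))⁻¹ *
        ((pc hL (fst A A * snd A A))⁻¹ * pc hL (fst A A)) = 1 by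
          rw [_root_.mul_mul_mul_comm, mul_inv_cancel, inv_mul_cancel, _root_.one_mul]]
      rfl
    haveI : IsProper (A ⊗ A).hom := inferInstanceAs (IsProper (pullback.fst A.hom A.hom ≫ A.hom))
    haveI : GeometricallyIntegral (A ⊗ A).hom := MaxAbelian.geometricallyIntegral_tensor A A
    haveI := smoothOfRelativeDimension_isStableUnderBaseChange.{u} g
    haveI : SmoothOfRelativeDimension g (pullback.fst A.hom A.hom) :=
      MorphismProperty.pullback_fst (P := @SmoothOfRelativeDimension g) A.hom A.hom inferInstance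
    haveI : SmoothOfRelativeDimension (g + g) (A ⊗ A).hom :=
      inferInstanceAs (SmoothOfRelativeDimension (g + g) (pullback.fst A.hom A.hom ≫ A.hom))
    refine (AVDuality.subsingleton_HH_dual (A := A ⊗ A) (g + g) hG hG' hc n (by omega)).1 ?_
    exact subsingleton_HH_prod_gt g hd hD hfinD hG' eG' _ (by omega)
  let sh : A ⊗ A ≅ A ⊗ A :=
    { hom := lift (fst A A * snd A A) (fst A A)
      inv := lift (snd A A) ((snd A A)⁻¹ * fst A A)
      hom_inv_id := by
        apply CartesianMonoidalCategory.hom_ext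
        · simp
        · rw [Category.assoc, lift_snd, MonObj.comp_mul, GrpObj.comp_inv, lift_snd, lift_fst,
            inv_mul_cancel_left, Category.id_comp]
      inv_hom_id := by
        apply CartesianMonoidalCategory.hom_ext
        · rw [Category.assoc, lift_fst, MonObj.comp_mul, lift_snd, lift_fst, mul_inv_cancel_left, Category.id_comp]
        · simp }
  haveI : IsCommMonObj A := isCommMonObj_of_isProper_of_geometricallyIntegral A
  let shl : (A ⊗ A).left ≅ (A ⊗ A).left := (Over.forget _).mapIso sh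
  have h := AVPhiSurj.subsingleton_HH_pullback shl.symm G n hGn
  refine QCoh.subsingleton_HH_of_iso ((PicGrp.cl_eq_cl_iff _ _).1 ?_).some _ h
  show PicMul.pullHom sh.inv.left (PicF.cl G) = _
  rw [eG, PicMul.cl_tensor, show PicF.cl ((Scheme.Modules.pullback (snd A A).left).obj D) =
    PicMul.pullHom (snd A A).left (PicF.cl D) from rfl, eD, ← val_pc hL]
  show ((Units.map (PicMul.pullHom sh.inv.left : _ →* _) _ : (PicF.Cl (A ⊗ A).left)ˣ) :
    PicF.Cl (A ⊗ A).left) = ((Units.map (PicMul.pullHom (snd A A).left : _ →* _)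
      (pc hL (𝟙 A))⁻¹ * pc hL (fst A A) : (PicF.Cl (A ⊗ A).left)ˣ) : PicF.Cl (A ⊗ A).left)
  simp only [map_mul, map_inv, pull_pc, Category.comp_id, MonObj.comp_mul, sh, lift_fst, lift_snd,
    mul_inv_cancel_left]
  rw [mul_comm]

/-- The higher direct images to the point are free, detecting the cohomology. -/
theorem exists_Rpush_free {M : A.left.Modules} (hM : PicF.IsInvertible M)
    [HasInjectiveResolutions A.left.Modules] (p : ℕ) :
    ∃ h : ℕ, Nonempty ((Coh.Rpush A.hom p).obj M ≅ FlatMod.freeMod (Spec (CommRingCat.of k)) h) ∧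
      (h = 0 ↔ Subsingleton (Coh.HH A.left M p)) := by
  haveI : Subsingleton ↥(Spec (CommRingCat.of k)) := inferInstanceAs (Subsingleton (PrimeSpectrum k))
  haveI : IsLocallyNoetherian A.left := LocallyOfFiniteType.isLocallyNoetherian A.hom
  obtain ⟨hfree, -⟩ := S2391.result A.hom M (CurveDeg.isCoh_of_isInvertible hM)
    (H23.Seesaw.isFlatOver_of_isInvertible A.hom hM) p (IsLocallyConstant.of_discrete _)
  obtain ⟨h, ⟨ε⟩⟩ := SeesawX.exists_free_iso_of_field hfree
  obtain ⟨e⟩ := QCoh.nonempty_sections_HH (f := A.hom) (M := M) (CurveDeg.isCoh_of_isInvertible hM).1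
    (isAffineOpen_top (Spec (CommRingCat.of k))) p
  have hR : Subsingleton Γ((Coh.Rpush A.hom p).obj M, ⊤) ↔ Subsingleton (Coh.HH A.left M p) := by
    let j : ((A.hom ⁻¹ᵁ ⊤ : A.left.Opens) : Scheme.{u}) ≅ A.left := A.left.topIso
    refine e.toEquiv.subsingleton_congr.trans ⟨fun h => ?_, fun h => ?_⟩
    · have h1 := QCoh.subsingleton_HH_of_iso
        ((Scheme.Modules.restrictFunctorIsoPullback (A.hom ⁻¹ᵁ ⊤ : A.left.Opens).ι).app M) _ h
      exact QCoh.subsingleton_HH_of_iso ((Scheme.Modules.pullbackComp j.inv j.hom).app M ≪≫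
        (Scheme.Modules.pullbackCongr j.inv_hom_id).app M ≪≫ (Scheme.Modules.pullbackId A.left).app M) _
        (AVPhiSurj.subsingleton_HH_pullback j.symm _ p h1)
    · exact QCoh.subsingleton_HH_of_iso
        ((Scheme.Modules.restrictFunctorIsoPullback (A.hom ⁻¹ᵁ ⊤ : A.left.Opens).ι).app M).symm _
        (AVPhiSurj.subsingleton_HH_pullback j M p h)
  refine ⟨h, ⟨ε⟩, ⟨?_, fun hs => ?_⟩⟩
  · rintro rfl
    refine hR.1 ((LerayLow.subsingleton_sections_congr ε).2
      (AVVanish.subsingleton_sections_of_isZero ((IsZero.iff_id_eq_zero _).2 ?_)))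
    rw [← H23.Frame.total, Finset.univ_eq_empty, Finset.sum_empty]
  · by_contra hne
    have hz : IsZero (FlatMod.freeMod (Spec (CommRingCat.of k)) h) :=
      AVVanish.isZero_of_point ((LerayLow.subsingleton_sections_congr ε).1 (hR.2 hs))
    have h0 : (𝟙 (Coh.structureModule (Spec (CommRingCat.of k)))) = 0 := by
      have h1 := H23.Frame.incl_proj (Spec (CommRingCat.of k)) h ⟨0, Nat.pos_of_ne_zero hne⟩ ⟨0, Nat.pos_of_ne_zero hne⟩
      rw [if_pos rfl] at h1
      rw [← h1, hz.eq_of_tgt (H23.Frame.incl _ _ _) 0, zero_comp]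
    have h2 := congr($(congrArg (fun φ => Scheme.Modules.Hom.app φ ⊤) h0) (1 : Γ(Spec (CommRingCat.of k), ⊤)))
    exact one_ne_zero (α := Γ(Spec (CommRingCat.of k), ⊤)) h2

include hd hL hfin in
/-- The cohomology of a non-degenerate module is concentrated in one degree. -/
theorem exists_index : ∃ i, i ≤ g ∧ (∀ j, j ≠ i → Subsingleton (Coh.HH A.left L j)) ∧
    Nontrivial (Coh.HH A.left L i) := by
  classical
  haveI : HasInjectiveResolutions A.left.Modules := KFlatLib.hasInjectiveResolutions_modules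
  haveI : HasInjectiveResolutions (A ⊗ A).left.Modules := KFlatLib.hasInjectiveResolutions_modules
  haveI : IsLocallyNoetherian A.left := LocallyOfFiniteType.isLocallyNoetherian A.hom
  haveI : Coh.IsQCoh L := (CurveDeg.isCoh_of_isInvertible hL).1
  haveI : LocallyOfFinitePresentation A.hom :=
    AlgStLib.locallyOfFinitePresentation_of_isLocallyNoetherian A.hom inferInstance
  haveI : Flat A.hom := inferInstance
  haveI : (Scheme.Modules.pullback A.hom).Additive :=
    haveI := (Scheme.Modules.pullbackPushforwardAdjunction A.hom).isLeftAdjoint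
    Functor.additive_of_preserves_binary_products _
  obtain ⟨D, hD, eD⟩ := inv_pc hL (𝟙 A)
  have hE : FlatMod.IsFinLocFree D := H23.PullPush.isFinLocFree_of_isInvertible hD
  obtain ⟨p, hp⟩ := AVAmpleVan.exists_nontrivial_HH hL hfin
  let SL := (Finset.range (g + 1)).filter fun i => ¬ Subsingleton (Coh.HH A.left L i)
  have hmemL : ∀ i, i ∈ SL ↔ ¬ Subsingleton (Coh.HH A.left L i) := fun i => by
    simp only [SL, Finset.mem_filter, Finset.mem_range]
    exact ⟨fun h => h.2, fun h => ⟨by
      by_contra hlt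
      exact h (subsingleton_HH_gt g hd hL i (by omega)), h⟩⟩
  have hfinD : Set.Finite {a : (𝟙_ (Over (Spec (CommRingCat.of k)))) ⟶ A |
      Nonempty ((Scheme.Modules.pullback (𝟙 A * (toUnit A ≫ a)).left).obj D ≅ D)} := by
    have hpcD : ∀ {T : Over (Spec (CommRingCat.of k))} (φ : T ⟶ A), pc hD φ = (pc hL φ)⁻¹ := fun {T} φ => by
      refine Units.ext ?_
      rw [val_pc' hD, eD]
      show ((Units.map (PicMul.pullHom φ.left : PicF.Cl A.left →* PicF.Cl T.left) _ : (PicF.Cl T.left)ˣ) :
        PicF.Cl T.left) = _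
      rw [map_inv, pull_pc, Category.comp_id]
    refine hfin.subset fun a ha => (PicGrp.cl_eq_cl_iff _ _).1 ?_
    have h1 : pc hD (𝟙 A * (toUnit A ≫ a)) = pc hD (𝟙 A) := Units.ext (by
      rw [val_pc, val_pc_id]; exact (PicGrp.cl_eq_cl_iff _ _).2 ha)
    rw [hpcD, hpcD, inv_inj] at h1
    rw [← val_pc hL, h1, val_pc_id]
  obtain ⟨q, hq⟩ := AVAmpleVan.exists_nontrivial_HH hD hfinD
  let SD := (Finset.range (g + 1)).filter fun i => ¬ Subsingleton (Coh.HH A.left D i)
  have hmemD : ∀ i, i ∈ SD ↔ ¬ Subsingleton (Coh.HH A.left D i) := fun i => by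
    simp only [SD, Finset.mem_filter, Finset.mem_range]
    exact ⟨fun h => h.2, fun h => ⟨by
      by_contra hlt
      exact h (subsingleton_HH_gt g hd hD i (by omega)), h⟩⟩
  have hnL : SL.Nonempty := ⟨p, (hmemL p).2 hp⟩
  have hnD : SD.Nonempty := ⟨q, (hmemD q).2 hq⟩
  let F := CohB1.tensorMod ((Scheme.Modules.pullback (snd A A).left).obj D)
    ((Scheme.Modules.pullback (fst A A).left).obj L)
  haveI : (((DCoh.tensorBi (X := A.left)).obj D)).Additive := inferInstance
  let Φ : (Spec (CommRingCat.of k)).Modules ⥤ A.left.Modules :=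
    Scheme.Modules.pullback A.hom ⋙ (DCoh.tensorBi (X := A.left)).obj D
  have hR : ∀ n, Nonempty (Φ.obj ((Coh.Rpush A.hom n).obj L) ≅ (Coh.Rpush (snd A A).left n).obj F) := fun n => by
    obtain ⟨a⟩ := S0033.result A.hom A.hom _ _ AVVanish.isPullback_fst L n
    obtain ⟨b⟩ := S0927.result (snd A A).left ((Scheme.Modules.pullback (fst A A).left).obj L) D hE n
    exact ⟨((DCoh.tensorBi (X := A.left)).obj D).mapIso a ≪≫ b⟩
  have hO : Nonempty (Φ.obj (Coh.structureModule (Spec (CommRingCat.of k))) ≅ D) := by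
    refine (PicGrp.cl_eq_cl_iff _ _).1 ?_
    show PicF.cl (CohB1.tensorMod D _) = _
    rw [PicMul.cl_tensor, show PicF.cl ((Scheme.Modules.pullback A.hom).obj
      (Coh.structureModule (Spec (CommRingCat.of k)))) = 1 from
      (PicGrp.cl_eq_cl_iff _ _).2 (PicClLib.nonempty_pullback_structureModule A.hom), _root_.mul_one]
  obtain ⟨eO⟩ := hO
  have hzero : ∀ n, Subsingleton (Coh.HH A.left L n) → IsZero ((Coh.Rpush (snd A A).left n).obj F) := fun n hs => by
    obtain ⟨h, ⟨ε⟩, hh⟩ := exists_Rpush_free (A := A) hL n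
    obtain rfl := hh.2 hs
    refine (Φ.map_isZero (((IsZero.iff_id_eq_zero _).2 ?_).of_iso ε)).of_iso (hR n).some.symm
    rw [← H23.Frame.total, Finset.univ_eq_empty, Finset.sum_empty]
  have hsub : ∀ n j, Subsingleton (Coh.HH A.left D j) →
      Subsingleton (Coh.HH A.left ((Coh.Rpush (snd A A).left n).obj F) j) := fun n j hs => by
    obtain ⟨h, ⟨ε⟩, -⟩ := exists_Rpush_free (A := A) hL n
    refine QCoh.subsingleton_HH_of_iso (Φ.mapIso ε.symm ≪≫ (hR n).some) j ?_
    refine subsingleton_of_forall_eq 0 fun x => ?_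
    let H := HHfun A.left j
    have h1 : H.map (𝟙 (Φ.obj (FlatMod.freeMod (Spec (CommRingCat.of k)) h))) = 0 := by
      rw [← Φ.map_id, ← H23.Frame.total, Functor.map_sum, Functor.map_sum]
      refine Finset.sum_eq_zero fun i _ => ?_
      rw [Φ.map_comp, H.map_comp]
      have hz : IsZero (H.obj (Φ.obj (Coh.structureModule (Spec (CommRingCat.of k))))) :=
        haveI : Subsingleton (H.obj (Φ.obj (Coh.structureModule (Spec (CommRingCat.of k))))) :=
          QCoh.subsingleton_HH_of_iso eO.symm j hs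
        AddCommGrpCat.isZero_of_subsingleton _
      rw [hz.eq_of_tgt (H.map (Φ.map (H23.Frame.proj _ _ i))) 0, zero_comp]
    rw [H.map_id] at h1
    exact congr($h1 x)
  have hretract : ∀ n j, ¬ Subsingleton (Coh.HH A.left L n) → ¬ Subsingleton (Coh.HH A.left D j) →
      ¬ Subsingleton (Coh.HH A.left ((Coh.Rpush (snd A A).left n).obj F) j) := fun n j hn hj hs => by
    obtain ⟨h, ⟨ε⟩, hh⟩ := exists_Rpush_free (A := A) hL n
    have hpos : 0 < h := Nat.pos_of_ne_zero fun h0 => hn (hh.1 h0)
    let H := HHfun A.left j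
    refine hj (QCoh.subsingleton_HH_of_iso eO j (subsingleton_of_forall_eq 0 fun x => ?_))
    have hz : IsZero (H.obj (Φ.obj (FlatMod.freeMod (Spec (CommRingCat.of k)) h))) :=
      haveI : Subsingleton (H.obj (Φ.obj (FlatMod.freeMod (Spec (CommRingCat.of k)) h))) :=
        QCoh.subsingleton_HH_of_iso ((hR n).some.symm ≪≫ Φ.mapIso ε) j hs
      AddCommGrpCat.isZero_of_subsingleton _
    have h1 := congrArg (fun φ => H.map (Φ.map φ))
      (H23.Frame.incl_proj (Spec (CommRingCat.of k)) h ⟨0, hpos⟩ ⟨0, hpos⟩)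
    simp only [if_pos, Φ.map_id, H.map_id, Functor.map_comp] at h1
    rw [hz.eq_of_tgt (H.map (Φ.map (H23.Frame.incl _ _ ⟨0, hpos⟩))) 0, zero_comp] at h1
    exact (congr($h1 x)).symm
  -- the two corners
  have hhigh : SL.max' hnL + SD.max' hnD = g := by
    by_contra hne
    refine hretract _ _ ((hmemL _).1 (SL.max'_mem hnL)) ((hmemD _).1 (SD.max'_mem hnD))
      (LerayCorner.subsingleton_high (snd A A).left _ _ (fun n hn => hzero n (by_contra fun hs =>
        absurd (SL.le_max' n ((hmemL n).2 hs)) (by omega))) (fun n _ j hj => hsub n j (by_contra fun hs =>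
        absurd (SD.le_max' j ((hmemD j).2 hs)) (by omega))) (subsingleton_HH_box g hd hL hfin hD eD _ hne))
  have hlow : SL.min' hnL + SD.min' hnD = g := by
    by_contra hne
    refine hretract _ _ ((hmemL _).1 (SL.min'_mem hnL)) ((hmemD _).1 (SD.min'_mem hnD))
      (LerayCorner.subsingleton_low (snd A A).left _ _ (fun n hn => hzero n (by_contra fun hs =>
        absurd (SL.min'_le n ((hmemL n).2 hs)) (by omega))) (fun n j hj => hsub n j (by_contra fun hs =>
        absurd (SD.min'_le j ((hmemD j).2 hs)) (by omega))) (subsingleton_HH_box g hd hL hfin hD eD _ hne))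
  have h1 := SL.min'_le _ (SL.max'_mem hnL)
  have h2 := SD.min'_le _ (SD.max'_mem hnD)
  refine ⟨SL.max' hnL, by omega, fun j hj => by_contra fun hs => ?_,
    not_subsingleton_iff_nontrivial.1 ((hmemL _).1 (SL.max'_mem hnL))⟩
  have h3 := SL.le_max' j ((hmemL j).2 hs)
  have h4 := SL.min'_le j ((hmemL j).2 hs)
  omega

end AV

end Groth.Agent.AVIndex
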