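import Groth.Agent.Lib.AVPoincareLocal
import Groth.Agent.Lib.AVIndex
import Groth.Agent.Lib.AVDeg
import Groth.Agent.CAlgGlobalDim.RegSeq
import Groth.Agent.GrpSchLib.SmoothRegular
import Groth.Agent.GrpSchLib.FieldDim

/-!
The higher direct images of the Poincaré module near the origin.
-/

set_option autoImplicit false
set_option linter.style.haveILetI false
set_option linter.unusedSectionVars false
set_option backward.isDefEq.respectTransparency false
set_option backward.isDefEq.respectTransparency.types false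
set_option maxHeartbeats 1000000
set_option synthInstance.maxHeartbeats 400000

universe u

open CategoryTheory CategoryTheory.Limits MonoidalCategory CartesianMonoidalCategory MonObj AlgebraicGeometry TopologicalSpace
open scoped TensorProduct

noncomputable section

namespace Groth.Agent.AVPoincare

open Groth.Agent Groth.Agent.QCoh Groth.Agent.H23 Groth.Agent.AVPair Groth.Agent.AVDual
open scoped Groth.Agent.H23.PicMul

section Algebra

variable {A : Type u} [CommRing A] {x : Ideal A} [x.IsMaximal] {H : Type u} [AddCommGroup H] [Module A H]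

/-- A module on which the elements of a maximal ideal act nilpotently is its localisation. -/
theorem bijective_mk_of_torsion (h : ∀ a ∈ x, ∀ z : H, ∃ n : ℕ, a ^ n • z = 0) :
    Function.Bijective (TensorProduct.mk A (Localization.AtPrime x) H 1) := by
  have key : ∀ (s : A), s ∉ x → ∀ z : H, ∃ t : A, (t * s) • z = z := by
    intro s hs z
    have h1 : Ideal.radical ((LinearMap.ker (LinearMap.toSpanSingleton A H z) : Ideal A) ⊔ Ideal.span {s}) = ⊤ := by
      refine (‹x.IsMaximal›).out.2 _ (lt_of_le_of_ne (fun a ha => ?_) fun he => hs (he ▸ ?_))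
      · obtain ⟨n, hn⟩ := h a ha z
        exact ⟨n, Ideal.mem_sup_left (show a ^ n • z = 0 from hn)⟩
      · exact Ideal.le_radical (Ideal.mem_sup_right (Ideal.mem_span_singleton_self s))
    obtain ⟨a, ha, b, hb, hab⟩ := Submodule.mem_sup.1 (Ideal.radical_eq_top.1 h1 ▸ Submodule.mem_top :
      (1 : A) ∈ LinearMap.ker (LinearMap.toSpanSingleton A H z) ⊔ Ideal.span {s})
    obtain ⟨t, rfl⟩ := Ideal.mem_span_singleton'.1 hb
    refine ⟨t, ?_⟩
    calc (t * s) • z = a • z + (t * s) • z := by rw [show a • z = 0 from ha, zero_add]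
      _ = z := by rw [← add_smul, hab, one_smul]
  haveI : IsLocalizedModule x.primeCompl (TensorProduct.mk A (Localization.AtPrime x) H 1) :=
    (isLocalizedModule_iff_isBaseChange x.primeCompl (Localization.AtPrime x) _).2
      (TensorProduct.isBaseChange A H (Localization.AtPrime x))
  refine ⟨(injective_iff_map_eq_zero _).2 fun z hz => ?_, fun w => ?_⟩
  · obtain ⟨⟨s, hs⟩, hsz⟩ := (IsLocalizedModule.eq_zero_iff x.primeCompl _).1 hz
    obtain ⟨t, ht⟩ := key s hs z
    rw [← ht, SemigroupAction.mul_smul, show s • z = 0 from hsz, smul_zero]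
  · obtain ⟨⟨z, s, hs⟩, hsw⟩ := IsLocalizedModule.surj x.primeCompl (TensorProduct.mk A (Localization.AtPrime x) H 1) w
    obtain ⟨t, ht⟩ := key s hs z
    refine ⟨t • z, ((Module.End.isUnit_iff _).1 (IsLocalizedModule.map_units
      (TensorProduct.mk A (Localization.AtPrime x) H 1) (⟨s, hs⟩ : x.primeCompl))).1 ?_⟩
    show s • TensorProduct.mk A (Localization.AtPrime x) H 1 (t • z) = s • w
    rw [← map_smul, ← SemigroupAction.mul_smul, mul_comm s t, ht]
    exact hsw.symm

/-- A line over the residue field is generated over the global ring. -/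
theorem exists_generator {R : Type u} [CommRing R] [Algebra A R] [IsLocalization.AtPrime R x] [IsLocalRing R]
    {W : Type u} [AddCommGroup W] [Module R W] {U : ModuleCat.{u} (IsLocalRing.ResidueField R)}
    (hU : Module.finrank (IsLocalRing.ResidueField R) U = 1)
    (E : W ≃ₗ[R] (ModuleCat.restrictScalars (IsLocalRing.residue R)).obj U) :
    ∃ w₀ : W, w₀ ≠ 0 ∧ ∀ w : W, ∃ a : A, w = algebraMap A R a • w₀ := by
  obtain ⟨v, hv0, hv⟩ := finrank_eq_one_iff'.1 hU
  let v' : (ModuleCat.restrictScalars (IsLocalRing.residue R)).obj U := v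
  refine ⟨E.symm v', fun h => hv0 (E.symm.map_eq_zero_iff.1 h), fun w => ?_⟩
  obtain ⟨f, hf⟩ := hv (E w)
  obtain ⟨r, rfl⟩ := Ideal.Quotient.mk_surjective f
  obtain ⟨⟨a, s⟩, has⟩ := IsLocalization.surj x.primeCompl r
  obtain ⟨t, i, hi, hti⟩ := Ideal.IsMaximal.exists_inv (‹x.IsMaximal›) s.2
  refine ⟨t * a, E.injective ?_⟩
  rw [map_smul, LinearEquiv.apply_symm_apply]
  refine hf.symm.trans ?_
  show IsLocalRing.residue R r • v = IsLocalRing.residue R (algebraMap A R (t * a)) • v
  congr 1
  have hi' : IsLocalRing.residue R (algebraMap A R i) = 0 := (IsLocalRing.residue_eq_zero_iff _).2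
    ((IsLocalization.AtPrime.to_map_mem_maximal_iff R x i).2 hi)
  have e : IsLocalRing.residue R (algebraMap A R (t * s)) = 1 := by
    rw [show t * (s : A) = 1 - i from eq_sub_of_add_eq hti, map_sub, map_one, map_sub, map_one, hi', sub_zero]
  rw [map_mul (algebraMap A R), map_mul, ← has, map_mul, mul_left_comm, ← map_mul, ← map_mul (algebraMap A R),
    e, _root_.mul_one]

end Algebra

/-- The fibre ranks of a complex resolving a point are binomial. -/
theorem dRank_eq_choose {R : Type u} [CommRing R] [IsNoetherianRing R] [IsLocalRing R]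
    {C : ChainComplex (ModuleCat.{u} R) ℤ} (hfl : ∀ i, Module.Flat R (C.X i))
    (hfin : ∀ i, Module.Finite R (C.X i)) {c : ℤ} (hbdd : ∀ i, i < c → IsZero (C.X i))
    (hpos : ∀ q : ℤ, 0 < q → ∀ M : ModuleCat.{u} R, IsZero (CohIII.T C q M))
    (y : List R) (hreg : RingTheory.Sequence.IsWeaklyRegular R y)
    (hdrank : ∀ q : ℤ, q < -(y.length : ℤ) → CohIII.dRank C q (IsLocalRing.closedPoint R) = 0)
    (htor : ∀ q : ℤ, ∀ a ∈ Ideal.ofList y, ∀ z : C.homology q, ∃ n : ℕ, a ^ n • z = 0)
    (hkill : ∀ (M : ModuleCat.{u} R), ∀ a ∈ Ideal.ofList y, ∀ z : CohIII.T C 0 M, a • z = 0)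
    (hspan : Ideal.ofList y = IsLocalRing.maximalIdeal R)
    (hd0 : CohIII.dRank C 0 (IsLocalRing.closedPoint R) = 1) (p : ℕ) :
    CohIII.dRank C (-(p : ℤ)) (IsLocalRing.closedPoint R) = y.length.choose p := by
  rcases lt_or_ge y.length p with hp | hp
  · rw [Nat.choose_eq_zero_of_lt hp]
    exact hdrank _ (by omega)
  let φR : R →+* IsLocalRing.ResidueField R := IsLocalRing.residue R
  let F := IsLocalRing.ResidueField R
  let q₁ : (R ⧸ Ideal.ofList y) ≃ₗ[R] (ModuleCat.restrictScalars φR).obj (ModuleCat.of F F) :=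
    { (Ideal.quotEquivOfEq hspan).toAddEquiv with
      map_smul' := fun r v => by
        obtain ⟨v, rfl⟩ := Ideal.Quotient.mk_surjective v
        exact map_mul (IsLocalRing.residue R) r v }
  have hlenF : ∀ (q : ℤ), Module.length R (CohIII.T C q (ModuleCat.of R (R ⧸ Ideal.ofList y))) =
      (CohIII.dRank C q (IsLocalRing.closedPoint R) : ℕ∞) := fun q => by
    obtain ⟨e⟩ := RegLocalRep.nonempty_T_restrict C φR q
    refine ((((CohIII.TFun C q).mapIso q₁.toModuleIso).toLinearEquiv.length_eq).trans e.length_eq).trans ?_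
    rw [← QCoh.finrank_bc_eq_dRank φR C (IsLocalRing.closedPoint R) IsLocalRing.ker_residue q]
    haveI := QCoh.finite_homology_bc φR C hfin q
    rw [← Module.length_eq_finrank]
    letI : Module R ((CohIII.bcCx φR C).homology q) := Module.compHom _ φR
    haveI : IsScalarTower R F ((CohIII.bcCx φR C).homology q) := ⟨fun r f v => by
      show (φR r * f) • v = φR r • f • v
      rw [SemigroupAction.mul_smul]⟩
    exact Module.length_eq_of_surjective (R := F) (S := R) (M := (CohIII.bcCx φR C).homology q)
      IsLocalRing.residue_surjective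
  have hproj : ∀ i, Module.Projective R (C.X i) := fun i => by
    haveI := hfl i
    haveI := hfin i
    haveI : Module.Free R (C.X i) := Module.free_of_flat_of_isLocalRing
    infer_instance
  have key := RegLocalCx.length_eq_choose hfl hfin hproj hbdd hpos y hreg hdrank htor hkill (y.length - p)
  have key' := RegLocalCx.length_eq_choose hfl hfin hproj hbdd hpos y hreg hdrank htor hkill y.length
  rw [hlenF] at key key'
  rw [show -(y.length : ℤ) + ((y.length - p : ℕ) : ℤ) = -(p : ℤ) by omega, Nat.choose_symm hp] at key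
  rw [show -(y.length : ℤ) + (y.length : ℤ) = 0 by omega, hd0, Nat.choose_self, Nat.cast_one, _root_.one_mul]
    at key'
  rw [← key', _root_.mul_one] at key
  exact_mod_cast key

variable {k : Type u} [Field k]

local notation3 "pt₀" => 𝟙_ (Over (Spec (CommRingCat.of k)))

variable {A At : Over (Spec (CommRingCat.of k))} [GrpObj A] [IsProper A.hom] [GeometricallyIntegral A.hom]
  [GrpObj At] [IsProper At.hom] [GeometricallyIntegral At.hom] [Smooth At.hom]
  {P : (A ⊗ At).left.Modules} (hP : PicF.IsInvertible P) (hs : Sep (PicF.cl P : PicF.Cl (A ⊗ At).left))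
  [HasInjectiveResolutions (A ⊗ At).left.Modules] {g : ℕ} (hgA : topologicalKrullDim ↥A.left = g)
  (hgB : topologicalKrullDim ↥At.left = g)

include hP hs

/-- Away from the origin the higher direct images vanish. -/
theorem exists_isZero_Rpush_nhd {y : At.left} (hy : y ≠ η[At].left (IsLocalRing.closedPoint k)) (p : ℕ) :
    ∃ W : At.left.Opens, y ∈ W ∧ IsZero (((Coh.Rpush (snd A At).left p).obj P).restrict W.ι) := by
  haveI : IsProper (snd A At).left := inferInstanceAs (IsProper (pullback.snd A.hom At.hom))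
  haveI : Flat (snd A At).left := inferInstanceAs (Flat (pullback.snd A.hom At.hom))
  haveI : IsLocallyNoetherian At.left := LocallyOfFiniteType.isLocallyNoetherian At.hom
  haveI : IsProper (A ⊗ At).hom := inferInstanceAs (IsProper (pullback.fst A.hom At.hom ≫ A.hom))
  haveI : IsLocallyNoetherian (A ⊗ At).left := LocallyOfFiniteType.isLocallyNoetherian (A ⊗ At).hom
  exact QCoh.exists_isZero_nhd (CurveDeg.isCoh_of_isInvertible hP) (H23.Seesaw.isFlatOver_of_isInvertible _ hP) y p
    (subsingleton_fiberH hP hs hy p)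

include hgA hgB in
/-- Near the origin the direct images are concentrated in degree `g`, where they are one point. -/
theorem exists_origin_data {V : At.left.Opens} (hV : IsAffineOpen V)
    (ho : η[At].left (IsLocalRing.closedPoint k) ∈ V) :
    ∃ ψ : Γ(At.left, V) →+* k, Spec.map (CommRingCat.ofHom ψ) ≫ hV.fromSpec = η[At].left ∧ Function.Surjective ψ ∧
      (∀ p : ℕ, @Module.finrank k (Coh.HH A.left (Coh.structureModule A.left) p) _ _
        (@Coh.moduleOver k _ A.left ⟨A.hom⟩ (Coh.structureModule A.left) p) = g.choose p) ∧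
      (∀ a : k, ψ ((At.left.presheaf.map (homOfLE (le_top : V ≤ ⊤)).op).hom (Coh.toGlobal (A := k) At.hom a)) = a) ∧
      (∀ p : ℕ, p ≠ g → Subsingleton Γ((Coh.Rpush (snd A At).left p).obj P, V)) ∧
      (∀ a : Γ(At.left, V), ψ a = 0 → ∀ z : Γ((Coh.Rpush (snd A At).left g).obj P, V), a • z = 0) ∧
      ∃ z₀ : Γ((Coh.Rpush (snd A At).left g).obj P, V), z₀ ≠ 0 ∧
        ∀ z, ∃ a : Γ(At.left, V), z = a • z₀ := by
  let o := η[At].left (IsLocalRing.closedPoint k)
  haveI : IsProper (snd A At).left := inferInstanceAs (IsProper (pullback.snd A.hom At.hom))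
  haveI : Flat (snd A At).left := inferInstanceAs (Flat (pullback.snd A.hom At.hom))
  haveI : IsLocallyNoetherian At.left := LocallyOfFiniteType.isLocallyNoetherian At.hom
  haveI : IsProper (A ⊗ At).hom := inferInstanceAs (IsProper (pullback.fst A.hom At.hom ≫ A.hom))
  haveI : IsLocallyNoetherian (A ⊗ At).left := LocallyOfFiniteType.isLocallyNoetherian (A ⊗ At).hom
  have hM := CurveDeg.isCoh_of_isInvertible hP
  obtain ⟨K, hK, hsec⟩ := exists_bcModel_sections (f := (snd A At).left) hM
    (H23.Seesaw.isFlatOver_of_isInvertible _ hP) hV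
  obtain ⟨ψ, hψ, hker, hd⟩ := exists_origin_dRank hP hs hK ho
  let B := Γ(At.left, V)
  let x := hV.primeIdealOf ⟨o, ho⟩
  -- the rational point
  let c : k →+* B := (At.left.presheaf.map (homOfLE (le_top : V ≤ ⊤)).op).hom.comp (Coh.toGlobal (A := k) At.hom)
  have hc : ∀ a : k, ψ (c a) = a := by
    have hcS : Spec.map (CommRingCat.ofHom c) = hV.fromSpec ≫ At.hom := by
      have h := hV
      have h1 := (isAffineOpen_top (Spec (CommRingCat.of k))).SpecMap_appLE_fromSpec At.hom hV
        (show V ≤ At.hom ⁻¹ᵁ ⊤ from fun _ _ => trivial)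
      rw [IsAffineOpen.fromSpec_top, Scheme.isoSpec_Spec_inv, ← Spec.map_comp] at h1
      rw [← h1]
      rfl
    have h2 : CommRingCat.ofHom c ≫ CommRingCat.ofHom ψ = 𝟙 (CommRingCat.of k) := Spec.map_injective (by
      rw [Spec.map_comp, hcS, ← Category.assoc, hψ, Spec.map_id]
      exact Over.w η[At])
    exact fun a => congr(($h2).hom a)
  have hψs : Function.Surjective ψ := fun a => ⟨c a, hc a⟩
  haveI hxm : x.asIdeal.IsMaximal := hker ▸ RingHom.ker_isMaximal_of_surjective ψ hψs
  haveI : IsNoetherianRing B := IsLocallyNoetherian.component_noetherian ⟨V, hV⟩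
  -- torsion
  have htorG : ∀ (p : ℕ) (b : B), b ∈ x.asIdeal → ∀ z : Γ((Coh.Rpush (snd A At).left p).obj P, V),
      ∃ n : ℕ, b ^ n • z = 0 := by
    intro p b hb z
    let G := (Coh.Rpush (snd A At).left p).obj P
    haveI : Subsingleton Γ(G, At.left.basicOpen b) := H28.PnFlat.subsingleton_of_isZero_restrict
      (CohBCX.isZero_restrict_of_local _ fun y hy => exists_isZero_Rpush_nhd hP hs (fun he => by
        subst he
        exact (QCoh.mem_basicOpen_iff_notMem hV ho b).1 hy hb) p)
    letI := basicModule b G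
    haveI := isLocalizedModule_basicRes b (QCoh.isQCoh_Rpush (snd A At).left hM.1 p) hV
    obtain ⟨⟨_, n, rfl⟩, hn⟩ := (IsLocalizedModule.eq_zero_iff (Submonoid.powers b) (basicRes b G)).1
      (Subsingleton.elim (basicRes b G z) 0)
    exact ⟨n, hn⟩
  have hpos := hK.2.2.2.1
  have hflA : ∀ i, Module.Flat B (K.X i) := fun i => by
    letI : (((snd A At).left ⁻¹ᵁ V : (A ⊗ At).left.Opens) : Scheme.{u}).Over (Spec (CommRingCat.of B)) :=
      ⟨overSpec (snd A At).left hV⟩
    exact QCoh.flat_of_isBCModel hK i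
  have htorH : ∀ (q : ℤ) (b : B), b ∈ x.asIdeal → ∀ z : K.homology q, ∃ n : ℕ, b ^ n • z = 0 := by
    intro q b hb z
    rcases lt_or_ge 0 q with hq | hq
    · haveI := ModuleCat.subsingleton_of_isZero
        ((hpos q hq (ModuleCat.of B B)).of_iso (FlatCxLib.tUnitIso (P := K) q).symm)
      exact ⟨0, Subsingleton.elim _ _⟩
    obtain ⟨p, rfl⟩ : ∃ p : ℕ, q = -(p : ℤ) := ⟨(-q).toNat, by omega⟩
    obtain ⟨e⟩ := hsec p
    obtain ⟨n, hn⟩ := htorG p b hb (e.symm z)
    exact ⟨n, e.symm.injective (by rw [map_smul, map_zero, hn])⟩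
  -- the local ring
  let R := Localization.AtPrime x.asIdeal
  haveI : IsNoetherianRing R := IsLocalization.isNoetherianRing x.asIdeal.primeCompl _ inferInstance
  let C := locCx K x
  have hfl : ∀ i, Module.Flat R (C.X i) := FlatCxLib.flat_bcCx_X K hflA
  have hfin : ∀ i, Module.Finite R (C.X i) := finite_bcCx_X_aux K _ hK.1
  have hposC : ∀ q : ℤ, 0 < q → ∀ M, IsZero (CohIII.T C q M) := fun q hq M =>
    isZero_T_locCx K x (hpos q hq) M
  have hreg : IsRegularLocalRing R ∧ ringKrullDim R = g := by
    letI := QCoh.stalkAlg (U := V) ho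
    haveI := QCoh.isLocalization_stalk' hV ho
    haveI := GrpSchLib.isRegularLocalRing_stalk_of_smooth At.hom o
    let e := (IsLocalization.algEquiv x.asIdeal.primeCompl (At.left.presheaf.stalk o) R).toRingEquiv
    refine ⟨IsRegularLocalRing.of_ringEquiv e, ?_⟩
    rw [← ringKrullDim_eq_of_ringEquiv e]
    have hcl : IsClosed ({o} : Set At.left) := by
      haveI : IsClosedImmersion (η[At].left ≫ At.hom) := by
        rw [Over.w η[At]]; exact inferInstanceAs (IsClosedImmersion (𝟙 _))
      haveI : IsClosedImmersion η[At].left := IsClosedImmersion.of_comp η[At].left At.hom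
      convert η[At].left.isClosedEmbedding.isClosed_range using 1
      refine Set.eq_of_subset_of_subset (Set.singleton_subset_iff.2 ⟨_, rfl⟩) ?_
      rintro _ ⟨z, rfl⟩
      exact congrArg η[At].left (@Subsingleton.elim _ (inferInstanceAs (Subsingleton (PrimeSpectrum k))) z _)
    rw [GrpSchLib.ringKrullDim_stalk_eq (G := At) hcl]
    rw [hgB]
  obtain ⟨hregR, hdimR⟩ := hreg
  haveI := hregR
  let m := IsLocalRing.maximalIdeal R
  have hfg : m.FG := m.fg_of_isNoetherianRing
  let y : List R := (Submodule.FG.finite_generators hfg).toFinset.toList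
  have hlen : y.length = g := by
    rw [Finset.length_toList, ← Set.ncard_eq_toFinset_card _ (Submodule.FG.finite_generators hfg),
      Submodule.FG.generators_ncard hfg]
    exact CAlgGlobalDim.spanFinrank_eq_of_dim R g hdimR
  have hspan : Ideal.ofList y = m := by
    rw [Ideal.ofList, show {r | r ∈ y} = Submodule.generators m by ext; simp [y]]
    exact Submodule.span_generators m
  have hyreg := CAlgGlobalDim.isWeaklyRegular_of_generators y.length R y rfl hspan
    (by rw [hlen, CAlgGlobalDim.spanFinrank_eq_of_dim R g hdimR])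
  have hrank : ∀ q : ℤ, q < -(y.length : ℤ) → CohIII.dRank C q (IsLocalRing.closedPoint R) = 0 := by
    intro q hq
    obtain ⟨p, rfl⟩ : ∃ p : ℕ, q = -(p : ℤ) := ⟨(-q).toNat, by omega⟩
    rw [dRank_locCx_closedPoint, hd p]
    haveI : IsLocallyNoetherian A.left := LocallyOfFiniteType.isLocallyNoetherian A.hom
    haveI : CompactSpace A.left := QuasiCompact.compactSpace_of_compactSpace A.hom
    haveI : AlgebraicGeometry.IsNoetherian A.left := {}
    haveI : A.left.IsSeparated := ⟨by rw [← Limits.terminal.comp_from A.hom]; infer_instance⟩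
    letI : A.left.Over (Spec (CommRingCat.of k)) := ⟨A.hom⟩
    haveI := Snapper.subsingleton_HH_of_dim_le (d := g) hgA.le
      (CurveDeg.isCoh_of_isInvertible (PicLoc.isInvertible_structureModule A.left)).1 (i := p) (by omega)
    exact Module.finrank_zero_of_subsingleton
  have htorC : ∀ q : ℤ, ∀ a ∈ Ideal.ofList y, ∀ z : C.homology q, ∃ n : ℕ, a ^ n • z = 0 := by
    intro q a ha z
    obtain ⟨e⟩ := nonempty_homology_locCx K x q
    suffices H : m ≤ Ideal.radical (LinearMap.ker (LinearMap.toSpanSingleton R _ (e z)) : Ideal R) by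
      obtain ⟨n, hn⟩ := H (hspan ▸ ha)
      exact ⟨n, e.injective (by rw [map_smul, map_zero]; exact hn)⟩
    refine le_of_eq_of_le (Localization.AtPrime.map_eq_maximalIdeal (I := x.asIdeal)).symm
      (Ideal.map_le_iff_le_comap.2 fun b hb => ?_)
    generalize e z = w
    induction w using TensorProduct.induction_on with
    | zero => exact ⟨0, smul_zero _⟩
    | tmul r h =>
      obtain ⟨n, hn⟩ := htorH q b hb h
      refine ⟨n, ?_⟩
      show (algebraMap B R b) ^ n • (r ⊗ₜ[B] h) = 0
      rw [← map_pow, algebraMap_smul, TensorProduct.smul_tmul', TensorProduct.smul_tmul, hn, TensorProduct.tmul_zero]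
    | add v w hv hw =>
      obtain ⟨n, hn⟩ := hv
      obtain ⟨n', hn'⟩ := hw
      refine ⟨n + n', ?_⟩
      show (algebraMap B R b) ^ (n + n') • (v + w) = 0
      rw [smul_add, show (algebraMap B R b) ^ (n + n') • v = 0 by
          rw [add_comm, pow_add, SemigroupAction.mul_smul,
            show (algebraMap B R b) ^ n • v = 0 from hn, smul_zero],
        show (algebraMap B R b) ^ (n + n') • w = 0 by
          rw [pow_add, SemigroupAction.mul_smul,
            show (algebraMap B R b) ^ n' • w = 0 from hn', smul_zero], add_zero]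
  have hkill : ∀ (M : ModuleCat.{u} R), ∀ a ∈ Ideal.ofList y, ∀ z : CohIII.T C 0 M, a • z = 0 :=
    fun M a ha z => kill_T0 hP hs hK ho M a (by rw [hspan] at ha; exact ha) z
  obtain ⟨hzero, -, hkN, ⟨eN⟩⟩ := RegLocalCx.concentrated hfl hfin hposC y hyreg hrank htorC hkill
  have h0 : @Module.finrank k (Coh.HH A.left (Coh.structureModule A.left) 0) _ _
      (@Coh.moduleOver k _ A.left ⟨A.hom⟩ (Coh.structureModule A.left) 0) = 1 := by
    haveI : GeometricallyConnected A.hom := CubeAb.geometricallyConnected_of_integral A.hom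
    letI : A.left.Over (Spec (CommRingCat.of k)) := ⟨A.hom⟩
    haveI : IsProper (A.left ↘ Spec (CommRingCat.of k)) := inferInstanceAs (IsProper A.hom)
    haveI : GeometricallyConnected (A.left ↘ Spec (CommRingCat.of k)) :=
      inferInstanceAs (GeometricallyConnected A.hom)
    haveI : GeometricallyReduced (A.left ↘ Spec (CommRingCat.of k)) := inferInstanceAs (GeometricallyReduced A.hom)
    exact S1536.result k A.left
  -- the homology at `x` is the homology over `V`
  have hloc : ∀ p : ℕ, ∃ l : Γ((Coh.Rpush (snd A At).left p).obj P, V) →+ C.homology (-(p : ℤ)),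
      Function.Bijective l ∧ ∀ (a : B) (z : Γ((Coh.Rpush (snd A At).left p).obj P, V)),
        l (a • z) = algebraMap B R a • l z := fun p => by
    obtain ⟨e⟩ := nonempty_homology_locCx K x (-(p : ℤ))
    obtain ⟨e'⟩ := hsec p
    refine ⟨(e.symm.toAddEquiv.toAddMonoidHom.comp
      (TensorProduct.mk B R (K.homology (-(p : ℤ))) 1).toAddMonoidHom).comp e'.toAddEquiv.toAddMonoidHom,
      (e.symm.bijective.comp (bijective_mk_of_torsion (htorH _))).comp e'.bijective, fun a z => ?_⟩
    show e.symm ((1 : R) ⊗ₜ[B] e' (a • z)) = algebraMap B R a • e.symm ((1 : R) ⊗ₜ[B] e' z)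
    rw [← map_smul, algebraMap_smul, map_smul, TensorProduct.tmul_smul]
  refine ⟨ψ, hψ, hψs, fun p => ?_, hc, fun p hp => ?_, fun a ha z => ?_, ?_⟩
  · rw [← hd p, ← dRank_locCx_closedPoint]
    obtain ⟨c₀, hc₀⟩ := hK.2.2.1
    have hd0 : CohIII.dRank C 0 (IsLocalRing.closedPoint R) = 1 := by
      rw [dRank_locCx_closedPoint]
      exact (hd 0).trans h0
    rw [← hlen]
    exact dRank_eq_choose hfl hfin (c := c₀)
      (fun i hi => (ModuleCat.extendScalars.{u, u, u} (algebraMap B R)).map_isZero (hc₀ i hi))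
      hposC y hyreg hrank htorC hkill hspan hd0 p
  · obtain ⟨l, hl, -⟩ := hloc p
    haveI := ModuleCat.subsingleton_of_isZero (hzero (-(p : ℤ)) (by omega))
    exact hl.1.subsingleton
  · obtain ⟨l, hl, hls⟩ := hloc g
    refine hl.1 ?_
    rw [hls, map_zero]
    have ha' : algebraMap B R a ∈ Ideal.ofList y := by
      rw [hspan]
      refine (IsLocalization.AtPrime.to_map_mem_maximal_iff R x.asIdeal a).2 ?_
      rw [← hker]; exact ha
    have := hkN _ ha'
    rw [hlen] at this
    exact this (l z)
  · obtain ⟨l, hl, hls⟩ := hloc g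
    let φR : R →+* IsLocalRing.ResidueField R := IsLocalRing.residue R
    let F := IsLocalRing.ResidueField R
    let K₁ := (ModuleCat.restrictScalars φR).obj (ModuleCat.of F F)
    let q₁ : (R ⧸ Ideal.ofList y) ≃ₗ[R] K₁ :=
      { (Ideal.quotEquivOfEq hspan).toAddEquiv with
        map_smul' := fun r v => by
          obtain ⟨v, rfl⟩ := Ideal.Quotient.mk_surjective v
          exact map_mul (IsLocalRing.residue R) r v }
    obtain ⟨eF⟩ := RegLocalRep.nonempty_T_restrict C φR 0
    have hd1 : Module.finrank F ((CohIII.bcCx φR C).homology 0) = 1 := by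
      rw [QCoh.finrank_bc_eq_dRank φR C (IsLocalRing.closedPoint R) IsLocalRing.ker_residue 0,
        dRank_locCx_closedPoint]
      refine (hd 0).trans ?_
      haveI : GeometricallyConnected A.hom := CubeAb.geometricallyConnected_of_integral A.hom
      letI : A.left.Over (Spec (CommRingCat.of k)) := ⟨A.hom⟩
      haveI : IsProper (A.left ↘ Spec (CommRingCat.of k)) := inferInstanceAs (IsProper A.hom)
      haveI : GeometricallyConnected (A.left ↘ Spec (CommRingCat.of k)) :=
        inferInstanceAs (GeometricallyConnected A.hom)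
      haveI : GeometricallyReduced (A.left ↘ Spec (CommRingCat.of k)) := inferInstanceAs (GeometricallyReduced A.hom)
      exact S1536.result k A.left
    have hE : Nonempty (C.homology (-(g : ℤ)) ≃ₗ[R]
        (ModuleCat.restrictScalars φR).obj ((CohIII.bcCx φR C).homology 0)) := by
      rw [← hlen]
      exact ⟨(eN.trans ((CohIII.TFun C 0).mapIso q₁.toModuleIso).toLinearEquiv).trans eF⟩
    obtain ⟨E⟩ := hE
    obtain ⟨w₀, hw0, hgen⟩ := exists_generator (x := x.asIdeal) hd1 E
    obtain ⟨z₀, hz₀⟩ := hl.2 w₀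
    refine ⟨z₀, fun h => hw0 ?_, fun z => ?_⟩
    · rw [← hz₀, h, map_zero]
    · obtain ⟨a, ha⟩ := hgen (l z)
      exact ⟨a, hl.1 (by rw [hls, hz₀, ha])⟩

end Groth.Agent.AVPoincare
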