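import Groth.Agent.Lib.RigDescent
import Groth.Agent.H23.PicMul

/-!
Rigidified invertible classes satisfy descent along flat surjective maps of finite presentation.
-/

set_option autoImplicit false
set_option linter.unusedSectionVars false
set_option linter.style.haveILetI false
set_option backward.isDefEq.respectTransparency false
set_option backward.isDefEq.respectTransparency.types false
set_option maxHeartbeats 800000

universe u

open CategoryTheory CategoryTheory.Limits AlgebraicGeometry TopologicalSpace Opposite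

noncomputable section

namespace Groth.Agent.RigSheaf

open Groth.Agent.AModX Groth.Agent.InvX Groth.Agent.UnitDescent Groth.Agent.FramesTrans Groth.Agent.RigDatum
open scoped Groth.Agent.H23.PicMul

variable {X S : Scheme.{u}} (f : X ⟶ S) (σ : S ⟶ X) (hσ : σ ≫ f = 𝟙 S)
  (ha : ∀ (T : Over S) (U : T.left.Opens), IsIso ((PicF.XTproj f T).app U))
  (T : Over S) {U : Scheme.{u}} (u : U ⟶ T.left)

theorem isPullback_v : IsPullback (v f T u) (pullback.snd f (u ≫ T.hom)) (pullback.snd f T.hom) u := by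
  refine IsPullback.of_right ?_ (XTmap_snd f (AbDual.ovrHom T u)) (IsPullback.of_hasPullback f T.hom)
  rw [XTmap_fst f (AbDual.ovrHom T u)]
  exact IsPullback.of_hasPullback f (u ≫ T.hom)

theorem sec_v : PicF.secT f σ hσ (AbDual.ovr T u) ≫ v f T u = u ≫ PicF.secT f σ hσ T := by
  refine pullback.hom_ext ?_ ?_
  · rw [Category.assoc, XTmap_fst, Category.assoc]
    unfold PicF.secT
    rw [pullback.lift_fst, pullback.lift_fst]
    exact Category.assoc _ _ _
  · rw [Category.assoc, XTmap_snd, Category.assoc]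
    unfold PicF.secT
    rw [pullback.lift_snd_assoc, pullback.lift_snd]
    exact (Category.id_comp _).trans (Category.comp_id _).symm

theorem sec_proj (T : Over S) : PicF.secT f σ hσ T ≫ PicF.XTproj f T = 𝟙 T.left := pullback.lift_snd _ _ _

variable [Flat u] [LocallyOfFinitePresentation u] [Surjective u]

instance : Flat (v f T u) := MorphismProperty.of_isPullback (isPullback_v f T u).flip ‹Flat u›
instance : LocallyOfFinitePresentation (v f T u) :=
  MorphismProperty.of_isPullback (isPullback_v f T u).flip ‹LocallyOfFinitePresentation u›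
instance : Surjective (v f T u) := MorphismProperty.of_isPullback (isPullback_v f T u).flip ‹Surjective u›

include hσ ha in
/-- A rigidified module trivial on the cover is trivial. -/
theorem nonempty_triv {M : (PicF.XT f T).Modules} (hM : PicF.IsInvertible M)
    (η : (Scheme.Modules.pullback (v f T u)).obj M ≅ Coh.structureModule (PicF.XT f (AbDual.ovr T u)))
    (ψ : (Scheme.Modules.pullback (PicF.secT f σ hσ T)).obj M ≅ Coh.structureModule T.left) :
    Nonempty (M ≅ Coh.structureModule (PicF.XT f T)) := by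
  obtain ⟨F⟩ := nonempty_frames hM
  let sec := PicF.secT f σ hσ (AbDual.ovr T u)
  let secB := PicF.secT f σ hσ T
  have hsv : ∀ {Z : Scheme.{u}} (y : Z ⟶ U), (y ≫ sec) ≫ v f T u = (y ≫ u) ≫ secB := fun y => by
    rw [Category.assoc, sec_v, Category.assoc]
  let O : PicF.XT f T → U.Opens := fun i => (u ≫ secB) ⁻¹ᵁ F.U i
  let r : ∀ i, Γ((O i).toScheme, ⊤)ˣ := fun i =>
    coAt F (v f T u) η ((O i).ι ≫ sec) i (fun z _ => show (((O i).ι ≫ sec) ≫ v f T u) z ∈ F.U i by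
        rw [hsv, Category.assoc]; exact z.2) /
      coAt F secB ψ ((O i).ι ≫ u) i (fun z _ => show (((O i).ι ≫ u) ≫ secB) z ∈ F.U i by
        rw [Category.assoc]; exact z.2)
  obtain ⟨d, hd⟩ := UnitDescent.exists_unit (fun i => (O i).ι) (fun z => ⟨_, ⟨z, F.mem _⟩, rfl⟩) r
    fun i j Z m m' e => by
      simp only [r, map_div, uP_coAt, reassoc_of% e]
      have ki : (⊤ : Z.Opens) ≤ ((m' ≫ (O j).ι ≫ sec) ≫ v f T u) ⁻¹ᵁ F.U i := fun z _ => by
        show ((m' ≫ (O j).ι ≫ sec) ≫ v f T u) z ∈ F.U i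
        rw [← Category.assoc m', hsv, ← e, Category.assoc, Category.assoc]
        exact (m z).2
      have kj : (⊤ : Z.Opens) ≤ ((m' ≫ (O j).ι ≫ sec) ≫ v f T u) ⁻¹ᵁ F.U j := fun z _ => by
        show ((m' ≫ (O j).ι ≫ sec) ≫ v f T u) z ∈ F.U j
        rw [← Category.assoc m', hsv, Category.assoc, Category.assoc]
        exact (m' z).2
      have e0 : (m' ≫ (O j).ι ≫ sec) ≫ v f T u = (m' ≫ (O j).ι ≫ u) ≫ secB := by
        rw [← Category.assoc m', hsv, ← Category.assoc m']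
      rw [coAt_change F (v f T u) η _ i j ki kj, coAt_change F secB ψ _ i j (e0 ▸ ki) (e0 ▸ kj)]
      simp only [e0]
      exact (mul_div_mul_left_eq_div _ _ _).symm
  -- the normalised coordinates
  let h : ∀ {Z : Scheme.{u}} (x : Z ⟶ PicF.XT f (AbDual.ovr T u)) (i : PicF.XT f T),
      (⊤ : Z.Opens) ≤ (x ≫ v f T u) ⁻¹ᵁ F.U i → Γ(Z, ⊤)ˣ := fun x i hx =>
    coAt F (v f T u) η x i hx / uP (x ≫ PicF.XTproj f (AbDual.ovr T u)) d
  have h_nat : ∀ {Z W : Scheme.{u}} (m : W ⟶ Z) (x : Z ⟶ PicF.XT f (AbDual.ovr T u)) (i : PicF.XT f T)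
      (hx : (⊤ : Z.Opens) ≤ (x ≫ v f T u) ⁻¹ᵁ F.U i), uP m (h x i hx) = h (m ≫ x) i (fun _ _ => hx trivial) := by
    intro Z W m x i hx
    simp only [h, map_div, uP_coAt, ← uP_comp, Category.assoc]
  have h_change : ∀ {Z : Scheme.{u}} (x : Z ⟶ PicF.XT f (AbDual.ovr T u)) (i j : PicF.XT f T)
      (hi : (⊤ : Z.Opens) ≤ (x ≫ v f T u) ⁻¹ᵁ F.U i) (hj : (⊤ : Z.Opens) ≤ (x ≫ v f T u) ⁻¹ᵁ F.U j),
      h x j hj = τ F (x ≫ v f T u) i j hi hj * h x i hi := by
    intro Z x i j hi hj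
    simp only [h]
    rw [coAt_change F (v f T u) η x i j hi hj, mul_div_assoc]
  have h_sec : ∀ {Z : Scheme.{u}} (y : Z ⟶ U) (x : Z ⟶ PicF.XT f (AbDual.ovr T u)) (hxy : x = y ≫ sec) (i : PicF.XT f T)
      (hx : (⊤ : Z.Opens) ≤ (x ≫ v f T u) ⁻¹ᵁ F.U i),
      h x i hx = coAt F secB ψ (y ≫ u) i (by rw [← hsv, ← hxy]; exact hx) := by
    intro Z y x hxy i hx
    subst hxy
    have hO : (⊤ : Z.Opens) ≤ y ⁻¹ᵁ O i := fun z _ => show (y ≫ u ≫ secB) z ∈ F.U i by
      rw [← Category.assoc, ← hsv]; exact hx trivial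
    have e : (y ≫ sec) ≫ PicF.XTproj f (AbDual.ovr T u) = y := secT_snd f σ hσ y
    have hyd : uP y d = uP (lp (O i) y hO) (r i) := by rw [← hd i, ← uP_comp, lp_ι]
    show coAt F (v f T u) η (y ≫ sec) i hx / uP ((y ≫ sec) ≫ PicF.XTproj f (AbDual.ovr T u)) d = _
    rw [e]
    erw [hyd]
    simp only [r, map_div, uP_coAt, ← Category.assoc, lp_ι]
    exact div_div_cancel _ _
  have h_eq : ∀ {Z : Scheme.{u}} (x₁ x₂ : Z ⟶ PicF.XT f (AbDual.ovr T u)) (hx : x₁ ≫ v f T u = x₂ ≫ v f T u)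
      (i : PicF.XT f T) (hi : (⊤ : Z.Opens) ≤ (x₁ ≫ v f T u) ⁻¹ᵁ F.U i),
      h x₁ i hi = h x₂ i (hx ▸ hi) := by
    intro Z x₁ x₂ hx i hi
    let p₁ := PicF.XTmap f (pt f (rfl : x₁ ≫ v f T u = x₁ ≫ v f T u))
    let p₂ := PicF.XTmap f (pt f hx)
    have hp : p₁ ≫ v f T u = p₂ ≫ v f T u := by
      refine pullback.hom_ext ?_ ?_
      · simp only [p₁, p₂, Category.assoc, XTmap_fst]
      · simp only [p₁, p₂, Category.assoc, XTmap_snd, reassoc_of% (XTmap_snd f (pt f hx)),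
          reassoc_of% (XTmap_snd f (pt f (rfl : x₁ ≫ v f T u = x₁ ≫ v f T u)))]
        exact congrArg (pullback.snd f _ ≫ ·) (snd_eq f hx)
    let P := PicF.XT f (base f x₁)
    let Oδ : PicF.XT f T → P.Opens := fun i => (p₁ ≫ v f T u) ⁻¹ᵁ F.U i
    let δ : ∀ i, Γ((Oδ i).toScheme, ⊤)ˣ := fun i =>
      h ((Oδ i).ι ≫ p₁) i (fun z _ => z.2) /
        h ((Oδ i).ι ≫ p₂) i (fun z _ => show (((Oδ i).ι ≫ p₂) ≫ v f T u) z ∈ F.U i by
          rw [Category.assoc, ← hp]; exact z.2)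
    have hone := triv_of f σ hσ ha (base f x₁) Oδ (fun z => ⟨_, F.mem _⟩) δ ?_ ?_ i
    · have hl : (⊤ : Z.Opens) ≤ through f x₁ ⁻¹ᵁ Oδ i := fun z _ =>
        show (through f x₁ ≫ p₁ ≫ v f T u) z ∈ F.U i by rw [← Category.assoc, through_pt]; exact hi trivial
      have := congrArg (uP (lp _ _ hl)) hone
      simp only [δ, map_one, map_div, h_nat] at this
      simp only [← Category.assoc, lp_ι, p₁, p₂, through_pt] at this
      exact div_eq_one.1 this
    · intro a b W m m' e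
      simp only [δ, map_div, h_nat]
      simp only [← Category.assoc, e]
      have ka : ∀ (p : P ⟶ PicF.XT f (AbDual.ovr T u)), p ≫ v f T u = p₁ ≫ v f T u →
          (⊤ : W.Opens) ≤ (((m' ≫ (Oδ b).ι) ≫ p) ≫ v f T u) ⁻¹ᵁ F.U a := fun p hp' z _ => by
        show (((m' ≫ (Oδ b).ι) ≫ p) ≫ v f T u) z ∈ F.U a
        rw [← e, Category.assoc _ p, hp']
        exact (m z).2
      have kb : ∀ (p : P ⟶ PicF.XT f (AbDual.ovr T u)), p ≫ v f T u = p₁ ≫ v f T u →
          (⊤ : W.Opens) ≤ (((m' ≫ (Oδ b).ι) ≫ p) ≫ v f T u) ⁻¹ᵁ F.U b := fun p hp' z _ => by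
        show (((m' ≫ (Oδ b).ι) ≫ p) ≫ v f T u) z ∈ F.U b
        rw [Category.assoc _ p, hp']
        exact (m' z).2
      rw [h_change _ a b (ka p₁ rfl) (kb p₁ rfl), h_change _ a b (ka p₂ hp.symm) (kb p₂ hp.symm)]
      have e1 : ((m' ≫ (Oδ b).ι) ≫ p₁) ≫ v f T u = ((m' ≫ (Oδ b).ι) ≫ p₂) ≫ v f T u := by
        rw [Category.assoc _ p₁, Category.assoc _ p₂, hp]
      simp only [e1]
      exact (mul_div_mul_left_eq_div _ _ _).symm
    · intro a W y m e
      simp only [δ, map_div, h_nat]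
      have hs : ∀ {x' : Z ⟶ PicF.XT f (AbDual.ovr T u)} (hx' : x₁ ≫ v f T u = x' ≫ v f T u),
          m ≫ (Oδ a).ι ≫ PicF.XTmap f (pt f hx') = (y ≫ (pt f hx').left) ≫ sec := by
        intro x' hx'
        rw [reassoc_of% e, sec_pt, Category.assoc]
      rw [h_sec _ _ (hs rfl), h_sec _ _ (hs hx)]
      have e2 : (y ≫ (pt f (rfl : x₁ ≫ v f T u = x₁ ≫ v f T u)).left) ≫ u = (y ≫ (pt f hx).left) ≫ u := by
        rw [Category.assoc, Category.assoc]
        exact congrArg (y ≫ ·) (snd_eq f hx)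
      simp only [e2, div_self']
  -- descend the coordinates
  let q : ∀ i, (v f T u ⁻¹ᵁ F.U i).toScheme ⟶ (F.U i).toScheme := fun i => v f T u ∣_ F.U i
  have hg : ∀ i, ∃ g : Γ(PicF.XT f T, F.U i)ˣ, ∀ {Z : Scheme.{u}} (x : Z ⟶ PicF.XT f (AbDual.ovr T u))
      (hx : (⊤ : Z.Opens) ≤ (x ≫ v f T u) ⁻¹ᵁ F.U i), ev (x ≫ v f T u) hx g = h x i hx := by
    intro i
    obtain ⟨s, hs⟩ := UnitDescent.exists_unit (fun _ : PUnit.{u + 1} => q i)
      (fun w => by
        obtain ⟨z, hz⟩ := (v f T u).surjective w.1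
        refine ⟨⟨⟩, ⟨z, show v f T u z ∈ F.U i by rw [hz]; exact w.2⟩, (F.U i).ι.isOpenEmbedding.injective ?_⟩
        rw [← Scheme.Hom.comp_apply, morphismRestrict_ι]
        exact hz)
      (fun _ => h (v f T u ⁻¹ᵁ F.U i).ι i (fun z _ => z.2)) fun _ _ Z m m' e => by
        rw [h_nat, h_nat]
        exact h_eq _ _ (by simp only [Category.assoc, ← morphismRestrict_ι]; rw [reassoc_of% e]) _ _
    obtain ⟨g, hg⟩ := RigDescent.exists_ev_eq s
    refine ⟨g, fun {Z} x hx => ?_⟩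
    have hx' : (⊤ : Z.Opens) ≤ x ⁻¹ᵁ (v f T u ⁻¹ᵁ F.U i) := hx
    have e : lp _ x hx' ≫ q i = lp (F.U i) (x ≫ v f T u) hx := by
      rw [← cancel_mono (F.U i).ι, Category.assoc, morphismRestrict_ι, lp_ι, ← Category.assoc, lp_ι]
    rw [RigDescent.ev_lp, hg, ← e, uP_comp, hs ⟨⟩, h_nat]
    simp only [lp_ι]
  choose g hg using hg
  let n : ∀ i, Γ(Coh.structureModule (PicF.XT f T), F.U i) := fun i =>
    (g i : Γ(PicF.XT f T, F.U i)) • (show Γ(Coh.structureModule (PicF.XT f T), F.U i) from (1 : Γ(PicF.XT f T, F.U i)))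
  refine RigDescent.nonempty_iso_of_main F.U (fun x => ⟨x, F.mem x⟩) F.e n F.he
    (fun i => (isFrame_one _).isUnit_smul (g i).isUnit) fun a b W wa wb => ?_
  let G : Γ(PicF.XT f T, W)ˣ := Units.map (resR (le_inf wa wb)).toMonoidHom (tr (F.he a) (F.he b))
  refine ⟨G, tr_spec (F.he a) (F.he b) wa wb, ?_⟩
  have key : Units.map (resR wb).toMonoidHom (g b) = G * Units.map (resR wa).toMonoidHom (g a) := by
    refine RigDescent.ev_ι_injective ?_
    refine UnitDescent.eq_of_uP (fun _ : PUnit.{u + 1} => v f T u ∣_ W)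
      (fun w => by
        obtain ⟨z, hz⟩ := (v f T u).surjective w.1
        refine ⟨⟨⟩, ⟨z, show v f T u z ∈ W by rw [hz]; exact w.2⟩, W.ι.isOpenEmbedding.injective ?_⟩
        rw [← Scheme.Hom.comp_apply, morphismRestrict_ι]
        exact hz) fun _ => ?_
    let x := (v f T u ⁻¹ᵁ W).ι
    have hx : (⊤ : (v f T u ⁻¹ᵁ W).toScheme.Opens) ≤ (x ≫ v f T u) ⁻¹ᵁ W := fun z _ => z.2
    rw [uP_ev, uP_ev, ev_congr (morphismRestrict_ι _ W), ev_congr (morphismRestrict_ι _ W), map_mul,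
      ev_eq (x ≫ v f T u) hx wb (g b) (Units.map (resR wb).toMonoidHom (g b)) rfl,
      ev_eq (x ≫ v f T u) hx wa (g a) (Units.map (resR wa).toMonoidHom (g a)) rfl,
      ev_eq (x ≫ v f T u) hx (le_inf wa wb) (tr (F.he a) (F.he b)) G rfl, hg, hg]
    exact h_change x a b _ _
  show res _ wb ((g b : Γ(PicF.XT f T, F.U b)) • _) = _ • res _ wa ((g a : Γ(PicF.XT f T, F.U a)) • _)
  rw [res_smul, res_smul, smul_smul]
  refine (congrArg (fun c : Γ(PicF.XT f T, W)ˣ => (c : Γ(PicF.XT f T, W)) • res _ wb _) key).trans ?_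
  congr 1
  exact (map_one (resR wb)).trans (map_one (resR wa)).symm

include hσ ha in
/-- **Descent of rigidified classes.** -/
theorem existsUnique_rig (c' : PicF.Rig f σ hσ (AbDual.ovr T u))
    (hglue : PicF.pullCl (PicF.XTmap f (r₁ T u)) c'.1 = PicF.pullCl (PicF.XTmap f (r₂ T u)) c'.1) :
    ∃! c : PicF.Rig f σ hσ T, PicF.pullCl (v f T u) c.1 = c'.1 := by
  have hsv := sec_v f σ hσ T u
  obtain ⟨⟨L, hLc, hL⟩, htriv⟩ := c'.2
  rw [← hLc] at htriv hglue
  obtain ⟨θ⟩ := H23.PicMul.cl_eq_iff.1 htriv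
  obtain ⟨φ⟩ := H23.PicMul.cl_eq_iff.1 hglue
  obtain ⟨F⟩ := nonempty_frames hL
  obtain ⟨D⟩ := exists_datum f σ hσ ha F φ θ
  obtain ⟨M, hM, ⟨e⟩⟩ := RigDescent.exists_descent D
  have hMv : PicF.pullCl (v f T u) (PicF.cl M) = c'.1 := (H23.PicMul.cl_eq_iff.2 ⟨e⟩).trans hLc
  let secB := PicF.secT f σ hσ T
  obtain ⟨⟨b, hb⟩, hab⟩ := H23.PicMul.exists_inv ⟨PicF.pullCl secB (PicF.cl M), PicClLib.isInvertibleCl_pullCl _ ⟨M, rfl, hM⟩⟩
  let proj := PicF.XTproj f T
  have hub : PicF.pullCl u b = 1 := by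
    have h1 : PicF.pullCl u (PicF.pullCl secB (PicF.cl M)) = 1 := by
      rw [PicClLib.pullCl_comp, ← hsv, ← PicClLib.pullCl_comp, hMv, ← hLc, H23.PicMul.one_def]
      exact htriv
    have h2 := congrArg (PicF.pullCl u) hab
    rw [H23.PicMul.pullCl_mul, H23.PicMul.pullCl_one, h1, mul_one] at h2
    exact h2
  refine ⟨⟨PicF.cl M * PicF.pullCl proj b, H23.PicMul.isInvertibleCl_mul ⟨M, rfl, hM⟩
    (PicClLib.isInvertibleCl_pullCl _ hb), ?_⟩, ?_, ?_⟩
  · show PicF.pullCl secB _ = _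
    rw [H23.PicMul.pullCl_mul, PicClLib.pullCl_comp, sec_proj, PicClLib.pullCl_id, mul_comm]
    exact hab
  · show PicF.pullCl (v f T u) (_ * _) = _
    rw [H23.PicMul.pullCl_mul, hMv, PicClLib.pullCl_comp, (isPullback_v f T u).w, ← PicClLib.pullCl_comp, hub,
      H23.PicMul.pullCl_one, mul_one]
  · intro d hd
    refine Subtype.ext ?_
    show d.1 = PicF.cl M * PicF.pullCl proj b
    set c₁ := PicF.cl M * PicF.pullCl proj b with hc₁
    have hc₁i : PicF.IsInvertibleCl c₁ :=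
      H23.PicMul.isInvertibleCl_mul ⟨M, rfl, hM⟩ (PicClLib.isInvertibleCl_pullCl _ hb)
    obtain ⟨⟨i, hi⟩, hic⟩ := H23.PicMul.exists_inv ⟨c₁, hc₁i⟩
    obtain ⟨N, hNc, hN⟩ := H23.PicMul.isInvertibleCl_mul d.2.1 hi
    have hv : PicF.pullCl (v f T u) (PicF.cl N) = 1 := by
      have h3 : PicF.pullCl (v f T u) c₁ = c'.1 := by
        rw [hc₁, H23.PicMul.pullCl_mul, hMv, PicClLib.pullCl_comp, (isPullback_v f T u).w, ← PicClLib.pullCl_comp,
          hub, H23.PicMul.pullCl_one, mul_one]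
      rw [hNc, H23.PicMul.pullCl_mul, hd, ← h3, ← H23.PicMul.pullCl_mul, mul_comm,
        show i * c₁ = 1 from hic, H23.PicMul.pullCl_one]
    have hs : PicF.pullCl secB (PicF.cl N) = 1 := by
      have h4 : PicF.pullCl secB c₁ = 1 := by
        rw [hc₁, H23.PicMul.pullCl_mul, PicClLib.pullCl_comp, sec_proj, PicClLib.pullCl_id, mul_comm]
        exact hab
      have h5 := congrArg (PicF.pullCl secB) (show i * c₁ = 1 from hic)
      rw [H23.PicMul.pullCl_mul, h4, mul_one, H23.PicMul.pullCl_one] at h5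
      rw [hNc, H23.PicMul.pullCl_mul, h5, mul_one, H23.PicMul.one_def]
      exact d.2.2
    obtain ⟨η⟩ := H23.PicMul.cl_eq_iff.1 hv
    obtain ⟨ψ⟩ := H23.PicMul.cl_eq_iff.1 hs
    have hN1 : PicF.cl N = 1 := H23.PicMul.cl_eq_iff.2 (nonempty_triv f σ hσ ha T u hN η ψ)
    rw [hNc] at hN1
    calc d.1 = d.1 * (i * c₁) := by rw [show i * c₁ = 1 from hic, mul_one]
      _ = (d.1 * i) * c₁ := (mul_assoc _ _ _).symm
      _ = c₁ := by rw [hN1, one_mul]

end Groth.Agent.RigSheaf
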