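import Groth.Agent.Lib.AVKLExist
import Groth.Agent.Lib.AVPoincareCoh
import Groth.Agent.Lib.AVPoincareExist
import Groth.Agent.Lib.RigSheaf
import Groth.Agent.GrpSchLib.GenQuot
import Groth.Agent.GrpSchLib.SmoothQuot
import Groth.Agent.GrpSchLib.HomFinite
import Groth.Agent.QCoh.ProperOver

/-!
The quotient by K(L) carries a separating Poincaré module; the cohomology of the structure sheaf of an abelian variety.
-/

set_option autoImplicit false
set_option linter.style.haveILetI false
set_option linter.unusedSectionVars false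
set_option backward.isDefEq.respectTransparency false
set_option backward.isDefEq.respectTransparency.types false
set_option maxHeartbeats 800000
set_option synthInstance.maxHeartbeats 400000

universe u

open CategoryTheory CategoryTheory.Limits MonoidalCategory CartesianMonoidalCategory MonObj AlgebraicGeometry TopologicalSpace

noncomputable section

namespace Groth.Agent.AVDualExist

open Groth.Agent Groth.Agent.H23 Groth.Agent.AVCube Groth.Agent.AVKLExist
open scoped Groth.Agent.H23.PicMul

variable {k : Type u} [Field k]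

local notation3 "pt₀" => 𝟙_ (Over (Spec (CommRingCat.of k)))

section Mumford

variable {A : Over (Spec (CommRingCat.of k))} [GrpObj A] [IsProper A.hom] [GeometricallyIntegral A.hom]
  {L : A.left.Modules} (hL : PicF.IsInvertible L)

/-- The Mumford class is additive in the point. -/
theorem mum_mul {T : Over (Spec (CommRingCat.of k))} (x y : T ⟶ A) : mum hL (x * y) = mum hL x * mum hL y := by
  have h := cube_rel hL (fst A T) (snd A T ≫ x) (snd A T ≫ y)
  have e1 : pc hL (fst A T * (snd A T ≫ x) * (snd A T ≫ y)) =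
      pc hL (fst A T * (snd A T ≫ x)) * pc hL (fst A T * (snd A T ≫ y)) * pc hL ((snd A T ≫ x) * (snd A T ≫ y)) /
        (pc hL (fst A T) * pc hL (snd A T ≫ x) * pc hL (snd A T ≫ y)) := by
    rw [← h, eq_div_iff_mul_eq']
    ac_rfl
  simp only [mum, MonObj.comp_mul, ← _root_.mul_assoc (fst A T), e1]
  simp only [div_eq_mul_inv, mul_inv_rev, mul_comm, mul_left_comm, _root_.mul_assoc,
    mul_inv_cancel, _root_.mul_one, _root_.one_mul]

/-- The Mumford class is trivial on the unit slice. -/
theorem mum_left {T : Over (Spec (CommRingCat.of k))} (x : T ⟶ A) :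
    Units.map (PicMul.pullHom (lift (1 : T ⟶ A) (𝟙 T)).left : PicF.Cl (A ⊗ T).left →* PicF.Cl T.left) (mum hL x) =
      1 := by
  simp only [mum, map_mul, map_inv, pull_pc, MonObj.comp_mul, lift_fst, lift_snd_assoc, Category.id_comp,
    _root_.one_mul, pc_one, inv_one, _root_.mul_one, mul_inv_cancel]

/-- A point through K(L) has trivial Mumford class. -/
theorem mum_eq_one {T : Over (Spec (CommRingCat.of k))} {x : T ⟶ A} (h : ThetaGrp.IsMumfordTriv A L x) :
    mum hL x = 1 := by
  obtain ⟨M, hM, e⟩ := (mumford_iff_mum hL x).1 h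
  have h1 := congrArg (PicF.pullCl (lift (1 : T ⟶ A) (𝟙 T)).left) e
  rw [PicClLib.pullCl_comp, ← Over.comp_left, lift_snd, Over.id_left, PicClLib.pullCl_id] at h1
  have h2 : PicF.cl M = 1 := h1.trans (congrArg Units.val (mum_left hL x))
  exact Units.ext (by rw [← e, h2, PicMul.pullCl_one]; rfl)

end Mumford

variable [IsAlgClosed k] {A : Over (Spec (CommRingCat.of k))} [GrpObj A] [IsProper A.hom]
  [GeometricallyIntegral A.hom] [Smooth A.hom] [GeometricallyConnected A.hom]

/-- The quotient by the group K(L) of an ample module is an abelian variety of the same dimension. -/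
theorem exists_quot {L : A.left.Modules} (hL : PicF.IsInvertible L) (hamp : CohB1.IsAmple L) :
    ∃ (Q : Over (Spec (CommRingCat.of k))) (_ : GrpObj Q) (q : A ⟶ Q) (_ : IsMonHom q),
      IsProper Q.hom ∧ GeometricallyIntegral Q.hom ∧ Smooth Q.hom ∧ Surjective q.left ∧ Flat q.left ∧
      LocallyOfFinitePresentation q.left ∧ IsFinite q.left ∧
      topologicalKrullDim ↥Q.left = topologicalKrullDim ↥A.left ∧
      (∀ {T : Over (Spec (CommRingCat.of k))} (x y : T ⟶ A), x ≫ q = y ≫ q → mum hL x = mum hL y) ∧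
      ∀ {T : Over (Spec (CommRingCat.of k))} (x : T ⟶ A), mum hL x = 1 → x ≫ q = 1 := by
  obtain ⟨K, i, hK, hKf, hKfin⟩ := exists_KL hL hamp
  obtain ⟨str, him⟩ := exists_grpObj_KL hL hK
  letI := str
  haveI := him
  haveI := hK.closed
  haveI : QuasiCompact A.hom := inferInstance
  haveI : IsCommMonObj A := isCommMonObj_of_isProper_of_geometricallyIntegral _
  obtain ⟨Q, grp, q, hq, hs, hf, hl, hQl, hQqc, hQs, hker, hsq⟩ := GrpSchLib.GenQuot.exists_quot i
    fun T g n => ⟨n, by rw [mul_comm g, mul_inv_cancel_right]⟩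
  letI := grp
  haveI := hq; haveI := hs; haveI := hf; haveI := hl; haveI := hQl; haveI := hQqc; haveI := hQs
  haveI : IsProper (q.left ≫ Q.hom) := by rw [Over.w q]; infer_instance
  haveI : IsProper q.left := IsProper.of_comp q.left Q.hom
  haveI hQp : IsProper Q.hom := by
    exact QCoh.isProper_of_comp_surjective q.left Q.hom
  haveI hQsm : Smooth Q.hom := by
    haveI : Smooth (q.left ≫ Q.hom) := by rw [Over.w q]; infer_instance
    exact GrpSchLib.smooth_of_flat_surjective_algClosed q.left Q.hom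
  haveI : IsIntegral A.left := GeometricallyIntegral.isIntegral_of_subsingleton A.hom
  haveI : ConnectedSpace ↥Q.left := q.left.surjective.connectedSpace q.left.continuous
  haveI : GeometricallyReduced Q.hom := RigidGamma.geometricallyReduced_of_smooth Q.hom
  haveI hQgi : GeometricallyIntegral Q.hom := MaxAbelian.geometricallyIntegral_of_connected Q
  haveI : Finite ↥K.left := hKfin
  haveI : LocallyQuasiFinite q.left := by
    refine GrpSchLib.HomFinite.locallyQuasiFinite_of_finite_preimage q ((Set.finite_range i.left).subset fun x hx => ?_)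
    obtain ⟨w, hw, -⟩ := Scheme.exists_preimage_of_isPullback (hker.map (Over.forget _)) x
      (IsLocalRing.closedPoint k) hx
    exact ⟨w, hw⟩
  haveI hqf : IsFinite q.left := GrpSchLib.HomFinite.isFinite_of_isAlgClosed q
  haveI : IsIntegral Q.left := GeometricallyIntegral.isIntegral_of_subsingleton Q.hom
  have hdim : topologicalKrullDim ↥Q.left = topologicalKrullDim ↥A.left := by
    have hA := VarDim.topologicalKrullDim_eq_deg_genericPoint A.hom
    have hAt := VarDim.topologicalKrullDim_eq_deg_genericPoint Q.hom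
    have h3 := VarDim.deg_eq_add q.left Q.hom (Over.w q) (genericPoint A.left)
    rw [H23.Isogeny.fdeg_eq_zero_of_finite q.left, add_zero] at h3
    have hgen : q.left (genericPoint A.left) = genericPoint Q.left :=
      ((genericPoint_spec A.left).image q.left.continuous).eq (by
        convert genericPoint_spec Q.left using 1
        rw [Set.image_univ, q.left.surjective.range_eq, closure_univ])
    rw [hgen] at h3
    rw [hA, hAt, h3]
  refine ⟨Q, grp, q, hq, hQp, hQgi, hQsm, hs, hf, hl, hqf, hdim, fun {T} x y hxy => ?_, fun {T} x hx => ?_⟩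
  · obtain ⟨w, hw1, hw2⟩ := hsq.exists_lift x y hxy
    rw [GrpSchLib.GenQuot.comp_act, hw2] at hw1
    rw [← hw1, mum_mul, mum_eq_one hL ((hK.univ _ (w ≫ snd A K ≫ i)).2 ⟨w ≫ snd A K, Category.assoc _ _ _⟩), _root_.mul_one]
  · have htr : ThetaGrp.IsMumfordTriv A L x := (mumford_iff_mum hL x).2
      ⟨Coh.structureModule T.left, PicLoc.isInvertible_structureModule _, by
        rw [hx, show PicF.cl (Coh.structureModule T.left) = (1 : PicF.Cl T.left) from rfl, PicMul.pullCl_one]; rfl⟩
    obtain ⟨y, rfl⟩ := (hK.univ _ _).1 htr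
    rw [Category.assoc, hker.w, ← Category.assoc, comp_toUnit, Hom.one_def]

/-- The dual built from an ample module: an isogeny to a variety with a separating Poincaré class pulling back
to the Mumford class. -/
theorem exists_dual {L : A.left.Modules} (hL : PicF.IsInvertible L) (hamp : CohB1.IsAmple L) :
    ∃ (Q : Over (Spec (CommRingCat.of k))) (_ : GrpObj Q) (q : A ⟶ Q) (_ : IsMonHom q)
      (P : (A ⊗ Q).left.Modules), IsProper Q.hom ∧ GeometricallyIntegral Q.hom ∧ Smooth Q.hom ∧
      IsFinite q.left ∧ Flat q.left ∧ Surjective q.left ∧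
      topologicalKrullDim ↥Q.left = topologicalKrullDim ↥A.left ∧ PicF.IsInvertible P ∧
      PicF.pullCl (A ◁ q).left (PicF.cl P) = (mum hL (𝟙 A) : PicF.Cl (A ⊗ A).left) ∧
      AVPoincare.Sep (PicF.cl P : PicF.Cl (A ⊗ Q).left) := by
  obtain ⟨Q, grp, q, hq, hQp, hQgi, hQsm, hs, hf, hl, hqf, hdim, hglue, hker⟩ := exists_quot hL hamp
  letI := grp
  haveI := hq; haveI := hs; haveI := hf; haveI := hl
  let U := AbDual.ovr Q q.left
  let v : U ⟶ Q := AbDual.ovrHom Q q.left
  let z₀ : U ⟶ A := Over.homMk (𝟙 A.left) (by show 𝟙 _ ≫ A.hom = q.left ≫ Q.hom; rw [Category.id_comp, Over.w q])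
  let z₁ : A ⟶ U := Over.homMk (𝟙 A.left) (by show 𝟙 _ ≫ q.left ≫ Q.hom = A.hom; rw [Category.id_comp, Over.w q])
  have hz : z₁ ≫ z₀ = 𝟙 A := Over.OverMorphism.ext (Category.id_comp _)
  have hzq : z₁ ≫ v = q := Over.OverMorphism.ext (Category.id_comp _)
  have hzv : z₀ ≫ q = v := Over.OverMorphism.ext (Category.id_comp _)
  have hinv : PicF.IsInvertibleCl (mum hL z₀ : PicF.Cl (A ⊗ U).left) := by
    obtain ⟨D1, hD1, e1⟩ := inv_pc hL (fst A U)
    obtain ⟨D2, hD2, e2⟩ := inv_pc hL (snd A U ≫ z₀)
    rw [mum, Units.val_mul, Units.val_mul, ← e1, ← e2]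
    exact PicMul.isInvertibleCl_mul (PicMul.isInvertibleCl_mul
      (PicClLib.isInvertibleCl_pullCl _ ⟨L, rfl, hL⟩) ⟨D1, rfl, hD1⟩) ⟨D2, rfl, hD2⟩
  let c' : PicF.Rig A.hom η[A].left (Over.w η[A]) U := ⟨(mum hL z₀ : PicF.Cl (A ⊗ U).left), hinv, by
    rw [AVDual.secT_eq]
    exact congrArg Units.val (mum_left hL z₀)⟩
  have hglue' : PicF.pullCl (PicF.XTmap A.hom (RigDatum.r₁ Q q.left)) c'.1 =
      PicF.pullCl (PicF.XTmap A.hom (RigDatum.r₂ Q q.left)) c'.1 := by
    rw [AVDual.xtMap_eq, AVDual.xtMap_eq]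
    refine (congrArg Units.val (map_mum hL (RigDatum.r₁ Q q.left) z₀)).trans (Eq.trans ?_
      (congrArg Units.val (map_mum hL (RigDatum.r₂ Q q.left) z₀)).symm)
    refine congrArg Units.val (hglue _ _ ?_)
    rw [Category.assoc, Category.assoc, hzv]
    exact Over.OverMorphism.ext pullback.condition
  obtain ⟨c, hc, -⟩ := RigSheaf.existsUnique_rig A.hom η[A].left (Over.w η[A]) AVPoincareExist.isIso_app Q q.left c' hglue'
  obtain ⟨P, hPc, hP⟩ := c.2.1
  have hvc : PicF.pullCl (A ◁ v).left (PicF.cl P) = (mum hL z₀ : PicF.Cl (A ⊗ U).left) := by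
    rw [hPc, ← AVDual.xtMap_eq]
    exact hc
  have hqc : PicF.pullCl (A ◁ q).left (PicF.cl P) = (mum hL (𝟙 A) : PicF.Cl (A ⊗ A).left) := by
    rw [← hzq, whiskerLeft_comp, Over.comp_left, ← PicClLib.pullCl_comp, hvc, ← hz]
    exact congrArg Units.val (map_mum hL z₁ z₀)
  refine ⟨Q, grp, q, hq, P, hQp, hQgi, hQsm, hqf, hf, hs, hdim, hP, hqc, ⟨?_, ?_, fun {T} s hs' => ?_⟩⟩
  · have h := c.2.2
    rw [← hPc, AVDual.secT_eq] at h
    exact h
  · show PicF.pullCl (lift (𝟙 A) (1 : A ⟶ Q)).left (PicF.cl P) = 1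
    rw [show lift (𝟙 A) (1 : A ⟶ Q) = lift (𝟙 A) (1 : A ⟶ A) ≫ (A ◁ q) by
      rw [lift_whiskerLeft, MonObj.one_comp], Over.comp_left, ← PicClLib.pullCl_comp, hqc]
    refine congrArg Units.val (show Units.map (PicMul.pullHom (lift (𝟙 A) (1 : A ⟶ A)).left :
      PicF.Cl (A ⊗ A).left →* PicF.Cl A.left) (mum hL (𝟙 A)) = 1 from ?_)
    simp only [mum, map_mul, map_inv, pull_pc, MonObj.comp_mul, lift_fst, Category.comp_id, lift_snd,
      _root_.mul_one, pc_one, inv_one, mul_inv_cancel]
  · let T' : Over (Spec (CommRingCat.of k)) := AbDual.ovr T (pullback.fst s.left q.left)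
    let π : T' ⟶ T := AbDual.ovrHom T (pullback.fst s.left q.left)
    let a : T' ⟶ A := Over.homMk (pullback.snd s.left q.left) (by
      show pullback.snd s.left q.left ≫ A.hom = pullback.fst s.left q.left ≫ T.hom
      rw [← Over.w q, ← Over.w s, pullback.condition_assoc])
    have haq : π ≫ s = a ≫ q := Over.OverMorphism.ext pullback.condition
    refine RigPoints.hom_ext (fun _ : PUnit.{u + 1} => T') (fun _ => π)
      (fun _ => inferInstanceAs (Flat (pullback.fst s.left q.left)))
      (fun _ => inferInstanceAs (LocallyOfFinitePresentation (pullback.fst s.left q.left)))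
      (fun t => ⟨⟨⟩, (pullback.fst s.left q.left).surjective t⟩) fun _ => ?_
    rw [MonObj.comp_one, haq]
    refine hker a (Units.ext ?_)
    have h1 := congrArg (PicF.pullCl (A ◁ π).left) (show PicF.pullCl (A ◁ s).left (PicF.cl P) = 1 from hs')
    rw [PicMul.pullCl_one, PicClLib.pullCl_comp, ← Over.comp_left, ← whiskerLeft_comp, haq, whiskerLeft_comp,
      Over.comp_left, ← PicClLib.pullCl_comp, hqc] at h1
    have h2 := congrArg Units.val (map_mum hL a (𝟙 A))
    rw [Category.comp_id] at h2
    exact h2.symm.trans h1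

/-- A separating class on the product with a variety of the same dimension. -/
theorem exists_sep {g : ℕ} (hg : topologicalKrullDim ↥A.left = g) :
    ∃ (Q : Over (Spec (CommRingCat.of k))) (_ : GrpObj Q) (P : (A ⊗ Q).left.Modules), IsProper Q.hom ∧
      GeometricallyIntegral Q.hom ∧ Smooth Q.hom ∧ topologicalKrullDim ↥Q.left = g ∧ PicF.IsInvertible P ∧
      AVPoincare.Sep (PicF.cl P : PicF.Cl (A ⊗ Q).left) := by
  obtain ⟨L, hamp⟩ := AVProj.exists_isAmple (X := A)
  obtain ⟨Q, grp, q, -, P, hQp, hQgi, hQsm, -, -, -, hdim, hP, -, hsep⟩ := exists_dual hamp.1 hamp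
  exact ⟨Q, grp, P, hQp, hQgi, hQsm, hdim.trans hg, hP, hsep⟩

/-- **The cohomology of the structure sheaf of an abelian variety.** -/
theorem finrank_HH_structure {g : ℕ} (hg : topologicalKrullDim ↥A.left = g) (p : ℕ) :
    @Module.finrank k (Coh.HH A.left (Coh.structureModule A.left) p) _ _
      (@Coh.moduleOver k _ A.left ⟨A.hom⟩ (Coh.structureModule A.left) p) = g.choose p := by
  obtain ⟨Q, grp, P, hQp, hQgi, hQsm, hQdim, hP, hsep⟩ := exists_sep hg
  letI := grp
  haveI := hQp; haveI := hQgi; haveI := hQsm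
  haveI : HasInjectiveResolutions (A ⊗ Q).left.Modules := KFlatLib.hasInjectiveResolutions_modules
  obtain ⟨V, hV, ho, -⟩ := Q.left.isBasis_affineOpens.exists_subset_of_mem_open
    (a := η[Q].left (IsLocalRing.closedPoint k)) (u := Set.univ) trivial isOpen_univ
  obtain ⟨V', hV', rfl⟩ := hV
  obtain ⟨ψ, -, -, h, -⟩ := AVPoincare.exists_origin_data hP hsep hg hQdim hV' ho
  exact h p

end Groth.Agent.AVDualExist
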