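import Groth.Agent.Lib.AVDual
import Groth.Agent.H23.CubeField
import Groth.Agent.H23.RatExt
import Groth.Agent.Lib.AVAmple

/-!
Classes algebraically equivalent to zero on a product decompose along the factors.
-/

set_option linter.style.haveILetI false
set_option linter.unusedSectionVars false
set_option backward.isDefEq.respectTransparency false
set_option backward.isDefEq.respectTransparency.types false
set_option maxHeartbeats 400000

universe u

open CategoryTheory CategoryTheory.Limits MonoidalCategory CartesianMonoidalCategory MonObj AlgebraicGeometry TopologicalSpace Opposite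

namespace Groth.Agent.AVDecomp

open Groth.Agent.H23 Groth.Agent.H23.TrivBasic Groth.Agent.AVPair
open scoped Groth.Agent.H23.PicMul

variable {k : Type u} [Field k] {A B : Over (Spec (CommRingCat.of k))}

/-- A frame over an open of the base gives triviality over all of its points. -/
theorem fieldTriv_of_frame {X Y : Scheme.{u}} {f : X ⟶ Y} {L : X.Modules} {V : Y.Opens} {s : Γ(L, f ⁻¹ᵁ V)}
    (hs : InvX.IsFrame s) {w : Y} (hw : w ∈ V) : SeesawGlobal.FieldTriv f L w := by
  intro K _ k' hk'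
  let U := f ⁻¹ᵁ V
  have hj : Set.range (pullback.fst f k') ⊆ (U : Set X) := by
    rintro _ ⟨p, rfl⟩
    show f (pullback.fst f k' p) ∈ V
    rw [← Scheme.Hom.comp_apply, pullback.condition, Scheme.Hom.comp_apply,
      Subsingleton.elim (pullback.snd f k' p) (IsLocalRing.closedPoint K), hk']
    exact hw
  obtain ⟨φ⟩ := InvX.nonempty_iso_of_isFrame hs
  have hU : Triv ((Scheme.Modules.pullback U.ι).obj L) :=
    Triv.of_iso ((Scheme.Modules.restrictFunctorIsoPullback U.ι).app _) ⟨φ⟩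
  exact SeesawGlobal.triv_of_factor (IsOpenImmersion.lift U.ι _ (hj.trans_eq U.range_ι.symm))
    (IsOpenImmersion.lift_fac _ _ _) hU

/-- Triviality over a rational point gives triviality on the slice. -/
theorem slice_of_fieldTriv {P T : Over (Spec (CommRingCat.of k))} {c : (P ⊗ T).left.Modules}
    (a : 𝟙_ (Over (Spec (CommRingCat.of k))) ⟶ T)
    (h : SeesawGlobal.FieldTriv (snd P T).left c (a.left (IsLocalRing.closedPoint k))) :
    Triv ((Scheme.Modules.pullback (lift (𝟙 P) (toUnit P ≫ a)).left).obj c) := by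
  refine SeesawGlobal.triv_of_factor
    (pullback.lift (lift (𝟙 P) (toUnit P ≫ a)).left P.hom ?_ : P.left ⟶ pullback (snd P T).left a.left) ?_
    (h k a.left rfl)
  · rw [← Over.comp_left, lift_snd, Over.comp_left]
    rfl
  · rw [pullback.lift_fst]

variable [IsAlgClosed k] [IsProper A.hom] [GeometricallyIntegral A.hom] [IsProper B.hom]
  [GeometricallyIntegral B.hom]

/-- A family trivial on both axes which is trivial at one point of a connected base is trivial at all. -/
theorem slice_const {T : Over (Spec (CommRingCat.of k))} [LocallyOfFiniteType T.hom] [ConnectedSpace T.left]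
    (a : 𝟙_ (Over (Spec (CommRingCat.of k))) ⟶ A) (b : 𝟙_ (Over (Spec (CommRingCat.of k))) ⟶ B)
    {c : PicF.Cl ((A ⊗ B) ⊗ T).left} (hc : PicF.IsInvertibleCl c)
    (hx : pl (lift (toUnit B ≫ a) (𝟙 B) ▷ T) c = 1) (hy : pl (lift (𝟙 A) (toUnit A ≫ b) ▷ T) c = 1)
    (t₀ t : 𝟙_ (Over (Spec (CommRingCat.of k))) ⟶ T)
    (h₀ : pl (lift (𝟙 (A ⊗ B)) (toUnit (A ⊗ B) ≫ t₀)) c = 1) :
    pl (lift (𝟙 (A ⊗ B)) (toUnit (A ⊗ B) ≫ t)) c = 1 := by
  obtain ⟨L, rfl, hL⟩ := hc
  let P := A ⊗ B
  let f := (snd P T).left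
  haveI : GeometricallyIntegral P.hom := RatExt.geometricallyIntegral_prod A B
  haveI : IsProper P.hom := inferInstanceAs (IsProper (pullback.fst A.hom B.hom ≫ A.hom))
  haveI : IsProper f := inferInstanceAs (IsProper (pullback.snd P.hom T.hom))
  haveI : Flat f := inferInstanceAs (Flat (pullback.snd P.hom T.hom))
  haveI : GeometricallyIntegral f := inferInstanceAs (GeometricallyIntegral (pullback.snd P.hom T.hom))
  haveI : IsLocallyNoetherian T.left := LocallyOfFiniteType.isLocallyNoetherian T.hom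
  haveI : JacobsonSpace (Spec (CommRingCat.of k)) := inferInstanceAs (JacobsonSpace (PrimeSpectrum k))
  haveI : JacobsonSpace T.left := LocallyOfFiniteType.jacobsonSpace T.hom
  let G : Set T.left := {w | SeesawGlobal.FieldTriv f L w}
  have hG : IsClosed G := SeesawGlobal.isClosed_fieldTriv f hL
  let O : T.left.Opens := sSup {V : T.left.Opens | (V : Set T.left) ⊆ G}
  have hO : (O : Set T.left) ⊆ G := fun x hx => by
    obtain ⟨V, hV, hxV⟩ := Opens.mem_sSup.1 hx
    exact hV hxV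
  have hnhd : ∀ w ∈ G, IsClosed ({w} : Set T.left) → w ∈ O := by
    intro w hw hwc
    obtain ⟨⟨p, hp⟩, hpw⟩ := (pointEquivClosedPoint T.hom).surjective ⟨w, hwc⟩
    obtain rfl : p (IsLocalRing.closedPoint k) = w := congrArg Subtype.val hpw
    let p' : 𝟙_ (Over (Spec (CommRingCat.of k))) ⟶ T := Over.homMk p hp
    have hs := slice_of_fieldTriv (P := P) p' hw
    obtain ⟨V, hV, s, hsf⟩ := CubeField.exists_frame_near A B T a b p' (Rigid.bijective_appTop A.hom)
      (Rigid.bijective_appTop B.hom) L hL ((triv_iff _).2 hx) ((triv_iff _).2 hy) hs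
    exact Opens.mem_sSup.2 ⟨V, fun v hv => fieldTriv_of_frame hsf hv, hV⟩
  have hGO : G = O := by
    refine (Set.Subset.antisymm (fun w hw => ?_) hO)
    by_contra hwO
    obtain ⟨v, ⟨hvG, hvO⟩, hv⟩ := nonempty_inter_closedPoints (Z := G \ O) ⟨w, hw, hwO⟩
      ((hG.sdiff O.isOpen).isLocallyClosed)
    exact hvO (hnhd v hvG hv)
  have hmem : G = Set.univ := IsClopen.eq_univ ⟨hG, hGO ▸ O.isOpen⟩
    ⟨_, AVAmple.fieldTriv_of_slice P T hL t₀ ((triv_iff _).2 h₀)⟩
  exact (triv_iff _).1 (slice_of_fieldTriv t (hmem.symm ▸ Set.mem_univ _ : _ ∈ G))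

/-- A class algebraically equivalent to zero on a product is the product of its restrictions to the factors. -/
theorem decomp (a : 𝟙_ (Over (Spec (CommRingCat.of k))) ⟶ A) (b : 𝟙_ (Over (Spec (CommRingCat.of k))) ⟶ B)
    {L : (A ⊗ B).left.Modules} (hL : PicF.IsInvertible L)
    (h : @Pic13.IsAlgEquivZero k _ (A ⊗ B).left ⟨(A ⊗ B).hom⟩ L) :
    PicF.cl L = pl (fst A B ≫ lift (𝟙 A) (toUnit A ≫ b)) (PicF.cl L) *
      pl (snd A B ≫ lift (toUnit B ≫ a) (𝟙 B)) (PicF.cl L) := by
  obtain ⟨T, q, hconn, hlft, -, M, hM, t, t₀, ht, ht₀, e, e₀⟩ := h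
  let T' : Over (Spec (CommRingCat.of k)) := Over.mk q
  haveI : LocallyOfFiniteType T'.hom := hlft
  haveI : ConnectedSpace T'.left := hconn
  let P := A ⊗ B
  let τ : 𝟙_ (Over (Spec (CommRingCat.of k))) ⟶ T' := Over.homMk t ht
  let τ₀ : 𝟙_ (Over (Spec (CommRingCat.of k))) ⟶ T' := Over.homMk t₀ ht₀
  let m : PicF.Cl (P ⊗ T').left := PicF.cl (M : (P ⊗ T').left.Modules)
  have hm : PicF.IsInvertibleCl m := ⟨_, rfl, hM⟩
  have hs : pl (lift (𝟙 P) (toUnit P ≫ τ)) m = PicF.cl L := (PicGrp.cl_eq_cl_iff _ _).2 e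
  have hs₀ : pl (lift (𝟙 P) (toUnit P ≫ τ₀)) m = 1 := (PicGrp.cl_eq_cl_iff _ _).2 e₀
  let u : P ⟶ P := fst A B ≫ lift (𝟙 A) (toUnit A ≫ b)
  let v : P ⟶ P := snd A B ≫ lift (toUnit B ≫ a) (𝟙 B)
  let w : P ⟶ P := toUnit P ≫ lift a b
  obtain ⟨d, hd, hdd⟩ := exists_inv (PicMul.isInvertibleCl_mul (isInv_pl (u ▷ T') hm) (isInv_pl (v ▷ T') hm))
  let N := m * pl (w ▷ T') m * d
  have hN : PicF.IsInvertibleCl N := PicMul.isInvertibleCl_mul (PicMul.isInvertibleCl_mul hm (isInv_pl _ hm)) hd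
  have key : ∀ {S : Over (Spec (CommRingCat.of k))} (φ : S ⟶ P ⊗ T'),
      pl φ N = 1 ↔ pl φ m * pl (φ ≫ w ▷ T') m = pl (φ ≫ u ▷ T') m * pl (φ ≫ v ▷ T') m := by
    intro S φ
    have h1 : pl (φ ≫ u ▷ T') m * pl (φ ≫ v ▷ T') m * pl φ d = 1 := by
      have := congrArg (pl φ) hdd
      simpa only [map_mul, map_one, pl_pl] using this
    rw [show pl φ N = pl φ m * pl (φ ≫ w ▷ T') m * pl φ d by simp only [N, map_mul, pl_pl]]
    exact ⟨fun h => eq_of_mul_inv h1 h, fun h => by rw [h, h1]⟩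
  have hx : pl (lift (toUnit B ≫ a) (𝟙 B) ▷ T') N = 1 := by
    rw [key, ← comp_whiskerRight, ← comp_whiskerRight, ← comp_whiskerRight]
    rw [show lift (toUnit B ≫ a) (𝟙 B) ≫ u = lift (toUnit B ≫ a) (𝟙 B) ≫ w from by
        simp only [u, w, lift_fst_assoc, Category.assoc]
        rw [← Category.assoc _ (toUnit P), toUnit_unique (_ ≫ toUnit P) (toUnit B), comp_lift, Category.comp_id,
          ← Category.assoc, toUnit_unique (a ≫ toUnit A) (𝟙 _), Category.id_comp],
      show lift (toUnit B ≫ a) (𝟙 B) ≫ v = lift (toUnit B ≫ a) (𝟙 B) from by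
        simp only [v, lift_snd_assoc, Category.id_comp], mul_comm]
  have hy : pl (lift (𝟙 A) (toUnit A ≫ b) ▷ T') N = 1 := by
    rw [key, ← comp_whiskerRight, ← comp_whiskerRight, ← comp_whiskerRight]
    rw [show lift (𝟙 A) (toUnit A ≫ b) ≫ u = lift (𝟙 A) (toUnit A ≫ b) from by
        simp only [u, lift_fst_assoc, Category.id_comp],
      show lift (𝟙 A) (toUnit A ≫ b) ≫ v = lift (𝟙 A) (toUnit A ≫ b) ≫ w from by
        simp only [v, w, lift_snd_assoc, Category.assoc]
        rw [← Category.assoc _ (toUnit P), toUnit_unique (_ ≫ toUnit P) (toUnit A), comp_lift, Category.comp_id,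
          ← Category.assoc, toUnit_unique (b ≫ toUnit B) (𝟙 _), Category.id_comp]]
  have hsl : ∀ (z : P ⟶ P) (p : 𝟙_ (Over (Spec (CommRingCat.of k))) ⟶ T'),
      pl (lift (𝟙 P) (toUnit P ≫ p) ≫ z ▷ T') m = pl z (pl (lift (𝟙 P) (toUnit P ≫ p)) m) := fun z p => by
    rw [pl_pl z, lift_whiskerRight, comp_lift, Category.id_comp, Category.comp_id, comp_toUnit_assoc]
  have h₀ : pl (lift (𝟙 P) (toUnit P ≫ τ₀)) N = 1 := by
    rw [key, hsl, hsl, hsl, hs₀, map_one, map_one, map_one]
  have hfin := slice_const a b hN hx hy τ₀ τ h₀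
  rw [key, hsl, hsl, hsl, hs,
    show pl w (PicF.cl L) = 1 from pl_const ⟨L, rfl, hL⟩ _, _root_.mul_one] at hfin
  exact hfin

/-- Classes algebraically equivalent to zero on an abelian variety are additive. -/
theorem additive [GrpObj A] {L : A.left.Modules} (hL : PicF.IsInvertible L)
    (h : @Pic13.IsAlgEquivZero k _ A.left ⟨A.hom⟩ L) {T : Over (Spec (CommRingCat.of k))} (f g : T ⟶ A) :
    pl (f * g) (PicF.cl L) = pl f (PicF.cl L) * pl g (PicF.cl L) := by
  let φ : A ⊗ A ⟶ A := fst A A * snd A A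
  have hd : PicF.cl ((Scheme.Modules.pullback φ.left).obj L) = pl (fst A A) (PicF.cl L) * pl (snd A A) (PicF.cl L) := by
    rw [decomp η[A] η[A] (PicClLib.isInvertible_pullback φ.left hL)
      (AVDual.algEquivZero_pullback A.hom (A ⊗ A).hom φ.left (Over.w φ) h)]
    show pl _ (pl φ (PicF.cl L)) * pl _ (pl φ (PicF.cl L)) = _
    rw [pl_pl, pl_pl]
    congr 2 <;> simp [φ, MonObj.comp_mul, MonObj.comp_one, ← Hom.one_def]
  have := congrArg (pl (lift f g)) hd
  rw [show PicF.cl ((Scheme.Modules.pullback φ.left).obj L) = pl φ (PicF.cl L) from rfl, map_mul, pl_pl, pl_pl,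
    pl_pl, MonObj.comp_mul, lift_fst, lift_snd] at this
  exact this

end Groth.Agent.AVDecomp
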