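import Groth.Agent.Lib.AbDualBase
import Groth.Agent.S5342

/-!
Classes algebraically equivalent to zero are closed under tensor products.
-/

set_option linter.style.haveILetI false
set_option linter.unusedSectionVars false
set_option backward.isDefEq.respectTransparency false
set_option backward.isDefEq.respectTransparency.types false
set_option maxHeartbeats 400000

universe u

open CategoryTheory CategoryTheory.Limits AlgebraicGeometry

namespace Groth.Agent.AVPicMul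

open Groth.Agent.H23
open scoped Groth.Agent.H23.PicMul

variable {Ω : Type u} [Field Ω] {X : Scheme.{u}} [X.Over (Spec (CommRingCat.of Ω))]

theorem algEquivZero_tensor {L L' : X.Modules} (h : Pic13.IsAlgEquivZero Ω X L)
    (h' : Pic13.IsAlgEquivZero Ω X L') : Pic13.IsAlgEquivZero Ω X (CohB1.tensorMod L L') := by
  obtain ⟨T, q, hc, h2, h3, M, hM, t, t₀, ht, ht₀, ⟨a⟩, ⟨b⟩⟩ := h
  obtain ⟨T', q', hc', h2', h3', M', hM', t', t₀', ht', ht₀', ⟨a'⟩, ⟨b'⟩⟩ := h'
  let T'' := pullback q q'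
  let q'' : T'' ⟶ Spec (CommRingCat.of Ω) := pullback.fst q q' ≫ q
  haveI := hc; haveI := hc'; haveI := h2; haveI := h3; haveI := h2'; haveI := h3'
  haveI : ConnectedSpace ↥T'' := S5342.result Ω T T' q q' t ht
  let p := X ↘ Spec (CommRingCat.of Ω)
  let g : Pic13.prodK Ω X q'' ⟶ Pic13.prodK Ω X q :=
    pullback.lift (pullback.fst p q'') (pullback.snd p q'' ≫ pullback.fst q q') (by
      rw [Category.assoc]; exact pullback.condition)
  let g' : Pic13.prodK Ω X q'' ⟶ Pic13.prodK Ω X q' :=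
    pullback.lift (pullback.fst p q'') (pullback.snd p q'' ≫ pullback.snd q q') (by
      rw [Category.assoc, ← pullback.condition]; exact pullback.condition)
  have key : ∀ (s : Spec (CommRingCat.of Ω) ⟶ T) (s' : Spec (CommRingCat.of Ω) ⟶ T') (hs : s ≫ q = 𝟙 _)
      (hs' : s' ≫ q' = 𝟙 _) {K K' : X.Modules} (_ : Pic13.fibreMod Ω X q s hs M ≅ K)
      (_ : Pic13.fibreMod Ω X q' s' hs' M' ≅ K'),
      ∃ h'' : pullback.lift s s' (hs.trans hs'.symm) ≫ q'' = 𝟙 _,
        PicF.cl (Pic13.fibreMod Ω X q'' (pullback.lift s s' (hs.trans hs'.symm)) h''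
          (CohB1.tensorMod ((Scheme.Modules.pullback g).obj M) ((Scheme.Modules.pullback g').obj M'))) =
        PicF.cl K * PicF.cl K' := by
    intro s s' hs hs' K K' e e'
    refine ⟨by show _ ≫ pullback.fst q q' ≫ q = _; rw [pullback.lift_fst_assoc, hs], ?_⟩
    rw [← (PicGrp.cl_eq_cl_iff _ _).2 ⟨e⟩, ← (PicGrp.cl_eq_cl_iff _ _).2 ⟨e'⟩]
    show PicF.pullCl (Pic13.sliceAt Ω X q'' _ _) (PicF.pullCl g (PicF.cl M) * PicF.pullCl g' (PicF.cl M')) =
      PicF.pullCl (Pic13.sliceAt Ω X q s hs) (PicF.cl M) * PicF.pullCl (Pic13.sliceAt Ω X q' s' hs') (PicF.cl M')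
    rw [PicMul.pullCl_mul, PicClLib.pullCl_comp, PicClLib.pullCl_comp]
    congr 2
    · refine pullback.hom_ext ?_ ?_ <;> simp [Pic13.sliceAt, g, p]
    · refine pullback.hom_ext ?_ ?_ <;> simp [Pic13.sliceAt, g', p]
  obtain ⟨k1, e1⟩ := key t t' ht ht' a a'
  obtain ⟨k0, e0⟩ := key t₀ t₀' ht₀ ht₀' b b'
  refine ⟨T'', q'', inferInstance, inferInstance, inferInstance, _,
    PicMul.isInvertible_tensor (PicClLib.isInvertible_pullback g hM) (PicClLib.isInvertible_pullback g' hM'),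
    _, _, k1, k0, (PicGrp.cl_eq_cl_iff _ _).1 e1, (PicGrp.cl_eq_cl_iff _ _).1 (e0.trans ?_)⟩
  exact _root_.one_mul (1 : PicF.Cl X)

variable {S : Scheme.{u}} {A T : Over S}

/-- Pic⁰ classes are closed under products. -/
theorem pz_mul {c d : PicF.Cl (PicF.XT A.hom T)} (hc : AbDual.IsPicZeroCl A.hom T c)
    (hd : AbDual.IsPicZeroCl A.hom T d) : AbDual.IsPicZeroCl A.hom T (c * d) := by
  obtain ⟨L, rfl, hL, hLt⟩ := hc
  obtain ⟨N, rfl, hN, hNt⟩ := hd
  refine ⟨CohB1.tensorMod L N, rfl, PicMul.isInvertible_tensor hL hN, fun t Ω _ _ σ hσ => ?_⟩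
  letI : (pullback (PicF.XTproj A.hom T) σ).Over (Spec (CommRingCat.of Ω)) := ⟨pullback.snd _ σ⟩
  refine AVDual.algEquivZero_of_iso ((PicGrp.cl_eq_cl_iff _ _).1 ?_).some.symm
    (algEquivZero_tensor (hLt t Ω σ hσ) (hNt t Ω σ hσ))
  exact PicMul.pullCl_mul (pullback.fst (PicF.XTproj A.hom T) σ) (PicF.cl L) (PicF.cl N)

end Groth.Agent.AVPicMul
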