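import Groth.Agent.Lib.AVPhiSurj
import Groth.Agent.Lib.AVDecomp
import Groth.Agent.Lib.AVPicMul
import Groth.Agent.Lib.AVProj
import Groth.Agent.AmpleX.Pow
import Groth.Agent.AmpleVan.Components
import Groth.Agent.S12002
import Groth.Agent.AVTors.Card

/-!
Consequences of the surjectivity onto translation invariant classes.
-/

set_option autoImplicit false
set_option linter.style.haveILetI false
set_option linter.unusedSectionVars false
set_option backward.isDefEq.respectTransparency false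
set_option backward.isDefEq.respectTransparency.types false
set_option maxHeartbeats 1000000
set_option synthInstance.maxHeartbeats 400000

universe u

open CategoryTheory CategoryTheory.Limits MonoidalCategory CartesianMonoidalCategory MonObj AlgebraicGeometry TopologicalSpace Opposite

noncomputable section

namespace Groth.Agent.AVPhiApp

open Groth.Agent Groth.Agent.H23 Groth.Agent.AVPair
open scoped Groth.Agent.H23.PicMul

/-- A section generating at a point is nonzero. -/
theorem ne_zero_of_mem_genLocus {X : Scheme.{u}} {L : X.Modules} {s : Coh.structureModule X ⟶ L} {x : X}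
    (hx : x ∈ CohB1.genLocus L s) : s ≠ 0 := by
  rintro rfl
  obtain ⟨U, hU, hxU⟩ : ∃ U : X.Opens,
      IsIso ((Scheme.Modules.restrictFunctor U.ι).map (0 : Coh.structureModule X ⟶ L)) ∧ x ∈ U := by
    obtain ⟨U, hU, hxU⟩ := Opens.mem_sSup.1 hx
    exact ⟨U, hU, hxU⟩
  haveI := hU
  have hz : IsZero ((Scheme.Modules.restrictFunctor U.ι).obj (Coh.structureModule X)) := (IsZero.iff_id_eq_zero _).2
    ((IsIso.hom_inv_id ((Scheme.Modules.restrictFunctor U.ι).map (0 : Coh.structureModule X ⟶ L))).symm.trans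
      ((congrArg (· ≫ inv ((Scheme.Modules.restrictFunctor U.ι).map (0 : Coh.structureModule X ⟶ L)))
        (Functor.map_zero _ _ _)).trans zero_comp))
  have h1 : Subsingleton Γ((Scheme.Modules.restrictFunctor U.ι).obj (Coh.structureModule X), ⊤) :=
    AVVanish.subsingleton_sections_of_isZero hz
  have h2 : Subsingleton Γ(X, U.ι ''ᵁ ⊤) := h1
  rw [Scheme.Opens.ι_image_top] at h2
  have h3 := congrArg (X.presheaf.germ U x hxU) (Subsingleton.elim (1 : Γ(X, U)) 0)
  rw [map_one, map_zero] at h3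
  exact one_ne_zero h3

variable {k : Type u} [Field k] {A : Over (Spec (CommRingCat.of k))} [GrpObj A] [IsProper A.hom]
  [GeometricallyIntegral A.hom]

local notation3 "pt₀" => 𝟙_ (Over (Spec (CommRingCat.of k)))

/-- Translates differ by classes algebraically equivalent to zero. -/
theorem algEquivZero_translate {L M : A.left.Modules} (hL : PicF.IsInvertible L) (hM : PicF.IsInvertible M)
    (hLM : Nonempty (CohB1.tensorMod L M ≅ Coh.structureModule A.left)) (g : pt₀ ⟶ A) :
    @Pic13.IsAlgEquivZero k _ A.left ⟨A.hom⟩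
      (CohB1.tensorMod ((Scheme.Modules.pullback (𝟙 A * (toUnit A ≫ g)).left).obj L) M) := by
  haveI : IsIntegral A.left := GeometricallyIntegral.isIntegral_of_subsingleton A.hom
  let N : (A ⊗ A).left.Modules := CohB1.tensorMod ((Scheme.Modules.pullback (fst A A * snd A A).left).obj L)
    ((Scheme.Modules.pullback (fst A A).left).obj M)
  have hN : PicF.IsInvertible N :=
    PicMul.isInvertible_tensor (PicClLib.isInvertible_pullback _ hL) (PicClLib.isInvertible_pullback _ hM)
  have hs : ∀ p : pt₀ ⟶ A, pl (lift (𝟙 A) (toUnit A ≫ p)) (PicF.cl N) =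
      pl (𝟙 A * (toUnit A ≫ p)) (PicF.cl L) * PicF.cl M := fun p => by
    show pl _ (pl (fst A A * snd A A) (PicF.cl L) * pl (fst A A) (PicF.cl M)) = _
    rw [map_mul, pl_pl, pl_pl, MonObj.comp_mul, lift_fst, lift_snd, pl_id]
  refine ⟨A.left, A.hom, inferInstance, inferInstance, inferInstance, N, hN, g.left, η[A].left, Over.w g,
    Over.w η[A], ?_, ?_⟩
  · exact (PicGrp.cl_eq_cl_iff _ _).1 (hs g)
  · refine (PicGrp.cl_eq_cl_iff _ _).1 ((hs η[A]).trans ?_)
    rw [← Hom.one_def, _root_.mul_one, pl_id]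
    exact (PicGrp.cl_eq_cl_iff _ _).2 hLM

variable [IsAlgClosed k]

/-- Classes algebraically equivalent to zero are translation invariant. -/
theorem invariant_of_algEquivZero {M : A.left.Modules} (hM : PicF.IsInvertible M)
    (h : @Pic13.IsAlgEquivZero k _ A.left ⟨A.hom⟩ M) (a : pt₀ ⟶ A) :
    Nonempty ((Scheme.Modules.pullback (𝟙 A * (toUnit A ≫ a)).left).obj M ≅ M) := by
  refine (PicGrp.cl_eq_cl_iff _ _).1 ?_
  show pl (𝟙 A * (toUnit A ≫ a)) (PicF.cl M) = PicF.cl M
  rw [AVDecomp.additive hM h, pl_id, pl_const ⟨M, rfl, hM⟩, _root_.mul_one]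

/-- Translation invariant classes come from the translates of an ample class. -/
theorem exists_translate_ample {H : A.left.Modules} (hH : CohB1.IsAmple H) {M : A.left.Modules}
    (hM : PicF.IsInvertible M)
    (hM0 : ∀ a : pt₀ ⟶ A, Nonempty ((Scheme.Modules.pullback (𝟙 A * (toUnit A ≫ a)).left).obj M ≅ M)) :
    ∃ x : pt₀ ⟶ A,
      Nonempty (CohB1.tensorMod M H ≅ (Scheme.Modules.pullback (𝟙 A * (toUnit A ≫ x)).left).obj H) :=
  AVPhiSurj.exists_translate hH.1 hM (S12002.result k A H hH) hM0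

/-- Translation invariant classes are algebraically equivalent to zero. -/
theorem algEquivZero_of_invariant {M : A.left.Modules} (hM : PicF.IsInvertible M)
    (hM0 : ∀ a : pt₀ ⟶ A, Nonempty ((Scheme.Modules.pullback (𝟙 A * (toUnit A ≫ a)).left).obj M ≅ M)) :
    @Pic13.IsAlgEquivZero k _ A.left ⟨A.hom⟩ M := by
  obtain ⟨H, hH⟩ := AVProj.exists_isAmple (X := A)
  obtain ⟨x, hx⟩ := exists_translate_ample hH hM hM0
  obtain ⟨D, hD, hHD⟩ := PicInv.exists_inverse hH.1
  obtain ⟨T, q, h1, h2, h3, N, hN, t, t₀, ht, ht₀, e, e₀⟩ := algEquivZero_translate hH.1 hD hHD x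
  refine ⟨T, q, h1, h2, h3, N, hN, t, t₀, ht, ht₀,
    (PicGrp.cl_eq_cl_iff _ _).1 (((PicGrp.cl_eq_cl_iff _ _).2 e).trans ?_), e₀⟩
  rw [PicMul.cl_tensor, ← (PicGrp.cl_eq_cl_iff _ _).2 hx, PicMul.cl_tensor, _root_.mul_assoc,
    show PicF.cl H * PicF.cl D = 1 from (PicGrp.cl_eq_cl_iff (CohB1.tensorMod H D) _).2 hHD, _root_.mul_one]

/-- A class with a translation invariant power is translation invariant. -/
theorem invariant_of_pow {M : A.left.Modules} (hM : PicF.IsInvertible M) {n : ℕ} (hn : 0 < n)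
    (h : ∀ a : pt₀ ⟶ A, Nonempty ((Scheme.Modules.pullback (𝟙 A * (toUnit A ≫ a)).left).obj
      (CohB1.tensorPow M n) ≅ CohB1.tensorPow M n)) (a : pt₀ ⟶ A) :
    Nonempty ((Scheme.Modules.pullback (𝟙 A * (toUnit A ≫ a)).left).obj M ≅ M) := by
  open AVCube in
  haveI : IsCommMonObj A := isCommMonObj_of_isProper_of_geometricallyIntegral A
  -- `a ↦ t_a^* M ⊗ M⁻¹` is additive and killed by `n`
  let g : (pt₀ ⟶ A) → (PicF.Cl A.left)ˣ := fun c =>
    pc hM (𝟙 A * (toUnit A ≫ c)) * (pc hM (𝟙 A))⁻¹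
  have hadd : ∀ c d, g (c * d) = g c * g d := fun c d => by
    have h1 := cube_rel hM (𝟙 A) (toUnit A ≫ c) (toUnit A ≫ d)
    rw [pc_const, pc_const, _root_.mul_one, _root_.mul_one, ← MonObj.comp_mul] at h1
    rw [pc_const, _root_.mul_one, _root_.mul_assoc, ← MonObj.comp_mul] at h1
    simp only [g]
    rw [show pc hM (𝟙 A * (toUnit A ≫ (c * d))) =
        pc hM (𝟙 A * (toUnit A ≫ c)) * pc hM (𝟙 A * (toUnit A ≫ d)) * (pc hM (𝟙 A))⁻¹ from
      eq_mul_inv_iff_mul_eq.2 h1]
    ac_rfl
  obtain ⟨b, rfl⟩ := AVTors.exists_root n hn a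
  let gh : (pt₀ ⟶ A) →* (PicF.Cl A.left)ˣ := MonoidHom.mk' g hadd
  have h2 : g b ^ n = 1 := by
    simp only [g, mul_pow, inv_pow]
    rw [mul_inv_eq_one]
    refine Units.ext ?_
    rw [Units.val_pow_eq_pow_val, Units.val_pow_eq_pow_val, val_pc_id, val_pc', ← PicMul.cl_tensorPow]
    have := (PicGrp.cl_eq_cl_iff _ _).2 (h b)
    rw [show PicF.cl ((Scheme.Modules.pullback (𝟙 A * (toUnit A ≫ b)).left).obj (CohB1.tensorPow M n)) =
      PicMul.pullHom (𝟙 A * (toUnit A ≫ b)).left (PicF.cl (CohB1.tensorPow M n)) from rfl,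
      PicMul.cl_tensorPow, map_pow] at this
    exact this.trans (PicMul.cl_tensorPow M n).symm |>.trans rfl
  have h3 : g (b ^ n) = 1 := (map_pow gh b n).trans h2
  refine (PicGrp.cl_eq_cl_iff _ _).1 ?_
  rw [← val_pc hM, mul_inv_eq_one.1 h3, val_pc_id]

end Groth.Agent.AVPhiApp
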