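import Groth.Agent.Lib.AVDualBC
import Groth.Agent.Lib.AVPhiApp
import Groth.Agent.Lib.AVDualExist
import Groth.Agent.AmpleVan.Components

/-!
Over an algebraically closed field every class algebraically equivalent to zero is the Mumford class of a point.
-/

set_option autoImplicit false
set_option linter.style.haveILetI false
set_option linter.unusedSectionVars false
set_option maxHeartbeats 1000000
set_option synthInstance.maxHeartbeats 400000
set_option backward.isDefEq.respectTransparency false
set_option backward.isDefEq.respectTransparency.types false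

universe u

open CategoryTheory CategoryTheory.Limits AlgebraicGeometry MonoidalCategory CartesianMonoidalCategory MonObj
  TopologicalSpace

noncomputable section

namespace Groth.Agent.AVPointClass

open Groth.Agent Groth.Agent.H23 Groth.Agent.AVCube Groth.Agent.AVKLExist Groth.Agent.AVPair
open scoped Groth.Agent.H23.PicMul CategoryTheory.Obj

variable {k : Type u} [Field k] {A : Over (Spec (CommRingCat.of k))} [GrpObj A] [IsProper A.hom]
  [GeometricallyIntegral A.hom] {L : A.left.Modules} (hL : PicF.IsInvertible L)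

include hL in
/-- **Every class in Pic⁰ over an algebraically closed field is the Mumford class of a point.** -/
theorem exists_point (hamp : CohB1.IsAmple L) {Ω : Type u} [Field Ω] [IsAlgClosed Ω]
    (s : Spec (CommRingCat.of Ω) ⟶ Spec (CommRingCat.of k)) {c : PicF.Cl (A ⊗ Over.mk s).left}
    (hc : AVDual.PZ A (Over.mk s) c) :
    ∃ x : Over.mk s ⟶ A, c = (mum hL x : PicF.Cl (A ⊗ Over.mk s).left) := by
  let S : Over (Spec (CommRingCat.of k)) := Over.mk s
  let A' := Red.bc s A
  haveI : IsProper A'.hom := inferInstanceAs (IsProper (pullback.snd A.hom s))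
  haveI : GeometricallyIntegral A'.hom := inferInstanceAs (GeometricallyIntegral (pullback.snd A.hom s))
  haveI : CompactSpace A'.left := QuasiCompact.compactSpace_of_compactSpace A'.hom
  haveI : IsAffineHom (pullback.fst A.hom s) := by
    haveI : IsAffineHom s := by rw [← Spec.map_preimage s]; infer_instance
    exact MorphismProperty.pullback_fst (P := @IsAffineHom) A.hom s ‹_›
  let H : A'.left.Modules := (Scheme.Modules.pullback (pullback.fst A.hom s)).obj L
  have hH : CohB1.IsAmple H := AmpleVan.FiniteSurj.isAmple_pullback_of_isAffineHom (pullback.fst A.hom s) hamp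
  obtain ⟨M, rfl, hM, hMt⟩ := hc
  have h0 := hMt (IsLocalRing.closedPoint Ω) Ω (𝟙 _) (by
    rw [Set.range_eq_singleton_iff]
    intro z
    exact @Subsingleton.elim (PrimeSpectrum Ω) inferInstance _ _)
  have halg : @Pic13.IsAlgEquivZero Ω _ A'.left ⟨A'.hom⟩ M := by
    let q : A'.left ⟶ pullback (PicF.XTproj A.hom S) (𝟙 (Spec (CommRingCat.of Ω))) :=
      pullback.lift (𝟙 _) A'.hom ((Category.id_comp _).trans (Category.comp_id _).symm)
    refine @AVDual.algEquivZero_of_iso Ω _ _ ⟨A'.hom⟩ _ _ ?_ (AVDual.algEquivZero_pullback _ _ q (pullback.lift_snd _ _ _) h0)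
    exact (Scheme.Modules.pullbackComp _ _).app M ≪≫
      eqToIso (congrArg (fun m => (Scheme.Modules.pullback m).obj M) (pullback.lift_fst _ _ _)) ≪≫
      (Scheme.Modules.pullbackId _).app M
  obtain ⟨x, ⟨ex⟩⟩ := AVPhiApp.exists_translate_ample hH hM (AVPhiApp.invariant_of_algEquivZero hM halg)
  obtain ⟨x', hx'⟩ := AVDualBC.up_surjective (f := s) x
  let z : S ⟶ A := Over.homMk x'.left (by
    show x'.left ≫ A.hom = s
    exact (Over.w x').trans (Category.id_comp s))
  refine ⟨z, ?_⟩
  let a : AVDualBC.dn s A' ⟶ A ⊗ S := Over.homMk (𝟙 A'.left) (by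
    show 𝟙 _ ≫ pullback.fst A.hom s ≫ A.hom = pullback.snd A.hom s ≫ s
    rw [Category.id_comp, pullback.condition])
  have h1 : AVDualBC.up (f := s) (a ≫ fst A S) = 𝟙 A' := by
    refine Over.OverMorphism.ext (pullback.hom_ext ?_ ?_)
    · rw [AVDualBC.up_fst]
      show 𝟙 _ ≫ pullback.fst A.hom s = 𝟙 _ ≫ pullback.fst A.hom s
      rfl
    · exact (Over.w _).trans (Category.id_comp _).symm
  have h2 : AVDualBC.up (f := s) (a ≫ snd A S ≫ z) = toUnit A' ≫ x := by
    refine Over.OverMorphism.ext (pullback.hom_ext ?_ ?_)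
    · rw [AVDualBC.up_fst, ← hx', Over.comp_left _ _ _ (toUnit A'), Category.assoc, AVDualBC.up_fst]
      show 𝟙 _ ≫ pullback.snd A.hom s ≫ x'.left = A'.hom ≫ x'.left
      rw [Category.id_comp]
      rfl
    · exact (Over.w _).trans (Over.w _).symm
  have e : (fst A S * (snd A S ≫ z)).left = (𝟙 A' * (toUnit A' ≫ x)).left ≫ pullback.fst A.hom s := by
    rw [← h1, ← h2, ← AVDualBC.up_mul, AVDualBC.up_fst, ← MonObj.comp_mul]
    exact (Category.id_comp _).symm
  have hpt : (pc hL (snd A S ≫ z) : PicF.Cl (A ⊗ S).left) = 1 := by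
    rw [val_pc]
    show PicF.pullCl ((snd A S).left ≫ z.left) (PicF.cl L) = 1
    rw [← PicClLib.pullCl_comp, AbDualBase.pullCl_point z.left ⟨L, rfl, hL⟩]
    exact PicMul.pullCl_one _
  have hmain : (PicF.cl M : PicF.Cl (A ⊗ S).left) * (pc hL (fst A S) : PicF.Cl (A ⊗ S).left) =
      (pc hL (fst A S * (snd A S ≫ z)) : PicF.Cl (A ⊗ S).left) := by
    rw [val_pc, val_pc]
    have e' := (PicGrp.cl_eq_cl_iff _ _).2 ⟨ex⟩
    rw [PicMul.cl_tensor] at e'
    refine e'.trans ?_
    show PicF.pullCl (𝟙 A' * (toUnit A' ≫ x)).left (PicF.pullCl (pullback.fst A.hom s) (PicF.cl L)) =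
      PicF.pullCl (fst A S * (snd A S ≫ z)).left (PicF.cl L)
    rw [PicClLib.pullCl_comp, e]
  have hu : (pc hL (snd A S ≫ z)) = 1 := Units.ext hpt
  rw [mum, hu, inv_one, _root_.mul_one]
  exact Units.eq_mul_inv_iff_mul_eq _ |>.2 hmain

end Groth.Agent.AVPointClass
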