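import Groth.Agent.Lib.AVClassify
import Groth.Agent.Lib.AVPointClass
import Groth.Agent.Lib.AVPoincareExist
import Groth.Agent.Lib.AVPicZero

/-!
Over an algebraically closed field any dual of an abelian variety is an abelian variety of the same dimension.
-/

set_option autoImplicit false
set_option linter.style.haveILetI false
set_option linter.unusedSectionVars false
set_option maxHeartbeats 1000000
set_option synthInstance.maxHeartbeats 400000
set_option backward.isDefEq.respectTransparency false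
set_option backward.isDefEq.respectTransparency.types false

universe u

open CategoryTheory CategoryTheory.Limits AlgebraicGeometry MonoidalCategory CartesianMonoidalCategory MonObj
  TopologicalSpace

noncomputable section

namespace Groth.Agent.AVDualStruct

open Groth.Agent Groth.Agent.H23 Groth.Agent.AVPair Groth.Agent.AVKLExist
open scoped Groth.Agent.H23.PicMul

variable {k : Type u} [Field k] [IsAlgClosed k] {A : Over (Spec (CommRingCat.of k))} [GrpObj A] [IsProper A.hom]
  [GeometricallyIntegral A.hom] {g : ℕ} (hA : topologicalKrullDim ↥A.left = g)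
  {Q : Over (Spec (CommRingCat.of k))} [GrpObj Q] [IsProper Q.hom] [GeometricallyIntegral Q.hom] [Smooth Q.hom]
  (hQ : topologicalKrullDim ↥Q.left = g)
  {P : (A ⊗ Q).left.Modules} (hP : PicF.IsInvertible P) (hs : AVPoincare.Sep (PicF.cl P : PicF.Cl (A ⊗ Q).left))
  {q : A ⟶ Q} {L : A.left.Modules} (hL : PicF.IsInvertible L) (hamp : CohB1.IsAmple L)
  (hq : pl (A ◁ q) (PicF.cl P) = (mum hL (𝟙 A) : PicF.Cl (A ⊗ A).left))

include hA hQ hP hs hL hamp hq in
/-- Rigidified classes in Pic⁰ come from unique points. -/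
theorem existsUnique_classify {T : Over (Spec (CommRingCat.of k))} {c : PicF.Cl (A ⊗ T).left}
    (hc : AVDual.PZ A T c) (hc0 : pl (lift (1 : T ⟶ A) (𝟙 T)) c = 1) :
    ∃! f : T ⟶ Q, pl (A ◁ f) (PicF.cl P) = c := by
  obtain ⟨f, hf⟩ := AVClassify.exists_classify hA hQ hP hs (AVDual.pz_invertible hc) hc0 fun t => by
    let Ω := AlgebraicClosure (T.left.residueField t)
    let σ : Spec (CommRingCat.of Ω) ⟶ T.left :=
      Spec.map (CommRingCat.ofHom (algebraMap (T.left.residueField t) Ω)) ≫ T.left.fromSpecResidueField t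
    let z : Over.mk (σ ≫ T.hom) ⟶ T := Over.homMk σ
    obtain ⟨x, hx⟩ := AVPointClass.exists_point hL hamp (σ ≫ T.hom) (AVDual.pz_pl z hc)
    refine ⟨_, z, x ≫ q, ?_, IsLocalRing.closedPoint Ω, ?_⟩
    · rw [hx, MonoidalCategory.whiskerLeft_comp, ← pl_pl (A ◁ x), hq]
      have h := congrArg Units.val (map_mum hL x (𝟙 A))
      rw [Category.comp_id] at h
      exact h.symm
    · show σ _ = t
      simp only [σ, Scheme.Hom.comp_apply]
      exact Scheme.fromSpecResidueField_apply _ _
  exact ⟨f, hf, fun f' hf' => AVSepClassify.eq_of_slice hP hs (hf'.trans hf.symm)⟩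

variable {At : Over (Spec (CommRingCat.of k))} [GrpObj At] {φ : AgPol.DualMap A At}

include hA hQ hP hs hL hamp hq in
/-- The dual is isomorphic to the target of the separating class. -/
theorem exists_iso (hφ : AbDual.IsDualAV Scheme.fppfPrecoverage A At φ) : Nonempty (At ≅ Q) := by
  haveI : Smooth A.hom := S7795.result A
  haveI : GeometricallyConnected A.hom := CubeAb.geometricallyConnected_of_integral A.hom
  have hPz : AVDual.PZ A Q (PicF.cl P) := AVDual.pz_of_slice η[Q] ⟨P, rfl, hP⟩ (by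
    rw [← Hom.one_def]; exact hs.right)
  have hPr : PicF.IsTrivialCl (PicF.pullCl (PicF.secT A.hom η[A].left (Over.w η[A]) Q) (PicF.cl P)) := by
    rw [AVDual.secT_eq]; exact hs.left
  obtain ⟨E, hE, hξ, hξ1, hξ2⟩ := AVPoincareExist.exists_poincare hφ
  obtain ⟨f, hf, -⟩ := existsUnique_classify hA hQ hP hs hL hamp hq (c := PicF.cl E) hξ (by
    rw [AVDual.secT_eq] at hξ2; exact hξ2)
  let ψ : Q ⟶ At := φ Q (PicF.cl P)
  refine ⟨⟨f, ψ, ?_, ?_⟩⟩
  · show f ≫ φ Q (PicF.cl P) = 𝟙 At
    rw [← AVDual.phi_pl hφ f hPz, hf, hξ1]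
  · refine AVSepClassify.eq_of_slice hP hs ?_
    rw [MonoidalCategory.whiskerLeft_comp, ← pl_pl, hf, MonoidalCategory.whiskerLeft_id, pl_id]
    obtain ⟨c, -, huniq⟩ := AVPoincareExist.existsUnique_rig hφ ψ
    have hξψ : AVDual.PZ A Q (pl (A ◁ ψ) (PicF.cl E)) := AVDual.pz_pl ψ hξ
    have hr : PicF.IsTrivialCl (PicF.pullCl (PicF.secT A.hom η[A].left (Over.w η[A]) Q)
        (pl (A ◁ ψ) (PicF.cl E))) := by
      rw [AVDual.secT_eq]
      show pl (lift (1 : Q ⟶ A) (𝟙 Q)) (pl (A ◁ ψ) (PicF.cl E)) = 1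
      rw [pl_pl, lift_whiskerLeft, Category.id_comp,
        show lift (1 : Q ⟶ A) ψ = ψ ≫ lift (1 : At ⟶ A) (𝟙 At) by rw [comp_lift, MonObj.comp_one, Category.comp_id],
        ← pl_pl]
      rw [AVDual.secT_eq] at hξ2
      rw [show pl (lift (1 : At ⟶ A) (𝟙 At)) (PicF.cl E) = 1 from hξ2, map_one]
    have h1 := huniq ⟨pl (A ◁ ψ) (PicF.cl E), AVDual.pz_invertible hξψ, hr⟩
      ⟨hξψ, by
        show φ Q (pl (A ◁ ψ) (PicF.cl E)) = ψ
        rw [AVDual.phi_pl hφ ψ hξ, hξ1, Category.comp_id]⟩
    have h2 := huniq ⟨PicF.cl P, ⟨P, rfl, hP⟩, hPr⟩ ⟨hPz, rfl⟩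
    exact congrArg Subtype.val (h1.trans h2.symm)

end Groth.Agent.AVDualStruct

namespace Groth.Agent.AVDualStruct

open Groth.Agent.H23

variable {k : Type u} [Field k] [IsAlgClosed k] {A At : Over (Spec (CommRingCat.of k))} [GrpObj A] [IsProper A.hom]
  [GeometricallyIntegral A.hom] [GrpObj At] {φ : AgPol.DualMap A At}

/-- **Over an algebraically closed field a dual of an abelian variety is an abelian variety of the same
dimension.** -/
theorem struct_of_isAlgClosed (hφ : AbDual.IsDualAV Scheme.fppfPrecoverage A At φ) {g : ℕ}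
    (hA : topologicalKrullDim ↥A.left = g) :
    IsProper At.hom ∧ Smooth At.hom ∧ GeometricallyIntegral At.hom ∧ topologicalKrullDim ↥At.left = g := by
  haveI : Smooth A.hom := S7795.result A
  haveI : GeometricallyConnected A.hom := CubeAb.geometricallyConnected_of_integral A.hom
  obtain ⟨L, hamp⟩ := AVProj.exists_isAmple (X := A)
  obtain ⟨Q, grp, q, -, P, hQp, hQgi, hQsm, -, -, -, hdim, hP, hq, hsep⟩ := AVDualExist.exists_dual hamp.1 hamp
  letI := grp
  haveI := hQp; haveI := hQgi; haveI := hQsm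
  obtain ⟨e⟩ := exists_iso hA (hdim.trans hA) hP hsep hamp.1 hamp hq hφ
  have he : At.hom = e.hom.left ≫ Q.hom := (Over.w e.hom).symm
  haveI : IsIso e.hom.left := inferInstanceAs (IsIso ((Over.forget _).map e.hom))
  refine ⟨?_, ?_, ?_, ?_⟩
  · rw [he]; infer_instance
  · rw [he]; infer_instance
  · rw [he]
    exact (MorphismProperty.cancel_left_of_respectsIso @GeometricallyIntegral _ _).2 hQgi
  · rw [← hA, ← hdim]
    exact IsHomeomorph.topologicalKrullDim_eq _ (Scheme.Hom.homeomorph e.hom.left).isHomeomorph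

end Groth.Agent.AVDualStruct
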