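import Groth.Agent.Lib.AVDecomp
import Groth.Agent.H23.RigidAb
import Groth.Agent.H23.KLBasic
import Groth.Agent.FpqcDescLib.Basic

/-!
The dual of an abelian scheme over a base: transposes are determined on geometric points.
-/

set_option linter.style.haveILetI false
set_option linter.unusedSectionVars false
set_option backward.isDefEq.respectTransparency false
set_option backward.isDefEq.respectTransparency.types false
set_option maxHeartbeats 400000

universe u

open CategoryTheory CategoryTheory.Limits MonoidalCategory CartesianMonoidalCategory MonObj AlgebraicGeometry TopologicalSpace Opposite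

namespace Groth.Agent.AbDualBase

open Groth.Agent.H23 Groth.Agent.H23.TrivBasic
open scoped Groth.Agent.H23.PicMul CategoryTheory.Obj

variable {S : Scheme.{u}}

section Maps

variable {A B C : Over S}

theorem bcMap_fst (f : A ⟶ B) (T : Over S) :
    AbDual.bcMap f T ≫ pullback.fst B.hom T.hom = pullback.fst A.hom T.hom ≫ f.left :=
  pullback.lift_fst _ _ _

theorem bcMap_snd (f : A ⟶ B) (T : Over S) :
    AbDual.bcMap f T ≫ pullback.snd B.hom T.hom = pullback.snd A.hom T.hom :=
  (pullback.lift_snd _ _ _).trans (Category.comp_id _)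

theorem bcMap_comp (f : A ⟶ B) (g : B ⟶ C) (T : Over S) :
    AbDual.bcMap f T ≫ AbDual.bcMap g T = AbDual.bcMap (f ≫ g) T := by
  refine pullback.hom_ext ?_ ?_
  · rw [Category.assoc, bcMap_fst, reassoc_of% (bcMap_fst f T), bcMap_fst, Over.comp_left]
  · rw [Category.assoc, bcMap_snd, bcMap_snd, bcMap_snd]

theorem bcMap_id (T : Over S) : AbDual.bcMap (𝟙 A) T = 𝟙 _ := by
  refine pullback.hom_ext ?_ ?_
  · rw [bcMap_fst, Over.id_left, Category.comp_id, Category.id_comp]
  · rw [bcMap_snd, Category.id_comp]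

theorem xtMap_bcMap (f : A ⟶ B) {T T' : Over S} (g : T' ⟶ T) :
    PicF.XTmap A.hom g ≫ AbDual.bcMap f T = AbDual.bcMap f T' ≫ PicF.XTmap B.hom g := by
  have h1 : PicF.XTmap A.hom g ≫ pullback.fst A.hom T.hom = pullback.fst A.hom T'.hom :=
    (pullback.lift_fst _ _ _).trans (Category.comp_id _)
  have h2 : PicF.XTmap B.hom g ≫ pullback.fst B.hom T.hom = pullback.fst B.hom T'.hom :=
    (pullback.lift_fst _ _ _).trans (Category.comp_id _)
  have h3 : PicF.XTmap A.hom g ≫ pullback.snd A.hom T.hom = pullback.snd A.hom T'.hom ≫ g.left :=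
    pullback.lift_snd _ _ _
  have h4 : PicF.XTmap B.hom g ≫ pullback.snd B.hom T.hom = pullback.snd B.hom T'.hom ≫ g.left :=
    pullback.lift_snd _ _ _
  refine pullback.hom_ext ?_ ?_
  · rw [Category.assoc, Category.assoc, bcMap_fst, reassoc_of% h1, h2, bcMap_fst]
  · rw [Category.assoc, Category.assoc, bcMap_snd, h3, h4, reassoc_of% (bcMap_snd f T')]

theorem pull_bcMap_comp (f : A ⟶ B) (g : B ⟶ C) (T : Over S) (c : PicF.Cl (PicF.XT C.hom T)) :
    PicF.pullCl (AbDual.bcMap f T) (PicF.pullCl (AbDual.bcMap g T) c) = PicF.pullCl (AbDual.bcMap (f ≫ g) T) c := by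
  rw [PicClLib.pullCl_comp, bcMap_comp]

end Maps

section PicZero

variable {A B : Over S}

theorem pz_invertible {T : Over S} {c : PicF.Cl (PicF.XT A.hom T)} (h : AbDual.IsPicZeroCl A.hom T c) :
    PicF.IsInvertibleCl c :=
  let ⟨L, hL, hLi, _⟩ := h; ⟨L, hL, hLi⟩

theorem pz_one (T : Over S) : AbDual.IsPicZeroCl A.hom T (1 : PicF.Cl (PicF.XT A.hom T)) := by
  refine ⟨_, rfl, PicLoc.isInvertible_structureModule _, fun t Ω _ _ σ _ => ?_⟩
  letI : (pullback (PicF.XTproj A.hom T) σ).Over (Spec (CommRingCat.of Ω)) := ⟨pullback.snd _ σ⟩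
  exact AVDual.algEquivZero_of_iso (PicClLib.nonempty_pullback_structureModule _).some.symm
    (AVDual.algEquivZero_structure _)

theorem pz_of_maps {T T' : Over S} (g : T'.left ⟶ T.left) (m : PicF.XT A.hom T' ⟶ PicF.XT B.hom T)
    (hm : m ≫ PicF.XTproj B.hom T = PicF.XTproj A.hom T' ≫ g) {c : PicF.Cl (PicF.XT B.hom T)}
    (h : AbDual.IsPicZeroCl B.hom T c) : AbDual.IsPicZeroCl A.hom T' (PicF.pullCl m c) := by
  obtain ⟨L, rfl, hL, hLt⟩ := h
  refine ⟨_, rfl, PicClLib.isInvertible_pullback _ hL, fun t Ω _ _ σ hσ => ?_⟩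
  have hr : Set.range (σ ≫ g) = {g t} := by
    rw [Scheme.Hom.comp_base, TopCat.coe_comp, Set.range_comp, hσ, Set.image_singleton]
  have h0 := hLt (g t) Ω (σ ≫ g) hr
  let e : pullback (PicF.XTproj A.hom T') σ ⟶ pullback (PicF.XTproj B.hom T) (σ ≫ g) :=
    pullback.lift (pullback.fst _ σ ≫ m) (pullback.snd _ σ) (by
      rw [Category.assoc, hm, pullback.condition_assoc])
  have h1 := AVDual.algEquivZero_pullback _ _ e (pullback.lift_snd _ _ _) h0
  refine @AVDual.algEquivZero_of_iso Ω _ _ ⟨pullback.snd _ σ⟩ _ _ ?_ h1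
  exact (Scheme.Modules.pullbackComp _ _).app L ≪≫
    eqToIso (congrArg (fun m => (Scheme.Modules.pullback m).obj L) (pullback.lift_fst _ _ _)) ≪≫
    ((Scheme.Modules.pullbackComp _ _).app L).symm

theorem pz_xtMap {T T' : Over S} (g : T' ⟶ T) {c : PicF.Cl (PicF.XT B.hom T)}
    (h : AbDual.IsPicZeroCl B.hom T c) : AbDual.IsPicZeroCl B.hom T' (PicF.pullCl (PicF.XTmap B.hom g) c) :=
  pz_of_maps g.left _ (pullback.lift_snd _ _ _) h

theorem pz_bc (f : A ⟶ B) {T : Over S} {c : PicF.Cl (PicF.XT B.hom T)} (h : AbDual.IsPicZeroCl B.hom T c) :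
    AbDual.IsPicZeroCl A.hom T (PicF.pullCl (AbDual.bcMap f T) c) :=
  pz_of_maps (𝟙 _) _ ((bcMap_snd f T).trans (Category.comp_id _).symm) h

/-- Morphisms agreeing fppf locally are equal. -/
theorem hom_ext_locally {T K : Over S} {a b : T ⟶ K} {R : Presieve T.left}
    (hR : R ∈ Scheme.fppfPrecoverage T.left)
    (h : ∀ ⦃U : Scheme.{u}⦄ (v : U ⟶ T.left), R v → AbDual.ovrHom T v ≫ a = AbDual.ovrHom T v ≫ b) : a = b :=
  Over.OverMorphism.ext ((GrothendieckTopology.Subcanonical.isSheaf_of_isRepresentable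
    (J := Scheme.fppfTopology) (yoneda.obj K.left)).isSheafFor _
      (Precoverage.generate_mem_toGrothendieck hR) |>.isSeparatedFor.ext fun _ v hv =>
        (congrArg CommaMorphism.left (h v hv) : v ≫ a.left = v ≫ b.left))

/-- An fppf covering of a geometric point has a section. -/
theorem exists_section {Ω : Type u} [Field Ω] [IsAlgClosed Ω] (σ : Spec (CommRingCat.of Ω) ⟶ S)
    {R : Presieve (Over.mk σ).left} (hR : R ∈ Scheme.fppfPrecoverage (Over.mk σ).left) :
    ∃ (U : Scheme.{u}) (v : U ⟶ (Over.mk σ).left) (_ : R v) (s' : Over.mk σ ⟶ AbDual.ovr (Over.mk σ) v),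
      s' ≫ AbDual.ovrHom (Over.mk σ) v = 𝟙 _ := by
  obtain ⟨J, U, g, rfl⟩ := R.exists_eq_ofArrows
  obtain ⟨hcov, hflat⟩ := (Scheme.ofArrows_mem_precoverage_iff _).1 hR
  obtain ⟨i, p, -⟩ := hcov (IsLocalRing.closedPoint Ω)
  haveI : LocallyOfFiniteType (g i) := by
    haveI : LocallyOfFinitePresentation (g i) := (hflat i).2
    infer_instance
  haveI : JacobsonSpace (Over.mk σ).left := inferInstanceAs (JacobsonSpace (PrimeSpectrum Ω))
  haveI : JacobsonSpace (U i) := LocallyOfFiniteType.jacobsonSpace (g i)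
  obtain ⟨w, -, hw⟩ := nonempty_inter_closedPoints (Z := (Set.univ : Set (U i))) ⟨p, trivial⟩
    isClosed_univ.isLocallyClosed
  obtain ⟨⟨s, hs'⟩, -⟩ := (pointEquivClosedPoint (g i)).surjective ⟨w, hw⟩
  refine ⟨U i, g i, ⟨i⟩, Over.homMk s (by
    show s ≫ g i ≫ σ = σ
    rw [reassoc_of% hs']), Over.OverMorphism.ext hs'⟩

end PicZero

section Dual

variable {A At : Over S} [GrpObj At] {φ : ∀ T : Over S, PicF.Cl (PicF.XT A.hom T) → (T ⟶ At)}
  (hφ : AbDual.IsDualAV Scheme.fppfPrecoverage A At φ)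
include hφ

theorem phi_one (T : Over S) : φ T (1 : PicF.Cl (PicF.XT A.hom T)) = 1 := by
  have := hφ.mul T _ _ (pz_one T) (pz_one T)
  rw [show PicF.cl (CohB1.tensorMod (Coh.structureModule (PicF.XT A.hom T)) (Coh.structureModule (PicF.XT A.hom T))) =
    (1 : PicF.Cl (PicF.XT A.hom T)) from _root_.one_mul (1 : PicF.Cl (PicF.XT A.hom T))] at this
  exact mul_eq_left.mp this.symm

theorem phi_mul {T : Over S} {c d : PicF.Cl (PicF.XT A.hom T)} (hc : AbDual.IsPicZeroCl A.hom T c)
    (hd : AbDual.IsPicZeroCl A.hom T d) : φ T (c * d) = φ T c * φ T d := by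
  obtain ⟨L, rfl, -, -⟩ := id hc
  obtain ⟨M, rfl, -, -⟩ := id hd
  exact hφ.mul T L M hc hd

/-- Maps out of the dual are determined by their values on Pic⁰ classes. -/
theorem dual_hom_ext {K : Over S} {a b : At ⟶ K}
    (h : ∀ (T : Over S) (c : PicF.Cl (PicF.XT A.hom T)), AbDual.IsPicZeroCl A.hom T c → φ T c ≫ a = φ T c ≫ b) :
    a = b := by
  obtain ⟨R, hR, hs⟩ := hφ.relPic.locallySurjective At (𝟙 At)
  refine hom_ext_locally hR fun U v hv => ?_
  obtain ⟨c, hc, hcv⟩ := hs v hv
  rw [Category.comp_id] at hcv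
  rw [← hcv]
  exact h _ c hc

/-- A natural assignment of points to Pic⁰ classes comes from a morphism out of the dual. -/
theorem exists_hom {K : Over S} (E : ∀ T : Over S, PicF.Cl (PicF.XT A.hom T) → (T ⟶ K))
    (hE : ∀ (T T' : Over S) (g : T' ⟶ T) (c : PicF.Cl (PicF.XT A.hom T)), AbDual.IsPicZeroCl A.hom T c →
      E T' (PicF.pullCl (PicF.XTmap A.hom g) c) = g ≫ E T c) :
    ∃ δ : At ⟶ K, ∀ (T : Over S) (c : PicF.Cl (PicF.XT A.hom T)), AbDual.IsPicZeroCl A.hom T c →
      φ T c ≫ δ = E T c := by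
  -- the value only depends on the point
  have hwd : ∀ (T : Over S) (c c' : PicF.Cl (PicF.XT A.hom T)), AbDual.IsPicZeroCl A.hom T c →
      AbDual.IsPicZeroCl A.hom T c' → φ T c = φ T c' → E T c = E T c' := by
    intro T c c' hc hc' e
    obtain ⟨R, hR, h⟩ := hφ.relPic.locallyInjective T c c' hc hc' e
    refine hom_ext_locally hR fun U v hv => ?_
    rw [← hE _ _ _ c hc, ← hE _ _ _ c' hc', h v hv]
  obtain ⟨R, hR, hs⟩ := hφ.relPic.locallySurjective At (𝟙 At)
  obtain ⟨J, U₀, g₀, rfl⟩ := R.exists_eq_ofArrows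
  choose c hc hcv using hs
  have hsh := (GrothendieckTopology.Subcanonical.isSheaf_of_isRepresentable
    (J := Scheme.fppfTopology) (yoneda.obj K.left)).isSheafFor _ (Precoverage.generate_mem_toGrothendieck hR)
  let fam : Presieve.FamilyOfElements (yoneda.obj K.left) (Presieve.ofArrows U₀ g₀) := fun U v hv => (E _ (c v hv)).left
  have hfam : fam.Compatible := by
    intro Y₁ Y₂ Z g₁ g₂ f₁ f₂ h₁ h₂ hcomm
    let W : Over S := Over.mk (g₁ ≫ f₁ ≫ At.hom)
    let a₁ : W ⟶ AbDual.ovr At f₁ := Over.homMk g₁ rfl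
    let a₂ : W ⟶ AbDual.ovr At f₂ := Over.homMk g₂ (by
      show g₂ ≫ f₂ ≫ At.hom = g₁ ≫ f₁ ≫ At.hom
      rw [reassoc_of% hcomm])
    have e : a₁ ≫ E _ (c f₁ h₁) = a₂ ≫ E _ (c f₂ h₂) := by
      rw [← hE _ _ a₁ _ (hc f₁ h₁), ← hE _ _ a₂ _ (hc f₂ h₂)]
      refine hwd W _ _ (pz_xtMap a₁ (hc f₁ h₁)) (pz_xtMap a₂ (hc f₂ h₂)) ?_
      rw [hφ.relPic.natural _ _ a₁ _ (hc f₁ h₁), hφ.relPic.natural _ _ a₂ _ (hc f₂ h₂), hcv, hcv]
      exact Over.OverMorphism.ext (show g₁ ≫ f₁ ≫ 𝟙 _ = g₂ ≫ f₂ ≫ 𝟙 _ by simpa using hcomm)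
    exact congrArg CommaMorphism.left e
  obtain ⟨z, hz, -⟩ := hsh fam hfam
  have hzw : ∀ ⦃U : Scheme.{u}⦄ (v : U ⟶ At.left) (hv : Presieve.ofArrows U₀ g₀ v), v ≫ z = (E _ (c v hv)).left := hz
  let δ : At ⟶ K := Over.homMk z ((GrothendieckTopology.Subcanonical.isSheaf_of_isRepresentable
    (J := Scheme.fppfTopology) (yoneda.obj S)).isSheafFor _
      (Precoverage.generate_mem_toGrothendieck hR) |>.isSeparatedFor.ext fun U v hv => by
        show v ≫ z ≫ K.hom = v ≫ At.hom
        rw [← Category.assoc, hzw v hv, Over.w (E _ (c v hv))]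
        rfl)
  refine ⟨δ, fun T d hd => ?_⟩
  let x := φ T d
  refine hom_ext_locally (Precoverage.mem_coverings_of_isPullback g₀ hR x.left
    (fun i => pullback.fst x.left (g₀ i)) (fun i => pullback.snd x.left (g₀ i))
    fun i => (IsPullback.of_hasPullback _ _)) ?_
  rintro _ _ ⟨i⟩
  let v := g₀ i
  have hv : Presieve.ofArrows U₀ g₀ v := ⟨i⟩
  let p := pullback.fst x.left v
  let q : AbDual.ovr T p ⟶ AbDual.ovr At v := Over.homMk (pullback.snd x.left v) (by
    show pullback.snd x.left v ≫ v ≫ At.hom = p ≫ T.hom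
    rw [← Over.w x, pullback.condition_assoc])
  have hq : q ≫ AbDual.ovrHom At v = AbDual.ovrHom T p ≫ x :=
    Over.OverMorphism.ext pullback.condition.symm
  have hδ : AbDual.ovrHom At v ≫ δ = E _ (c v hv) := Over.OverMorphism.ext (hzw v hv)
  show AbDual.ovrHom T p ≫ x ≫ δ = AbDual.ovrHom T p ≫ E T d
  rw [← reassoc_of% hq, hδ, ← hE _ _ q _ (hc v hv), ← hE _ _ _ d hd]
  refine hwd _ _ _ (pz_xtMap q (hc v hv)) (pz_xtMap _ hd) ?_
  rw [hφ.relPic.natural _ _ q _ (hc v hv), hφ.relPic.natural _ _ _ d hd, hcv, Category.comp_id, hq]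

/-- Geometric points of the dual come from Pic⁰ classes. -/
theorem exists_class {Ω : Type u} [Field Ω] [IsAlgClosed Ω] (σ : Spec (CommRingCat.of Ω) ⟶ S)
    (x : Over.mk σ ⟶ At) : ∃ c : PicF.Cl (PicF.XT A.hom (Over.mk σ)),
      AbDual.IsPicZeroCl A.hom (Over.mk σ) c ∧ φ _ c = x := by
  obtain ⟨R, hR, hs⟩ := hφ.relPic.locallySurjective (Over.mk σ) x
  obtain ⟨U, v, hv, s', hs'⟩ := exists_section σ hR
  obtain ⟨c, hc, hcx⟩ := hs v hv
  refine ⟨_, pz_xtMap s' hc, ?_⟩
  rw [hφ.relPic.natural _ _ s' c hc, hcx, ← Category.assoc, hs', Category.id_comp]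

/-- Pic⁰ classes over a geometric point are determined by their points. -/
theorem eq_of_phi_point {Ω : Type u} [Field Ω] [IsAlgClosed Ω] (σ : Spec (CommRingCat.of Ω) ⟶ S)
    {c c' : PicF.Cl (PicF.XT A.hom (Over.mk σ))} (hc : AbDual.IsPicZeroCl A.hom (Over.mk σ) c)
    (hc' : AbDual.IsPicZeroCl A.hom (Over.mk σ) c') (h : φ _ c = φ _ c') : c = c' := by
  obtain ⟨R, hR, hl⟩ := hφ.relPic.locallyInjective _ c c' hc hc' h
  obtain ⟨U, v, hv, s', hs'⟩ := exists_section σ hR
  have e : PicF.XTmap A.hom s' ≫ PicF.XTmap A.hom (AbDual.ovrHom (Over.mk σ) v) = 𝟙 _ := by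
    rw [← PicClLib.XTmap_comp, hs']
    refine pullback.hom_ext ?_ ?_
    · exact (pullback.lift_fst _ _ _).trans ((Category.comp_id _).trans (Category.id_comp _).symm)
    · exact (pullback.lift_snd _ _ _).trans ((Category.comp_id _).trans (Category.id_comp _).symm)
  have := congrArg (PicF.pullCl (PicF.XTmap A.hom s')) (hl v hv)
  rwa [PicClLib.pullCl_comp, PicClLib.pullCl_comp, e, PicClLib.pullCl_id, PicClLib.pullCl_id] at this

end Dual

section Rigidity

variable {X Y : Over S} [GrpObj X] [IsProper X.hom] [Smooth X.hom] [GeometricallyConnected X.hom]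
  [GrpObj Y]

/-- A pointed map of abelian schemes trivial on geometric points is trivial. -/
theorem eq_one_of_geometric (δ : X ⟶ Y) (h1 : η[X] ≫ δ = η[Y])
    (h : ∀ (Ω : Type u) [Field Ω] [IsAlgClosed Ω] (σ : Spec (CommRingCat.of Ω) ⟶ S) (x : Over.mk σ ⟶ X),
      x ≫ δ = 1) : δ = 1 := by
  haveI : GeometricallyReduced X.hom := RigidGamma.geometricallyReduced_of_smooth X.hom
  rw [RigidAb.eq_toUnit_comp η[X] δ, h1, Hom.one_def]
  refine fun s => ⟨η[Y].left s, fun a ha => ?_⟩
  let Ω := AlgebraicClosure (X.left.residueField a)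
  let j : Spec (CommRingCat.of Ω) ⟶ X.left :=
    Spec.map (CommRingCat.ofHom (algebraMap (X.left.residueField a) Ω)) ≫ X.left.fromSpecResidueField a
  have hj : j (IsLocalRing.closedPoint Ω) = a := X.left.fromSpecResidueField_apply a _
  have e := congrArg CommaMorphism.left (h Ω (j ≫ X.hom) (Over.homMk j rfl))
  rw [Hom.one_def] at e
  have e' : δ.left (j (IsLocalRing.closedPoint Ω)) = η[Y].left (X.hom (j (IsLocalRing.closedPoint Ω))) :=
    congr($e (IsLocalRing.closedPoint Ω))
  rw [hj, ha] at e'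
  exact e'

end Rigidity

section Geometric

variable {A B : Over S} [GrpObj B] {Ω : Type u} [Field Ω] [IsAlgClosed Ω] (σ : Spec (CommRingCat.of Ω) ⟶ S)

theorem map_left_eq (f : A ⟶ B) : ((Over.pullback σ).map f).left = AbDual.bcMap f (Over.mk σ) := by
  refine pullback.hom_ext ?_ ?_
  · simp [AbDual.bcMap, Over.pullback]
  · simp [AbDual.bcMap, Over.pullback]

theorem algEquiv_of_pz {c : PicF.Cl (PicF.XT B.hom (Over.mk σ))} (h : AbDual.IsPicZeroCl B.hom (Over.mk σ) c) :
    ∃ L : ((Over.pullback σ).obj B).left.Modules, PicF.IsInvertible L ∧ c = PicF.cl L ∧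
      @Pic13.IsAlgEquivZero Ω _ ((Over.pullback σ).obj B).left ⟨((Over.pullback σ).obj B).hom⟩ L := by
  obtain ⟨L, rfl, hL, hLt⟩ := h
  haveI : Subsingleton ↥(Spec (CommRingCat.of Ω)) := inferInstanceAs (Subsingleton (PrimeSpectrum Ω))
  let p := PicF.XTproj B.hom (Over.mk σ)
  have hr : Set.range (𝟙 (Spec (CommRingCat.of Ω)) : _ ⟶ _).base = {IsLocalRing.closedPoint Ω} :=
    Set.eq_singleton_iff_unique_mem.2 ⟨⟨_, rfl⟩, fun _ _ => Subsingleton.elim _ _⟩
  have h0 := hLt (IsLocalRing.closedPoint Ω) Ω (𝟙 _) hr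
  let e : pullback B.hom σ ⟶ pullback p (𝟙 (Spec (CommRingCat.of Ω))) := pullback.lift (𝟙 _) p (by simp [p])
  refine ⟨L, hL, rfl, @AVDual.algEquivZero_of_iso Ω _ _ ⟨pullback.snd B.hom σ⟩ _ _ ?_
    (AVDual.algEquivZero_pullback _ (pullback.snd B.hom σ) e (pullback.lift_snd _ _ _) h0)⟩
  exact (Scheme.Modules.pullbackComp _ _).app L ≪≫
    eqToIso (congrArg (fun m => (Scheme.Modules.pullback m).obj L) (pullback.lift_fst _ _ _)) ≪≫
    (Scheme.Modules.pullbackId _).app L

/-- Pic⁰ classes over a geometric point are additive in the homomorphism. -/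
theorem pull_mul [IsProper B.hom] [GeometricallyIntegral ((Over.pullback σ).obj B).hom] (f g : A ⟶ B)
    {c : PicF.Cl (PicF.XT B.hom (Over.mk σ))} (h : AbDual.IsPicZeroCl B.hom (Over.mk σ) c) :
    PicF.pullCl (AbDual.bcMap (f * g) (Over.mk σ)) c =
      PicF.pullCl (AbDual.bcMap f (Over.mk σ)) c * PicF.pullCl (AbDual.bcMap g (Over.mk σ)) c := by
  obtain ⟨L, hL, rfl, hz⟩ := algEquiv_of_pz σ h
  haveI : IsProper ((Over.pullback σ).obj B).hom := inferInstanceAs (IsProper (pullback.snd B.hom σ))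
  rw [← map_left_eq, ← map_left_eq, ← map_left_eq, Functor.map_mul]
  exact AVDecomp.additive hL hz ((Over.pullback σ).map f) ((Over.pullback σ).map g)

theorem pull_one [IsProper B.hom] [GeometricallyIntegral ((Over.pullback σ).obj B).hom]
    {c : PicF.Cl (PicF.XT B.hom (Over.mk σ))} (h : AbDual.IsPicZeroCl B.hom (Over.mk σ) c) :
    PicF.pullCl (AbDual.bcMap (1 : A ⟶ B) (Over.mk σ)) c = 1 := by
  obtain ⟨L, hL, rfl, hz⟩ := algEquiv_of_pz σ h
  rw [← map_left_eq, Functor.map_one, Hom.one_def]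
  exact AVPair.pl_const (T' := (Over.pullback σ).obj A) ⟨L, rfl, hL⟩ η

/-- The geometric fibres of an abelian scheme are abelian varieties. -/
theorem geometricallyIntegral_fibre (X : Over S) [GrpObj X] [IsProper X.hom] [Smooth X.hom]
    [GeometricallyConnected X.hom] : GeometricallyIntegral ((Over.pullback σ).obj X).hom := by
  haveI : IsProper ((Over.pullback σ).obj X).hom := inferInstanceAs (IsProper (pullback.snd X.hom σ))
  haveI : Smooth ((Over.pullback σ).obj X).hom := inferInstanceAs (Smooth (pullback.snd X.hom σ))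
  haveI : GeometricallyConnected ((Over.pullback σ).obj X).hom :=
    inferInstanceAs (GeometricallyConnected (pullback.snd X.hom σ))
  exact AVDual.geometricallyIntegral_of_smooth _

/-- The geometric fibres of the square of an abelian scheme are abelian varieties. -/
theorem geometricallyIntegral_sq (X : Over S) [GrpObj X] [IsProper X.hom] [Smooth X.hom]
    [GeometricallyConnected X.hom] : GeometricallyIntegral ((Over.pullback σ).obj (X ⊗ X)).hom := by
  let G := Over.pullback σ
  haveI := geometricallyIntegral_fibre σ X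
  haveI : IsProper (G.obj X).hom := inferInstanceAs (IsProper (pullback.snd X.hom σ))
  haveI := RatExt.geometricallyIntegral_prod (G.obj X) (G.obj X)
  rw [← Over.w (Functor.Monoidal.μIso G X X).inv]
  exact (MorphismProperty.cancel_left_of_respectsIso @GeometricallyIntegral _ _).2 inferInstance

end Geometric

section Family

variable {A B : Over S}

theorem pullCl_one' {X Y : Scheme.{u}} (f : Y ⟶ X) : PicF.pullCl f (1 : PicF.Cl X) = 1 := PicMul.pullCl_one f

/-- Classes from the base are trivial on a point with values in a field. -/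
theorem pullCl_point {X : Scheme.{u}} {K : Type u} [Field K] (σ : Spec (CommRingCat.of K) ⟶ X) {n : PicF.Cl X}
    (hn : PicF.IsInvertibleCl n) : PicF.pullCl σ n = 1 := by
  haveI : Subsingleton (Spec (CommRingCat.of K)) := inferInstanceAs (Subsingleton (PrimeSpectrum K))
  haveI : Nonempty (Spec (CommRingCat.of K)) := inferInstanceAs (Nonempty (PrimeSpectrum K))
  obtain ⟨N, rfl, hN⟩ := hn
  exact KLBasic.trivial_of_subsingleton (PicClLib.isInvertible_pullback σ hN)

/-- A family over a proper geometrically connected base, trivial along a section up to the base, lies in Pic⁰. -/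
theorem pz_of_slice [IsProper B.hom] [GeometricallyConnected B.hom] (e : 𝟙_ (Over S) ⟶ B)
    {c : PicF.Cl (A ⊗ B).left} (hc : PicF.IsInvertibleCl c) {n : PicF.Cl S} (hn : PicF.IsInvertibleCl n)
    (h : PicF.pullCl (lift (𝟙 A) (toUnit A ≫ e)).left c = PicF.pullCl A.hom n) :
    AbDual.IsPicZeroCl A.hom B c := by
  obtain ⟨L, rfl, hL⟩ := hc
  refine ⟨L, rfl, hL, fun y Ω _ _ σ _ => ?_⟩
  let s := σ ≫ B.hom
  let P := pullback (snd A B).left σ
  let T := pullback B.hom s
  let q : T ⟶ Spec (CommRingCat.of Ω) := pullback.snd B.hom s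
  haveI : ConnectedSpace T :=
    GeometricallyConnected.geometrically_connectedSpace (f := B.hom) s _ _ (.of_hasPullback _ _)
  let t : Spec (CommRingCat.of Ω) ⟶ T := pullback.lift σ (𝟙 _) (Category.id_comp _).symm
  let t₀ : Spec (CommRingCat.of Ω) ⟶ T := pullback.lift (s ≫ e.left) (𝟙 _) (by
    rw [Category.assoc, Over.w e]
    show s ≫ 𝟙 _ = 𝟙 _ ≫ s
    rw [Category.comp_id, Category.id_comp])
  letI : P.Over (Spec (CommRingCat.of Ω)) := ⟨pullback.snd _ σ⟩
  let g : Pic13.prodK Ω P q ⟶ (A ⊗ B).left :=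
    pullback.lift (pullback.fst (P ↘ Spec (CommRingCat.of Ω)) q ≫ pullback.fst (snd A B).left σ ≫ (fst A B).left)
      (pullback.snd (P ↘ Spec (CommRingCat.of Ω)) q ≫ pullback.fst B.hom s) (by
      rw [Category.assoc, Category.assoc, Category.assoc, Over.w (fst A B), ← Over.w (snd A B),
        pullback.condition (f := B.hom)]
      show _ ≫ _ ≫ (snd A B).left ≫ B.hom = _
      rw [pullback.condition_assoc (f := (snd A B).left), ← Category.assoc, ← Category.assoc]
      exact congrArg (· ≫ s) (pullback.condition (f := (P ↘ Spec (CommRingCat.of Ω)))))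
  refine ⟨T, q, inferInstance, inferInstance, inferInstance, (Scheme.Modules.pullback g).obj L,
    PicClLib.isInvertible_pullback g hL, t, t₀, pullback.lift_snd _ _ _, pullback.lift_snd _ _ _, ?_, ?_⟩
  · refine ⟨(Scheme.Modules.pullbackComp _ g).app L ≪≫
      eqToIso (congrArg (fun m => (Scheme.Modules.pullback m).obj L) ?_)⟩
    apply pullback.hom_ext
    · rw [Category.assoc, pullback.lift_fst]
      erw [pullback.lift_fst_assoc]
      rw [Category.id_comp]
      rfl
    · rw [Category.assoc, pullback.lift_snd]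
      erw [pullback.lift_snd_assoc]
      rw [Category.assoc, pullback.lift_fst]
      exact pullback.condition.symm
  · refine (PicGrp.cl_eq_cl_iff _ _).1 ?_
    show PicF.pullCl _ (PicF.pullCl g (PicF.cl L : PicF.Cl (A ⊗ B).left)) = 1
    rw [PicClLib.pullCl_comp]
    have hh : pullback.fst (snd A B).left σ ≫ (fst A B).left ≫ A.hom = pullback.snd _ σ ≫ s := by
      rw [Over.w (fst A B), ← Over.w (snd A B), pullback.condition_assoc]
    refine (congrArg (fun m => PicF.pullCl m (PicF.cl L : PicF.Cl (A ⊗ B).left))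
      (show _ = (pullback.fst (snd A B).left σ ≫ (fst A B).left) ≫ (lift (𝟙 A) (toUnit A ≫ e)).left from ?_)).trans ?_
    rotate_left
    · rw [← PicClLib.pullCl_comp, h, PicClLib.pullCl_comp, Category.assoc, hh, ← PicClLib.pullCl_comp,
        pullCl_point s hn, pullCl_one']
    apply pullback.hom_ext
    · rw [Category.assoc, pullback.lift_fst]
      erw [pullback.lift_fst_assoc]
      rw [Category.id_comp]
      show _ = (_ ≫ (lift (𝟙 A) (toUnit A ≫ e)).left) ≫ (fst A B).left
      rw [Category.assoc _ (lift (𝟙 A) (toUnit A ≫ e)).left, ← Over.comp_left, lift_fst, Over.id_left,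
        Category.comp_id]
    · rw [Category.assoc, pullback.lift_snd]
      erw [pullback.lift_snd_assoc]
      rw [Category.assoc, pullback.lift_fst]
      show _ = (_ ≫ (lift (𝟙 A) (toUnit A ≫ e)).left) ≫ (snd A B).left
      rw [Category.assoc _ (lift (𝟙 A) (toUnit A ≫ e)).left, ← Over.comp_left, lift_snd, Over.comp_left,
        show (toUnit A).left = A.hom from rfl]
      refine Eq.trans ?_ (by rw [Category.assoc, reassoc_of% hh])
      rfl

/-- Classes from the base give the trivial point. -/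
theorem phi_base {At : Over S} [GrpObj At] {φ : ∀ T : Over S, PicF.Cl (PicF.XT A.hom T) → (T ⟶ At)}
    (hφ : AbDual.IsDualAV Scheme.fppfPrecoverage A At φ) {T : Over S} {n : PicF.Cl T.left}
    (hn : PicF.IsInvertibleCl n) (h : AbDual.IsPicZeroCl A.hom T (PicF.pullCl (PicF.XTproj A.hom T) n)) :
    φ T (PicF.pullCl (PicF.XTproj A.hom T) n) = 1 := by
  obtain ⟨N, rfl, hN⟩ := hn
  choose U hU e using hN
  apply Over.OverMorphism.ext
  refine (T.left.openCoverOfIsOpenCover U ?_).hom_ext _ _ fun t => ?_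
  · rw [IsOpenCover, eq_top_iff]
    exact fun x _ => Opens.mem_iSup.2 ⟨x, hU x⟩
  let g := AbDual.ovrHom T (U t).ι
  show g.left ≫ (φ T _).left = g.left ≫ (1 : T ⟶ At).left
  rw [← Over.comp_left, ← Over.comp_left, ← hφ.relPic.natural _ _ g _ h, MonObj.comp_one, PicClLib.pullCl_comp,
    show PicF.XTmap A.hom g ≫ PicF.XTproj A.hom T = PicF.XTproj A.hom (AbDual.ovr T (U t).ι) ≫ g.left from
      pullback.lift_snd _ _ _, ← PicClLib.pullCl_comp,
    show PicF.pullCl g.left (PicF.cl N) = 1 from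
      (PicGrp.cl_eq_cl_iff _ _).2 ⟨((Scheme.Modules.restrictFunctorIsoPullback (U t).ι).app N).symm ≪≫ (e t).some⟩,
    pullCl_one', phi_one hφ]

end Family

/-- An abelian scheme has geometrically integral fibres. -/
theorem geometricallyIntegral_hom (X : Over S) [GrpObj X] [IsProper X.hom] [Smooth X.hom]
    [GeometricallyConnected X.hom] : GeometricallyIntegral X.hom := by
  refine MaxAbelian.geometricallyIntegral_of_pullback _ fun K _ x => ?_
  haveI : IsProper ((Over.pullback x).obj X).hom := inferInstanceAs (IsProper (pullback.snd X.hom x))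
  haveI : Smooth ((Over.pullback x).obj X).hom := inferInstanceAs (Smooth (pullback.snd X.hom x))
  haveI : GeometricallyConnected ((Over.pullback x).obj X).hom :=
    inferInstanceAs (GeometricallyConnected (pullback.snd X.hom x))
  haveI := AVDual.geometricallyIntegral_of_smooth ((Over.pullback x).obj X)
  exact GeometricallyIntegral.isIntegral_of_subsingleton ((Over.pullback x).obj X).hom

end Groth.Agent.AbDualBase
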