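import Groth.Agent.Lib.AVPoincare
import Groth.Agent.Lib.AVEnd0
import Groth.Agent.AVTors.Verschiebung
import Mathlib.RingTheory.Artinian.Module
import Mathlib.RingTheory.Jacobson.Radical

/-!
The rational endomorphism algebra of an abelian variety is semisimple.
-/

set_option autoImplicit false
set_option linter.style.haveILetI false
set_option linter.unusedSectionVars false
set_option backward.isDefEq.respectTransparency false
set_option backward.isDefEq.respectTransparency.types false
set_option maxHeartbeats 1000000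
set_option synthInstance.maxHeartbeats 400000

universe u

open CategoryTheory CategoryTheory.Limits MonoidalCategory CartesianMonoidalCategory MonObj AlgebraicGeometry

noncomputable section

namespace Groth.Agent.AVSemisimple

variable {k : Type u} [Field k]

section Frob

variable {A B : Over (Spec (CommRingCat.of k))} (f : A ⟶ B) (πA : A ⟶ A) (πB : B ⟶ B) (q : ℕ) (p : ℕ) [Fact p.Prime]

/-- The Frobenius is natural. -/
theorem frob_natural [CharP k p] (r : ℕ) (hq : q = p ^ r)
    [GrpObj A] [IsCommMonObj A] [IsProper A.hom] [GeometricallyIntegral A.hom]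
    [GrpObj B] [IsCommMonObj B] [IsProper B.hom] [GeometricallyIntegral B.hom] [IsMonHom πA] [IsMonHom πB]
    (hAle : ∀ U : A.left.Opens, U ≤ πA.left ⁻¹ᵁ U)
    (hA : ∀ (U : A.left.Opens) (s : Γ(A.left, U)), (πA.left.appLE U U (hAle U)).hom s = s ^ q)
    (hBle : ∀ U : B.left.Opens, U ≤ πB.left ⁻¹ᵁ U)
    (hB : ∀ (U : B.left.Opens) (s : Γ(B.left, U)), (πB.left.appLE U U (hBle U)).hom s = s ^ q) :
    πA ≫ f = f ≫ πB := by
  refine Over.OverMorphism.ext ?_
  show πA.left ≫ f.left = f.left ≫ πB.left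
  have key : ∀ x : A.left, ∃ (W : A.left.Opens) (hW : IsAffineOpen W), x ∈ W ∧
      hW.fromSpec ≫ πA.left ≫ f.left = hW.fromSpec ≫ f.left ≫ πB.left := by
    intro x
    obtain ⟨_, ⟨U, hU, rfl⟩, hxU, -⟩ :=
      B.left.isBasis_affineOpens.exists_subset_of_mem_open (Set.mem_univ (f.left x)) isOpen_univ
    obtain ⟨_, ⟨W, hW, rfl⟩, hxW, hWU⟩ :=
      A.left.isBasis_affineOpens.exists_subset_of_mem_open (show x ∈ (f.left ⁻¹ᵁ U : Set A.left) from hxU) (f.left ⁻¹ᵁ U).isOpen
    refine ⟨W, hW, hxW, ?_⟩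
    haveI : CharP Γ(A.left, W) p := by
      haveI : Nontrivial Γ(A.left, W) := by
        haveI : Nonempty W := ⟨⟨x, hxW⟩⟩
        infer_instance
      exact (RingHom.charP_iff
        ((A.hom.appLE ⊤ W le_top).hom.comp (Scheme.ΓSpecIso (CommRingCat.of k)).inv.hom)
        (RingHom.injective _) p).1 inferInstance
    haveI : ExpChar Γ(A.left, W) p := ExpChar.prime Fact.out
    let F : Γ(A.left, W) →+* Γ(A.left, W) := iterateFrobenius _ p r
    have hF : ∀ a, F a = a ^ q := fun a => by rw [hq]; rfl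
    have e1 := AVTors.Verschiebung.comp_eq_of_affine πA q hAle hA F hF hW.fromSpec hW hW.range_fromSpec.le
    have e2 := AVTors.Verschiebung.comp_eq_of_affine πB q hBle hB F hF (hW.fromSpec ≫ f.left) hU (by
      rintro _ ⟨z, rfl⟩
      exact hWU (hW.range_fromSpec ▸ ⟨z, rfl⟩ : hW.fromSpec z ∈ (W : Set A.left)))
    rw [reassoc_of% e1, ← Category.assoc hW.fromSpec f.left, e2]
  choose W hW hxW he using key
  refine (A.left.openCoverOfIsOpenCover W (.mk (eq_top_iff.mpr fun x _ =>
    TopologicalSpace.Opens.mem_iSup.mpr ⟨x, hxW x⟩))).hom_ext _ _ fun x => ?_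
  rw [← cancel_epi (hW x).isoSpec.inv]
  exact he x

end Frob

variable {A : Over (Spec (CommRingCat.of k))} [GrpObj A] [IsCommMonObj A] [IsProper A.hom] [GeometricallyIntegral A.hom]

theorem exists_rep (x : EndAV.End0 A) :
    ∃ (n : ℕ) (φ : EndAV.End A), n ≠ 0 ∧ (n : ℚ) • x = EndAV.toEnd0 φ := by
  induction x using TensorProduct.induction_on with
  | zero => exact ⟨1, 0, one_ne_zero, by rw [Nat.cast_one, one_smul, map_zero]⟩
  | tmul q φ =>
    refine ⟨q.den, q.num • φ, q.den_ne_zero, ?_⟩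
    rw [TensorProduct.smul_tmul', smul_eq_mul, mul_comm, Rat.mul_den_eq_num, EndAV.toEnd0_apply,
      ← TensorProduct.smul_tmul, zsmul_eq_mul, _root_.mul_one]
  | add a b ha hb =>
    obtain ⟨n, φ, hn, h⟩ := ha
    obtain ⟨m, ψ, hm, h'⟩ := hb
    refine ⟨n * m, m • φ + n • ψ, mul_ne_zero hn hm, ?_⟩
    rw [smul_add, map_add, map_nsmul, map_nsmul, ← h, ← h', ← Nat.cast_smul_eq_nsmul ℚ, ← Nat.cast_smul_eq_nsmul ℚ,
      smul_smul, smul_smul, Nat.cast_mul, mul_comm (m : ℚ) (n : ℚ)]

/-- The rational endomorphism algebra is von Neumann regular. -/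
theorem exists_mul_mul (x : EndAV.End0 A) : ∃ y : EndAV.End0 A, x * y * x = x := by
  obtain ⟨n, φ, hn, hx⟩ := exists_rep x
  obtain ⟨y, m, hy, hm, h⟩ := AVPoincare.exists_regular φ.toHom
  haveI := hy
  have e : φ * EndAV.End.of y * φ = m • φ := EndAV.End.ext (by
    rw [EndAV.End.toHom_mul, EndAV.End.toHom_mul, EndAV.End.toHom_nsmul]
    exact h)
  have e0 := congrArg (EndAV.toEnd0 (A := A)) e
  rw [map_mul, map_mul, map_nsmul, ← hx, ← Nat.cast_smul_eq_nsmul ℚ] at e0
  have hn' : (n : ℚ) ≠ 0 := Nat.cast_ne_zero.2 hn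
  have hm' : (m : ℚ) ≠ 0 := Nat.cast_ne_zero.2 hm.ne'
  refine ⟨((n : ℚ) / m) • EndAV.toEnd0 (EndAV.End.of y), ?_⟩
  simp only [smul_mul_assoc, mul_smul_comm, smul_smul] at e0 ⊢
  have e1 := congrArg (fun z => ((n : ℚ) * m)⁻¹ • z) e0
  simp only [smul_smul] at e1
  rw [show ((n : ℚ) * m)⁻¹ * (n * n) = (n : ℚ) / m by field_simp,
    show ((n : ℚ) * m)⁻¹ * (m * n) = 1 by field_simp, one_smul] at e1
  exact e1

/-- The rational endomorphism algebra is semisimple. -/
theorem isSemisimpleRing : IsSemisimpleRing (EndAV.End0 A) := by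
  haveI := AVEnd0.finite_end0 (A := A)
  haveI : IsArtinianRing (EndAV.End0 A) := IsArtinianRing.of_finite ℚ _
  rw [IsArtinianRing.isSemisimpleRing_iff_jacobson, eq_bot_iff]
  intro x hx
  obtain ⟨y, hy⟩ := exists_mul_mul x
  have hu : IsUnit (1 - y * x) := by
    have h1 : y * x ∈ Ring.jacobson (EndAV.End0 A) := Ideal.mul_mem_left _ _ hx
    rw [← Ideal.jacobson_bot] at h1
    obtain ⟨z, hz⟩ := Ideal.exists_mul_sub_mem_of_sub_one_mem_jacobson (1 - y * x) (I := ⊥) (by
      rw [sub_sub_cancel_left]; exact neg_mem h1)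
    have hz' : z * (1 - y * x) = 1 := sub_eq_zero.1 ((Submodule.mem_bot _).1 hz)
    exact IsUnit.of_mul_eq_one_right _ hz'
  have h0 : x * (1 - y * x) = 0 := by rw [mul_sub, _root_.mul_one, ← _root_.mul_assoc, hy, sub_self]
  exact hu.mul_left_eq_zero.1 h0

/-- An algebra generated by a central element of the rational endomorphism algebra is reduced. -/
theorem isReduced_adjoin (π : EndAV.End A) (hc : ∀ φ : EndAV.End A, φ * π = π * φ) :
    IsReduced (EndAV.QAdj π) := by
  have hcen : ∀ a : EndAV.QAdj π, ∀ z : EndAV.End0 A, z * (a : EndAV.End0 A) = a * z := by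
    intro a z
    refine (Algebra.commute_of_mem_adjoin_singleton_of_commute a.2 ?_)
    obtain ⟨n, φ, hn, hz⟩ := exists_rep z
    rw [← inv_smul_smul₀ (Nat.cast_ne_zero.2 hn : (n : ℚ) ≠ 0) z, hz]
    exact Commute.smul_left (show EndAV.toEnd0 φ * EndAV.toEnd0 π = EndAV.toEnd0 π * EndAV.toEnd0 φ by
      rw [← map_mul, ← map_mul, hc]) _
  exact ⟨fun a ⟨e, he⟩ => by
    obtain ⟨y, hy⟩ := exists_mul_mul (a : EndAV.End0 A)
    have h1 : ∀ j : ℕ, (a : EndAV.End0 A) = (a : EndAV.End0 A) ^ (j + 1) * y ^ j := by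
      intro j
      induction j with
      | zero => simp
      | succ j ih =>
        conv_lhs => rw [← hy, _root_.mul_assoc, hcen a y, ← _root_.mul_assoc]
        nth_rw 1 [ih]
        have hca : Commute y (a : EndAV.End0 A) := hcen a y
        rw [_root_.mul_assoc ((a : EndAV.End0 A) ^ (j + 1)), (hca.pow_left j).eq, ← _root_.mul_assoc,
          ← pow_succ, _root_.mul_assoc, ← pow_succ]
    refine Subtype.ext ?_
    rw [h1 e, show (a : EndAV.End0 A) ^ (e + 1) = ((a ^ (e + 1) : EndAV.QAdj π) : EndAV.End0 A) from rfl, pow_succ, he,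
      zero_mul]
    simp⟩

/-- An algebra generated by a central element of the rational endomorphism algebra is semisimple. -/
theorem isSemisimpleRing_adjoin (π : EndAV.End A) (hc : ∀ φ : EndAV.End A, φ * π = π * φ) :
    IsSemisimpleRing (EndAV.QAdj π) := by
  haveI := AVEnd0.finite_end0 (A := A)
  haveI : Module.Finite ℚ (EndAV.QAdj π) := inferInstance
  letI : CommRing (EndAV.QAdj π) :=
    { (inferInstance : Ring (EndAV.QAdj π)) with
      mul_comm := fun a b => Subtype.ext (show (a : EndAV.End0 A) * b = b * a from (Algebra.commute_of_mem_adjoin_singleton_of_commute b.2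
        (Algebra.commute_of_mem_adjoin_singleton_of_commute a.2 (Commute.refl _)).symm).symm.eq.symm) }
  haveI : IsArtinianRing (EndAV.QAdj π) := IsArtinianRing.of_finite ℚ _
  haveI := isReduced_adjoin π hc
  exact IsArtinianRing.isSemisimpleRing_of_isReduced _

/-- The minimal polynomial of a central endomorphism is squarefree. -/
theorem squarefree_minpoly (π : EndAV.End A) (hc : ∀ φ : EndAV.End A, φ * π = π * φ) :
    Squarefree (minpoly ℚ (EndAV.toEnd0 π)) := by
  haveI := AVEnd0.finite_end0 (A := A)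
  letI : CommRing (EndAV.QAdj π) :=
    { (inferInstance : Ring (EndAV.QAdj π)) with
      mul_comm := fun a b => Subtype.ext (show (a : EndAV.End0 A) * b = b * a from (Algebra.commute_of_mem_adjoin_singleton_of_commute b.2
        (Algebra.commute_of_mem_adjoin_singleton_of_commute a.2 (Commute.refl _)).symm).symm.eq.symm) }
  haveI := isReduced_adjoin π hc
  let a : EndAV.QAdj π := ⟨EndAV.toEnd0 π, Algebra.self_mem_adjoin_singleton ℚ _⟩
  rw [← show minpoly ℚ a = minpoly ℚ (EndAV.toEnd0 π) from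
    (minpoly.algHom_eq (EndAV.QAdj π).val Subtype.val_injective a).symm]
  exact (minpoly.isRadical ℚ a).squarefree (minpoly.ne_zero (Algebra.IsIntegral.isIntegral a))

end Groth.Agent.AVSemisimple
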