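import Groth.Agent.Lib.AVEulerHomog
import Groth.Agent.Lib.AVPoincare
import Groth.Agent.Lib.AVPair
import Groth.Agent.H23.EquidimFibres
import Groth.Agent.AVTors.Card
import Groth.Agent.AVTors.Dense
import Groth.Agent.S19572

/-!
Degenerate invertible modules on abelian varieties: the stabilizer contains an abelian subvariety of
positive dimension and the Euler characteristic vanishes.
-/

set_option autoImplicit false
set_option linter.style.haveILetI false
set_option linter.unusedSectionVars false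
set_option backward.isDefEq.respectTransparency false
set_option backward.isDefEq.respectTransparency.types false
set_option maxHeartbeats 800000
set_option synthInstance.maxHeartbeats 200000

universe u

open CategoryTheory CategoryTheory.Limits MonoidalCategory CartesianMonoidalCategory MonObj AlgebraicGeometry

noncomputable section

namespace Groth.Agent.AVDegenerate

open Groth.Agent Groth.Agent.H23 Groth.Agent.AVCube Groth.Agent.AVPair
open scoped Groth.Agent.H23.PicMul

/-! ### Abelian subvarieties inside a subgroup -/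

section Sub

variable {K : Type u} [Field K] [IsAlgClosed K] {A : Over (Spec (CommRingCat.of K))}

local notation "pt" => IsLocalRing.closedPoint K

theorem range_point (a : 𝟙_ (Over (Spec (CommRingCat.of K))) ⟶ A) : Set.range a.left = {a.left pt} :=
  Set.Subset.antisymm
    (by rintro _ ⟨x, rfl⟩; exact congrArg a.left (@Subsingleton.elim (Spec (CommRingCat.of K)) inferInstance x pt))
    (Set.singleton_subset_iff.2 ⟨pt, rfl⟩)

/-- A rational point in the image of a proper variety lifts to a rational point. -/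
theorem exists_lift_image [IsProper A.hom] {P : Over (Spec (CommRingCat.of K))} [IsProper P.hom] (ψ : P ⟶ A)
    (a : 𝟙_ (Over (Spec (CommRingCat.of K))) ⟶ A) (ha : a.left pt ∈ Set.range ψ.left) :
    ∃ p : 𝟙_ _ ⟶ P, p ≫ ψ = a := by
  haveI : JacobsonSpace (Spec (CommRingCat.of K)) := inferInstanceAs (JacobsonSpace (PrimeSpectrum K))
  have := LocallyOfFiniteType.jacobsonSpace P.hom
  have hc : IsClosed ({a.left pt} : Set A.left) := by
    rw [← range_point]
    have : IsClosedImmersion a.left :=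
      isClosedImmersion_of_comp_eq_id (Y := Spec (CommRingCat.of K)) A.hom a.left (Over.w a)
    exact a.left.isClosedEmbedding.isClosed_range
  obtain ⟨x, hx⟩ := ha
  obtain ⟨y, hy, hyc⟩ := nonempty_inter_closedPoints (X := P.left) (Z := ψ.left ⁻¹' {a.left pt})
    ⟨x, hx⟩ (hc.preimage ψ.left.continuous).isLocallyClosed
  let p : 𝟙_ (Over (Spec (CommRingCat.of K))) ⟶ P :=
    Over.homMk (pointOfClosedPoint P.hom y hyc) (pointOfClosedPoint_comp _ _ _)
  refine ⟨p, Over.OverMorphism.ext (ext_of_apply_closedPoint_eq A.hom (Over.w (p ≫ ψ)) (Over.w a) ?_)⟩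
  exact (congrArg ψ.left (pointOfClosedPoint_apply P.hom y hyc pt)).trans hy

variable [GrpObj A] [IsProper A.hom] [GeometricallyIntegral A.hom]

/-- The image of a variety through the origin whose rational points lie in a subgroup is contained in
an abelian subvariety with the same property. -/
theorem exists_abelian_sub {G : Type*} [Group G] (f : (𝟙_ (Over (Spec (CommRingCat.of K))) ⟶ A) →* G)
    {P₀ : Over (Spec (CommRingCat.of K))} [IsProper P₀.hom] [GeometricallyIntegral P₀.hom] (ψ₀ : P₀ ⟶ A)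
    (h1 : η[A].left pt ∈ Set.range ψ₀.left) (hker : ∀ p : 𝟙_ _ ⟶ P₀, f (p ≫ ψ₀) = 1) :
    ∃ (B : Over (Spec (CommRingCat.of K))) (_ : GrpObj B) (incl : B ⟶ A), IsMonHom incl ∧
      IsClosedImmersion incl.left ∧ IsProper B.hom ∧ GeometricallyIntegral B.hom ∧
      Set.range ψ₀.left ⊆ Set.range incl.left ∧ ∀ b : 𝟙_ _ ⟶ B, f (b ≫ incl) = 1 := by
  let S : Set A.left → Prop := fun Z => Set.range ψ₀.left ⊆ Z ∧
    ∃ (P : Over (Spec (CommRingCat.of K))) (ψ : P ⟶ A),
    IsProper P.hom ∧ GeometricallyIntegral P.hom ∧ Set.range ψ.left = Z ∧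
      ∀ p : 𝟙_ _ ⟶ P, f (p ≫ ψ) = 1
  have hS : ∀ Z, S Z → IsIrreducible Z ∧ IsClosed Z ∧ η[A].left pt ∈ Z := by
    rintro Z ⟨hVZ, P, ψ, _, _, rfl, -⟩
    have : IsIntegral P.left := MaxAbelian.isIntegral_of_geometricallyIntegral
    have : IsProper (ψ.left ≫ A.hom) := by rw [Over.w ψ]; infer_instance
    have := IsProper.of_comp ψ.left A.hom
    refine ⟨?_, ψ.left.isClosedMap.isClosed_range, hVZ h1⟩
    rw [← Set.image_univ]
    exact (IrreducibleSpace.isIrreducible_univ _).image _ ψ.left.continuous.continuousOn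
  have h0 : ∃ Z, S Z := ⟨_, subset_rfl, P₀, ψ₀, ‹_›, ‹_›, rfl, hker⟩
  have : IsLocallyNoetherian A.left := LocallyOfFiniteType.isLocallyNoetherian A.hom
  obtain ⟨Z, hZS, hmax⟩ := MaxAbelian.exists_maximal (η[A].left pt) S hS h0
  obtain ⟨hVZ, P, ψ, _, _, hr, hker'⟩ := hZS
  obtain ⟨e, he⟩ := exists_lift_image ψ η[A] (by rw [hr]; exact hVZ h1)
  have hone : (toUnit P ≫ e) ≫ ψ = (1 : P ⟶ A) := by
    rw [Category.assoc, he, MonObj.one_eq_one, MonObj.comp_one]
  have : IsProper (P ⊗ P).hom :=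
    inferInstanceAs (IsProper (pullback.fst P.hom P.hom ≫ P.hom))
  have := MaxAbelian.geometricallyIntegral_tensor P P
  let ψm : P ⊗ P ⟶ A := (fst P P ≫ ψ) * (snd P P ≫ ψ)
  let ψd : P ⊗ P ⟶ A := (fst P P ≫ ψ) * (snd P P ≫ ψ)⁻¹
  have hl : lift (𝟙 P) (toUnit P ≫ e) ≫ ψm = ψ := by
    simp only [ψm, MonObj.comp_mul, lift_fst_assoc, lift_snd_assoc, Category.id_comp]
    rw [hone, _root_.mul_one]
  have hl' : lift (𝟙 P) (toUnit P ≫ e) ≫ ψd = ψ := by
    simp only [ψd, MonObj.comp_mul, GrpObj.comp_inv, lift_fst_assoc, lift_snd_assoc, Category.id_comp]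
    rw [hone, inv_one, _root_.mul_one]
  have hi : lift (toUnit P ≫ e) (𝟙 P) ≫ ψd = ψ⁻¹ := by
    simp only [ψd, MonObj.comp_mul, GrpObj.comp_inv, lift_fst_assoc, lift_snd_assoc, Category.id_comp]
    rw [hone, _root_.one_mul]
  have key : ∀ φ : P ⊗ P ⟶ A, lift (𝟙 P) (toUnit P ≫ e) ≫ φ = ψ →
      (∀ p, f (p ≫ φ) = 1) → Set.range φ.left = Set.range ψ.left := by
    intro φ hφ hk
    have hsub : Set.range ψ.left ⊆ Set.range φ.left := by
      rintro _ ⟨y, rfl⟩
      exact ⟨_, congrArg (fun χ : P ⟶ A => χ.left y) hφ⟩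
    rw [hr] at hsub ⊢
    exact (hmax _ ⟨hVZ.trans hsub, _, φ, ‹_›, ‹_›, rfl, hk⟩ hsub).symm
  have hm := key ψm hl fun p => by
    simp only [ψm, MonObj.comp_mul, map_mul]
    rw [← Category.assoc p, ← Category.assoc p, hker', hker', _root_.one_mul]
  have hd := key ψd hl' fun p => by
    simp only [ψd, MonObj.comp_mul, GrpObj.comp_inv, map_mul, map_inv]
    rw [← Category.assoc p, ← Category.assoc p, hker', hker', inv_one, _root_.one_mul]
  obtain ⟨N, hN, j, hj, hjc, hNp, hNg, hjr⟩ := MaxAbelian.exists_image' ψ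
    (by rw [range_point, Set.singleton_subset_iff, hr]; exact hVZ h1)
    hm.subset (by
      rw [← hi]
      rintro _ ⟨y, rfl⟩
      exact hd.subset ⟨_, rfl⟩)
  refine ⟨N, hN, j, hj, hjc, hNp, hNg, ?_, fun b => ?_⟩
  · rw [hjr, hr]; exact hVZ
  · obtain ⟨p, hp⟩ := exists_lift_image ψ (b ≫ j) (hjr.subset ⟨_, rfl⟩)
    rw [← hp, hker']

end Sub

/-! ### The stabilizer of a class -/

section Stab

variable {k : Type u} [Field k] {A : Over (Spec (CommRingCat.of k))} [GrpObj A] [IsProper A.hom]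
  [GeometricallyIntegral A.hom] {L : A.left.Modules} (hL : PicF.IsInvertible L)

/-- `x ↦ t_x^*L ⊗ L⁻¹` is a homomorphism. -/
def transHom : (𝟙_ (Over (Spec (CommRingCat.of k))) ⟶ A) →* (PicF.Cl A.left)ˣ :=
  MonoidHom.mk' (fun a => pc hL (𝟙 A * (toUnit A ≫ a)) / pc hL (𝟙 A)) fun a b => by
    have h := cube_rel hL (𝟙 A) (toUnit A ≫ a) (toUnit A ≫ b)
    rw [_root_.mul_assoc (𝟙 A) (toUnit A ≫ a), ← MonObj.comp_mul] at h
    simp only [AVCube.pc_const, _root_.mul_one] at h
    rw [div_mul_div_comm, ← h, mul_div_mul_right_eq_div]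

theorem transHom_eq_one_iff (a : 𝟙_ (Over (Spec (CommRingCat.of k))) ⟶ A) :
    transHom hL a = 1 ↔ pc hL (𝟙 A * (toUnit A ≫ a)) = pc hL (𝟙 A) :=
  div_eq_one

/-- Invariance under the rational points of a subvariety is additivity along it. -/
theorem add_of_invariant [IsAlgClosed k] {B : Over (Spec (CommRingCat.of k))} [GrpObj B] [LocallyOfFiniteType B.hom]
    [GeometricallyIntegral B.hom] (j : B ⟶ A) [IsMonHom j]
    (h : ∀ b : 𝟙_ (Over (Spec (CommRingCat.of k))) ⟶ B, pc hL (𝟙 A * (toUnit A ≫ b ≫ j)) = pc hL (𝟙 A))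
    {T : Over (Spec (CommRingCat.of k))} (f : T ⟶ A) (g : T ⟶ B) :
    pc hL (f * (g ≫ j)) = pc hL f * pc hL (g ≫ j) := by
  let l : PicF.Cl A.left := PicF.cl L
  have hli : PicF.IsInvertibleCl l := ⟨L, rfl, hL⟩
  haveI : IsIntegral A.left := GeometricallyIntegral.isIntegral_of_subsingleton A.hom
  haveI : IsIntegral B.left := GeometricallyIntegral.isIntegral_of_subsingleton B.hom
  haveI : IsReduced (A ⊗ B).left := FBaseLib.isReduced_pullback A.hom B.hom
  obtain ⟨d, hd, hcd⟩ := exists_inv (PicMul.isInvertibleCl_mul (isInv_pl (fst A B) hli)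
    (isInv_pl (snd A B ≫ j) hli))
  obtain ⟨M, hMd, hM⟩ := PicMul.isInvertibleCl_mul (isInv_pl (fst A B * (snd A B ≫ j)) hli) hd
  have slice : ∀ {S : Over (Spec (CommRingCat.of k))} (φ : S ⟶ A ⊗ B),
      pl ((φ ≫ fst A B) * ((φ ≫ snd A B) ≫ j)) l = pl (φ ≫ fst A B) l * pl ((φ ≫ snd A B) ≫ j) l ↔
        TrivBasic.Triv ((Scheme.Modules.pullback φ.left).obj M) := by
    intro S φ
    have e : pl φ (PicF.cl M) = pl ((φ ≫ fst A B) * ((φ ≫ snd A B) ≫ j)) l * pl φ d := by
      rw [hMd, map_mul, pl_pl, MonObj.comp_mul, Category.assoc]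
    have e' : pl (φ ≫ fst A B) l * pl ((φ ≫ snd A B) ≫ j) l * pl φ d = 1 := by
      have := congrArg (pl φ) hcd
      simpa only [map_mul, map_one, pl_pl, Category.assoc] using this
    rw [triv_iff, e]
    exact ⟨fun h => by rw [h, e'], fun h => eq_of_mul_inv e' h⟩
  have htr : TrivBasic.Triv M := by
    refine AVSeesaw.triv_of_slices A B M hM
      (AVSeesaw.triv_fibre_of_points A B M fun b => (slice _).1 ?_) 1 ((slice _).1 ?_)
    · have hb := congrArg Units.val (h b)
      rw [lift_fst, lift_snd, Category.assoc, pl_const hli (b ≫ j), _root_.mul_one]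
      exact hb
    · rw [lift_fst, lift_snd, _root_.one_mul, Category.id_comp,
        show pl (1 : B ⟶ A) l = 1 from pl_const hli η, _root_.one_mul]
  have hu : pl (fst A B * (snd A B ≫ j)) l = pl (fst A B) l * pl (snd A B ≫ j) l := by
    have := (slice (𝟙 (A ⊗ B))).2 ((triv_iff _).2 (by rw [pl_id]; exact (PicGrp.cl_eq_cl_iff _ _).2 htr))
    simpa only [Category.id_comp] using this
  refine Units.ext ?_
  have := congrArg (pl (lift f g)) hu
  simp only [map_mul, pl_pl, MonObj.comp_mul, lift_fst, lift_snd_assoc] at this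
  rw [Units.val_mul]
  exact this

variable [IsAlgClosed k]

/-- A class with infinitely many invariant rational points is invariant under an abelian subvariety
of positive dimension. -/
theorem exists_sub_of_infinite
    (hdeg : Set.Infinite {a : 𝟙_ (Over (Spec (CommRingCat.of k))) ⟶ A |
      pc hL (𝟙 A * (toUnit A ≫ a)) = pc hL (𝟙 A)}) :
    ∃ (B : Over (Spec (CommRingCat.of k))) (_ : GrpObj B) (j : B ⟶ A), IsMonHom j ∧ IsClosedImmersion j.left ∧
      IsProper B.hom ∧ GeometricallyIntegral B.hom ∧ Nontrivial B.left ∧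
      ∀ b : 𝟙_ (Over (Spec (CommRingCat.of k))) ⟶ B, pc hL (𝟙 A * (toUnit A ≫ b ≫ j)) = pc hL (𝟙 A) := by
  let pt := IsLocalRing.closedPoint k
  let l : PicF.Cl A.left := PicF.cl L
  have hli : PicF.IsInvertibleCl l := ⟨L, rfl, hL⟩
  haveI : IsIntegral A.left := GeometricallyIntegral.isIntegral_of_subsingleton A.hom
  obtain ⟨d, hd, hcd⟩ := exists_inv (PicMul.isInvertibleCl_mul (isInv_pl (fst A A) hli) (isInv_pl (snd A A) hli))
  obtain ⟨M, hMd, hM⟩ := PicMul.isInvertibleCl_mul (isInv_pl (fst A A * snd A A) hli) hd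
  have slice : ∀ a : 𝟙_ (Over (Spec (CommRingCat.of k))) ⟶ A,
      pc hL (𝟙 A * (toUnit A ≫ a)) = pc hL (𝟙 A) ↔
        TrivBasic.Triv ((Scheme.Modules.pullback (lift (𝟙 A) (toUnit A ≫ a)).left).obj M) := by
    intro a
    have e : pl (lift (𝟙 A) (toUnit A ≫ a)) (PicF.cl M) =
        pl (𝟙 A * (toUnit A ≫ a)) l * pl (lift (𝟙 A) (toUnit A ≫ a)) d := by
      rw [hMd, map_mul, pl_pl, MonObj.comp_mul, lift_fst, lift_snd]
    have e' : pl (𝟙 A) l * pl (lift (𝟙 A) (toUnit A ≫ a)) d = 1 := by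
      have := congrArg (pl (lift (𝟙 A) (toUnit A ≫ a))) hcd
      simpa only [map_mul, map_one, pl_pl, lift_fst, lift_snd, pl_const hli a, _root_.mul_one] using this
    rw [triv_iff, e, Units.ext_iff]
    exact ⟨fun h => (congrArg (· * _) (show pl (𝟙 A * (toUnit A ≫ a)) l = pl (𝟙 A) l from h)).trans e',
      fun h => eq_of_mul_inv e' h⟩
  let f := (snd A A).left
  haveI : IsProper f := inferInstanceAs (IsProper (pullback.snd A.hom A.hom))
  haveI : Flat f := inferInstanceAs (Flat (pullback.snd A.hom A.hom))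
  haveI : GeometricallyIntegral f := inferInstanceAs (GeometricallyIntegral (pullback.snd A.hom A.hom))
  haveI : IsLocallyNoetherian A.left := LocallyOfFiniteType.isLocallyNoetherian A.hom
  haveI : CompactSpace A.left := QuasiCompact.compactSpace_of_compactSpace A.hom
  haveI : IsNoetherian A.left := { }
  haveI : JacobsonSpace (Spec (CommRingCat.of k)) := inferInstanceAs (JacobsonSpace (PrimeSpectrum k))
  haveI : JacobsonSpace A.left := LocallyOfFiniteType.jacobsonSpace A.hom
  have hE := SeesawGlobal.isClosed_fieldTriv f hM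
  let E : Set A.left := {w | SeesawGlobal.FieldTriv f M w}
  have hpts : ∀ a : 𝟙_ (Over (Spec (CommRingCat.of k))) ⟶ A,
      a.left pt ∈ E → pc hL (𝟙 A * (toUnit A ≫ a)) = pc hL (𝟙 A) := by
    intro a ha
    refine (slice a).2 ?_
    refine SeesawGlobal.triv_of_factor
      (pullback.lift (lift (𝟙 A) (toUnit A ≫ a)).left A.hom ?_ : A.left ⟶ pullback f a.left) ?_ (ha k a.left rfl)
    · show _ ≫ (snd A A).left = _
      rw [← Over.comp_left, lift_snd, Over.comp_left]
      rfl
    · rw [pullback.lift_fst]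
  have hEinf : E.Infinite := by
    intro hfin
    refine hdeg ((hfin.preimage (f := fun a : 𝟙_ (Over (Spec (CommRingCat.of k))) ⟶ A => a.left pt) ?_).subset
      fun a ha => CubeAb.fieldTriv_of_rational hM a ((slice a).1 ha))
    intro a _ b _ hab
    exact Over.OverMorphism.ext (ext_of_apply_closedPoint_eq A.hom (Over.w a) (Over.w b) hab)
  obtain ⟨S, hSfin, hSc, hSi, hEq⟩ := TopologicalSpace.NoetherianSpace.exists_finite_set_isClosed_irreducible hE
  obtain ⟨Z, hZS, hZ⟩ : ∃ Z ∈ S, ¬ Z.Subsingleton := by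
    by_contra! h
    exact hEinf (show Set.Finite E by
      rw [show E = ⋃₀ S from hEq]
      exact hSfin.sUnion fun Z hZ => (h Z hZ).finite)
  have hZE : Z ⊆ E := by
    rw [show E = ⋃₀ S from hEq]
    exact Set.subset_sUnion_of_mem hZS
  obtain ⟨P, em, hem, hr, hP, hPg, hPi⟩ := EquidimFibres.exists_integral_sub (hSc Z hZS) (hSi Z hZS)
  have hker : ∀ p : 𝟙_ (Over (Spec (CommRingCat.of k))) ⟶ P, transHom hL (p ≫ em) = 1 := fun p =>
    (transHom_eq_one_iff hL _).2 (hpts _ (hZE (hr.subset ⟨_, rfl⟩)))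
  haveI : IsProper (P ⊗ P).hom := inferInstanceAs (IsProper (pullback.fst P.hom P.hom ≫ P.hom))
  haveI := MaxAbelian.geometricallyIntegral_tensor P P
  let ψ : P ⊗ P ⟶ A := (fst P P ≫ em) * (snd P P ≫ em)⁻¹
  obtain ⟨z, hz, hzc⟩ := nonempty_inter_closedPoints (X := A.left) (Z := Z) (hSi Z hZS).1
    (hSc Z hZS).isLocallyClosed
  let a : 𝟙_ (Over (Spec (CommRingCat.of k))) ⟶ A :=
    Over.homMk (pointOfClosedPoint A.hom z hzc) (pointOfClosedPoint_comp _ _ _)
  obtain ⟨p₀, hp₀⟩ := exists_lift_image em a (by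
    rw [hr]
    exact (pointOfClosedPoint_apply A.hom z hzc pt).symm ▸ hz)
  have h1 : lift p₀ p₀ ≫ ψ = η[A] := by
    simp only [ψ, MonObj.comp_mul, GrpObj.comp_inv, lift_fst_assoc, lift_snd_assoc, mul_inv_cancel]
    rw [Hom.one_def, toUnit_unique (toUnit (𝟙_ _)) (𝟙 _), Category.id_comp]
  obtain ⟨B, hB, j, hj, hjc, hBp, hBg, hsub, hBk⟩ := exists_abelian_sub (transHom hL) ψ
    (by rw [← h1]; exact ⟨_, rfl⟩) fun p => by
      simp only [ψ, MonObj.comp_mul, GrpObj.comp_inv, map_mul, map_inv]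
      rw [← Category.assoc p, ← Category.assoc p, hker, hker, inv_one, _root_.one_mul]
  refine ⟨B, hB, j, hj, hjc, hBp, hBg, ?_, fun b => (transHom_eq_one_iff hL _).1 (hBk b)⟩
  by_contra hnt
  rw [not_nontrivial_iff_subsingleton] at hnt
  refine hZ ?_
  let t : A ⟶ A := 𝟙 A * (toUnit A ≫ a⁻¹)
  let t' : A ⟶ A := 𝟙 A * (toUnit A ≫ a)
  haveI : IsCommMonObj A := isCommMonObj_of_isProper_of_geometricallyIntegral A
  have htt : t ≫ t' = 𝟙 A := by
    simp only [t, t', MonObj.comp_mul, Category.comp_id, comp_toUnit_assoc, GrpObj.comp_inv,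
      inv_mul_cancel_right]
  have hrange : ∀ y : P.left, t.left (em.left y) ∈ Set.range j.left := fun y => by
    refine hsub ⟨(lift (𝟙 P) (toUnit P ≫ p₀)).left y, ?_⟩
    have : lift (𝟙 P) (toUnit P ≫ p₀) ≫ ψ = em ≫ t := by
      simp only [ψ, t, MonObj.comp_mul, GrpObj.comp_inv, lift_fst_assoc, lift_snd_assoc, Category.id_comp,
        Category.assoc, Category.comp_id, comp_toUnit_assoc, hp₀]
    exact congrArg (fun φ : P ⟶ A => φ.left y) this
  intro x hx y hy
  obtain ⟨x', rfl⟩ : x ∈ Set.range em.left := hr.symm ▸ hx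
  obtain ⟨y', rfl⟩ : y ∈ Set.range em.left := hr.symm ▸ hy
  obtain ⟨bx, hbx⟩ := hrange x'
  obtain ⟨bby, hby⟩ := hrange y'
  have h2 : t.left (em.left x') = t.left (em.left y') := by rw [← hbx, ← hby, Subsingleton.elim bx bby]
  have := congrArg t'.left h2
  have hid : ∀ z : A.left, t'.left (t.left z) = z := fun z => congrArg (fun φ : A ⟶ A => φ.left z) htt
  rw [hid, hid] at this
  exact this

/-- An abelian variety with two points has positive dimension. -/
theorem dim_pos {B : Over (Spec (CommRingCat.of k))} [IsProper B.hom] [GeometricallyIntegral B.hom]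
    [Nontrivial B.left] : ∃ g : ℕ, 0 < g ∧ topologicalKrullDim B.left = g := by
  haveI := MaxAbelian.isIntegral_of_geometricallyIntegral (X := B)
  refine ⟨_, Nat.pos_of_ne_zero fun h0 => ?_, VarDim.topologicalKrullDim_eq_deg_genericPoint B.hom⟩
  obtain ⟨x, y, hxy⟩ := exists_pair_ne B.left
  refine hxy ?_
  have hx := VarDim.eq_of_specializes_of_deg_le B.hom (genericPoint_specializes x) (h0 ▸ Nat.zero_le _)
  have hy := VarDim.eq_of_specializes_of_deg_le B.hom (genericPoint_specializes y) (h0 ▸ Nat.zero_le _)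
  exact hx.symm.trans hy

end Stab

/-! ### The Euler characteristic -/

section Euler

open MvPolynomial AVEulerHomog

variable {k : Type u} [Field k] {A : Over (Spec (CommRingCat.of k))} [GrpObj A] [IsProper A.hom]
  [GeometricallyIntegral A.hom]

/-- Twisting by a class doubled by `[2]` does not change the Euler characteristic. -/
theorem euler_twist (g : ℕ) (hg : topologicalKrullDim ↥A.left = g) {L P : A.left.Modules}
    (hL : PicF.IsInvertible L) (hP : PicF.IsInvertible P)
    (hP2 : pc hP (𝟙 A ^ (2 : ℤ)) = pc hP (𝟙 A) ^ 2) :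
    χ (PicF.cl L * PicF.cl P) = χ (PicF.cl L) := by
  letI : A.left.Over (Spec (CommRingCat.of k)) := ⟨A.hom⟩
  haveI : IsProper (A.left ↘ Spec (CommRingCat.of k)) := inferInstanceAs (IsProper A.hom)
  haveI : IsLocallyNoetherian A.left := LocallyOfFiniteType.isLocallyNoetherian A.hom
  haveI : IsCommMonObj A := isCommMonObj_of_isProper_of_geometricallyIntegral A
  let L' := (Scheme.Modules.pullback ((𝟙 A)⁻¹ : A ⟶ A).left).obj L
  have hL' : PicF.IsInvertible L' := PicClLib.isInvertible_pullback _ hL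
  let u := pc hL (𝟙 A)
  let v := pc hL ((𝟙 A)⁻¹)
  let p := pc hP (𝟙 A)
  let d : A ⟶ A := 𝟙 A ^ (2 : ℤ)
  have h1 : pc hL d = u ^ 3 * v := by
    have h := cube_rel hL (𝟙 A) (𝟙 A) ((𝟙 A)⁻¹)
    rw [mul_inv_cancel_right, mul_inv_cancel, pc_one, _root_.mul_one, _root_.mul_one] at h
    rw [show d = 𝟙 A * 𝟙 A from zpow_two _, ← h, pow_three]
    ac_rfl
  have h2 : pc hL (d ≫ (𝟙 A)⁻¹) = v ^ 3 * u := by
    have h := cube_rel hL (𝟙 A) ((𝟙 A)⁻¹) ((𝟙 A)⁻¹)
    rw [mul_inv_cancel, _root_.one_mul, pc_one, _root_.one_mul, _root_.one_mul] at h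
    rw [GrpObj.comp_inv, Category.comp_id, show d = 𝟙 A * 𝟙 A from zpow_two _, mul_inv, ← h, pow_three]
    ac_rfl
  obtain ⟨Q, hQd, hQn⟩ := Snapper.exists_mpoly k (L := ![L, L', P])
    (fun i => by fin_cases i <;> assumption) (M := Coh.structureModule A.left)
    (haveI := CurveCohLib.isNoetherian_of_proper (k := k) (X := A.left); QCoh.isCoh_structureModule')
    (d := g) ((topologicalKrullDim_subspace_le A.left _).trans hg.le)
  have hQ : ∀ a b c : ℕ, (χ (PicF.cl L ^ a * PicF.cl L' ^ b * PicF.cl P ^ c) : ℚ) =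
      MvPolynomial.eval ![(a : ℚ), (b : ℚ), (c : ℚ)] Q := fun a b c => by
    have h := hQn ![a, b, c]
    rw [show (fun i => (((![a, b, c] : Fin 3 → ℕ) i : ℕ) : ℚ)) = ![(a : ℚ), (b : ℚ), (c : ℚ)] from
      funext fun i => by fin_cases i <;> rfl] at h
    rw [← h, ← SurfPairing.χ_cl, cl_tensorPows, Fin.prod_univ_three]
    rfl
  have key : ∀ a b c : ℕ, χ (PicF.cl L ^ (3 * a + b) * PicF.cl L' ^ (a + 3 * b) * PicF.cl P ^ (2 * c)) =
      (2 : ℤ) ^ (2 * g) * χ (PicF.cl L ^ a * PicF.cl L' ^ b * PicF.cl P ^ c) := by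
    intro a b c
    obtain ⟨hfin, hflat, -⟩ := AVDegLib.zpow_props (A := A) 2 two_ne_zero
    let F := CohB1.tensorMod (CohB1.tensorMod (CohB1.tensorPow L a) (CohB1.tensorPow L' b)) (CohB1.tensorPow P c)
    have hF : Coh.IsCoh F := CurveDeg.isCoh_of_isInvertible
      (InvX.isInvertible_tensorMod (InvX.isInvertible_tensorMod (InvX.isInvertible_tensorPow hL a)
        (InvX.isInvertible_tensorPow hL' b)) (InvX.isInvertible_tensorPow hP c))
    have h := AVEuler.euler_pullback d ((2 : ℕ) ^ (2 * g))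
      (fun y => AVDegLib.finrank_zpow hg 2 two_ne_zero y) hF
    rw [← SurfPairing.χ_cl, ← SurfPairing.χ_cl] at h
    have hcl : PicF.cl ((Scheme.Modules.pullback d.left).obj F) =
        PicF.cl L ^ (3 * a + b) * PicF.cl L' ^ (a + 3 * b) * PicF.cl P ^ (2 * c) := by
      show PicMul.pullHom d.left (PicF.cl F) = _
      rw [PicMul.cl_tensor, PicMul.cl_tensor, PicMul.cl_tensorPow, PicMul.cl_tensorPow, PicMul.cl_tensorPow,
        ← val_pc_id hL, ← val_pc_id hP, ← val_pc hL]
      show ((Units.map (PicMul.pullHom d.left : _ →* _) (u ^ a * v ^ b * p ^ c) : (PicF.Cl A.left)ˣ) : PicF.Cl A.left) =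
        ((u ^ (3 * a + b) * v ^ (a + 3 * b) * p ^ (2 * c) : (PicF.Cl A.left)ˣ) : PicF.Cl A.left)
      rw [map_mul, map_mul, map_pow, map_pow, map_pow, pull_pc, pull_pc, pull_pc, Category.comp_id, h1, h2, hP2]
      refine congrArg Units.val ?_
      refine Additive.ofMul.injective ?_
      simp only [mul_pow, ← pow_mul, pow_add, ofMul_mul, ofMul_pow]
      abel
    rw [hcl, show PicF.cl F = PicF.cl L ^ a * PicF.cl L' ^ b * PicF.cl P ^ c by
      rw [PicMul.cl_tensor, PicMul.cl_tensor, PicMul.cl_tensorPow, PicMul.cl_tensorPow, PicMul.cl_tensorPow]] at h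
    rw [Nat.cast_pow] at h
    exact h
  have hQ2 : MvPolynomial.aeval (![C 3 * X 0 + X 1, X 0 + C 3 * X 1, C 2 * X 2] : Fin 3 → MvPolynomial (Fin 3) ℚ) Q =
      C (4 ^ g) * Q := by
    refine eq_of_nat _ _ fun m => ?_
    rw [Snapper.eval_aeval, map_mul, eval_C,
      show (fun i => ((m i : ℕ) : ℚ)) = ![(m 0 : ℚ), (m 1 : ℚ), (m 2 : ℚ)] from funext fun i => by fin_cases i <;> rfl]
    have h := congrArg (fun z : ℤ => (z : ℚ)) (key (m 0) (m 1) (m 2))
    push_cast at h
    rw [hQ, hQ] at h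
    push_cast at h
    rw [show (4 : ℚ) ^ g = 2 ^ (2 * g) by rw [pow_mul]; norm_num, ← h]
    congr 1
    congr 1
    funext i
    fin_cases i <;> simp
  have main : ∀ e : ℚ, MvPolynomial.eval ![(1 : ℚ), 0, e] Q = MvPolynomial.eval ![1 / 2, 1 / 2, 0] Q := by
    intro e
    let W := MvPolynomial.aeval (![C (1 / 2 : ℚ) * (X 0 + X 1), C (1 / 2 : ℚ) * (X 0 - X 1), C e * X 1] :
      Fin 3 → MvPolynomial (Fin 2) ℚ) Q
    have hW : ∀ s t : ℚ, MvPolynomial.eval ![s, t] W = MvPolynomial.eval ![(s + t) / 2, (s - t) / 2, e * t] Q :=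
      fun s t => by
        rw [Snapper.eval_aeval]
        congr 1
        congr 1
        funext i
        fin_cases i <;> simp <;> ring
    have hWd : W.totalDegree ≤ g := by
      refine (Snapper.DegLt.aeval (Snapper.degLt_of_totalDegree (Nat.lt_succ_of_le hQd)) _ fun i => ?_).totalDegree_le
      fin_cases i
      · exact (totalDegree_mul _ _).trans (by
          rw [totalDegree_C, zero_add]; exact (totalDegree_add _ _).trans (max_le (totalDegree_X _).le (totalDegree_X _).le))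
      · exact (totalDegree_mul _ _).trans (by
          rw [totalDegree_C, zero_add]; exact (totalDegree_sub _ _).trans (max_le (totalDegree_X _).le (totalDegree_X _).le))
      · exact (totalDegree_mul _ _).trans (by rw [totalDegree_C, zero_add]; exact (totalDegree_X _).le)
    have hWs : ∀ s t : ℚ, MvPolynomial.eval ![4 * s, 2 * t] W = 4 ^ g * MvPolynomial.eval ![s, t] W := fun s t => by
      rw [hW, hW]
      have h := congrArg (MvPolynomial.eval ![(s + t) / 2, (s - t) / 2, e * t]) hQ2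
      rw [Snapper.eval_aeval, map_mul, eval_C] at h
      rw [← h]
      congr 1
      congr 1
      funext i
      fin_cases i <;> simp <;> ring
    have e1 := eq_monomial W hWd hWs 1 1
    have e0 := eq_monomial W hWd hWs 1 0
    rw [hW] at e1 e0
    norm_num at e1 e0 ⊢
    rw [e1, e0]
  have a1 := hQ 1 0 1
  have a0 := hQ 1 0 0
  simp only [pow_zero, pow_one, _root_.mul_one, Nat.cast_one, Nat.cast_zero] at a1 a0
  rw [main] at a1 a0
  exact_mod_cast a1.trans a0.symm

/-- The Euler characteristic of a degenerate class vanishes. -/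
theorem euler_eq_zero [IsAlgClosed k] {L : A.left.Modules} (hL : PicF.IsInvertible L)
    (hdeg : Set.Infinite {a : 𝟙_ (Over (Spec (CommRingCat.of k))) ⟶ A |
      pc hL (𝟙 A * (toUnit A ≫ a)) = pc hL (𝟙 A)}) : χ (PicF.cl L) = 0 := by
  obtain ⟨B, _, j, _, _, _, _, _, hinv⟩ := exists_sub_of_infinite hL hdeg
  haveI : IsIntegral A.left := GeometricallyIntegral.isIntegral_of_subsingleton A.hom
  haveI : IsIntegral B.left := GeometricallyIntegral.isIntegral_of_subsingleton B.hom
  haveI : IsCommMonObj A := isCommMonObj_of_isProper_of_geometricallyIntegral A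
  haveI : IsCommMonObj B := isCommMonObj_of_isProper_of_geometricallyIntegral B
  haveI : IsLocallyNoetherian A.left := LocallyOfFiniteType.isLocallyNoetherian A.hom
  obtain ⟨r, n, _, hn, hjr⟩ := AVPoincare.exists_retraction j
  obtain ⟨gA, hgA⟩ := AVTors.exists_dimNat A
  obtain ⟨m, hm, hN⟩ : ∃ m : ℕ, 0 < m ∧ ((1 + m * n : ℕ) : k) ≠ 0 := by
    by_contra! h
    have h1 := h 1 one_pos
    have h2 := h 2 two_pos
    push_cast at h1 h2
    exact one_ne_zero (show (1 : k) = 0 by linear_combination 2 * h1 - h2)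
  let N := 1 + m * n
  have hN2 : 2 ≤ N := by
    have := Nat.mul_pos hm hn
    omega
  let q : A ⟶ B := r ^ m
  let h' : A ⟶ A := q ≫ j
  have hq : IsMonHom q := by
    haveI := AVDegLib.isMonHom_pow (A := B) m
    rw [show q = r ≫ 𝟙 B ^ m by rw [MonObj.comp_pow, Category.comp_id]]
    infer_instance
  have hjq : j ≫ q = 𝟙 B ^ (m * n) := by
    rw [MonObj.comp_pow, hjr, ← pow_mul, mul_comm]
  have hpj : (𝟙 B ^ (m * n)) ≫ j = j ^ (m * n) := by rw [MonObj.pow_comp, Category.id_comp]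
  haveI : IsMonHom h' := inferInstanceAs (IsMonHom (q ≫ j))
  have hh : h' ≫ h' = h' ^ (m * n) := by
    show (q ≫ j) ≫ (q ≫ j) = (q ≫ j) ^ (m * n)
    rw [Category.assoc, reassoc_of% hjq, hpj, MonObj.comp_pow]
  let φ : A ⟶ A := 𝟙 A * h'
  let ψ : A ⟶ A := 𝟙 A ^ N * h'⁻¹
  have hsum : ∀ {Z : Over (Spec (CommRingCat.of k))} (f : Z ⟶ A), f ≫ φ = f * (f ≫ h') := fun f => by
    rw [MonObj.comp_mul, Category.comp_id]
  have hη : η[A] = 1 := by rw [Hom.one_def, toUnit_unique (toUnit (𝟙_ _)) (𝟙 _), Category.id_comp]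
  haveI hφh : IsMonHom φ :=
    { one_hom := by rw [hsum, IsMonHom.one_hom, hη, _root_.one_mul]
      mul_hom := by
        have hμ : μ[A] = fst A A * snd A A := by rw [Hom.mul_def, lift_fst_snd, Category.id_comp]
        rw [hsum, hμ, MonObj.mul_comp, MonObj.comp_mul, tensorHom_fst, tensorHom_snd, hsum, hsum,
          _root_.mul_mul_mul_comm] }
  have hφψ : φ ≫ ψ = 𝟙 A ^ N := by
    show φ ≫ (𝟙 A ^ N * h'⁻¹) = _
    rw [MonObj.comp_mul, GrpObj.comp_inv, MonObj.comp_pow, Category.comp_id]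
    show (𝟙 A * h') ^ N * ((𝟙 A * h') ≫ h')⁻¹ = _
    rw [MonObj.mul_comp, Category.id_comp, hh, mul_pow, ← pow_succ', show m * n + 1 = N from add_comm _ _,
      mul_inv_cancel_right]
  have hψφ : ψ ≫ φ = 𝟙 A ^ N := by
    rw [hsum]
    show 𝟙 A ^ N * h'⁻¹ * ((𝟙 A ^ N * h'⁻¹) ≫ h') = _
    rw [MonObj.mul_comp, MonObj.pow_comp, Category.id_comp, GrpObj.inv_comp, hh, _root_.mul_assoc,
      ← _root_.mul_assoc h'⁻¹, mul_comm h'⁻¹, _root_.mul_assoc, ← mul_inv, ← pow_succ',
      show m * n + 1 = N from add_comm _ _, mul_inv_cancel, _root_.mul_one]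
  obtain ⟨-, -, hs⟩ := AVDegLib.zpow_props (A := A) (N : ℤ) (by exact_mod_cast (show N ≠ 0 by omega))
  rw [zpow_natCast] at hs
  haveI : Surjective φ.left := by
    haveI : Surjective (ψ.left ≫ φ.left) := by rw [← Over.comp_left, hψφ]; exact hs
    exact Surjective.of_comp ψ.left φ.left
  obtain ⟨hfin, hflat⟩ := S19572.result k A A φ rfl
  haveI := hfin
  haveI := hflat
  haveI := AVDegLib.lfp_endo φ
  obtain ⟨y₀⟩ := (inferInstance : Nonempty A.left)
  have hconst : ∀ y, Scheme.Hom.finrank φ.left y = Scheme.Hom.finrank φ.left y₀ := fun y =>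
    (Scheme.Hom.isLocallyConstant_finrank φ.left).apply_eq_of_preconnectedSpace y y₀
  have hne : Scheme.Hom.finrank φ.left y₀ ≠ 1 := by
    intro h1
    haveI : IsIso φ.left := (Scheme.Hom.isIso_iff_finrank_eq φ.left).2 (funext fun y => (hconst y).trans h1)
    haveI : IsIso φ := (Over.isoMk (asIso φ.left) (Over.w φ)).isIso_hom
    obtain ⟨g, hg0, hg⟩ := dim_pos (B := B)
    have hc := (AVTors.card_torsPts_le hg N (by omega)).2.2 hN
    have hc2 : 1 < Nat.card (AbDual.torsPts B N (AVTors.pt0 k)) :=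
      hc ▸ Nat.one_lt_pow (by omega) hN2
    haveI := (AVTors.card_torsPts_le hg N (by omega)).1
    haveI := Finite.one_lt_card_iff_nontrivial.1 hc2
    obtain ⟨x, y, hxy⟩ := exists_pair_ne (AbDual.torsPts B N (AVTors.pt0 k))
    have key : ∀ b : AVTors.pt0 k ⟶ B, b ^ N = 1 → b = 1 := by
      intro b hb
      have : (b ≫ j) ≫ φ = (1 : AVTors.pt0 k ⟶ A) ≫ φ := by
        rw [hsum, MonObj.one_comp]
        show b ≫ j * (b ≫ j) ≫ (q ≫ j) = 1
        rw [Category.assoc, reassoc_of% hjq, hpj, MonObj.comp_pow,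
          ← pow_succ', show m * n + 1 = N from add_comm _ _, ← MonObj.pow_comp, hb, MonObj.one_comp]
      have h2 : b ≫ j = (1 : AVTors.pt0 k ⟶ B) ≫ j := by rw [MonObj.one_comp]; exact (cancel_mono φ).1 this
      haveI : Mono j := (Over.forget _).mono_of_mono_map (inferInstanceAs (Mono j.left))
      exact (cancel_mono j).1 h2
    exact hxy (Subtype.ext ((key _ x.2).trans (key _ y.2).symm))
  let P := (Scheme.Modules.pullback h'.left).obj L
  have hP : PicF.IsInvertible P := PicClLib.isInvertible_pullback _ hL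
  have hPh : ∀ f : A ⟶ A, pc hP f = pc hL (f ≫ h') := fun f => Units.ext (by
    rw [val_pc', val_pc', show PicF.cl P = PicF.pullCl h'.left (PicF.cl L) from rfl, PicClLib.pullCl_comp]
    rfl)
  have hP2 : pc hP (𝟙 A ^ (2 : ℤ)) = pc hP (𝟙 A) ^ 2 := by
    rw [hPh, hPh, zpow_two, MonObj.mul_comp, Category.id_comp]
    show pc hL (h' * (q ≫ j)) = _
    rw [add_of_invariant hL j hinv, sq]
  have hpull : PicF.cl ((Scheme.Modules.pullback φ.left).obj L) = PicF.cl L * PicF.cl P := by
    show ((pc hL (𝟙 A * (q ≫ j)) : (PicF.Cl A.left)ˣ) : PicF.Cl A.left) = _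
    rw [add_of_invariant hL j hinv, Units.val_mul, val_pc_id]
    rfl
  have he := AVEuler.euler_pullback φ _ hconst (CurveDeg.isCoh_of_isInvertible hL)
  rw [← SurfPairing.χ_cl, ← SurfPairing.χ_cl, hpull] at he
  change χ (PicF.cl L * PicF.cl P) = _ * χ (PicF.cl L) at he
  rw [euler_twist gA hgA hL hP hP2] at he
  by_contra hχ
  have h3 := mul_right_cancel₀ hχ ((_root_.one_mul _).trans he)
  exact hne (by exact_mod_cast h3.symm)

end Euler

end Groth.Agent.AVDegenerate
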