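import Groth.Agent.FrobSplit29.Power
import Groth.Agent.InvX.GenLocusPull
import Groth.Agent.InvX.Frame

/-!
The inverse image of an invertible module by a power-map morphism is its tensor power.
-/

set_option autoImplicit false
set_option backward.isDefEq.respectTransparency false
set_option backward.isDefEq.respectTransparency.types false

universe u

open CategoryTheory AlgebraicGeometry TopologicalSpace Opposite

noncomputable section

namespace Groth.Agent.AVFrobPull

open AModX InvX FrobSplit29

variable {X : Scheme.{u}} (π : X ⟶ X) (q : ℕ) (hb : π.base = 𝟙 _) (hle : ∀ U : X.Opens, U ≤ π ⁻¹ᵁ U)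
  (happ : ∀ (U : X.Opens) (s : Γ(X, U)), (π.appLE U U (hle U)).hom s = s ^ q)

include hb in
theorem preimage_eq (U : X.Opens) : π ⁻¹ᵁ U = U := by
  ext x
  show π.base x ∈ U ↔ x ∈ U
  rw [hb]; rfl

include hb happ in
theorem resR_app {U W : X.Opens} (h : W ≤ π ⁻¹ᵁ U) (c : Γ(X, U)) :
    resR h (π.app U c) = resR (h.trans (preimage_eq π hb U).le) c ^ q := by
  rw [← map_pow, ← happ U c]
  simp only [Scheme.Hom.appLE, CommRingCat.hom_comp, RingHom.coe_comp, Function.comp_apply]
  exact (res_res (M := Coh.structureModule X) (hle U) _ _).symm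

include hb happ in
/-- The inverse image is the power. -/
theorem nonempty_iso {L : X.Modules} (hL : PicF.IsInvertible L) :
    Nonempty ((Scheme.Modules.pullback π).obj L ≅ CohB1.tensorPow L q) := by
  choose U hxU e he using fun x : X => InvX.exists_frame hL x
  let V : X → X.Opens := fun x => π ⁻¹ᵁ U x
  have hVU : ∀ x, V x ≤ U x := fun x => (preimage_eq π hb (U x)).le
  have hcov : ∀ x : X, ∃ a, x ∈ V a := fun x => ⟨x, hle _ (hxU x)⟩
  let E : ∀ a, Γ((Scheme.Modules.pullback π).obj L, V a) := fun a => pullElt π (e a)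
  let N : ∀ a, Γ(CohB1.tensorPow L q, V a) := fun a => res _ (hVU a) (powT (e a) q)
  have hE : ∀ a, IsFrame (E a) := fun a => isFrame_pullElt π (he a)
  have hN : ∀ a, IsFrame (N a) := fun a => (isFrame_powT (he a) q).res (hVU a)
  have key : ∀ (a b : X) (W : X.Opens) (ha : W ≤ V a) (hb' : W ≤ V b), ∃ c : Γ(X, W),
      res _ hb' (E b) = c ^ q • res _ ha (E a) ∧ res _ hb' (N b) = c ^ q • res _ ha (N a) := by
    intro a b W ha hb'
    have hW : W ≤ π ⁻¹ᵁ (U a ⊓ U b) := fun x hx => ⟨ha hx, hb' hx⟩
    have hWT : W ≤ U a ⊓ U b := hW.trans (preimage_eq π hb _).le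
    obtain ⟨c, hc⟩ := (he a).exists_coord inf_le_left (res L (inf_le_right : U a ⊓ U b ≤ U b) (e b))
    refine ⟨resR hWT c, ?_, ?_⟩
    · have h1 := congrArg (fun t => res _ hW (pullElt π t)) hc
      simp only [pullElt_smul, res_smul, ← res_pullElt, res_res] at h1
      rw [resR_app π q hb hle happ hW c] at h1
      exact h1
    · have h1 := congrArg (fun t => res _ hWT (powT t q)) hc
      simp only [powT_smul, res_smul, ← powT_res, res_res, map_pow] at h1
      show res _ hb' (res _ (hVU b) _) = _ • res _ ha (res _ (hVU a) _)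
      rw [res_res, res_res]
      exact h1
  have hc1 : ∀ (a b : X) (W : X.Opens) (ha : W ≤ V a) (hb' : W ≤ V b) (g : Γ(X, W)),
      res _ hb' (E b) = g • res _ ha (E a) → res _ hb' (N b) = g • res _ ha (N a) := by
    intro a b W ha hb' g hg
    obtain ⟨c, h1, h2⟩ := key a b W ha hb'
    rw [h2, (hE a).coord_unique ha (h1.symm.trans hg)]
  have hc2 : ∀ (a b : X) (W : X.Opens) (ha : W ≤ V a) (hb' : W ≤ V b) (g : Γ(X, W)),
      res _ hb' (N b) = g • res _ ha (N a) → res _ hb' (E b) = g • res _ ha (E a) := by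
    intro a b W ha hb' g hg
    obtain ⟨c, h1, h2⟩ := key a b W ha hb'
    rw [h1, (hN a).coord_unique ha (h2.symm.trans hg)]
  exact ⟨{ hom := ofFrames hcov hE hc1
           inv := ofFrames hcov hN hc2
           hom_inv_id := hom_ext_of_frames V hcov E hE fun a => by
             rw [Scheme.Modules.Hom.comp_app]
             exact (congrArg ((ofFrames hcov hN hc2).app (V a)) (ofFrames_app hcov hE hc1 a)).trans (ofFrames_app hcov hN hc2 a)
           inv_hom_id := hom_ext_of_frames V hcov N hN fun a => by
             rw [Scheme.Modules.Hom.comp_app]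
             exact (congrArg ((ofFrames hcov hE hc1).app (V a)) (ofFrames_app hcov hN hc2 a)).trans (ofFrames_app hcov hE hc1 a) }⟩

end Groth.Agent.AVFrobPull
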