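import Groth.Agent.Lib.AVAmple
import Groth.Agent.Lib.AbDualBase
import Groth.Agent.Lib.AVMulN
import Groth.Agent.AVTors.Card
import Groth.Agent.AVTors.Dense
import Groth.Agent.H23.Isogeny
import Groth.Agent.FpqcDescLib.Basic
import Groth.Agent.GrpSchLib.Cartier
import Groth.Agent.GrpSchLib.SmoothReduced
import Groth.Agent.InvX.GenLocusPull
import Groth.Agent.H23.Rigid
import Groth.Agent.H23.PicMul
import Groth.Agent.GrpSchLib.AntiAffineBC
import Mathlib.LinearAlgebra.LinearIndependent.Lemmas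

/-!
Invertible modules killed by a finite étale homomorphism of abelian varieties give characters of its kernel.
-/

set_option linter.style.haveILetI false
set_option linter.unusedSectionVars false
set_option backward.isDefEq.respectTransparency false
set_option backward.isDefEq.respectTransparency.types false
set_option maxHeartbeats 400000

universe u

open CategoryTheory CategoryTheory.Limits MonoidalCategory CartesianMonoidalCategory MonObj AlgebraicGeometry TopologicalSpace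

namespace Groth.Agent.AVTorsChar

open Groth.Agent.AModX Groth.Agent.InvX Groth.Agent.H23 Groth.Agent.H23.TrivBasic

section Functions

variable {X Y : Scheme.{u}}

theorem eq_of_locallyR {V : X.Opens} (x y : Γ(X, V))
    (h : ∀ p ∈ V, ∃ (W : X.Opens) (i : W ≤ V), p ∈ W ∧ resR i x = resR i y) : x = y :=
  AModX.eq_of_locally (M := Coh.structureModule X) x y h

theorem app_resR (π : X ⟶ Y) {U W : Y.Opens} (h : W ≤ U) (g : Γ(Y, U)) :
    π.app W (resR h g) = resR (π.preimage_mono h) (π.app U g) :=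
  ConcreteCategory.congr_hom (π.naturality (homOfLE h).op) g

theorem appTop_appLE {Z W : Scheme.{u}} (s : Z ⟶ W) (v : W ⟶ X) {V : X.Opens} (h : ⊤ ≤ v ⁻¹ᵁ V) (f : Γ(X, V)) :
    s.appTop (v.appLE V ⊤ h f) =
      (s ≫ v).appLE V ⊤ (by rw [Scheme.Hom.comp_preimage]; exact fun z _ => h (x := s z) trivial) f := by
  show (v.appLE V ⊤ h ≫ s.app ⊤).hom f = _
  rw [← s.appLE_eq_app, Scheme.Hom.appLE_comp_appLE]
  rfl

variable (π : X ⟶ Y) {τ τ' : X ⟶ X}

theorem pre_le (hτ : τ ≫ π = π) (U : Y.Opens) : π ⁻¹ᵁ U ≤ τ ⁻¹ᵁ (π ⁻¹ᵁ U) := by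
  rw [← Scheme.Hom.comp_preimage, hτ]

/-- Functions on the preimage of an open, moved by an automorphism over the target. -/
noncomputable def sh (hτ : τ ≫ π = π) (U : Y.Opens) : Γ(X, π ⁻¹ᵁ U) →+* Γ(X, π ⁻¹ᵁ U) :=
  (τ.appLE _ _ (pre_le π hτ U)).hom

theorem sh_res (hτ : τ ≫ π = π) {U W : Y.Opens} (h : W ≤ U) (f : Γ(X, π ⁻¹ᵁ U)) :
    sh π hτ W (resR (π.preimage_mono h) f) = resR (π.preimage_mono h) (sh π hτ U f) := by
  show ((X.presheaf.map (homOfLE (π.preimage_mono h)).op) ≫ τ.appLE _ _ (pre_le π hτ W)).hom f =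
    (τ.appLE _ _ (pre_le π hτ U) ≫ X.presheaf.map (homOfLE (π.preimage_mono h)).op).hom f
  rw [Scheme.Hom.map_appLE, Scheme.Hom.appLE_map]

theorem sh_app (hτ : τ ≫ π = π) (U : Y.Opens) (g : Γ(Y, U)) : sh π hτ U (π.app U g) = π.app U g := by
  show (π.app U ≫ τ.appLE _ _ (pre_le π hτ U)).hom g = _
  rw [← π.appLE_eq_app, Scheme.Hom.appLE_comp_appLE]
  simp only [hτ]

theorem sh_sh (hτ : τ ≫ π = π) (hτ' : τ' ≫ π = π) (h : (τ ≫ τ') ≫ π = π) (U : Y.Opens) (f : Γ(X, π ⁻¹ᵁ U)) :
    sh π hτ U (sh π hτ' U f) = sh π h U f := by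
  show (τ'.appLE _ _ (pre_le π hτ' U) ≫ τ.appLE _ _ (pre_le π hτ U)).hom f = _
  rw [Scheme.Hom.appLE_comp_appLE]
  rfl

theorem sh_id (h : 𝟙 X ≫ π = π) (U : Y.Opens) (f : Γ(X, π ⁻¹ᵁ U)) : sh π h U f = f := by
  show ((𝟙 X : X ⟶ X).appLE _ _ (pre_le π h U)).hom f = f
  simp [Scheme.Hom.appLE]
  exact ConcreteCategory.congr_hom (X.presheaf.map_id _) f

/-- A global function is constant under the automorphism. -/
theorem sh_resR (hτ : τ ≫ π = π) {c : Γ(X, ⊤)} (hc : τ.appTop c = c) (U : Y.Opens) :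
    sh π hτ U (resR le_top c) = resR le_top c := by
  show (X.presheaf.map (homOfLE (le_top : π ⁻¹ᵁ U ≤ ⊤)).op ≫ τ.appLE _ _ (pre_le π hτ U)).hom c = _
  rw [Scheme.Hom.map_appLE]
  conv_rhs => rw [← hc]
  rfl

end Functions

section Descent

variable {V U : Scheme.{u}}

theorem exists_appTop_eq (p : V ⟶ U) (hp : FpqcDescLib.Covers p) (f : Γ(V, ⊤))
    (hf : (pullback.fst p p).appTop f = (pullback.snd p p).appTop f) : ∃ h, p.appTop h = f := by
  let ev : ∀ {Z : Scheme.{u}}, Γ(Z, ⊤) → ((CommRingCat.of (Polynomial (ULift.{u} ℤ))) ⟶ Γ(Z, ⊤)) := fun {Z} s =>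
    CommRingCat.ofHom (Polynomial.eval₂RingHom ((algebraMap ℤ Γ(Z, ⊤)).comp ULift.ringEquiv.toRingHom) s)
  have hev : ∀ {Z : Scheme.{u}} (s : Γ(Z, ⊤)), ev s Polynomial.X = s := fun s => Polynomial.eval₂_X _ _
  let m : ∀ {Z : Scheme.{u}}, Γ(Z, ⊤) → (Z ⟶ Spec (CommRingCat.of (Polynomial (ULift.{u} ℤ)))) :=
    fun {Z} s => Z.toSpecΓ ≫ Spec.map (ev s)
  have hm : ∀ {Z : Scheme.{u}} (s : Γ(Z, ⊤)), (m s).appTop ((Scheme.ΓSpecIso _).inv Polynomial.X) = s := fun {Z} s => by
    have h1 := Scheme.ΓSpecIso_inv_naturality (ev s)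
    have h2 : (m s).appTop = (Spec.map (ev s)).appTop ≫ (Scheme.ΓSpecIso Γ(Z, ⊤)).hom := by
      simp only [m, Scheme.Hom.comp_appTop, Scheme.toSpecΓ_appTop]
    have h3 : (Scheme.ΓSpecIso _).inv ≫ (m s).appTop = ev s := by
      rw [h2, ← Category.assoc, ← h1, Category.assoc, Iso.inv_hom_id, Category.comp_id]
    exact (congr($h3 Polynomial.X)).trans (hev s)
  have hnat : ∀ {Z : Scheme.{u}} (r : Z ⟶ V), r ≫ m f = m (r.appTop f) := fun {Z} r => by
    simp only [m, ← Category.assoc, Scheme.toSpecΓ_naturality]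
    rw [Category.assoc, ← Spec.map_comp]
    congr 2
    refine CommRingCat.hom_ext (Polynomial.ringHom_ext (fun c => ?_) ?_)
    · simp [ev]
    · show r.appTop (ev f Polynomial.X) = ev (r.appTop f) Polynomial.X
      rw [hev, hev]
  obtain ⟨g, hg, -⟩ := hp.desc (m f) fun T a b e => by
    rw [← pullback.lift_fst a b e, Category.assoc, hnat (pullback.fst p p), hf, ← hnat (pullback.snd p p),
      ← Category.assoc, pullback.lift_snd]
  refine ⟨g.appTop ((Scheme.ΓSpecIso _).inv Polynomial.X), ?_⟩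
  have h := hm f
  rw [← hg, Scheme.Hom.comp_appTop] at h
  exact h

end Descent

section Kernel

variable {K : Type u} [Field K] [IsAlgClosed K] {A B : Over (Spec (CommRingCat.of K))} [GrpObj A] [GrpObj B]
  [IsProper A.hom] [GeometricallyIntegral A.hom] (π : A ⟶ B) [IsMonHom π]

/-- The rational points of the kernel. -/
noncomputable def ker : Subgroup (𝟙_ (Over (Spec (CommRingCat.of K))) ⟶ A) where
  carrier := {x | x ≫ π = 1}
  one_mem' := MonObj.one_comp π
  mul_mem' := fun {a b} (ha : a ≫ π = 1) (hb : b ≫ π = 1) => by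
    show (a * b) ≫ π = 1
    rw [MonObj.mul_comp, ha, hb, _root_.mul_one]
  inv_mem' := fun {a} (ha : a ≫ π = 1) => by
    show a⁻¹ ≫ π = 1
    rw [GrpObj.inv_comp, ha, inv_one]

theorem tr_comp {x : 𝟙_ (Over (Spec (CommRingCat.of K))) ⟶ A} (hx : x ∈ ker π) :
    (AVAmple.tr x).left ≫ π.left = π.left := by
  have hx' : x ≫ π = 1 := hx
  rw [← Over.comp_left, AVAmple.tr, MonObj.mul_comp, Category.id_comp, Category.assoc, hx', MonObj.comp_one,
    _root_.mul_one]

theorem appTop_tr (a : 𝟙_ (Over (Spec (CommRingCat.of K))) ⟶ A) (c : Γ(A.left, ⊤)) :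
    (AVAmple.tr a).left.appTop c = c := by
  obtain ⟨r, rfl⟩ := (Rigid.bijective_appTop A.hom).2 c
  exact ConcreteCategory.congr_hom ((Scheme.Hom.comp_appTop _ _).symm.trans
    (congrArg Scheme.Hom.appTop (Over.w (AVAmple.tr a)))) r

theorem value_eq_of_shift {a b : 𝟙_ (Over (Spec (CommRingCat.of K))) ⟶ A} (hab : a ≫ π = b ≫ π) (U : B.left.Opens)
    (f : Γ(A.left, π.left ⁻¹ᵁ U))
    (hf : ∀ x (hx : x ∈ ker π), sh π.left (tr_comp π hx) U f = f)
    (ha : ⊤ ≤ a.left ⁻¹ᵁ (π.left ⁻¹ᵁ U)) (hb : ⊤ ≤ b.left ⁻¹ᵁ (π.left ⁻¹ᵁ U)) :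
    a.left.appLE _ ⊤ ha f = b.left.appLE _ ⊤ hb f := by
  have hx : a⁻¹ * b ∈ ker π := by
    show (a⁻¹ * b) ≫ π = 1
    rw [MonObj.mul_comp, GrpObj.inv_comp, hab, inv_mul_cancel]
  have hb' : b.left = a.left ≫ (AVAmple.tr (a⁻¹ * b)).left := by
    rw [← Over.comp_left, AVAmple.comp_tr, AVAmple.unit_comp, mul_inv_cancel_left]
  conv_lhs => rw [← hf _ hx]
  show ((AVAmple.tr (a⁻¹ * b)).left.appLE _ _ (pre_le π.left (tr_comp π hx) U) ≫ a.left.appLE _ ⊤ ha).hom f = _
  rw [Scheme.Hom.appLE_comp_appLE]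
  congr 3
  simp only [hb']

variable [IsFinite π.left] [Etale π.left] [Surjective π.left]

theorem exists_app_eq (U : B.left.Opens) (f : Γ(A.left, π.left ⁻¹ᵁ U))
    (hf : ∀ x (hx : x ∈ ker π), sh π.left (tr_comp π hx) U f = f) : ∃ h, π.left.app U h = f := by
  let V : A.left.Opens := π.left ⁻¹ᵁ U
  let p := π.left ∣_ U
  have hpV : p ≫ U.ι = V.ι ≫ π.left := morphismRestrict_ι _ _
  haveI : Flat p := IsZariskiLocalAtTarget.restrict (P := @Flat) inferInstance U
  haveI : Surjective p := IsZariskiLocalAtTarget.restrict (P := @Surjective) inferInstance U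
  haveI : QuasiCompact p := IsZariskiLocalAtTarget.restrict (P := @QuasiCompact) inferInstance U
  haveI : Etale p := IsZariskiLocalAtTarget.restrict (P := @Etale) inferInstance U
  haveI : IsReduced A.left := by
    haveI : IsIntegral A.left := GeometricallyIntegral.isIntegral_of_subsingleton A.hom
    infer_instance
  haveI : Smooth A.hom := GrpSchLib.smooth_of_isReduced_of_isAlgClosed A
  let q : pullback p p ⟶ Spec (CommRingCat.of K) := pullback.fst p p ≫ V.ι ≫ A.hom
  haveI : Smooth q := inferInstance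
  haveI : IsReduced (pullback p p) := GrpSchLib.isReduced_of_smooth_field q
  haveI : JacobsonSpace ↥(pullback p p) := LocallyOfFiniteType.jacobsonSpace q
  let u₁ := pullback.fst p p ≫ V.ι
  let u₂ := pullback.snd p p ≫ V.ι
  have h₁ : ⊤ ≤ u₁ ⁻¹ᵁ V := fun z _ => (pullback.fst p p z).2
  have h₂ : ⊤ ≤ u₂ ⁻¹ᵁ V := fun z _ => (pullback.snd p p z).2
  have hu : u₁ ≫ π.left = u₂ ≫ π.left := by
    simp only [u₁, u₂]
    rw [Category.assoc, Category.assoc, ← hpV, pullback.condition_assoc]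
  have key : u₁.appLE V ⊤ h₁ f = u₂.appLE V ⊤ h₂ f := by
    rw [← sub_eq_zero]
    refine (basicOpen_eq_bot_iff _).1 ?_
    by_contra hne
    obtain ⟨z, hz⟩ := (Opens.ne_bot_iff_nonempty _).1 hne
    obtain ⟨w, hw, hwc⟩ := nonempty_inter_closedPoints ⟨z, hz⟩
      ((pullback p p).basicOpen (u₁.appLE V ⊤ h₁ f - u₂.appLE V ⊤ h₂ f)).isOpen.isLocallyClosed
    obtain ⟨⟨s, hs⟩, hsw⟩ := (pointEquivClosedPoint q).surjective ⟨w, hwc⟩
    have hq2 : u₂ ≫ A.hom = q := by
      rw [← Over.w π, ← Category.assoc, ← hu, Category.assoc, Over.w π]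
      simp [u₁, q]
    let a : 𝟙_ (Over (Spec (CommRingCat.of K))) ⟶ A := Over.homMk (s ≫ u₁) (by
      show (s ≫ u₁) ≫ A.hom = 𝟙 _
      rw [Category.assoc]; simpa [u₁, q] using hs)
    let b : 𝟙_ (Over (Spec (CommRingCat.of K))) ⟶ A := Over.homMk (s ≫ u₂) (by
      show (s ≫ u₂) ≫ A.hom = 𝟙 _
      rw [Category.assoc, hq2]; exact hs)
    have hab : a ≫ π = b ≫ π := Over.OverMorphism.ext (by
      show (s ≫ u₁) ≫ π.left = (s ≫ u₂) ≫ π.left
      exact (Category.assoc _ _ _).trans ((congrArg (s ≫ ·) hu).trans (Category.assoc _ _ _).symm))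
    have ha : ⊤ ≤ a.left ⁻¹ᵁ V := fun z _ => h₁ (x := s z) trivial
    have hb : ⊤ ≤ b.left ⁻¹ᵁ V := fun z _ => h₂ (x := s z) trivial
    have hv := value_eq_of_shift π hab U f hf ha hb
    have h0 : s.appTop (u₁.appLE V ⊤ h₁ f - u₂.appLE V ⊤ h₂ f) = 0 := by
      rw [map_sub, sub_eq_zero, appTop_appLE, appTop_appLE]
      exact hv
    have hsw' : s (IsLocalRing.closedPoint K) = w := congrArg Subtype.val hsw
    have hmem : IsLocalRing.closedPoint K ∈ s ⁻¹ᵁ (pullback p p).basicOpen (u₁.appLE V ⊤ h₁ f - u₂.appLE V ⊤ h₂ f) := by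
      show s (IsLocalRing.closedPoint K) ∈ (pullback p p).basicOpen _
      rw [hsw']; exact hw
    rw [Scheme.preimage_basicOpen] at hmem
    rw [show s.app ⊤ (u₁.appLE V ⊤ h₁ f - u₂.appLE V ⊤ h₂ f) = 0 from h0, Scheme.basicOpen_zero] at hmem
    exact hmem
  have hV : ⊤ ≤ V.ι ⁻¹ᵁ V := fun z _ => z.2
  have hU : ⊤ ≤ U.ι ⁻¹ᵁ U := fun z _ => z.2
  obtain ⟨h', hh'⟩ := exists_appTop_eq p
    (FpqcDescLib.covers_of_isCovering (FpqcDescLib.isCovering_of_quasiCompact p)) (V.ι.appLE V ⊤ hV f) (by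
      rw [appTop_appLE, appTop_appLE]
      exact key)
  have hsurj : Function.Surjective (U.ι.appLE U ⊤ hU) := by
    rw [Scheme.Opens.ι_appLE]
    exact (ConcreteCategory.bijective_of_isIso (B.left.presheaf.map (eqToHom (U.ι_image_top)).op)).2
  have hinj : Function.Injective (V.ι.appLE V ⊤ hV) := by
    rw [Scheme.Opens.ι_appLE]
    exact (ConcreteCategory.bijective_of_isIso (A.left.presheaf.map (eqToHom (V.ι_image_top)).op)).1
  obtain ⟨h, rfl⟩ := hsurj h'
  refine ⟨h, hinj ?_⟩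
  rw [← hh']
  rw [appTop_appLE]
  show (π.left.app U ≫ V.ι.appLE V ⊤ hV).hom h = _
  rw [← π.left.appLE_eq_app, Scheme.Hom.appLE_comp_appLE]
  simp only [hpV]
  rfl

theorem app_injective (U : B.left.Opens) : Function.Injective (π.left.app U) := by
  intro g g' hgg
  let p := π.left ∣_ U
  haveI : Flat p := IsZariskiLocalAtTarget.restrict (P := @Flat) inferInstance U
  haveI : Surjective p := IsZariskiLocalAtTarget.restrict (P := @Surjective) inferInstance U
  haveI : QuasiCompact p := IsZariskiLocalAtTarget.restrict (P := @QuasiCompact) inferInstance U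
  haveI : Epi p := (FpqcDescLib.covers_of_isCovering (FpqcDescLib.isCovering_of_quasiCompact p)).epi
  have hV : ⊤ ≤ (π.left ⁻¹ᵁ U).ι ⁻¹ᵁ (π.left ⁻¹ᵁ U) := fun z _ => z.2
  have hU : ⊤ ≤ U.ι ⁻¹ᵁ U := fun z _ => z.2
  have hinj : Function.Injective (U.ι.appLE U ⊤ hU) := by
    rw [Scheme.Opens.ι_appLE]
    exact (ConcreteCategory.bijective_of_isIso (B.left.presheaf.map (eqToHom (U.ι_image_top)).op)).1
  have key : ∀ z, p.appTop (U.ι.appLE U ⊤ hU z) = (π.left ⁻¹ᵁ U).ι.appLE _ ⊤ hV (π.left.app U z) := fun z => by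
    rw [appTop_appLE]
    show _ = (π.left.app U ≫ (π.left ⁻¹ᵁ U).ι.appLE _ ⊤ hV).hom z
    rw [← π.left.appLE_eq_app, Scheme.Hom.appLE_comp_appLE]
    simp only [p, morphismRestrict_ι]
  refine hinj (GrpSchLib.AntiAffine.appTop_injective_of_epi p ?_)
  rw [key, key, hgg]

end Kernel

section Data

variable {X Y : Scheme.{u}} (π : X ⟶ Y)

/-- A trivialization of the inverse image of a module, written in local frames downstairs. -/
structure Dat (N : Y.Modules) : Type u where
  U : Y → Y.Opens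
  mem : ∀ y, y ∈ U y
  e : ∀ y, Γ(N, U y)
  frame : ∀ y, IsFrame (e y)
  f : ∀ y, Γ(X, π ⁻¹ᵁ U y)
  isUnit : ∀ y, IsUnit (f y)
  compat : ∀ (y z : Y) (W : Y.Opens) (hy : W ≤ U y) (hz : W ≤ U z) (g : Γ(Y, W)),
    AModX.res N hz (e z) = g • AModX.res N hy (e y) →
      resR (π.preimage_mono hy) (f y) = resR (π.preimage_mono hz) (f z) * π.app W g

variable {N M : Y.Modules}

theorem exists_dat (hN : PicF.IsInvertible N) (ht : Triv ((Scheme.Modules.pullback π).obj N)) :
    Nonempty (Dat π N) := by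
  obtain ⟨t, ht⟩ := ht.exists_frame
  choose U hU e he using InvX.exists_frame hN
  choose f hf using fun y => (isFrame_pullElt π (he y)).exists_coord le_rfl
    (AModX.res _ (le_top : π ⁻¹ᵁ U y ≤ ⊤) t)
  simp only [AModX.res_self] at hf
  refine ⟨⟨U, hU, e, he, f, fun y => ?_, fun y z W hy hz g hg => ?_⟩⟩
  · obtain ⟨g, hg⟩ := ht.exists_coord (le_top : π ⁻¹ᵁ U y ≤ ⊤) (pullElt π (e y))
    refine IsUnit.of_mul_eq_one g ((ht.res (le_top : π ⁻¹ᵁ U y ≤ ⊤)).coord_unique le_rfl ?_)
    rw [AModX.res_self, mul_smul, one_smul, ← hg, ← hf]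
  · refine (isFrame_pullElt π ((he y).res hy)).coord_unique le_rfl ?_
    rw [AModX.res_self, mul_smul, ← pullElt_smul, ← hg, ← res_pullElt, ← res_pullElt,
      ← AModX.res_smul, ← AModX.res_smul, ← hf, ← hf, AModX.res_res, AModX.res_res]

variable {π}

/-- The constant by which an automorphism over the target moves the trivialization. -/
def IsChar (D : Dat π N) {τ : X ⟶ X} (hτ : τ ≫ π = π) (c : Γ(X, ⊤)) : Prop :=
  ∀ y, sh π hτ (D.U y) (D.f y) = resR le_top c * D.f y

variable (D : Dat π N) {τ τ' : X ⟶ X}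

theorem exists_isChar (hτ : τ ≫ π = π) : ∃ c, IsChar D hτ c := by
  let r : ∀ y, Γ(X, π ⁻¹ᵁ D.U y) := fun y => sh π hτ (D.U y) (D.f y) * ↑(D.isUnit y).unit⁻¹
  have hr : ∀ y, r y * D.f y = sh π hτ (D.U y) (D.f y) := fun y => by
    simp only [r, _root_.mul_assoc, IsUnit.val_inv_mul, _root_.mul_one]
  obtain ⟨c, hc, -⟩ := AModX.existsUnique_glue (M := Coh.structureModule X) (V := ⊤) (fun y => π ⁻¹ᵁ D.U y)
    (fun _ => le_top) (fun p _ => ⟨π p, D.mem (π p)⟩) r (fun y z => by
      show resR (π.preimage_mono (inf_le_left : D.U y ⊓ D.U z ≤ D.U y)) (r y) =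
        resR (π.preimage_mono (inf_le_right : D.U y ⊓ D.U z ≤ D.U z)) (r z)
      obtain ⟨g, hg⟩ := ((D.frame y).res (inf_le_left : D.U y ⊓ D.U z ≤ _)).exists_coord le_rfl
        (AModX.res N (inf_le_right : D.U y ⊓ D.U z ≤ _) (D.e z))
      rw [AModX.res_self] at hg
      have h := D.compat y z _ inf_le_left inf_le_right g hg
      refine ((D.isUnit y).map (resR (π.preimage_mono (inf_le_left : D.U y ⊓ D.U z ≤ _)))).mul_right_cancel ?_
      conv_rhs => rw [h, ← _root_.mul_assoc, ← map_mul, hr, ← sh_res π hτ inf_le_right]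
      rw [← map_mul, hr, ← sh_res π hτ inf_le_left, h, map_mul, sh_app])
  exact ⟨c, fun y => (hr y).symm.trans (congrArg (· * D.f y) (hc y).symm)⟩

theorem IsChar.unique {hτ : τ ≫ π = π} {c c' : Γ(X, ⊤)} (h : IsChar D hτ c) (h' : IsChar D hτ c') : c = c' :=
  eq_of_locallyR c c' fun p _ => ⟨π ⁻¹ᵁ D.U (π p), le_top, D.mem (π p),
    (D.isUnit (π p)).mul_right_cancel ((h (π p)).symm.trans (h' (π p)))⟩

theorem isChar_id (h : 𝟙 X ≫ π = π) : IsChar D h 1 := fun y => by rw [sh_id, map_one, _root_.one_mul]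

theorem IsChar.comp {hτ : τ ≫ π = π} {hτ' : τ' ≫ π = π} {c c' : Γ(X, ⊤)} (h : IsChar D hτ c) (h' : IsChar D hτ' c')
    (hc : τ.appTop c' = c') (hh : (τ ≫ τ') ≫ π = π) : IsChar D hh (c * c') := fun y => by
  rw [← sh_sh π hτ hτ' hh, h' y, map_mul, h y, sh_resR π hτ hc, map_mul]
  ring

theorem isChar_congr {hτ : τ ≫ π = π} {hτ' : τ' ≫ π = π} (e : τ = τ') {c : Γ(X, ⊤)} (h : IsChar D hτ c) :
    IsChar D hτ' c := by
  subst e; exact h

/-- The tensor product of two trivializations. -/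
noncomputable def Dat.tensor (D' : Dat π M) : Dat π (CohB1.tensorMod N M) where
  U y := D.U y ⊓ D'.U y
  mem y := ⟨D.mem y, D'.mem y⟩
  e y := tmul (AModX.res N inf_le_left (D.e y)) (AModX.res M inf_le_right (D'.e y))
  frame y := isFrame_tmul ((D.frame y).res inf_le_left) ((D'.frame y).res inf_le_right)
  f y := resR (π.preimage_mono inf_le_left) (D.f y) * resR (π.preimage_mono inf_le_right) (D'.f y)
  isUnit y := ((D.isUnit y).map _).mul ((D'.isUnit y).map _)
  compat y z W hy hz g hg := by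
    obtain ⟨g₁, hg₁⟩ := ((D.frame y).res (hy.trans inf_le_left)).exists_coord le_rfl
      (AModX.res N (hz.trans inf_le_left) (D.e z))
    obtain ⟨g₂, hg₂⟩ := ((D'.frame y).res (hy.trans inf_le_right)).exists_coord le_rfl
      (AModX.res M (hz.trans inf_le_right) (D'.e z))
    rw [AModX.res_self] at hg₁ hg₂
    simp only [res_tmul, AModX.res_res] at hg
    rw [hg₁, hg₂, tmul_smul_left, tmul_smul_right, ← mul_smul] at hg
    have hgg : g₁ * g₂ = g := (isFrame_tmul ((D.frame y).res (hy.trans inf_le_left))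
      ((D'.frame y).res (hy.trans inf_le_right))).coord_unique le_rfl (by simpa only [AModX.res_self] using hg)
    simp only [map_mul, resR_resR]
    rw [D.compat y z W (hy.trans inf_le_left) (hz.trans inf_le_left) g₁ hg₁,
      D'.compat y z W (hy.trans inf_le_right) (hz.trans inf_le_right) g₂ hg₂, ← hgg, map_mul]
    ring

theorem IsChar.tensor {D' : Dat π M} {hτ : τ ≫ π = π} {c c' : Γ(X, ⊤)} (h : IsChar D hτ c) (h' : IsChar D' hτ c') :
    IsChar (D.tensor D') hτ (c * c') := fun y => by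
  show sh π hτ (D.U y ⊓ D'.U y)
      (resR (π.preimage_mono inf_le_left) (D.f y) * resR (π.preimage_mono inf_le_right) (D'.f y)) =
    resR (le_top : π ⁻¹ᵁ (D.U y ⊓ D'.U y) ≤ ⊤) (c * c') * (resR (π.preimage_mono (inf_le_left : D.U y ⊓ D'.U y ≤ D.U y)) (D.f y) *
      resR (π.preimage_mono (inf_le_right : D.U y ⊓ D'.U y ≤ D'.U y)) (D'.f y))
  rw [map_mul, sh_res π hτ inf_le_left, sh_res π hτ inf_le_right, h y, h' y]
  simp only [map_mul, resR_resR]
  ring

theorem isChar_one_of_triv (hN : Triv N) (hτ : τ ≫ π = π) (hconst : ∀ c, τ.appTop c = c) : IsChar D hτ 1 := by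
  obtain ⟨ε, hε⟩ := hN.exists_frame
  choose g hg using fun y => hε.exists_coord (le_top : D.U y ≤ ⊤) (D.e y)
  have hgu : ∀ y, IsUnit (g y) := fun y => by
    obtain ⟨w, hw⟩ := (D.frame y).exists_coord le_rfl (AModX.res N (le_top : D.U y ≤ ⊤) ε)
    rw [AModX.res_self, hg] at hw
    refine IsUnit.of_mul_eq_one w ((hε.res (le_top : D.U y ≤ ⊤)).coord_unique le_rfl ?_)
    rw [AModX.res_self, mul_comm, mul_smul, one_smul, ← hw]
  obtain ⟨c, hc, -⟩ := AModX.existsUnique_glue (M := Coh.structureModule X) (V := ⊤) (fun y => π ⁻¹ᵁ D.U y)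
    (fun _ => le_top) (fun p _ => ⟨π p, D.mem (π p)⟩) (fun y => D.f y * π.app _ (g y)) (fun y z => by
      show resR (π.preimage_mono (inf_le_left : D.U y ⊓ D.U z ≤ D.U y)) (D.f y * π.app _ (g y)) =
        resR (π.preimage_mono (inf_le_right : D.U y ⊓ D.U z ≤ D.U z)) (D.f z * π.app _ (g z))
      obtain ⟨a, ha⟩ := ((D.frame y).res (inf_le_left : D.U y ⊓ D.U z ≤ _)).exists_coord le_rfl
        (AModX.res N (inf_le_right : D.U y ⊓ D.U z ≤ _) (D.e z))
      rw [AModX.res_self] at ha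
      have h := D.compat y z _ inf_le_left inf_le_right a ha
      rw [hg, hg, AModX.res_smul, AModX.res_smul, AModX.res_res, AModX.res_res, ← mul_smul] at ha
      have hag := hε.coord_unique _ ha
      rw [map_mul, map_mul, ← app_resR π inf_le_left, ← app_resR π inf_le_right, h, hag, map_mul]
      ring)
  intro y
  have h : sh π hτ (D.U y) (D.f y * π.app _ (g y)) = D.f y * π.app _ (g y) := by
    rw [show D.f y * π.app _ (g y) = resR le_top c from (hc y).symm, sh_resR π hτ (hconst c)]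
  rw [map_mul, sh_app] at h
  rw [map_one, _root_.one_mul]
  exact ((hgu y).map (π.app _).hom).mul_right_cancel h

theorem triv_of_char (hinj : ∀ U, Function.Injective (π.app U)) (hdesc : ∀ y, ∃ h, π.app (D.U y) h = D.f y)
    (hdesc' : ∀ y, ∃ h, π.app (D.U y) h = ↑(D.isUnit y).unit⁻¹) : Triv N := by
  choose h hh using hdesc
  choose h' hh' using hdesc'
  have hu : ∀ y, IsUnit (h y) := fun y => IsUnit.of_mul_eq_one (h' y) (hinj _ (by
    rw [map_mul, hh, hh', map_one, IsUnit.mul_val_inv]))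
  obtain ⟨s, hs, -⟩ := AModX.existsUnique_glue (M := N) (V := ⊤) (fun y => D.U y)
    (fun _ => le_top) (fun p _ => ⟨p, D.mem p⟩) (fun y => h y • D.e y) (fun y z => by
      obtain ⟨a, ha⟩ := ((D.frame y).res (inf_le_left : D.U y ⊓ D.U z ≤ _)).exists_coord le_rfl
        (AModX.res N (inf_le_right : D.U y ⊓ D.U z ≤ _) (D.e z))
      rw [AModX.res_self] at ha
      have hc := D.compat y z _ inf_le_left inf_le_right a ha
      rw [← hh, ← hh, ← app_resR π inf_le_left, ← app_resR π inf_le_right, ← map_mul] at hc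
      rw [AModX.res_smul, AModX.res_smul, ha, ← mul_smul, hinj _ hc])
  refine triv_of_frame (e := s) (isFrame_of_germwise fun p _ => ⟨D.U p, le_top, D.mem p, ?_⟩)
  rw [hs p]
  exact (D.frame p).isUnit_smul (hu p)

end Data

section Main

open scoped Groth.Agent.H23.PicMul

variable {K : Type u} [Field K] [IsAlgClosed K] {A B : Over (Spec (CommRingCat.of K))} [GrpObj A] [GrpObj B]
  [IsProper A.hom] [GeometricallyIntegral A.hom] (π : A ⟶ B) [IsMonHom π]

theorem exists_monoidHom {N : B.left.Modules} (D : Dat π.left N) :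
    ∃ χ : ker π →* Γ(A.left, ⊤), ∀ x : ker π, IsChar D (tr_comp π x.2) (χ x) := by
  choose c hc using fun x : ker π => exists_isChar D (tr_comp π x.2)
  refine ⟨{ toFun := c, map_one' := ?_, map_mul' := fun x y => ?_ }, hc⟩
  · refine IsChar.unique D (hc 1) (isChar_congr D (τ := 𝟙 A.left) (hτ := Category.id_comp π.left) ?_ (isChar_id D _))
    show 𝟙 A.left = (AVAmple.tr ((1 : ker π) : 𝟙_ _ ⟶ A)).left
    rw [OneMemClass.coe_one, AVAmple.tr_one, Over.id_left]
  · have e : (AVAmple.tr (x : 𝟙_ _ ⟶ A)).left ≫ (AVAmple.tr (y : 𝟙_ _ ⟶ A)).left =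
        (AVAmple.tr ((x * y : ker π) : 𝟙_ _ ⟶ A)).left := by
      rw [← Over.comp_left, AVAmple.tr_tr]
      rfl
    exact IsChar.unique D (hc (x * y)) (isChar_congr D e (IsChar.comp D (hc x) (hc y) (appTop_tr _ _)
      (by rw [e]; exact tr_comp π (x * y).2)))

variable [IsFinite π.left] [Etale π.left] [Surjective π.left]

theorem triv_of_monoidHom_one {N : B.left.Modules} (D : Dat π.left N)
    (h : ∀ x : ker π, IsChar D (tr_comp π x.2) 1) : Triv N := by
  refine triv_of_char D (app_injective π) (fun y => exists_app_eq π _ _ fun x hx => ?_)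
    fun y => exists_app_eq π _ _ fun x hx => ?_
  · simpa using h ⟨x, hx⟩ y
  · refine (D.isUnit y).mul_left_cancel ?_
    have hf : sh π.left (tr_comp π hx) _ (D.f y) = D.f y := by simpa using h ⟨x, hx⟩ y
    refine (congrArg (· * _) hf.symm).trans ?_
    rw [← map_mul, IsUnit.mul_val_inv, map_one]

/-- The classes killed by a finite étale homomorphism are no more than the points of its kernel. -/
theorem card_kerCl_le [Finite (ker π)] :
    Finite {c : PicF.Cl B.left // PicF.IsInvertibleCl c ∧ PicF.pullCl π.left c = 1} ∧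
      Nat.card {c : PicF.Cl B.left // PicF.IsInvertibleCl c ∧ PicF.pullCl π.left c = 1} ≤ Nat.card (ker π) := by
  let S := {c : PicF.Cl B.left // PicF.IsInvertibleCl c ∧ PicF.pullCl π.left c = 1}
  haveI : IsIntegral A.left := GeometricallyIntegral.isIntegral_of_subsingleton A.hom
  choose L hL hLi using fun c : S => c.2.1
  have hLt : ∀ c : S, Triv ((Scheme.Modules.pullback π.left).obj (L c)) := fun c =>
    (PicGrp.cl_eq_cl_iff _ _).1 (show PicF.pullCl π.left (PicF.cl (L c)) = 1 from (hL c).symm ▸ c.2.2)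
  let D := fun c : S => (exists_dat π.left (hLi c) (hLt c)).some
  choose χ hχ using fun c : S => exists_monoidHom π (D c)
  have hone : ∀ {N : B.left.Modules} (E : Dat π.left N), Triv N → ∀ x : ker π, IsChar E (tr_comp π x.2) 1 :=
    fun E hN x => isChar_one_of_triv E hN _ (appTop_tr _)
  have hinj : Function.Injective χ := fun c d hcd => by
    obtain ⟨M, hM, e⟩ := PicInv.exists_inverse (hLi d)
    have he : d.1 * PicF.cl M = 1 := hL d ▸ (PicGrp.cl_eq_cl_iff _ _).2 e
    have hMt : Triv ((Scheme.Modules.pullback π.left).obj M) := (PicGrp.cl_eq_cl_iff _ _).1 (by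
      show PicF.pullCl π.left (PicF.cl M) = 1
      have h := congrArg (PicF.pullCl π.left) he
      rwa [PicMul.pullCl_mul, d.2.2, _root_.one_mul, PicMul.pullCl_one] at h)
    obtain ⟨E⟩ := exists_dat π.left hM hMt
    obtain ⟨ψ, hψ⟩ := exists_monoidHom π E
    have h1 : ∀ x, χ d x * ψ x = 1 := fun x =>
      IsChar.unique _ (IsChar.tensor (D d) (hχ d x) (hψ x)) (hone ((D d).tensor E) e x)
    have ht : Triv (CohB1.tensorMod (L c) M) := triv_of_monoidHom_one π ((D c).tensor E) fun x => by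
      rw [← h1 x, ← hcd]
      exact IsChar.tensor (D c) (hχ c x) (hψ x)
    have h2 : c.1 * PicF.cl M = 1 := hL c ▸ (PicGrp.cl_eq_cl_iff _ _).2 ht
    exact Subtype.ext ((PicMul.isUnit_cl hM).mul_right_cancel (h2.trans he.symm))
  have hli := (linearIndependent_monoidHom (ker π) Γ(A.left, ⊤)).comp χ hinj
  haveI : Finite S := hli.finite
  haveI := Fintype.ofFinite S
  haveI := Fintype.ofFinite (ker π)
  have hcard := hli.fintype_card_le_finrank
  rw [Module.finrank_pi] at hcard
  exact ⟨inferInstance, by simpa only [Nat.card_eq_fintype_card] using hcard⟩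

end Main

section Dual

open scoped Groth.Agent.H23.PicMul

variable {K : Type u} [Field K] [IsAlgClosed K] {A At : Over (Spec (CommRingCat.of K))}
  [GrpObj A] [IsCommMonObj A] [IsProper A.hom] [GeometricallyIntegral A.hom] [GrpObj At] [IsCommMonObj At]
  {φ : ∀ T : Over (Spec (CommRingCat.of K)), PicF.Cl (PicF.XT A.hom T) → (T ⟶ At)}
  (hφ : AbDual.IsDualAV Scheme.fppfPrecoverage A At φ)
include hφ

/-- The torsion points of the dual are no more than those of the variety. -/
theorem card_tors_dual_le (l : ℕ) (hl : 0 < l) (hlK : (l : K) ≠ 0) :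
    Nat.card (AbDual.torsPts At l (AVTors.pt0 K)) ≤ Nat.card (AbDual.torsPts A l (AVTors.pt0 K)) := by
  let π : A ⟶ A := 𝟙 A ^ l
  haveI : IsFinite π.left := AVMulN.isFinite_pow l hl
  haveI : Surjective π.left := AVMulN.surjective_pow l hl
  haveI : Etale π.left := by
    have hu : IsUnit ((l : ℤ) : Γ(Spec (CommRingCat.of K), ⊤)) := by
      have h := (isUnit_iff_ne_zero.2 hlK).map (Scheme.ΓSpecIso (CommRingCat.of K)).inv.hom
      rw [map_natCast] at h
      simpa using h
    haveI : GeometricallyConnected A.hom := H23.CubeAb.geometricallyConnected_of_integral A.hom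
    have := H23.MulEtale.etale_zpow (X := A) (l : ℤ) hu
    rwa [zpow_natCast] at this
  haveI : IsMonHom π := AVDegLib.isMonHom_pow l
  have hπ : ∀ x : 𝟙_ (Over (Spec (CommRingCat.of K))) ⟶ A, x ≫ π = x ^ l := fun x => by
    show x ≫ 𝟙 A ^ l = x ^ l
    rw [MonObj.comp_pow, Category.comp_id]
  let e : AbDual.torsPts A l (AVTors.pt0 K) ≃ ker π :=
    Equiv.subtypeEquivRight fun x => (Iff.of_eq (congrArg (· = 1) (hπ x))).symm
  obtain ⟨g, hg⟩ := AVTors.exists_dimNat A
  haveI := (AVTors.card_torsPts_le (A := A) hg l hl).1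
  haveI : Finite (ker π) := Finite.of_equiv _ e
  obtain ⟨hfin, hcard⟩ := card_kerCl_le π
  let σ : Spec (CommRingCat.of K) ⟶ Spec (CommRingCat.of K) := 𝟙 _
  let T := Over.mk σ
  haveI : GeometricallyIntegral ((Over.pullback σ).obj A).hom :=
    inferInstanceAs (GeometricallyIntegral (pullback.snd A.hom σ))
  choose c hc hφc using fun a : AbDual.torsPts At l (AVTors.pt0 K) => AbDualBase.exists_class hφ σ a.1
  have hb : ∀ a (n : ℕ), PicF.pullCl (AbDual.bcMap (𝟙 A ^ n) T) (c a) = c a ^ n := fun a n => by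
    induction n with
    | zero => rw [pow_zero, pow_zero]; exact AbDualBase.pull_one σ (hc a)
    | succ n ih =>
      rw [pow_succ, AbDualBase.pull_mul σ _ _ (hc a), ih, AbDualBase.bcMap_id, PicClLib.pullCl_id, ← pow_succ]
  have hz : ∀ a (n : ℕ), AbDual.IsPicZeroCl A.hom T (c a ^ n) := fun a n => hb a n ▸ AbDualBase.pz_bc _ (hc a)
  have hpow : ∀ a (n : ℕ), φ T (c a ^ n) = a.1 ^ n := fun a n => by
    induction n with
    | zero => rw [pow_zero, pow_zero]; exact AbDualBase.phi_one hφ T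
    | succ n ih => rw [pow_succ, AbDualBase.phi_mul hφ (hz a n) (hc a), ih, hφc, pow_succ]
  have hl1 : ∀ a, PicF.pullCl (AbDual.bcMap π T) (c a) = 1 := fun a => by
    rw [hb a l]
    refine AbDualBase.eq_of_phi_point hφ σ (hz a l) (AbDualBase.pz_one T) ?_
    rw [hpow a l, AbDualBase.phi_one hφ]
    exact a.2
  let i : A.left ⟶ PicF.XT A.hom T := pullback.lift (𝟙 _) A.hom (by
    rw [Category.id_comp]; exact (Category.comp_id _).symm)
  have hi : pullback.fst A.hom T.hom ≫ i = 𝟙 _ := by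
    refine pullback.hom_ext ?_ ?_
    · rw [Category.assoc, pullback.lift_fst, Category.comp_id, Category.id_comp]
    · rw [Category.assoc, pullback.lift_snd, Category.id_comp, pullback.condition]
      exact Category.comp_id _
  have hπi : π.left ≫ i = i ≫ AbDual.bcMap π T := by
    refine pullback.hom_ext ?_ ?_
    · rw [Category.assoc, Category.assoc, pullback.lift_fst, AbDualBase.bcMap_fst, Category.comp_id,
        pullback.lift_fst_assoc, Category.id_comp]
    · rw [Category.assoc, Category.assoc, pullback.lift_snd, AbDualBase.bcMap_snd, pullback.lift_snd, Over.w π]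
  let j : AbDual.torsPts At l (AVTors.pt0 K) → {d : PicF.Cl A.left // PicF.IsInvertibleCl d ∧ PicF.pullCl π.left d = 1} :=
    fun a => ⟨PicF.pullCl i (c a), by
      obtain ⟨L, hL, hLi⟩ := AbDualBase.pz_invertible (hc a)
      exact ⟨_, hL ▸ rfl, PicClLib.isInvertible_pullback i hLi⟩, by
      rw [PicClLib.pullCl_comp, hπi, ← PicClLib.pullCl_comp, hl1, PicMul.pullCl_one]⟩
  have hj : Function.Injective j := fun a b h => by
    have h := congrArg (PicF.pullCl (pullback.fst A.hom T.hom)) (congrArg Subtype.val h)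
    simp only [j] at h
    rw [PicClLib.pullCl_comp, PicClLib.pullCl_comp, hi, PicClLib.pullCl_id, PicClLib.pullCl_id] at h
    exact Subtype.ext ((hφc a).symm.trans ((congrArg (φ T) h).trans (hφc b)))
  exact ((Nat.card_le_card_of_injective j hj).trans hcard).trans (Nat.card_congr e).ge

variable [IsProper At.hom] [GeometricallyIntegral At.hom]

/-- The dual has dimension at most that of the variety. -/
theorem dim_dual_le {g g' : ℕ} (hg : topologicalKrullDim A.left = g) (hg' : topologicalKrullDim At.left = g') :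
    g' ≤ g := by
  obtain ⟨l, hl1, hlK⟩ : ∃ l : ℕ, 1 < l ∧ (l : K) ≠ 0 := by
    by_cases h2 : ((2 : ℕ) : K) = 0
    · refine ⟨3, by norm_num, ?_⟩
      rw [Nat.cast_succ, h2, zero_add]
      exact one_ne_zero
    · exact ⟨2, by norm_num, h2⟩
  have hl : 0 < l := by omega
  have h := card_tors_dual_le hφ l hl hlK
  rw [(AVTors.card_torsPts_le hg' l hl).2.2 hlK, (AVTors.card_torsPts_le hg l hl).2.2 hlK] at h
  have := (Nat.pow_le_pow_iff_right hl1).1 h
  omega

/-- A finite morphism from the variety to its dual is surjective, and both have the same dimension. -/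
theorem surjective_of_isFinite (f : A ⟶ At) [IsFinite f.left] :
    Surjective f.left ∧ topologicalKrullDim A.left = topologicalKrullDim At.left := by
  haveI := H23.MaxAbelian.isIntegral_of_geometricallyIntegral (X := A)
  haveI := H23.MaxAbelian.isIntegral_of_geometricallyIntegral (X := At)
  have hA := VarDim.topologicalKrullDim_eq_deg_genericPoint A.hom
  have hAt := VarDim.topologicalKrullDim_eq_deg_genericPoint At.hom
  have hle := dim_dual_le hφ hA hAt
  have h3 := VarDim.deg_eq_add f.left At.hom (Over.w f) (genericPoint A.left)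
  rw [H23.Isogeny.fdeg_eq_zero_of_finite f.left, add_zero] at h3
  have h1 := VarDim.deg_le_of_specializes At.hom (genericPoint_specializes (f.left (genericPoint A.left)))
  have he : topologicalKrullDim A.left = topologicalKrullDim At.left := by
    rw [hA, hAt, show VarDim.deg A.hom (genericPoint A.left) = VarDim.deg At.hom (genericPoint At.left) by omega]
  exact ⟨H23.Isogeny.surjective_of_isFinite A.hom At.hom f.left (Over.w f) he, he⟩

end Dual

end Groth.Agent.AVTorsChar
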