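import Groth.Agent.Lib.TopInt
import Groth.Agent.Lib.AVCube
import Groth.Agent.AVDegLib.MulN
import Groth.Agent.S7784
import Groth.Agent.S8121
import Groth.Agent.S19572

/-!
The degree of a homomorphism of abelian varieties is a homogeneous polynomial in the coefficients of
a combination of given homomorphisms.
-/

set_option autoImplicit false
set_option linter.style.haveILetI false
set_option linter.unusedSectionVars false
set_option backward.isDefEq.respectTransparency false
set_option backward.isDefEq.respectTransparency.types false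
set_option maxHeartbeats 1000000

universe u

open CategoryTheory CategoryTheory.Limits MonoidalCategory CartesianMonoidalCategory MonObj AlgebraicGeometry TopologicalSpace
open Groth.Agent.H23

noncomputable section

namespace Groth.Agent.AVDegPoly

attribute [local instance] PicMul.clMonoid

variable {k : Type u} [Field k]

/-- The structure morphism of the underlying scheme. -/
local instance overLeft (T : Over (Spec (CommRingCat.of k))) : T.left.Over (Spec (CommRingCat.of k)) := ⟨T.hom⟩

local instance isProper_overLeft (T : Over (Spec (CommRingCat.of k))) [IsProper T.hom] :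
    IsProper (T.left ↘ Spec (CommRingCat.of k)) := ‹IsProper T.hom›

variable {T B : Over (Spec (CommRingCat.of k))} {L : B.left.Modules} (hL : PicF.IsInvertible L)

/-- The class of the pullback along a morphism. -/
def q (f : T ⟶ B) : TopInt.inv T.left :=
  ⟨AVCube.pc hL f, PicClLib.isInvertibleCl_pullCl f.left ⟨L, rfl, hL⟩⟩

variable [GrpObj B] [IsProper B.hom] [GeometricallyIntegral B.hom]

theorem q_one : q hL (1 : T ⟶ B) = 1 := Subtype.ext (AVCube.pc_one hL T)

theorem q_cube (f g h : T ⟶ B) :
    q hL (f * g * h) * q hL f * q hL g * q hL h = q hL (f * g) * q hL (f * h) * q hL (g * h) :=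
  Subtype.ext (AVCube.cube_rel hL f g h)

/-- The polar form. -/
def polar (f g : T ⟶ B) : TopInt.inv T.left := q hL (f * g) / (q hL f * q hL g)

theorem polar_mul_left (f g h : T ⟶ B) : polar hL (f * g) h = polar hL f h * polar hL g h := by
  have e : q hL (f * g * h) = q hL (f * g) * q hL (f * h) * q hL (g * h) / (q hL f * q hL g * q hL h) := by
    rw [eq_div_iff_mul_eq', ← q_cube hL f g h]
    simp only [_root_.mul_assoc]
  simp only [polar, e, div_eq_mul_inv, mul_inv_rev]
  apply Additive.ofMul.injective
  simp only [ofMul_mul, ofMul_inv]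
  abel

variable [IsCommMonObj B]

theorem polar_comm (f g : T ⟶ B) : polar hL f g = polar hL g f := by
  rw [polar, polar, mul_comm f g, mul_comm (q hL f)]

theorem polar_mul_right (f g h : T ⟶ B) : polar hL f (g * h) = polar hL f g * polar hL f h := by
  rw [polar_comm, polar_mul_left, polar_comm hL g, polar_comm hL h]

/-- The polar form as a bilinear map. -/
def polarHom : Additive (T ⟶ B) →+ Additive (T ⟶ B) →+ Additive (TopInt.inv T.left) :=
  AddMonoidHom.mk' (fun f => AddMonoidHom.mk' (fun g => Additive.ofMul (polar hL f.toMul g.toMul))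
      fun g h => polar_mul_right hL f.toMul g.toMul h.toMul)
    fun f g => AddMonoidHom.ext fun h => polar_mul_left hL f.toMul g.toMul h.toMul

theorem polarHom_apply (f g : Additive (T ⟶ B)) :
    polarHom hL f g = Additive.ofMul (polar hL f.toMul g.toMul) := rfl

theorem q_inv (hsym : Nonempty (L ≅ (Scheme.Modules.pullback ((𝟙 B)⁻¹).left).obj L)) (f : T ⟶ B) :
    q hL f⁻¹ = q hL f := by
  refine Subtype.ext (Units.ext ?_)
  show PicF.pullCl (f⁻¹).left (PicF.cl L) = PicF.pullCl f.left (PicF.cl L)
  have h : f⁻¹ = f ≫ (𝟙 B)⁻¹ := by rw [GrpObj.comp_inv, Category.comp_id]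
  rw [h, Over.comp_left, ← PicClLib.pullCl_comp]
  exact congrArg (PicF.pullCl f.left) (PicMul.cl_eq_iff.2 hsym).symm

theorem polar_self (hsym : Nonempty (L ≅ (Scheme.Modules.pullback ((𝟙 B)⁻¹).left).obj L))
    (f : T ⟶ B) : polar hL f f = q hL f * q hL f := by
  have h1 : polar hL f f * polar hL f f⁻¹ = 1 := by
    rw [← polar_mul_right, mul_inv_cancel, polar, _root_.mul_one, q_one, _root_.mul_one, div_self']
  rw [eq_inv_of_mul_eq_one_left h1, polar, mul_inv_cancel, q_one, q_inv hL hsym, inv_div, div_one]

theorem isMonHom_of_one {A : Over (Spec (CommRingCat.of k))} [GrpObj A] [IsProper A.hom]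
    [GeometricallyIntegral A.hom] (f : A ⟶ B) (hf : η[A] ≫ f = η[B]) : IsMonHom f := by
  haveI := CubeAb.geometricallyConnected_of_integral A.hom
  haveI := CubeAb.geometricallyConnected_of_integral B.hom
  exact S7784.result A B f hf

/-- A product of powers of homomorphisms is a homomorphism. -/
theorem isMonHom_prod_zpow {A : Over (Spec (CommRingCat.of k))} [GrpObj A] [IsProper A.hom]
    [GeometricallyIntegral A.hom] {m : ℕ} (f : Fin m → (A ⟶ B)) [∀ i, IsMonHom (f i)] (a : Fin m → ℤ) :
    IsMonHom (∏ i, f i ^ a i) := by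
  refine isMonHom_of_one _ ?_
  let φ : (A ⟶ B) →* (𝟙_ (Over (Spec (CommRingCat.of k))) ⟶ B) :=
    MonoidHom.mk' (fun g => η[A] ≫ g) fun g h => MonObj.comp_mul _ g h
  have hone : η[B] = (1 : 𝟙_ (Over (Spec (CommRingCat.of k))) ⟶ B) := by
    rw [Hom.one_def, toUnit_unique (toUnit (𝟙_ _)) (𝟙 _), Category.id_comp]
  show φ (∏ i, f i ^ a i) = _
  rw [map_prod, hone]
  refine Finset.prod_eq_one fun i _ => ?_
  rw [map_zpow, show φ (f i) = 1 from (IsMonHom.one_hom (f i)).trans hone, one_zpow]

section Degree

variable {A : Over (Spec (CommRingCat.of k))} [GrpObj A] [IsProper A.hom] [GeometricallyIntegral A.hom]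
  {g : ℕ} (hgA : topologicalKrullDim A.left = g) (hgB : topologicalKrullDim B.left = g)

include hgA hgB

/-- The degree times the self-intersection of the polarisation. -/
theorem form_q (w' : A ⟶ B) [IsMonHom w'] :
    (IsFinite w'.left → ∀ b : B.left,
      (TopInt.form k g fun _ => q hL w') = (w'.left.finrank b : ℤ) * TopInt.form k g fun _ => TopInt.mk hL) ∧
    (¬ IsFinite w'.left → (TopInt.form k g fun _ => q hL w') = 0) := by
  haveI : IsIntegral A.left := GeometricallyIntegral.isIntegral_of_subsingleton A.hom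
  haveI : IsIntegral B.left := GeometricallyIntegral.isIntegral_of_subsingleton B.hom
  haveI := CurveCohLib.isNoetherian_of_proper (k := k) (X := B.left)
  haveI := CurveCohLib.isNoetherian_of_proper (k := k) (X := A.left)
  have hw : w'.left ≫ (B.left ↘ Spec (CommRingCat.of k)) = A.left ↘ Spec (CommRingCat.of k) := Over.w w'
  have key := TopInt.form_pullback k w'.left hw hgB hgA (fun _ => TopInt.mk hL) (fun _ => q hL w') fun _ => rfl
  refine ⟨fun hfin b => ?_, fun hnf => ?_⟩
  · haveI : Surjective w'.left := ⟨fun x => by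
      let η' := genericPoint A.left
      obtain ⟨n, hn, hδ⟩ := IntPush.deltaCompat k w'.left hw η'
      have hn0 : n = 0 := by
        letI := (w'.left.residueFieldMap η').hom.toAlgebra
        haveI : Module.Finite (B.left.residueField (w'.left η')) (A.left.residueField η') :=
          MorLib.GF.finite_residueFieldMap w'.left η'
        have := trdeg_eq_zero (R := B.left.residueField (w'.left η')) (A := A.left.residueField η')
        rw [hn] at this
        exact_mod_cast this
      rw [TopInt.delta_generic k hgA, hn0, Nat.cast_zero, add_zero] at hδ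
      exact (genericPoint_specializes x).mem_closed w'.left.isClosedMap.isClosed_range
        ⟨η', TopInt.eq_generic_of_delta k hgB hδ.symm⟩⟩
    haveI : Flat w'.left := (S19572.result k A B w' (hgA.trans hgB.symm)).2
    haveI : LocallyOfFinitePresentation w'.left := by
      haveI : LocallyOfFinitePresentation (w'.left ≫ B.hom) := by rw [Over.w]; infer_instance
      exact S12442.locallyOfFinitePresentation_of_comp w'.left B.hom
    rw [key, TopInt.mapCoeff_eq_finrank k w'.left hw hgB hgA,
      w'.left.isLocallyConstant_finrank.apply_eq_of_isPreconnected isPreconnected_univ (Set.mem_univ (genericPoint B.left)) (Set.mem_univ b)]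
  · have hns : ¬ Surjective w'.left := fun hs => hnf (S19572.result k A B w' (hgA.trans hgB.symm)).1
    rw [key, TopInt.mapCoeff_eq_zero k w'.left hw hgB hgA hns]
    simp

end Degree

/-- The degree of a combination of homomorphisms is given by a homogeneous polynomial. -/
theorem exists_poly {A : Over (Spec (CommRingCat.of k))} [GrpObj A] [IsProper A.hom]
    [GeometricallyIntegral A.hom] {g : ℕ} (hgA : topologicalKrullDim A.left = g)
    (hgB : topologicalKrullDim B.left = g) {m : ℕ} (f : Fin m → (A ⟶ B)) [∀ i, IsMonHom (f i)] :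
    ∃ P : MvPolynomial (Fin m) ℚ, P.IsHomogeneous (2 * g) ∧
      ∀ a : Fin m → ℤ, (IsFinite (∏ i, f i ^ a i).left →
          ∀ b : B.left, ((∏ i, f i ^ a i).left.finrank b : ℚ) = MvPolynomial.eval (fun i => (a i : ℚ)) P) ∧
        (¬ IsFinite (∏ i, f i ^ a i).left → MvPolynomial.eval (fun i => (a i : ℚ)) P = 0) := by
  classical
  obtain ⟨L, hL, hsym⟩ := S8121.result k B
  haveI : IsIntegral A.left := GeometricallyIntegral.isIntegral_of_subsingleton A.hom
  haveI : IsIntegral B.left := GeometricallyIntegral.isIntegral_of_subsingleton B.hom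
  let D : ℤ := TopInt.form k g fun _ : Fin g => TopInt.mk hL.1
  have hD : (0 : ℚ) < D := Int.cast_pos.2 (TopInt.form_pos k hgB hL)
  let M := TopInt.multi k (X := A.left) hgA.le
  let Bp : Fin m × Fin m → Additive (TopInt.inv A.left) := fun p =>
    polarHom hL.1 (Additive.ofMul (f p.1)) (Additive.ofMul (f p.2))
  let P : MvPolynomial (Fin m) ℚ := MvPolynomial.C ((((2 : ℤ) ^ g * D : ℤ) : ℚ)⁻¹) *
    ∑ r : Fin g → Fin m × Fin m, MvPolynomial.C ((M fun i => Bp (r i) : ℤ) : ℚ) *
      ∏ i, (MvPolynomial.X (r i).1 * MvPolynomial.X (r i).2)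
  refine ⟨P, ?_, fun a => ?_⟩
  · refine MvPolynomial.IsHomogeneous.C_mul (MvPolynomial.IsHomogeneous.sum _ _ _ fun r _ => ?_) _
    refine MvPolynomial.IsHomogeneous.C_mul ?_ _
    have h := MvPolynomial.IsHomogeneous.prod Finset.univ
      (fun i => (MvPolynomial.X (r i).1 * MvPolynomial.X (r i).2 : MvPolynomial (Fin m) ℚ)) (fun _ => 1 + 1)
      fun i _ => (MvPolynomial.isHomogeneous_X ℚ _).mul (MvPolynomial.isHomogeneous_X ℚ _)
    simpa [mul_comm 2 g] using h
  let w' := ∏ i, f i ^ a i
  haveI : IsMonHom w' := isMonHom_prod_zpow f a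
  have hsum : Additive.ofMul w' = ∑ i, a i • Additive.ofMul (f i) := by
    simp [w', ofMul_prod, ofMul_zpow]
  have hexp : (2 : ℤ) • Additive.ofMul (q hL.1 w') = ∑ p : Fin m × Fin m, (a p.1 * a p.2) • Bp p := by
    have h : polarHom hL.1 (Additive.ofMul w') (Additive.ofMul w') = (2 : ℤ) • Additive.ofMul (q hL.1 w') := by
      rw [polarHom_apply, toMul_ofMul, polar_self hL.1 hsym, ofMul_mul, two_zsmul]
    rw [← h, hsum, Fintype.sum_prod_type]
    simp only [map_sum, map_zsmul, AddMonoidHom.coe_smul, AddMonoidHom.coe_finsetSum, Finset.sum_apply, Pi.smul_apply,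
      Finset.smul_sum, smul_smul, Bp]
    rw [Finset.sum_comm]
    exact Finset.sum_congr rfl fun i _ => Finset.sum_congr rfl fun j _ => by rw [mul_comm]
  have hM : (2 : ℤ) ^ g * (TopInt.form k g fun _ => q hL.1 w') =
      ∑ r : Fin g → Fin m × Fin m, (∏ i, (a (r i).1 * a (r i).2)) * M fun i => Bp (r i) := by
    have e1 := M.map_smul_univ (fun _ => (2 : ℤ)) (fun _ => Additive.ofMul (q hL.1 w'))
    rw [Finset.prod_const, Finset.card_univ, Fintype.card_fin] at e1
    rw [show (TopInt.form k g fun _ => q hL.1 w') = M fun _ => Additive.ofMul (q hL.1 w') from rfl, ← smul_eq_mul, ← e1,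
      hexp, M.map_sum]
    exact Finset.sum_congr rfl fun r _ => M.map_smul_univ (fun i => a (r i).1 * a (r i).2) fun i => Bp (r i)
  have hev : MvPolynomial.eval (fun i => (a i : ℚ)) P =
      ((TopInt.form k g fun _ => q hL.1 w' : ℤ) : ℚ) / D := by
    have hM' : (2 : ℚ) ^ g * ((TopInt.form k g fun _ => q hL.1 w' : ℤ) : ℚ) =
        ∑ r : Fin g → Fin m × Fin m, (∏ i, ((a (r i).1 : ℚ) * a (r i).2)) * ((M fun i => Bp (r i) : ℤ) : ℚ) := by
      have := congrArg (Int.cast (R := ℚ)) hM
      push_cast at this
      exact this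
    simp only [P, map_mul, MvPolynomial.eval_C, map_sum, map_prod, MvPolynomial.eval_X]
    rw [Finset.sum_congr rfl (fun r _ => mul_comm ((M fun i => Bp (r i) : ℤ) : ℚ) _), ← hM']
    push_cast
    field_simp
  refine ⟨fun hfin b => ?_, fun hnf => ?_⟩
  · rw [hev, (form_q hL.1 hgA hgB w').1 hfin b]
    push_cast
    rw [show ((TopInt.form k g fun _ : Fin g => TopInt.mk hL.1 : ℤ) : ℚ) = (D : ℚ) from rfl, mul_div_assoc,
      div_self hD.ne', _root_.mul_one]
  · rw [hev, (form_q hL.1 hgA hgB w').2 hnf]
    simp

end Groth.Agent.AVDegPoly
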