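import Groth.Agent.Lib.EulerFlatPull
import Groth.Agent.Lib.AVDegPoly
import Groth.Agent.ConsPropLib.FibreLocFreeRank
import Groth.Agent.TFOneX.Beta
import Groth.Agent.S0017
import Groth.Agent.AlgStLib.Noetherian

/-!
Euler characteristics of pullbacks along finite flat morphisms of abelian varieties.
-/

set_option autoImplicit false
set_option linter.style.haveILetI false
set_option linter.unusedSectionVars false
set_option backward.isDefEq.respectTransparency false
set_option backward.isDefEq.respectTransparency.types false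
set_option maxHeartbeats 800000
set_option synthInstance.maxHeartbeats 200000

universe u

open CategoryTheory CategoryTheory.Limits MonoidalCategory CartesianMonoidalCategory MonObj AlgebraicGeometry

noncomputable section

namespace Groth.Agent.AVEuler

open Groth.Agent

variable {k : Type u} [Field k] {X Y : Over (Spec (CommRingCat.of k))}
  [GrpObj X] [IsProper X.hom] [GeometricallyIntegral X.hom]
  [GrpObj Y] [IsProper Y.hom] [GeometricallyIntegral Y.hom]

/-- Translation as an isomorphism. -/
def tr (c : 𝟙_ (Over (Spec (CommRingCat.of k))) ⟶ Y) : Y ≅ Y where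
  hom := 𝟙 Y * (toUnit Y ≫ c)
  inv := 𝟙 Y * (toUnit Y ≫ c)⁻¹
  hom_inv_id := by
    rw [MonObj.comp_mul, Category.comp_id, GrpObj.comp_inv, comp_toUnit_assoc, mul_inv_cancel_right]
  inv_hom_id := by
    rw [MonObj.comp_mul, Category.comp_id, comp_toUnit_assoc, inv_mul_cancel_right]

variable (f : X ⟶ Y) [IsFinite f.left] [Flat f.left]

/-- The self fibre product of a finite flat morphism is a product with a finite scheme. -/
theorem exists_kernel_square : ∃ (K : Over (Spec (CommRingCat.of k))) (σ : X ⊗ K ⟶ X),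
    IsFinite K.hom ∧ IsPullback σ.left (fst X K).left f.left f.left := by
  let c := η[X] ≫ f
  let h : X ⟶ Y := f * (toUnit X ≫ c)⁻¹
  haveI : IsCommMonObj Y := isCommMonObj_of_isProper_of_geometricallyIntegral Y
  haveI : IsMonHom h := AVDegPoly.isMonHom_of_one h (by
    rw [MonObj.comp_mul, GrpObj.comp_inv, comp_toUnit_assoc, toUnit_unique (toUnit (𝟙_ _)) (𝟙 _),
      Category.id_comp, mul_inv_cancel, MonObj.one_eq_one])
  have hh : h = f ≫ (tr c⁻¹).hom := by
    show f * _ = f ≫ (𝟙 Y * _)
    rw [MonObj.comp_mul, Category.comp_id, comp_toUnit_assoc, GrpObj.comp_inv]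
  have hcancel : ∀ {T : Over (Spec (CommRingCat.of k))} (a b : T ⟶ X), a ≫ h = b ≫ h ↔ a ≫ f = b ≫ f :=
    fun {T} a b => by rw [hh, ← Category.assoc, ← Category.assoc, cancel_mono]
  haveI : IsFinite h.left := by rw [hh, Over.comp_left]; infer_instance
  let K := pullback h η[Y]
  let κ : K ⟶ X := pullback.fst h η[Y]
  have hκ : κ ≫ h = 1 := by
    rw [pullback.condition, toUnit_unique (pullback.snd h η[Y]) (toUnit K), Hom.one_def]
  let σ : X ⊗ K ⟶ X := fst X K * (snd X K ≫ κ)
  have hσ : σ ≫ f = fst X K ≫ f := (hcancel _ _).1 (by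
    rw [MonObj.mul_comp, Category.assoc, hκ, MonObj.comp_one, _root_.mul_one])
  have hsq : IsPullback σ (fst X K) f f := by
    refine IsPullback.of_isLimit (PullbackCone.IsLimit.mk hσ
      (fun s => lift s.snd (pullback.lift (s.snd⁻¹ * s.fst) (toUnit _) ?_))
      (fun s => ?_) (fun s => lift_fst _ _) (fun s m h1 h2 => ?_))
    · rw [MonObj.mul_comp, GrpObj.inv_comp, (hcancel _ _).2 s.condition, inv_mul_cancel, Hom.one_def]
    · rw [MonObj.comp_mul, lift_fst, lift_snd_assoc, pullback.lift_fst, mul_inv_cancel_left]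
    · refine CartesianMonoidalCategory.hom_ext _ _ (by rw [lift_fst, h2]) ?_
      rw [lift_snd]
      refine pullback.hom_ext ?_ (toUnit_unique _ _)
      rw [pullback.lift_fst, ← h1, ← h2, MonObj.comp_mul, inv_mul_cancel_left, Category.assoc]
  refine ⟨K, σ, ?_, hsq.map (Over.forget _)⟩
  have hK : (pullback.snd h η[Y]).left = K.hom := (Category.comp_id _).symm.trans (Over.w (pullback.snd h η[Y]))
  rw [← hK]
  exact MorphismProperty.of_isPullback (P := @IsFinite)
    ((IsPullback.of_hasPullback h η[Y]).map (Over.forget _)) ‹IsFinite h.left›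

/-- The pulled back algebra of a finite flat morphism of abelian varieties is free. -/
theorem nonempty_free (d : ℕ) (hd : ∀ y : ↥Y.left, Scheme.Hom.finrank f.left y = d) :
    Nonempty ((Scheme.Modules.pullback f.left).obj
      ((Scheme.Modules.pushforward f.left).obj (Coh.structureModule X.left)) ≅ FlatMod.freeMod X.left d) := by
  haveI : IsIntegral X.left := GeometricallyIntegral.isIntegral_of_subsingleton X.hom
  haveI : IsLocallyNoetherian X.left := LocallyOfFiniteType.isLocallyNoetherian X.hom
  haveI : IsLocallyNoetherian Y.left := LocallyOfFiniteType.isLocallyNoetherian Y.hom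
  haveI : LocallyOfFinitePresentation f.left :=
    AlgStLib.locallyOfFinitePresentation_of_isLocallyNoetherian f.left inferInstance
  obtain ⟨K, σ, hK, hsq⟩ := exists_kernel_square f
  haveI : LocallyOfFinitePresentation K.hom :=
    AlgStLib.locallyOfFinitePresentation_of_isLocallyNoetherian K.hom inferInstance
  haveI : Coh.IsQCoh (Coh.structureModule X.left) := QCoh.isQCoh_structureModule
  haveI : Coh.IsQCoh (Coh.structureModule K.left) := QCoh.isQCoh_structureModule
  obtain ⟨m, ⟨a⟩⟩ := SeesawX.exists_free_iso_of_field (KFlatLib.isFinLocFree_push_of_finLocFree (f := K.hom)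
    (H23.PullPush.isFinLocFree_of_isInvertible InvX.isInvertible_structureModule))
  obtain ⟨b₁⟩ := S0017.result f.left f.left σ.left (fst X K).left hsq (Coh.structureModule X.left)
  obtain ⟨b₂⟩ := S0017.result K.hom X.hom (snd X K).left (fst X K).left
    ((IsPullback.of_hasPullback X.hom K.hom).flip) (Coh.structureModule K.left)
  obtain ⟨u₁⟩ := PicClLib.nonempty_pullback_structureModule σ.left
  obtain ⟨u₂⟩ := PicClLib.nonempty_pullback_structureModule (snd X K).left
  let φ : (Scheme.Modules.pullback f.left).obj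
      ((Scheme.Modules.pushforward f.left).obj (Coh.structureModule X.left)) ≅ FlatMod.freeMod X.left m :=
    b₁ ≪≫ (Coh.push (fst X K).left).mapIso (u₁ ≪≫ u₂.symm) ≪≫ b₂.symm ≪≫
      (Scheme.Modules.pullback X.hom).mapIso a ≪≫ SeesawX.freePullIso X.hom m
  suffices m = d by subst this; exact ⟨φ⟩
  have hE := TFOneX.isFinLocFreeOfRank_pullback f.left
    (H23.CoverPush.isFinLocFreeOfRank_push_of_isCover f.left ⟨⟨inferInstance, inferInstance, inferInstance⟩, hd⟩)
  have hm : FlatMod.IsFinLocFreeOfRank m ((Scheme.Modules.pullback f.left).obj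
      ((Scheme.Modules.pushforward f.left).obj (Coh.structureModule X.left))) := fun x =>
    ⟨⊤, trivial, ⟨(Scheme.Modules.restrictFunctor _).mapIso φ ≪≫ QCoh.freeModRestrict _ m⟩⟩
  obtain ⟨x⟩ := (inferInstance : Nonempty X.left)
  exact ((ConsPropLib.isFinLocFreeOfRank_iff.1 hm).2 x).symm.trans ((ConsPropLib.isFinLocFreeOfRank_iff.1 hE).2 x)

/-- `χ(f^*F) = deg(f) χ(F)`. -/
theorem euler_pullback (d : ℕ) (hd : ∀ y : ↥Y.left, Scheme.Hom.finrank f.left y = d)
    {F : Y.left.Modules} (hF : Coh.IsCoh F) :
    @Curv2.euler k _ X.left ⟨X.hom⟩ ((Scheme.Modules.pullback f.left).obj F) =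
      (d : ℤ) * @Curv2.euler k _ Y.left ⟨Y.hom⟩ F := by
  letI : X.left.Over (Spec (CommRingCat.of k)) := ⟨X.hom⟩
  letI : Y.left.Over (Spec (CommRingCat.of k)) := ⟨Y.hom⟩
  haveI : IsProper (Y.left ↘ Spec (CommRingCat.of k)) := inferInstanceAs (IsProper Y.hom)
  haveI : IsIntegral X.left := GeometricallyIntegral.isIntegral_of_subsingleton X.hom
  haveI : IsLocallyNoetherian Y.left := LocallyOfFiniteType.isLocallyNoetherian Y.hom
  haveI : LocallyOfFinitePresentation f.left :=
    AlgStLib.locallyOfFinitePresentation_of_isLocallyNoetherian f.left inferInstance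
  obtain ⟨x⟩ := (inferInstance : Nonempty X.left)
  exact EulerFlatPull.euler_pullback k f.left (Over.w f)
    (hd (f.left x) ▸ f.left.one_le_finrank_map x) hd (nonempty_free f d hd) hF

end Groth.Agent.AVEuler
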