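import Groth.Agent.Snapper.Multi
import Groth.Agent.Snapper.DimVanish
import Groth.Agent.S3230
import Groth.Agent.H23.PicMul
import Groth.Agent.CurveCohLib.Rank
import Groth.Agent.CurveCohLib.Proper
import Groth.Agent.Lib.Euler

/-!
The intersection pairing of invertible modules on a proper scheme of dimension at most two, through classes
in the monoid of isomorphism classes.
-/

set_option autoImplicit false
set_option linter.style.haveILetI false
set_option linter.unusedSectionVars false
set_option backward.isDefEq.respectTransparency false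
set_option backward.isDefEq.respectTransparency.types false
set_option maxHeartbeats 1000000

universe u

open CategoryTheory CategoryTheory.Limits AlgebraicGeometry TopologicalSpace Opposite
open Groth.Agent.H23

noncomputable section

namespace Groth.Agent.SurfPairing

attribute [local instance] PicMul.clMonoid

theorem alt_sum_three_eq_zero (P : MvPolynomial (Fin 3) ℚ) (hP : P.totalDegree ≤ 2) :
    MvPolynomial.eval ![1, 1, 1] P - MvPolynomial.eval ![1, 1, 0] P - MvPolynomial.eval ![1, 0, 1] P -
      MvPolynomial.eval ![0, 1, 1] P + MvPolynomial.eval ![1, 0, 0] P + MvPolynomial.eval ![0, 1, 0] P +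
      MvPolynomial.eval ![0, 0, 1] P - MvPolynomial.eval ![0, 0, 0] P = 0 := by
  classical
  conv_lhs => rw [P.as_sum]
  simp only [map_sum, ← Finset.sum_sub_distrib, ← Finset.sum_add_distrib]
  refine Finset.sum_eq_zero fun α hα => ?_
  have hd : α 0 + α 1 + α 2 ≤ 2 := by
    have h := (MvPolynomial.le_totalDegree hα).trans hP
    rw [Finsupp.sum_fintype _ _ fun _ => rfl, Fin.sum_univ_three] at h
    exact h
  simp only [MvPolynomial.eval_monomial, Finsupp.prod_fintype _ _ (fun i => pow_zero _), Fin.prod_univ_three,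
    Matrix.cons_val_zero, Matrix.cons_val_one, Matrix.cons_val_two, Matrix.head_cons, Matrix.tail_cons, one_pow]
  have h0 : α 0 = 0 ∨ α 1 = 0 ∨ α 2 = 0 := by omega
  rcases h0 with h | h | h <;> simp [h] <;> ring

variable (k : Type u) [Field k] {X : Scheme.{u}} [X.Over (Spec (CommRingCat.of k))]

/-- The Euler characteristic of a class. -/
def χ : PicF.Cl X → ℤ :=
  Quot.lift (fun L => Curv2.euler k X L) fun _ _ ⟨e⟩ => CurveCohLib.euler_congr (k := k) e

theorem χ_cl (L : X.Modules) : χ k (PicF.cl L) = Curv2.euler k X L := rfl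

theorem χ_one : χ k (1 : PicF.Cl X) = Curv2.euler k X (Coh.structureModule X) := rfl

/-- The pairing of two classes. -/
def pair (a b : PicF.Cl X) : ℤ := χ k (1 : PicF.Cl X) - χ k a - χ k b + χ k (a * b)

theorem pair_comm (a b : PicF.Cl X) : pair k a b = pair k b a := by
  rw [pair, pair, mul_comm]
  ring

theorem pair_one (a : PicF.Cl X) : pair k a 1 = 0 := by
  rw [pair, mul_one]
  ring

variable [IsProper (X ↘ Spec (CommRingCat.of k))]

/-- The third difference vanishes. -/
theorem third_diff (hdim : topologicalKrullDim X ≤ 2) {A B C : X.Modules} (hA : PicF.IsInvertible A)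
    (hB : PicF.IsInvertible B) (hC : PicF.IsInvertible C) :
    χ k (PicF.cl A * PicF.cl B * PicF.cl C) - χ k (PicF.cl A * PicF.cl B) - χ k (PicF.cl A * PicF.cl C) -
      χ k (PicF.cl B * PicF.cl C) + χ k (PicF.cl A) + χ k (PicF.cl B) + χ k (PicF.cl C) - χ k (1 : PicF.Cl X) = 0 := by
  haveI := CurveCohLib.isNoetherian_of_proper (k := k) (X := X)
  have hL : ∀ i, PicF.IsInvertible (![A, B, C] i) := by
    intro i; fin_cases i
    · exact hA
    · exact hB
    · exact hC
  obtain ⟨P, hP, hPn⟩ := Snapper.exists_mpoly k (L := ![A, B, C]) hL QCoh.isCoh_structureModule'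
    (d := 2) ((topologicalKrullDim_subspace_le X _).trans hdim)
  have hcl : ∀ n : Fin 3 → ℕ, PicF.cl (Curv2.tensorPows (Coh.structureModule X) 3 ![A, B, C] n) =
      PicF.cl A ^ n 0 * PicF.cl B ^ n 1 * PicF.cl C ^ n 2 := fun n => by
    simp only [Curv2.tensorPows, PicMul.cl_tensor, PicMul.cl_tensorPow, ← PicMul.one_def, one_mul]
    rfl
  have hval : ∀ x y z : ℕ, (χ k (PicF.cl A ^ x * PicF.cl B ^ y * PicF.cl C ^ z) : ℚ) =
      MvPolynomial.eval ![(x : ℚ), (y : ℚ), (z : ℚ)] P := fun x y z => by
    have h := hPn ![x, y, z]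
    rw [← χ_cl, hcl] at h
    refine h.trans ?_
    refine congrArg (fun v : Fin 3 → ℚ => MvPolynomial.eval v P) (funext fun i => ?_)
    fin_cases i <;> rfl
  have h := alt_sum_three_eq_zero P hP
  have h111 := hval 1 1 1
  have h110 := hval 1 1 0
  have h101 := hval 1 0 1
  have h011 := hval 0 1 1
  have h100 := hval 1 0 0
  have h010 := hval 0 1 0
  have h001 := hval 0 0 1
  have h000 := hval 0 0 0
  simp only [pow_zero, pow_one, one_mul, mul_one, Nat.cast_zero, Nat.cast_one] at h111 h110 h101 h011 h100 h010 h001 h000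
  rw [← h111, ← h110, ← h101, ← h011, ← h100, ← h010, ← h001, ← h000] at h
  exact_mod_cast h

/-- The pairing is additive. -/
theorem pair_mul (hdim : topologicalKrullDim X ≤ 2) {A B C : X.Modules} (hA : PicF.IsInvertible A)
    (hB : PicF.IsInvertible B) (hC : PicF.IsInvertible C) :
    pair k (PicF.cl A) (PicF.cl B * PicF.cl C) = pair k (PicF.cl A) (PicF.cl B) + pair k (PicF.cl A) (PicF.cl C) := by
  have h := third_diff k hdim hA hB hC
  simp only [pair, ← mul_assoc]
  linarith

/-- The pairing with an inverse. -/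
theorem pair_inv (hdim : topologicalKrullDim X ≤ 2) {A B B' : X.Modules} (hA : PicF.IsInvertible A)
    (hB : PicF.IsInvertible B) (hB' : PicF.IsInvertible B') (h : PicF.cl B * PicF.cl B' = 1) :
    pair k (PicF.cl A) (PicF.cl B') = -pair k (PicF.cl A) (PicF.cl B) := by
  have h1 := pair_mul k hdim hA hB hB'
  rw [h, pair_one] at h1
  linarith

/-- Riemann-Roch from duality. -/
theorem riemann_roch (hdim : topologicalKrullDim X ≤ 2) {L L' W : X.Modules} (hL : PicF.IsInvertible L)
    (hL' : PicF.IsInvertible L') (hW : PicF.IsInvertible W) (h : PicF.cl L * PicF.cl L' = 1)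
    (hdual : χ k (PicF.cl L' * PicF.cl W) = χ k (PicF.cl L))
    (hdual0 : χ k (PicF.cl W) = χ k (1 : PicF.Cl X)) :
    2 * χ k (PicF.cl L) =
      pair k (PicF.cl L) (PicF.cl L) - pair k (PicF.cl L) (PicF.cl W) + 2 * χ k (1 : PicF.Cl X) := by
  have h1 := pair_mul k hdim hL hL' hW
  have h2 := pair_inv k hdim hL hL hL' h
  rw [h2] at h1
  have h3 : pair k (PicF.cl L) (PicF.cl L' * PicF.cl W) = 2 * χ k (1 : PicF.Cl X) - 2 * χ k (PicF.cl L) := by
    rw [pair, ← mul_assoc, h, one_mul, hdual, hdual0]
    ring
  rw [h3] at h1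
  linarith

theorem eulerCharLE_eq (hdim : topologicalKrullDim X ≤ 2) {M : X.Modules} (hM : Coh.IsQCoh M) :
    FGA.eulerCharLE k X M 2 = Curv2.euler k X M := by
  haveI := CurveCohLib.isNoetherian_of_proper (k := k) (X := X)
  haveI : X.IsSeparated := ⟨by
    rw [← Limits.terminal.comp_from (X ↘ Spec (CommRingCat.of k))]
    infer_instance⟩
  exact (Euler.euler_eq_sum k _ 3 fun i hi =>
    Snapper.subsingleton_HH_of_dim_le (d := 2) hdim hM (by omega)).symm

/-- The intersection number is the pairing. -/
theorem intNum_eq_pair (hdim : topologicalKrullDim X ≤ 2) {A B : X.Modules} (hA : PicF.IsInvertible A)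
    (hB : PicF.IsInvertible B) :
    FGA.intNum k X 2 ![A, B] (Coh.structureModule X) = pair k (PicF.cl A) (PicF.cl B) := by
  classical
  haveI := CurveCohLib.isNoetherian_of_proper (k := k) (X := X)
  have hO : Coh.IsQCoh (Coh.structureModule X) := QCoh.isCoh_structureModule'.1
  have hqi : ∀ {M : X.Modules}, PicF.IsInvertible M → Coh.IsQCoh M := fun h => (AmpleVan.isCoh_invertible h).1
  have hterm : ∀ l : List X.Modules, (∀ M ∈ l, PicF.IsInvertible M) →
      PicF.IsInvertible (CohB1.tensorMod (FGA.tensorList l) (Coh.structureModule X)) ∧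
      PicF.cl (CohB1.tensorMod (FGA.tensorList l) (Coh.structureModule X)) = (l.map PicF.cl).prod := by
    intro l hl
    have h : PicF.IsInvertible (FGA.tensorList l) ∧ PicF.cl (FGA.tensorList l) = (l.map PicF.cl).prod := by
      induction l with
      | nil => exact ⟨InvX.isInvertible_structureModule, PicMul.one_def.symm⟩
      | cons M l ih =>
        obtain ⟨h1, h2⟩ := ih fun N hN => hl N (List.mem_cons_of_mem _ hN)
        refine ⟨PicMul.isInvertible_tensor (hl M List.mem_cons_self) h1, ?_⟩
        rw [List.map_cons, List.prod_cons, ← h2]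
        exact PicMul.cl_tensor _ _
    refine ⟨PicMul.isInvertible_tensor h.1 InvX.isInvertible_structureModule, ?_⟩
    rw [PicMul.cl_tensor, ← PicMul.one_def, mul_one, h.2]
  have hval : ∀ I : Finset (Fin 2),
      FGA.eulerCharLE k X (CohB1.tensorMod (FGA.tensorList ((I.sort (· ≤ ·)).map ![A, B])) (Coh.structureModule X)) 2 =
        χ k (((I.sort (· ≤ ·)).map fun i => PicF.cl (![A, B] i)).prod) := by
    intro I
    obtain ⟨h1, h2⟩ := hterm ((I.sort (· ≤ ·)).map ![A, B]) (fun M hM => by
      obtain ⟨i, -, rfl⟩ := List.mem_map.1 hM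
      fin_cases i
      · exact hA
      · exact hB)
    rw [eulerCharLE_eq k hdim (hqi h1), ← χ_cl, h2, List.map_map]
    rfl
  unfold FGA.intNum
  simp only [hval]
  have hu : (Finset.univ : Finset (Finset (Fin 2))) = {∅, {0}, {1}, {0, 1}} := by decide
  rw [hu, Finset.sum_insert (by decide), Finset.sum_insert (by decide), Finset.sum_insert (by decide),
    Finset.sum_singleton]
  have s01 : (({0, 1} : Finset (Fin 2)).sort (· ≤ ·)) = [0, 1] := by
    rw [show ({0, 1} : Finset (Fin 2)) = Finset.univ from by decide, Fin.sort_univ]; rfl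
  simp only [Finset.sort_empty, Finset.sort_singleton, s01, Finset.card_empty, Finset.card_singleton]
  simp [pair, sub_eq_add_neg, add_assoc]

end Groth.Agent.SurfPairing
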