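import Groth.Agent.Lib.SnapLead
import Groth.Agent.Lib.SurfPairing
import Groth.Agent.H23.C1Push
import Groth.Agent.H23.C1Class
import Groth.Agent.H23.SecIso
import Groth.Agent.H23.SetupLFT
import Groth.Agent.H23.PicInv

/-!
Alternating Euler sums (`IntNumCycle.alt`) as intersection numbers.
-/

set_option autoImplicit false
set_option linter.style.haveILetI false
set_option linter.unusedSectionVars false
set_option backward.isDefEq.respectTransparency false
set_option backward.isDefEq.respectTransparency.types false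
set_option maxHeartbeats 1000000

universe u

open CategoryTheory CategoryTheory.Limits AlgebraicGeometry TopologicalSpace
open Groth.Agent.H23 Groth.Agent.H23.PicMul
open Groth.Agent.H23.IntNumCycle (alt degHom)

noncomputable section

namespace Groth.Agent.IntAlt

attribute [local instance] PicMul.clMonoid

variable (k : Type u) [Field k] {X : Scheme.{u}} [X.Over (Spec (CommRingCat.of k))]
  [IsProper (X ↘ Spec (CommRingCat.of k))]

/-- The standing hypotheses hold. -/
theorem isSetup : Cyc.IsSetup X (SnapLead.δ k) :=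
  SetupLFT.isSetup (X ↘ Spec (CommRingCat.of k)) (CycLib.isSetup_spec_field k) (CycLib.deltaCompat_rd (X ↘ Spec (CommRingCat.of k)))

theorem deltaCompat : Cyc.DeltaCompat (X ↘ Spec (CommRingCat.of k)) (SnapLead.δ k) (fun _ => 0) :=
  CycLib.deltaCompat_rd (X ↘ Spec (CommRingCat.of k))

theorem cohLe_mono {m n : ℤ} (h : m ≤ n) {F : X.Modules} (hF : Cyc.CohLe (SnapLead.δ k) m F) :
    Cyc.CohLe (SnapLead.δ k) n F :=
  haveI := CurveCohLib.isNoetherian_of_proper (k := k) (X := X)
  CycleClassK.cohLe_mono h hF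

/-- The support of the top cycle is finite. -/
theorem finite_sheafFun {d : ℕ} {F : X.Modules} (hF : Cyc.CohLe (SnapLead.δ k) d F) :
    (Function.support (Cyc.sheafFun (SnapLead.δ k) d F)).Finite := by
  haveI := CurveCohLib.isNoetherian_of_proper (k := k) (X := X)
  choose U hxU hU using CycleClassK.lfPts_sheafFun (SnapLead.isDimFun k) hF
  haveI : CompactSpace X := QuasiCompact.compactSpace_of_compactSpace (X ↘ Spec (CommRingCat.of k))
  obtain ⟨t, ht⟩ := isCompact_univ.elim_finite_subcover (fun x => (U x : Set X)) (fun x => (U x).isOpen)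
    fun x _ => Set.mem_iUnion.2 ⟨x, hxU x⟩
  refine (t.finite_toSet.biUnion fun x _ => hU x).subset fun y hy => ?_
  obtain ⟨x, hxt, hyx⟩ := Set.mem_iUnion₂.1 (ht (Set.mem_univ y))
  exact Set.mem_iUnion₂.2 ⟨x, hxt, hy, hyx⟩

/-- An additive invariant blind to lower dimensions reads the top cycle. -/
theorem eq_sum {G : Type*} [AddCommGroup G] (Φ₀ : X.Modules → G) (d : ℕ)
    (hadd : ∀ S : ShortComplex X.Modules, S.ShortExact → Cyc.CohLe (SnapLead.δ k) d S.X₁ →
      Cyc.CohLe (SnapLead.δ k) d S.X₂ → Cyc.CohLe (SnapLead.δ k) d S.X₃ → Φ₀ S.X₂ = Φ₀ S.X₁ + Φ₀ S.X₃)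
    (hlow : ∀ M, Cyc.CohLe (SnapLead.δ k) ((d : ℤ) - 1) M → Φ₀ M = 0)
    {F : X.Modules} (hF : Cyc.CohLe (SnapLead.δ k) d F) (s : Finset X) (hs : ∀ ξ ∈ s, SnapLead.δ k ξ = d)
    (hsF : ∀ ξ, Cyc.sheafFun (SnapLead.δ k) d F ξ ≠ 0 → ξ ∈ s) :
    Φ₀ F = ∑ ξ ∈ s, Cyc.sheafFun (SnapLead.δ k) d F ξ • Φ₀ (Cyc.closureStructureSheaf ξ) := by
  classical
  haveI := CurveCohLib.isNoetherian_of_proper (k := k) (X := X)
  obtain ⟨f, hf⟩ := KZ.exists_liftSub (Cyc.CohLe (SnapLead.δ k) d) Φ₀ hadd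
  let Φ : Cyc.K0CohQuot (SnapLead.δ k (X := X)) (d : ℤ) ((d : ℤ) - 1) →+ G :=
    QuotientAddGroup.lift _ f ((AddSubgroup.closure_le _).2 (by
      rintro _ ⟨M, hM, rfl⟩
      show f _ = 0
      rw [hf M (cohLe_mono k (by omega) hM), hlow M hM]))
  have hΦ : ∀ M, Cyc.CohLe (SnapLead.δ k) d M →
      Φ (Cyc.toK0CohQuot (SnapLead.δ k) d ((d : ℤ) - 1) M) = Φ₀ M := hf
  obtain ⟨ψ, hψ⟩ := CycleClassK.exists_psi (SnapLead.isDimFun k (X := X)) (d : ℤ)
  have hK : Cyc.toK0CohQuot (SnapLead.δ k) (d : ℤ) ((d : ℤ) - 1) F =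
      ∑ ξ ∈ s, Cyc.sheafFun (SnapLead.δ k) d F ξ •
        Cyc.toK0CohQuot (SnapLead.δ k) (d : ℤ) ((d : ℤ) - 1) (Cyc.closureStructureSheaf ξ) := by
    refine CycleClassK.psi_injective (SnapLead.isDimFun k) hψ ?_
    rw [hψ F hF, map_sum]
    funext x
    rw [Finset.sum_apply, Finset.sum_congr rfl fun ξ hξ => by
      rw [map_zsmul, hψ _ (SnapLead.cohLe_closure k (hs ξ hξ)), SnapLead.sheafFun_closure k (hs ξ hξ)]]
    simp only [Pi.smul_apply, smul_eq_mul, mul_ite, mul_one, mul_zero, Finset.sum_ite_eq]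
    split_ifs with hx
    · rfl
    · by_contra hne
      exact hx (hsF x hne)
  have h := congrArg Φ hK
  rw [hΦ F hF, map_sum, Finset.sum_congr rfl fun ξ hξ => by
    rw [map_zsmul, hΦ _ (SnapLead.cohLe_closure k (hs ξ hξ))]] at h
  exact h

omit [X.Over (Spec (CommRingCat.of k))] [IsProper (X ↘ Spec (CommRingCat.of k))] in
theorem cl_tensorList : ∀ l : List X.Modules, PicF.cl (FGA.tensorList l) = (l.map PicF.cl).prod
  | [] => PicMul.one_def.symm
  | M :: l => by
    show PicF.cl (CohB1.tensorMod M (FGA.tensorList l)) = _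
    rw [cl_tensor, cl_tensorList l, List.map_cons, List.prod_cons]

/-- The alternating sum through classes. -/
theorem alt_eq_sum {r : ℕ} (M : Fin r → X.Modules) (F : X.Modules) :
    alt k r M F = ∑ I : Finset (Fin r), (-1 : ℤ) ^ I.card *
      SurfPairing.χ k (PicF.cl F * ∏ i ∈ I, PicF.cl (M i)) := by
  rw [← IntNumCycle.sum_term]
  refine Finset.sum_congr rfl fun I _ => ?_
  rw [IntNumCycle.term, ← SurfPairing.χ_cl, cl_tensor, cl_tensorList, List.map_map, mul_comm (List.prod _)]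
  congr 3
  conv_rhs => rw [← Finset.sort_toFinset (s := I) (r := (· ≤ ·))]
  rw [List.prod_toFinset _ (Finset.sort_nodup _ _)]
  rfl

theorem alt_congr_cl {r : ℕ} {M M' : Fin r → X.Modules} (h : ∀ i, PicF.cl (M i) = PicF.cl (M' i))
    (F : X.Modules) : alt k r M F = alt k r M' F := by
  rw [alt_eq_sum, alt_eq_sum]
  exact Finset.sum_congr rfl fun I _ => by rw [Finset.prod_congr rfl fun i _ => h i]

/-- Symmetry. -/
theorem alt_perm {r : ℕ} (σ : Equiv.Perm (Fin r)) (M : Fin r → X.Modules) (F : X.Modules) :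
    alt k r (fun i => M (σ i)) F = alt k r M F := by
  classical
  rw [alt_eq_sum, alt_eq_sum]
  refine Fintype.sum_equiv (σ.finsetCongr) _ _ fun I => ?_
  rw [Equiv.finsetCongr_apply, Finset.card_map, Finset.prod_map]
  rfl

/-- The coefficient of the product of the variables. -/
theorem coeff_eq_alt {r : ℕ} {M : X.Modules} (hM : Cyc.CohLe (SnapLead.δ k) r M) {L : Fin r → X.Modules}
    (hL : ∀ i, PicF.IsInvertible (L i)) (P : MvPolynomial (Fin r) ℚ)
    (hP : ∀ n : Fin r → ℕ, (Curv2.euler k X (Curv2.tensorPows M r L n) : ℚ) =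
      MvPolynomial.eval (fun i => (n i : ℚ)) P) :
    P.coeff (IntCoeff.ones r) = (((-1 : ℤ) ^ r * alt k r L M : ℤ) : ℚ) := by
  classical
  have hd : topologicalKrullDim ↥(CohB1.support M) ≤ ((r : ℕ) : WithBot ℕ∞) := by
    have h1 := SnapLead.dim_support_lt k (d := r + 1) (F := M) (by simpa using hM)
    revert h1
    generalize topologicalKrullDim ↥(CohB1.support M) = a
    intro h1
    cases a with
    | bot => exact bot_le
    | coe a =>
      rw [show (((r + 1 : ℕ) : WithBot ℕ∞)) = (((r + 1 : ℕ) : ℕ∞) : WithBot ℕ∞) from rfl, WithBot.coe_lt_coe] at h1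
      rw [show (((r : ℕ) : WithBot ℕ∞)) = (((r : ℕ) : ℕ∞) : WithBot ℕ∞) from rfl, WithBot.coe_le_coe]
      cases a with
      | top => simp at h1
      | coe a => exact_mod_cast Nat.lt_succ_iff.1 (by exact_mod_cast h1)
  rw [← IntCoeff.sum_diff P (IntCoeff.totalDegree_le k hM.1 hL hd P hP), alt_eq_sum, Finset.mul_sum, Int.cast_sum]
  refine Finset.sum_congr rfl fun I _ => ?_
  have hc : PicF.cl (Curv2.tensorPows M r L (IntCoeff.ind I)) = PicF.cl M * ∏ i ∈ I, PicF.cl (L i) := by
    rw [IntCoeff.cl_tensorPows, ← Finset.prod_sdiff (Finset.subset_univ I)]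
    congr 1
    rw [Finset.prod_eq_one (fun i hi => by simp [IntCoeff.ind, (Finset.mem_sdiff.1 hi).2]), one_mul]
    exact Finset.prod_congr rfl fun i hi => by simp [IntCoeff.ind, hi]
  rw [← hP, ← SurfPairing.χ_cl, hc, Finset.card_univ_sdiff, Fintype.card_fin]
  have hI : I.card ≤ r := (I.card_le_univ).trans (by simp)
  have key : ∀ a b : ℕ, (-1 : ℤ) ^ (a + b) * (-1) ^ b = (-1) ^ a := fun a b => by
    rw [pow_add, mul_assoc, ← pow_add, (Even.add_self b).neg_one_pow, mul_one]
  have hsign : (-1 : ℤ) ^ r * (-1) ^ I.card = (-1) ^ (r - I.card) := by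
    have h := key (r - I.card) I.card
    rwa [Nat.sub_add_cancel hI] at h
  rw [← mul_assoc, hsign]
  push_cast
  rfl

/-- Lower dimensional modules have no intersection numbers. -/
theorem alt_eq_zero {r : ℕ} {L : Fin r → X.Modules} (hL : ∀ i, PicF.IsInvertible (L i)) {M : X.Modules}
    (hM : Cyc.CohLe (SnapLead.δ k) ((r : ℤ) - 1) M) : alt k r L M = 0 := by
  haveI := CurveCohLib.isNoetherian_of_proper (k := k) (X := X)
  have hlt := SnapLead.dim_support_lt k (d := r) hM
  obtain ⟨Q, hQd, hQn⟩ := Snapper.isMPolyLt_of_dim_lt k hL r ⟨_, QCoh.isClosed_support_of_isFT hM.1.1 hM.1.2⟩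
    hlt M hM.1 subset_rfl
  have h := coeff_eq_alt k (cohLe_mono k (by omega) hM) hL Q hQn
  rw [MvPolynomial.notMem_support_iff.1 fun hm => by
    have h1 := hQd _ hm
    rw [Finsupp.sum_fintype _ _ (fun _ => rfl)] at h1
    simp at h1] at h
  have h2 : (-1 : ℤ) ^ r * alt k r L M = 0 := by exact_mod_cast h.symm
  exact (mul_eq_zero.1 h2).resolve_left (pow_ne_zero _ (by norm_num))

/-- The intersection number reads the top cycle. -/
theorem alt_eq_sum_closure {r : ℕ} {L : Fin r → X.Modules} (hL : ∀ i, PicF.IsInvertible (L i)) {F : X.Modules}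
    (hF : Cyc.CohLe (SnapLead.δ k) r F) (s : Finset X) (hs : ∀ ξ ∈ s, SnapLead.δ k ξ = r)
    (hsF : ∀ ξ, Cyc.sheafFun (SnapLead.δ k) r F ξ ≠ 0 → ξ ∈ s) :
    alt k r L F = ∑ ξ ∈ s, Cyc.sheafFun (SnapLead.δ k) r F ξ * alt k r L (Cyc.closureStructureSheaf ξ) := by
  haveI := CurveCohLib.isNoetherian_of_proper (k := k) (X := X)
  have h := eq_sum k (alt k r L) r (fun S hS a b c => IntNumCycle.alt_add k r L hL hS a.1 b.1 c.1)
    (fun M hM => alt_eq_zero k hL hM) hF s hs hsF
  exact h.trans (Finset.sum_congr rfl fun ξ _ => smul_eq_mul _ _)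

/-- The intersection symbol of the prelude. -/
theorem intNum_eq_alt {d r : ℕ} (hd : topologicalKrullDim X ≤ d) {M : Fin r → X.Modules}
    (hM : ∀ i, PicF.IsInvertible (M i)) {F : X.Modules} (hF : Coh.IsCoh F) :
    FGA.intNum k X d M F = alt k r M F := by
  haveI := CurveCohLib.isNoetherian_of_proper (k := k) (X := X)
  haveI : X.IsSeparated := AmpleVan.isSeparated_of_proper (A := k)
  rw [FGA.intNum, ← IntNumCycle.sum_term]
  refine Finset.sum_congr rfl fun I _ => ?_
  rw [IntNumCycle.term]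
  congr 1
  have hlist : ∀ l : List X.Modules, (∀ A ∈ l, PicF.IsInvertible A) → Coh.IsCoh (FGA.tensorList l) := by
    intro l
    induction l with
    | nil => exact fun _ => QCoh.isCoh_structureModule'
    | cons A l ih =>
      exact fun h => AmpleVan.isCoh_tensor (AmpleVan.isCoh_invertible (h A (List.mem_cons_self ..)))
        (ih fun B hB => h B (List.mem_cons_of_mem _ hB))
  have hc : Coh.IsCoh (CohB1.tensorMod (FGA.tensorList ((I.sort (· ≤ ·)).map M)) F) :=
    AmpleVan.isCoh_tensor (hlist _ fun A hA => by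
      obtain ⟨i, -, rfl⟩ := List.mem_map.1 hA
      exact hM i) hF
  refine (Euler.euler_eq_sum k _ (d + 1) fun i hi => ?_).symm
  refine Snapper.subsingleton_HH_of_dim_lt (d + 1) ⊤ ?_ _ hc.1 (fun _ _ => trivial) i hi
  exact lt_of_le_of_lt ((Topology.IsInducing.subtypeVal).topologicalKrullDim_le.trans hd)
    (by exact_mod_cast Nat.lt_succ_self d)

end Groth.Agent.IntAlt
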