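import Groth.Agent.Lib.AVEuler
import Groth.Agent.Lib.AVSeesaw
import Groth.Agent.Lib.IntAlt
import Groth.Agent.AVDegLib.MulN
import Groth.Agent.Snapper.Multi

/-!
The Euler characteristic of an invertible module on an abelian variety is homogeneous.
-/

set_option autoImplicit false
set_option linter.style.haveILetI false
set_option linter.unusedSectionVars false
set_option backward.isDefEq.respectTransparency false
set_option backward.isDefEq.respectTransparency.types false
set_option maxHeartbeats 800000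
set_option synthInstance.maxHeartbeats 200000

universe u

open CategoryTheory CategoryTheory.Limits MonoidalCategory CartesianMonoidalCategory MonObj AlgebraicGeometry

noncomputable section

namespace Groth.Agent.AVEulerHomog

open Groth.Agent

section Poly

open MvPolynomial

/-- A polynomial of degree at most `g` with weights `(2, 1)` homogeneous of weight `2g`. -/
theorem eq_monomial {g : ℕ} (W : MvPolynomial (Fin 2) ℚ) (hdeg : W.totalDegree ≤ g)
    (h : ∀ s t : ℚ, MvPolynomial.eval ![4 * s, 2 * t] W = 4 ^ g * MvPolynomial.eval ![s, t] W) :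
    ∀ s t : ℚ, MvPolynomial.eval ![s, t] W = W.coeff (Finsupp.single 0 g) * s ^ g := by
  classical
  have hscale : ∀ (P : MvPolynomial (Fin 2) ℚ) (α : Fin 2 →₀ ℕ),
      (MvPolynomial.aeval (![C 4 * X 0, C 2 * X 1] : Fin 2 → MvPolynomial (Fin 2) ℚ) P).coeff α = 4 ^ α 0 * 2 ^ α 1 * P.coeff α := by
    intro P α
    induction P using MvPolynomial.induction_on' with
    | monomial β a =>
      have hm : MvPolynomial.aeval (![C 4 * X 0, C 2 * X 1] : Fin 2 → MvPolynomial (Fin 2) ℚ) (monomial β a) =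
          monomial β (4 ^ β 0 * 2 ^ β 1 * a) := by
        rw [MvPolynomial.aeval_monomial, Finsupp.prod_fintype _ _ (fun _ => pow_zero _), Fin.prod_univ_two,
          monomial_eq, Finsupp.prod_fintype _ _ (fun _ => pow_zero _), Fin.prod_univ_two, algebraMap_eq]
        simp only [Matrix.cons_val_zero, Matrix.cons_val_one, mul_pow, ← map_pow, map_mul]
        ring
      rw [hm, coeff_monomial, coeff_monomial]
      split_ifs with hβ
      · rw [hβ]
      · rw [mul_zero]
    | add p q hp hq => rw [map_add, coeff_add, coeff_add, hp, hq, mul_add]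
  have hT : MvPolynomial.aeval (![C 4 * X 0, C 2 * X 1] : Fin 2 → MvPolynomial (Fin 2) ℚ) W = C (4 ^ g) * W := by
    refine MvPolynomial.funext fun x => ?_
    rw [Snapper.eval_aeval, map_mul, eval_C]
    have h1 := h (x 0) (x 1)
    rw [show (fun i => MvPolynomial.eval x ((![C 4 * X 0, C 2 * X 1] : Fin 2 → MvPolynomial (Fin 2) ℚ) i)) =
      ![4 * x 0, 2 * x 1] from funext fun i => by fin_cases i <;> simp, h1,
      show ![x 0, x 1] = x from funext fun i => by fin_cases i <;> rfl]
  have hW : W = monomial (Finsupp.single 0 g) (W.coeff (Finsupp.single 0 g)) := by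
    ext α
    rw [coeff_monomial]
    split_ifs with hα
    · rw [hα]
    · by_contra hne
      have h1 := congrArg (MvPolynomial.coeff α) hT
      rw [hscale, coeff_C_mul] at h1
      have h2 : (4 : ℚ) ^ α 0 * 2 ^ α 1 = 4 ^ g := mul_right_cancel₀ hne h1
      have h3 : (2 : ℕ) ^ (2 * α 0 + α 1) = 2 ^ (2 * g) := by
        rw [show (4 : ℚ) = 2 ^ 2 by norm_num, ← pow_mul, ← pow_mul, ← pow_add] at h2
        exact_mod_cast h2
      have h4 := Nat.pow_right_injective le_rfl h3
      have h5 : (α.sum fun _ e => e) ≤ g := (le_totalDegree (mem_support_iff.2 hne)).trans hdeg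
      rw [Finsupp.sum_fintype _ _ (fun _ => rfl), Fin.sum_univ_two] at h5
      refine hα (Finsupp.ext fun i => ?_)
      fin_cases i
      · show (Finsupp.single (0 : Fin 2) g) 0 = α 0
        rw [Finsupp.single_eq_same]
        omega
      · show (Finsupp.single (0 : Fin 2) g) 1 = α 1
        rw [Finsupp.single_eq_of_ne (show (1 : Fin 2) ≠ 0 by decide)]
        omega
  intro s t
  conv_lhs => rw [hW]
  rw [eval_monomial, Finsupp.prod_single_index (by simp)]
  rfl

/-- Polynomials agreeing on the natural numbers agree. -/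
theorem eq_of_nat {σ : Type} [Finite σ] (P Q : MvPolynomial σ ℚ)
    (h : ∀ n : σ → ℕ, MvPolynomial.eval (fun i => (n i : ℚ)) P = MvPolynomial.eval (fun i => (n i : ℚ)) Q) : P = Q := by
  refine MvPolynomial.funext_set (fun _ => Set.range fun n : ℕ => (n : ℚ))
    (fun _ => Set.infinite_range_of_injective Nat.cast_injective) fun x hx => ?_
  choose n hn using fun i => hx i trivial
  rw [show x = fun i => (n i : ℚ) from funext fun i => (hn i).symm]
  exact h n

end Poly

open Groth.Agent.H23 Groth.Agent.AVCube MvPolynomial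
open scoped Groth.Agent.H23.PicMul

variable {k : Type u} [Field k] {A : Over (Spec (CommRingCat.of k))} [GrpObj A] [IsProper A.hom]
  [GeometricallyIntegral A.hom]

/-- The Euler characteristic of a class. -/
abbrev χ (c : PicF.Cl A.left) : ℤ := @SurfPairing.χ k _ A.left ⟨A.hom⟩ c

theorem cl_tensorPows {r : ℕ} (L : Fin r → A.left.Modules) (n : Fin r → ℕ) :
    PicF.cl (Curv2.tensorPows (Coh.structureModule A.left) r L n) = ∏ i, PicF.cl (L i) ^ n i := by
  induction r with
  | zero => rw [Fin.prod_univ_zero]; exact PicMul.one_def.symm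
  | succ r ih =>
    show PicF.cl (CohB1.tensorMod _ _) = _
    rw [PicMul.cl_tensor, ih, PicMul.cl_tensorPow, Fin.prod_univ_castSucc]

/-- Snapper's polynomial in two classes. -/
theorem exists_poly (g : ℕ) (hg : topologicalKrullDim ↥A.left = g) {L M : A.left.Modules}
    (hL : PicF.IsInvertible L) (hM : PicF.IsInvertible M) :
    ∃ Q : MvPolynomial (Fin 2) ℚ, Q.totalDegree ≤ g ∧
      ∀ a b : ℕ, (χ (PicF.cl L ^ a * PicF.cl M ^ b) : ℚ) = MvPolynomial.eval ![(a : ℚ), (b : ℚ)] Q := by
  letI : A.left.Over (Spec (CommRingCat.of k)) := ⟨A.hom⟩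
  haveI : IsProper (A.left ↘ Spec (CommRingCat.of k)) := inferInstanceAs (IsProper A.hom)
  obtain ⟨Q, hQ, hQn⟩ := Snapper.exists_mpoly k (L := ![L, M]) (fun i => by fin_cases i <;> assumption)
    (M := Coh.structureModule A.left)
    (haveI := CurveCohLib.isNoetherian_of_proper (k := k) (X := A.left); QCoh.isCoh_structureModule')
    (d := g) ((topologicalKrullDim_subspace_le A.left _).trans hg.le)
  refine ⟨Q, hQ, fun a b => ?_⟩
  have h := hQn ![a, b]
  rw [show (fun i => (((![a, b] : Fin 2 → ℕ) i : ℕ) : ℚ)) = ![(a : ℚ), (b : ℚ)] from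
    funext fun i => by fin_cases i <;> rfl] at h
  rw [← h, ← SurfPairing.χ_cl, cl_tensorPows, Fin.prod_univ_two]
  rfl

/-- `χ(L^n) = n^g χ(L)`. -/
theorem euler_pow (g : ℕ) (hg : topologicalKrullDim ↥A.left = g) {L : A.left.Modules}
    (hL : PicF.IsInvertible L) (n : ℕ) : χ (PicF.cl L ^ n) = (n : ℤ) ^ g * χ (PicF.cl L) := by
  let L' := (Scheme.Modules.pullback ((𝟙 A)⁻¹ : A ⟶ A).left).obj L
  have hL' : PicF.IsInvertible L' := PicClLib.isInvertible_pullback _ hL
  let u := pc hL (𝟙 A)
  let v := pc hL ((𝟙 A)⁻¹)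
  let d : A ⟶ A := 𝟙 A ^ (2 : ℤ)
  haveI : IsCommMonObj A := isCommMonObj_of_isProper_of_geometricallyIntegral A
  have h1 : pc hL d = u ^ 3 * v := by
    have h := cube_rel hL (𝟙 A) (𝟙 A) ((𝟙 A)⁻¹)
    rw [mul_inv_cancel_right, mul_inv_cancel, pc_one, _root_.mul_one, _root_.mul_one] at h
    rw [show d = 𝟙 A * 𝟙 A from zpow_two _, ← h, pow_three]
    ac_rfl
  have h2 : pc hL (d ≫ (𝟙 A)⁻¹) = v ^ 3 * u := by
    have h := cube_rel hL (𝟙 A) ((𝟙 A)⁻¹) ((𝟙 A)⁻¹)
    rw [mul_inv_cancel, _root_.one_mul, pc_one, _root_.one_mul, _root_.one_mul] at h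
    rw [GrpObj.comp_inv, Category.comp_id, show d = 𝟙 A * 𝟙 A from zpow_two _, mul_inv, ← h, pow_three]
    ac_rfl
  -- the pullback along multiplication by two
  have key : ∀ a b : ℕ, χ (PicF.cl L ^ (3 * a + b) * PicF.cl L' ^ (a + 3 * b)) =
      (2 : ℤ) ^ (2 * g) * χ (PicF.cl L ^ a * PicF.cl L' ^ b) := by
    intro a b
    obtain ⟨hfin, hflat, -⟩ := AVDegLib.zpow_props (A := A) 2 two_ne_zero
    let F := CohB1.tensorMod (CohB1.tensorPow L a) (CohB1.tensorPow L' b)
    haveI : IsLocallyNoetherian A.left := LocallyOfFiniteType.isLocallyNoetherian A.hom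
    have hF : Coh.IsCoh F := CurveDeg.isCoh_of_isInvertible
      (InvX.isInvertible_tensorMod (InvX.isInvertible_tensorPow hL a) (InvX.isInvertible_tensorPow hL' b))
    have h := AVEuler.euler_pullback d ((2 : ℕ) ^ (2 * g))
      (fun y => AVDegLib.finrank_zpow hg 2 two_ne_zero y) hF
    rw [← SurfPairing.χ_cl, ← SurfPairing.χ_cl] at h
    have hcl : PicF.cl ((Scheme.Modules.pullback d.left).obj F) =
        PicF.cl L ^ (3 * a + b) * PicF.cl L' ^ (a + 3 * b) := by
      show PicMul.pullHom d.left (PicF.cl F) = _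
      rw [PicMul.cl_tensor, PicMul.cl_tensorPow, PicMul.cl_tensorPow, ← val_pc_id hL, ← val_pc hL]
      show ((Units.map (PicMul.pullHom d.left : _ →* _) (u ^ a * v ^ b) : (PicF.Cl A.left)ˣ) : PicF.Cl A.left) =
        ((u ^ (3 * a + b) * v ^ (a + 3 * b) : (PicF.Cl A.left)ˣ) : PicF.Cl A.left)
      rw [map_mul, map_pow, map_pow, pull_pc, pull_pc, Category.comp_id, h1, h2]
      refine congrArg Units.val ?_
      refine Additive.ofMul.injective ?_
      simp only [mul_pow, ← pow_mul, pow_add, ofMul_mul, ofMul_pow]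
      abel
    rw [hcl, show PicF.cl F = PicF.cl L ^ a * PicF.cl L' ^ b by
      rw [PicMul.cl_tensor, PicMul.cl_tensorPow, PicMul.cl_tensorPow]] at h
    rw [Nat.cast_pow] at h
    exact h
  obtain ⟨Q, hQd, hQ⟩ := exists_poly g hg hL hL'
  have hQ2 : MvPolynomial.aeval (![C 3 * X 0 + X 1, X 0 + C 3 * X 1] : Fin 2 → MvPolynomial (Fin 2) ℚ) Q = C (4 ^ g) * Q := by
    refine eq_of_nat _ _ fun m => ?_
    rw [Snapper.eval_aeval, map_mul, eval_C,
      show (fun i => ((m i : ℕ) : ℚ)) = ![(m 0 : ℚ), (m 1 : ℚ)] from funext fun i => by fin_cases i <;> rfl]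
    have h := congrArg (fun z : ℤ => (z : ℚ)) (key (m 0) (m 1))
    push_cast at h
    rw [hQ, hQ] at h
    push_cast at h
    rw [show (4 : ℚ) ^ g = 2 ^ (2 * g) by rw [pow_mul]; norm_num, ← h]
    congr 1
    congr 1
    funext i
    fin_cases i <;> simp
  let W := MvPolynomial.aeval (![C (1 / 2 : ℚ) * (X 0 + X 1), C (1 / 2 : ℚ) * (X 0 - X 1)] : Fin 2 → MvPolynomial (Fin 2) ℚ) Q
  have hW : ∀ s t : ℚ, MvPolynomial.eval ![s, t] W = MvPolynomial.eval ![(s + t) / 2, (s - t) / 2] Q := fun s t => by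
    rw [Snapper.eval_aeval]
    congr 1
    congr 1
    funext i
    fin_cases i <;> simp <;> ring
  have hWd : W.totalDegree ≤ g := by
    refine (Snapper.DegLt.aeval (Snapper.degLt_of_totalDegree (Nat.lt_succ_of_le hQd)) _ fun i => ?_).totalDegree_le
    fin_cases i
    · exact (totalDegree_mul _ _).trans (by
        rw [totalDegree_C, zero_add]; exact (totalDegree_add _ _).trans (max_le (totalDegree_X _).le (totalDegree_X _).le))
    · exact (totalDegree_mul _ _).trans (by
        rw [totalDegree_C, zero_add]; exact (totalDegree_sub _ _).trans (max_le (totalDegree_X _).le (totalDegree_X _).le))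
  have hWs : ∀ s t : ℚ, MvPolynomial.eval ![4 * s, 2 * t] W = 4 ^ g * MvPolynomial.eval ![s, t] W := fun s t => by
    rw [hW, hW]
    have h := congrArg (MvPolynomial.eval ![(s + t) / 2, (s - t) / 2]) hQ2
    rw [Snapper.eval_aeval, map_mul, eval_C] at h
    rw [← h]
    congr 1
    congr 1
    funext i
    fin_cases i <;> simp <;> ring
  have hmain : ∀ m : ℕ, (χ (PicF.cl L ^ m) : ℚ) = W.coeff (Finsupp.single 0 g) * (m : ℚ) ^ g := fun m => by
    rw [← eq_monomial W hWd hWs (m : ℚ) (m : ℚ), hW]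
    have h := hQ m 0
    rw [pow_zero, _root_.mul_one] at h
    rw [h]
    congr 1
    congr 1
    funext i
    fin_cases i <;> simp
  have h1' := hmain 1
  rw [pow_one, Nat.cast_one, one_pow, _root_.mul_one] at h1'
  have := hmain n
  rw [← h1', mul_comm] at this
  exact_mod_cast this

/-- `χ(L⁻¹) = (-1)^g χ(L)`. -/
theorem euler_inverse (g : ℕ) (hg : topologicalKrullDim ↥A.left = g) {L M : A.left.Modules}
    (hL : PicF.IsInvertible L) (hM : PicF.IsInvertible M) (h : PicF.cl L * PicF.cl M = 1) :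
    χ (PicF.cl M) = (-1) ^ g * χ (PicF.cl L) := by
  obtain ⟨Q, -, hQ⟩ := exists_poly g hg hL hM
  have hQ' : MvPolynomial.aeval (![X 0 + X 1, X 1] : Fin 2 → MvPolynomial (Fin 2) ℚ) Q = C (χ (PicF.cl L) : ℚ) * (X 0 : MvPolynomial (Fin 2) ℚ) ^ g := by
    refine eq_of_nat _ _ fun m => ?_
    rw [Snapper.eval_aeval, map_mul, eval_C, map_pow, eval_X]
    have h1 := hQ (m 0 + m 1) (m 1)
    rw [pow_add, _root_.mul_assoc, ← mul_pow, h, one_pow, _root_.mul_one, euler_pow g hg hL] at h1
    push_cast at h1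
    rw [mul_comm, h1]
    congr 1
    congr 1
    funext i
    fin_cases i <;> simp
  have h2 := congrArg (MvPolynomial.eval ![(-1 : ℚ), 1]) hQ'
  rw [Snapper.eval_aeval, map_mul, eval_C, map_pow, eval_X] at h2
  have h3 := hQ 0 1
  rw [pow_zero, _root_.one_mul, pow_one] at h3
  have h4 : (χ (PicF.cl M) : ℚ) = (χ (PicF.cl L) : ℚ) * (-1) ^ g := by
    rw [h3]
    refine Eq.trans ?_ (h2.trans (by simp))
    congr 1
    congr 1
    funext i
    fin_cases i <;> simp
  rw [mul_comm] at h4
  exact_mod_cast h4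

open IntNumCycle in
/-- `(L^g) = g! χ(L)`. -/
theorem intNum_self (g : ℕ) (hg : topologicalKrullDim ↥A.left = g) {L M : A.left.Modules}
    (hL : PicF.IsInvertible L) (hM : PicF.IsInvertible M) (h : PicF.cl L * PicF.cl M = 1) :
    @FGA.intNum k _ A.left ⟨A.hom⟩ g g (fun _ : Fin g => M) (Coh.structureModule A.left) =
      (g.factorial : ℤ) * χ (PicF.cl L) := by
  letI : A.left.Over (Spec (CommRingCat.of k)) := ⟨A.hom⟩
  haveI : IsProper (A.left ↘ Spec (CommRingCat.of k)) := inferInstanceAs (IsProper A.hom)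
  haveI := CurveCohLib.isNoetherian_of_proper (k := k) (X := A.left)
  rw [IntAlt.intNum_eq_alt k hg.le (fun _ => hM) QCoh.isCoh_structureModule']
  let c := χ (PicF.cl M)
  let f : ℤ → ℤ := fun z => z ^ g
  have key : ∀ (r : ℕ) (F : A.left.Modules) (j : ℕ), PicF.cl F = PicF.cl M ^ j →
      alt k r (fun _ : Fin r => M) F = (-1) ^ r * (c * (fwdDiff 1)^[r] f j) := by
    intro r
    induction r with
    | zero =>
      intro F j hF
      simp only [alt, pow_zero, _root_.one_mul, Function.iterate_zero, id_eq, f, c]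
      rw [mul_comm, ← euler_pow g hg hM, ← hF]
      exact (SurfPairing.χ_cl k F).symm
    | succ r ih =>
      intro F j hF
      rw [Function.iterate_succ_apply', alt, ih F j hF,
        ih (CohB1.tensorMod F M) (j + 1) (by rw [PicMul.cl_tensor, hF, pow_succ]), fwdDiff, pow_succ]
      push_cast
      ring
  rw [key g (Coh.structureModule A.left) 0 (by rw [pow_zero]; exact PicMul.one_def.symm)]
  simp only [f, c, fwdDiff_iter_eq_factorial, Pi.natCast_apply, euler_inverse g hg hL hM h]
  rw [show ((-1 : ℤ) ^ g * ((-1) ^ g * χ (PicF.cl L) * (g.factorial : ℤ))) =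
    ((-1 : ℤ) ^ g * (-1) ^ g) * ((g.factorial : ℤ) * χ (PicF.cl L)) by ring, ← mul_pow]
  norm_num

end Groth.Agent.AVEulerHomog
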