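import Groth.Agent.Lib.AVAmpleVan
import Groth.Agent.H23.MaxAbelian
import Groth.Agent.QCoh.FlatCoh
import Groth.Agent.QCoh.RpushExchange2
import Groth.Prelude.Def_AgPol

/-!
Relatively ample modules on abelian schemes have no higher direct images.
-/

set_option autoImplicit false
set_option linter.style.haveILetI false
set_option linter.unusedSectionVars false
set_option backward.isDefEq.respectTransparency false
set_option backward.isDefEq.respectTransparency.types false
set_option maxHeartbeats 1000000
set_option synthInstance.maxHeartbeats 400000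

universe u

open CategoryTheory CategoryTheory.Limits MonoidalCategory CartesianMonoidalCategory MonObj AlgebraicGeometry TopologicalSpace Opposite
open scoped CategoryTheory.Obj TensorProduct

noncomputable section

namespace Groth.Agent.AVRelAmple

open Groth.Agent

theorem isAmple_of_iso' {X : Scheme.{u}} {L M : X.Modules} (e : L ≅ M) (h : CohB1.IsAmple L) : CohB1.IsAmple M :=
  AmpleX.isAmple_of_iso e h

/-- Relative ampleness gives ampleness on the fibres over field-valued points. -/
theorem isAmple_pullback {X S Z : Scheme.{u}} {f : X ⟶ S} [QuasiCompact f] {L : X.Modules}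
    (hL : RelAmple.IsRelAmple f L) {K : Type u} [Field K] (p : Spec (CommRingCat.of K) ⟶ S) (i : Z ⟶ X)
    (πZ : Z ⟶ Spec (CommRingCat.of K)) (h : IsPullback i πZ f p) :
    CohB1.IsAmple ((Scheme.Modules.pullback i).obj L) := by
  obtain ⟨V, hV, hyV⟩ : ∃ V : S.Opens, IsAffineOpen V ∧ p (IsLocalRing.closedPoint K) ∈ V := by
    obtain ⟨_, ⟨V, hV, rfl⟩, hyV, -⟩ := S.isBasis_affineOpens.exists_subset_of_mem_open
      (Set.mem_univ (p (IsLocalRing.closedPoint K))) isOpen_univ
    exact ⟨V, hV, hyV⟩
  have hrange : Set.range p ⊆ Set.range hV.fromSpec := by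
    rw [hV.range_fromSpec]
    rintro _ ⟨x, rfl⟩
    rwa [Subsingleton.elim x (IsLocalRing.closedPoint K)]
  let r : Spec (CommRingCat.of K) ⟶ Spec Γ(S, V) := IsOpenImmersion.lift hV.fromSpec p hrange
  have hr : r ≫ hV.fromSpec = p := IsOpenImmersion.lift_fac _ _ _
  have hsq := QCoh.isPullback_overSpec (f := f) hV
  let g : Z ⟶ ((f ⁻¹ᵁ V : X.Opens) : Scheme.{u}) :=
    hsq.lift i (πZ ≫ r) (by rw [Category.assoc, hr, h.w])
  have hgι : g ≫ (f ⁻¹ᵁ V).ι = i := hsq.lift_fst _ _ _
  have hsq' : IsPullback g πZ (QCoh.overSpec f hV) r :=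
    IsPullback.of_right (by rw [hgι, hr]; exact h) (hsq.lift_snd _ _ _) hsq
  haveI : IsAffineHom r := inferInstance
  haveI : IsAffineHom g := MorphismProperty.of_isPullback (P := @IsAffineHom) hsq'.flip inferInstance
  haveI : QuasiCompact πZ := MorphismProperty.of_isPullback (P := @QuasiCompact) h inferInstance
  haveI : CompactSpace Z := QuasiCompact.compactSpace_of_compactSpace πZ
  have h1 := AmpleVan.FiniteSurj.isAmple_pullback_of_isAffineHom g
    (isAmple_of_iso' ((Scheme.Modules.restrictFunctorIsoPullback (f ⁻¹ᵁ V).ι).app L) (hL.2 ⟨V, hV⟩))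
  exact isAmple_of_iso' ((Scheme.Modules.pullbackComp g (f ⁻¹ᵁ V).ι).app L ≪≫
    (Scheme.Modules.pullbackCongr hgι).app L) h1

variable {S : Scheme.{u}} (A : Over S) [GrpObj A] [IsProper A.hom] [Smooth A.hom] [GeometricallyConnected A.hom]

/-- A relatively ample module has no higher cohomology on the fibres. -/
theorem subsingleton_fiberH {L : A.left.Modules} (hL : PicF.IsInvertible L) (hLa : RelAmple.IsRelAmple A.hom L)
    (y : S) (j : ℕ) (hj : 0 < j) : Subsingleton (CohIII.fiberH A.hom L y j) := by
  let κ := S.residueField y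
  let Ω := AlgebraicClosure κ
  let a : Spec (CommRingCat.of Ω) ⟶ Spec κ := Spec.map (CommRingCat.ofHom (algebraMap κ Ω))
  let g : Spec (CommRingCat.of Ω) ⟶ S := a ≫ S.fromSpecResidueField y
  let B : Over (Spec (CommRingCat.of Ω)) := (Over.pullback g).obj A
  haveI : IsProper B.hom := inferInstanceAs (IsProper (pullback.snd A.hom g))
  haveI : Smooth B.hom := inferInstanceAs (Smooth (pullback.snd A.hom g))
  haveI : GeometricallyConnected B.hom := inferInstanceAs (GeometricallyConnected (pullback.snd A.hom g))
  haveI : GeometricallyReduced B.hom := H23.RigidGamma.geometricallyReduced_of_smooth B.hom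
  haveI : ConnectedSpace B.left := GeometricallyConnected.connectedSpace_of_subsingleton B.hom
  haveI : GeometricallyIntegral B.hom := H23.MaxAbelian.geometricallyIntegral_of_connected B
  haveI : QuasiCompact A.hom := inferInstance
  have hB : CohB1.IsAmple ((Scheme.Modules.pullback (pullback.fst A.hom g)).obj L) :=
    isAmple_pullback hLa g _ _ (IsPullback.of_hasPullback A.hom g)
  have hvan := AVAmpleVan.subsingleton_HH_of_isAmple (A := B) hB j hj
  -- descend to the fibre
  have hfib : IsPullback (A.hom.fiberι y) (A.hom.fiberToSpecResidueField y) A.hom (S.fromSpecResidueField y) :=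
    IsPullback.of_hasPullback _ _
  let h : pullback A.hom g ⟶ A.hom.fiber y :=
    hfib.lift (pullback.fst A.hom g) (pullback.snd A.hom g ≫ a) (by rw [Category.assoc]; exact pullback.condition)
  have hι : h ≫ A.hom.fiberι y = pullback.fst A.hom g := hfib.lift_fst _ _ _
  have hsq : IsPullback h (pullback.snd A.hom g) (A.hom.fiberToSpecResidueField y) a :=
    IsPullback.of_right (by rw [hι]; exact IsPullback.of_hasPullback A.hom g) (hfib.lift_snd _ _ _) hfib
  letI : (A.hom.fiber y).Over (Spec (CommRingCat.of κ)) := ⟨A.hom.fiberToSpecResidueField y⟩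
  letI : (pullback A.hom g).Over (Spec (CommRingCat.of Ω)) := ⟨pullback.snd A.hom g⟩
  haveI : IsProper (A.hom.fiberToSpecResidueField y) :=
    MorphismProperty.of_isPullback (P := @IsProper) hfib inferInstance
  haveI : Flat (A.hom.fiberToSpecResidueField y) :=
    MorphismProperty.of_isPullback (P := @Flat) hfib inferInstance
  haveI : CompactSpace (A.hom.fiber y) := QuasiCompact.compactSpace_of_compactSpace (A.hom.fiberToSpecResidueField y)
  haveI : (A.hom.fiber y).IsSeparated := ⟨by
    rw [← Limits.terminal.comp_from (A.hom.fiberToSpecResidueField y)]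
    infer_instance⟩
  have hN : PicF.IsInvertible ((Scheme.Modules.pullback (A.hom.fiberι y)).obj L) :=
    PicClLib.isInvertible_pullback _ hL
  obtain ⟨e⟩ := QCoh.nonempty_HH_bc_of_flat (A := κ) (B := Ω)
    (QCoh.isQCoh_of_isFinLocFree (H23.PullPush.isFinLocFree_of_isInvertible hN))
    (H23.Seesaw.isFlatOver_of_isInvertible (A.hom.fiberToSpecResidueField y) hN)
    (fun n => inferInstance) h hsq j
  haveI : Subsingleton (Coh.HH (pullback A.hom g)
      ((Scheme.Modules.pullback h).obj ((Scheme.Modules.pullback (A.hom.fiberι y)).obj L)) j) :=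
    QCoh.subsingleton_HH_of_iso ((Scheme.Modules.pullbackCongr hι.symm).app L ≪≫
      (Scheme.Modules.pullbackComp h (A.hom.fiberι y)).symm.app L) _ hvan
  haveI : Subsingleton (Coh.HH (A.hom.fiber y) ((Scheme.Modules.pullback (A.hom.fiberι y)).obj L) j ⊗[κ] Ω) :=
    e.toEquiv.symm.subsingleton
  exact Module.FaithfullyFlat.rTensor_reflects_triviality κ Ω _

/-- No higher direct images. -/
theorem isZero_Rpush [IsLocallyNoetherian S] [HasInjectiveResolutions A.left.Modules] {L : A.left.Modules}
    (hL : PicF.IsInvertible L) (hLa : RelAmple.IsRelAmple A.hom L) (i : ℕ) (hi : 0 < i) :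
    IsZero ((Coh.Rpush A.hom i).obj L) := by
  haveI : IsLocallyNoetherian A.left := LocallyOfFiniteType.isLocallyNoetherian A.hom
  haveI : Coh.IsQCoh L := (CurveDeg.isCoh_of_isInvertible hL).1
  exact S15985.result A.hom L (KZ.LFRes.isFP_of_isCoh (CurveDeg.isCoh_of_isInvertible hL))
    (H23.Seesaw.isFlatOver_of_isInvertible A.hom hL) i fun y => subsingleton_fiberH A hL hLa y i hi

/-- The direct image is locally free. -/
theorem isFinLocFree_push [IsLocallyNoetherian S] [HasInjectiveResolutions A.left.Modules] {L : A.left.Modules}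
    (hL : PicF.IsInvertible L) (hLa : RelAmple.IsRelAmple A.hom L) :
    FlatMod.IsFinLocFree ((Scheme.Modules.pushforward A.hom).obj L) := by
  haveI : IsLocallyNoetherian A.left := LocallyOfFiniteType.isLocallyNoetherian A.hom
  haveI := SpObjSS.enoughInjectives_of_hasInjectiveResolutions (C := A.left.Modules)
  haveI := QCoh.preservesFiniteLimits_push A.hom
  intro y
  obtain ⟨U, hy, ⟨e⟩⟩ := QCoh.exists_free_of_concentrated (CurveDeg.isCoh_of_isInvertible hL)
    (H23.Seesaw.isFlatOver_of_isInvertible A.hom hL) 0 y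
    fun i hi => subsingleton_fiberH A hL hLa y i (Nat.pos_of_ne_zero hi)
  exact ⟨U, _, hy, ⟨(Scheme.Modules.restrictFunctor U.ι).mapIso
    ((Scheme.Modules.pushforward A.hom).rightDerivedZeroIsoSelf.app L).symm ≪≫ e⟩⟩

end Groth.Agent.AVRelAmple
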