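import Groth.Agent.Lib.AVAmpleVan
import Groth.Agent.Lib.AVEulerHomog
import Groth.Agent.CurveBC.Coh
import Groth.Agent.Lib.AVRelAmple

/-!
Global sections of powers of an ample module on an abelian variety over any field.
-/

set_option autoImplicit false
set_option linter.style.haveILetI false
set_option linter.unusedSectionVars false
set_option backward.isDefEq.respectTransparency false
set_option backward.isDefEq.respectTransparency.types false
set_option maxHeartbeats 1000000
set_option synthInstance.maxHeartbeats 400000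

universe u

open CategoryTheory CategoryTheory.Limits MonoidalCategory CartesianMonoidalCategory MonObj AlgebraicGeometry TopologicalSpace Opposite

noncomputable section

namespace Groth.Agent.AVHilbert

open Groth.Agent Groth.Agent.H23

variable {k : Type u} [Field k] {A : Over (Spec (CommRingCat.of k))} [GrpObj A] [IsProper A.hom]
  [GeometricallyIntegral A.hom]

/-- An ample module has no higher cohomology, in dimensions. -/
theorem finrank_HH_eq_zero {L : A.left.Modules} (hLa : CohB1.IsAmple L) {j : ℕ} (hj : 0 < j) :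
    @Module.finrank k (Coh.HH A.left L j) _ _ (@Coh.moduleOver k _ A.left ⟨A.hom⟩ L j) = 0 := by
  let Ω := AlgebraicClosure k
  let σ : Spec (CommRingCat.of Ω) ⟶ Spec (CommRingCat.of k) := Spec.map (CommRingCat.ofHom (algebraMap k Ω))
  let B := Red.bc σ A
  haveI : IsProper B.hom := inferInstanceAs (IsProper (pullback.snd A.hom σ))
  haveI : GeometricallyIntegral B.hom := inferInstanceAs (GeometricallyIntegral (pullback.snd A.hom σ))
  letI : A.left.Over (Spec (CommRingCat.of k)) := ⟨A.hom⟩
  letI : B.left.Over (Spec (CommRingCat.of Ω)) := ⟨B.hom⟩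
  haveI : CompactSpace A.left := QuasiCompact.compactSpace_of_compactSpace A.hom
  haveI : QuasiSeparatedSpace A.left := quasiSeparatedSpace_of_quasiSeparated A.hom
  haveI : CompactSpace B.left := QuasiCompact.compactSpace_of_compactSpace B.hom
  let p : B.left ⟶ A.left := pullback.fst A.hom σ
  haveI : IsAffineHom σ := inferInstance
  haveI : IsLocallyNoetherian A.left := LocallyOfFiniteType.isLocallyNoetherian A.hom
  haveI : IsAffineHom p := MorphismProperty.pullback_fst (P := @IsAffineHom) A.hom σ ‹IsAffineHom σ›
  have hB : CohB1.IsAmple ((Scheme.Modules.pullback p).obj L) :=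
    AmpleVan.FiniteSurj.isAmple_pullback_of_isAffineHom p hLa
  haveI := AVAmpleVan.subsingleton_HH_of_isAmple hB j hj
  rw [← CurveBC.finrank_hh k Ω p (IsPullback.of_hasPullback A.hom σ) L
    (CurveDeg.isCoh_of_isInvertible hLa.1).1 j, Module.finrank_zero_of_subsingleton]

/-- The Euler characteristic of an ample module is the number of its sections. -/
theorem euler_eq_finrank {L : A.left.Modules} (hLa : CohB1.IsAmple L) :
    @Curv2.euler k _ A.left ⟨A.hom⟩ L =
      (@Module.finrank k (Coh.HH A.left L 0) _ _ (@Coh.moduleOver k _ A.left ⟨A.hom⟩ L 0) : ℤ) := by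
  letI : A.left.Over (Spec (CommRingCat.of k)) := ⟨A.hom⟩
  unfold Curv2.euler
  rw [finsum_eq_single _ 0 fun j hj => by rw [finrank_HH_eq_zero hLa (Nat.pos_of_ne_zero hj)]; simp]
  simp

/-- **`h⁰(Lⁿ) = n^g h⁰(L)`** for an ample module on a `g`-dimensional abelian variety. -/
theorem finrank_HH_zero_tensorPow (g : ℕ) (hg : topologicalKrullDim ↥A.left = g) {L : A.left.Modules}
    (hLa : CohB1.IsAmple L) {n : ℕ} (hn : 0 < n) :
    @Module.finrank k (Coh.HH A.left (CohB1.tensorPow L n) 0) _ _
        (@Coh.moduleOver k _ A.left ⟨A.hom⟩ (CohB1.tensorPow L n) 0) =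
      n ^ g * @Module.finrank k (Coh.HH A.left L 0) _ _ (@Coh.moduleOver k _ A.left ⟨A.hom⟩ L 0) := by
  have h := AVEulerHomog.euler_pow g hg hLa.1 n
  rw [← PicMul.cl_tensorPow] at h
  change @Curv2.euler k _ A.left ⟨A.hom⟩ (CohB1.tensorPow L n) = (n : ℤ) ^ g * @Curv2.euler k _ A.left ⟨A.hom⟩ L at h
  rw [euler_eq_finrank hLa, euler_eq_finrank (AmpleX.isAmple_tensorPow hLa hn)] at h
  exact_mod_cast h

end Groth.Agent.AVHilbert
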