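import Groth.Agent.Lib.CurveSection
import Groth.Agent.FFun.Basic

/-!
A line bundle with more than `g` independent sections has no first cohomology.
-/

set_option linter.style.haveILetI false
set_option linter.unusedSectionVars false
set_option backward.isDefEq.respectTransparency false
set_option backward.isDefEq.respectTransparency.types false

universe u

open CategoryTheory CategoryTheory.Limits AlgebraicGeometry TopologicalSpace Opposite
open Groth.Agent.PnCoh.Finite (mapLin)

namespace Groth.Agent.CurveSpecial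

open Groth.Agent.CurveBundle Groth.Agent.CurveSlope Groth.Agent.CurveStable

variable {X : Scheme.{u}} (k : Type u) [Field k] [X.Over (Spec (CommRingCat.of k))]

/-- The map out of the structure sheaf given by a cohomology class in degree zero. -/
noncomputable def homOfClass {P : X.Modules} (t : Coh.HH X P 0) : Coh.structureModule X ⟶ P :=
  QCoh.homOfTop (Sheaf.H.equiv₀ (Coh.toAb P) isTerminalTop t : Γ(P, ⊤))

theorem homOfClass_one {P : X.Modules} (t : Coh.HH X P 0) :
    (homOfClass t).app ⊤ (H23.Frame.one ⊤) = (Sheaf.H.equiv₀ (Coh.toAb P) isTerminalTop t : Γ(P, ⊤)) := by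
  show (QCoh.homOfTop _).app ⊤ (1 : Γ(X, ⊤)) = _
  rw [QCoh.homOfTop_app, one_smul]
  exact ConcreteCategory.congr_hom (P.presheaf.map_id _) _

theorem homOfClass_add {P : X.Modules} (s t : Coh.HH X P 0) :
    homOfClass (s + t) = homOfClass s + homOfClass t := by
  refine CurveRR.hom_ext_one ?_
  rw [homOfClass_one]
  refine (map_add (Sheaf.H.equiv₀ (Coh.toAb P) isTerminalTop) s t).trans ?_
  show _ = (homOfClass s).app ⊤ (H23.Frame.one ⊤) + (homOfClass t).app ⊤ (H23.Frame.one ⊤)
  rw [homOfClass_one, homOfClass_one]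

theorem homOfClass_smul {P : X.Modules} (a : k) (t : Coh.HH X P 0) :
    homOfClass (a • t) = homOfClass t ≫ Formal.smulMod k P a := by
  refine CurveRR.hom_ext_one ?_
  rw [homOfClass_one, CurveCohLib.h0Equiv_smul]
  show _ = (Formal.smulMod k P a).app ⊤ ((homOfClass t).app ⊤ (H23.Frame.one ⊤))
  rw [homOfClass_one, FFun.smulMod_app]

theorem homOfClass_ne_zero {P : X.Modules} {t : Coh.HH X P 0} (ht : t ≠ 0) : homOfClass t ≠ 0 :=
  fun h0 => ht (by
    have h1 := congrArg (fun φ => Scheme.Modules.Hom.app φ ⊤ (H23.Frame.one ⊤)) h0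
    refine (Sheaf.H.equiv₀ (Coh.toAb P) isTerminalTop).injective
      ((Eq.trans ((homOfClass_one t).symm) h1).trans (map_zero _).symm))

/-- Multiplication by sections, on cohomology. -/
noncomputable def mulLin (P : X.Modules) (n : ℕ) :
    Coh.HH X P 0 →ₗ[k] (Coh.HH X (Coh.structureModule X) n →ₗ[k] Coh.HH X P n) where
  toFun t := mapLin k (homOfClass t) n
  map_add' s t := LinearMap.ext fun x => by
    show Sheaf.H.map ((QCoh.toAbFunctor X).map (homOfClass (s + t))) n x = _
    rw [homOfClass_add, Functor.map_add, Sheaf.H.map_add_apply]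
    rfl
  map_smul' a t := LinearMap.ext fun x => by
    show Sheaf.H.map ((QCoh.toAbFunctor X).map (homOfClass (a • t))) n x =
      mapLin k (Formal.smulMod k P a) n (mapLin k (homOfClass t) n x)
    refine (PnCoh.Finite.map_map (Y := X.toPresheafedSpace.carrier) ?_ n x).symm
    rw [homOfClass_smul, Functor.map_comp]

variable [IsIntegral X] [IsProper (X ↘ Spec (CommRingCat.of k))]
  [Smooth (X ↘ Spec (CommRingCat.of k))]

include k in
/-- A non-zero section of an invertible module is surjective on first cohomology. -/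
theorem surjective_mapLin_one (hdim : topologicalKrullDim X = 1) {A L : X.Modules}
    (hA : PicF.IsInvertible A) (hL : PicF.IsInvertible L) (φ : A ⟶ L) (hφ : φ ≠ 0) :
    Function.Surjective (mapLin k φ 1) := by
  haveI := CurveCohLib.isNoetherian_of_proper (k := k) (X := X)
  have hA1 := InvEnd.isFinLocFreeOfRank_one hA
  have hL1 := InvEnd.isFinLocFreeOfRank_one hL
  have hLc := coh_of_free k (isFinLocFree_of_rank hL1)
  have hAc := coh_of_free k (isFinLocFree_of_rank hA1)
  haveI : Mono φ := CurveSection.mono_of_ne_zero k hdim.le (isFinLocFree_of_rank hA1) (rk_eq hA1)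
    (isFinLocFree_of_rank hL1) φ hφ
  have hS := shortExact_cokernel_of_mono φ
  have hTc : Coh.IsCoh (cokernel φ) := QCoh.isCoh_cokernel hAc.1 hLc φ
  have hT0 : rk (cokernel φ) = 0 := by
    have := rk_add_coh k _ _ _ hS hLc
    rw [rk_eq hA1, rk_eq hL1] at this
    omega
  have hTcl : ∀ x ∈ CohB1.support (cokernel φ), IsClosed ({x} : Set X) := fun x hx => by
    by_contra hxc
    obtain rfl := CurveCohLib.eq_genericPoint_of_not_isClosed hdim hxc
    letI := (isField_stalk_generic (X := X)).toField
    haveI := finite_stalk_of_coh hTc (genericPoint X)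
    exact hx (Module.finrank_zero_iff.1 hT0)
  haveI := CurveVanish.subsingleton_HH_of_finite
    (CurveCohLib.finite_of_closedPoints (QCoh.isClosed_support_of_isFT hTc.1 hTc.2) hTcl) hTcl
    (fun x hx => not_not.1 hx) 0
  intro y
  have := (CurveCohLib.ker_mapLin_g k hS 1).le
    (LinearMap.mem_ker.2 (Subsingleton.elim (mapLin k (cokernel.π φ) 1 y) 0))
  exact this

/-- More than `g` sections force `H¹ = 0`. -/
theorem subsingleton_HH_one_of_genus_lt (hdim : topologicalKrullDim X = 1) {L : X.Modules}
    (hL : PicF.IsInvertible L) (h : Curv2.genus k X < Module.finrank k (Coh.HH X L 0)) :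
    Subsingleton (Coh.HH X L 1) := by
  haveI := CurveCohLib.isNoetherian_of_proper (k := k) (X := X)
  have hLc := coh_of_free k (isFinLocFree_of_rank (InvEnd.isFinLocFreeOfRank_one hL))
  have hOc := coh_of_free k (isFinLocFree_of_rank
    (InvEnd.isFinLocFreeOfRank_one (CurveDeg.isInvertible_structureModule (X := X))))
  haveI := S0002.result k X L hLc 0
  haveI := S0002.result k X L hLc 1
  haveI := S0002.result k X (Coh.structureModule X) hOc 1
  refine subsingleton_of_forall_eq 0 fun y => (Module.forall_dual_apply_eq_zero_iff k y).1 fun l => ?_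
  by_contra hl
  let Ψ : Coh.HH X L 0 →ₗ[k] Module.Dual k (Coh.HH X (Coh.structureModule X) 1) :=
    (LinearMap.compRight k l).comp (mulLin k L 1)
  have hinj : Function.Injective Ψ := (injective_iff_map_eq_zero Ψ).2 fun t ht => by
    by_contra ht0
    obtain ⟨x, rfl⟩ := surjective_mapLin_one k hdim CurveDeg.isInvertible_structureModule hL
      (homOfClass t) (homOfClass_ne_zero ht0) y
    exact hl (LinearMap.congr_fun ht x)
  have := LinearMap.finrank_le_finrank_of_injective hinj
  rw [Subspace.dual_finrank_eq] at this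
  exact absurd this (not_le.2 h)

/-- Degree at least `2g - 1` forces `H¹ = 0`. -/
theorem subsingleton_HH_one_of_deg [IsAlgClosed k] (hdim : topologicalKrullDim X = 1) {L : X.Modules}
    (hL : PicF.IsInvertible L) (h : 2 * (Curv2.genus k X : ℤ) - 1 ≤ Curv2.deg k X L 1) :
    Subsingleton (Coh.HH X L 1) := by
  by_cases hg : Curv2.genus k X < Module.finrank k (Coh.HH X L 0)
  · exact subsingleton_HH_one_of_genus_lt k hdim hL hg
  haveI := CurveCohLib.isNoetherian_of_proper (k := k) (X := X)
  have hLc := coh_of_free k (isFinLocFree_of_rank (InvEnd.isFinLocFreeOfRank_one hL))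
  haveI := S0002.result k X L hLc 1
  have hχ := CurveRR.euler_eq_h0_sub_h1 k hdim.le hLc.1
  have hdeg : Curv2.deg k X L 1 = Curv2.euler k X L - (1 - (Curv2.genus k X : ℤ)) := by
    unfold Curv2.deg
    rw [CurveRR.euler_structureModule k hdim.le]
    push_cast
    ring
  exact Module.finrank_zero_iff.1 (show Module.finrank k (Coh.HH X L 1) = 0 by omega)

/-- An extension of invertible modules splits when the degrees differ by at least `2g - 1`. -/
theorem isSplitEpi_of_deg [IsAlgClosed k] (hdim : topologicalKrullDim X = 1)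
    {S : ShortComplex X.Modules} (hS : S.ShortExact) (hM : PicF.IsInvertible S.X₁)
    (hL : PicF.IsInvertible S.X₃)
    (h : 2 * (Curv2.genus k X : ℤ) - 1 ≤ Curv2.deg k X S.X₁ 1 - Curv2.deg k X S.X₃ 1) :
    IsSplitEpi S.g := by
  obtain ⟨D, hD, ⟨d0⟩⟩ := H23.PicInv.exists_inverse hL
  have e' : (DCoh.tensorBi.obj S.X₃).obj D ≅ Coh.structureModule X := d0
  have e : (DCoh.tensorBi.obj D).obj S.X₃ ≅ Coh.structureModule X :=
    CurveTensor.commIso D S.X₃ ≪≫ e'
  have hDdeg := CurveRR.deg_tensor k hdim hD hL
  rw [CurveRR.deg_congr k e, CurveDeg.deg_structureModule] at hDdeg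
  have hT1 : PicF.IsInvertible ((DCoh.tensorBi.obj D).obj S.X₁) := InvX.isInvertible_tensorMod hD hM
  have h1 : Subsingleton (Coh.HH X ((DCoh.tensorBi.obj D).obj S.X₁) 1) :=
    subsingleton_HH_one_of_deg k hdim hT1 (by rw [CurveRR.deg_tensor k hdim hD hM]; omega)
  have hT := CurveTensor.shortExact_tensor (isFinLocFree_of_rank (InvEnd.isFinLocFreeOfRank_one hD))
    S.f S.g S.zero hS
  obtain ⟨ψ, hψ⟩ := CurveRR.exists_lift_of_HH_one hT h1 e.inv
  exact CurveRR.isSplitEpi_of_map e' S.g (IsSplitEpi.mk' ⟨e.hom ≫ ψ, by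
    rw [Category.assoc]
    exact (congrArg (e.hom ≫ ·) hψ).trans e.hom_inv_id⟩)

end Groth.Agent.CurveSpecial
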