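import Groth.Agent.Lib.CurvePoint
import Groth.Agent.Lib.CurveSpecial

/-!
Where sections generate, and invertible modules of each degree.
-/

set_option linter.style.haveILetI false
set_option linter.unusedSectionVars false
set_option backward.isDefEq.respectTransparency false
set_option backward.isDefEq.respectTransparency.types false

universe u

open CategoryTheory CategoryTheory.Limits AlgebraicGeometry TopologicalSpace Opposite

namespace Groth.Agent.CurveTwist

open Groth.Agent.CurveBundle Groth.Agent.CurveSlope Groth.Agent.CurveStable Groth.Agent.CurvePoint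

variable {X : Scheme.{u}} (k : Type u) [Field k] [X.Over (Spec (CommRingCat.of k))] [IsIntegral X]
  [IsProper (X ↘ Spec (CommRingCat.of k))] [Smooth (X ↘ Spec (CommRingCat.of k))]

include k in
/-- A non-zero map from the structure sheaf to a line bundle is onto outside a finite set. -/
theorem exists_finite_surjective (hdim : topologicalKrullDim X = 1) {L : X.Modules}
    (hL : FlatMod.IsFinLocFreeOfRank 1 L) (φ : Coh.structureModule X ⟶ L) (hφ : φ ≠ 0) :
    ∃ Z : Set X, Z.Finite ∧ ∀ x ∉ Z, Function.Surjective ((DerSch.stalkFunctor X x).map φ) := by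
  haveI := CurveCohLib.isNoetherian_of_proper (k := k) (X := X)
  have hO1 := InvEnd.isFinLocFreeOfRank_one (CurveDeg.isInvertible_structureModule (X := X))
  have hLc := coh_of_free k (isFinLocFree_of_rank hL)
  have hOc := coh_of_free k (isFinLocFree_of_rank hO1)
  haveI : Mono φ := CurveSection.mono_of_ne_zero k hdim.le (isFinLocFree_of_rank hO1) (rk_eq hO1)
    (isFinLocFree_of_rank hL) φ hφ
  have hTc : Coh.IsCoh (cokernel φ) := QCoh.isCoh_cokernel hOc.1 hLc φ
  have hT0 : rk (cokernel φ) = 0 := by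
    have := rk_add_coh k _ _ _ (shortExact_cokernel_of_mono φ) hLc
    rw [rk_eq hO1, rk_eq hL] at this
    omega
  have hTcl : ∀ x ∈ CohB1.support (cokernel φ), IsClosed ({x} : Set X) := fun x hx => by
    by_contra hxc
    obtain rfl := CurveCohLib.eq_genericPoint_of_not_isClosed hdim hxc
    letI := (isField_stalk_generic (X := X)).toField
    haveI := finite_stalk_of_coh hTc (genericPoint X)
    exact hx (Module.finrank_zero_iff.1 hT0)
  refine ⟨CohB1.support (cokernel φ),
    CurveCohLib.finite_of_closedPoints (QCoh.isClosed_support_of_isFT hTc.1 hTc.2) hTcl, fun x hx => ?_⟩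
  haveI : Subsingleton ((DerSch.stalkFunctor X x).obj (cokernel φ)) := not_not.1 hx
  haveI : Epi ((DerSch.stalkFunctor X x).map φ) := Preadditive.epi_of_isZero_cokernel _
    ((ModuleCat.isZero_of_subsingleton ((DerSch.stalkFunctor X x).obj (cokernel φ))).of_iso
      (PreservesCokernel.iso (DerSch.stalkFunctor X x) φ).symm)
  exact (ModuleCat.epi_iff_surjective _).1 inferInstance

/-- Where a section of a line bundle generates the stalk, its multiples generate the fibre. -/
theorem exists_scalar [IsAlgClosed k] {G : X.Modules} {p : X} (hp : IsClosed ({p} : Set X))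
    (t : Coh.HH X G 0) (a : X.presheaf.stalk p) :
    ∃ c : k, a • G.presheaf.germ ⊤ p trivial (Sheaf.H.equiv₀ (Coh.toAb G) isTerminalTop t : Γ(G, ⊤)) -
        G.presheaf.germ ⊤ p trivial (Sheaf.H.equiv₀ (Coh.toAb G) isTerminalTop (c • t) : Γ(G, ⊤)) ∈
      IsLocalRing.maximalIdeal (X.presheaf.stalk p) •
        (⊤ : Submodule (X.presheaf.stalk p) (G.presheaf.stalk p)) := by
  obtain ⟨c, hc⟩ := CurveSection.exists_stalkMap_sub_mem k hp a
  refine ⟨c, ?_⟩
  rw [CurveCohLib.germ_h0Equiv_smul, ← sub_smul]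
  exact Submodule.smul_mem_smul hc Submodule.mem_top

include k in
/-- A closed point avoiding a finite set. -/
theorem exists_closed_notMem (hdim : topologicalKrullDim X = 1) {Z : Set X} (hZ : Z.Finite) :
    ∃ p : X, IsClosed ({p} : Set X) ∧ p ∉ Z := by
  classical
  obtain ⟨S, hS, hcl⟩ := CurveSection.exists_closed_finset k hdim (hZ.toFinset.card + 1)
  obtain ⟨p, hpS, hpZ⟩ : ∃ p ∈ S, p ∉ hZ.toFinset := by
    by_contra h
    push Not at h
    have := Finset.card_le_card h
    omega
  exact ⟨p, hcl p hpS, fun h => hpZ (hZ.mem_toFinset.2 h)⟩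

variable [IsAlgClosed k]

/-- Invertible modules of every degree. -/
theorem exists_isInvertible_deg (hdim : topologicalKrullDim X = 1) (d : ℤ) :
    ∃ L : X.Modules, PicF.IsInvertible L ∧ Curv2.deg k X L 1 = d := by
  obtain ⟨p, hp, -⟩ := exists_closed_notMem k hdim (Z := (∅ : Set X)) Set.finite_empty
  have hI := isInvertible_ptMod p hp k hdim
  have hdI := deg_ptMod p hp k
  obtain ⟨D, hD, ⟨e⟩⟩ := H23.PicInv.exists_inverse hI
  have hdD : Curv2.deg k X D 1 = 1 := by
    have h := CurveRR.deg_tensor k hdim hI hD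
    rw [CurveRR.deg_congr k (show (DCoh.tensorBi.obj (ptMod p hp)).obj D ≅ Coh.structureModule X from e),
      CurveDeg.deg_structureModule, hdI] at h
    omega
  induction d using Int.induction_on with
  | zero => exact ⟨_, CurveDeg.isInvertible_structureModule, CurveDeg.deg_structureModule k⟩
  | succ i ih =>
    obtain ⟨L, hL, hd⟩ := ih
    exact ⟨_, InvX.isInvertible_tensorMod hL hD, (CurveRR.deg_tensor k hdim hL hD).trans (by omega)⟩
  | pred i ih =>
    obtain ⟨L, hL, hd⟩ := ih
    exact ⟨_, InvX.isInvertible_tensorMod hL hI, (CurveRR.deg_tensor k hdim hL hI).trans (by omega)⟩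

/-- Twisting down a non-special line bundle with sections keeps it non-special. -/
theorem exists_twist_down (hdim : topologicalKrullDim X = 1) {L : X.Modules} (hL : PicF.IsInvertible L)
    (h1 : Subsingleton (Coh.HH X L 1)) (hd : (Curv2.genus k X : ℤ) ≤ Curv2.deg k X L 1) :
    ∃ L' : X.Modules, PicF.IsInvertible L' ∧ Curv2.deg k X L' 1 = Curv2.deg k X L 1 - 1 ∧
      Subsingleton (Coh.HH X L' 1) := by
  haveI := CurveCohLib.isNoetherian_of_proper (k := k) (X := X)
  have hL1 := InvEnd.isFinLocFreeOfRank_one hL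
  have hLc := coh_of_free k (isFinLocFree_of_rank hL1)
  haveI := S0002.result k X L hLc 0
  have hdeg : ∀ {M : X.Modules}, Curv2.deg k X M 1 = Curv2.euler k X M - (1 - (Curv2.genus k X : ℤ)) := by
    intro M
    unfold Curv2.deg
    rw [CurveRR.euler_structureModule k hdim.le]
    push_cast
    ring
  have hχ := CurveRR.euler_eq_h0_sub_h1 k hdim.le hLc.1
  haveI := h1
  rw [Module.finrank_zero_of_subsingleton (R := k) (M := Coh.HH X L 1)] at hχ
  obtain ⟨t, ht⟩ : ∃ t : Coh.HH X L 0, t ≠ 0 := by
    haveI : Nontrivial (Coh.HH X L 0) := Module.nontrivial_of_finrank_pos (R := k) (by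
      rw [hdeg] at hd
      omega)
    exact exists_ne 0
  obtain ⟨Z, hZ, hsur⟩ := exists_finite_surjective k hdim hL1 _ (CurveSpecial.homOfClass_ne_zero ht)
  obtain ⟨p, hp, hpZ⟩ := exists_closed_notMem k hdim hZ
  have hgen : ∀ v : L.presheaf.stalk p, ∃ t : Coh.HH X L 0,
      v - L.presheaf.germ ⊤ p trivial (Sheaf.H.equiv₀ (Coh.toAb L) isTerminalTop t : Γ(L, ⊤)) ∈
        IsLocalRing.maximalIdeal (X.presheaf.stalk p) •
          (⊤ : Submodule (X.presheaf.stalk p) (L.presheaf.stalk p)) := fun v => by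
    obtain ⟨y, hy⟩ := hsur p hpZ v
    obtain ⟨a, ha⟩ := CurveSection.homOfTop_stalk_eq_smul
      (Sheaf.H.equiv₀ (Coh.toAb L) isTerminalTop t : Γ(L, ⊤)) p y
    obtain ⟨c, hc⟩ := exists_scalar k hp t a
    refine ⟨c • t, ?_⟩
    rw [show v = a • L.presheaf.germ ⊤ p trivial
      (Sheaf.H.equiv₀ (Coh.toAb L) isTerminalTop t : Γ(L, ⊤)) from hy.symm.trans ha]
    exact hc
  have h0 := (finrank_twist p hp k hL1).2 hgen
  have hI := isInvertible_ptMod p hp k hdim
  have hL' : PicF.IsInvertible ((DCoh.tensorBi.obj L).obj (ptMod p hp)) := InvX.isInvertible_tensorMod hL hI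
  have hd' := CurveRR.deg_tensor k hdim hL hI
  rw [deg_ptMod p hp k] at hd'
  refine ⟨_, hL', hd', ?_⟩
  have hc' := coh_of_free k (isFinLocFree_of_rank (InvEnd.isFinLocFreeOfRank_one hL'))
  haveI := S0002.result k X _ hc' 1
  have hχ' := CurveRR.euler_eq_h0_sub_h1 k hdim.le hc'.1
  rw [hdeg, hdeg] at hd'
  exact Module.finrank_zero_iff.1 (show Module.finrank k
    (Coh.HH X ((DCoh.tensorBi.obj L).obj (ptMod p hp)) 1) = 0 by omega)

end Groth.Agent.CurveTwist
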