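import Groth.Agent.Lib.CurveLinear
import Groth.Agent.Lib.CurveTwist
import Groth.Agent.KZ.CohClass

/-!
Cohomological preliminaries to duality on a curve over an arbitrary field.
-/

set_option linter.style.haveILetI false
set_option linter.unusedSectionVars false
set_option backward.isDefEq.respectTransparency false
set_option backward.isDefEq.respectTransparency.types false

universe u

open CategoryTheory CategoryTheory.Limits AlgebraicGeometry TopologicalSpace Opposite
open Groth.Agent.PnCoh.Finite (mapLin)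

namespace Groth.Agent.CurveDuality

open Groth.Agent.CurveBundle Groth.Agent.CurveSlope Groth.Agent.CurveStable Groth.Agent.CurvePoint

variable {X : Scheme.{u}} (k : Type u) [Field k] [X.Over (Spec (CommRingCat.of k))]

theorem mapLin_id (M : X.Modules) (n : ℕ) (x : Coh.HH X M n) : mapLin k (𝟙 M) n x = x := by
  show Sheaf.H.map ((QCoh.toAbFunctor X).map (𝟙 M)) n x = x
  rw [CategoryTheory.Functor.map_id]
  exact Sheaf.H.map_id_apply x

theorem mapLin_add {M N : X.Modules} (f g : M ⟶ N) (n : ℕ) (x : Coh.HH X M n) :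
    mapLin k (f + g) n x = mapLin k f n x + mapLin k g n x := by
  show Sheaf.H.map ((QCoh.toAbFunctor X).map (f + g)) n x = _
  rw [Functor.map_add, Sheaf.H.map_add_apply]
  rfl

theorem mapLin_zero {M N : X.Modules} (n : ℕ) (x : Coh.HH X M n) :
    mapLin k (0 : M ⟶ N) n x = 0 := by
  have := mapLin_add k (0 : M ⟶ N) 0 n x
  rw [add_zero] at this
  exact left_eq_add.mp this

theorem mapLin_neg {M N : X.Modules} (f : M ⟶ N) (n : ℕ) (x : Coh.HH X M n) :
    mapLin k (-f) n x = - mapLin k f n x := by
  have := mapLin_add k (-f) f n x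
  rw [neg_add_cancel, mapLin_zero] at this
  exact eq_neg_of_add_eq_zero_left this.symm

theorem isInvertible_of_rank_one {M : X.Modules} (h : FlatMod.IsFinLocFreeOfRank 1 M) :
    PicF.IsInvertible M := fun x =>
  let ⟨U, hx, ⟨e⟩⟩ := h x
  ⟨U, hx, ⟨e ≪≫ coproductUniqueIso _⟩⟩

variable [IsIntegral X] [IsProper (X ↘ Spec (CommRingCat.of k))]
  [Smooth (X ↘ Spec (CommRingCat.of k))]

theorem euler_eq (hdim : topologicalKrullDim X = 1) {M : X.Modules} (hM : Coh.IsCoh M) :
    Curv2.euler k X M = (Module.finrank k (Coh.HH X M 0) : ℤ) - Module.finrank k (Coh.HH X M 1) :=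
  CurveRR.euler_eq_h0_sub_h1 k hdim.le hM.1

/-- A point has negative degree. -/
theorem deg_ptMod_neg (p : X) (hp : IsClosed ({p} : Set X)) : Curv2.deg k X (ptMod p hp) 1 < 0 := by
  classical
  haveI := CurveCohLib.isNoetherian_of_proper (k := k) (X := X)
  let Q := ClSub.quotMod (ptIdeal p hp)
  obtain ⟨h, hfin⟩ := CurveCohLib.euler_eq_sum_stalks (k := k) (isCoh_quot p hp k)
    (closed_support p hp) {p} (by simpa using support_quot_subset p hp)
  rw [Finset.sum_singleton] at h
  letI := CurveCohLib.stalkModuleK k Q p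
  haveI := hfin p (Finset.mem_singleton_self p)
  haveI : Nontrivial (Q.presheaf.stalk p) := not_subsingleton_iff_nontrivial.1 (not_subsingleton_stalk p hp)
  have hpos : 0 < Module.finrank k (Q.presheaf.stalk p) := Module.finrank_pos
  have hadd := euler_add' k _ _ _ (shortExact_pt p hp) (isCoh_ptMod p hp k)
    QCoh.isCoh_structureModule' (isCoh_quot p hp k)
  unfold Curv2.deg
  rw [h] at hadd
  push_cast
  have : (0 : ℤ) < Module.finrank k (Q.presheaf.stalk p) := by exact_mod_cast hpos
  linarith

/-- Invertible modules of arbitrarily negative degree. -/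
theorem exists_deg_le (hdim : topologicalKrullDim X = 1) (n : ℤ) :
    ∃ L : X.Modules, PicF.IsInvertible L ∧ Curv2.deg k X L 1 ≤ n := by
  obtain ⟨p, hp, -⟩ := CurveTwist.exists_closed_notMem k hdim (Z := (∅ : Set X)) Set.finite_empty
  have hI := isInvertible_ptMod p hp k hdim
  have hdI := deg_ptMod_neg k p hp
  induction n using Int.induction_on with
  | zero => exact ⟨_, CurveDeg.isInvertible_structureModule, (CurveDeg.deg_structureModule k).le⟩
  | succ i ih =>
    obtain ⟨L, hL, hd⟩ := ih
    exact ⟨L, hL, by omega⟩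
  | pred i ih =>
    obtain ⟨L, hL, hd⟩ := ih
    refine ⟨_, InvX.isInvertible_tensorMod hL hI, ?_⟩
    refine (CurveRR.deg_tensor k hdim hL hI).le.trans ?_
    omega

/-- An inverse with opposite degree. -/
theorem exists_inverse_deg (hdim : topologicalKrullDim X = 1) {L : X.Modules} (hL : PicF.IsInvertible L) :
    ∃ D : X.Modules, PicF.IsInvertible D ∧ Curv2.deg k X D 1 = -Curv2.deg k X L 1 ∧
      Nonempty ((DCoh.tensorBi.obj L).obj D ≅ Coh.structureModule X) := by
  obtain ⟨D, hD, ⟨e⟩⟩ := H23.PicInv.exists_inverse hL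
  have h := CurveRR.deg_tensor k hdim hL hD
  rw [CurveRR.deg_congr k (show (DCoh.tensorBi.obj L).obj D ≅ Coh.structureModule X from e),
    CurveDeg.deg_structureModule] at h
  exact ⟨D, hD, by omega, ⟨e⟩⟩

theorem exists_deg_ge (hdim : topologicalKrullDim X = 1) (n : ℤ) :
    ∃ L : X.Modules, PicF.IsInvertible L ∧ n ≤ Curv2.deg k X L 1 := by
  obtain ⟨L, hL, hd⟩ := exists_deg_le k hdim (-n)
  obtain ⟨D, hD, hdD, -⟩ := exists_inverse_deg k hdim hL
  exact ⟨D, hD, by omega⟩

/-- A crude vanishing bound, valid over any field. -/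
theorem subsingleton_HH_one_of_deg_ge (hdim : topologicalKrullDim X = 1) {L : X.Modules}
    (hL : PicF.IsInvertible L)
    (h : (Curv2.genus k X : ℤ) + 1 - Curv2.euler k X (Coh.structureModule X) ≤ Curv2.deg k X L 1) :
    Subsingleton (Coh.HH X L 1) := by
  refine CurveSpecial.subsingleton_HH_one_of_genus_lt k hdim hL ?_
  have hLc := coh_of_free k (isFinLocFree_of_rank (InvEnd.isFinLocFreeOfRank_one hL))
  have hχ := euler_eq k hdim hLc
  unfold Curv2.deg at h
  push_cast at h
  omega

/-- Negative degree means no sections. -/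
theorem finrank_h0_of_deg_neg (hdim : topologicalKrullDim X = 1) {L : X.Modules}
    (hL : PicF.IsInvertible L) (h : Curv2.deg k X L 1 < 0) :
    Module.finrank k (Coh.HH X L 0) = 0 := by
  by_contra hne
  obtain ⟨s, hs⟩ := CurveRR.exists_hom_ne_zero k hne
  have := (CurveDeg.deg_le_and_isIso k hdim.le CurveDeg.isInvertible_structureModule hL s hs).1
  rw [CurveDeg.deg_structureModule] at this
  omega

include k in
theorem subsingleton_HH_of_rk_zero (hdim : topologicalKrullDim X = 1) {M : X.Modules}
    (hM : Coh.IsCoh M) (h : rk M = 0) (n : ℕ) : Subsingleton (Coh.HH X M (n + 1)) := by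
  haveI := CurveCohLib.isNoetherian_of_proper (k := k) (X := X)
  have hcl : ∀ x ∈ CohB1.support M, IsClosed ({x} : Set X) := fun x hx => by
    by_contra hxc
    obtain rfl := CurveCohLib.eq_genericPoint_of_not_isClosed hdim hxc
    letI := (isField_stalk_generic (X := X)).toField
    haveI := finite_stalk_of_coh hM (genericPoint X)
    exact hx (Module.finrank_zero_iff.1 h)
  exact CurveVanish.subsingleton_HH_of_finite
    (CurveCohLib.finite_of_closedPoints (QCoh.isClosed_support_of_isFT hM.1 hM.2) hcl) hcl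
    (fun x hx => not_not.1 hx) n

/-- Degree one cohomology is right exact on a curve. -/
theorem surjective_HH_one_g (hdim : topologicalKrullDim X = 1) {S : ShortComplex X.Modules}
    (hS : S.ShortExact) (h₁ : Coh.IsQCoh S.X₁) :
    Function.Surjective (mapLin k S.g 1) := fun y => by
  haveI : Subsingleton (Coh.HH X S.X₁ (1 + 1)) := CurveVanish.subsingleton_HH_curve k hdim.le h₁ 0
  exact (CurveCohLib.ker_deltaLin k hS 1).le (LinearMap.mem_ker.2 (Subsingleton.elim _ _))

include k in
/-- Rank-preserving quotients with torsion kernel reach a locally free module. -/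
theorem exists_torsionFree_quot (hdim : topologicalKrullDim X = 1) {C : X.Modules} (hC : Coh.IsCoh C) :
    ∃ (P : X.Modules) (q : C ⟶ P), Epi q ∧ FlatMod.IsFinLocFree P ∧ Coh.IsCoh (kernel q) ∧
      rk (kernel q) = 0 ∧ rk P = rk C := by
  haveI := CurveCohLib.isNoetherian_of_proper (k := k) (X := X)
  haveI := S0002.result k X C hC 0
  have hdg : ∀ {K : X.Modules}, rk K = 0 → dg k K = Curv2.euler k X K := fun {K} h => by
    unfold dg
    rw [h]
    simp
  obtain ⟨d, ⟨K, i, hi, hK, hK0, rfl⟩, hd⟩ := Int.exists_greatest_of_bdd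
    (P := fun d => ∃ (K : X.Modules) (i : K ⟶ C), Mono i ∧ Coh.IsCoh K ∧ rk K = 0 ∧ dg k K = d)
    ⟨(Module.finrank k (Coh.HH X C 0) : ℤ), fun d ⟨K, i, hi, hK, hr, hd⟩ => by
      haveI := hi
      have := dg_le_h0 k hdim.le i hK hC
      rw [hr] at this
      simp at this
      omega⟩
    ⟨_, kernel (𝟙 C), kernel.ι _, inferInstance, QCoh.isCoh_kernel hC hC _,
      rk_eq_zero_of_isZero (isZero_kernel_of_mono (𝟙 C)), rfl⟩
  haveI := hi
  have hP : Coh.IsCoh (cokernel i) := QCoh.isCoh_cokernel hK.1 hC i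
  have h1 := rk_add_coh k _ _ _ (shortExact_cokernel_of_mono i) hC
  have h2 := dg_add k _ _ _ (shortExact_cokernel_of_mono i) hK hC hP
  have hPf : FlatMod.IsFinLocFree (cokernel i) := by
    by_contra hne
    obtain ⟨Q', q, hq, hQ', hrk, hlt⟩ := exists_quot_dg_lt k hdim.le hP hne
    haveI := hq
    haveI : Epi (cokernel.π i ≫ q) := epi_comp _ _
    have hK' := QCoh.isCoh_kernel hC hQ' (cokernel.π i ≫ q)
    have h3 := rk_add_coh k _ _ _ (shortExact_kernel_of_epi (cokernel.π i ≫ q)) hC
    have h4 := dg_add k _ _ _ (shortExact_kernel_of_epi (cokernel.π i ≫ q)) hK' hC hQ'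
    have h5 := hd _ ⟨_, kernel.ι (cokernel.π i ≫ q), inferInstance, hK', by omega, rfl⟩
    omega
  have hk : Coh.IsCoh (kernel (cokernel.π i)) := QCoh.isCoh_kernel hC hP _
  have h6 := rk_add_coh k _ _ _ (shortExact_kernel_of_epi (cokernel.π i)) hC
  exact ⟨_, cokernel.π i, inferInstance, hPf, hk, by omega, by omega⟩

end Groth.Agent.CurveDuality
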