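import Groth.Agent.Lib.AVWeil
import Groth.Agent.AVTors.Verschiebung
import Groth.Agent.AVTors.IsogPts
import Mathlib.RingTheory.Smooth.Fiber
import Mathlib.RingTheory.RingHom.Etale
import Mathlib.RingTheory.Kaehler.Basic
import Mathlib.FieldTheory.Finite.Basic
import Mathlib.FieldTheory.IsAlgClosed.Basic

/-!
The number of points of an abelian variety over a finite extension of its finite field of definition.
-/

set_option autoImplicit false
set_option linter.style.haveILetI false
set_option linter.unusedSectionVars false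
set_option backward.isDefEq.respectTransparency false
set_option backward.isDefEq.respectTransparency.types false
set_option maxHeartbeats 1000000
set_option synthInstance.maxHeartbeats 400000

universe u

open CategoryTheory CategoryTheory.Limits MonoidalCategory CartesianMonoidalCategory MonObj AlgebraicGeometry

noncomputable section

namespace Groth.Agent.AVWeilCount

local instance overLeft {k : Type u} [Field k] (T : Over (Spec (CommRingCat.of k))) :
    T.left.Over (Spec (CommRingCat.of k)) := ⟨T.hom⟩

local instance isProper_overLeft {k : Type u} [Field k] (T : Over (Spec (CommRingCat.of k))) [IsProper T.hom] :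
    IsProper (T.left ↘ Spec (CommRingCat.of k)) := ‹IsProper T.hom›

variable {k : Type u} [Field k] {A : Over (Spec (CommRingCat.of k))}
  (πA : A ⟶ A) (q : ℕ) (hπle : ∀ U : A.left.Opens, U ≤ πA.left ⁻¹ᵁ U)
  (hπapp : ∀ (U : A.left.Opens) (s : Γ(A.left, U)), (πA.left.appLE U U (hπle U)).hom s = s ^ q)
  (p r : ℕ) [Fact p.Prime] (hq : q = p ^ r)

include hπapp hq in
/-- On any affine scheme of characteristic `p` the Frobenius acts by the power map on functions. -/
theorem comp_eq [GrpObj A] [IsCommMonObj A] [IsProper A.hom] [GeometricallyIntegral A.hom] [IsMonHom πA]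
    {R : Type u} [CommRing R] [CharP R p] (F : R →+* R) (hF : ∀ a, F a = a ^ q)
    (f : Spec (CommRingCat.of R) ⟶ A.left) : f ≫ πA.left = Spec.map (CommRingCat.ofHom F) ≫ f := by
  let S := Spec (CommRingCat.of R)
  have key : ∀ x : S, ∃ (W : S.Opens) (hW : IsAffineOpen W), x ∈ W ∧
      hW.fromSpec ≫ f ≫ πA.left = hW.fromSpec ≫ Spec.map (CommRingCat.ofHom F) ≫ f := by
    intro x
    obtain ⟨_, ⟨U, hU, rfl⟩, hxU, -⟩ :=
      A.left.isBasis_affineOpens.exists_subset_of_mem_open (Set.mem_univ (f x)) isOpen_univ
    obtain ⟨_, ⟨W, hW, rfl⟩, hxW, hWU⟩ :=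
      S.isBasis_affineOpens.exists_subset_of_mem_open (show x ∈ (f ⁻¹ᵁ U : Set S) from hxU) (f ⁻¹ᵁ U).isOpen
    refine ⟨W, hW, hxW, ?_⟩
    obtain ⟨φ, hφ⟩ := Spec.map_surjective hW.fromSpec
    haveI : Nontrivial Γ(S, W) := by
      haveI : Nonempty W := ⟨⟨x, hxW⟩⟩
      infer_instance
    haveI : CharP Γ(S, W) p := (CharP.charP_iff_prime_eq_zero Fact.out).2 (by
      rw [← map_natCast φ.hom, CharP.cast_eq_zero, map_zero])
    haveI : ExpChar Γ(S, W) p := ExpChar.prime Fact.out
    let FW : Γ(S, W) →+* Γ(S, W) := iterateFrobenius _ p r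
    have hFW : ∀ a, FW a = a ^ q := fun a => by rw [hq]; rfl
    have e1 := AVTors.Verschiebung.comp_eq_of_affine πA q hπle hπapp FW hFW (hW.fromSpec ≫ f) hU (by
      rintro _ ⟨z, rfl⟩
      exact hWU (hW.range_fromSpec ▸ ⟨z, rfl⟩ : hW.fromSpec z ∈ (W : Set S)))
    rw [← Category.assoc, e1, ← hφ, ← Category.assoc, ← Category.assoc, ← Spec.map_comp, ← Spec.map_comp]
    congr 2
    refine CommRingCat.hom_ext (RingHom.ext fun a => ?_)
    show FW (φ.hom a) = φ.hom (F a)
    rw [hFW, hF, map_pow]
  choose W hW hxW he using key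
  refine (S.openCoverOfIsOpenCover W (.mk (eq_top_iff.mpr fun x _ =>
    TopologicalSpace.Opens.mem_iSup.mpr ⟨x, hxW x⟩))).hom_ext _ _ fun x => ?_
  rw [← cancel_epi (hW x).isoSpec.inv]
  exact he x

variable [GrpObj A] [IsCommMonObj A] [IsProper A.hom] [GeometricallyIntegral A.hom] [IsMonHom πA]

include hπapp hq in
theorem comp_pow_eq {R : Type u} [CommRing R] [CharP R p] [ExpChar R p] (j : ℕ)
    (f : Spec (CommRingCat.of R) ⟶ A.left) :
    f ≫ (EndAV.End.of πA ^ j).toHom.left = Spec.map (CommRingCat.ofHom (iterateFrobenius R p (r * j))) ≫ f := by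
  induction j with
  | zero =>
    rw [pow_zero, EndAV.End.toHom_one, Over.id_left, Category.comp_id, Nat.mul_zero, iterateFrobenius_zero]
    exact (Category.id_comp f).symm.trans (congrArg (· ≫ f) (Spec.map_id _).symm)
  | succ j ih =>
    rw [EndAV.End.toHom_pow_succ, Over.comp_left, ← Category.assoc, ih, Category.assoc,
      show (EndAV.End.of πA).toHom = πA from rfl,
      comp_eq πA q hπle hπapp p r hq (iterateFrobenius R p r) (fun a => by rw [iterateFrobenius_def, hq]) f,
      ← Category.assoc, ← Spec.map_comp]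
    congr 2
    refine CommRingCat.hom_ext (RingHom.ext fun a => ?_)
    show iterateFrobenius R p (r * j) (iterateFrobenius R p r a) = iterateFrobenius R p (r * (j + 1)) a
    rw [← iterateFrobenius_add_apply, Nat.mul_succ]

variable [CharP k p] (hr : 0 < r) (j : ℕ) (hj : 0 < j)

/-- The endomorphism `π^j - 1`. -/
def fix : A ⟶ A := EndAV.End.toHom (EndAV.End.of πA ^ j - 1)

instance isMonHom_fix : IsMonHom (fix πA j) := inferInstanceAs (IsMonHom (EndAV.End.toHom _))

theorem comp_fix_eq_one {T : Over (Spec (CommRingCat.of k))} (x : T ⟶ A) :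
    x ≫ fix πA j = 1 ↔ x ≫ (EndAV.End.of πA ^ j).toHom = x := by
  rw [fix, EndAV.End.toHom_sub, EndAV.End.toHom_one, GrpObj.comp_div, Category.comp_id, div_eq_one]

include hπapp hq hr hj in
/-- The fixed scheme of a positive power of the Frobenius is étale. -/
theorem etale_ker [IsFinite (fix πA j).left] : Etale (pullback.fst (η[A]).left (fix πA j).left) := by
  let q0 : pullback (η[A]).left (fix πA j).left ⟶ Spec (CommRingCat.of k) := pullback.fst (η[A]).left (fix πA j).left
  show Etale q0
  haveI : IsFinite q0 := MorphismProperty.pullback_fst (P := @IsFinite) _ _ inferInstance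
  haveI : IsAffine (pullback (η[A]).left (fix πA j).left) := isAffine_of_isAffineHom q0
  let W := pullback (η[A]).left (fix πA j).left
  let C := Γ(W, ⊤)
  obtain ⟨φ, hφ⟩ := Spec.map_surjective (W.isoSpec.inv ≫ q0)
  letI : Algebra k C := φ.hom.toAlgebra
  have h1 : IsFinite (Spec.map φ) := by rw [hφ]; infer_instance
  rw [IsFinite.SpecMap_iff] at h1
  haveI : Module.Finite k C := h1
  suffices he : Etale (Spec.map φ) by
    rw [show q0 = W.isoSpec.hom ≫ Spec.map φ by rw [hφ]; simp [W]]
    infer_instance
  rw [HasRingHomProperty.Spec_iff (P := @Etale)]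
  show RingHom.Etale (algebraMap k C)
  rw [RingHom.etale_algebraMap]
  haveI : Algebra.FinitePresentation k C := Algebra.FinitePresentation.of_finiteType.1 inferInstance
  haveI : Algebra.FormallyUnramified k C := by
    rcases subsingleton_or_nontrivial C with hC | hC
    · exact ⟨Module.subsingleton C _⟩
    haveI : CharP C p := charP_of_injective_algebraMap (algebraMap k C).injective p
    haveI : ExpChar C p := ExpChar.prime Fact.out
    let a : Spec (CommRingCat.of C) ⟶ A.left := W.isoSpec.inv ≫ pullback.snd (η[A]).left (fix πA j).left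
    have hη : (η[A]).left ≫ A.hom = 𝟙 _ := Over.w η[A]
    haveI : Mono (η[A]).left := SplitMono.mono ⟨A.hom, hη⟩
    haveI : Mono a := mono_comp _ _
    let T : Over (Spec (CommRingCat.of k)) := Over.mk (a ≫ A.hom)
    let x : T ⟶ A := Over.homMk a rfl
    have hx : x ≫ fix πA j = 1 := by
      refine Over.OverMorphism.ext ?_
      rw [Over.comp_left, Hom.one_def, Over.comp_left]
      show a ≫ (fix πA j).left = (a ≫ A.hom) ≫ (η[A]).left
      have hsnd : pullback.snd (η[A]).left (fix πA j).left ≫ A.hom = pullback.fst (η[A]).left (fix πA j).left := by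
        rw [← Over.w (fix πA j), ← pullback.condition_assoc, hη]
        exact Category.comp_id _
      simp only [a, Category.assoc, reassoc_of% hsnd, ← pullback.condition]
    have hfix := congrArg (fun z : T ⟶ A => z.left) ((comp_fix_eq_one πA j x).1 hx)
    replace hfix : a ≫ (EndAV.End.of πA ^ j).toHom.left = a := hfix
    rw [comp_pow_eq πA q hπle hπapp p r hq j a] at hfix
    have hid : Spec.map (CommRingCat.ofHom (iterateFrobenius C p (r * j))) = 𝟙 _ :=
      (cancel_mono a).1 (hfix.trans (Category.id_comp a).symm)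
    rw [← Spec.map_id] at hid
    have hc : ∀ c : C, c ^ p ^ (r * j) = c := fun c => by
      have := congrArg (fun ψ => ψ.hom c) (Spec.map_injective hid)
      simpa [iterateFrobenius_def] using this
    have hD : ∀ c : C, KaehlerDifferential.D k C c = 0 := fun c => by
        conv_lhs => rw [← hc c]
        rw [Derivation.leibniz_pow, ← Nat.cast_smul_eq_nsmul C, Nat.cast_pow, CharP.cast_eq_zero,
          zero_pow (Nat.mul_ne_zero hr.ne' hj.ne'), zero_smul]
    refine ⟨?_⟩
    refine subsingleton_of_forall_eq 0 fun z => ?_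
    have hz : z ∈ Submodule.span C (Set.range (KaehlerDifferential.D k C)) := by
      rw [KaehlerDifferential.span_range_derivation]; trivial
    refine Submodule.span_induction (p := fun z _ => z = 0) ?_ rfl (fun _ _ _ _ h h' => by rw [h, h', add_zero])
      (fun c _ _ h => by rw [h, smul_zero]) hz
    rintro _ ⟨c, rfl⟩
    exact hD c
  exact Algebra.Etale.of_formallyUnramified_of_flat

variable (Ω : Type u) [Field Ω] [Algebra k Ω] [IsAlgClosed Ω]

include hπapp hq hr hj in
/-- The number of fixed geometric points is the degree. -/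
theorem card_kerPts {g : ℕ} (hg : topologicalKrullDim A.left = g) [IsFinite (fix πA j).left] :
    Nat.card (AVTors.kerPts (fix πA j) Ω) = AVNu.nu (fix πA j) := by
  haveI := AVTors.finite_kerPts (Ω := Ω) (fix πA j)
  haveI : Surjective (fix πA j).left := ⟨fun x => by
    haveI : IsIntegral A.left := GeometricallyIntegral.isIntegral_of_subsingleton A.hom
    haveI := CurveCohLib.isNoetherian_of_proper (k := k) (X := A.left)
    let f := fix πA j
    let η' := genericPoint A.left
    obtain ⟨n, hn, hδ⟩ := IntPush.deltaCompat k f.left (Over.w f) η'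
    have hn0 : n = 0 := by
      letI := (f.left.residueFieldMap η').hom.toAlgebra
      haveI : Module.Finite (A.left.residueField (f.left η')) (A.left.residueField η') :=
        MorLib.GF.finite_residueFieldMap f.left η'
      have := trdeg_eq_zero (R := A.left.residueField (f.left η')) (A := A.left.residueField η')
      rw [hn] at this
      exact_mod_cast this
    rw [hn0, Nat.cast_zero, add_zero] at hδ
    exact (genericPoint_specializes x).mem_closed f.left.isClosedMap.isClosed_range
      ⟨η', AVNu.map_generic hg hg f hδ⟩⟩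
  haveI : Flat (fix πA j).left := (S19572.result k A A (fix πA j) rfl).2
  let y : SGA7.pt Ω ⟶ A := 1
  let e := pullback.fst y.left (fix πA j).left
  haveI : IsFinite e := MorphismProperty.pullback_fst (P := @IsFinite) _ _ inferInstance
  haveI : Flat e := MorphismProperty.pullback_fst (P := @Flat) _ _ inferInstance
  haveI := etale_ker πA q hπle hπapp p r hq hr j hj
  have he : Etale e := by
    let t := (toUnit (SGA7.pt (K := k) Ω)).left
    have hy : y.left = t ≫ (η[A]).left := by simp only [y, Hom.one_def, Over.comp_left, t]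
    have h0 : Etale (pullback.fst (t ≫ (η[A]).left) (fix πA j).left) := by
      haveI : Etale (pullback.fst t (pullback.fst (η[A]).left (fix πA j).left)) :=
        MorphismProperty.pullback_fst (P := @Etale) _ _ inferInstance
      rw [← pullbackRightPullbackFstIso_inv_fst (η[A]).left (fix πA j).left t]
      infer_instance
    show Etale (pullback.fst y.left (fix πA j).left)
    rw [hy]
    exact h0
  obtain ⟨-, -, h3⟩ := AVTors.natCard_le e (IsLocalRing.closedPoint Ω)
  rw [← AVNu.finrank_eq_nu hg hg (fix πA j) inferInstance (y.left (IsLocalRing.closedPoint Ω)),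
    ← Scheme.Hom.finrank_pullback_fst (fix πA j).left y.left (IsLocalRing.closedPoint Ω), ← h3 inferInstance he]
  exact Nat.card_congr (AVTors.liftsEquiv (fix πA j) y)

include hπapp hq hr hj in
/-- The rational points are the fixed geometric points. -/
theorem card_points (k' : Type u) [Field k'] [Algebra k k'] [Finite k'] (hk' : Nat.card k' = p ^ (r * j)) :
    Nat.card (Over.mk (Spec.map (CommRingCat.ofHom (algebraMap k k'))) ⟶ A) =
      Nat.card (AVTors.kerPts (fix πA j) Ω) := by
  classical
  haveI : Module.Finite k k' := Module.Finite.of_finite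
  haveI : CharP k' p := charP_of_injective_algebraMap (algebraMap k k').injective p
  haveI : ExpChar k' p := ExpChar.prime Fact.out
  haveI : CharP Ω p := charP_of_injective_algebraMap (algebraMap k Ω).injective p
  haveI : ExpChar Ω p := ExpChar.prime Fact.out
  let i : k' →ₐ[k] Ω := IsAlgClosed.lift
  let s : SGA7.pt (K := k) Ω ⟶ Over.mk (Spec.map (CommRingCat.ofHom (algebraMap k k'))) :=
    Over.homMk (Spec.map (CommRingCat.ofHom i.toRingHom)) (by
      show Spec.map _ ≫ Spec.map _ = _
      rw [← Spec.map_comp, ← CommRingCat.ofHom_comp]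
      exact congrArg (fun g => Spec.map (CommRingCat.ofHom g)) i.comp_algebraMap)
  have hfix : ∀ x : Over.mk (Spec.map (CommRingCat.ofHom (algebraMap k k'))) ⟶ A,
      (s ≫ x) ≫ fix πA j = 1 := fun x => by
    have h : x ≫ fix πA j = 1 := by
      refine (comp_fix_eq_one πA j x).2 (Over.OverMorphism.ext ?_)
      refine (comp_pow_eq πA q hπle hπapp p r hq j x.left).trans ?_
      rw [show iterateFrobenius k' p (r * j) = RingHom.id k' from RingHom.ext fun a => by
        haveI := Fintype.ofFinite k'
        rw [iterateFrobenius_def, ← hk', Nat.card_eq_fintype_card, FiniteField.pow_card]; rfl]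
      exact (congrArg (· ≫ x.left) (Spec.map_id _)).trans (Category.id_comp _)
    rw [Category.assoc, h, MonObj.comp_one]
  refine Nat.card_congr (Equiv.ofBijective (fun x => ⟨s ≫ x, hfix x⟩) ⟨fun x x' h => ?_, fun ⟨y, hy⟩ => ?_⟩)
  · haveI : Surjective (Spec.map (CommRingCat.ofHom i.toRingHom)) :=
      ⟨fun z => ⟨IsLocalRing.closedPoint Ω, @Subsingleton.elim (Spec (CommRingCat.of k')) inferInstance _ _⟩⟩
    haveI : Flat (Spec.map (CommRingCat.ofHom i.toRingHom)) := by
      rw [HasRingHomProperty.Spec_iff (P := @Flat)]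
      letI := i.toRingHom.toAlgebra
      exact (inferInstance : Module.Flat k' Ω)
    haveI : QuasiCompact (Spec.map (CommRingCat.ofHom i.toRingHom)) := inferInstance
    haveI := Flat.epi_of_flat_of_surjective (Spec.map (CommRingCat.ofHom i.toRingHom))
    exact Over.OverMorphism.ext ((cancel_epi (Spec.map (CommRingCat.ofHom i.toRingHom))).1
      (congrArg (fun z : SGA7.pt (K := k) Ω ⟶ A => z.left) (Subtype.ext_iff.1 h)))
  · have hy' := congrArg (fun z : SGA7.pt (K := k) Ω ⟶ A => z.left) ((comp_fix_eq_one πA j y).1 hy)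
    replace hy' : y.left ≫ (EndAV.End.of πA ^ j).toHom.left = y.left := hy'
    rw [show y.left ≫ (EndAV.End.of πA ^ j).toHom.left = _ from comp_pow_eq πA q hπle hπapp p r hq j y.left] at hy'
    obtain ⟨_, ⟨U, hU, rfl⟩, hxU, -⟩ :=
      A.left.isBasis_affineOpens.exists_subset_of_mem_open (Set.mem_univ (y.left (IsLocalRing.closedPoint Ω))) isOpen_univ
    have hrange : Set.range y.left ⊆ Set.range hU.fromSpec := by
      rw [hU.range_fromSpec]
      rintro _ ⟨z, rfl⟩
      rwa [show z = IsLocalRing.closedPoint Ω from @Subsingleton.elim (Spec (CommRingCat.of Ω)) inferInstance _ _]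
    obtain ⟨φ, hφ⟩ : ∃ φ, Spec.map φ = IsOpenImmersion.lift hU.fromSpec y.left hrange := ⟨_, Spec.map_preimage _⟩
    have hyφ : Spec.map φ ≫ hU.fromSpec = y.left := by rw [hφ]; exact IsOpenImmersion.lift_fac _ _ _
    have hinv : ∀ c, φ.hom c ^ p ^ (r * j) = φ.hom c := fun c => by
      rw [← hyφ, ← Category.assoc] at hy'
      have h2 := (cancel_mono hU.fromSpec).1 hy'
      rw [← Spec.map_comp] at h2
      have h3 := congrArg (fun ψ => ψ.hom c) (Spec.map_injective h2)
      simpa [iterateFrobenius_def] using h3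
    have hmem : ∀ c, φ.hom c ∈ i.toRingHom.range := by
      haveI := Fintype.ofFinite k'
      intro c
      by_contra hc
      let Q := p ^ (r * j)
      have hQ1 : 1 < Q := Nat.one_lt_pow (Nat.mul_ne_zero hr.ne' hj.ne') (Fact.out : p.Prime).one_lt
      let S : Finset Ω := insert (φ.hom c) (Finset.univ.image i)
      have hsub : S ⊆ (Polynomial.X ^ Q - Polynomial.X : Polynomial Ω).roots.toFinset := by
        intro z hz
        rw [Multiset.mem_toFinset, Polynomial.mem_roots (FiniteField.X_pow_card_sub_X_ne_zero Ω hQ1),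
          Polynomial.IsRoot, Polynomial.eval_sub, Polynomial.eval_pow, Polynomial.eval_X, sub_eq_zero]
        rcases Finset.mem_insert.1 hz with rfl | hz
        · exact hinv c
        · obtain ⟨w, -, rfl⟩ := Finset.mem_image.1 hz
          rw [← map_pow, show Q = Fintype.card k' by rw [← Nat.card_eq_fintype_card, hk'], FiniteField.pow_card]
      have h1 := (Finset.card_le_card hsub).trans ((Multiset.toFinset_card_le _).trans (Polynomial.card_roots' _))
      rw [FiniteField.X_pow_card_sub_X_natDegree_eq Ω hQ1, Finset.card_insert_of_notMem (fun h => hc (by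
        obtain ⟨w, -, hw⟩ := Finset.mem_image.1 h; exact ⟨w, hw⟩)),
        Finset.card_image_of_injective _ (f := (i : k' → Ω)) i.toRingHom.injective, Finset.card_univ, ← Nat.card_eq_fintype_card, hk'] at h1
      omega
    let e := RingEquiv.ofBijective i.toRingHom.rangeRestrict
      ⟨fun a b h => i.toRingHom.injective (congrArg Subtype.val h), i.toRingHom.rangeRestrict_surjective⟩
    let ψ : Γ(A.left, U) →+* k' := e.symm.toRingHom.comp (φ.hom.codRestrict i.toRingHom.range hmem)
    have hψ : CommRingCat.ofHom ψ ≫ CommRingCat.ofHom i.toRingHom = φ := by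
      refine CommRingCat.hom_ext (RingHom.ext fun c => ?_)
      show i (e.symm ⟨φ.hom c, hmem c⟩) = φ.hom c
      exact congrArg Subtype.val (e.apply_symm_apply ⟨φ.hom c, hmem c⟩)
    have hfac : Spec.map (CommRingCat.ofHom i.toRingHom) ≫ Spec.map (CommRingCat.ofHom ψ) ≫ hU.fromSpec = y.left := by
      rw [← Category.assoc, ← Spec.map_comp, hψ, hyφ]
    refine ⟨Over.homMk (Spec.map (CommRingCat.ofHom ψ) ≫ hU.fromSpec) ?_, Subtype.ext (Over.OverMorphism.ext hfac)⟩
    haveI : Mono (CommRingCat.ofHom i.toRingHom) := ConcreteCategory.mono_of_injective _ i.toRingHom.injective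
    show (Spec.map (CommRingCat.ofHom ψ) ≫ hU.fromSpec) ≫ A.hom = Spec.map (CommRingCat.ofHom (algebraMap k k'))
    obtain ⟨τ, hτ⟩ := Spec.map_surjective ((Spec.map (CommRingCat.ofHom ψ) ≫ hU.fromSpec) ≫ A.hom)
    rw [← hτ]
    congr 1
    rw [← cancel_mono (CommRingCat.ofHom i.toRingHom), ← Spec.map_inj, Spec.map_comp, hτ, ← Category.assoc, hfac]
    refine (Over.w y).trans ?_
    rw [← CommRingCat.ofHom_comp]
    exact congrArg (fun g => Spec.map (CommRingCat.ofHom g)) i.comp_algebraMap.symm

include hπapp in
/-- The point count through the roots of the characteristic polynomial. -/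
theorem card_eq_prod [Finite k] (hπb : πA.left.base = 𝟙 _) (hqk : q = Nat.card k) {g : ℕ}
    (hg : topologicalKrullDim A.left = g) {P : Polynomial ℤ} (hPm : P.Monic) (hPd : P.natDegree = 2 * g)
    (hPv : ∀ n : ℤ, (AVNu.nu (EndAV.End.toHom (EndAV.End.of πA - (n : EndAV.End A))) : ℤ) = P.eval n)
    (k' : Type u) [Field k'] [Algebra k k'] [Finite k'] :
    (Nat.card (Over.mk (Spec.map (CommRingCat.ofHom (algebraMap k k'))) ⟶ A) : ℂ) =
      ((P.map (Int.castRingHom ℂ)).roots.map fun α => α ^ Module.finrank k k' - 1).prod := by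
  haveI := Fintype.ofFinite k
  obtain ⟨p', hp'⟩ := CharP.exists k
  haveI := hp'
  obtain ⟨n, hpp, hn⟩ := FiniteField.card k p'
  haveI : Fact p'.Prime := ⟨hpp⟩
  have hq' : q = p' ^ (n : ℕ) := by rw [hqk, Nat.card_eq_fintype_card, hn]
  haveI : Module.Finite k k' := Module.Finite.of_finite
  let d := Module.finrank k k'
  have hd : 0 < d := Module.finrank_pos
  let Ω := AlgebraicClosure k
  have hroot : ∀ α ∈ (P.map (Int.castRingHom ℂ)).roots, α ^ d - 1 ≠ 0 := fun α hα h0 => by
    have h1 := AVWeil.norm_root Ω A hg πA q hπb hπle hπapp hPm hPd hPv hα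
    have h2 := congrArg norm (sub_eq_zero.1 h0)
    rw [norm_pow, norm_one, h1] at h2
    refine (one_lt_pow₀ ?_ hd.ne').ne' h2
    rw [Real.lt_sqrt zero_le_one, one_pow, hq']
    exact_mod_cast Nat.one_lt_pow n.ne_zero hpp.one_lt
  have hnu := AVEnd0.nu_aeval hg (EndAV.End.of πA) hPm hPd hPv (Polynomial.X ^ d - 1)
  simp only [map_sub, map_pow, Polynomial.aeval_X, map_one] at hnu
  change (AVNu.nu (fix πA d) : ℂ) = _ at hnu
  haveI : IsFinite (fix πA d).left := by
    by_contra hnf
    rw [AVNu.nu_eq_zero hg hg _ hnf, Nat.cast_zero] at hnu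
    obtain ⟨α, hα, h0⟩ := Multiset.mem_map.1 (Multiset.prod_eq_zero_iff.1 hnu.symm)
    exact hroot α hα h0
  have hk' : Nat.card k' = p' ^ ((n : ℕ) * d) := by
    rw [Module.natCard_eq_pow_finrank (K := k) (V := k'), Nat.card_eq_fintype_card, hn, ← pow_mul]
  rw [card_points πA q hπle hπapp p' n hq' n.pos d hd Ω k' hk',
    card_kerPts πA q hπle hπapp p' n hq' n.pos d hd Ω hg, hnu]

end Groth.Agent.AVWeilCount
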