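import Groth.Agent.Lib.AVPair
import Groth.Agent.H23.MaxAbelian

/-!
The Pic⁰ part of the relative Picard functor over a field and its dual data.
-/

set_option linter.style.haveILetI false
set_option linter.unusedSectionVars false
set_option backward.isDefEq.respectTransparency false
set_option backward.isDefEq.respectTransparency.types false
set_option maxHeartbeats 400000

universe u

open CategoryTheory CategoryTheory.Limits MonoidalCategory CartesianMonoidalCategory MonObj AlgebraicGeometry TopologicalSpace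

namespace Groth.Agent.AVDual

open Groth.Agent.H23 Groth.Agent.H23.TrivBasic Groth.Agent.AVPair
open scoped Groth.Agent.H23.PicMul

/-- Algebraic equivalence to zero only depends on the isomorphism class. -/
theorem algEquivZero_of_iso {Ω : Type u} [Field Ω] {X : Scheme.{u}} [X.Over (Spec (CommRingCat.of Ω))]
    {L L' : X.Modules} (e : L ≅ L') (h : Pic13.IsAlgEquivZero Ω X L) : Pic13.IsAlgEquivZero Ω X L' := by
  obtain ⟨T, q, h1, h2, h3, M, hM, t, t₀, ht, ht₀, ⟨a⟩, hb⟩ := h
  exact ⟨T, q, h1, h2, h3, M, hM, t, t₀, ht, ht₀, ⟨a ≪≫ e⟩, hb⟩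

/-- The structure module is algebraically equivalent to zero. -/
theorem algEquivZero_structure {Ω : Type u} [Field Ω] (X : Scheme.{u}) [X.Over (Spec (CommRingCat.of Ω))] :
    Pic13.IsAlgEquivZero Ω X (Coh.structureModule X) :=
  ⟨Spec (CommRingCat.of Ω), 𝟙 _, inferInstanceAs (ConnectedSpace (PrimeSpectrum Ω)), inferInstance, inferInstance,
    Coh.structureModule _, PicLoc.isInvertible_structureModule _, 𝟙 _, 𝟙 _, Category.comp_id _, Category.comp_id _,
    PicClLib.nonempty_pullback_structureModule _, PicClLib.nonempty_pullback_structureModule _⟩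

/-- Algebraic equivalence to zero is stable under pullback. -/
theorem algEquivZero_pullback {Ω : Type u} [Field Ω] {X X' : Scheme.{u}} (p : X ⟶ Spec (CommRingCat.of Ω))
    (p' : X' ⟶ Spec (CommRingCat.of Ω)) (f : X' ⟶ X) (hf : f ≫ p = p') {L : X.Modules}
    (h : @Pic13.IsAlgEquivZero Ω _ X ⟨p⟩ L) :
    @Pic13.IsAlgEquivZero Ω _ X' ⟨p'⟩ ((Scheme.Modules.pullback f).obj L) := by
  obtain ⟨T, q, h1, h2, h3, M, hM, t, t₀, ht, ht₀, ⟨a⟩, ⟨b⟩⟩ := h
  let g : pullback p' q ⟶ pullback p q := pullback.map p' q p q f (𝟙 T) (𝟙 _) (by simp [hf]) (by simp)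
  have hs : ∀ (s : Spec (CommRingCat.of Ω) ⟶ T) (hs : s ≫ q = 𝟙 _),
      @Pic13.sliceAt Ω _ X' ⟨p'⟩ T q s hs ≫ g = f ≫ @Pic13.sliceAt Ω _ X ⟨p⟩ T q s hs := by
    intro s hs
    refine pullback.hom_ext ?_ ?_
    · rw [Category.assoc, Category.assoc, pullback.lift_fst]
      erw [pullback.lift_fst_assoc, pullback.lift_fst]
      rw [Category.id_comp, Category.comp_id]
    · rw [Category.assoc, Category.assoc, pullback.lift_snd, Category.comp_id]
      erw [pullback.lift_snd, pullback.lift_snd]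
      show p' ≫ s = f ≫ p ≫ s
      rw [← hf, Category.assoc]
  have iso : ∀ (s : Spec (CommRingCat.of Ω) ⟶ T) (hs' : s ≫ q = 𝟙 _),
      Nonempty (@Pic13.fibreMod Ω _ X' ⟨p'⟩ T q s hs' ((Scheme.Modules.pullback g).obj M) ≅
        (Scheme.Modules.pullback f).obj (@Pic13.fibreMod Ω _ X ⟨p⟩ T q s hs' M)) := fun s hs' =>
    ⟨(Scheme.Modules.pullbackComp _ g).app M ≪≫
      eqToIso (congrArg (fun m => (Scheme.Modules.pullback m).obj M) (hs s hs')) ≪≫
      ((Scheme.Modules.pullbackComp f _).app M).symm⟩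
  exact ⟨T, q, h1, h2, h3, (Scheme.Modules.pullback g).obj M, PicClLib.isInvertible_pullback g hM, t, t₀, ht, ht₀,
    ⟨(iso t ht).some ≪≫ (Scheme.Modules.pullback f).mapIso a⟩,
    ⟨(iso t₀ ht₀).some ≪≫ (Scheme.Modules.pullback f).mapIso b ≪≫
      (PicClLib.nonempty_pullback_structureModule f).some⟩⟩

variable {k : Type u} [Field k] {X : Over (Spec (CommRingCat.of k))}

theorem xtMap_eq {T T' : Over (Spec (CommRingCat.of k))} (g : T' ⟶ T) : PicF.XTmap X.hom g = (X ◁ g).left := rfl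

theorem xtProj_eq (T : Over (Spec (CommRingCat.of k))) : PicF.XTproj X.hom T = (snd X T).left := rfl

theorem bcMap_eq {Y : Over (Spec (CommRingCat.of k))} (f : Y ⟶ X) (T : Over (Spec (CommRingCat.of k))) :
    AbDual.bcMap f T = (f ▷ T).left := rfl

theorem secT_eq [GrpObj X] (T : Over (Spec (CommRingCat.of k))) :
    PicF.secT X.hom η[X].left (Over.w η[X]) T = (lift (1 : T ⟶ X) (𝟙 T)).left := by
  refine pullback.hom_ext ?_ ?_
  · show _ = (lift (1 : T ⟶ X) (𝟙 T)).left ≫ (fst X T).left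
    rw [← Over.comp_left, lift_fst, Hom.one_def]
    exact pullback.lift_fst _ _ _
  · show _ = (lift (1 : T ⟶ X) (𝟙 T)).left ≫ (snd X T).left
    rw [← Over.comp_left, lift_snd]
    exact pullback.lift_snd _ _ _

theorem swap_eq (Y : Over (Spec (CommRingCat.of k))) :
    (pullbackSymmetry Y.hom X.hom).hom = (lift (snd Y X) (fst Y X)).left := by
  refine pullback.hom_ext ?_ ?_
  · show _ = (lift (snd Y X) (fst Y X)).left ≫ (fst X Y).left
    rw [← Over.comp_left, lift_fst]
    exact pullbackSymmetry_hom_comp_fst _ _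
  · show _ = (lift (snd Y X) (fst Y X)).left ≫ (snd X Y).left
    rw [← Over.comp_left, lift_snd]
    exact pullbackSymmetry_hom_comp_snd _ _

/-- Membership in Pic⁰ for the class of a product. -/
def PZ (X T : Over (Spec (CommRingCat.of k))) (c : PicF.Cl (X ⊗ T).left) : Prop :=
  AbDual.IsPicZeroCl X.hom T c

theorem pz_invertible {T : Over (Spec (CommRingCat.of k))} {c : PicF.Cl (X ⊗ T).left} (h : PZ X T c) :
    PicF.IsInvertibleCl c :=
  let ⟨L, hL, hLi, _⟩ := h; ⟨L, hL, hLi⟩

theorem pz_one (X T : Over (Spec (CommRingCat.of k))) : PZ X T 1 := by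
  refine ⟨_, rfl, PicLoc.isInvertible_structureModule _, fun t Ω _ _ σ _ => ?_⟩
  letI : (pullback (PicF.XTproj X.hom T) σ).Over (Spec (CommRingCat.of Ω)) := ⟨pullback.snd _ σ⟩
  exact algEquivZero_of_iso (PicClLib.nonempty_pullback_structureModule _).some.symm (algEquivZero_structure _)

theorem pz_pl {T T' : Over (Spec (CommRingCat.of k))} (g : T' ⟶ T) {c : PicF.Cl (X ⊗ T).left} (h : PZ X T c) :
    PZ X T' (pl (X ◁ g) c) := by
  obtain ⟨L, rfl, hL, hLt⟩ := h
  refine ⟨_, rfl, PicClLib.isInvertible_pullback _ hL, fun t Ω _ _ σ hσ => ?_⟩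
  have hr : Set.range (σ ≫ g.left) = {g.left t} := by
    rw [Scheme.Hom.comp_base, TopCat.coe_comp, Set.range_comp, hσ, Set.image_singleton]
  have h0 := hLt (g.left t) Ω (σ ≫ g.left) hr
  let e : pullback (PicF.XTproj X.hom T') σ ⟶ pullback (PicF.XTproj X.hom T) (σ ≫ g.left) :=
    pullback.lift (pullback.fst _ σ ≫ (X ◁ g).left) (pullback.snd _ σ) (by
      rw [Category.assoc]
      show pullback.fst (snd X T').left σ ≫ (X ◁ g).left ≫ (snd X T).left = pullback.snd _ σ ≫ σ ≫ g.left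
      rw [← Over.comp_left, whiskerLeft_snd, Over.comp_left, ← Category.assoc]
      rw [← Category.assoc]
      exact congrArg (· ≫ g.left) pullback.condition)
  have h1 := algEquivZero_pullback _ _ e (pullback.lift_snd _ _ _) h0
  refine @algEquivZero_of_iso Ω _ _ ⟨pullback.snd _ σ⟩ _ _ ?_ h1
  exact (Scheme.Modules.pullbackComp _ _).app L ≪≫
    eqToIso (congrArg (fun m => (Scheme.Modules.pullback m).obj L) (pullback.lift_fst _ _ _)) ≪≫
    ((Scheme.Modules.pullbackComp _ _).app L).symm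

/-- Twists by classes from the base do not affect membership in Pic⁰. -/
theorem pz_twist {T : Over (Spec (CommRingCat.of k))} {c : PicF.Cl (X ⊗ T).left} {n : PicF.Cl T.left}
    (hn : PicF.IsInvertibleCl n) (h : PZ X T c) : PZ X T (c * pl (snd X T) n) := by
  obtain ⟨L, rfl, hL, hLt⟩ := h
  obtain ⟨N, rfl, hN⟩ := hn
  refine ⟨CohB1.tensorMod L ((Scheme.Modules.pullback (snd X T).left).obj N), rfl,
    PicMul.isInvertible_tensor hL (PicClLib.isInvertible_pullback _ hN), fun t Ω _ _ σ hσ => ?_⟩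
  refine @algEquivZero_of_iso Ω _ _ ⟨pullback.snd _ σ⟩ _ _ ?_ (hLt t Ω σ hσ)
  refine ((PicGrp.cl_eq_cl_iff _ _).1 ?_).some
  let q := pullback.fst (PicF.XTproj X.hom T) σ
  show PicF.pullCl q (PicF.cl L : PicF.Cl (X ⊗ T).left) =
    PicF.pullCl q ((PicF.cl L : PicF.Cl (X ⊗ T).left) * PicF.pullCl (snd X T).left (PicF.cl N))
  haveI : Subsingleton (Spec (CommRingCat.of Ω)) := inferInstanceAs (Subsingleton (PrimeSpectrum Ω))
  haveI : Nonempty (Spec (CommRingCat.of Ω)) := inferInstanceAs (Nonempty (PrimeSpectrum Ω))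
  have hpt : PicF.pullCl σ (PicF.cl N) = 1 := KLBasic.trivial_of_subsingleton (PicClLib.isInvertible_pullback σ hN)
  rw [PicMul.pullCl_mul, PicClLib.pullCl_comp, show q ≫ (snd X T).left = pullback.snd _ σ ≫ σ from pullback.condition,
    ← PicClLib.pullCl_comp, hpt, PicMul.pullCl_one, _root_.mul_one]

section Dual

variable {Xt : Over (Spec (CommRingCat.of k))} [GrpObj Xt]
  {φ : ∀ T : Over (Spec (CommRingCat.of k)), PicF.Cl (PicF.XT X.hom T) → (T ⟶ Xt)}
  (hφ : AbDual.IsDualAV Scheme.fppfPrecoverage X Xt φ)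
include hφ

theorem phi_pl {T T' : Over (Spec (CommRingCat.of k))} (g : T' ⟶ T) {c : PicF.Cl (X ⊗ T).left} (h : PZ X T c) :
    φ T' (pl (X ◁ g) c) = g ≫ φ T c :=
  hφ.relPic.natural T T' g c h

theorem phi_one (T : Over (Spec (CommRingCat.of k))) : φ T (1 : PicF.Cl (X ⊗ T).left) = 1 := by
  have := hφ.mul T _ _ (pz_one X T) (pz_one X T)
  rw [show PicF.cl (CohB1.tensorMod (Coh.structureModule (X ⊗ T).left) (Coh.structureModule (X ⊗ T).left)) =
    (1 : PicF.Cl (X ⊗ T).left) from _root_.one_mul (1 : PicF.Cl (X ⊗ T).left)] at this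
  exact mul_eq_left.mp this.symm

theorem phi_mul {T : Over (Spec (CommRingCat.of k))} {c d : PicF.Cl (X ⊗ T).left} (hc : PZ X T c) (hd : PZ X T d) :
    φ T (c * d) = φ T c * φ T d := by
  obtain ⟨L, rfl, -, -⟩ := id hc
  obtain ⟨M, rfl, -, -⟩ := id hd
  exact hφ.mul T L M hc hd

/-- The map to the dual ignores classes from the base. -/
theorem phi_twist {T : Over (Spec (CommRingCat.of k))} {c : PicF.Cl (X ⊗ T).left} {n : PicF.Cl T.left}
    (hn : PicF.IsInvertibleCl n) (h : PZ X T c) : φ T (c * pl (snd X T) n) = φ T c := by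
  obtain ⟨N, rfl, hN⟩ := id hn
  choose U hU e using hN
  apply Over.OverMorphism.ext
  refine (T.left.openCoverOfIsOpenCover U ?_).hom_ext _ _ fun t => ?_
  · rw [IsOpenCover, eq_top_iff]
    exact fun x _ => Opens.mem_iSup.2 ⟨x, hU x⟩
  let g := AbDual.ovrHom T (U t).ι
  show g.left ≫ (φ T _).left = g.left ≫ (φ T _).left
  rw [← Over.comp_left, ← Over.comp_left, ← phi_pl hφ g h, ← phi_pl hφ g (pz_twist hn h), map_mul, pl_pl,
    whiskerLeft_snd, ← pl_pl]
  have : pl g (PicF.cl N) = 1 :=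
    (PicGrp.cl_eq_cl_iff _ _).2 ⟨((Scheme.Modules.restrictFunctorIsoPullback (U t).ι).app N).symm ≪≫ (e t).some⟩
  rw [this, map_one, _root_.mul_one]

variable [IsProper X.hom] [GeometricallyIntegral X.hom]

/-- Rigidified Pic⁰ classes over a reduced base are determined by their points. -/
theorem eq_of_phi {T : Over (Spec (CommRingCat.of k))} [LocallyOfFiniteType T.hom] [IsReduced T.left]
    {c c' : PicF.Cl (X ⊗ T).left} (h : PZ X T c) (h' : PZ X T c') (e : φ T c = φ T c') (σ : T ⟶ X)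
    (hσ : pl (lift σ (𝟙 T)) c = pl (lift σ (𝟙 T)) c') : c = c' := by
  obtain ⟨R, hR, hloc⟩ := hφ.relPic.locallyInjective T c c' h h' e
  obtain ⟨d, hd, hcd⟩ := exists_inv (pz_invertible h')
  refine eq_of_mul_inv hcd (eq_one_of_locally X (PicMul.isInvertibleCl_mul (pz_invertible h) hd) σ ?_ hR ?_)
  · rw [map_mul, hσ, ← map_mul, hcd, map_one]
  · intro U v hv
    rw [map_mul, show pl (X ◁ AbDual.ovrHom T v) c = pl (X ◁ AbDual.ovrHom T v) c' from hloc v hv, ← map_mul, hcd,
      map_one]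

variable [GrpObj X]

/-- A class with trivial point on the slice at the unit of the dual is trivial there. -/
theorem axis_eq_one [LocallyOfFiniteType Xt.hom] {Y : Over (Spec (CommRingCat.of k))} [GrpObj Y]
    {c : PicF.Cl (X ⊗ Y).left} (hc : PZ X Y c) (h : η[Y] ≫ φ Y c = 1) :
    pl (lift (𝟙 X) (1 : X ⟶ Y)) c = 1 := by
  haveI : IsReduced (𝟙_ (Over (Spec (CommRingCat.of k)))).left :=
    inferInstanceAs (IsReduced (Spec (CommRingCat.of k)))
  haveI : LocallyOfFiniteType (𝟙_ (Over (Spec (CommRingCat.of k)))).hom :=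
    inferInstanceAs (LocallyOfFiniteType (𝟙 _))
  haveI : Subsingleton ↥(𝟙_ (Over (Spec (CommRingCat.of k)))).left :=
    inferInstanceAs (Subsingleton (PrimeSpectrum k))
  haveI : Nonempty ↥(𝟙_ (Over (Spec (CommRingCat.of k)))).left := inferInstanceAs (Nonempty (PrimeSpectrum k))
  have hpt : ∀ {d : PicF.Cl (𝟙_ (Over (Spec (CommRingCat.of k)))).left}, PicF.IsInvertibleCl d → d = 1 := by
    rintro d ⟨D, rfl, hD⟩
    exact KLBasic.trivial_of_subsingleton hD
  have h1 : pl (X ◁ η[Y]) c = 1 :=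
    eq_of_phi hφ (pz_pl η[Y] hc) (pz_one X _) (by rw [phi_pl hφ η[Y] hc, h, phi_one hφ]) 1
      (by rw [map_one]; exact hpt (isInv_pl _ (isInv_pl _ (pz_invertible hc))))
  rw [show lift (𝟙 X) (1 : X ⟶ Y) = lift (𝟙 X) (toUnit X) ≫ (X ◁ η[Y]) by
    rw [lift_whiskerLeft, Hom.one_def], ← pl_pl, h1, map_one]

/-- A Poincaré class is trivial on both axes. -/
theorem poincare_axes [LocallyOfFiniteType Xt.hom] {ξ : PicF.Cl (X ⊗ Xt).left}
    (hξ : AbDual.IsPoincareCl X Xt φ ξ) :
    pl (lift (1 : Xt ⟶ X) (𝟙 Xt)) ξ = 1 ∧ pl (lift (𝟙 X) (1 : X ⟶ Xt)) ξ = 1 := by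
  refine ⟨?_, axis_eq_one hφ hξ.1 ?_⟩
  · have := hξ.2.2
    rw [secT_eq] at this
    exact this
  · rw [hξ.2.1, Category.comp_id, Hom.one_def, show toUnit (𝟙_ (Over (Spec (CommRingCat.of k)))) = 𝟙 _ from toUnit_unique _ _,
      Category.id_comp]

end Dual

/-- A smooth proper connected group over a field is geometrically integral. -/
theorem geometricallyIntegral_of_smooth (A : Over (Spec (CommRingCat.of k))) [GrpObj A] [IsProper A.hom]
    [Smooth A.hom] [GeometricallyConnected A.hom] : GeometricallyIntegral A.hom := by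
  haveI : GeometricallyReduced A.hom := RigidGamma.geometricallyReduced_of_smooth A.hom
  haveI : ConnectedSpace A.left :=
    haveI : ConnectedSpace ↥(pullback A.hom (𝟙 (Spec (CommRingCat.of k)))) :=
      GeometricallyConnected.geometrically_connectedSpace (f := A.hom) _ _ _ (.of_hasPullback _ _)
    (Scheme.Hom.homeomorph (pullback.fst A.hom (𝟙 _))).surjective.connectedSpace
      (Scheme.Hom.homeomorph (pullback.fst A.hom (𝟙 _))).continuous
  exact MaxAbelian.geometricallyIntegral_of_connected A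

end Groth.Agent.AVDual
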