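import Groth.Agent.Lib.AVBidual

/-!
The homomorphism attached to the pullback of the Poincaré class along the graph of a polarization.
-/

set_option linter.style.haveILetI false
set_option linter.unusedSectionVars false
set_option backward.isDefEq.respectTransparency false
set_option backward.isDefEq.respectTransparency.types false
set_option maxHeartbeats 1000000
set_option synthInstance.maxHeartbeats 400000

universe u

open CategoryTheory CategoryTheory.Limits MonoidalCategory CartesianMonoidalCategory MonObj AlgebraicGeometry TopologicalSpace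

noncomputable section

namespace Groth.Agent.AVGraphPair

open Groth.Agent.H23 Groth.Agent.AVPair Groth.Agent.AVLambda
open scoped CategoryTheory.Obj
attribute [local instance] PicMul.clMonoid

section Field

variable {k : Type u} [Field k] {A At : Over (Spec (CommRingCat.of k))}
  [GrpObj A] [IsCommMonObj A] [IsProper A.hom] [GeometricallyIntegral A.hom] [GrpObj At] [IsCommMonObj At]
  {φ : AgPol.DualMap A At} (hφ : AbDual.IsDualAV Scheme.fppfPrecoverage A At φ)
include hφ

theorem whisker_eq_base_pow {ξ : PicF.Cl (A ⊗ At).left} (hξ : AbDual.IsPoincareCl A At φ ξ)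
    {M : A.left.Modules} (hM : PicF.IsInvertible M) (n : ℕ) :
    pl (A ◁ (lam φ hM ^ n)) ξ = base hM ^ n := by
  haveI : IsIntegral A.left := GeometricallyIntegral.isIntegral_of_subsingleton A.hom
  refine AVDual.eq_of_phi hφ (AVDual.pz_pl _ hξ.1) (pz_base_pow hM n) ?_ 1 ?_
  · rw [AVDual.phi_pl hφ _ hξ.1, hξ.2.1, Category.comp_id, phi_base_pow hM hφ]
  · have h1 : pl (lift (1 : At ⟶ A) (𝟙 At)) ξ = 1 := by
      have := hξ.2.2
      rw [AVDual.secT_eq] at this
      exact this
    have h2 := congrArg (pl (lam φ hM ^ n)) h1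
    rw [pl_pl, map_one, comp_lift, MonObj.comp_one, Category.comp_id] at h2
    rw [map_pow, base_axis, one_pow, pl_pl, lift_whiskerLeft, Category.id_comp, h2]

/-- The homomorphism of the pullback of the Poincaré class along the graph of `n` times `λ_M` is `2 n λ_M`. -/
theorem lam_graph {ξ : PicF.Cl (A ⊗ At).left} (hξ : AbDual.IsPoincareCl A At φ ξ)
    {M : A.left.Modules} (hM : PicF.IsInvertible M) (n : ℕ) {L : A.left.Modules} (hL : PicF.IsInvertible L)
    (h : PicF.cl L = pl (lift (𝟙 A) (lam φ hM ^ n)) ξ) :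
    lam φ hL = lam φ hM ^ (2 * n) := by
  have hc : PicF.cl L = val (AVDegPoly.polar hM (𝟙 A) (𝟙 A) ^ n) := by
    rw [h, show lift (𝟙 A) (lam φ hM ^ n) = lift (𝟙 A) (𝟙 A) ≫ (A ◁ (lam φ hM ^ n)) by
        rw [lift_whiskerLeft, Category.id_comp], ← pl_pl, whisker_eq_base_pow hφ hξ hM, map_pow, val_polar,
      lift_fst, lift_snd, val_pow]
  have hq : ∀ {T : Over (Spec (CommRingCat.of k))} (f : T ⟶ A),
      AVDegPoly.q hL f = AVDegPoly.polar hM f f ^ n := fun f => val_injective (by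
    show pl f (PicF.cl L) = _
    rw [hc, val_pow, map_pow, val_polar, Category.comp_id, val_pow])
  have hp : AVDegPoly.polar hL (fst A A) (snd A A) = AVDegPoly.polar hM (fst A A) (snd A A) ^ (2 * n) := by
    rw [AVDegPoly.polar, hq, hq, hq, AVDegPoly.polar_mul_left, AVDegPoly.polar_mul_right,
      AVDegPoly.polar_mul_right, AVDegPoly.polar_comm hM (snd A A) (fst A A), div_eq_iff_eq_mul]
    simp only [mul_pow, two_mul, pow_add]
    apply Additive.ofMul.injective
    simp only [ofMul_mul, ofMul_pow]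
    abel
  show φ A (base hL) = _
  rw [base, hp, val_pow]
  exact phi_base_pow hM hφ (2 * n)

omit hφ in
/-- Homomorphisms out of an abelian variety are determined by any positive power. -/
theorem eq_of_pow_eq {B : Over (Spec (CommRingCat.of k))} [GrpObj B] [IsCommMonObj B] (f g : A ⟶ B)
    [IsMonHom f] [IsMonHom g] {m : ℕ} (hm : 0 < m) (h : f ^ m = g ^ m) : f = g := by
  obtain ⟨-, hfl, hs⟩ := AVDegLib.zpow_props (A := A) (m : ℤ) (by exact_mod_cast hm.ne')
  rw [zpow_natCast] at hfl hs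
  haveI := hfl; haveI := hs
  haveI : QuasiCompact (𝟙 A ^ m : A ⟶ A).left := by
    haveI : IsProper ((𝟙 A ^ m : A ⟶ A).left ≫ A.hom) := by rw [Over.w]; infer_instance
    haveI := IsProper.of_comp (𝟙 A ^ m : A ⟶ A).left A.hom
    infer_instance
  have e : ∀ (f : A ⟶ B) [IsMonHom f], (𝟙 A ^ m) ≫ f = f ^ m := fun f _ => by
    let q : (A ⟶ A) →* (A ⟶ B) := MonoidHom.mk' (fun x => x ≫ f) fun x y => MonObj.mul_comp x y f
    show q (𝟙 A ^ m) = f ^ m
    rw [map_pow]
    exact congrArg (· ^ m) (Category.id_comp f)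
  apply Over.OverMorphism.ext
  haveI : Epi (𝟙 A ^ m : A ⟶ A).left := Flat.epi_of_flat_of_surjective _
  rw [← cancel_epi (𝟙 A ^ m : A ⟶ A).left, ← Over.comp_left, ← Over.comp_left, e f, e g, h]

end Field

section Base

variable {S : Scheme.{u}} {A At : Over S} [GrpObj A] [GrpObj At] {φ : AgPol.DualMap A At}
  {Ω : Type u} [Field Ω] [IsAlgClosed Ω] (σ : Spec (CommRingCat.of Ω) ⟶ S)

/-- Pullback to the base change, for classes on the object itself. -/
abbrev bc1 (A : Over S) (c : PicF.Cl A.left) : PicF.Cl (Red.bc σ A).left := PicF.pullCl (pullback.fst A.hom σ) c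

/-- The map from the square of the fibre. -/
def d : AVDualBC.dn σ (Red.bc σ A ⊗ Red.bc σ A) ⟶ A ⊗ A :=
  lift (AVDualBC.dnMap σ (fst _ _) ≫ AVBidual.pr σ A) (AVDualBC.dnMap σ (snd _ _) ≫ AVBidual.pr σ A)

theorem d_left : (d σ (A := A)).left =
    (AgPol.bcXTIso σ A (Red.bc σ A)).hom ≫ PicF.XTmap A.hom (AVBidual.pr σ A) := by
  refine pullback.hom_ext ?_ ?_
  · simp [d, AgPol.bcXTIso, PicF.XTmap, Over.pullback]
  · simp [d, AgPol.bcXTIso, PicF.XTmap, Over.pullback]

omit [GrpObj A] in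
theorem up_pr : AVDualBC.up (f := σ) (U := Red.bc σ A) (AVBidual.pr σ A) = 𝟙 _ := by
  refine Over.OverMorphism.ext (pullback.hom_ext ?_ ?_)
  · rw [AVDualBC.up_fst]
    exact (Category.id_comp _).symm
  · exact (Over.w (AVDualBC.up (f := σ) _)).trans (Over.w (𝟙 (Red.bc σ A))).symm

theorem up_fst_snd :
    AVDualBC.up (f := σ) (d σ (A := A) ≫ fst A A) = fst _ _ ∧
      AVDualBC.up (f := σ) (d σ (A := A) ≫ snd A A) = snd _ _ := by
  constructor
  · rw [d, lift_fst, AVDualBC.up_pre, up_pr]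
    exact Category.comp_id _
  · rw [d, lift_snd, AVDualBC.up_pre, up_pr]
    exact Category.comp_id _

theorem bcCl_pull (g : A ⊗ A ⟶ A) (c : PicF.Cl A.left) :
    AVBidual.bcCl σ (PicF.pullCl g.left c) =
      PicF.pullCl (AVDualBC.up (f := σ) (d σ (A := A) ≫ g)).left (bc1 σ A c) := by
  simp only [AVBidual.bcCl, bc1, PicClLib.pullCl_comp]
  rw [AVDualBC.up_fst, Over.comp_left, d_left, Category.assoc]

theorem bcCl_mul {B : Over S} (c c' : PicF.Cl (PicF.XT A.hom B)) :
    AVBidual.bcCl σ (c * c') = AVBidual.bcCl σ c * AVBidual.bcCl σ c' := by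
  show (PicMul.pullHom _) ((PicMul.pullHom _) (c * c')) = _
  rw [map_mul, map_mul]
  rfl

variable [IsCommMonObj A] [IsCommMonObj At] [IsProper A.hom] [Smooth A.hom] [GeometricallyConnected A.hom]
  (hφ : AbDual.IsDualAV Scheme.fppfPrecoverage A At φ) {ξ : PicF.Cl (PicF.XT A.hom At)}
  (hξ : AbDual.IsPoincareCl A At φ ξ)
include hφ hξ

theorem map_pow_graph (lm : A ⟶ At) (n : ℕ) :
    bc1 σ A (PicF.pullCl (lift (𝟙 A) (lm ^ n)).left ξ) =
      PicF.pullCl (lift (𝟙 (Red.bc σ A)) ((Over.pullback σ).map lm ^ n)).left (AVBidual.bcCl σ ξ) := by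
  rw [← AVDualIsog.map_pow']
  simp only [bc1, AVBidual.bcCl, PicClLib.pullCl_comp]
  refine congrArg (PicF.pullCl · ξ) (pullback.hom_ext ?_ ?_)
  · simp [AgPol.bcXTIso, PicF.XTmap, Over.pullback]
    exact (Category.id_comp _).symm
  · simp [AgPol.bcXTIso, PicF.XTmap, Over.pullback]

/-- On a geometric fibre, the pullback along the graph of a multiple of a polarization gives twice that multiple. -/
theorem fibre_eq {lm : A ⟶ At} (hpol : ∀ (Ω : Type u) [Field Ω] [IsAlgClosed Ω] (t : Spec (CommRingCat.of Ω) ⟶ S),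
      ∃ L : (Red.bc t A).left.Modules, CohB1.IsAmple L ∧
        AgPol.IsLambda (Red.bc t A) (Red.bc t At) (AgPol.bcDual t A At φ) L ((Over.pullback t).map lm))
    {n : ℕ} {L : (Red.bc σ A).left.Modules} (hL : PicF.IsInvertible L)
    (h : PicF.cl L = bc1 σ A (PicF.pullCl (lift (𝟙 A) (lm ^ n)).left ξ)) :
    lam (AgPol.bcDual σ A At φ) hL = (Over.pullback σ).map lm ^ (2 * n) := by
  haveI := AbDualBase.geometricallyIntegral_fibre σ A
  haveI : IsProper (Red.bc σ A).hom := inferInstanceAs (IsProper (pullback.snd A.hom σ))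
  obtain ⟨M, hM, hl⟩ := hpol Ω σ
  have e := eq_lam_of_isLambda hM.1 hl
  rw [e]
  refine lam_graph (AVDualBC.isDualAV (f := σ) hφ) (AVBidual.isPoincareCl_bcCl σ hφ hξ) hM.1 n hL ?_
  rw [h, map_pow_graph σ hφ hξ, e]
  rfl

omit hξ in
/-- The homomorphism of the Mumford class on a geometric fibre. -/
theorem map_phi (L : A.left.Modules) {c : PicF.Cl (A ⊗ A).left} (hc : AbDual.IsPicZeroCl A.hom A c)
    (h : c * PicF.pullCl (fst A A).left (PicF.cl L) * PicF.pullCl (snd A A).left (PicF.cl L) =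
      PicF.pullCl μ[A].left (PicF.cl L))
    (hL : PicF.IsInvertible ((Scheme.Modules.pullback (pullback.fst A.hom σ)).obj L)) :
    (Over.pullback σ).map (φ A c) = lam (AgPol.bcDual σ A At φ) hL := by
  haveI := AbDualBase.geometricallyIntegral_fibre σ A
  haveI : IsProper (Red.bc σ A).hom := inferInstanceAs (IsProper (pullback.snd A.hom σ))
  let U := Red.bc σ A
  refine eq_lam_of_isLambda hL ?_
  obtain ⟨N, hNc, hN⟩ := AbDualBase.pz_invertible (AVBidual.pz_bcCl σ hc)
  refine ⟨N, hN, (PicGrp.cl_eq_cl_iff _ _).1 ?_, ?_⟩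
  · have e := congrArg (AVBidual.bcCl σ) h
    obtain ⟨h1, h2⟩ := up_fst_snd σ (A := A)
    have h3 : AVDualBC.up (f := σ) (d σ (A := A) ≫ μ[A]) = μ[U] := by
      rw [show μ[A] = fst A A * snd A A by rw [Hom.mul_def, lift_fst_snd, Category.id_comp], MonObj.comp_mul,
        AVDualBC.up_mul, h1, h2, Hom.mul_def, lift_fst_snd, Category.id_comp]
    rw [bcCl_mul, bcCl_mul, bcCl_pull, bcCl_pull, bcCl_pull, h1, h2, h3] at e
    show (PicF.cl N : PicF.Cl (U ⊗ U).left) * pl (fst U U) (bc1 σ A (PicF.cl L)) * pl (snd U U) (bc1 σ A (PicF.cl L)) =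
      pl μ[U] (bc1 σ A (PicF.cl L))
    rw [hNc]
    exact e
  · rw [hNc, AVBidual.bcDual_bcCl σ hφ hc]

omit hφ hξ in
/-- The Mumford class of an invertible module lies in Pic⁰. -/
theorem exists_mumford {L : A.left.Modules} (hL : PicF.IsInvertible L) :
    ∃ c : PicF.Cl (A ⊗ A).left, AbDual.IsPicZeroCl A.hom A c ∧
      c * PicF.pullCl (fst A A).left (PicF.cl L) * PicF.pullCl (snd A A).left (PicF.cl L) =
        PicF.pullCl μ[A].left (PicF.cl L) ∧
      ∃ n : PicF.Cl S, PicF.IsInvertibleCl n ∧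
        PicF.pullCl (A ◁ η[A]).left c = PicF.pullCl (PicF.XTproj A.hom (𝟙_ (Over S))) n := by
  obtain ⟨D, hD, hLD⟩ := PicInv.exists_inverse hL
  have e1 : (PicF.cl L : PicF.Cl A.left) * PicF.cl D = 1 := (PicGrp.cl_eq_cl_iff _ _).2 hLD
  let P : (A ⊗ A ⟶ A) → (PicF.Cl A.left →* PicF.Cl (A ⊗ A).left) := fun g => PicMul.pullHom g.left
  let c := P μ[A] (PicF.cl L) * P (fst A A) (PicF.cl D) * P (snd A A) (PicF.cl D)
  let n := PicF.pullCl η[A].left (PicF.cl D)
  have hn : PicF.IsInvertibleCl n := PicClLib.isInvertibleCl_pullCl _ ⟨D, rfl, hD⟩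
  have hslice : ∀ {T : Over S} (g : T ⟶ A ⊗ A), g ≫ snd A A = 1 → g ≫ μ[A] = g ≫ fst A A →
      PicF.pullCl g.left c = PicF.pullCl T.hom n := by
    intro T g h2 hm
    show (PicMul.pullHom g.left) c = _
    have hP : ∀ (g' : A ⊗ A ⟶ A) x, (PicMul.pullHom g.left) (P g' x) = PicMul.pullHom (g ≫ g').left x :=
      fun g' x => PicClLib.pullCl_comp _ _ x
    simp only [c, map_mul, hP, hm, h2]
    rw [← map_mul (PicMul.pullHom (g ≫ fst A A).left), e1, map_one, _root_.one_mul, Hom.one_def, Over.comp_left]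
    show PicF.pullCl ((toUnit T).left ≫ η[A].left) (PicF.cl D) = _
    rw [← PicClLib.pullCl_comp]
    rfl
  refine ⟨c, ?_, ?_, n, hn, ?_⟩
  · refine AbDualBase.pz_of_slice η[A] (PicMul.isInvertibleCl_mul (PicMul.isInvertibleCl_mul
      (PicClLib.isInvertibleCl_pullCl _ ⟨L, rfl, hL⟩) (PicClLib.isInvertibleCl_pullCl _ ⟨D, rfl, hD⟩))
      (PicClLib.isInvertibleCl_pullCl _ ⟨D, rfl, hD⟩)) hn ?_
    refine hslice _ (lift_snd _ _) ?_
    rw [lift_fst, ← Hom.one_def, ← Hom.mul_def, _root_.mul_one]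
  · show c * P (fst A A) (PicF.cl L) * P (snd A A) (PicF.cl L) = _
    have e : ∀ g, P g (PicF.cl D) * P g (PicF.cl L) = 1 := fun g => by
      rw [← map_mul, mul_comm, e1, map_one]
    calc c * P (fst A A) (PicF.cl L) * P (snd A A) (PicF.cl L)
        = P μ[A] (PicF.cl L) * ((P (fst A A) (PicF.cl D) * P (fst A A) (PicF.cl L)) *
          (P (snd A A) (PicF.cl D) * P (snd A A) (PicF.cl L))) := by
          simp only [c, _root_.mul_assoc, mul_comm, mul_left_comm]
      _ = P μ[A] (PicF.cl L) := by rw [e, e, _root_.one_mul, _root_.mul_one]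
  · refine (hslice (A ◁ η[A]) ?_ ?_).trans ?_
    · rw [whiskerLeft_snd, Hom.one_def, toUnit_unique (toUnit (A ⊗ 𝟙_ (Over S))) (snd A _)]
    · rw [MonObj.mul_one, whiskerLeft_fst]
      rfl
    · refine congrArg (PicF.pullCl · n) ?_
      exact (Over.w (snd A (𝟙_ (Over S)))).symm.trans (Category.comp_id _)

omit [IsCommMonObj At] hφ hξ in
/-- Pointed maps out of an abelian scheme are determined on the geometric fibres. -/
theorem eq_of_fibres {f g : A ⟶ At} (h1 : η[A] ≫ f = η[A] ≫ g)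
    (h : ∀ (Ω : Type u) [Field Ω] [IsAlgClosed Ω] (t : Spec (CommRingCat.of Ω) ⟶ S),
      (Over.pullback t).map f = (Over.pullback t).map g) : f = g := by
  refine mul_inv_eq_one.1 (AbDualBase.eq_one_of_geometric (f * g⁻¹) ?_ fun Ω _ _ t x => ?_)
  · rw [MonObj.comp_mul, GrpObj.comp_inv, h1, mul_inv_cancel, Hom.one_def,
      toUnit_unique (toUnit (𝟙_ (Over S))) (𝟙 _), Category.id_comp]
  · rw [MonObj.comp_mul, GrpObj.comp_inv, mul_inv_eq_one]
    refine AVDualIsog.toFibre_injective t ?_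
    rw [AVDualIsog.toFibre_comp, AVDualIsog.toFibre_comp, h Ω t]

end Base

end Groth.Agent.AVGraphPair
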