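import Groth.Agent.Snapper.Main
import Groth.Agent.Lib.CurveTensor
import Groth.Agent.KFlatLib.Scheme.ProjAffineFlat
import Groth.Agent.KFlatLib.Scheme.ResolutionDescent
import Groth.Agent.H23.CoverPush
import Groth.Agent.H23.Frame
import Groth.Agent.PnCoh.PushNat
import Groth.Agent.SeesawX.Glue

/-!
Euler characteristics are multiplicative for a finite flat morphism whose pushed forward structure module
becomes free after pulling back.
-/

set_option autoImplicit false
set_option linter.style.haveILetI false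
set_option linter.unusedSectionVars false
set_option backward.isDefEq.respectTransparency false
set_option backward.isDefEq.respectTransparency.types false
set_option maxHeartbeats 3000000
set_option synthInstance.maxHeartbeats 200000

universe u

open CategoryTheory CategoryTheory.Limits AlgebraicGeometry TopologicalSpace Opposite

noncomputable section

namespace Groth.Agent.EulerFlatPull

open Groth.Agent Groth.Agent.Snapper

section Idem

variable (k : Type u) [Field k] {X : Scheme.{u}} [X.Over (Spec (CommRingCat.of k))]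
  [IsProper (X ↘ Spec (CommRingCat.of k))]

theorem isFinLocFree_freeMod (n : ℕ) : FlatMod.IsFinLocFree (FlatMod.freeMod X n) :=
  SeesawX.isFinLocFree_freeMod X n

/-- An additive functor with coherent values is additive in Euler characteristic on free modules. -/
theorem euler_map_freeMod (G : X.Modules ⥤ X.Modules) [G.Additive]
    (hG : ∀ A, FlatMod.IsFinLocFree A → Coh.IsCoh (G.obj A)) :
    ∀ n : ℕ, Curv2.euler k X (G.obj (FlatMod.freeMod X n)) = n * Curv2.euler k X (G.obj (Coh.structureModule X)) := by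
  intro n
  induction n with
  | zero =>
    have hz : IsZero (G.obj (FlatMod.freeMod X 0)) := G.map_isZero ((IsZero.iff_id_eq_zero _).2 (by
      rw [← H23.Frame.total, Finset.univ_eq_empty, Finset.sum_empty]))
    rw [Euler.euler_eq_sum k _ 0 fun i _ => Euler.subsingleton_HH_of_isZero hz i]
    simp
  | succ n ih =>
    let S := ShortComplex.mk
      (Sigma.desc (fun i : Fin n => H23.Frame.incl X (n + 1) i.castSucc) :
        FlatMod.freeMod X n ⟶ FlatMod.freeMod X (n + 1))
      (H23.Frame.proj X (n + 1) (Fin.last n))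
      (Sigma.hom_ext _ _ fun i => by
        rw [Sigma.ι_desc_assoc, H23.Frame.incl_proj, if_neg (Fin.castSucc_ne_last i), comp_zero])
    let sp : S.Splitting :=
      { r := Sigma.desc (Fin.lastCases 0 fun i => H23.Frame.incl X n i)
        s := H23.Frame.incl X (n + 1) (Fin.last n)
        f_r := by
          refine Sigma.hom_ext _ _ fun i => ?_
          dsimp [S]
          rw [Sigma.ι_desc_assoc, H23.Frame.incl, Sigma.ι_desc, Fin.lastCases_castSucc, Category.comp_id]
          rfl
        s_g := (H23.Frame.incl_proj X (n + 1) _ _).trans (if_pos rfl)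
        id := by
          refine Sigma.hom_ext _ _ fun i => ?_
          dsimp [S]
          rw [Preadditive.comp_add, Category.comp_id, Sigma.ι_desc_assoc]
          induction i using Fin.lastCases with
          | last =>
            rw [Fin.lastCases_last, zero_comp, zero_add, H23.Frame.proj, Sigma.ι_desc_assoc, if_pos rfl,
              Category.id_comp]
            rfl
          | cast i =>
            rw [Fin.lastCases_castSucc, H23.Frame.incl, Sigma.ι_desc, H23.Frame.proj, Sigma.ι_desc_assoc,
              if_neg (Fin.castSucc_ne_last i), zero_comp, add_zero]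
            rfl }
    have h : Curv2.euler k X (G.obj (FlatMod.freeMod X (n + 1))) =
        Curv2.euler k X (G.obj (FlatMod.freeMod X n)) + Curv2.euler k X (G.obj (Coh.structureModule X)) :=
      CurveCohLib.euler_additive (k := k) (S := S.map G) ((sp.map G).shortExact)
      (hG _ (isFinLocFree_freeMod n)) (hG _ (isFinLocFree_freeMod (n + 1)))
      (hG _ (H23.PullPush.isFinLocFree_of_isInvertible InvX.isInvertible_structureModule))
    rw [h, ih]
    push_cast
    ring

variable {E : X.Modules} {d : ℕ}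

/-- The defect of multiplicativity. -/
def defect (E : X.Modules) (d : ℕ) (F : X.Modules) : ℤ :=
  Curv2.euler k X (CohB1.tensorMod E F) - d * Curv2.euler k X F

theorem defect_congr {A B : X.Modules} (e : A ≅ B) : defect k E d A = defect k E d B := by
  rw [defect, defect, Euler.euler_congr k e,
    Euler.euler_congr k (show CohB1.tensorMod E A ≅ CohB1.tensorMod E B from (DCoh.tensorBi.obj E).mapIso e)]

theorem defect_add (hE : FlatMod.IsFinLocFree E) {S : ShortComplex X.Modules} (hS : S.ShortExact)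
    (h₁ : Coh.IsCoh S.X₁) (h₂ : Coh.IsCoh S.X₂) (h₃ : Coh.IsCoh S.X₃) :
    defect k E d S.X₂ = defect k E d S.X₁ + defect k E d S.X₃ := by
  have h := CurveCohLib.euler_additive (k := k) hS h₁ h₂ h₃
  have h' := CurveCohLib.euler_additive (k := k) (CurveTensor.shortExact_tensor hE S.f S.g S.zero hS)
    (CurveTensor.isCoh_tensor hE h₁) (CurveTensor.isCoh_tensor hE h₂) (CurveTensor.isCoh_tensor hE h₃)
  change Curv2.euler k X (CohB1.tensorMod E S.X₂) = Curv2.euler k X (CohB1.tensorMod E S.X₁) +
    Curv2.euler k X (CohB1.tensorMod E S.X₃) at h'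
  simp only [defect]
  rw [h, h']
  ring

theorem defect_zero (hE : FlatMod.IsFinLocFree E) {M : X.Modules} (hM : Coh.IsCoh M)
    (hs : CohB1.support M = ∅) : defect k E d M = 0 := by
  haveI := CurveCohLib.isNoetherian_of_proper (k := k) (X := X)
  have hz : IsZero M := CurveCohLib.isZero_of_subsingleton_stalks fun x => not_not.1 fun hx => (hs ▸ hx : x ∈ (∅ : Set X))
  rw [defect, Euler.euler_eq_sum k _ 0 fun i _ => Euler.subsingleton_HH_of_isZero hz i,
    Euler.euler_eq_sum k _ 0 fun i _ => Euler.subsingleton_HH_of_isZero (show IsZero (CohB1.tensorMod E M) from (DCoh.tensorBi.obj E).map_isZero hz) i]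
  simp

theorem defect_map (hE : FlatMod.IsFinLocFree E) {A B : X.Modules} (hA : Coh.IsCoh A) (hB : Coh.IsCoh B)
    (φ : A ⟶ B) : defect k E d A + defect k E d (cokernel φ) = defect k E d B + defect k E d (kernel φ) := by
  haveI := CurveCohLib.isNoetherian_of_proper (k := k) (X := X)
  have hK := QCoh.isCoh_kernel hA hB φ
  have hC := QCoh.isCoh_cokernel hA.1 hB φ
  have hI : Coh.IsCoh (Abelian.image φ) :=
    QCoh.isCoh_of_epi (Abelian.factorThruImage φ) hA (QCoh.isQCoh_kernel hB.1 hC.1 _)
  have h1 := defect_add k (d := d) hE (S := ShortComplex.mk (kernel.ι φ) (Abelian.factorThruImage φ)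
      ((cancel_mono (Abelian.image.ι φ)).1 (by rw [Category.assoc, Abelian.image.fac, kernel.condition, zero_comp])))
    { exact := ShortComplex.exact_of_f_is_kernel _ (KernelFork.IsLimit.ofι' _ _ fun {T} t ht =>
        ⟨kernel.lift φ t (by rw [← Abelian.image.fac φ, reassoc_of% ht, zero_comp]), kernel.lift_ι _ _ _⟩)
      mono_f := inferInstance
      epi_g := inferInstance } hK hA hI
  have h2 := defect_add k (d := d) hE (S := ShortComplex.mk (Abelian.image.ι φ) (cokernel.π φ) (kernel.condition _))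
    { exact := ShortComplex.exact_of_f_is_kernel _ (kernelIsKernel (cokernel.π φ))
      mono_f := inferInstance
      epi_g := inferInstance } hI hB hC
  dsimp only at h1 h2
  rw [h1, h2]
  abel

theorem defect_eq_of_isoOn (hE : FlatMod.IsFinLocFree E) {C : Set X} {U : X.Opens}
    (IH : ∀ M : X.Modules, Coh.IsCoh M → CohB1.support M ⊆ C \ U → defect k E d M = 0)
    {A B : X.Modules} (hA : Coh.IsCoh A) (hB : Coh.IsCoh B) (hAC : CohB1.support A ⊆ C)
    (hBC : CohB1.support B ⊆ C) (φ : A ⟶ B) (hφ : IsoOn U φ) : defect k E d A = defect k E d B := by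
  haveI := CurveCohLib.isNoetherian_of_proper (k := k) (X := X)
  obtain ⟨hk, hc⟩ := support_subset_compl hφ
  obtain ⟨hk', hc'⟩ := support_sub_of_map hA hB φ
  have h := defect_map k (d := d) hE hA hB φ
  rwa [IH _ (QCoh.isCoh_kernel hA hB φ) fun x hx => ⟨hAC (hk' hx), hk hx⟩,
    IH _ (QCoh.isCoh_cokernel hA.1 hB φ) fun x hx => ⟨hBC (hc' hx), hc hx⟩, add_zero, add_zero] at h

/-- The Euler characteristic of `E ⊗ F` is `d` times that of `F` when `E ⊗ E ≅ E ⊗ O^d`. -/
theorem euler_tensor (hE : FlatMod.IsFinLocFreeOfRank d E) (hd : 0 < d)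
    (hEE : Nonempty (CohB1.tensorMod E E ≅ CohB1.tensorMod E (FlatMod.freeMod X d))) {F : X.Modules}
    (hF : Coh.IsCoh F) :
    Curv2.euler k X (CohB1.tensorMod E F) = d * Curv2.euler k X F := by
  haveI := CurveCohLib.isNoetherian_of_proper (k := k) (X := X)
  have hEf : FlatMod.IsFinLocFree E := fun x => let ⟨U, hx, e⟩ := hE x; ⟨U, d, hx, e⟩
  have hEc : Coh.IsCoh E := CurveDeg.isCoh_of_isFinLocFree hEf
  suffices h : ∀ C : Closeds X, ∀ M : X.Modules, Coh.IsCoh M → CohB1.support M ⊆ C → defect k E d M = 0 from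
    sub_eq_zero.1 (h ⊤ F hF fun x _ => trivial)
  intro C
  induction C using WellFoundedLT.induction with
  | ind C IH =>
  intro M hM hMC
  rcases Set.eq_empty_or_nonempty (C : Set X) with h0 | hne
  · exact defect_zero k hEf hM (Set.subset_empty_iff.1 (h0 ▸ hMC))
  by_cases hirr : IsIrreducible (C : Set X)
  · obtain ⟨η, hη⟩ := QuasiSober.sober hirr C.isClosed
    obtain ⟨U, hηU, ⟨e⟩⟩ := hE η
    have IH' : ∀ N : X.Modules, Coh.IsCoh N → CohB1.support N ⊆ (C : Set X) \ U → defect k E d N = 0 :=
      fun N hN hNs => IH ⟨_, C.isClosed.sdiff U.2⟩ (lt_of_le_of_ne (Set.sdiff_subset : (C : Set X) \ U ⊆ C)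
        fun h => ((congrArg (SetLike.coe : Closeds X → Set X) h).ge hη.mem : η ∈ (C : Set X) \ U).2 hηU) N hN hNs
    let O := FlatMod.freeMod X d
    have hOc : Coh.IsCoh O := CurveDeg.isCoh_of_isFinLocFree (isFinLocFree_freeMod d)
    let Q := (Scheme.Modules.pushforward U.ι).obj (E.restrict U.ι)
    have hQ : Coh.IsQCoh Q := QCoh.isQCoh_pushforward U.ι (QCoh.isQCoh_restrict U.ι hEc.1)
    let γ := (Scheme.Modules.pushforward U.ι).mapIso (QCoh.freeModRestrict U.ι d ≪≫ e.symm)
    have hψ : IsoOn U (resMap U O ≫ γ.hom) := fun x hx => by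
      haveI := isoOn_resMap U O x hx
      rw [Functor.map_comp]
      infer_instance
    obtain ⟨K, I, a, b, c, hK, hI, ha, hb, hc⟩ := exists_link hEc hOc hQ (resMap U E) _ (isoOn_resMap U E) hψ
    let T := AmpleVan.tw M
    have hsupp : ∀ A, CohB1.support (T.obj A) ⊆ C := fun A => fun x hx => hMC (CurveTensor.support_tensor_subset hx)
    have hcoh : ∀ {A}, Coh.IsCoh A → Coh.IsCoh (T.obj A) := fun h => AmpleVan.isCoh_tensor h hM
    have e1 := defect_eq_of_isoOn k (d := d) hEf IH' (hcoh hK) (hcoh hEc) (hsupp _) (hsupp _) _ (ha.tensor M)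
    have e2 := defect_eq_of_isoOn k (d := d) hEf IH' (hcoh hK) (hcoh hI) (hsupp _) (hsupp _) _ (hb.tensor M)
    have e3 := defect_eq_of_isoOn k (d := d) hEf IH' (hcoh hOc) (hcoh hI) (hsupp _) (hsupp _) _ (hc.tensor M)
    -- the free module
    have hO1 : Curv2.euler k X (T.obj O) = d * Curv2.euler k X M := by
      rw [euler_map_freeMod k T fun A hA => AmpleVan.isCoh_tensor (CurveDeg.isCoh_of_isFinLocFree hA) hM]
      exact congrArg _ (Euler.euler_congr k (CurveTensor.structureTensorIso M))
    have hO2 : Curv2.euler k X (CohB1.tensorMod E (T.obj O)) = d * Curv2.euler k X (CohB1.tensorMod E M) := by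
      refine (euler_map_freeMod k (T ⋙ DCoh.tensorBi.obj E) (fun A hA => CurveTensor.isCoh_tensor hEf
        (AmpleVan.isCoh_tensor (CurveDeg.isCoh_of_isFinLocFree hA) hM)) d).trans ?_
      exact congrArg _ (Euler.euler_congr k ((DCoh.tensorBi.obj E).mapIso (CurveTensor.structureTensorIso M)))
    obtain ⟨ee⟩ := hEE
    have hEM : Curv2.euler k X (CohB1.tensorMod E (T.obj E)) = Curv2.euler k X (CohB1.tensorMod E (T.obj O)) :=
      Euler.euler_congr k ((AmpleVan.assocT E E M).symm ≪≫ T.mapIso ee ≪≫ AmpleVan.assocT E O M)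
    have h : defect k E d (T.obj O) = defect k E d (T.obj E) := by rw [e3, ← e2, e1]
    simp only [defect] at h ⊢
    rw [hEM, hO1, hO2, show T.obj E = CohB1.tensorMod E M from rfl] at h
    have h2 : (d : ℤ) * (Curv2.euler k X (CohB1.tensorMod E M) - d * Curv2.euler k X M) = 0 := by
      linear_combination h
    rcases mul_eq_zero.1 h2 with h3 | h3
    · exact absurd h3 (by exact_mod_cast hd.ne')
    · exact h3
  · obtain ⟨A, B, hA, hB, hsub, hnA, hnB⟩ : ∃ A B : Set X, IsClosed A ∧ IsClosed B ∧
        (C : Set X) ⊆ A ∪ B ∧ ¬ (C : Set X) ⊆ A ∧ ¬ (C : Set X) ⊆ B := by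
      by_contra! hno
      exact hirr ⟨hne, isPreirreducible_iff_isClosed_union_isClosed.2 fun A B hA hB hs =>
        or_iff_not_imp_left.2 fun hA' => hno A B hA hB hs hA'⟩
    let C₁ : Closeds X := ⟨(C : Set X) ∩ A, C.isClosed.inter hA⟩
    let C₂ : Closeds X := ⟨(C : Set X) ∩ B, C.isClosed.inter hB⟩
    have h1 : C₁ < C := lt_of_le_of_ne (Set.inter_subset_left : (C : Set X) ∩ A ⊆ C)
      fun h => hnA (Set.inter_eq_left.1 (congrArg (SetLike.coe) h))
    have h2 : C₂ < C := lt_of_le_of_ne (Set.inter_subset_left : (C : Set X) ∩ B ⊆ C)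
      fun h => hnB (Set.inter_eq_left.1 (congrArg (SetLike.coe) h))
    let U : X.Opens := ⟨(C₂ : Set X)ᶜ, C₂.isClosed.isOpen_compl⟩
    let φ := resMap U M
    have hQ : Coh.IsQCoh ((Scheme.Modules.pushforward U.ι).obj (M.restrict U.ι)) :=
      QCoh.isQCoh_pushforward U.ι (QCoh.isQCoh_restrict U.ι hM.1)
    have hco := QCoh.isQCoh_cokernel hM.1 hQ φ
    have hI : Coh.IsCoh (Abelian.image φ) :=
      QCoh.isCoh_of_epi (Abelian.factorThruImage φ) hM (QCoh.isQCoh_kernel hQ hco _)
    have hK : Coh.IsCoh (kernel φ) := QCoh.isCoh_of_mono (kernel.ι φ) hM (QCoh.isQCoh_kernel hM.1 hQ φ)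
    have e := defect_add k (d := d) hEf
      (S := ShortComplex.mk (kernel.ι φ) (Abelian.factorThruImage φ)
        ((cancel_mono (Abelian.image.ι φ)).1 (by rw [Category.assoc, Abelian.image.fac, kernel.condition, zero_comp])))
      { exact := ShortComplex.exact_of_f_is_kernel _ (KernelFork.IsLimit.ofι' _ _ fun {T} t ht =>
          ⟨kernel.lift φ t (by rw [← Abelian.image.fac φ, reassoc_of% ht, zero_comp]), kernel.lift_ι _ _ _⟩)
        mono_f := inferInstance
        epi_g := inferInstance } hK hM hI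
    dsimp only at e
    rw [e, IH C₂ h2 _ hK fun x hx => not_not.1 fun hx2 =>
      (support_subset_compl (isoOn_resMap U M)).1 hx (show x ∈ U from hx2), zero_add]
    refine IH C₁ h1 _ hI fun x hx => ?_
    by_contra hx1
    have hP := QCoh.mem_support_of_mono hI.1 hQ (Abelian.image.ι φ) hx
    refine notMem_support_push (W := ⟨(C₁ : Set X)ᶜ, C₁.isClosed.isOpen_compl⟩) hx1 ?_ hP
    refine Set.disjoint_left.2 fun y hy hyM => ?_
    rcases hsub (hMC hyM) with h | h
    · exact hy.1 ⟨hMC hyM, h⟩
    · exact hy.2 ⟨hMC hyM, h⟩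

end Idem

section Pull

variable (k : Type u) [Field k] {X Y : Scheme.{u}} [X.Over (Spec (CommRingCat.of k))]
  [Y.Over (Spec (CommRingCat.of k))] [IsProper (Y ↘ Spec (CommRingCat.of k))]

/-- Euler characteristics of pullbacks along finite flat morphisms with trivialised algebra. -/
theorem euler_pullback (f : X ⟶ Y) (hf : f ≫ (Y ↘ Spec (CommRingCat.of k)) = X ↘ Spec (CommRingCat.of k))
    [IsFinite f] [Flat f] [LocallyOfFinitePresentation f] {d : ℕ} (hd : 0 < d)
    (hrank : ∀ y, Scheme.Hom.finrank f y = d)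
    (hfree : Nonempty ((Scheme.Modules.pullback f).obj
      ((Scheme.Modules.pushforward f).obj (Coh.structureModule X)) ≅ FlatMod.freeMod X d))
    {F : Y.Modules} (hF : Coh.IsCoh F) :
    Curv2.euler k X ((Scheme.Modules.pullback f).obj F) = d * Curv2.euler k Y F := by
  let E := (Scheme.Modules.pushforward f).obj (Coh.structureModule X)
  have hE : FlatMod.IsFinLocFreeOfRank d E :=
    H23.CoverPush.isFinLocFreeOfRank_push_of_isCover f ⟨⟨inferInstance, inferInstance, inferInstance⟩, hrank⟩
  have hEf : FlatMod.IsFinLocFree E := fun x => let ⟨U, hx, e⟩ := hE x; ⟨U, d, hx, e⟩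
  have hflat : FlatMod.IsFlat E := (QCoh.isFlat_and_isFP_iff.2 hEf).1
  obtain ⟨φ⟩ := hfree
  obtain ⟨p₁⟩ := KFlatLib.nonempty_push_pull_iso f hflat (QCoh.isQCoh_of_isFinLocFree hEf)
  obtain ⟨p₂⟩ := KFlatLib.nonempty_push_pull_iso f hflat
    (QCoh.isQCoh_of_isFinLocFree (SeesawX.isFinLocFree_freeMod Y d))
  obtain ⟨p₃⟩ := KFlatLib.nonempty_push_pull_iso f hflat hF.1
  have hEE : Nonempty (CohB1.tensorMod E E ≅ CohB1.tensorMod E (FlatMod.freeMod Y d)) :=
    ⟨p₁ ≪≫ (Scheme.Modules.pushforward f).mapIso (φ ≪≫ (SeesawX.freePullIso f d).symm) ≪≫ p₂.symm⟩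
  rw [← euler_tensor k hE hd hEE hF]
  refine (finsum_congr fun n => ?_).trans (Euler.euler_congr k p₃).symm
  obtain ⟨l⟩ := PnCoh.exists_linearEquiv_push k f hf (QCoh.isQCoh_pullback f hF.1) n
  rw [l.finrank_eq]

end Pull

end Groth.Agent.EulerFlatPull
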