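import Groth.Agent.Lib.CohGrowth
import Groth.Agent.Lib.EulerFlatPull
import Groth.Agent.Lib.AVEuler
import Groth.Agent.Lib.AVAmpleVan
import Groth.Agent.Lib.AVIndex
import Groth.Agent.Lib.AVDegenerate
import Groth.Agent.Lib.AVEulerHomog
import Groth.Agent.CurveBC.Coh
import Groth.Agent.CurveFin.RelDim
import Groth.Agent.S7795

/-!
The index of an invertible module with non-zero Euler characteristic on an abelian variety over any field:
it is unchanged by powers and by pullback along isogenies.

The proof compares the cohomology of high powers: the index of `L^t` is constant for large `t` by the growth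
bound, it agrees with that of `L` through multiplication by an integer prime to the characteristic, and an
isogeny changes the cohomology of high powers by a lower order term.
-/

set_option autoImplicit false
set_option linter.style.haveILetI false
set_option linter.unusedSectionVars false
set_option backward.isDefEq.respectTransparency false
set_option backward.isDefEq.respectTransparency.types false
set_option maxHeartbeats 1000000
set_option synthInstance.maxHeartbeats 400000

universe u

open CategoryTheory CategoryTheory.Limits MonoidalCategory CartesianMonoidalCategory MonObj AlgebraicGeometry TopologicalSpace Opposite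

noncomputable section

namespace Groth.Agent.AVIndexStable

open Groth.Agent Groth.Agent.H23 Groth.Agent.AVCube
open scoped Groth.Agent.H23.PicMul

variable {k : Type u} [Field k]

/-- The dimension of a cohomology group. -/
def h (A : Over (Spec (CommRingCat.of k))) (M : A.left.Modules) (j : ℕ) : ℕ :=
  @Module.finrank k (Coh.HH A.left M j) _ _ (@Coh.moduleOver k _ A.left ⟨A.hom⟩ M j)

/-- The cohomology is non-zero in the degree `i` only. -/
def Conc (A : Over (Spec (CommRingCat.of k))) (M : A.left.Modules) (i : ℕ) : Prop :=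
  (∀ j, j ≠ i → h A M j = 0) ∧ h A M i ≠ 0

/-- All large powers are concentrated in the degree `i`. -/
def Stable (A : Over (Spec (CommRingCat.of k))) (L : A.left.Modules) (i : ℕ) : Prop :=
  ∃ T, ∀ t, T ≤ t → Conc A (CohB1.tensorPow L t) i

section Basic

variable {A : Over (Spec (CommRingCat.of k))} [IsProper A.hom]

theorem subsingleton_iff {M : A.left.Modules} (hM : Coh.IsCoh M) (j : ℕ) :
    h A M j = 0 ↔ Subsingleton (Coh.HH A.left M j) := by
  letI : A.left.Over (Spec (CommRingCat.of k)) := ⟨A.hom⟩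
  haveI : IsProper (A.left ↘ Spec (CommRingCat.of k)) := inferInstanceAs (IsProper A.hom)
  haveI := S0002.result k A.left M hM j
  exact Module.finrank_eq_zero_iff_of_free k (Coh.HH A.left M j)

theorem h_congr {M N : A.left.Modules} (e : M ≅ N) (j : ℕ) : h A M j = h A N j := by
  letI : A.left.Over (Spec (CommRingCat.of k)) := ⟨A.hom⟩
  exact (CurveCohLib.hhEquiv (k := k) e j).finrank_eq

theorem Conc.congr {M N : A.left.Modules} (e : M ≅ N) {i : ℕ} (hc : Conc A M i) : Conc A N i :=
  ⟨fun j hj => (h_congr e j).symm.trans (hc.1 j hj), fun he => hc.2 ((h_congr e i).trans he)⟩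

theorem conc_of {M : A.left.Modules} (hM : Coh.IsCoh M) {i : ℕ}
    (hvan : ∀ j, j ≠ i → Subsingleton (Coh.HH A.left M j)) (hne : Nontrivial (Coh.HH A.left M i)) :
    Conc A M i :=
  ⟨fun j hj => (subsingleton_iff hM j).2 (hvan j hj),
    fun he => not_subsingleton _ ((subsingleton_iff hM i).1 he)⟩

theorem Conc.subsingleton {M : A.left.Modules} (hM : Coh.IsCoh M) {i : ℕ} (hc : Conc A M i) {j : ℕ}
    (hj : j ≠ i) : Subsingleton (Coh.HH A.left M j) :=
  (subsingleton_iff hM j).1 (hc.1 j hj)

theorem Conc.nontrivial {M : A.left.Modules} (hM : Coh.IsCoh M) {i : ℕ} (hc : Conc A M i) :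
    Nontrivial (Coh.HH A.left M i) :=
  not_subsingleton_iff_nontrivial.1 fun hs => hc.2 ((subsingleton_iff hM i).2 hs)

theorem Conc.unique {M : A.left.Modules} {i i' : ℕ} (hc : Conc A M i) (hc' : Conc A M i') : i = i' :=
  by_contra fun hne => hc.2 (hc'.1 i hne)

theorem Stable.unique {L : A.left.Modules} {i i' : ℕ} (hs : Stable A L i) (hs' : Stable A L i') : i = i' :=
  let ⟨T, hT⟩ := hs; let ⟨T', hT'⟩ := hs'
  (hT _ (le_max_left T T')).unique (hT' _ (le_max_right T T'))

theorem Conc.euler {M : A.left.Modules} {i : ℕ} (hc : Conc A M i) :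
    @Curv2.euler k _ A.left ⟨A.hom⟩ M = (-1) ^ i * (h A M i : ℤ) := by
  letI : A.left.Over (Spec (CommRingCat.of k)) := ⟨A.hom⟩
  unfold Curv2.euler
  rw [finsum_eq_single _ i fun j hj => by
    rw [show Module.finrank k (Coh.HH A.left M j) = 0 from hc.1 j hj]; simp]
  rfl

theorem Conc.natAbs_euler {M : A.left.Modules} {i : ℕ} (hc : Conc A M i) :
    (@Curv2.euler k _ A.left ⟨A.hom⟩ M).natAbs = h A M i := by
  rw [hc.euler, Int.natAbs_mul, Int.natAbs_pow]
  simp

theorem Conc.euler_ne_zero {M : A.left.Modules} {i : ℕ} (hc : Conc A M i) :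
    @Curv2.euler k _ A.left ⟨A.hom⟩ M ≠ 0 := fun he => hc.2 (by rw [← hc.natAbs_euler, he]; rfl)

theorem isCoh {M : A.left.Modules} (hM : PicF.IsInvertible M) : Coh.IsCoh M :=
  haveI : IsLocallyNoetherian A.left := LocallyOfFiniteType.isLocallyNoetherian A.hom
  CurveDeg.isCoh_of_isInvertible hM

theorem h_eq_zero_of_gt {g : ℕ} (hg : topologicalKrullDim ↥A.left = g) {M : A.left.Modules}
    (hM : PicF.IsInvertible M) {j : ℕ} (hj : g < j) : h A M j = 0 := by
  haveI : IsLocallyNoetherian A.left := LocallyOfFiniteType.isLocallyNoetherian A.hom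
  haveI : CompactSpace A.left := QuasiCompact.compactSpace_of_compactSpace A.hom
  haveI : AlgebraicGeometry.IsNoetherian A.left := {}
  haveI : A.left.IsSeparated := ⟨by rw [← Limits.terminal.comp_from A.hom]; infer_instance⟩
  exact (subsingleton_iff (isCoh hM) j).2
    (Snapper.subsingleton_HH_of_dim_le (d := g) (by rw [hg]) (isCoh hM).1 hj)

theorem tensorPow_mul (L : A.left.Modules) (a b : ℕ) :
    Nonempty (CohB1.tensorPow (CohB1.tensorPow L a) b ≅ CohB1.tensorPow L (a * b)) :=
  (PicGrp.cl_eq_cl_iff _ _).1 (by simp only [PicMul.cl_tensorPow, pow_mul])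

theorem tensorPow_one (L : A.left.Modules) : Nonempty (CohB1.tensorPow L 1 ≅ L) :=
  (PicGrp.cl_eq_cl_iff _ _).1 (by rw [PicMul.cl_tensorPow, pow_one])

theorem nonempty_pullback_tensorPow {B : Over (Spec (CommRingCat.of k))} (f : A.left ⟶ B.left) (L : B.left.Modules)
    (t : ℕ) : Nonempty ((Scheme.Modules.pullback f).obj (CohB1.tensorPow L t) ≅
      CohB1.tensorPow ((Scheme.Modules.pullback f).obj L) t) := by
  refine (PicGrp.cl_eq_cl_iff _ _).1 ?_
  show PicMul.pullHom f (PicF.cl (CohB1.tensorPow L t)) = _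
  rw [PicMul.cl_tensorPow, map_pow, PicMul.cl_tensorPow]
  rfl

variable [GrpObj A] [GeometricallyIntegral A.hom]

/-- `χ(L^n) = n^g χ(L)`. -/
theorem euler_tensorPow {g : ℕ} (hg : topologicalKrullDim ↥A.left = g) {L : A.left.Modules}
    (hL : PicF.IsInvertible L) (n : ℕ) :
    @Curv2.euler k _ A.left ⟨A.hom⟩ (CohB1.tensorPow L n) = (n : ℤ) ^ g * @Curv2.euler k _ A.left ⟨A.hom⟩ L := by
  have h := AVEulerHomog.euler_pow g hg hL n
  rw [← PicMul.cl_tensorPow] at h
  exact h

end Basic

section Closed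

variable [IsAlgClosed k] {A : Over (Spec (CommRingCat.of k))} [GrpObj A] [IsProper A.hom]
  [GeometricallyIntegral A.hom] {L : A.left.Modules} (hL : PicF.IsInvertible L)

include hL

/-- A module with non-zero Euler characteristic is fixed by finitely many translations only. -/
theorem finite_stab (hne : @Curv2.euler k _ A.left ⟨A.hom⟩ L ≠ 0) :
    Set.Finite {a : 𝟙_ (Over (Spec (CommRingCat.of k))) ⟶ A |
      Nonempty ((Scheme.Modules.pullback (𝟙 A * (toUnit A ≫ a)).left).obj L ≅ L)} := by
  by_contra hinf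
  refine hne ?_
  refine AVDegenerate.euler_eq_zero hL ((Set.not_finite.1 hinf).mono fun a ha => ?_)
  exact Units.ext (by rw [val_pc, val_pc_id]; exact (PicGrp.cl_eq_cl_iff _ _).2 ha)

/-- Finitely many translations fixing the module give concentrated cohomology. -/
theorem exists_conc_of_finite_stab (hfin : Set.Finite {a : 𝟙_ (Over (Spec (CommRingCat.of k))) ⟶ A |
      Nonempty ((Scheme.Modules.pullback (𝟙 A * (toUnit A ≫ a)).left).obj L ≅ L)}) : ∃ i, Conc A L i := by
  haveI : IsIntegral A.left := GeometricallyIntegral.isIntegral_of_subsingleton A.hom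
  haveI : Smooth A.hom := S7795.result A
  obtain ⟨g, hg⟩ := AVTors.exists_dimNat A
  haveI : SmoothOfRelativeDimension g A.hom := CurveFin.smoothOfRelativeDimension_of_dim A.hom hg
  obtain ⟨i, -, h1, h2⟩ := AVIndex.exists_index g hg hL hfin
  exact ⟨i, conc_of (isCoh hL) h1 h2⟩

/-- The pullback by `[m]` of a non-degenerate class is a translate of the `m²`-th power. -/
theorem exists_pow_translate (hne : @Curv2.euler k _ A.left ⟨A.hom⟩ L ≠ 0) (m : ℕ) (hm : 0 < m) :
    ∃ x : 𝟙_ (Over (Spec (CommRingCat.of k))) ⟶ A,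
      Nonempty ((Scheme.Modules.pullback (𝟙 A ^ m : A ⟶ A).left).obj L ≅
        (Scheme.Modules.pullback (𝟙 A * (toUnit A ≫ x)).left).obj (CohB1.tensorPow L (m ^ 2))) := by
  haveI : IsCommMonObj A := isCommMonObj_of_isProper_of_geometricallyIntegral A
  haveI : GeometricallyConnected A.hom := CubeAb.geometricallyConnected_of_integral A.hom
  haveI : Smooth A.hom := S7795.result A
  obtain ⟨D, hD, eD⟩ := inv_pc hL (𝟙 A)
  let P := CohB1.tensorMod ((Scheme.Modules.pullback ((𝟙 A)⁻¹ : A ⟶ A).left).obj L) D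
  have hP : PicF.IsInvertible P := PicMul.isInvertible_tensor (PicClLib.isInvertible_pullback _ hL) hD
  let N := CohB1.tensorPow P (m * (m - 1) / 2)
  have hN : PicF.IsInvertible N := PicMul.isInvertible_tensorPow hP _
  have eP : PicF.cl P = ((pc hL (𝟙 A)⁻¹ / pc hL (𝟙 A) : (PicF.Cl A.left)ˣ) : PicF.Cl A.left) := by
    rw [PicMul.cl_tensor, eD, div_eq_mul_inv, Units.val_mul, val_pc]
  have hinv : ∀ a : 𝟙_ (Over (Spec (CommRingCat.of k))) ⟶ A,
      Nonempty ((Scheme.Modules.pullback (𝟙 A * (toUnit A ≫ a)).left).obj N ≅ N) := by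
    intro a
    refine (PicGrp.cl_eq_cl_iff _ _).1 ?_
    show PicMul.pullHom _ (PicF.cl N) = PicF.cl N
    rw [PicMul.cl_tensorPow, map_pow, eP]
    refine congrArg (· ^ _) (congrArg Units.val (show Units.map (PicMul.pullHom _ : _ →* _) _ = _ from ?_))
    rw [map_div, pull_pc, pull_pc, GrpObj.comp_inv, Category.comp_id]
    exact AVAmpleVan.inv_div_invariant hL a
  obtain ⟨g, hg⟩ := AVTors.exists_dimNat A
  have hK : PicF.IsInvertible (CohB1.tensorPow L (m ^ 2)) := PicMul.isInvertible_tensorPow hL _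
  have hKne : @Curv2.euler k _ A.left ⟨A.hom⟩ (CohB1.tensorPow L (m ^ 2)) ≠ 0 := by
    rw [euler_tensorPow hg hL]
    exact mul_ne_zero (pow_ne_zero _ (by positivity)) hne
  obtain ⟨x, hx⟩ := AVPhiSurj.exists_translate hK hN (finite_stab hK hKne) hinv
  refine ⟨x, (PicGrp.cl_eq_cl_iff _ _).1 ?_⟩
  rw [← (PicGrp.cl_eq_cl_iff _ _).2 hx, (PicGrp.cl_eq_cl_iff _ _).2 (S1844.result k A L hL m hm)]
  simp only [N, PicMul.cl_tensor, PicMul.cl_tensorPow, eP]
  rw [← val_pc hL, ← val_pc_id hL, ← Units.val_pow_eq_pow_val, ← Units.val_pow_eq_pow_val,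
    ← Units.val_pow_eq_pow_val, ← Units.val_pow_eq_pow_val, ← Units.val_mul, ← Units.val_mul]
  refine congrArg Units.val ?_
  have hc : m * (m + 1) / 2 + m * (m - 1) / 2 = m ^ 2 := by
    obtain ⟨n, rfl⟩ : ∃ n, m = n + 1 := ⟨m - 1, by omega⟩
    obtain ⟨c, hc⟩ : 2 ∣ n * (n + 1) := (Nat.even_mul_succ_self n).two_dvd
    have e1 : (n + 1) * (n + 1 + 1) = 2 * (c + n + 1) := by nlinarith
    have e2 : (n + 1) * (n + 1 - 1) = 2 * c := by rw [Nat.add_sub_cancel, mul_comm, hc]
    rw [e1, e2, Nat.mul_div_cancel_left _ two_pos, Nat.mul_div_cancel_left _ two_pos]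
    nlinarith
  rw [← hc, pow_add, div_pow, mul_comm (pc hL (𝟙 A) ^ (m * (m + 1) / 2)) (pc hL (𝟙 A) ^ (m * (m - 1) / 2)),
    ← _root_.mul_assoc, div_mul_cancel, mul_comm]

/-- If the `m²`-th power has index `i'` with `m` prime to the characteristic then so has the module. -/
theorem eq_of_conc_sq {m : ℕ} (hm : (m : k) ≠ 0) {i i' : ℕ} (hc : Conc A L i)
    (hc' : Conc A (CohB1.tensorPow L (m ^ 2)) i') : i = i' := by
  by_contra hne
  have hm0 : 0 < m := Nat.pos_of_ne_zero fun he => hm (by rw [he, Nat.cast_zero])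
  haveI : IsIntegral A.left := GeometricallyIntegral.isIntegral_of_subsingleton A.hom
  haveI : IsLocallyNoetherian A.left := LocallyOfFiniteType.isLocallyNoetherian A.hom
  haveI : GeometricallyConnected A.hom := CubeAb.geometricallyConnected_of_integral A.hom
  obtain ⟨h1, h2, h3⟩ := AVDegLib.zpow_props (A := A) (m : ℤ) (by exact_mod_cast hm0.ne')
  rw [zpow_natCast] at h1 h2 h3
  obtain ⟨g, hg⟩ := AVTors.exists_dimNat A
  have hdeg : ∀ a, Scheme.Hom.finrank (𝟙 A ^ m : A ⟶ A).left a = m ^ (2 * g) := fun a => by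
    have := AVDegLib.finrank_zpow hg (m : ℤ) (by exact_mod_cast hm0.ne') a
    simpa using this
  have hcov : FinCov.IsCover (𝟙 A ^ m : A ⟶ A).left (m ^ (2 * g)) :=
    ⟨⟨h1, h2, AVDegLib.lfp_endo _⟩, hdeg⟩
  have hunit : IsUnit (((m ^ (2 * g) : ℕ) : Γ(A.left, ⊤))) := by
    have : IsUnit ((m : k) ^ (2 * g)) := (isUnit_iff_ne_zero.2 hm).pow _
    rw [← Nat.cast_pow] at this
    have := (this.map (Scheme.ΓSpecIso (CommRingCat.of k)).inv.hom).map A.hom.appTop.hom
    rwa [map_natCast, map_natCast] at this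
  obtain ⟨x, ⟨e⟩⟩ := exists_pow_translate hL hc.euler_ne_zero m hm0
  refine hc.2 ((subsingleton_iff (isCoh hL) i).2 ?_)
  refine AVTraceRetract.subsingleton_HH_of_cover _ hcov hunit hL i ?_
  refine QCoh.subsingleton_HH_of_iso e.symm _ (AVAmpleVan.subsingleton_HH_translate x _ i ?_)
  exact hc'.subsingleton (isCoh (PicMul.isInvertible_tensorPow hL _)) hne

end Closed

section BC

variable {A : Over (Spec (CommRingCat.of k))} [IsProper A.hom] (Ω : Type u) [Field Ω] [Algebra k Ω]

local notation3 "σ" => Spec.map (CommRingCat.ofHom (algebraMap k Ω))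

theorem h_bc {M : A.left.Modules} (hM : Coh.IsCoh M) (j : ℕ) :
    h (Red.bc σ A) ((Scheme.Modules.pullback (pullback.fst A.hom σ)).obj M) j = h A M j := by
  let B := Red.bc σ A
  haveI : IsProper B.hom := inferInstanceAs (IsProper (pullback.snd A.hom σ))
  letI : A.left.Over (Spec (CommRingCat.of k)) := ⟨A.hom⟩
  letI : B.left.Over (Spec (CommRingCat.of Ω)) := ⟨B.hom⟩
  haveI : CompactSpace A.left := QuasiCompact.compactSpace_of_compactSpace A.hom
  haveI : QuasiSeparatedSpace A.left := quasiSeparatedSpace_of_quasiSeparated A.hom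
  haveI : CompactSpace B.left := QuasiCompact.compactSpace_of_compactSpace B.hom
  let p : B.left ⟶ A.left := pullback.fst A.hom σ
  exact CurveBC.finrank_hh k Ω p (IsPullback.of_hasPullback A.hom σ) M hM.1 j

theorem conc_bc_iff {M : A.left.Modules} (hM : Coh.IsCoh M) (i : ℕ) :
    Conc (Red.bc σ A) ((Scheme.Modules.pullback (pullback.fst A.hom σ)).obj M) i ↔ Conc A M i := by
  unfold Conc
  simp only [h_bc Ω hM]

theorem euler_bc {M : A.left.Modules} (hM : Coh.IsCoh M) :
    @Curv2.euler Ω _ (Red.bc σ A).left ⟨(Red.bc σ A).hom⟩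
        ((Scheme.Modules.pullback (pullback.fst A.hom σ)).obj M) = @Curv2.euler k _ A.left ⟨A.hom⟩ M := by
  unfold Curv2.euler
  exact finsum_congr fun j => by
    rw [show @Module.finrank Ω _ _ _ (@Coh.moduleOver Ω _ (Red.bc σ A).left ⟨(Red.bc σ A).hom⟩
      ((Scheme.Modules.pullback (pullback.fst A.hom σ)).obj M) j) = h A M j from h_bc Ω hM j]
    rfl

end BC

section AnyField

variable {A : Over (Spec (CommRingCat.of k))} [GrpObj A] [IsProper A.hom] [GeometricallyIntegral A.hom]
  {L : A.left.Modules} (hL : PicF.IsInvertible L)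

include hL

/-- A non-zero Euler characteristic gives concentrated cohomology. -/
theorem exists_conc (hne : @Curv2.euler k _ A.left ⟨A.hom⟩ L ≠ 0) : ∃ i, Conc A L i := by
  let Ω := AlgebraicClosure k
  let σ : Spec (CommRingCat.of Ω) ⟶ Spec (CommRingCat.of k) := Spec.map (CommRingCat.ofHom (algebraMap k Ω))
  let B := Red.bc σ A
  haveI : IsProper B.hom := inferInstanceAs (IsProper (pullback.snd A.hom σ))
  haveI : GeometricallyIntegral B.hom := inferInstanceAs (GeometricallyIntegral (pullback.snd A.hom σ))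
  have hB : PicF.IsInvertible ((Scheme.Modules.pullback (pullback.fst A.hom σ)).obj L : B.left.Modules) :=
    PicClLib.isInvertible_pullback _ hL
  have hne' := hne
  rw [← euler_bc Ω (isCoh hL)] at hne'
  obtain ⟨i, hi⟩ := exists_conc_of_finite_stab (A := B) hB (finite_stab (A := B) hB hne')
  exact ⟨i, (conc_bc_iff Ω (isCoh hL) i).1 hi⟩

/-- Powers of a module with non-zero Euler characteristic are concentrated. -/
theorem exists_conc_pow {g : ℕ} (hg : topologicalKrullDim ↥A.left = g)
    (hne : @Curv2.euler k _ A.left ⟨A.hom⟩ L ≠ 0) {t : ℕ} (ht : 0 < t) :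
    ∃ i, i ≤ g ∧ Conc A (CohB1.tensorPow L t) i ∧
      h A (CohB1.tensorPow L t) i = t ^ g * (@Curv2.euler k _ A.left ⟨A.hom⟩ L).natAbs := by
  have hP := PicMul.isInvertible_tensorPow hL t
  have he := euler_tensorPow hg hL t
  obtain ⟨i, hi⟩ := exists_conc hP (by rw [he]; exact mul_ne_zero (pow_ne_zero _ (by positivity)) hne)
  refine ⟨i, ?_, hi, ?_⟩
  · by_contra hlt
    exact hi.2 (h_eq_zero_of_gt hg hP (not_le.1 hlt))
  · rw [← hi.natAbs_euler, he, Int.natAbs_mul, Int.natAbs_pow, Int.natAbs_natCast]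

omit hL in
/-- The growth comparison. -/
theorem le_of_growth {a C g t : ℕ} (ha : a ≠ 0) (ht : 0 < t) (hle : t ^ g * a ≤ C * CohGrowth.w g t) :
    t ≤ C * 2 ^ g := by
  rcases g with _ | e
  · simp [CohGrowth.w] at hle
    exact absurd hle ha
  · rw [CohGrowth.w_succ] at hle
    have h1 : (t + 1) ^ e ≤ 2 ^ e * t ^ e := by
      rw [← Nat.mul_pow]
      exact Nat.pow_le_pow_left (by omega) _
    have h2 : t ^ e * t ≤ t ^ e * (C * 2 ^ e) := by
      calc t ^ e * t = t ^ (e + 1) * 1 := by ring
        _ ≤ t ^ (e + 1) * a := Nat.mul_le_mul_left _ (Nat.one_le_iff_ne_zero.2 ha)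
        _ ≤ C * (t + 1) ^ e := hle
        _ ≤ C * (2 ^ e * t ^ e) := Nat.mul_le_mul_left _ h1
        _ = t ^ e * (C * 2 ^ e) := by ring
    refine (Nat.le_of_mul_le_mul_left h2 (pow_pos ht e)).trans ?_
    exact Nat.mul_le_mul_left _ (Nat.pow_le_pow_right two_pos (Nat.le_succ e))

omit hL in
theorem hgt_structure (L : A.left.Modules) (j t : ℕ) :
    @CohGrowth.hgt k _ A.left ⟨A.hom⟩ 1 (fun _ => L) j (Coh.structureModule A.left) (fun _ => t) =
      h A (CohB1.tensorPow L t) j :=
  h_congr (A := A) (CurveTensor.structureTensorIso (CohB1.tensorPow L t)) j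

/-- The index of the high powers is constant. -/
theorem exists_stable (hne : @Curv2.euler k _ A.left ⟨A.hom⟩ L ≠ 0) : ∃ i, Stable A L i := by
  haveI : IsIntegral A.left := GeometricallyIntegral.isIntegral_of_subsingleton A.hom
  letI : A.left.Over (Spec (CommRingCat.of k)) := ⟨A.hom⟩
  haveI : IsProper (A.left ↘ Spec (CommRingCat.of k)) := inferInstanceAs (IsProper A.hom)
  haveI := CurveCohLib.isNoetherian_of_proper (k := k) (X := A.left)
  obtain ⟨g, hg⟩ := AVTors.exists_dimNat A
  choose C hC using fun j => CohGrowth.isBdd_dist_update k (L := fun _ : Fin 1 => L) (fun _ => hL) hg.le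
    (M := Coh.structureModule A.left) QCoh.isCoh_structureModule' 0 j
  let C₀ := ∑ j ∈ Finset.range (g + 1), C j
  let T := C₀ * 2 ^ g + 1
  obtain ⟨i, -, hi, -⟩ := exists_conc_pow hL hg hne (t := T) (Nat.succ_pos _)
  refine ⟨i, T, fun t ht => ?_⟩
  induction t, ht using Nat.le_induction with
  | base => exact hi
  | succ t ht ih =>
    obtain ⟨i₁, hi₁g, hi₁, hval⟩ := exists_conc_pow hL hg hne (t := t + 1) (Nat.succ_pos _)
    obtain ⟨i₀, hi₀g, hi₀, hval₀⟩ := exists_conc_pow hL hg hne (t := t) (by omega)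
    obtain rfl : i₀ = i := hi₀.unique ih
    by_cases he : i₁ = i₀
    · exact he ▸ hi₁
    exfalso
    have hb : Nat.dist (h A (CohB1.tensorPow L (t + 1)) i₀) (h A (CohB1.tensorPow L t) i₀) ≤
        C i₀ * CohGrowth.w g t := by
      have hb' := hC i₀ (fun _ => t)
      have hu : Function.update (fun _ : Fin 1 => t) 0 (t + 1) = fun _ => t + 1 := by
        funext l
        rw [Subsingleton.elim l 0, Function.update_self]
      dsimp only at hb'
      rw [hu, hgt_structure, hgt_structure, Finset.sum_const, Finset.card_univ, Fintype.card_fin, one_smul] at hb'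
      exact hb'
    rw [hi₁.1 i₀ (Ne.symm he), Nat.dist_zero_left, hval₀] at hb
    have h1 := le_of_growth (Int.natAbs_ne_zero.2 hne) (by omega) hb
    have h2 : C i₀ ≤ C₀ := Finset.single_le_sum (f := C) (fun j _ => Nat.zero_le _) (Finset.mem_range.2 (by omega))
    have h3 : C i₀ * 2 ^ g ≤ C₀ * 2 ^ g := Nat.mul_le_mul_right _ h2
    omega

/-- **The index is the stable index.** -/
theorem stable_of_conc {i : ℕ} (hc : Conc A L i) : Stable A L i := by
  obtain ⟨i', T, hT⟩ := exists_stable hL hc.euler_ne_zero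
  suffices i = i' by subst this; exact ⟨T, hT⟩
  let Ω := AlgebraicClosure k
  let σ : Spec (CommRingCat.of Ω) ⟶ Spec (CommRingCat.of k) := Spec.map (CommRingCat.ofHom (algebraMap k Ω))
  let B := Red.bc σ A
  haveI : IsProper B.hom := inferInstanceAs (IsProper (pullback.snd A.hom σ))
  haveI : GeometricallyIntegral B.hom := inferInstanceAs (GeometricallyIntegral (pullback.snd A.hom σ))
  obtain ⟨m, hTm, hm⟩ : ∃ m : ℕ, T ≤ m ∧ (m : Ω) ≠ 0 := by
    by_cases h : ((T + 1 : ℕ) : Ω) = 0
    · exact ⟨T + 1 + 1, by omega, by rw [Nat.cast_add, h, Nat.cast_one, zero_add]; exact one_ne_zero⟩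
    · exact ⟨T + 1, by omega, h⟩
  let p : B.left ⟶ A.left := pullback.fst A.hom σ
  have hB : PicF.IsInvertible ((Scheme.Modules.pullback p).obj L) := PicClLib.isInvertible_pullback _ hL
  have h2 : Conc B ((Scheme.Modules.pullback p).obj (CohB1.tensorPow L (m ^ 2))) i' :=
    (conc_bc_iff Ω (isCoh (PicMul.isInvertible_tensorPow hL _)) i').2
      (hT _ (hTm.trans (Nat.le_self_pow two_ne_zero m)))
  have e : Nonempty ((Scheme.Modules.pullback p).obj (CohB1.tensorPow L (m ^ 2)) ≅
      CohB1.tensorPow ((Scheme.Modules.pullback p).obj L) (m ^ 2)) := by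
    refine (PicGrp.cl_eq_cl_iff _ _).1 ?_
    show PicMul.pullHom p (PicF.cl (CohB1.tensorPow L (m ^ 2))) = _
    rw [PicMul.cl_tensorPow, map_pow, PicMul.cl_tensorPow]
    rfl
  exact eq_of_conc_sq (A := B) hB hm ((conc_bc_iff Ω (isCoh hL) i).2 hc) (h2.congr e.some)

/-- **The index is unchanged by powers.** -/
theorem conc_pow {i : ℕ} (hc : Conc A L i) {m : ℕ} (hm : 0 < m) : Conc A (CohB1.tensorPow L m) i := by
  obtain ⟨g, hg⟩ := AVTors.exists_dimNat A
  obtain ⟨i', -, hi', -⟩ := exists_conc_pow hL hg hc.euler_ne_zero hm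
  suffices i = i' by subst this; exact hi'
  obtain ⟨T, hT⟩ := stable_of_conc hL hc
  refine Stable.unique (A := A) (L := CohB1.tensorPow L m) ⟨T, fun t ht => ?_⟩
    (stable_of_conc (PicMul.isInvertible_tensorPow hL m) hi')
  exact (hT (m * t) (ht.trans (Nat.le_mul_of_pos_left t hm))).congr (tensorPow_mul L m t).some.symm

end AnyField

section Isogeny

variable {X Y : Over (Spec (CommRingCat.of k))}
  [GrpObj X] [IsProper X.hom] [GeometricallyIntegral X.hom]
  [GrpObj Y] [IsProper Y.hom] [GeometricallyIntegral Y.hom]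
  (f : X ⟶ Y) [IsFinite f.left] [Flat f.left]

/-- The degree. -/
theorem exists_degree : ∃ d, 0 < d ∧ ∀ y : ↥Y.left, Scheme.Hom.finrank f.left y = d := by
  haveI : IsIntegral X.left := GeometricallyIntegral.isIntegral_of_subsingleton X.hom
  haveI : IsIntegral Y.left := GeometricallyIntegral.isIntegral_of_subsingleton Y.hom
  haveI : IsLocallyNoetherian Y.left := LocallyOfFiniteType.isLocallyNoetherian Y.hom
  haveI : LocallyOfFinitePresentation f.left :=
    AlgStLib.locallyOfFinitePresentation_of_isLocallyNoetherian f.left inferInstance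
  obtain ⟨x⟩ := (inferInstance : Nonempty X.left)
  exact ⟨_, f.left.one_le_finrank_map x, fun y =>
    (Scheme.Hom.isLocallyConstant_finrank f.left).apply_eq_of_preconnectedSpace y (f.left x)⟩

/-- An isogeny preserves the dimension. -/
theorem dim_eq [Surjective f.left] : topologicalKrullDim ↥X.left = topologicalKrullDim ↥Y.left := by
  haveI : IsIntegral X.left := GeometricallyIntegral.isIntegral_of_subsingleton X.hom
  haveI : IsIntegral Y.left := GeometricallyIntegral.isIntegral_of_subsingleton Y.hom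
  haveI : IsLocallyNoetherian Y.left := LocallyOfFiniteType.isLocallyNoetherian Y.hom
  have h3 := VarDim.deg_eq_add f.left Y.hom (Over.w f) (genericPoint X.left)
  rw [H23.Isogeny.fdeg_eq_zero_of_finite f.left, add_zero] at h3
  have hgen : f.left (genericPoint X.left) = genericPoint Y.left :=
    ((genericPoint_spec X.left).image f.left.continuous).eq (by
      convert genericPoint_spec Y.left using 1
      rw [Set.image_univ, f.left.surjective.range_eq, closure_univ])
  rw [hgen] at h3
  rw [VarDim.topologicalKrullDim_eq_deg_genericPoint X.hom, VarDim.topologicalKrullDim_eq_deg_genericPoint Y.hom, h3]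

/-- The cohomology of a pullback is that of the twisted pushed forward structure module. -/
theorem h_pullback (L : Y.left.Modules) (hL : PicF.IsInvertible L) (j : ℕ) :
    h X ((Scheme.Modules.pullback f.left).obj L) j =
      h Y (CohB1.tensorMod ((Scheme.Modules.pushforward f.left).obj (Coh.structureModule X.left)) L) j := by
  haveI : IsLocallyNoetherian Y.left := LocallyOfFiniteType.isLocallyNoetherian Y.hom
  haveI : LocallyOfFinitePresentation f.left :=
    AlgStLib.locallyOfFinitePresentation_of_isLocallyNoetherian f.left inferInstance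
  obtain ⟨d, -, hd⟩ := exists_degree f
  have hE : FlatMod.IsFinLocFreeOfRank d ((Scheme.Modules.pushforward f.left).obj (Coh.structureModule X.left)) :=
    H23.CoverPush.isFinLocFreeOfRank_push_of_isCover f.left ⟨⟨inferInstance, inferInstance, inferInstance⟩, hd⟩
  have hEf : FlatMod.IsFinLocFree ((Scheme.Modules.pushforward f.left).obj (Coh.structureModule X.left)) :=
    fun x => let ⟨U, hx, e⟩ := hE x; ⟨U, d, hx, e⟩
  obtain ⟨p⟩ := KFlatLib.nonempty_push_pull_iso f.left (QCoh.isFlat_and_isFP_iff.2 hEf).1 (isCoh hL).1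
  letI : X.left.Over (Spec (CommRingCat.of k)) := ⟨X.hom⟩
  letI : Y.left.Over (Spec (CommRingCat.of k)) := ⟨Y.hom⟩
  obtain ⟨l⟩ := PnCoh.exists_linearEquiv_push k f.left (Over.w f) (QCoh.isQCoh_pullback f.left (isCoh hL).1) j
  exact l.finrank_eq.trans (h_congr (A := Y) p j).symm

/-- High powers: the pullback has `d` times the cohomology, up to lower order. -/
theorem exists_dist_bound {g : ℕ} (hg : topologicalKrullDim ↥Y.left = g) {d : ℕ}
    (hd : ∀ y : ↥Y.left, Scheme.Hom.finrank f.left y = d) {L : Y.left.Modules} (hL : PicF.IsInvertible L) (j : ℕ) :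
    ∃ C, ∀ t, Nat.dist (h X (CohB1.tensorPow ((Scheme.Modules.pullback f.left).obj L) t) j)
      (d * h Y (CohB1.tensorPow L t) j) ≤ C * CohGrowth.w g t := by
  haveI : IsIntegral Y.left := GeometricallyIntegral.isIntegral_of_subsingleton Y.hom
  haveI : IsLocallyNoetherian Y.left := LocallyOfFiniteType.isLocallyNoetherian Y.hom
  haveI : LocallyOfFinitePresentation f.left :=
    AlgStLib.locallyOfFinitePresentation_of_isLocallyNoetherian f.left inferInstance
  letI : Y.left.Over (Spec (CommRingCat.of k)) := ⟨Y.hom⟩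
  haveI : IsProper (Y.left ↘ Spec (CommRingCat.of k)) := inferInstanceAs (IsProper Y.hom)
  haveI := CurveCohLib.isNoetherian_of_proper (k := k) (X := Y.left)
  let E := (Scheme.Modules.pushforward f.left).obj (Coh.structureModule X.left)
  obtain ⟨C, hC⟩ := CohGrowth.isBdd_dist_free k (L := fun _ : Fin 1 => L) (fun _ => hL) hg.le (E := E)
    (H23.CoverPush.isFinLocFreeOfRank_push_of_isCover f.left ⟨⟨inferInstance, inferInstance, inferInstance⟩, hd⟩) j
  refine ⟨C, fun t => ?_⟩
  let P := CohB1.tensorPow L t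
  have hP : PicF.IsInvertible P := PicMul.isInvertible_tensorPow hL t
  haveI := AmpleVan.isEquivalence_tw hP
  haveI : (AmpleVan.tw P).Additive := Functor.additive_of_preserves_binary_products _
  haveI : Module.Finite k (Coh.HH Y.left ((AmpleVan.tw P).obj (Coh.structureModule Y.left)) j) :=
    S0002.result k Y.left _ (AmpleVan.isCoh_tensor QCoh.isCoh_structureModule' (isCoh hP)) j
  have h1 : Nat.dist (h Y (CohB1.tensorMod E P) j) (h Y (CohB1.tensorMod (FlatMod.freeMod Y.left d) P) j) ≤
      C * CohGrowth.w g t := by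
    have hC' := hC (fun _ => t)
    rw [Finset.sum_const, Finset.card_univ, Fintype.card_fin, one_smul] at hC'
    exact hC'
  have h2 : h Y (CohB1.tensorMod (FlatMod.freeMod Y.left d) P) j = d * h Y P j :=
    (CohGrowth.finrank_HH_map_free k (AmpleVan.tw P) d j).trans
      (congrArg (d * ·) (h_congr (A := Y) (CurveTensor.structureTensorIso P) j))
  rwa [← h_pullback f P hP, h2, h_congr (nonempty_pullback_tensorPow (A := X) f.left L t).some] at h1

/-- **An isogeny preserves the index.** -/
theorem conc_pullback [Surjective f.left] {L : Y.left.Modules} (hL : PicF.IsInvertible L) {i : ℕ}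
    (hc : Conc Y L i) : Conc X ((Scheme.Modules.pullback f.left).obj L) i := by
  haveI : IsIntegral Y.left := GeometricallyIntegral.isIntegral_of_subsingleton Y.hom
  obtain ⟨d, hd0, hd⟩ := exists_degree f
  obtain ⟨g, hg⟩ := AVTors.exists_dimNat Y
  have hgX : topologicalKrullDim ↥X.left = g := (dim_eq f).trans hg
  let L' := (Scheme.Modules.pullback f.left).obj L
  have hL' : PicF.IsInvertible L' := PicClLib.isInvertible_pullback _ hL
  have hne : @Curv2.euler k _ X.left ⟨X.hom⟩ L' ≠ 0 := by
    rw [AVEuler.euler_pullback f d hd (isCoh hL)]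
    exact mul_ne_zero (by exact_mod_cast hd0.ne') hc.euler_ne_zero
  obtain ⟨i', hi'⟩ := exists_conc hL' hne
  suffices i = i' by subst this; exact hi'
  obtain ⟨T, hT⟩ := stable_of_conc hL hc
  obtain ⟨T', hT'⟩ := stable_of_conc hL' hi'
  by_contra hne'
  obtain ⟨C, hC⟩ := exists_dist_bound f hg hd hL i'
  let t := T + T' + C * 2 ^ g + 1
  have h1 := hC t
  rw [(hT t (by omega)).1 i' (Ne.symm hne'), mul_zero, Nat.dist_zero_right] at h1
  obtain ⟨i'', -, hi'', hval⟩ := exists_conc_pow hL' hgX hne (t := t) (Nat.succ_pos _)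
  obtain rfl : i'' = i' := hi''.unique (hT' t (by omega))
  rw [hval] at h1
  have := le_of_growth (Int.natAbs_ne_zero.2 hne) (Nat.succ_pos _) h1
  omega

end Isogeny

end Groth.Agent.AVIndexStable
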