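import Groth.Agent.Lib.AVDegPoly
import Groth.Prelude.Def_EndRing

/-!
The degree of an endomorphism as a multiplicative function with values in `ℕ`.
-/

set_option autoImplicit false
set_option linter.style.haveILetI false
set_option linter.unusedSectionVars false
set_option backward.isDefEq.respectTransparency false
set_option backward.isDefEq.respectTransparency.types false
set_option maxHeartbeats 1000000

universe u

open CategoryTheory CategoryTheory.Limits MonoidalCategory CartesianMonoidalCategory MonObj AlgebraicGeometry TopologicalSpace
open Groth.Agent.H23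

noncomputable section

namespace Groth.Agent.AVNu

variable {k : Type u} [Field k]

local instance overLeft (T : Over (Spec (CommRingCat.of k))) : T.left.Over (Spec (CommRingCat.of k)) := ⟨T.hom⟩

local instance isProper_overLeft (T : Over (Spec (CommRingCat.of k))) [IsProper T.hom] :
    IsProper (T.left ↘ Spec (CommRingCat.of k)) := ‹IsProper T.hom›

variable {A B C : Over (Spec (CommRingCat.of k))}
  [IsProper A.hom] [GeometricallyIntegral A.hom] [IsProper B.hom] [GeometricallyIntegral B.hom]
  [IsProper C.hom] [GeometricallyIntegral C.hom]

local instance isIntegral_left (T : Over (Spec (CommRingCat.of k))) [GeometricallyIntegral T.hom] :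
    IsIntegral T.left := GeometricallyIntegral.isIntegral_of_subsingleton T.hom

/-- The degree, zero for morphisms which are not surjective. -/
def nu (f : A ⟶ B) : ℕ :=
  AlgebraicCycle.mapCoeff f.left (SnapLead.δ k) (SnapLead.δ k) (genericPoint A.left)

theorem map_generic {g : ℕ} (hB : topologicalKrullDim B.left = g) (hA : topologicalKrullDim A.left = g)
    (f : A ⟶ B) (h : SnapLead.δ k (genericPoint A.left) = SnapLead.δ k (f.left (genericPoint A.left))) :
    f.left (genericPoint A.left) = genericPoint B.left :=
  TopInt.eq_generic_of_delta k hB (h.symm.trans (TopInt.delta_generic k hA))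

theorem delta_image_le (f : A ⟶ B) (x : A.left) : SnapLead.δ k (f.left x) ≤ SnapLead.δ k x := by
  obtain ⟨n, -, hδ⟩ := IntPush.deltaCompat k f.left (Over.w f) x
  omega

theorem nu_comp {g : ℕ} (hA : topologicalKrullDim A.left = g) (hB : topologicalKrullDim B.left = g)
    (f : A ⟶ B) (h : B ⟶ C) : nu (f ≫ h) = nu f * nu h := by
  have hηB := TopInt.delta_generic k hB
  have hηA := TopInt.delta_generic k hA
  have hle := delta_image_le f (genericPoint A.left)
  simp only [nu, AlgebraicCycle.mapCoeff]
  have hc : (f ≫ h).left (genericPoint A.left) = h.left (f.left (genericPoint A.left)) := rfl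
  by_cases h1 : SnapLead.δ k (genericPoint A.left) = SnapLead.δ k (f.left (genericPoint A.left))
  · have e := map_generic hB hA f h1
    by_cases h2 : SnapLead.δ k (genericPoint B.left) = SnapLead.δ k (h.left (genericPoint B.left))
    · rw [if_pos h1, if_pos h2, if_pos (show _ = SnapLead.δ k ((f ≫ h).left (genericPoint A.left)) by
        rw [hc, e, ← h2, hηA, hηB])]
      show (f.left ≫ h.left).residueDegree _ = _
      rw [CycLib.residueDegree_comp, e, mul_comm]
    · rw [if_pos h1, if_neg h2, mul_zero, if_neg (show ¬ _ = SnapLead.δ k ((f ≫ h).left (genericPoint A.left)) by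
        rw [hc, e, hηA, ← hηB]; exact h2)]
  · rw [if_neg h1, zero_mul, if_neg]
    have h3 := delta_image_le h (f.left (genericPoint A.left))
    intro h4
    rw [show (f ≫ h).left.base (genericPoint A.left) = h.left (f.left (genericPoint A.left)) from hc] at h4
    omega

theorem nu_id : nu (𝟙 A) = 1 := by
  simp only [nu, AlgebraicCycle.mapCoeff]
  refine (if_pos (show SnapLead.δ k (genericPoint A.left) = SnapLead.δ k ((𝟙 A : A ⟶ A).left (genericPoint A.left)) from rfl)).trans ?_
  exact CycLib.residueDegree_preimmersion (𝟙 A.left) _

variable [GrpObj A] [GrpObj B]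

theorem finrank_eq_nu {g : ℕ} (hA : topologicalKrullDim A.left = g) (hB : topologicalKrullDim B.left = g)
    (f : A ⟶ B) [IsMonHom f] (hfin : IsFinite f.left) (b : B.left) : f.left.finrank b = nu f := by
  haveI := CurveCohLib.isNoetherian_of_proper (k := k) (X := B.left)
  haveI := hfin
  haveI : Surjective f.left := ⟨fun x => by
    let η' := genericPoint A.left
    obtain ⟨n, hn, hδ⟩ := IntPush.deltaCompat k f.left (Over.w f) η'
    have hn0 : n = 0 := by
      letI := (f.left.residueFieldMap η').hom.toAlgebra
      haveI : Module.Finite (B.left.residueField (f.left η')) (A.left.residueField η') :=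
        MorLib.GF.finite_residueFieldMap f.left η'
      have := trdeg_eq_zero (R := B.left.residueField (f.left η')) (A := A.left.residueField η')
      rw [hn] at this
      exact_mod_cast this
    rw [hn0, Nat.cast_zero, add_zero] at hδ
    exact (genericPoint_specializes x).mem_closed f.left.isClosedMap.isClosed_range
      ⟨η', map_generic hB hA f hδ⟩⟩
  haveI : Flat f.left := (S19572.result k A B f (hA.trans hB.symm)).2
  haveI : LocallyOfFinitePresentation f.left := by
    haveI : LocallyOfFinitePresentation (f.left ≫ B.hom) := by rw [Over.w]; infer_instance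
    exact S12442.locallyOfFinitePresentation_of_comp f.left B.hom
  rw [nu, TopInt.mapCoeff_eq_finrank k f.left (Over.w f) hB hA]
  exact f.left.isLocallyConstant_finrank.apply_eq_of_isPreconnected isPreconnected_univ (Set.mem_univ b)
    (Set.mem_univ (genericPoint B.left))

theorem nu_eq_zero {g : ℕ} (hA : topologicalKrullDim A.left = g) (hB : topologicalKrullDim B.left = g)
    (f : A ⟶ B) [IsMonHom f] (hnf : ¬ IsFinite f.left) : nu f = 0 := by
  refine TopInt.mapCoeff_eq_zero k f.left (Over.w f) hB hA fun hs => hnf ?_
  exact (S19572.result k A B f (hA.trans hB.symm)).1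

/-- A function takes the values of the degree. -/
theorem eq_nu {g : ℕ} (hA : topologicalKrullDim A.left = g) (hB : topologicalKrullDim B.left = g)
    (f : A ⟶ B) [IsMonHom f] {R : Type*} [Semiring R] {v : R}
    (h : (IsFinite f.left → ∀ b : B.left, (f.left.finrank b : R) = v) ∧ (¬ IsFinite f.left → v = 0)) :
    v = (nu f : R) := by
  by_cases hfin : IsFinite f.left
  · rw [← finrank_eq_nu hA hB f hfin (genericPoint B.left)]
    exact (h.1 hfin _).symm
  · rw [h.2 hfin, nu_eq_zero hA hB f hfin]
    simp

end Groth.Agent.AVNu
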