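import Groth.Agent.Lib.NegVanClosed
import Groth.Agent.Lib.AmpleEmbedPow
import Groth.Agent.H23.InvStalk
import Groth.Agent.Hensel.DepthFlat
import Groth.Agent.Lib.CurveTensor
import Groth.Agent.ParShLib.ResStalk
import Groth.Agent.Lib.CurveDeg

/-!
Vanishing of cohomology on negative powers of an ample module, from depth at the closed points.
-/

set_option linter.style.haveILetI false
set_option linter.unusedSectionVars false
set_option linter.overlappingInstances false
set_option backward.isDefEq.respectTransparency false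
set_option backward.isDefEq.respectTransparency.types false
set_option maxHeartbeats 1000000

universe u

open CategoryTheory CategoryTheory.Limits AlgebraicGeometry TopologicalSpace Opposite Filter
open Groth.Agent.H23

noncomputable section

namespace Groth.Agent.NegVanAmple

/-- Tensoring by an invertible module keeps the depth of the stalks. -/
theorem depth_stalk_tensor {X : Scheme.{u}} [IsLocallyNoetherian X] {F P : X.Modules} (x : X)
    (hP : PicF.IsInvertible P) :
    LocCoh.depth (X.presheaf.stalk x) ((CohB1.tensorMod F P).presheaf.stalk x) =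
      LocCoh.depth (X.presheaf.stalk x) (F.presheaf.stalk x) := by
  obtain ⟨e⟩ := InvStalk.exists_stalk_equiv hP x
  haveI : IsNoetherianRing (X.presheaf.stalk x) := inferInstance
  exact Hensel.depth_congr (R := X.presheaf.stalk x)
    ((KFlatLib.stalkTensorIso x F P).toLinearEquiv.symm.trans
      ((TensorProduct.congr (LinearEquiv.refl _ _) e).trans (TensorProduct.rid _ _)))

open scoped Groth.Agent.H23.PicMul in
/-- The negative twists are inverse to the powers of `O(1)`. -/
theorem cl_twist_neg {R A : Type u} [CommRing R] [CommRing A] [Algebra R A]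
    {𝒜 : ℕ → Submodule R A} [GradedAlgebra 𝒜] {κ : Type u} (g : κ → A) (hg : ∀ j, g j ∈ 𝒜 1)
    (hcov : ⨆ j, PnCoh.Finite.D 𝒜 (g j) = ⊤) (q : ℕ) :
    PicF.cl (Twist.twist 𝒜 (-(q : ℤ))) * PicF.cl (Twist.twist 𝒜 1) ^ q = 1 := by
  obtain ⟨w⟩ := PnCoh.Finite.twist_tensor_iso g hg hcov (-(q : ℤ)) (q : ℤ)
  obtain ⟨w'⟩ := PnCoh.Finite.twist_tensorPow_iso g hg hcov q
  rw [← PicMul.cl_tensorPow, ← PicMul.cl_eq_iff.2 ⟨w'⟩, ← PicMul.cl_tensor, PicMul.one_def, PicMul.cl_eq_iff]
  exact ⟨w ≪≫ eqToIso (by rw [neg_add_cancel]) ≪≫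
    (@asIso _ _ _ _ _ (PnCoh.Finite.isIso_oneHom g hg hcov)).symm⟩

variable {k : Type u} [Field k] {X : Scheme.{u}} (f : X ⟶ Spec (CommRingCat.of k)) [IsProper f]

include f in
/-- Negative powers of an ample module kill cohomology below the depth. -/
theorem exists_vanishing {L M F : X.Modules} (hL : CohB1.IsAmple L) (hM : ClSub.IsInverseOf L M) (hF : Coh.IsCoh F)
    (c : ℕ) (hdep : ∀ x : X, IsClosed ({x} : Set X) →
      (c : ℕ∞) ≤ LocCoh.depth (X.presheaf.stalk x) (F.presheaf.stalk x)) (j : ℕ) (hj : j < c) :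
    ∃ n₀ : ℕ, ∀ m : ℕ, n₀ ≤ m → Subsingleton (Coh.HH X (CohB1.tensorMod F (CohB1.tensorPow M m)) j) := by
  obtain ⟨N, ι, a, ha, hι, -, ⟨τ⟩⟩ := AmpleEmbedPow.exists_closedImmersion f hL
  haveI := hι
  haveI := NegVanStalk.noetherian k N
  haveI : IsLocallyNoetherian X := LocallyOfFiniteType.isLocallyNoetherian ι
  letI := PicMul.clMonoid X
  letI := PicMul.clMonoid (CohB1.ProjSpace N k)
  have hMinv : PicF.IsInvertible M := by
    obtain ⟨D, hD, e⟩ := PicInv.exists_inverse hL.1
    have h1 : PicF.cl L * PicF.cl D = 1 := PicMul.cl_eq_iff.2 e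
    have h2 : PicF.cl L * PicF.cl M = 1 := PicMul.cl_eq_iff.2 hM
    obtain ⟨w⟩ := PicMul.cl_eq_iff.1 (left_inv_eq_right_inv ((mul_comm _ _).trans h1) h2)
    exact PicMul.isInvertible_of_iso w hD
  have hLM : PicF.cl L * PicF.cl M = 1 := PicMul.cl_eq_iff.2 hM
  have hneg : ∀ q : ℕ, PicF.cl ((Scheme.Modules.pullback ι).obj (Twist.twistProjSpace N k (-(q : ℤ)))) =
      PicF.cl M ^ (a * q) := by
    intro q
    have h1 := cl_twist_neg (ProjRegular.coords k N) ProjRegular.coords_mem ProjRegular.coords_cover q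
    have h2 := congrArg (PicMul.pullHom ι) h1
    rw [map_mul, map_pow, map_one] at h2
    change PicF.cl ((Scheme.Modules.pullback ι).obj (Twist.twistProjSpace N k (-(q : ℤ)))) *
      PicF.cl ((Scheme.Modules.pullback ι).obj (Twist.twistProjSpace N k 1)) ^ q = 1 at h2
    have h3 : PicF.cl ((Scheme.Modules.pullback ι).obj (Twist.twistProjSpace N k 1)) = PicF.cl L ^ a :=
      (PicMul.cl_eq_iff.2 ⟨τ⟩).trans (PicMul.cl_tensorPow L a)
    have h4 : PicF.cl ((Scheme.Modules.pullback ι).obj (Twist.twistProjSpace N k (-(q : ℤ)))) *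
        (PicF.cl L ^ a) ^ q = 1 := by
      rw [← h3]; exact h2
    refine left_inv_eq_right_inv h4 ?_
    rw [← pow_mul, ← mul_pow, hLM, one_pow]
  have key : ∀ r : ℕ, ∀ᶠ q : ℕ in atTop,
      Subsingleton (Coh.HH X (CohB1.tensorMod F (CohB1.tensorPow M (a * q + r))) j) := by
    intro r
    have hPr : PicF.IsInvertible (CohB1.tensorPow M r) := PicMul.isInvertible_tensorPow hMinv r
    have hFr : Coh.IsCoh (CohB1.tensorMod F (CohB1.tensorPow M r)) :=
      ParShLib.isCoh_tensorMod hF (CurveDeg.isCoh_of_isInvertible hPr)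
    have h := (NegVanClosed.negVan_closed_iff ι hFr c).2 (fun x hx => by
      rw [depth_stalk_tensor x hPr]; exact hdep x hx) j hj
    obtain ⟨e₀, he₀⟩ := eventually_atBot.1 h
    refine eventually_atTop.2 ⟨(-e₀).toNat, fun q hq => ?_⟩
    have hc : PicF.cl (CohB1.tensorMod F (CohB1.tensorPow M (a * q + r))) =
        PicF.cl (CohB1.tensorMod (CohB1.tensorMod F (CohB1.tensorPow M r))
          ((Scheme.Modules.pullback ι).obj (Twist.twistProjSpace N k (-(q : ℤ))))) := by
      rw [PicMul.cl_tensor, PicMul.cl_tensor, PicMul.cl_tensor, hneg, PicMul.cl_tensorPow, PicMul.cl_tensorPow,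
        mul_assoc, ← pow_add, add_comm r]
    obtain ⟨w⟩ := PicMul.cl_eq_iff.1 hc
    exact QCoh.subsingleton_HH_of_iso w.symm j (he₀ _ (by omega))
  obtain ⟨q₀, hq₀⟩ := eventually_atTop.1 ((eventually_all_finset (Finset.range a)).2 fun r _ => key r)
  refine ⟨a * (q₀ + 1), fun m hm => ?_⟩
  have h := hq₀ (m / a) ?_ (m % a) (Finset.mem_range.2 (Nat.mod_lt _ (by omega)))
  · rwa [Nat.div_add_mod] at h
  · exact (Nat.le_div_iff_mul_le (by omega)).2 (by nlinarith)

end Groth.Agent.NegVanAmple
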