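import Groth.Agent.HensCouple7.Gamma
import Groth.Agent.ProperComp7.Main
import Groth.Agent.GeomField.Connected
import Groth.Agent.GrpSchLib.FieldSmooth
import Groth.Agent.Hensel.EtaleResidueExt
import Groth.Agent.CILib.Basic
import Groth.Agent.LinTop7.Misc

/-!
# Zariski's connectedness theorem
-/

set_option autoImplicit false

universe u

open CategoryTheory CategoryTheory.Limits AlgebraicGeometry TopologicalSpace

namespace Groth.Agent.ZarConn

/-- A scheme whose global functions form a local ring is connected. -/
theorem connectedSpace_of_isLocalRing (X : Scheme.{u}) [IsLocalRing Γ(X, ⊤)] : ConnectedSpace X := by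
  have hne : Nonempty X := by
    by_contra h
    haveI : IsEmpty X := not_nonempty_iff.mp h
    exact one_ne_zero (α := Γ(X, ⊤))
      (HensCouple7.eq_of_basicOpen_eq (by simp) (by simp) (Subsingleton.elim _ _))
  haveI : PreconnectedSpace X := by
    refine preconnectedSpace_iff_clopen.mpr fun U hU => ?_
    obtain ⟨ε, hε, hεU⟩ := HensCouple7.exists_idempotent_of_isClopen hU
    rcases IsLocalRing.isUnit_or_isUnit_one_sub_self ε with h | h
    · exact Or.inr (by rw [← hεU, Scheme.basicOpen_of_isUnit _ h]; rfl)
    · refine Or.inl ?_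
      rw [← hεU, show ε = 0 from h.mul_left_eq_zero.mp (by linear_combination -hε),
        Scheme.basicOpen_zero]
      rfl
  exact ⟨hne⟩

theorem connectedSpace_of_bijective_map {P Q : Type u} [TopologicalSpace P] [TopologicalSpace Q]
    [ConnectedSpace Q] {g : P → Q} (hg : Continuous g)
    (h : Function.Bijective hg.connectedComponentsMap) : ConnectedSpace P := by
  haveI : Subsingleton (_root_.ConnectedComponents Q) := inferInstance
  haveI : Subsingleton (_root_.ConnectedComponents P) := h.1.subsingleton
  obtain ⟨a, -⟩ := h.2 (ConnectedComponents.mk (Classical.arbitrary Q))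
  obtain ⟨p, -⟩ := ConnectedComponents.surjective_coe a
  haveI : PreconnectedSpace P := ⟨by
    rw [show (Set.univ : Set P) = connectedComponent p from (Set.eq_univ_of_forall fun z =>
      ConnectedComponents.coe_eq_coe'.mp (Subsingleton.elim _ _)).symm]
    exact isPreconnected_connectedComponent⟩
  exact ⟨⟨p⟩⟩

/-- The closed fibre of a connected scheme proper over a complete local ring is connected. -/
theorem connectedSpace_closedFibre {B : Type u} [CommRing B] [IsNoetherianRing B] (I : Ideal B)
    [IsAdicComplete I B] {X : Scheme.{u}} [ConnectedSpace X] (q : X ⟶ Spec (CommRingCat.of B)) [IsProper q] :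
    ConnectedSpace ↥(pullback q (Spec.map (CommRingCat.ofHom (Ideal.Quotient.mk I)))) :=
  connectedSpace_of_bijective_map _ (ProperComp7.bijective_closedFibre (A := B) (I := I) q)

theorem connectedSpace_fibre_surjective {B l : Type u} [CommRing B] [IsLocalRing B] [IsNoetherianRing B]
    [IsAdicComplete (IsLocalRing.maximalIdeal B) B] [Field l] (ψ : B →+* l) (hψ : Function.Surjective ψ)
    {X : Scheme.{u}} [ConnectedSpace X] (q : X ⟶ Spec (CommRingCat.of B)) [IsProper q] :
    ConnectedSpace ↥(pullback q (Spec.map (CommRingCat.ofHom ψ))) := by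
  haveI : (RingHom.ker ψ).IsMaximal := RingHom.ker_isMaximal_of_surjective ψ hψ
  have hker : RingHom.ker ψ = IsLocalRing.maximalIdeal B := IsLocalRing.eq_maximalIdeal inferInstance
  haveI : IsAdicComplete (RingHom.ker ψ) B := by rw [hker]; infer_instance
  haveI := connectedSpace_closedFibre (RingHom.ker ψ) q
  let e := RingHom.quotientKerEquivOfSurjective hψ
  let iso : Spec (CommRingCat.of l) ≅ Spec (CommRingCat.of (B ⧸ RingHom.ker ψ)) :=
    Scheme.Spec.mapIso e.toCommRingCatIso.op
  have hiso : iso.hom ≫ Spec.map (CommRingCat.ofHom (Ideal.Quotient.mk (RingHom.ker ψ))) =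
      Spec.map (CommRingCat.ofHom ψ) := by
    show Spec.map e.toCommRingCatIso.hom ≫ _ = _
    rw [← Spec.map_comp]
    rfl
  let ρ := pullback.map q (Spec.map (CommRingCat.ofHom ψ)) q
    (Spec.map (CommRingCat.ofHom (Ideal.Quotient.mk (RingHom.ker ψ)))) (𝟙 _) iso.hom (𝟙 _)
    (by simp) (by rw [Category.comp_id, hiso])
  exact (asIso ρ).hom.homeomorph.connectedSpace_iff.mpr inferInstance

variable {X Y : Scheme.{u}} (f : X ⟶ Y)

theorem isIso_appTop_restrict (hf : ∀ U : Y.Opens, IsIso (f.app U)) (V : Y.Opens) :
    IsIso (f ∣_ V).appTop := by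
  rw [Scheme.Hom.appTop, morphismRestrict_app]
  exact @IsIso.comp_isIso _ _ _ _ _ _ _ (hf _) (Functor.map_isIso _ _)

/-- Zariski connectedness for one point of a flat complete local base change. -/
theorem connectedSpace_bc [IsProper f] (hf : ∀ U : Y.Opens, IsIso (f.app U)) {V : Y.Opens} (hV : IsAffineOpen V)
    {B l : Type u} [CommRing B] [IsLocalRing B] [IsNoetherianRing B]
    [IsAdicComplete (IsLocalRing.maximalIdeal B) B] [Field l] (ψ : B →+* l) (hψ : Function.Surjective ψ)
    (s : Spec (CommRingCat.of B) ⟶ V) [Flat s] :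
    ConnectedSpace ↥(pullback f (Spec.map (CommRingCat.ofHom ψ) ≫ s ≫ V.ι)) := by
  let X_B := pullback (f ∣_ V) s
  let q : X_B ⟶ Spec (CommRingCat.of B) := pullback.snd _ _
  haveI : IsAffine V := hV
  haveI : IsProper (f ∣_ V) := MorphismProperty.of_isPullback (isPullback_morphismRestrict f V).flip inferInstance
  haveI : CompactSpace ↥(f ⁻¹ᵁ V).toScheme := QuasiCompact.compactSpace_of_compactSpace (f ∣_ V)
  haveI : QuasiSeparatedSpace ↥(f ⁻¹ᵁ V).toScheme := quasiSeparatedSpace_of_quasiSeparated (f ∣_ V)
  haveI := isIso_appTop_restrict f hf V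
  haveI : IsIso q.appTop :=
    (HensCouple7.isPushout_appTop (IsPullback.of_hasPullback (f ∣_ V) s)).isIso_inr_of_isIso
  let e : B ≃+* Γ(X_B, ⊤) :=
    ((Scheme.ΓSpecIso (CommRingCat.of B)).symm ≪≫ asIso q.appTop).commRingCatIsoToRingEquiv
  haveI : IsLocalRing Γ(X_B, ⊤) := e.isLocalRing
  haveI := connectedSpace_of_isLocalRing X_B
  haveI := connectedSpace_fibre_surjective ψ hψ q
  let w := (IsPullback.of_hasPullback (f ∣_ V) s).paste_horiz (isPullback_morphismRestrict f V).flip
  let w' := (IsPullback.of_hasPullback q (Spec.map (CommRingCat.ofHom ψ))).paste_horiz w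
  exact (w'.isoPullback).hom.homeomorph.connectedSpace_iff.mp inferInstance

variable [IsProper f] [IsLocallyNoetherian Y]

theorem geometricallyConnected_fibre (hf : ∀ U : Y.Opens, IsIso (f.app U)) (y : Y) :
    GeometricallyConnected (f.fiberToSpecResidueField y) := by
  letI : (f.fiber y).Over (Spec (CommRingCat.of (Y.residueField y))) := ⟨f.fiberToSpecResidueField y⟩
  refine GeomField.geometricallyConnected_of_finiteSeparable (k := Y.residueField y) (X := f.fiber y)
    fun l _ _ _ _ => ?_
  let O := Y.presheaf.stalk y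
  haveI : IsNoetherianRing O := inferInstance
  letI : Algebra (IsLocalRing.ResidueField O) l := inferInstanceAs (Algebra (Y.residueField y) l)
  haveI : FiniteDimensional (IsLocalRing.ResidueField O) l :=
    inferInstanceAs (FiniteDimensional (Y.residueField y) l)
  haveI : Algebra.IsSeparable (IsLocalRing.ResidueField O) l :=
    inferInstanceAs (Algebra.IsSeparable (Y.residueField y) l)
  obtain ⟨E, _, _, _, _, _, _, ⟨e⟩⟩ := Hensel.exists_finite_etale_residueField O l
  haveI : IsNoetherianRing E := Algebra.FiniteType.isNoetherianRing O E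
  let B := AdicCompletion (IsLocalRing.maximalIdeal E) E
  haveI : IsNoetherianRing B := LC.Canon.isNoetherianRing_completion (R := E)
  haveI : IsLocalRing B :=
    LinTop7.isLocalRing_adicCompletion _ (IsNoetherian.noetherian _) le_rfl
  haveI := CILib.isAdicComplete_adicCompletion E
  let ψ : B →+* l := (e.toRingEquiv.toRingHom).comp (AdicCompletion.evalOneₐ (IsLocalRing.maximalIdeal E)).toRingHom
  have hψ : Function.Surjective ψ := e.surjective.comp (AdicCompletion.evalOneₐ_surjective _)
  let φ : O →+* B := (algebraMap E B).comp (algebraMap O E)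
  have hφψ : ψ.comp φ = (algebraMap (IsLocalRing.ResidueField O) l).comp (IsLocalRing.residue O) := by
    ext a
    show e ((AdicCompletion.evalOneₐ (IsLocalRing.maximalIdeal E)) (algebraMap E B (algebraMap O E a))) = _
    rw [AlgHom.commutes]
    exact e.commutes (IsLocalRing.residue O a)
  haveI : Flat (Spec.map (CommRingCat.ofHom φ)) := by
    rw [HasRingHomProperty.Spec_iff (P := @Flat)]
    exact RingHom.Flat.comp (RingHom.flat_algebraMap_iff.mpr inferInstance)
      (RingHom.flat_algebraMap_iff.mpr inferInstance)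
  obtain ⟨V, hV, hyV, -⟩ := exists_isAffineOpen_mem_and_subset (X := Y) (x := y) (U := ⊤) trivial
  haveI : Flat (V.fromSpecStalkOfMem y hyV) := by
    unfold Scheme.Opens.fromSpecStalkOfMem
    haveI := GrpSchLib.flat_fromSpecStalk (X := V.toScheme) ⟨y, hyV⟩
    infer_instance
  haveI := connectedSpace_bc f hf hV ψ hψ (Spec.map (CommRingCat.ofHom φ) ≫ V.fromSpecStalkOfMem y hyV)
  have heq : Spec.map (CommRingCat.ofHom (algebraMap (Y.residueField y) l)) ≫ Y.fromSpecResidueField y =
      Spec.map (CommRingCat.ofHom ψ) ≫ (Spec.map (CommRingCat.ofHom φ) ≫ V.fromSpecStalkOfMem y hyV) ≫ V.ι := by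
    rw [Category.assoc, Scheme.Opens.fromSpecStalkOfMem_ι, Scheme.fromSpecResidueField, ← Category.assoc,
      ← Category.assoc, ← Spec.map_comp, ← Spec.map_comp, ← CommRingCat.ofHom_comp, hφψ]
    rfl
  have : ConnectedSpace ↥(pullback f
      (Spec.map (CommRingCat.ofHom (algebraMap (Y.residueField y) l)) ≫ Y.fromSpecResidueField y)) := by
    rw [heq]; infer_instance
  exact (pullbackLeftPullbackSndIso f (Y.fromSpecResidueField y)
    (Spec.map (CommRingCat.ofHom (algebraMap (Y.residueField y) l)))).hom.homeomorph.connectedSpace_iff.mpr this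

theorem connectedSpace_fibre (hf : ∀ U : Y.Opens, IsIso (f.app U)) (y : Y) : ConnectedSpace ↥(f.fiber y) := by
  haveI := geometricallyConnected_fibre f hf y
  exact GeometricallyConnected.connectedSpace (f := f.fiberToSpecResidueField y) fun _ _ => isOpen_discrete _

theorem geometricallyConnected (hf : ∀ U : Y.Opens, IsIso (f.app U)) : GeometricallyConnected f :=
  (GeometricallyConnected.iff_geometricallyConnected_fiber (f := f)).mpr (geometricallyConnected_fibre f hf)

end Groth.Agent.ZarConn
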