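import Groth.Agent.S8914
import Groth.Agent.DivX.MeroMod
import Groth.Agent.Lib.DivisorExt
import Groth.Agent.H23.PicMul

/-!
The module of a product of two invertible ideals is the tensor product of the modules.
-/

set_option autoImplicit false
set_option linter.style.haveILetI false
set_option linter.unusedSectionVars false
set_option backward.isDefEq.respectTransparency false
set_option backward.isDefEq.respectTransparency.types false

universe u

open CategoryTheory CategoryTheory.Limits AlgebraicGeometry TopologicalSpace Opposite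
open Groth.Agent.H23

noncomputable section

namespace Groth.Agent.IdealModMul

attribute [local instance] PicMul.clMonoid

variable {X : Scheme.{u}}

/-- A frame of an ideal module generates the ideal and is a nonzerodivisor. -/
theorem frame_spec {I : X.IdealSheafData} {V : X.affineOpens} {e : Γ(ClSub.idealMod I, V.1)}
    (he : InvX.IsFrame e) :
    OmegaSh.idealSect I V.1 e ∈ nonZeroDivisors Γ(X, V.1) ∧ I.ideal V = Ideal.span {OmegaSh.idealSect I V.1 e} := by
  refine ⟨?_, le_antisymm (fun g hg => ?_) ?_⟩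
  · rw [mem_nonZeroDivisors_iff_right]
    intro r hr
    rw [← OmegaLib.idealSect_smul] at hr
    have h0 : r • e = 0 := OmegaLib.idealSect_injective I V.1 (hr.trans (map_zero _).symm)
    have := (he V.1 le_rfl).1 (a₁ := r) (a₂ := 0)
    simp only [AModX.res_self, zero_smul] at this
    exact this h0
  · obtain ⟨c, hc⟩ := OmegaLib.exists_of_mem I V g hg
    obtain ⟨r, hr⟩ := he.exists_coord le_rfl c
    rw [AModX.res_self] at hr
    rw [← hc, hr, OmegaLib.idealSect_smul]
    exact Ideal.mul_mem_left _ r (Ideal.mem_span_singleton_self _)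
  · rw [Ideal.span_singleton_le_iff_mem]
    exact OmegaLib.idealSect_mem I V e

theorem isInvertible_mul {A B : X.IdealSheafData} (hA : PicF.IsInvertible (ClSub.idealMod A))
    (hB : PicF.IsInvertible (ClSub.idealMod B)) : PicF.IsInvertible (ClSub.idealMod (A * B)) := by
  refine (S8914.result _).2 fun x => ?_
  obtain ⟨U₁, hx₁, a₀, ha₀⟩ := InvX.exists_frame hA x
  obtain ⟨U₂, hx₂, b₀, hb₀⟩ := InvX.exists_frame hB x
  obtain ⟨V, hV, hxV, hVU⟩ := exists_isAffineOpen_mem_and_subset (x := x) (U := U₁ ⊓ U₂) ⟨hx₁, hx₂⟩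
  obtain ⟨h1, h1'⟩ := frame_spec (V := ⟨V, hV⟩) (ha₀.res (show V ≤ U₁ from fun y hy => (hVU hy).1))
  obtain ⟨h2, h2'⟩ := frame_spec (V := ⟨V, hV⟩) (hb₀.res (show V ≤ U₂ from fun y hy => (hVU hy).2))
  refine ⟨⟨V, hV⟩, hxV, _, mul_mem h1 h2, ?_⟩
  rw [Scheme.IdealSheafData.ideal_mul, Pi.mul_apply, h1', h2', Ideal.span_singleton_mul_span_singleton]

/-- The class of the ideal module of a product. -/
theorem cl_mul {A B : X.IdealSheafData} (hA : PicF.IsInvertible (ClSub.idealMod A))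
    (hB : PicF.IsInvertible (ClSub.idealMod B)) :
    PicF.cl (ClSub.idealMod (A * B)) = PicF.cl (ClSub.idealMod A) * PicF.cl (ClSub.idealMod B) := by
  let T := CohB1.tensorMod (ClSub.idealMod B) (ClSub.idealMod A)
  let ψ : T ⟶ Coh.structureModule X := DivisorExt.mulIdeal A (ClSub.idealMod B) ≫ ClSub.idealModι B
  have hAB := isInvertible_mul hA hB
  have hfr : ∀ x : X, ∃ (V : X.affineOpens) (_ : x ∈ V.1) (t : Γ(T, V.1)), InvX.IsFrame t ∧
      (A * B).ideal V = Ideal.span {(show Γ(X, V.1) from OmegaSh.fnSect X V.1 (ψ.app V.1 t))} ∧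
      (show Γ(X, V.1) from OmegaSh.fnSect X V.1 (ψ.app V.1 t)) ∈ nonZeroDivisors Γ(X, V.1) ∧
      ∃ c : Γ(ClSub.idealMod (A * B), V.1), InvX.IsFrame c := by
    intro x
    obtain ⟨U₁, hx₁, a₀, ha₀⟩ := InvX.exists_frame hA x
    obtain ⟨U₂, hx₂, b₀, hb₀⟩ := InvX.exists_frame hB x
    obtain ⟨U₃, hx₃, c₀, hc₀⟩ := InvX.exists_frame hAB x
    obtain ⟨V, hV, hxV, hVU⟩ := exists_isAffineOpen_mem_and_subset (x := x) (U := U₁ ⊓ (U₂ ⊓ U₃)) ⟨hx₁, hx₂, hx₃⟩
    have ha := ha₀.res (show V ≤ U₁ from fun y hy => (hVU hy).1)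
    have hb := hb₀.res (show V ≤ U₂ from fun y hy => (hVU hy).2.1)
    have hc := hc₀.res (show V ≤ U₃ from fun y hy => (hVU hy).2.2)
    obtain ⟨h1, h1'⟩ := frame_spec (V := ⟨V, hV⟩) ha
    obtain ⟨h2, h2'⟩ := frame_spec (V := ⟨V, hV⟩) hb
    refine ⟨⟨V, hV⟩, hxV, _, InvX.isFrame_tmul hb ha, ?_, ?_, _, hc⟩
    all_goals
      have hψ : (show Γ(X, V) from OmegaSh.fnSect X V (ψ.app V (InvX.tmul (AModX.res _ _ b₀) (AModX.res _ _ a₀)))) =
          OmegaSh.idealSect A V (AModX.res _ (show V ≤ U₁ from fun y hy => (hVU hy).1) a₀) *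
            OmegaSh.idealSect B V (AModX.res _ (show V ≤ U₂ from fun y hy => (hVU hy).2.1) b₀) :=
        (congrArg (fun z => OmegaSh.fnSect X V ((ClSub.idealModι B).app V z))
          (DivisorExt.mulIdeal_tmS A (ClSub.idealMod B) (AModX.res _ (show V ≤ U₂ from fun y hy => (hVU hy).2.1) b₀)
            (AModX.res _ (show V ≤ U₁ from fun y hy => (hVU hy).1) a₀))).trans (OmegaLib.idealSect_smul B V _ _)
      rw [hψ]
    · rw [Scheme.IdealSheafData.ideal_mul, Pi.mul_apply, h1', h2', Ideal.span_singleton_mul_span_singleton]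
    · exact mul_mem h1 h2
  choose V hxV t ht hspan hnzd hcfr using hfr
  have hzero : ψ ≫ ClSub.toSubscheme (A * B) = 0 := by
    refine InvX.hom_ext_of_frames (fun x : X => (V x).1) (fun x => ⟨x, hxV x⟩) t ht fun x => ?_
    show (ClSub.toSubscheme (A * B)).app (V x).1 (ψ.app (V x).1 (t x)) = 0
    have hmem : (show Γ(X, (V x).1) from OmegaSh.fnSect X (V x).1 (ψ.app (V x).1 (t x))) ∈ (A * B).ideal (V x) := by
      rw [hspan x]
      exact Ideal.mem_span_singleton_self _
    rw [← (A * B).ker_subschemeι_app, RingHom.mem_ker] at hmem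
    exact hmem
  let φ : T ⟶ ClSub.idealMod (A * B) := kernel.lift _ ψ hzero
  have hφ : φ ≫ ClSub.idealModι (A * B) = ψ := kernel.lift_ι _ _ _
  haveI : IsIso φ := by
    refine DivX.isIso_of_frames φ fun x => ⟨(V x).1, hxV x, t x, ht x, ?_⟩
    obtain ⟨c, hc⟩ := hcfr x
    have hval : OmegaSh.idealSect (A * B) (V x).1 (φ.app (V x).1 (t x)) = OmegaSh.fnSect X (V x).1 (ψ.app (V x).1 (t x)) := by
      conv_rhs => rw [← hφ]
      rfl
    obtain ⟨r, hr⟩ := hc.exists_coord le_rfl (φ.app (V x).1 (t x))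
    rw [AModX.res_self] at hr
    obtain ⟨-, hcs⟩ := frame_spec hc
    have hmem : OmegaSh.idealSect (A * B) (V x).1 c ∈ (A * B).ideal (V x) := OmegaLib.idealSect_mem _ _ c
    rw [hspan x, Ideal.mem_span_singleton'] at hmem
    obtain ⟨q, hq⟩ := hmem
    rw [hr]
    refine hc.isUnit_smul (IsUnit.of_mul_eq_one q ?_)
    rw [hr, OmegaLib.idealSect_smul] at hval
    refine (mul_cancel_right_mem_nonZeroDivisors (hnzd x)).1 ?_
    rw [one_mul, mul_assoc, hq]
    exact hval
  rw [← PicMul.cl_tensor, PicMul.cl_eq_iff]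
  obtain ⟨s⟩ := PicMul.comm (ClSub.idealMod B) (ClSub.idealMod A)
  exact ⟨(asIso φ).symm ≪≫ s⟩

end Groth.Agent.IdealModMul
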