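import Groth.Agent.FlatMisc.SteinUC
import Groth.Agent.S9821
import Groth.Agent.PnCoh.Chow.Basic
import Groth.Prelude.Def_ega3
import Mathlib.AlgebraicGeometry.Morphisms.Proper

/-!
# Functions on a proper scheme over a normal base
-/

set_option autoImplicit false
set_option linter.style.haveILetI false
set_option backward.isDefEq.respectTransparency false
set_option backward.isDefEq.respectTransparency.types false

universe u

open CategoryTheory CategoryTheory.Limits AlgebraicGeometry TopologicalSpace Opposite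

namespace Groth.Agent.Lib.NormalPush

variable {X Y : Scheme.{u}}

theorem isIntegral_app (f : X ⟶ Y) [UniversallyClosed f] {V : Y.Opens} (hV : IsAffineOpen V) :
    (f.app V).hom.IsIntegral := by
  haveI : IsAffine (V : Scheme.{u}) := hV
  have key : ∀ (O : Y.Opens), O = V →
      ∀ (W : X.Opens) (i : W ⟶ f ⁻¹ᵁ O), IsIso (X.presheaf.map i.op) →
        (f.app O ≫ X.presheaf.map i.op).hom.IsIntegral → (f.app V).hom.IsIntegral := by
    rintro O rfl W i hi h
    have h1 := RingHom.isIntegral_respectsIso.1 _ (asIso (X.presheaf.map i.op)).symm.commRingCatIsoToRingEquiv h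
    convert h1 using 1
    rw [CommRingCat.hom_comp, ← RingHom.comp_assoc]
    refine (RingHom.ext fun a => ?_)
    exact (ConcreteCategory.congr_hom (asIso (X.presheaf.map i.op)).hom_inv_id _).symm
  have h := isIntegral_appTop_of_universallyClosed (f ∣_ V)
  rw [morphismRestrict_appTop] at h
  exact key _ V.ι_image_top _ _ inferInstance h

theorem eq_genericPoint [IsIntegral X] [IsIntegral Y] (f : X ⟶ Y)
    (hdom : f.base (genericPoint X) ⤳ genericPoint Y) : f.base (genericPoint X) = genericPoint Y :=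
  Inseparable.eq (hdom.antisymm (genericPoint_specializes _))

theorem isIso_app [IsIntegral X] [IsIntegral Y] (hY : Pi1.IsNormalScheme Y) (f : X ⟶ Y)
    [UniversallyClosed f] [QuasiSeparated f] (hdom : f.base (genericPoint X) ⤳ genericPoint Y)
    (halg : ∀ x : X.functionField,
      (∃ p : Polynomial Y.functionField, p ≠ 0 ∧
        Polynomial.eval₂ (CohIII.stalkToFunctionField f (genericPoint Y) hdom) x p = 0) →
      x ∈ Set.range (CohIII.stalkToFunctionField f (genericPoint Y) hdom)) (W : Y.Opens) :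
    IsIso (f.app W) := by
  have hη := eq_genericPoint f hdom
  haveI : IsDominant f := ⟨fun y => closure_mono ((Set.singleton_subset_iff.2 ⟨genericPoint X, hη⟩ : ({genericPoint Y} : Set Y) ⊆ Set.range f.base))
    (genericPoint_specializes y).mem_closure⟩
  refine FlatMisc.isIso_app_of_bijective_affine f (fun z => ?_) W
  obtain ⟨_, ⟨V, hV, rfl⟩, hzV, -⟩ :=
    Y.isBasis_affineOpens.exists_subset_of_mem_open (Set.mem_univ z) isOpen_univ
  refine ⟨V, hV, hzV, PnCoh.Chow.app_injective_of_isDominant f V, fun s => ?_⟩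
  haveI : Nonempty V := ⟨⟨z, hzV⟩⟩
  have hηV : genericPoint Y ∈ V :=
    ((genericPoint_spec Y).mem_open_set_iff V.2).mpr ⟨z, trivial, hzV⟩
  have hηW : genericPoint X ∈ f ⁻¹ᵁ V := by
    show f.base (genericPoint X) ∈ V
    rw [hη]; exact hηV
  haveI : Nonempty (f ⁻¹ᵁ V) := ⟨⟨_, hηW⟩⟩
  let φ : Y.functionField →+* X.functionField := CohIII.stalkToFunctionField f (genericPoint Y) hdom
  let ψ : Γ(Y, V) →+* Y.functionField := (Y.germToFunctionField V).hom
  let χ : Γ(X, f ⁻¹ᵁ V) →+* X.functionField := (X.germToFunctionField (f ⁻¹ᵁ V)).hom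
  have hcomm : φ.comp ψ = χ.comp (f.app V).hom := by
    refine RingHom.ext fun a => ?_
    show (f.stalkMap (genericPoint X)).hom ((Y.presheaf.stalkSpecializes hdom).hom
      ((Y.presheaf.germ V (genericPoint Y) hηV).hom a)) = _
    rw [show (Y.presheaf.stalkSpecializes hdom).hom ((Y.presheaf.germ V (genericPoint Y) hηV).hom a) =
      (Y.presheaf.germ V (f.base (genericPoint X)) (hdom.mem_open V.2 hηV)).hom a from
      Y.presheaf.germ_stalkSpecializes_apply hηV hdom a]
    exact Scheme.Hom.germ_stalkMap_apply f V (genericPoint X) _ a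
  obtain ⟨p, hp, hps⟩ := isIntegral_app f hV s
  have hs0 : Polynomial.eval₂ φ (χ s) (p.map ψ) = 0 := by
    rw [Polynomial.eval₂_map, hcomm, ← Polynomial.hom_eval₂, hps, map_zero]
  obtain ⟨c, hc⟩ := halg (χ s) ⟨p.map ψ, (hp.map ψ).ne_zero, hs0⟩
  haveI : IsFractionRing Γ(Y, V) Y.functionField := functionField_isFractionRing_of_isAffineOpen Y V hV
  haveI : IsIntegrallyClosed Γ(Y, V) := (Groth.Agent.S9821.result Y).1 hY V hV
  have hci : IsIntegral Γ(Y, V) c := by
    refine ⟨p, hp, φ.injective ?_⟩
    rw [map_zero]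
    refine Eq.trans ?_ hs0
    rw [Polynomial.eval₂_map, Polynomial.hom_eval₂, hc]
    rfl
  obtain ⟨a, ha⟩ := IsIntegrallyClosed.isIntegral_iff.1 hci
  refine ⟨a, Scheme.germToFunctionField_injective (X := X) (f ⁻¹ᵁ V) ?_⟩
  refine (RingHom.congr_fun hcomm a).symm.trans ?_
  exact (congrArg φ ha).trans hc

end Groth.Agent.Lib.NormalPush
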