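import Groth.Agent.Lib.LerayLow
import Groth.Agent.QCoh.HHExact
import Groth.Agent.QCoh.OpenSub

/-!
The two corners of the Leray spectral sequence.
-/

set_option autoImplicit false
set_option linter.style.haveILetI false
set_option linter.unusedSectionVars false
set_option backward.isDefEq.respectTransparency false
set_option backward.isDefEq.respectTransparency.types false
set_option maxHeartbeats 600000

universe u

open CategoryTheory CategoryTheory.Limits AlgebraicGeometry TopologicalSpace Opposite
open CategoryTheory.Abelian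

noncomputable section

namespace Groth.Agent.LerayCorner

open Groth.Agent Groth.Agent.QCoh

section Seq

variable {X : Scheme.{u}} {S : ShortComplex X.Modules}

theorem subsingleton_H_X₃ {Y : TopCat.{u}} {T : ShortComplex (CohTop.Ab Y)} (hT : T.ShortExact)
    (n : ℕ) (h₂ : Subsingleton (CohTop.H T.X₂ n)) (h₁ : Subsingleton (CohTop.H T.X₁ (n + 1))) :
    Subsingleton (CohTop.H T.X₃ n) := by
  refine subsingleton_of_forall_eq 0 fun x => ?_
  obtain ⟨y, rfl⟩ := Ext.covariant_sequence_exact₃ _ hT x rfl (h₁.elim _ _)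
  rw [h₂.elim y 0]
  exact Ext.zero_comp _ _ _ _ _

theorem subsingleton_H_X₁ {Y : TopCat.{u}} {T : ShortComplex (CohTop.Ab Y)} (hT : T.ShortExact)
    (n : ℕ) (h₃ : Subsingleton (CohTop.H T.X₃ n)) (h₂ : Subsingleton (CohTop.H T.X₂ (n + 1))) :
    Subsingleton (CohTop.H T.X₁ (n + 1)) := by
  refine subsingleton_of_forall_eq 0 fun x => ?_
  obtain ⟨y, rfl⟩ := Ext.covariant_sequence_exact₁ _ hT x (h₂.elim _ _) rfl
  rw [h₃.elim y 0]
  exact Ext.zero_comp _ _ _ _ _

theorem subsingleton_HH_X₃ (hS : S.ShortExact) (n : ℕ) (h₂ : Subsingleton (Coh.HH X S.X₂ n))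
    (h₁ : Subsingleton (Coh.HH X S.X₁ (n + 1))) : Subsingleton (Coh.HH X S.X₃ n) :=
  subsingleton_H_X₃ (Y := X.toPresheafedSpace.carrier) (T := S.map (toAbFunctor X))
    (toAb_shortExact hS) n h₂ h₁

theorem subsingleton_HH_X₁ (hS : S.ShortExact) (n : ℕ) (h₃ : Subsingleton (Coh.HH X S.X₃ n))
    (h₂ : Subsingleton (Coh.HH X S.X₂ (n + 1))) : Subsingleton (Coh.HH X S.X₁ (n + 1)) :=
  subsingleton_H_X₁ (Y := X.toPresheafedSpace.carrier) (T := S.map (toAbFunctor X))
    (toAb_shortExact hS) n h₃ h₂

theorem subsingleton_HH_one_of_surjective (hS : S.ShortExact) (hg : Function.Surjective (S.g.app ⊤))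
    (h₂ : Subsingleton (Coh.HH X S.X₂ 1)) : Subsingleton (Coh.HH X S.X₁ 1) := by
  have hT := toAb_shortExact hS
  refine subsingleton_of_forall_eq 0 fun x => ?_
  obtain ⟨y, rfl⟩ := Ab.connecting_surjective (X := X.toPresheafedSpace.carrier) hT 0 h₂ x
  let eA := Sheaf.H.equiv₀ (Coh.toAb S.X₂) isTerminalTop
  let eB := Sheaf.H.equiv₀ (Coh.toAb S.X₃) isTerminalTop
  obtain ⟨a, ha⟩ := hg (eB y)
  refine (Ab.connecting_eq_zero_iff (X := X.toPresheafedSpace.carrier) hT 0 y).2 ⟨eA.symm a, eB.injective ?_⟩
  refine ((Sheaf.H.equiv₀_naturality isTerminalTop (S.map (toAbFunctor X)).g (eA.symm a)).symm).trans ?_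
  exact (congrArg (S.g.app ⊤) (eA.apply_symm_apply a)).trans ha

theorem subsingleton_HH_of_isFlasqueMod {N : X.Modules} (h : IsFlasqueMod N) (n : ℕ) :
    Subsingleton (Coh.HH X N (n + 1)) :=
  haveI := h
  Ab.subsingleton_H_of_HU_top (X := X.toPresheafedSpace.carrier) (abSheaf N) (n + 1)
    (SiteBase.subsingleton_HU_of_isFlasque (X := X.toPresheafedSpace.carrier) (abSheaf N) ⊤ n)

theorem mono_desc_of_exact {A C D : X.Modules} (k : A ⟶ C) (α : C ⟶ D) (hk : k ≫ α = 0)
    (hex : (ShortComplex.mk k α hk).Exact) : Mono (cokernel.desc k α hk) :=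
  (ShortComplex.exact_iff_mono_cokernel_desc _).1 hex

/-- Left exactness: the kernel has no `H^1` if the next map is onto on global sections. -/
theorem subsingleton_HH_one_left {A C D : X.Modules} (k : A ⟶ C) [Mono k] (α : C ⟶ D) (hk : k ≫ α = 0)
    (hex : (ShortComplex.mk k α hk).Exact) (hC : Subsingleton (Coh.HH X C 1))
    (hα : Function.Surjective (α.app ⊤)) : Subsingleton (Coh.HH X A 1) := by
  haveI := mono_desc_of_exact k α hk hex
  have hS : (ShortComplex.mk k (cokernel.π k) (cokernel.condition _)).ShortExact :=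
    { exact := ShortComplex.exact_of_g_is_cokernel _ (cokernelIsCokernel _) }
  have hT : (ShortComplex.mk (cokernel.desc k α hk) (cokernel.π _) (cokernel.condition _)).ShortExact :=
    { exact := ShortComplex.exact_of_g_is_cokernel _ (cokernelIsCokernel _) }
  refine subsingleton_HH_one_of_surjective hS (fun b => ?_) hC
  obtain ⟨a, ha⟩ := hα ((cokernel.desc k α hk).app ⊤ b)
  refine ⟨a, app_f_injective hT ⊤ ?_⟩
  exact (congr($(congrArg (fun φ : C ⟶ D => φ.app ⊤) (cokernel.π_desc k α hk)) a)).trans ha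

end Seq

variable {X Y : Scheme.{u}} (f : X ⟶ Y) [HasInjectiveResolutions X.Modules] (M : X.Modules)

theorem subsingleton_HH_zero_iff {T : Scheme.{u}} (N : T.Modules) :
    Subsingleton (Coh.HH T N 0) ↔ Subsingleton Γ(N, ⊤) :=
  (Sheaf.H.equiv₀ (Coh.toAb N) isTerminalTop).toEquiv.subsingleton_congr

/-- The pushforward of a cosyzygy. -/
abbrev Z (n : ℕ) : Y.Modules := (Scheme.Modules.pushforward f).obj (godQ M n)

/-- The coboundaries. -/
abbrev B (n : ℕ) : Y.Modules := cokernel ((Scheme.Modules.pushforward f).map (toGod (godQ M n)))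

theorem comp_eq_zero (n : ℕ) :
    (Scheme.Modules.pushforward f).map (toGod (godQ M n)) ≫ (Scheme.Modules.pushforward f).map (godπ M n) = 0 := by
  rw [← (Scheme.Modules.pushforward f).map_comp, toGod_godπ, (Scheme.Modules.pushforward f).map_zero]

/-- The coboundaries in the cocycles. -/
abbrev incl (n : ℕ) : B f M n ⟶ Z f M (n + 1) :=
  cokernel.desc _ ((Scheme.Modules.pushforward f).map (godπ M n)) (comp_eq_zero f M n)

theorem push_exact (n : ℕ) : (ShortComplex.mk ((Scheme.Modules.pushforward f).map (toGod (godQ M n)))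
    ((Scheme.Modules.pushforward f).map (godπ M n)) (comp_eq_zero f M n)).Exact :=
  haveI := preservesFiniteLimits_push f
  (godSES_shortExact M n).exact.map_of_mono_of_preservesKernel (Scheme.Modules.pushforward f)
    (inferInstanceAs (Mono (toGod (godQ M n)))) inferInstance

theorem mono_incl (n : ℕ) : Mono (incl f M n) :=
  mono_desc_of_exact _ _ _ (push_exact f M n)

theorem shortExact_one (n : ℕ) : (ShortComplex.mk ((Scheme.Modules.pushforward f).map (toGod (godQ M n)))
    (cokernel.π _) (cokernel.condition _)).ShortExact := by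
  haveI := preservesFiniteLimits_push f
  haveI : Mono ((Scheme.Modules.pushforward f).map (toGod (godQ M n))) :=
    (Scheme.Modules.pushforward f).map_mono _
  exact { exact := ShortComplex.exact_of_g_is_cokernel _ (cokernelIsCokernel _) }

theorem shortExact_two (n : ℕ) :
    (ShortComplex.mk (incl f M n) (cokernel.π (incl f M n)) (cokernel.condition _)).ShortExact := by
  haveI := mono_incl f M n
  exact { exact := ShortComplex.exact_of_g_is_cokernel _ (cokernelIsCokernel _) }

theorem subsingleton_HH_God_push (n j : ℕ) :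
    Subsingleton (Coh.HH Y ((Scheme.Modules.pushforward f).obj (God (godQ M n))) (j + 1)) :=
  subsingleton_HH_of_isFlasqueMod (LerayLow.isFlasqueMod_push f (isFlasqueMod_God _)) j

theorem nonempty_cokernel_incl (n : ℕ) :
    Nonempty (cokernel (incl f M n) ≅ (Coh.Rpush f (n + 1)).obj M) := by
  obtain ⟨e⟩ := nonempty_Rpush_iso f M n
  exact ⟨(cokernelEpiComp (cokernel.π _) (incl f M n)).symm ≪≫ cokernelIsoOfEq (cokernel.π_desc _ _ _) ≪≫ e.symm⟩

theorem nonempty_Z_zero :
    Nonempty (Z f M 0 ≅ (Coh.Rpush f 0).obj M) := by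
  haveI := SpObjSS.enoughInjectives_of_hasInjectiveResolutions (C := X.Modules)
  haveI := preservesFiniteLimits_push f
  exact ⟨((Scheme.Modules.pushforward f).rightDerivedZeroIsoSelf.app M).symm⟩

/-- `H^1` of the cocycles vanishes if the coboundary map is onto on global sections. -/
theorem subsingleton_HH_Z_one (n : ℕ) (h : Subsingleton (Coh.HH X M (n + 1))) :
    Subsingleton (Coh.HH Y (Z f M n) 1) := by
  haveI := preservesFiniteLimits_push f
  haveI : Mono ((Scheme.Modules.pushforward f).map (toGod (godQ M n))) :=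
    (Scheme.Modules.pushforward f).map_mono _
  exact subsingleton_HH_one_left ((Scheme.Modules.pushforward f).map (toGod (godQ M n)))
    ((Scheme.Modules.pushforward f).map (godπ M n)) (comp_eq_zero f M n) (push_exact f M n)
    (subsingleton_HH_God_push f M n 0) ((LerayLow.subsingleton_iff_surjective M n).1 h)

variable {M}

theorem subsingleton_HH_cokernel_incl {n j : ℕ} (h : Subsingleton (Coh.HH Y ((Coh.Rpush f (n + 1)).obj M) j)) :
    Subsingleton (Coh.HH Y (cokernel (incl f M n)) j) := by
  obtain ⟨e⟩ := nonempty_cokernel_incl f M n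
  exact QCoh.subsingleton_HH_of_iso e.symm j h

theorem subsingleton_Rpush_of_cokernel {n j : ℕ} (h : Subsingleton (Coh.HH Y (cokernel (incl f M n)) j)) :
    Subsingleton (Coh.HH Y ((Coh.Rpush f (n + 1)).obj M) j) := by
  obtain ⟨e⟩ := nonempty_cokernel_incl f M n
  exact QCoh.subsingleton_HH_of_iso e j h

/-- The highest corner. -/
theorem subsingleton_high (p q : ℕ) (hR : ∀ n, p < n → IsZero ((Coh.Rpush f n).obj M))
    (hj : ∀ n ≤ p, ∀ j, q < j → Subsingleton (Coh.HH Y ((Coh.Rpush f n).obj M) j))
    (h : Subsingleton (Coh.HH X M (p + q))) :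
    Subsingleton (Coh.HH Y ((Coh.Rpush f p).obj M) q) := by
  have hZ : ∀ j n, p ≤ n → n + (j + 1) = p + q → Subsingleton (Coh.HH Y (Z f M n) (j + 1)) := by
    intro j
    induction j with
    | zero => exact fun n _ e => subsingleton_HH_Z_one f M n (by rw [show n + 1 = p + q by omega]; exact h)
    | succ j ih =>
      intro n hn e
      refine subsingleton_HH_X₁ (shortExact_one f M n) (j + 1) ?_ (subsingleton_HH_God_push f M n (j + 1))
      have hz : IsZero (cokernel (incl f M n)) := (hR (n + 1) (by omega)).of_iso (nonempty_cokernel_incl f M n).some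
      haveI : IsIso (incl f M n) :=
        haveI := mono_incl f M n
        haveI : Epi (incl f M n) := Preadditive.epi_of_cokernel_zero (hz.eq_of_tgt _ _)
        isIso_of_mono_of_epi _
      exact QCoh.subsingleton_HH_of_iso (asIso (incl f M n)).symm _ (ih (n + 1) (by omega) (by omega))
  have hsmall : ∀ n ≤ p, (∀ j, q < j → Subsingleton (Coh.HH Y (Z f M n) j)) ∧
      ∀ m, m + 1 = n → ∀ j, q ≤ j → 0 < j → Subsingleton (Coh.HH Y (B f M m) j) := by
    intro n
    induction n with
    | zero =>
      refine fun _ => ⟨fun j hqj => ?_, fun m hm => by omega⟩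
      obtain ⟨e⟩ := nonempty_Z_zero f M
      exact QCoh.subsingleton_HH_of_iso e.symm j (hj 0 (Nat.zero_le p) j hqj)
    | succ n ih =>
      intro hn
      have hB : ∀ j, q ≤ j → 0 < j → Subsingleton (Coh.HH Y (B f M n) j) := fun j hqj hj0 => by
        obtain ⟨i, rfl⟩ : ∃ i, j = i + 1 := ⟨j - 1, by omega⟩
        exact subsingleton_HH_X₃ (shortExact_one f M n) (i + 1) (subsingleton_HH_God_push f M n i)
          ((ih (by omega)).1 (i + 1 + 1) (by omega))
      refine ⟨fun j hqj => subsingleton_HH_X₂ (shortExact_two f M n) j (hB j hqj.le (by omega))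
        (subsingleton_HH_cokernel_incl f (hj (n + 1) hn j hqj)), fun m hm => ?_⟩
      obtain rfl : m = n := by omega
      exact hB
  rcases p with _ | p
  · obtain ⟨e⟩ := nonempty_Z_zero f M
    rcases q with _ | q
    · refine QCoh.subsingleton_HH_of_iso e 0 ((subsingleton_HH_zero_iff (Z f M 0)).2 ?_)
      exact (subsingleton_HH_zero_iff M).1 h
    · exact QCoh.subsingleton_HH_of_iso e _ (hZ q 0 le_rfl rfl)
  refine subsingleton_Rpush_of_cokernel f ?_
  rcases q with _ | q
  · have hπ := (LerayLow.subsingleton_iff_surjective M p).1 h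
    have hsurj := app_top_surjective_of_HH_one (shortExact_two f M p)
      ((hsmall (p + 1) le_rfl).2 p rfl 1 (Nat.zero_le 1) Nat.one_pos)
    refine (subsingleton_HH_zero_iff _).2 (subsingleton_of_forall_eq 0 fun r => ?_)
    obtain ⟨z, rfl⟩ := hsurj r
    obtain ⟨a, rfl⟩ := hπ z
    have e : (incl f M p).app ⊤ ((cokernel.π ((Scheme.Modules.pushforward f).map (toGod (godQ M p)))).app ⊤ a) =
        (godπ M p).app ⊤ a :=
      congr($(congrArg (fun φ => Scheme.Modules.Hom.app φ ⊤)
        (cokernel.π_desc ((Scheme.Modules.pushforward f).map (toGod (godQ M p)))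
          ((Scheme.Modules.pushforward f).map (godπ M p)) (comp_eq_zero f M p))) a)
    rw [← e]
    exact app_g_f (S := ShortComplex.mk (incl f M p) (cokernel.π (incl f M p)) (cokernel.condition _)) ⊤ _
  · exact subsingleton_HH_X₃ (shortExact_two f M p) (q + 1) (hZ q (p + 1) le_rfl rfl)
      ((hsmall (p + 1) le_rfl).2 p rfl (q + 1 + 1) (by omega) (by omega))

/-- The lowest corner. -/
theorem subsingleton_low (p q : ℕ) (hR : ∀ n, n < p → IsZero ((Coh.Rpush f n).obj M))
    (hj : ∀ n, ∀ j, j < q → Subsingleton (Coh.HH Y ((Coh.Rpush f n).obj M) j))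
    (h : Subsingleton (Coh.HH X M (p + q))) :
    Subsingleton (Coh.HH Y ((Coh.Rpush f p).obj M) q) := by
  have hZ : ∀ j n, p ≤ n → n + (j + 1) = p + q → Subsingleton (Coh.HH Y (Z f M n) (j + 1)) := by
    intro j
    induction j with
    | zero => exact fun n _ e => subsingleton_HH_Z_one f M n (by rw [show n + 1 = p + q by omega]; exact h)
    | succ j ih =>
      intro n hn e
      refine subsingleton_HH_X₁ (shortExact_one f M n) (j + 1) ?_ (subsingleton_HH_God_push f M n (j + 1))
      exact subsingleton_HH_X₁ (shortExact_two f M n) j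
        (subsingleton_HH_cokernel_incl f (hj (n + 1) j (by omega))) (ih (n + 1) (by omega) (by omega))
  haveI := SpObjSS.enoughInjectives_of_hasInjectiveResolutions (C := X.Modules)
  haveI := preservesFiniteLimits_push f
  rcases p with _ | p
  · obtain ⟨e⟩ := nonempty_Z_zero f M
    rcases q with _ | q
    · refine QCoh.subsingleton_HH_of_iso e 0 ((subsingleton_HH_zero_iff (Z f M 0)).2 ?_)
      exact (subsingleton_HH_zero_iff M).1 h
    · exact QCoh.subsingleton_HH_of_iso e _ (hZ q 0 le_rfl rfl)
  have hM0 : IsZero ((Scheme.Modules.pushforward f).obj M) :=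
    (hR 0 p.succ_pos).of_iso ((Scheme.Modules.pushforward f).rightDerivedZeroIsoSelf.app M).symm
  have h0 : IsFlasqueMod ((Scheme.Modules.pushforward f).obj M) :=
    { epi := fun {U V} _ => by
        refine (AddCommGrpCat.epi_iff_surjective _).2 fun t => ⟨0, ?_⟩
        have e : ∀ x : Γ((Scheme.Modules.pushforward f).obj M, V.unop), x = 0 := fun x =>
          congr(($((IsZero.iff_id_eq_zero _).1 hM0)).app V.unop x)
        exact (e _).trans (e t).symm }
  rcases q with _ | q
  · refine (subsingleton_HH_zero_iff _).2 ((LerayLow.subsingleton_iff f h0 p fun n hn => hR (n + 1) (by omega)).1 ?_)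
    exact h
  refine subsingleton_Rpush_of_cokernel f ?_
  have hZf : IsFlasqueMod (Z f M p) :=
    LerayLow.isFlasqueMod_push_godQ f h0 p fun n hn => hR (n + 1) (by omega)
  have hBf : IsFlasqueMod (B f M p) :=
    isFlasqueMod_X₃ (shortExact_one f M p) hZf (LerayLow.isFlasqueMod_push f (isFlasqueMod_God _))
  exact subsingleton_HH_X₃ (shortExact_two f M p) (q + 1) (hZ q (p + 1) le_rfl rfl)
    (subsingleton_HH_of_isFlasqueMod hBf (q + 1))

end Groth.Agent.LerayCorner
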