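import Groth.Agent.Lib.CurveSlope
import Groth.Agent.CurveCohLib.SmoothCurve
import Mathlib.AlgebraicGeometry.Geometrically.Connected

/-!
Slopes of subbundles of vector bundles on smooth curves: bounds and maximal subbundles.
-/

set_option linter.style.haveILetI false
set_option linter.unusedSectionVars false
set_option backward.isDefEq.respectTransparency false
set_option backward.isDefEq.respectTransparency.types false

universe u

open CategoryTheory CategoryTheory.Limits AlgebraicGeometry TopologicalSpace Opposite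

namespace Groth.Agent.CurveStable

open Groth.Agent.CurveBundle Groth.Agent.CurveSlope

variable {X : Scheme.{u}} (k : Type u) [Field k] [X.Over (Spec (CommRingCat.of k))]

include k in
theorem isIntegral_of_geometricallyConnected [IsProper (X ↘ Spec (CommRingCat.of k))]
    [Smooth (X ↘ Spec (CommRingCat.of k))] [GeometricallyConnected (X ↘ Spec (CommRingCat.of k))] :
    IsIntegral X := by
  haveI : CompactSpace X := QuasiCompact.compactSpace_of_compactSpace (X ↘ Spec (CommRingCat.of k))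
  haveI : ConnectedSpace X :=
    GeometricallyConnected.connectedSpace_of_subsingleton (f := X ↘ Spec (CommRingCat.of k))
  exact CurveCohLib.isIntegral_of_smooth_connected (X ↘ Spec (CommRingCat.of k))

theorem isFinLocFree_of_rank {M : X.Modules} {r : ℕ} (h : FlatMod.IsFinLocFreeOfRank r M) :
    FlatMod.IsFinLocFree M := fun x => let ⟨U, hx, e⟩ := h x; ⟨U, r, hx, e⟩

variable [IsIntegral X] [IsProper (X ↘ Spec (CommRingCat.of k))]
  [Smooth (X ↘ Spec (CommRingCat.of k))]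

include k in
theorem coh_of_free {M : X.Modules} (h : FlatMod.IsFinLocFree M) : Coh.IsCoh M := by
  haveI := isLocallyNoetherian' k (X := X)
  exact CurveDeg.isCoh_of_isFinLocFree h

include k in
theorem isZero_or_pos {M : X.Modules} (hM : FlatMod.IsFinLocFree M) : IsZero M ∨ 0 < rk M := by
  haveI := isLocallyNoetherian' k (X := X)
  rcases Nat.eq_zero_or_pos (rk M) with h | h
  · exact Or.inl (isZero_of_rk_zero hM h)
  · exact Or.inr h

/-- Kernel and image of a map of bundles are bundles with additive rank and degree. -/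
theorem exists_decomp (hdim : topologicalKrullDim X ≤ 1) {E F : X.Modules}
    (hE : FlatMod.IsFinLocFree E) (hF : FlatMod.IsFinLocFree F) (f : E ⟶ F) :
    ∃ (I : X.Modules) (π : E ⟶ I) (j : I ⟶ F), Mono j ∧ Epi π ∧ π ≫ j = f ∧
      FlatMod.IsFinLocFree (kernel f) ∧ FlatMod.IsFinLocFree I ∧
      rk E = rk (kernel f) + rk I ∧ dg k E = dg k (kernel f) + dg k I ∧
      (f ≠ 0 → 0 < rk I) ∧ rk I ≤ rk F := by
  haveI := isLocallyNoetherian' k (X := X)
  have hEc := coh_of_free k hE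
  have hFc := coh_of_free k hF
  obtain ⟨I, π, j, hj, hfac, hKc, hIc, hπ, w, hS⟩ := exists_factor hEc hFc f
  haveI := hj
  have hIf := isFinLocFree_of_mono k hdim hIc j hF
  refine ⟨I, π, j, hj, hπ, hfac, isFinLocFree_of_mono k hdim hKc (kernel.ι f) hE, hIf,
    rk_add_coh k _ _ w hS hEc, dg_add k _ _ w hS hKc hEc hIc, fun hf => ?_, ?_⟩
  · rcases isZero_or_pos k hIf with h | h
    · exact absurd (by rw [← hfac, h.eq_of_tgt π 0, zero_comp]) hf
    · exact h
  · have := rk_add_coh k _ _ _ (shortExact_cokernel_of_mono j) hFc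
    omega

include k in
theorem rk_le_of_mono {E F : X.Modules} (i : F ⟶ E) [Mono i] (hE : Coh.IsCoh E) : rk F ≤ rk E := by
  have := rk_add_coh k _ _ _ (shortExact_cokernel_of_mono i) hE
  omega

/-- A proper full-rank subsheaf has smaller degree. -/
theorem dg_lt_of_rk_eq (hdim : topologicalKrullDim X ≤ 1) {E F : X.Modules} (i : F ⟶ E) [Mono i]
    (hF : Coh.IsCoh F) (hE : Coh.IsCoh E) (hrk : rk F = rk E) (hi : ¬ IsIso i) :
    dg k F < dg k E := by
  haveI := isLocallyNoetherian' k (X := X)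
  have hQ : Coh.IsCoh (cokernel i) := QCoh.isCoh_cokernel hF.1 hE i
  have h1 := rk_add_coh k _ _ _ (shortExact_cokernel_of_mono i) hE
  have h2 := dg_add k _ _ _ (shortExact_cokernel_of_mono i) hF hE hQ
  obtain ⟨h3, h4⟩ := Euler.euler_nonneg_of_good k hQ (Euler.good_of_dim_le_zero k hQ
    (CurveDeg.topologicalKrullDim_le_zero_of_ne_univ hdim (QCoh.isClosed_support_of_isFT hQ.1 hQ.2)
      (support_ne_univ_of_rk hQ (by omega))))
  have h5 : dg k (cokernel i) = Curv2.euler k X (cokernel i) := by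
    unfold dg
    rw [show rk (cokernel i) = 0 by omega]
    simp
  refine lt_of_not_ge fun hge => hi ?_
  haveI : Epi i := Preadditive.epi_of_isZero_cokernel i (h4 (by omega))
  exact isIso_of_mono_of_epi i

theorem dg_le_h0 (hdim : topologicalKrullDim X ≤ 1) {E F : X.Modules} (i : F ⟶ E) [Mono i]
    (hF : Coh.IsCoh F) (hE : Coh.IsCoh E) :
    dg k F ≤ (Module.finrank k (Coh.HH X E 0) : ℤ) -
      (rk F : ℤ) * Curv2.euler k X (Coh.structureModule X) := by
  have h1 := euler_le_h0 k hdim hF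
  have h2 : (Module.finrank k (Coh.HH X F 0) : ℤ) ≤ Module.finrank k (Coh.HH X E 0) := by
    haveI := S0002.result k X E hE 0
    exact_mod_cast LinearMap.finrank_le_finrank_of_injective
      (LinearMap.ker_eq_bot.mp (Euler.ker_mapLin_f_zero (k := k) (shortExact_cokernel_of_mono i)))
  unfold dg
  omega

/-- A subbundle of maximal degree among those of a given rank. -/
theorem exists_max_sub (hdim : topologicalKrullDim X ≤ 1) {E : X.Modules}
    (hE : FlatMod.IsFinLocFree E) {a : ℕ}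
    (h : ∃ (F : X.Modules) (i : F ⟶ E), Mono i ∧ FlatMod.IsFinLocFree F ∧ rk F = a) :
    ∃ (G : X.Modules) (j : G ⟶ E), Mono j ∧ FlatMod.IsFinLocFree G ∧ rk G = a ∧
      ∀ (F : X.Modules) (i : F ⟶ E), Mono i → FlatMod.IsFinLocFree F → rk F = a → dg k F ≤ dg k G := by
  obtain ⟨F₀, i₀, hi₀, hF₀, hr₀⟩ := h
  obtain ⟨d, ⟨G, j, hj, hG, hr, rfl⟩, hd⟩ := Int.exists_greatest_of_bdd
    (P := fun d => ∃ (F : X.Modules) (i : F ⟶ E), Mono i ∧ FlatMod.IsFinLocFree F ∧ rk F = a ∧ dg k F = d)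
    ⟨(Module.finrank k (Coh.HH X E 0) : ℤ) - (a : ℤ) * Curv2.euler k X (Coh.structureModule X),
      fun d ⟨F, i, hi, hF, hr, hd⟩ => by
        haveI := hi
        rw [← hd, ← hr]
        exact dg_le_h0 k hdim i (coh_of_free k hF) (coh_of_free k hE)⟩
    ⟨_, F₀, i₀, hi₀, hF₀, hr₀, rfl⟩
  exact ⟨G, j, hj, hG, hr, fun F i hi hF hr' => hd _ ⟨F, i, hi, hF, hr', rfl⟩⟩

/-- The complement of a subsheaf in rank, as a quotient bundle of at most the expected degree. -/
theorem exists_quot_bundle (hdim : topologicalKrullDim X ≤ 1) {E G : X.Modules}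
    (hE : FlatMod.IsFinLocFree E) (hG : FlatMod.IsFinLocFree G) (i : G ⟶ E) [Mono i] :
    ∃ (Q : X.Modules) (p : E ⟶ Q), Epi p ∧ FlatMod.IsFinLocFree Q ∧
      rk E = rk G + rk Q ∧ dg k Q ≤ dg k E - dg k G := by
  haveI := isLocallyNoetherian' k (X := X)
  obtain ⟨G', j, hj, hG', hr, hmax⟩ := exists_max_sub k hdim hE (a := rk G) ⟨G, i, inferInstance, hG, rfl⟩
  haveI := hj
  have hG'c := coh_of_free k hG'
  have hEc := coh_of_free k hE
  have hQc : Coh.IsCoh (cokernel j) := QCoh.isCoh_cokernel hG'c.1 hEc j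
  have hQ := isFinLocFree_of_max k hdim j (cokernel.π j) _ (shortExact_cokernel_of_mono j) hG'c hE hQc
    (fun F g hg hF hrF => hmax F g hg hF (hrF.trans hr))
  have h1 := rk_add_coh k _ _ _ (shortExact_cokernel_of_mono j) hEc
  have h2 := dg_add k _ _ _ (shortExact_cokernel_of_mono j) hG'c hEc hQc
  have h3 := hmax G i inferInstance hG rfl
  exact ⟨cokernel j, cokernel.π j, inferInstance, hQ, by omega, by omega⟩

/-- The maximal slope subbundle. -/
theorem exists_max_slope (hdim : topologicalKrullDim X ≤ 1) {E : X.Modules} {r : ℕ} (hr : 0 < r)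
    (hE : FlatMod.IsFinLocFreeOfRank r E) :
    ∃ (E₁ : X.Modules) (i₁ : E₁ ⟶ E), Mono i₁ ∧ 0 < rk E₁ ∧ FlatMod.IsFinLocFree E₁ ∧
      ∀ (G : X.Modules) (j : G ⟶ E), Mono j → FlatMod.IsFinLocFree G → 0 < rk G →
        dg k G * (rk E₁ : ℤ) ≤ dg k E₁ * (rk G : ℤ) ∧
        (dg k G * (rk E₁ : ℤ) = dg k E₁ * (rk G : ℤ) → rk G ≤ rk E₁) := by
  classical
  have hEf := isFinLocFree_of_rank hE
  let J : Finset ℕ := (Finset.Icc 1 r).filter fun a =>
    ∃ (F : X.Modules) (i : F ⟶ E), Mono i ∧ FlatMod.IsFinLocFree F ∧ rk F = a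
  have hJ : J.Nonempty := ⟨r, Finset.mem_filter.2 ⟨Finset.mem_Icc.2 ⟨hr, le_rfl⟩,
    E, 𝟙 E, inferInstance, hEf, rk_eq hE⟩⟩
  have hmax : ∀ a, a ∈ J → ∃ d : ℤ, (∃ (F : X.Modules) (i : F ⟶ E), Mono i ∧ FlatMod.IsFinLocFree F ∧
      rk F = a ∧ dg k F = d) ∧
      ∀ (F : X.Modules) (i : F ⟶ E), Mono i → FlatMod.IsFinLocFree F → rk F = a → dg k F ≤ d := by
    intro a ha
    obtain ⟨G, j, hj, hG, hr', hm⟩ := exists_max_sub k hdim hEf (Finset.mem_filter.1 ha).2
    exact ⟨dg k G, ⟨G, j, hj, hG, hr', rfl⟩, hm⟩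
  choose! d hd hd' using hmax
  obtain ⟨a₁, ha₁, hbest⟩ := J.exists_max_image (fun a => toLex ((d a : ℚ) / (a : ℚ), a)) hJ
  obtain ⟨E₁, i₁, hi₁, hE₁, hrk₁, hdg₁⟩ := hd a₁ ha₁
  have hpos : 0 < a₁ := (Finset.mem_Icc.1 (Finset.mem_filter.1 ha₁).1).1
  refine ⟨E₁, i₁, hi₁, hrk₁ ▸ hpos, hE₁, fun G j hj hG hG0 => ?_⟩
  haveI := hj
  have haJ : rk G ∈ J := Finset.mem_filter.2 ⟨Finset.mem_Icc.2 ⟨hG0,
    (rk_le_of_mono k j (coh_of_free k hEf)).trans (rk_eq hE).le⟩, G, j, hj, hG, rfl⟩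
  have hle := mul_le_mul_of_nonneg_right (hd' _ haJ G j hj hG rfl) (Int.natCast_nonneg a₁)
  rw [hrk₁, hdg₁]
  have haQ : (0 : ℚ) < rk G := by exact_mod_cast hG0
  have h1Q : (0 : ℚ) < a₁ := by exact_mod_cast hpos
  rcases Prod.Lex.toLex_le_toLex.1 (hbest _ haJ) with h | ⟨h, h'⟩
  · rw [div_lt_div_iff₀ haQ h1Q] at h
    have h2 : d (rk G) * (a₁ : ℤ) < d a₁ * (rk G : ℤ) := by exact_mod_cast h
    exact ⟨by linarith, fun he => absurd he (by intro he; linarith)⟩
  · rw [div_eq_div_iff haQ.ne' h1Q.ne'] at h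
    have h2 : d (rk G) * (a₁ : ℤ) = d a₁ * (rk G : ℤ) := by exact_mod_cast h
    exact ⟨by linarith, fun _ => h'⟩

end Groth.Agent.CurveStable
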