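import Groth.Agent.Lib.NegVanStalk
import Groth.Agent.PruferCoh.Closed
import Groth.Agent.H23.ClosedPushLen
import Groth.Agent.S7137
import Groth.Agent.QCoh.Support

/-!
Negative twist vanishing on closed subschemes of projective space, read on depths.
-/

set_option linter.style.haveILetI false
set_option linter.unusedSectionVars false
set_option linter.overlappingInstances false
set_option backward.isDefEq.respectTransparency false
set_option backward.isDefEq.respectTransparency.types false
set_option maxHeartbeats 1000000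

universe u

open CategoryTheory CategoryTheory.Limits AlgebraicGeometry TopologicalSpace Opposite Filter

noncomputable section

namespace Groth.Agent.NegVanClosed

section General

variable {X P : Scheme.{u}} (ι : X ⟶ P) [IsClosedImmersion ι]

/-- The projection formula, for vanishing of cohomology. -/
theorem subsingleton_HH_push_iff (A : Type u) [CommRing A] [P.Over (Spec (CommRingCat.of A))] {F : X.Modules}
    (hF : Coh.IsQCoh F) (L : P.Modules) (hL : Coh.IsQCoh L) (q : ℕ) :
    Subsingleton (Coh.HH X (CohB1.tensorMod F ((Scheme.Modules.pullback ι).obj L)) q) ↔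
      Subsingleton (Coh.HH P ((DCoh.tensorBi.flip.obj L).obj ((Coh.push ι).obj F)) q) := by
  letI : X.Over (Spec (CommRingCat.of A)) := ⟨ι ≫ (P ↘ Spec (CommRingCat.of A))⟩
  obtain ⟨el⟩ := PnCoh.exists_linearEquiv_push A ι rfl
    (KFlatLib.isQCoh_tensor hF (QCoh.isQCoh_pullback ι hL) :
      Coh.IsQCoh ((DCoh.tensorBi.obj F).obj ((Scheme.Modules.pullback ι).obj L))) q
  let w := @asIso _ _ _ _ _ (KFlatLib.isIso_projMod_of_isClosedImmersion ι F L)
  exact el.toEquiv.subsingleton_congr.trans
    ⟨fun h => QCoh.subsingleton_HH_of_iso w.symm q h, fun h => QCoh.subsingleton_HH_of_iso w q h⟩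

/-- The stalk of a push forward is the stalk, with scalars along the map of stalks. -/
theorem nonempty_stalk_push_equiv (M : X.Modules) (x : X) :
    letI : Module (P.presheaf.stalk (ι x)) (M.presheaf.stalk x) := Module.compHom _ (ι.stalkMap x).hom
    Nonempty (((Coh.push ι).obj M).presheaf.stalk (ι x) ≃ₗ[P.presheaf.stalk (ι x)] M.presheaf.stalk x) := by
  letI : Module (P.presheaf.stalk (ι x)) (M.presheaf.stalk x) := Module.compHom _ (ι.stalkMap x).hom
  haveI := KFlatLib.isIso_stalkPushforward_closed ι M x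
  let e : ((Coh.push ι).obj M).presheaf.stalk (ι x) ≃+ M.presheaf.stalk x :=
    (asIso (TopCat.Presheaf.stalkPushforward Ab.{u} ι.base M.presheaf x)).addCommGroupIsoToAddEquiv
  have he : ∀ (U : P.Opens) (hU : ι x ∈ U) (v : Γ(M, ι ⁻¹ᵁ U)),
      e (((Coh.push ι).obj M).presheaf.germ U (ι x) hU v) = M.presheaf.germ (ι ⁻¹ᵁ U) x hU v := fun U hU v =>
    congrArg (fun φ => φ v) (TopCat.Presheaf.stalkPushforward_germ Ab.{u} ι.base M.presheaf U x hU)
  have hsmul : ∀ (a : P.presheaf.stalk (ι x)) (m : ((Coh.push ι).obj M).presheaf.stalk (ι x)),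
      e (a • m) = a • e m := by
    intro a m
    obtain ⟨U, hU, b, rfl⟩ := P.presheaf.exists_germ_eq (x := ι x) a
    obtain ⟨V, hV, v, rfl⟩ := ((Coh.push ι).obj M).presheaf.exists_germ_eq m
    have hW : ι x ∈ U ⊓ V := ⟨hU, hV⟩
    rw [← P.presheaf.germ_res_apply (homOfLE inf_le_left : U ⊓ V ⟶ U) (ι x) hW b,
      ← ((Coh.push ι).obj M).presheaf.germ_res_apply (homOfLE inf_le_right : U ⊓ V ⟶ V) (ι x) hW v]
    generalize P.presheaf.map (homOfLE inf_le_left : U ⊓ V ⟶ U).op b = b'
    generalize ((Coh.push ι).obj M).presheaf.map (homOfLE inf_le_right : U ⊓ V ⟶ V).op v = v'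
    rw [← QCoh.germ_smul' ((Coh.push ι).obj M) hW, he, he]
    refine (QCoh.germ_smul' M (show x ∈ ι ⁻¹ᵁ (U ⊓ V) from hW) (ι.app _ b') v').trans ?_
    exact congrArg (fun t => t • M.presheaf.germ (ι ⁻¹ᵁ (U ⊓ V)) x hW v')
      (Scheme.Hom.germ_stalkMap_apply ι (U ⊓ V) x hW b').symm
  exact ⟨{ e with map_smul' := hsmul }⟩

/-- Depth of the stalk of a push forward. -/
theorem depth_stalk_push (M : X.Modules) (x : X) :
    LocCoh.depth (P.presheaf.stalk (ι x)) (((Coh.push ι).obj M).presheaf.stalk (ι x)) =
      LocCoh.depth (X.presheaf.stalk x) (M.presheaf.stalk x) := by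
  letI := (ι.stalkMap x).hom.toAlgebra
  letI : Module (P.presheaf.stalk (ι x)) (M.presheaf.stalk x) := Module.compHom _ (ι.stalkMap x).hom
  haveI : IsScalarTower (P.presheaf.stalk (ι x)) (X.presheaf.stalk x) (M.presheaf.stalk x) :=
    IsScalarTower.of_algebraMap_smul fun _ _ => rfl
  rw [← S7137.depth_eq_of_surjective (show Function.Surjective (algebraMap (P.presheaf.stalk (ι x))
    (X.presheaf.stalk x)) from ι.stalkMap_surjective x) (M.presheaf.stalk x)]
  obtain ⟨e'⟩ := nonempty_stalk_push_equiv ι M x
  exact depth_congr e'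
where
  depth_congr {R : Type u} [CommRing R] [IsLocalRing R] {M N : Type u} [AddCommGroup M] [Module R M]
      [AddCommGroup N] [Module R N] (e : M ≃ₗ[R] N) : LocCoh.depth R M = LocCoh.depth R N := by
    unfold LocCoh.depth LocCoh.idealDepth
    have htop : IsLocalRing.maximalIdeal R • (⊤ : Submodule R M) = ⊤ ↔
        IsLocalRing.maximalIdeal R • (⊤ : Submodule R N) = ⊤ := by
      rw [← (Submodule.map_injective_of_injective (f := e.toLinearMap) e.injective).eq_iff,
        Submodule.map_smul'', Submodule.map_top, LinearMap.range_eq_top.2 e.surjective]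
    simp only [htop, e.isWeaklyRegular_congr]

/-- Depth is infinite off the image. -/
theorem depth_stalk_push_off (M : X.Modules) {y : P} (hy : y ∉ Set.range ι) :
    LocCoh.depth (P.presheaf.stalk y) (((Coh.push ι).obj M).presheaf.stalk y) = ⊤ := by
  haveI := H23.ClosedPushLen.subsingleton_stalk ι M hy
  exact if_pos (Subsingleton.elim _ _)

end General

variable {k : Type u} [Field k] {N : ℕ} {X : Scheme.{u}} (ι : X ⟶ CohB1.ProjSpace N k) [IsClosedImmersion ι]

theorem isCoh_push {F : X.Modules} (hF : Coh.IsCoh F) : Coh.IsCoh ((Coh.push ι).obj F) := by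
  haveI := NegVanStalk.noetherian k N
  exact QCoh.isCoh_pushforward_finite ι hF

/-- Twisted cohomology on the subscheme and on projective space. -/
theorem subsingleton_HH_iff {F : X.Modules} (hF : Coh.IsQCoh F) (e : ℤ) (q : ℕ) :
    Subsingleton (Coh.HH X (CohB1.tensorMod F
        ((Scheme.Modules.pullback ι).obj (Twist.twistProjSpace N k e))) q) ↔
      Subsingleton (Coh.HH (CohB1.ProjSpace N k)
        (Twist.twistBy (CohB1.polyGrading N k) ((Coh.push ι).obj F) e) q) :=
  subsingleton_HH_push_iff ι k hF (Twist.twistProjSpace N k e)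
    (PnCoh.isQCoh_twist (ProjRegular.coords k N) ProjRegular.coords_mem ProjRegular.coords_cover e) q

/-- Vanishing on very negative twists in degree `< c` and depth at least `c` at the closed points. -/
theorem negVan_closed_iff {F : X.Modules} (hF : Coh.IsCoh F) (c : ℕ) :
    (∀ j < c, ∀ᶠ e : ℤ in atBot, Subsingleton (Coh.HH X (CohB1.tensorMod F
        ((Scheme.Modules.pullback ι).obj (Twist.twistProjSpace N k e))) j)) ↔
      ∀ x : X, IsClosed ({x} : Set X) → (c : ℕ∞) ≤ LocCoh.depth (X.presheaf.stalk x) (F.presheaf.stalk x) := by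
  have hG := isCoh_push ι hF
  have hce : Topology.IsClosedEmbedding ι.base := ι.isClosedEmbedding
  have h1 : ∀ j, (∀ᶠ e : ℤ in atBot, Subsingleton (Coh.HH X (CohB1.tensorMod F
        ((Scheme.Modules.pullback ι).obj (Twist.twistProjSpace N k e))) j)) ↔
      PnNegVan.NegVan j ((Coh.push ι).obj F) := fun j =>
    eventually_congr (Eventually.of_forall fun e => subsingleton_HH_iff ι hF.1 e j)
  simp only [h1, fun j => NegVanStalk.negVan_iff_H hG j]
  constructor
  · intro h x hx
    rw [← depth_stalk_push ι F x]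
    haveI := NegVanStalk.isRegular_stalk (ι x)
    haveI := NegVanStalk.finite_stalk hG (ι x)
    refine (LC.le_idealDepth_iff_H _ _ c).2 fun j hj => h j hj (ι x) ?_
    have := hce.isClosedMap _ hx
    rwa [Set.image_singleton] at this
  · intro h j hj y hy
    haveI := NegVanStalk.isRegular_stalk y
    haveI := NegVanStalk.finite_stalk hG y
    refine (LC.le_idealDepth_iff_H _ _ c).1 ?_ j hj
    show (c : ℕ∞) ≤ LocCoh.depth _ _
    by_cases hy' : y ∈ Set.range ι
    · obtain ⟨x, rfl⟩ := hy'
      rw [depth_stalk_push ι F x]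
      refine h x ?_
      have h2 := hy.preimage ι.continuous
      rwa [show ι.base ⁻¹' {ι x} = {x} from Set.ext fun z => by simp [hce.injective.eq_iff]] at h2
    · rw [depth_stalk_push_off ι F hy']
      exact le_top

end Groth.Agent.NegVanClosed
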