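import Groth.Agent.Lib.PnDualExt

/-!
Serre duality for `Ext` on projective space, assembled.
-/

set_option linter.style.haveILetI false
set_option linter.unusedSectionVars false
set_option backward.isDefEq.respectTransparency false
set_option maxHeartbeats 1000000

universe u

open CategoryTheory CategoryTheory.Limits AlgebraicGeometry TopologicalSpace Opposite
open CategoryTheory.Abelian
open Groth.Agent.PnCoh Groth.Agent.PnCoh.Finite

noncomputable section

namespace Groth.Agent.PnDual

variable {k : Type u} [Field k] {n : ℕ}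

/-- Finite sections on the charts. -/
def GoodPn (F : (CohB1.ProjSpace n k).Modules) : Prop :=
  Good (𝒜 := CohB1.polyGrading n k) (coordsR k n) F

theorem goodPn_of_isCoh {F : (CohB1.ProjSpace n k).Modules} (hF : Coh.IsCoh F) : GoodPn F :=
  good_of_isCoh coordsR_mem hF

theorem exists_pres_pn {F : (CohB1.ProjSpace n k).Modules} (hF : GoodPn F) :
    ∃ (ι : Type u) (_ : Fintype ι) (d : ι → ℤ) (_ : ∀ a, d a < 0)
      (S : ShortComplex (CohB1.ProjSpace n k).Modules)
      (p : ∀ a, S.X₂ ⟶ Twist.twistProjSpace n k (d a)) (q : ∀ a, Twist.twistProjSpace n k (d a) ⟶ S.X₂),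
      S.ShortExact ∧ S.X₃ = F ∧ GoodPn S.X₁ ∧ ∑ a, p a ≫ q a = 𝟙 S.X₂ :=
  exists_presentation_lt hF 0

theorem bijective_top_pn (t : HTw n k (-((n : ℤ) + 1)) ≃ₗ[k] k) {F : (CohB1.ProjSpace n k).Modules}
    (hF : GoodPn F) : Function.Bijective (Canon.dualityMap k (CohB1.ProjSpace n k) n
      (Twist.twistProjSpace n k (-((n : ℤ) + 1))) t.toLinearMap F) :=
  bijective_dualityMap_good rfl t hF

variable [HasExt.{u} (CohB1.ProjSpace n k).Modules]

theorem subsingleton_ext_negTwist {d : ℤ} (hd : d < 0) (i : ℕ) (hi : 0 < i) :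
    Subsingleton (Abelian.Ext.{u} (Twist.twistProjSpace n k d) (Twist.twistProjSpace n k (-((n : ℤ) + 1))) i) := by
  haveI : HasExt.{u} (Proj (CohB1.polyGrading n k)).Modules :=
    inferInstanceAs (HasExt.{u} (CohB1.ProjSpace n k).Modules)
  exact subsingleton_ext_twist (coordsR k n) coordsR_mem coordsR_cover d (-((n : ℤ) + 1)) i
    (S0844.result k n (-((n : ℤ) + 1) - d) i (fun h => by omega) (fun h => by omega))

theorem exists_dualPres (t : HTw n k (-((n : ℤ) + 1)) ≃ₗ[k] k) {F : (CohB1.ProjSpace n k).Modules}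
    (hF : GoodPn F) : ∃ S : ShortComplex (CohB1.ProjSpace n k).Modules, S.X₃ = F ∧ GoodPn S.X₁ ∧
      IsDualPres (Twist.twistProjSpace n k (-((n : ℤ) + 1))) n t.toLinearMap S := by
  obtain ⟨ι, _, d, hd, S, p, q, hS, h3, hK, hpq⟩ := exists_pres_pn hF
  refine ⟨S, h3, hK, hS, fun j hj => ?_, fun j hj => ?_, ?_⟩
  · exact subsingleton_ext_of_decomposition _ p q hpq j fun a => subsingleton_ext_negTwist (hd a) j hj
  · exact subsingleton_HH_of_decomposition _ p q hpq j fun a =>
      S0844.result k n (d a) j (fun h => by have := hd a; omega) (fun h => by omega)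
  · exact bijective_of_decomposition _ p q hpq fun a => bijective_dualityMap_twist' rfl t (d a)

/-- Serre duality. -/
theorem serre_duality {F : (CohB1.ProjSpace n k).Modules} (hF : GoodPn F) (i : ℕ) :
    (i ≤ n → Nonempty (Abelian.Ext.{u} F (Twist.twistProjSpace n k (-((n : ℤ) + 1))) i ≃ₗ[k]
      Module.Dual k (Coh.HH (CohB1.ProjSpace n k) F (n - i)))) ∧
    (n < i → Subsingleton (Abelian.Ext.{u} F (Twist.twistProjSpace n k (-((n : ℤ) + 1))) i)) := by
  obtain ⟨t⟩ := exists_trace' (m := n) (R := k) (b := -((n : ℤ) + 1)) rfl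
  exact duality_induction GoodPn n t.toLinearMap (fun F hF => bijective_top_pn t hF)
    (fun F hF => exists_dualPres t hF) F hF i

end Groth.Agent.PnDual
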