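import Groth.Agent.PnCoh.Finite.TwistInv
import Groth.Agent.PnCoh.Finite.SerreVanishing
import Groth.Agent.KFlatLib.Scheme.Flatness
import Groth.Agent.KFlatLib.Scheme.TensorAssoc
import Groth.Agent.SiteBase.ExtCompare
import Groth.Agent.SiteBase.ExtMod
import Groth.Agent.QCoh.OpenSub

/-!
Twisting is an equivalence; `Ext` out of twisting sheaves.
-/

set_option linter.style.haveILetI false
set_option linter.unusedSectionVars false
set_option backward.isDefEq.respectTransparency false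
set_option backward.isDefEq.respectTransparency.types false
set_option maxHeartbeats 1000000

universe u

open CategoryTheory CategoryTheory.Limits AlgebraicGeometry TopologicalSpace Opposite MonoidalCategory
open CategoryTheory.Abelian
open Groth.Agent.KFlatLib Groth.Agent.PnCoh Groth.Agent.PnCoh.Finite

noncomputable section

namespace Groth.Agent.PnDual

variable {R A : Type u} [CommRing R] [CommRing A] [Algebra R A]
  {𝒜 : ℕ → Submodule R A} [GradedAlgebra 𝒜] {κ : Type u} (g : κ → A)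

/-- Twisting twice. -/
def twistFCompIso (a b c : ℤ) (φ : CohB1.tensorMod (Twist.twist 𝒜 a) (Twist.twist 𝒜 b) ≅ Twist.twist 𝒜 c) :
    twistF (𝒜 := 𝒜) a ⋙ twistF b ≅ twistF c :=
  NatIso.ofComponents
    (fun M => (((tensorAssocSch (Proj 𝒜)).app M).app (Twist.twist 𝒜 a)).app (Twist.twist 𝒜 b) ≪≫
      (DCoh.tensorBi.obj M).mapIso φ)
    fun {M N} f => by
      have h1 := congrArg (fun t => (t.app (Twist.twist 𝒜 a)).app (Twist.twist 𝒜 b))
        ((tensorAssocSch (Proj 𝒜)).hom.naturality f)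
      have h2 := (DCoh.tensorBi.map f).naturality φ.hom
      simp only [NatTrans.comp_app, bifunctorComp₁₂_map_app_app, bifunctorComp₂₃_map_app_app] at h1
      simp only [Functor.comp_map, Iso.trans_hom, Functor.mapIso_hom, Iso.app_hom]
      refine ((Category.assoc _ _ _).symm.trans (congrArg (· ≫ _) h1)).trans ?_
      refine (Category.assoc _ _ _).trans (Eq.trans ?_ (Category.assoc _ _ _).symm)
      exact congrArg (_ ≫ ·) h2.symm

/-- Twisting by degree zero. -/
def twistFZeroIso (e : Coh.structureModule (Proj 𝒜) ≅ Twist.twist 𝒜 0) :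
    twistF (𝒜 := 𝒜) 0 ≅ 𝟭 (Proj 𝒜).Modules :=
  DCoh.tensorBi.flip.mapIso e.symm ≪≫ tensorStructureIso (Proj 𝒜)

/-- Twisting is an equivalence. -/
def twistEquivalence (hg : ∀ j, g j ∈ 𝒜 1) (hcov : ⨆ j, D 𝒜 (g j) = ⊤) (d d' : ℤ) (h : d + d' = 0) :
    (Proj 𝒜).Modules ≌ (Proj 𝒜).Modules :=
  have h' : d' + d = 0 := (add_comm _ _).trans h
  CategoryTheory.Equivalence.mk (twistF d) (twistF d')
    (twistFCompIso d d' 0 ((twist_tensor_iso g hg hcov d d').some ≪≫ eqToIso (by rw [h])) ≪≫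
      twistFZeroIso (@asIso _ _ _ _ _ (isIso_oneHom g hg hcov))).symm
    (twistFCompIso d' d 0 ((twist_tensor_iso g hg hcov d' d).some ≪≫ eqToIso (by rw [h'])) ≪≫
      twistFZeroIso (@asIso _ _ _ _ _ (isIso_oneHom g hg hcov)))

/-- `Ext` out of a twisting sheaf is cohomology of a twist. -/
theorem subsingleton_ext_twist [HasExt.{u} (Proj 𝒜).Modules] (hg : ∀ j, g j ∈ 𝒜 1)
    (hcov : ⨆ j, D 𝒜 (g j) = ⊤) (d b : ℤ) (n : ℕ)
    (h : Subsingleton (Coh.HH (Proj 𝒜) (Twist.twist 𝒜 (b - d)) n)) :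
    Subsingleton (Ext (Twist.twist 𝒜 d) (Twist.twist 𝒜 b) n) := by
  let E := twistEquivalence g hg hcov d (-d) (add_neg_cancel d)
  haveI : E.functor.IsEquivalence := E.isEquivalence_functor
  haveI : E.inverse.IsEquivalence := E.isEquivalence_inverse
  haveI : E.inverse.Additive := Functor.additive_of_preserves_binary_products _
  haveI : EnoughInjectives (Proj 𝒜).Modules := inferInstanceAs (EnoughInjectives (SheafOfModules _))
  let i : E.functor.obj (Coh.structureModule (Proj 𝒜)) ≅ Twist.twist 𝒜 d :=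
    (DCoh.tensorBi.mapIso (@asIso _ _ _ _ _ (isIso_oneHom g hg hcov))).app (Twist.twist 𝒜 d) ≪≫
      (twist_tensor_iso g hg hcov 0 d).some ≪≫ eqToIso (by rw [zero_add])
  obtain ⟨e₁⟩ := SiteBase.nonempty_ext_addEquiv_of_adjunction E.toAdjunction i n (Twist.twist 𝒜 b)
  obtain ⟨e₂⟩ := SiteBase.nonempty_ext_unit_addEquiv (R := (Proj 𝒜).ringCatSheaf)
    (E.inverse.obj (Twist.twist 𝒜 b)) n
  have hs : Subsingleton (Coh.HH (Proj 𝒜) (E.inverse.obj (Twist.twist 𝒜 b)) n) :=
    QCoh.subsingleton_HH_of_iso ((twist_tensor_iso g hg hcov b (-d)).some ≪≫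
      eqToIso (by rw [sub_eq_add_neg]) : E.inverse.obj (Twist.twist 𝒜 b) ≅ Twist.twist 𝒜 (b - d)).symm n h
  exact (e₁.trans e₂).toEquiv.subsingleton_congr.2 hs

end Groth.Agent.PnDual
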