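import Groth.Agent.AmpleVan.AffineCrit
import Groth.Agent.KZ.QuasiProj
import Groth.Agent.Lib.EffCompl
import Groth.Agent.Lib.AVAmple
import Groth.Agent.RegUFD.Basic
import Groth.Agent.PnCoh.Finite.HHLin
import Groth.Agent.KFlatLib.Scheme.Tensor

/-!
# Coherent modules on regular separated schemes as quotients of locally free ones
-/

set_option linter.style.haveILetI false
set_option backward.isDefEq.respectTransparency false
set_option backward.isDefEq.respectTransparency.types false
set_option maxHeartbeats 800000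

universe u

open CategoryTheory CategoryTheory.Limits AlgebraicGeometry TopologicalSpace MonoidalCategory
open Groth.Agent.H23.PicMul

attribute [local instance] Groth.Agent.QCoh.hasFiniteBiproducts

namespace Groth.Agent.RegularResolution

open Groth.Agent Groth.Agent.AmpleVan

variable {X : Scheme.{u}}

theorem epi_of_stalk {A B : X.Modules} (φ : A ⟶ B)
    (h : ∀ x, Epi ((DerSch.stalkFunctor X x).map φ)) : Epi φ := by
  let S := ShortComplex.mk φ (0 : B ⟶ B) comp_zero
  refine (ShortComplex.exact_iff_epi S rfl).1 ((KFlatLib.exact_iff_stalk S).2 fun x => ?_)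
  haveI : Epi (S.map (DerSch.stalkFunctor X x)).f := h x
  exact (ShortComplex.exact_iff_epi _ (show (DerSch.stalkFunctor X x).map (0 : B ⟶ B) = 0 from
    Functor.map_zero _ _ _)).2 inferInstance

/-- The map from copies of the structure module given by sections is onto on stalks where they span. -/
theorem epi_stalk_desc {G : X.Modules} {c : ℕ} (T : Fin c → Γ(G, ⊤)) (x : X)
    (h : Submodule.span (X.presheaf.stalk x) (Set.range fun j => G.presheaf.germ ⊤ x trivial (T j)) = ⊤) :
    Epi ((DerSch.stalkFunctor X x).map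
      (biproduct.desc fun j : Fin c => InvX.ofSect (T j))) := by
  refine (ModuleCat.epi_iff_surjective _).2 (LinearMap.range_eq_top.1 (top_le_iff.1 (h.ge.trans
    (Submodule.span_le.2 ?_))))
  rintro _ ⟨j, rfl⟩
  let q := biproduct.desc fun j : Fin c => InvX.ofSect (T j)
  refine ⟨(⨁ fun _ : Fin c => Coh.structureModule X).presheaf.germ ⊤ x trivial
    ((biproduct.ι (fun _ : Fin c => Coh.structureModule X) j).app ⊤ (1 : Γ(X, ⊤))), ?_⟩
  refine (DerSch.stalkFunctor_map_germ x q ⊤ trivial _).trans (congrArg _ ?_)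
  show (biproduct.ι (fun _ : Fin c => Coh.structureModule X) j ≫ q).app ⊤ (1 : Γ(X, ⊤)) = T j
  rw [biproduct.ι_desc]
  exact InvX.one_ofSect _

/-- Twisting preserves surjectivity on stalks. -/
theorem epi_stalk_tw (P : X.Modules) {A B : X.Modules} (f : A ⟶ B) (x : X)
    [hf : Epi ((DerSch.stalkFunctor X x).map f)] : Epi ((DerSch.stalkFunctor X x).map ((tw P).map f)) := by
  let e := KFlatLib.stalkTensorRightIso P x
  have hne : Epi ((DerSch.stalkFunctor X x).map f ▷ (DerSch.stalkFunctor X x).obj P) :=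
    (ModuleCat.epi_iff_surjective _).2
      (LinearMap.rTensor_surjective _ ((ModuleCat.epi_iff_surjective _).1 hf))
  exact ((MorphismProperty.epimorphisms _).arrow_mk_iso_iff
    (Arrow.isoMk (e.app A) (e.app B) (e.hom.naturality f).symm)).2 hne

/-- A coherent module receives a map from a sum of copies of a negative power, onto over the locus
of a section. -/
theorem exists_map_onto_locus [CompactSpace X] [X.IsSeparated] {L M : X.Modules}
    (hL : PicF.IsInvertible L) (hM : PicF.IsInvertible M) (hinv : PicF.cl L * PicF.cl M = 1)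
    (s : Coh.structureModule X ⟶ L) (haff : IsAffineOpen (CohB1.genLocus L s))
    {F : X.Modules} (hF : Coh.IsCoh F) :
    ∃ (c q : ℕ) (ψ : twSum (CohB1.tensorPow M q) c ⟶ F),
      ∀ x ∈ CohB1.genLocus L s, Epi ((DerSch.stalkFunctor X x).map ψ) := by
  classical
  obtain ⟨c, t, ht⟩ := Submodule.fg_iff_exists_fin_generating_family.1
    (QCoh.finite_of_isFT hF.1 hF.2 haff).fg_top
  choose n₀ hn₀ using fun j => AmpleX.exists_extend hF.1 hL s (t j)
  let q := Finset.univ.sup n₀
  choose T hT using fun j => hn₀ j q (Finset.le_sup (Finset.mem_univ j))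
  let G := CohB1.tensorMod F (CohB1.tensorPow L q)
  let P := CohB1.tensorPow M q
  have hP : PicF.IsInvertible P := InvX.isInvertible_tensorPow hM _
  obtain ⟨ψ⟩ : Nonempty ((tw P).obj G ≅ F) := cl_eq_iff.1 (by
    show PicF.cl (CohB1.tensorMod G P) = _
    rw [cl_tensor, cl_tensor, cl_tensorPow, cl_tensorPow, mul_assoc, ← mul_pow, hinv, one_pow, mul_one])
  let q₀ : (⨁ fun _ : Fin c => Coh.structureModule X) ⟶ G := biproduct.desc fun j => InvX.ofSect (T j)
  refine ⟨c, q, (tw P).map q₀ ≫ ψ.hom, fun x hx => ?_⟩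
  have hspan : Submodule.span (X.presheaf.stalk x)
      (Set.range fun j => F.presheaf.germ (CohB1.genLocus L s) x hx (t j)) = ⊤ := by
    letI := QCoh.stalkAlg (X := X) hx
    letI := QCoh.stalkModule F hx
    haveI := QCoh.isScalarTower_stalk F hx
    haveI := QCoh.isLocalization_stalk' haff hx
    haveI := QCoh.isLocalizedModule_germLin hF.1 haff hx
    have h1 : Submodule.localized' (X.presheaf.stalk x) (haff.primeIdealOf ⟨x, hx⟩).asIdeal.primeCompl
        (QCoh.germLin F hx) (Submodule.span Γ(X, CohB1.genLocus L s) (Set.range t)) = ⊤ := by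
      rw [ht, Submodule.localized'_top]
    rw [Submodule.localized'_span, ← Set.range_comp] at h1
    exact h1
  have h2 := AmpleX.span_germ_tmul_eq_top hx t hspan
    (AmpleX.isFrame_powElt (AmpleX.res_genLocus_frame s) q)
  haveI : Epi ((DerSch.stalkFunctor X x).map q₀) := epi_stalk_desc T x (top_le_iff.1 (h2.ge.trans
    (Submodule.span_mono (Set.range_subset_iff.2 fun j => ⟨j, by
      show G.presheaf.germ ⊤ x trivial (T j) = _
      rw [← hT j]
      exact (InvX.germ_res' le_top hx (T j)).symm⟩))))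
  rw [Functor.map_comp]
  haveI hq : Epi ((DerSch.stalkFunctor X x).map ((tw P).map q₀)) := epi_stalk_tw P q₀ x
  exact epi_comp _ _

/-- With an affine cover by loci of sections, coherent modules are quotients of locally free ones. -/
theorem exists_epi_of_family [IsNoetherian X] [X.IsSeparated] {κ : Type u} [Fintype κ]
    (L M : κ → X.Modules) (hL : ∀ k, PicF.IsInvertible (L k)) (hM : ∀ k, PicF.IsInvertible (M k))
    (hinv : ∀ k, PicF.cl (L k) * PicF.cl (M k) = 1) (s : ∀ k, Coh.structureModule X ⟶ L k)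
    (haff : ∀ k, IsAffineOpen (CohB1.genLocus (L k) (s k)))
    (hcov : ∀ x, ∃ k, x ∈ CohB1.genLocus (L k) (s k)) : KRR.HasEnoughLocFree X := by
  intro F hF
  choose c q ψ hψ using fun k => exists_map_onto_locus (hL k) (hM k) (hinv k) (s k) (haff k) hF
  let T : κ → X.Modules := fun k => twSum (CohB1.tensorPow (M k) (q k)) (c k)
  refine ⟨⨁ T, biproduct.desc ψ, KZ.QuasiProj.flf_biproduct T fun k =>
    isFinLocFree_twSum (InvX.isInvertible_tensorPow (hM k) _) _, epi_of_stalk _ fun x => ?_⟩
  obtain ⟨k, hk⟩ := hcov x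
  haveI := hψ k x hk
  exact epi_of_epi_fac (f := (DerSch.stalkFunctor X x).map (biproduct.ι T k))
    (h := (DerSch.stalkFunctor X x).map (ψ k)) (by rw [← Functor.map_comp, biproduct.ι_desc])

/-- A separated integral Noetherian scheme with regular local rings has enough locally free modules. -/
theorem hasEnoughLocFree_of_regular [IsNoetherian X] [X.IsSeparated] [IsIntegral X]
    (hreg : ∀ x : X, IsRegularLocalRing (X.presheaf.stalk x)) : KRR.HasEnoughLocFree X := by
  classical
  obtain ⟨S, hSf, hcov⟩ := isCompact_iff_finite_and_eq_biUnion_affineOpens.mp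
    (show IsCompact ((⊤ : X.Opens) : Set X) by simpa using isCompact_univ)
  let S' := {U : X.affineOpens | U ∈ S ∧ (U.1 : Set X).Nonempty}
  haveI : Finite S' := (hSf.subset fun U hU => hU.1).to_subtype
  haveI := Fintype.ofFinite S'
  choose I hI hsupp using fun U : S' => EffCompl.exists_effCartier_compl X
    (fun V W hV hW => hV.inf hW) U.1.1 U.1.2 (U.1.1.isOpen.dense U.2.2)
    fun x _ => haveI := hreg x; RegUFD.ufd (X.presheaf.stalk x)
  have hJ : ∀ U : S', PicF.IsInvertible (ClSub.idealMod (I U)) := fun U => (S8914.result (I U)).2 (hI U)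
  choose L hL hinv using fun U : S' => H23.PicInv.exists_inverse (hJ U)
  have hinv' : ∀ U, ClSub.IsInverseOf (L U) (ClSub.idealMod (I U)) ∧
      PicF.cl (L U) * PicF.cl (ClSub.idealMod (I U)) = 1 := fun U => by
    obtain ⟨e⟩ := hinv U
    obtain ⟨c⟩ := H23.PicMul.comm (L U) (ClSub.idealMod (I U))
    refine ⟨⟨c ≪≫ e⟩, ?_⟩
    rw [← cl_tensor, one_def]
    exact cl_eq_iff.2 ⟨c ≪≫ e⟩
  choose s hs using fun U : S' => AVAmple.exists_divisor_section (I U) (hI U) (hL U) (hinv' U).1
  have hloc : ∀ U : S', CohB1.genLocus (L U) (InvX.ofSect (s U)) = U.1.1 := fun U => by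
    refine Opens.ext (Set.ext fun x => ?_)
    have h : x ∈ ((I U).support : Set X) ↔ x ∉ U.1.1 := by rw [hsupp U]; rfl
    exact (hs U x).trans ((not_congr h).trans not_not)
  refine exists_epi_of_family L (fun U => ClSub.idealMod (I U)) hL hJ (fun U => (hinv' U).2)
    (fun U => InvX.ofSect (s U)) (fun U => (hloc U).symm ▸ U.1.2) fun x => ?_
  have hx : x ∈ ((⊤ : X.Opens) : Set X) := trivial
  rw [hcov] at hx
  simp only [Opens.coe_iSup, Set.mem_iUnion] at hx
  obtain ⟨U, hU, hxU⟩ := hx
  exact ⟨⟨U, hU, x, hxU⟩, by rw [hloc]; exact hxU⟩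

/-- Descending induction on the degree. -/
theorem subsingleton_HH_of_quot [IsLocallyNoetherian X] [CompactSpace X] [QuasiSeparatedSpace X] (r : ℕ)
    (h : ∀ F : X.Modules, Coh.IsCoh F → ∃ (E : X.Modules) (p : E ⟶ F), Coh.IsCoh E ∧ Epi p ∧
      ∀ i, r < i → Subsingleton (Coh.HH X E i))
    (F : X.Modules) (hF : Coh.IsCoh F) (i : ℕ) (hi : r < i) : Subsingleton (Coh.HH X F i) := by
  obtain ⟨d, hd⟩ := QCoh.exists_HH_bound (X := X)
  suffices H : ∀ (j : ℕ) (F : X.Modules), Coh.IsCoh F → ∀ i, r < i → d ≤ i + j →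
      Subsingleton (Coh.HH X F i) from H d F hF i hi (by omega)
  intro j
  induction j with
  | zero => exact fun F hF i _ hd' => hd F hF.1 i (by omega)
  | succ j ih =>
    intro F hF i hi hd'
    obtain ⟨E, p, hE, hp, hv⟩ := h F hF
    haveI := hp
    let S : ShortComplex X.Modules := ShortComplex.mk (kernel.ι p) p (kernel.condition p)
    have hS : S.ShortExact := { exact := ShortComplex.exact_of_f_is_kernel _ (kernelIsKernel p) }
    exact PnCoh.Finite.subsingleton_HH_X₃ hS i (hv i hi)
      (ih (kernel p) (QCoh.isCoh_kernel hE hF p) (i + 1) (by omega) (by omega))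

/-- Descending induction on the degree, for finiteness. -/
theorem finite_HH_of_quot (A : Type u) [CommRing A] [IsNoetherianRing A]
    [X.Over (Spec (CommRingCat.of A))] [IsLocallyNoetherian X] [CompactSpace X]
    [QuasiSeparatedSpace X] (r : ℕ)
    (h : ∀ F : X.Modules, Coh.IsCoh F → ∃ (E : X.Modules) (p : E ⟶ F), Coh.IsCoh E ∧ Epi p ∧
      ∀ i, r < i → Module.Finite A (Coh.HH X E i))
    (F : X.Modules) (hF : Coh.IsCoh F) (i : ℕ) (hi : r < i) : Module.Finite A (Coh.HH X F i) := by
  obtain ⟨d, hd⟩ := QCoh.exists_HH_bound (X := X)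
  suffices H : ∀ (j : ℕ) (F : X.Modules), Coh.IsCoh F → ∀ i, r < i → d ≤ i + j →
      Module.Finite A (Coh.HH X F i) from H d F hF i hi (by omega)
  intro j
  induction j with
  | zero =>
    intro F hF i _ hd'
    haveI := hd F hF.1 i (by omega)
    infer_instance
  | succ j ih =>
    intro F hF i hi hd'
    obtain ⟨E, p, hE, hp, hv⟩ := h F hF
    haveI := hp
    let S : ShortComplex X.Modules := ShortComplex.mk (kernel.ι p) p (kernel.condition p)
    have hS : S.ShortExact := { exact := ShortComplex.exact_of_f_is_kernel _ (kernelIsKernel p) }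
    exact PnCoh.Finite.finite_HH_X₃ A hS i (hv i hi)
      (ih (kernel p) (QCoh.isCoh_kernel hE hF p) (i + 1) (by omega) (by omega))

end Groth.Agent.RegularResolution
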