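import Groth.Agent.Lib.PnDualPres
import Groth.Agent.Lib.PnDualTwistAdj
import Groth.Agent.S0844
import Groth.Prelude.Def_KLin
import Mathlib.Algebra.Homology.DerivedCategory.Ext.Linear
import Mathlib.Algebra.Homology.DerivedCategory.Ext.ExactSequences
import Mathlib.LinearAlgebra.Dual.Lemmas

/-!
Serre duality for `Ext` on projective space.
-/

set_option linter.style.haveILetI false
set_option linter.unusedSectionVars false
set_option backward.isDefEq.respectTransparency false
set_option maxHeartbeats 1600000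

universe u

open CategoryTheory CategoryTheory.Limits AlgebraicGeometry TopologicalSpace Opposite
open CategoryTheory.Abelian
open Groth.Agent.PnCoh Groth.Agent.PnCoh.Finite

noncomputable section

namespace Groth.Agent.PnDual

section Connecting

theorem H_map_f_eq_zero_iff {Y : TopCat.{u}} {T : ShortComplex (CohTop.Ab Y)} (hT : T.ShortExact) (n : ℕ)
    (x : CohTop.H T.X₁ (n + 1)) :
    Sheaf.H.map T.f (n + 1) x = 0 ↔ ∃ y, QCoh.Ab.connecting hT n y = x := by
  constructor
  · intro h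
    exact Ext.covariant_sequence_exact₁ _ hT x h rfl
  · rintro ⟨y, rfl⟩
    show (Ext.comp y hT.extClass rfl).comp (Ext.mk₀ T.f) (add_zero (n + 1)) = 0
    rw [Ext.comp_assoc_of_third_deg_zero, hT.extClass_comp, Ext.comp_zero]

theorem H_map_f_injective {Y : TopCat.{u}} {T : ShortComplex (CohTop.Ab Y)} (hT : T.ShortExact) :
    Function.Injective (Sheaf.H.map T.f 0) := by
  haveI := hT.mono_f
  exact Ext.postcomp_mk₀_injective_of_mono _ T.f

variable {k : Type u} [Field k] {X : Scheme.{u}} [X.Over (Spec (CommRingCat.of k))]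
  {S : ShortComplex X.Modules} (hS : S.ShortExact)

theorem HHlin_f_eq_zero_iff (n : ℕ) (x : Coh.HH X S.X₁ (n + 1)) :
    Canon.HHlin k S.f (n + 1) x = 0 ↔ ∃ y, deltaLin k hS n y = x :=
  H_map_f_eq_zero_iff (Y := X.toPresheafedSpace.carrier) (T := S.map (QCoh.toAbFunctor X))
    (QCoh.toAb_shortExact hS) n x

include hS in
theorem HHlin_f_injective : Function.Injective (Canon.HHlin k S.f 0) :=
  H_map_f_injective (Y := X.toPresheafedSpace.carrier) (T := S.map (QCoh.toAbFunctor X))
    (QCoh.toAb_shortExact hS)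

end Connecting

section General

variable {k : Type u} [Field k] {X : Scheme.{u}} [X.Over (Spec (CommRingCat.of k))]
  {ω : X.Modules} {q : ℕ}

/-- The duality map is linear. -/
def dualityLin (t : Coh.HH X ω q →ₗ[k] k) (F : X.Modules) :
    (F ⟶ ω) →ₗ[k] Module.Dual k (Coh.HH X F q) where
  toFun := Canon.dualityMap k X q ω t F
  map_add' φ ψ := LinearMap.ext fun x => by
    show t (Canon.HHlin k (φ + ψ) q x) = t (Canon.HHlin k φ q x) + t (Canon.HHlin k ψ q x)
    rw [← map_add]
    refine congrArg t ?_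
    show Sheaf.H.map ((QCoh.toAbFunctor X).map (φ + ψ)) q x = _
    rw [Functor.map_add]
    exact Sheaf.H.map_add_apply _ _ _
  map_smul' a φ := LinearMap.ext fun x => by
    show t (Canon.HHlin k (a • φ) q x) = a • t (Canon.HHlin k φ q x)
    rw [← map_smul t]
    refine congrArg t ?_
    rw [← map_smul, KLin.smul_def, ← HHlin_comp]
    rfl

variable [HasExt.{u} X.Modules]

theorem subsingleton_ext_of_decomposition {E : X.Modules} {ι : Type*} [Fintype ι] (T : ι → X.Modules)
    (p : ∀ a, E ⟶ T a) (j : ∀ a, T a ⟶ E) (h : ∑ a, p a ≫ j a = 𝟙 E) (n : ℕ)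
    (hT : ∀ a, Subsingleton (Ext (T a) ω n)) : Subsingleton (Ext E ω n) := by
  classical
  refine subsingleton_of_forall_eq 0 fun x => ?_
  have h1 : ∀ a, (Ext.mk₀ (p a ≫ j a)).comp x (zero_add n) = 0 := fun a => by
    rw [← Ext.mk₀_comp_mk₀_assoc, (hT a).elim ((Ext.mk₀ (j a)).comp x (zero_add n)) 0, Ext.comp_zero]
  have h2 : ∀ s : Finset ι, (Ext.mk₀ (∑ a ∈ s, p a ≫ j a)).comp x (zero_add n) = 0 := fun s => by
    induction s using Finset.induction with
    | empty => rw [Finset.sum_empty, Ext.mk₀_zero, Ext.zero_comp]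
    | insert a s ha ih => rw [Finset.sum_insert ha, Ext.mk₀_add, Ext.add_comp, h1, ih, add_zero]
  have h3 := h2 Finset.univ
  rwa [h, Ext.mk₀_id_comp] at h3

variable (k)

/-- The connecting map on `Ext`, linearly. -/
def extDelta {S : ShortComplex X.Modules} (hS : S.ShortExact) (i : ℕ) :
    Ext S.X₁ ω i →ₗ[k] Ext S.X₃ ω (i + 1) :=
  (Ext.bilinearCompOfLinear k S.X₃ S.X₁ ω 1 i (i + 1) (add_comm 1 i) hS.extClass)

theorem extDelta_surjective {S : ShortComplex X.Modules} (hS : S.ShortExact) (i : ℕ)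
    (h : Subsingleton (Ext S.X₂ ω (i + 1))) : Function.Surjective (extDelta k (ω := ω) hS i) := fun x =>
  Ext.contravariant_sequence_exact₃ hS ω x (h.elim _ _) (add_comm 1 i)

theorem extDelta_injective {S : ShortComplex X.Modules} (hS : S.ShortExact) (i : ℕ)
    (h : Subsingleton (Ext S.X₂ ω i)) : Function.Injective (extDelta k (ω := ω) hS i) := by
  refine (injective_iff_map_eq_zero _).2 fun x hx => ?_
  obtain ⟨y, hy⟩ := Ext.contravariant_sequence_exact₁ hS ω x (add_comm 1 i) hx
  rw [← hy, h.elim y 0, Ext.comp_zero]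

variable {k} {S : ShortComplex X.Modules} (hS : S.ShortExact) (t : Coh.HH X ω q →ₗ[k] k)

include hS in
theorem ker_extDelta_zero :
    LinearMap.ker ((extDelta k (ω := ω) hS 0).comp (Ext.linearEquiv₀ (R := k)).symm.toLinearMap) =
      LinearMap.range (Linear.leftComp k ω S.f) := by
  ext φ
  rw [LinearMap.mem_ker, LinearMap.mem_range]
  show hS.extClass.comp (Ext.mk₀ φ) (add_comm 1 0) = 0 ↔ _
  constructor
  · intro h
    obtain ⟨y, hy⟩ := Ext.contravariant_sequence_exact₁ hS ω (Ext.mk₀ φ) rfl h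
    obtain ⟨ψ, rfl⟩ := (Ext.mk₀_bijective _ _).2 y
    rw [Ext.mk₀_comp_mk₀] at hy
    exact ⟨ψ, (Ext.mk₀_bijective _ _).1 hy⟩
  · rintro ⟨ψ, rfl⟩
    show hS.extClass.comp (Ext.mk₀ (S.f ≫ ψ)) (add_comm 1 0) = 0
    rw [← Ext.mk₀_comp_mk₀, ← Ext.comp_assoc_of_second_deg_zero, hS.extClass_comp, Ext.zero_comp]

end General

section Step

variable {k : Type u} [Field k] {X : Scheme.{u}} [X.Over (Spec (CommRingCat.of k))]
  {ω : X.Modules} [HasExt.{u} X.Modules] {S : ShortComplex X.Modules}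

/-- The first step: `Ext¹` is dual to the cohomology one below the top. -/
theorem ext_one_duality (hS : S.ShortExact) {p : ℕ} (t : Coh.HH X ω (p + 1) →ₗ[k] k)
    (hE : Subsingleton (Ext S.X₂ ω 1)) (hEp : Subsingleton (Coh.HH X S.X₂ p))
    (hDE : Function.Bijective (Canon.dualityMap k X (p + 1) ω t S.X₂))
    (hDK : Function.Bijective (Canon.dualityMap k X (p + 1) ω t S.X₁)) :
    Nonempty (Ext S.X₃ ω 1 ≃ₗ[k] Module.Dual k (Coh.HH X S.X₃ p)) := by
  let Ξ : (S.X₁ ⟶ ω) →ₗ[k] Ext S.X₃ ω 1 :=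
    (extDelta k (ω := ω) hS 0).comp (Ext.linearEquiv₀ (R := k)).symm.toLinearMap
  have hΞ : Function.Surjective Ξ :=
    (extDelta_surjective k hS 0 hE).comp (Ext.linearEquiv₀ (R := k)).symm.surjective
  let Θ : (S.X₁ ⟶ ω) →ₗ[k] Module.Dual k (Coh.HH X S.X₃ p) :=
    (deltaLin k hS p).dualMap.comp (dualityLin t S.X₁)
  have hδ : Function.Injective (deltaLin k hS p) := (injective_iff_map_eq_zero _).2 fun x hx => by
    obtain ⟨y, rfl⟩ := exists_of_deltaLin_eq_zero k hS p hx
    rw [hEp.elim y 0, map_zero]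
  have hΘ : Function.Surjective Θ :=
    (LinearMap.dualMap_surjective_of_injective hδ).comp hDK.2
  have hker : LinearMap.ker Θ = LinearMap.ker Ξ := by
    rw [ker_extDelta_zero hS]
    ext φ
    rw [LinearMap.mem_ker, LinearMap.mem_range]
    constructor
    · intro h
      have hsub : LinearMap.ker (Canon.HHlin k S.f (p + 1)) ≤
          LinearMap.ker (dualityLin t S.X₁ φ) := fun x hx => by
        obtain ⟨y, rfl⟩ := (HHlin_f_eq_zero_iff hS p x).1 (LinearMap.mem_ker.1 hx)
        exact LinearMap.congr_fun h y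
      obtain ⟨g, hg⟩ : dualityLin t S.X₁ φ ∈ LinearMap.range (Canon.HHlin k S.f (p + 1)).dualMap := by
        rw [LinearMap.range_dualMap_eq_dualAnnihilator_ker, Submodule.mem_dualAnnihilator]
        exact fun x hx => hsub hx
      obtain ⟨ψ, hψ⟩ := hDE.2 g
      refine ⟨ψ, hDK.1 (LinearMap.ext fun x => ?_)⟩
      show Canon.dualityMap k X (p + 1) ω t S.X₁ (S.f ≫ ψ) x = _
      rw [dualityMap_comp, hψ]
      exact LinearMap.congr_fun hg x
    · rintro ⟨ψ, rfl⟩
      refine LinearMap.ext fun y => ?_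
      show Canon.dualityMap k X (p + 1) ω t S.X₁ (S.f ≫ ψ) (deltaLin k hS p y) = 0
      rw [dualityMap_comp]
      have h0 : Canon.HHlin k S.f (p + 1) (deltaLin k hS p y) = 0 :=
        (HHlin_f_eq_zero_iff hS p _).2 ⟨y, rfl⟩
      rw [h0, map_zero]
  exact ⟨(Ξ.quotKerEquivOfSurjective hΞ).symm ≪≫ₗ Submodule.quotEquivOfEq _ _ hker.symm ≪≫ₗ
    Θ.quotKerEquivOfSurjective hΘ⟩

/-- The higher steps. -/
theorem ext_succ_duality (hS : S.ShortExact) {i p : ℕ}
    (hE : Subsingleton (Ext S.X₂ ω i)) (hE' : Subsingleton (Ext S.X₂ ω (i + 1)))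
    (hEp : Subsingleton (Coh.HH X S.X₂ p)) (hEp' : Subsingleton (Coh.HH X S.X₂ (p + 1)))
    (h : Nonempty (Ext S.X₁ ω i ≃ₗ[k] Module.Dual k (Coh.HH X S.X₁ (p + 1)))) :
    Nonempty (Ext S.X₃ ω (i + 1) ≃ₗ[k] Module.Dual k (Coh.HH X S.X₃ p)) := by
  obtain ⟨e⟩ := h
  have hb : Function.Bijective (deltaLin k hS p) := by
    refine ⟨(injective_iff_map_eq_zero _).2 fun x hx => ?_, fun x => ?_⟩
    · obtain ⟨y, rfl⟩ := exists_of_deltaLin_eq_zero k hS p hx
      rw [hEp.elim y 0, map_zero]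
    · exact (HHlin_f_eq_zero_iff hS p x).1 (hEp'.elim _ _)
  exact ⟨(LinearEquiv.ofBijective _ ⟨extDelta_injective k hS i hE, extDelta_surjective k hS i hE'⟩).symm
    ≪≫ₗ e ≪≫ₗ (LinearEquiv.ofBijective _ hb).dualMap⟩

/-- What a presentation must satisfy. -/
structure IsDualPres (ω : X.Modules) (n : ℕ) (t : Coh.HH X ω n →ₗ[k] k) (S : ShortComplex X.Modules) :
    Prop where
  shortExact : S.ShortExact
  ext : ∀ j, 0 < j → Subsingleton (Abelian.Ext.{u} S.X₂ ω j)
  coh : ∀ j, j < n → Subsingleton (Coh.HH X S.X₂ j)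
  dual : Function.Bijective (Canon.dualityMap k X n ω t S.X₂)

/-- Duality in all degrees from duality in the top degree and presentations. -/
theorem duality_induction (P : X.Modules → Prop) (n : ℕ) (t : Coh.HH X ω n →ₗ[k] k)
    (htop : ∀ F, P F → Function.Bijective (Canon.dualityMap k X n ω t F))
    (hpres : ∀ F, P F → ∃ S : ShortComplex X.Modules, S.X₃ = F ∧ P S.X₁ ∧ IsDualPres ω n t S)
    (F : X.Modules) (hF : P F) (i : ℕ) :
    (i ≤ n → Nonempty (Abelian.Ext.{u} F ω i ≃ₗ[k] Module.Dual k (Coh.HH X F (n - i)))) ∧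
    (n < i → Subsingleton (Abelian.Ext.{u} F ω i)) := by
  induction i generalizing F with
  | zero =>
    exact ⟨fun _ => ⟨Ext.linearEquiv₀ ≪≫ₗ LinearEquiv.ofBijective (dualityLin t F) (htop F hF)⟩,
      fun h => absurd h (Nat.not_lt_zero _)⟩
  | succ i ih =>
    obtain ⟨S, rfl, hK, hS, hext, hcoh, hDE⟩ := hpres F hF
    constructor
    · intro hi
      rcases Nat.eq_zero_or_pos i with rfl | hi0
      · obtain ⟨p', rfl⟩ : ∃ p', n = p' + 1 := ⟨n - 1, by omega⟩
        rw [show p' + 1 - (0 + 1) = p' by omega]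
        exact ext_one_duality hS t (hext 1 Nat.one_pos) (hcoh p' (Nat.lt_succ_self _)) hDE (htop _ hK)
      · have h1 := (ih S.X₁ hK).1 (by omega)
        rw [show n - i = n - (i + 1) + 1 by omega] at h1
        exact ext_succ_duality hS (hext i hi0) (hext (i + 1) (Nat.succ_pos _)) (hcoh _ (by omega))
          (hcoh _ (by omega)) h1
    · intro hi
      refine subsingleton_of_forall_eq 0 fun x => ?_
      obtain ⟨y, rfl⟩ := extDelta_surjective k hS i (hext (i + 1) (Nat.succ_pos _)) x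
      rcases lt_or_eq_of_le (Nat.lt_succ_iff.1 hi) with h | rfl
      · rw [((ih S.X₁ hK).2 h).elim y 0, map_zero]
      · rcases Nat.eq_zero_or_pos n with rfl | hn0
        · obtain ⟨φ, rfl⟩ := (Ext.mk₀_bijective _ _).2 y
          obtain ⟨g, hg⟩ := LinearMap.dualMap_surjective_of_injective (HHlin_f_injective (k := k) hS)
            (Canon.dualityMap k X 0 ω t S.X₁ φ)
          obtain ⟨ψ, hψ⟩ := hDE.2 g
          have hφ : φ = S.f ≫ ψ := (htop _ hK).1 (LinearMap.ext fun z => by
            rw [dualityMap_comp, hψ]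
            exact (LinearMap.congr_fun hg z).symm)
          show hS.extClass.comp (Ext.mk₀ φ) (add_comm 1 0) = 0
          rw [hφ, ← Ext.mk₀_comp_mk₀, ← Ext.comp_assoc_of_second_deg_zero, hS.extClass_comp,
            Ext.zero_comp]
        · obtain ⟨e⟩ := (ih S.X₁ hK).1 le_rfl
          haveI : Subsingleton (Coh.HH X S.X₁ (n - n)) := by
            rw [Nat.sub_self]
            refine subsingleton_of_forall_eq 0 fun z => ?_
            exact HHlin_f_injective (k := k) hS (((hcoh 0 hn0).elim _ _).trans (map_zero _).symm)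
          rw [e.injective (Subsingleton.elim (e y) (e 0)), map_zero]

end Step

end Groth.Agent.PnDual
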