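import Groth.Agent.InvX.Tensor
import Groth.Agent.AmpleX.QAGenerated
import Groth.Agent.Lib.PnDualCoh
import Groth.Agent.PnCoh.Finite.SerreVanishing
import Groth.Prelude.Def_Curv2
import Groth.Prelude.Def_KLin

/-!
Finitely many global sections with a surjection on `H⁰`.
-/

set_option linter.style.haveILetI false
set_option linter.unusedSectionVars false
set_option backward.isDefEq.respectTransparency false
set_option maxHeartbeats 1000000

universe u

open CategoryTheory CategoryTheory.Limits AlgebraicGeometry TopologicalSpace Opposite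
open Groth.Agent.PnCoh.Finite

noncomputable section

namespace Groth.Agent.RegEpi

variable {k : Type u} [Field k] {X : Scheme.{u}}

/-- The value at `1`. -/
def one {M : X.Modules} (φ : Coh.structureModule X ⟶ M) : Γ(M, ⊤) := φ.app ⊤ (1 : Γ(X, ⊤))

theorem hom_eq_of_one_eq {M : X.Modules} (φ ψ : Coh.structureModule X ⟶ M) (h : one φ = one ψ) : φ = ψ := by
  refine sub_eq_zero.1 (AmpleX.eq_zero_of_one_eq_zero _ ?_)
  show φ.app ⊤ (1 : Γ(X, ⊤)) - ψ.app ⊤ (1 : Γ(X, ⊤)) = 0
  exact sub_eq_zero.2 h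

theorem one_ofSect {M : X.Modules} (t : Γ(M, ⊤)) : one (InvX.ofSect t) = t := by
  show (1 : Γ(X, ⊤)) • AModX.res M (le_top : (⊤ : X.Opens) ≤ ⊤) t = t
  rw [one_smul]
  exact AModX.res_self _

/-- The class of `1` in `H⁰(X, O)`. -/
def oneClass (X : Scheme.{u}) : Coh.HH X (Coh.structureModule X) 0 :=
  (Sheaf.H.equiv₀ (Coh.toAb (Coh.structureModule X)) isTerminalTop).symm (1 : Γ(X, ⊤))

variable [X.Over (Spec (CommRingCat.of k))]

theorem equiv₀_HHlin {M : X.Modules} (φ : Coh.structureModule X ⟶ M) :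
    (Sheaf.H.equiv₀ (Coh.toAb M) isTerminalTop (Canon.HHlin k φ 0 (oneClass X)) : Γ(M, ⊤)) = one φ := by
  refine (Sheaf.H.equiv₀_naturality isTerminalTop ((SheafOfModules.toSheaf X.ringCatSheaf).map φ) _).symm.trans ?_
  refine congrArg (fun z => φ.app ⊤ z) ?_
  exact AddEquiv.apply_symm_apply _ _

variable (k)

/-- Evaluation at the class of `1`. -/
def evalOneLin (M : X.Modules) : (Coh.structureModule X ⟶ M) →ₗ[k] Coh.HH X M 0 where
  toFun φ := Canon.HHlin k φ 0 (oneClass X)
  map_add' φ ψ := by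
    show Sheaf.H.map ((QCoh.toAbFunctor X).map (φ + ψ)) 0 (oneClass X) = _
    rw [Functor.map_add]
    exact Sheaf.H.map_add_apply _ _ _
  map_smul' a φ := by
    show Canon.HHlin k (a • φ) 0 (oneClass X) = a • Canon.HHlin k φ 0 (oneClass X)
    rw [← map_smul, KLin.smul_def, ← PnDual.HHlin_comp]
    rfl

theorem evalOneLin_bijective (M : X.Modules) : Function.Bijective (evalOneLin k M) := by
  refine ⟨fun φ ψ h => hom_eq_of_one_eq φ ψ ?_, fun x => ?_⟩
  · rw [← equiv₀_HHlin (k := k) φ, ← equiv₀_HHlin (k := k) ψ]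
    exact congrArg (fun z => (Sheaf.H.equiv₀ (Coh.toAb M) isTerminalTop z : Γ(M, ⊤))) h
  · refine ⟨InvX.ofSect (Sheaf.H.equiv₀ (Coh.toAb M) isTerminalTop x),
      (Sheaf.H.equiv₀ (Coh.toAb M) isTerminalTop).injective ?_⟩
    exact (equiv₀_HHlin (k := k) _).trans (one_ofSect _)

/-- Finitely many sections generate `H⁰`, and the module if it is globally generated. -/
theorem exists_sigma_hom (G : X.Modules) [Module.Finite k (Coh.HH X G 0)] :
    ∃ (b : ℕ) (ψ : (∐ fun _ : Fin b => Coh.structureModule X) ⟶ G),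
      Function.Surjective (Canon.HHlin k ψ 0) ∧ (Curv2.IsGloballyGenerated G → Epi ψ) := by
  let e := LinearEquiv.ofBijective _ (evalOneLin_bijective k G)
  haveI : Module.Finite k (Coh.structureModule X ⟶ G) := Module.Finite.equiv e.symm
  obtain ⟨b, v, hv⟩ := Module.Finite.exists_fin (R := k) (M := Coh.structureModule X ⟶ G)
  let ψ : (∐ fun _ : Fin b => Coh.structureModule X) ⟶ G := Sigma.desc v
  refine ⟨b, ψ, fun x => ?_, fun hG => ?_⟩
  · obtain ⟨φ, rfl⟩ := (evalOneLin_bijective k G).2 x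
    have hφ : φ ∈ Submodule.span k (Set.range v) := hv ▸ Submodule.mem_top
    induction hφ using Submodule.span_induction with
    | mem y hy =>
      obtain ⟨a, rfl⟩ := hy
      refine ⟨Canon.HHlin k (Sigma.ι (fun _ : Fin b => Coh.structureModule X) a) 0 (oneClass X), ?_⟩
      rw [PnDual.HHlin_comp, Sigma.ι_desc]
      rfl
    | zero => exact ⟨0, by rw [map_zero, map_zero]⟩
    | add y z _ _ hy hz =>
      obtain ⟨y', hy'⟩ := hy
      obtain ⟨z', hz'⟩ := hz
      exact ⟨y' + z', by rw [map_add, map_add, hy', hz']⟩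
    | smul c y _ hy =>
      obtain ⟨y', hy'⟩ := hy
      exact ⟨c • y', by rw [map_smul, map_smul, hy']⟩
  · obtain ⟨ι, p, hp⟩ := hG
    haveI : Epi p := hp
    refine ⟨fun {W} a c hac => (cancel_epi p).1 (Sigma.hom_ext _ _ fun i => ?_)⟩
    suffices h : ∀ φ : Coh.structureModule X ⟶ G, φ ≫ a = φ ≫ c by
      exact (Category.assoc _ _ _).symm.trans ((h _).trans (Category.assoc _ _ _))
    intro φ
    have hφ : φ ∈ Submodule.span k (Set.range v) := hv ▸ Submodule.mem_top
    induction hφ using Submodule.span_induction with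
    | mem y hy =>
      obtain ⟨j, rfl⟩ := hy
      rw [← Sigma.ι_desc v j, Category.assoc, Category.assoc, hac]
    | zero => rw [zero_comp, zero_comp]
    | add y z _ _ hy hz => rw [Preadditive.add_comp, Preadditive.add_comp, hy, hz]
    | smul c' y _ hy => rw [Linear.smul_comp, Linear.smul_comp, hy]

variable {k}

/-- Vanishing for a finite sum. -/
theorem subsingleton_HH_sigma {b : ℕ} (T : Fin b → X.Modules) (n : ℕ)
    (h : ∀ j, Subsingleton (Coh.HH X (T j) n)) : Subsingleton (Coh.HH X (∐ T) n) := by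
  classical
  haveI := Abelian.hasFiniteBiproducts (C := X.Modules)
  refine subsingleton_HH_of_decomposition T
    (fun j => (biproduct.isoCoproduct T).inv ≫ biproduct.π T j)
    (fun j => biproduct.ι T j ≫ (biproduct.isoCoproduct T).hom) ?_ n h
  have : ∀ j, ((biproduct.isoCoproduct T).inv ≫ biproduct.π T j) ≫ biproduct.ι T j ≫ (biproduct.isoCoproduct T).hom =
      (biproduct.isoCoproduct T).inv ≫ (biproduct.π T j ≫ biproduct.ι T j) ≫ (biproduct.isoCoproduct T).hom :=
    fun j => by simp only [Category.assoc]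
  rw [Finset.sum_congr rfl fun j _ => this j, ← Preadditive.comp_sum, ← Preadditive.sum_comp,
    biproduct.total, Category.id_comp, Iso.inv_hom_id]

end Groth.Agent.RegEpi
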