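import Groth.Agent.S8851
import Groth.Agent.BlowUpLib.Glue
import Groth.Agent.BlowUpX.Basic
import Groth.Prelude.Def_CAlg2

/-!
# Blow-ups of integral schemes
-/

set_option autoImplicit false
set_option linter.style.haveILetI false
set_option backward.isDefEq.respectTransparency false
set_option backward.isDefEq.respectTransparency.types false

universe u

open CategoryTheory CategoryTheory.Limits AlgebraicGeometry TopologicalSpace Opposite

namespace Groth.Agent.Lib.BlowUpInt

theorem isUnibranch_of_ringEquiv {A A' : Type u} [CommRing A] [CommRing A'] [IsLocalRing A] [IsLocalRing A']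
    (e : A ≃+* A') (h : CAlg2.IsUnibranch A) : CAlg2.IsUnibranch A' := by
  have hnil : nilradical A' = (nilradical A).map (e : A →+* A') := by
    refine le_antisymm (fun x hx => ?_) (Ideal.map_le_iff_le_comap.mpr fun x hx => ?_)
    · rw [← e.apply_symm_apply x]
      exact Ideal.mem_map_of_mem _ (mem_nilradical.mpr ((mem_nilradical.mp hx).map e.symm))
    · exact mem_nilradical.mpr ((mem_nilradical.mp hx).map e)
  let r : CAlg2.red A ≃+* CAlg2.red A' := Ideal.quotientEquiv (nilradical A) (nilradical A') e hnil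
  haveI : IsDomain (CAlg2.red A) := h.1
  haveI hd : IsDomain (CAlg2.red A') := r.symm.toMulEquiv.isDomain _
  refine ⟨hd, ?_⟩
  let F : FractionRing (CAlg2.red A) ≃+* FractionRing (CAlg2.red A') := IsFractionRing.ringEquivOfRingEquiv r
  have hF : ∀ a, F (algebraMap _ _ a) = algebraMap _ _ (r a) := IsFractionRing.ringEquivOfRingEquiv_algebraMap r
  have hcomp : (F.toRingHom.comp (algebraMap (CAlg2.red A) (FractionRing (CAlg2.red A)))) =
      (algebraMap (CAlg2.red A') (FractionRing (CAlg2.red A'))).comp r.toRingHom := RingHom.ext hF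
  have hmap : ∀ c : CAlg2.normRed A,
      F (c : FractionRing (CAlg2.red A)) ∈ integralClosure (CAlg2.red A') (FractionRing (CAlg2.red A')) := by
    intro c
    obtain ⟨p, hp, hp0⟩ := c.2
    refine ⟨p.map r.toRingHom, hp.map _, ?_⟩
    rw [Polynomial.eval₂_map, ← hcomp]
    show Polynomial.eval₂ _ (F.toRingHom _) p = 0
    rw [← Polynomial.hom_eval₂, hp0, map_zero]
  let g : CAlg2.normRed A →+* CAlg2.normRed A' :=
    ((F.toRingHom).comp (integralClosure (CAlg2.red A) (FractionRing (CAlg2.red A))).val.toRingHom).codRestrict _ hmap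
  haveI : IsLocalRing (CAlg2.normRed A) := h.2
  haveI : Nontrivial (CAlg2.normRed A') := inferInstance
  refine IsLocalRing.of_surjective' g fun c => ?_
  obtain ⟨p, hp, hp0⟩ := c.2
  refine ⟨⟨F.symm c, p.map r.symm.toRingHom, hp.map _, F.injective ?_⟩, Subtype.ext (F.apply_symm_apply _)⟩
  rw [map_zero, Polynomial.eval₂_map]
  refine Eq.trans ?_ hp0
  show F.toRingHom _ = _
  rw [Polynomial.hom_eval₂, ← RingHom.comp_assoc, hcomp]
  refine congrArg₂ (fun f x => Polynomial.eval₂ f x p) (RingHom.ext fun a => ?_) (F.apply_symm_apply _)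
  show algebraMap _ _ (r (r.symm a)) = _
  rw [r.apply_symm_apply]

variable {X Y : Scheme.{u}} [IsIntegral X] {C : X.IdealSheafData} {b : Y ⟶ X}

/-- A blow-up of an integral scheme is empty or integral and birational. -/
theorem isEmpty_or_birational (hb : BlowUp.IsBlowUp b C) :
    IsEmpty Y ∨ ∃ _ : IsIntegral Y, b (genericPoint Y) = genericPoint X ∧ IsIso (b.stalkMap (genericPoint Y)) := by
  rcases isEmpty_or_nonempty Y with hY | hY
  · exact Or.inl hY
  refine Or.inr ?_
  haveI := S8851.result C b hb
  let U : X.Opens := C.support.compl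
  let W : Y.Opens := b ⁻¹ᵁ U
  haveI := BlowUpX.isIso_restrict hb
  have hW : ModPair.interior (C.comap b) = W := (ModPairLib.preimage_interior C b).symm
  haveI := ModPairLib.isAffineHom_interior (ModPairLib.isLocPrincipal_of_isEffCartier hb.1)
  haveI := ModPairLib.isSchemeTheoreticallyDominant_interior hb.1
  have hdense : Dense (W : Set Y) := by
    rw [← hW]
    have := (ModPair.interior (C.comap b)).ι.denseRange
    simpa [DenseRange] using this
  obtain ⟨w, hw⟩ := hdense.nonempty
  haveI : Nonempty (U : Scheme.{u}) := ⟨⟨b w, hw⟩⟩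
  haveI : Nonempty (W : Scheme.{u}) := ⟨⟨w, hw⟩⟩
  haveI : IsIntegral (U : Scheme.{u}) := isIntegral_of_isOpenImmersion U.ι
  haveI : IsIntegral (W : Scheme.{u}) := isIntegral_of_isOpenImmersion (b ∣_ U)
  haveI : IrreducibleSpace Y := by
    have h1 : IsIrreducible (W : Set Y) := by
      have := (IrreducibleSpace.isIrreducible_univ (W : Scheme.{u})).image W.ι W.ι.continuous.continuousOn
      rwa [Set.image_univ, Scheme.Opens.range_ι] at this
    have h2 := h1.closure
    rw [hdense.closure_eq] at h2
    exact (irreducibleSpace_def _).mpr h2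
  haveI hint : IsIntegral Y := isIntegral_of_irreducibleSpace_of_isReduced Y
  have hgenW : W.ι (genericPoint ↥(W : Scheme.{u})) = genericPoint Y := genericPoint_eq_of_isOpenImmersion W.ι
  have hgenU : U.ι (genericPoint ↥(U : Scheme.{u})) = genericPoint X := genericPoint_eq_of_isOpenImmersion U.ι
  have hg : (b ∣_ U) (genericPoint ↥(W : Scheme.{u})) = genericPoint ↥(U : Scheme.{u}) :=
    genericPoint_eq_of_isOpenImmersion (b ∣_ U)
  refine ⟨hint, ?_, ?_⟩
  · rw [← hgenW, ← hgenU, ← hg, ← Scheme.Hom.comp_apply, ← Scheme.Hom.comp_apply, morphismRestrict_ι]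
  · have key : ∀ z, W.ι z = genericPoint Y → IsIso (b.stalkMap (genericPoint Y)) := by
      intro z hz
      have h1 : IsIso ((W.ι ≫ b).stalkMap z) := by
        rw [Scheme.Hom.stalkMap_congr_hom _ ((b ∣_ U) ≫ U.ι) (morphismRestrict_ι b U).symm,
          Scheme.Hom.stalkMap_comp]
        infer_instance
      rw [Scheme.Hom.stalkMap_comp] at h1
      have h2 : IsIso (b.stalkMap (W.ι z)) := @IsIso.of_isIso_comp_right _ _ _ _ _ _ _ inferInstance h1
      rwa [hz] at h2
    exact key _ hgenW

end Groth.Agent.Lib.BlowUpInt
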