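import Groth.Agent.Lib.ExtNatCompare
import Groth.Agent.SiteBase.ExtMod
import Groth.Agent.AmpleVan.LiftFibre
import Groth.Agent.SheafHomX.Extra
import Groth.Agent.QCoh.LocFree
import Groth.Agent.KFlatLib.Scheme.Tensor
import Groth.Prelude.Def_KLin

/-!
`Ext` out of a finite locally free module is cohomology of the sheaf `Hom`, linearly.
-/

set_option linter.style.haveILetI false
set_option linter.unusedSectionVars false
set_option backward.isDefEq.respectTransparency false
set_option backward.isDefEq.respectTransparency.types false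
set_option maxHeartbeats 1000000

universe u

open CategoryTheory CategoryTheory.Limits AlgebraicGeometry TopologicalSpace Opposite Abelian

noncomputable section

namespace Groth.Agent.PnDual

variable {X : Scheme.{u}}

/-- `Hom(F, -)` as an abelian sheaf. -/
def homAb (F : X.Modules) : X.Modules ⥤ Sheaf (Opens.grothendieckTopology X) AddCommGrpCat.{u} :=
  SheafHomX.hom F ⋙ SheafOfModules.toSheaf X.ringCatSheaf

instance (F : X.Modules) : (homAb F).Additive where
  map_add {M N f g} := by
    show (SheafOfModules.toSheaf X.ringCatSheaf).map ((SheafHomX.hom F).map (f + g)) = _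
    rw [Functor.map_add, Functor.map_add]
    rfl

theorem shortExact_hom {F : X.Modules} (hF : FlatMod.IsFinLocFree F) {S : ShortComplex X.Modules}
    (hS : S.ShortExact) : (S.map (SheafHomX.hom F)).ShortExact := by
  haveI : PreservesLimits (SheafHomX.hom F) := (SheafHomX.adj F).rightAdjoint_preservesLimits
  haveI hl : PreservesFiniteLimits (SheafHomX.hom F) := inferInstance
  have h := ((Functor.preservesFiniteLimits_tfae (SheafHomX.hom F)).out 3 0 rfl rfl).1 hl S hS
  haveI := hS.epi_g
  exact @ShortComplex.ShortExact.mk _ _ _ _ h.1 h.2 (AmpleVan.epi_hom_map hF S.g)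

theorem injective_hom {F : X.Modules} (hF : FlatMod.IsFinLocFree F) (I : X.Modules) [Injective I] :
    Injective ((SheafHomX.hom F).obj I) := by
  haveI : (SheafHomX.ten F).PreservesMonomorphisms :=
    ⟨fun {A B} f _ => by
      let S : ShortComplex X.Modules := ShortComplex.mk f (cokernel.π f) (cokernel.condition f)
      have hS : S.ShortExact := { exact := ShortComplex.exact_of_g_is_cokernel _ (cokernelIsCokernel f) }
      exact (KFlatLib.flatObj_of_isFlat ((QCoh.isFlat_and_isFP_iff).2 hF).1 S hS).mono_f⟩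
  exact Injective.injective_of_adjoint (SheafHomX.adj F) I

theorem subsingleton_homAb_injective {F : X.Modules} (hF : FlatMod.IsFinLocFree F) (I : X.Modules)
    [Injective I] (q : ℕ) : Subsingleton (Coh.HH X ((SheafHomX.hom F).obj I) (q + 1)) := by
  haveI := injective_hom hF I
  haveI : HasExt.{u} (SheafOfModules.{u} X.ringCatSheaf) := IsGrothendieckAbelian.hasExt _
  obtain ⟨e⟩ := SiteBase.nonempty_ext_unit_addEquiv (R := X.ringCatSheaf) ((SheafHomX.hom F).obj I) (q + 1)
  haveI := Ext.subsingleton_of_injective (SheafOfModules.unit X.ringCatSheaf) ((SheafHomX.hom F).obj I) q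
  exact e.toEquiv.symm.subsingleton

/-- The sections of `Hom(F, N)`. -/
def homAbEquiv (F N : X.Modules) :
    (F ⟶ N) ≃+ ((constantSheaf (Opens.grothendieckTopology X) AddCommGrpCat.{u}).obj
      (AddCommGrpCat.of (ULift.{u} ℤ)) ⟶ (homAb F).obj N) :=
  (SheafHomX.ev F N).symm.trans (AddEquiv.ofBijective
    (AddMonoidHom.mk' (fun φ => SiteBase.oneHom X.ringCatSheaf ≫
        (SheafOfModules.toSheaf X.ringCatSheaf).map φ)
      (fun _ _ => by rw [Functor.map_add, Preadditive.comp_add]))
    (SiteBase.oneHom_comp_bijective (R := X.ringCatSheaf) _))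

theorem homAbEquiv_naturality (F : X.Modules) {N N' : X.Modules} (φ : F ⟶ N) (g : N ⟶ N') :
    homAbEquiv F N' (φ ≫ g) = homAbEquiv F N φ ≫ (homAb F).map g := by
  show SiteBase.oneHom X.ringCatSheaf ≫ (SheafOfModules.toSheaf X.ringCatSheaf).map
      ((SheafHomX.adj F).homEquiv _ _ ((SheafHomX.tenUnitIso F).hom ≫ φ ≫ g)) =
    (SiteBase.oneHom X.ringCatSheaf ≫ (SheafOfModules.toSheaf X.ringCatSheaf).map
      ((SheafHomX.adj F).homEquiv _ _ ((SheafHomX.tenUnitIso F).hom ≫ φ))) ≫ _
  rw [← Category.assoc _ φ g, Adjunction.homEquiv_naturality_right, Functor.map_comp, Category.assoc]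
  rfl

variable {A : Type u} [CommRing A] [X.Over (Spec (CommRingCat.of A))]

theorem hom_map_smulMod (F N : X.Modules) (a : A) :
    (SheafHomX.hom F).map (Formal.smulMod A N a) = Formal.smulMod A ((SheafHomX.hom F).obj N) a := by
  apply ((SheafHomX.adj F).homEquiv _ _).symm.injective
  rw [Adjunction.homEquiv_counit, Adjunction.homEquiv_counit, SheafHomX.ten_map_smulMod]
  erw [(SheafHomX.adj F).counit.naturality (Formal.smulMod A N a)]
  exact KLin.comp_smulModΓ _ _

theorem toSheaf_smulMod (M : X.Modules) (a : A) :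
    (SheafOfModules.toSheaf X.ringCatSheaf).map (Formal.smulMod A M a) =
      Coh.smulAb M (Coh.toGlobal (X ↘ Spec (CommRingCat.of A)) a) := rfl

/-- `Ext(F, N) = H(Hom(F, N))`, linearly over the base ring. -/
theorem nonempty_ext_linearEquiv_HH [HasExt.{u} X.Modules] {F : X.Modules} (hF : FlatMod.IsFinLocFree F)
    (N : X.Modules) (n : ℕ) :
    Nonempty (Abelian.Ext.{u} F N n ≃ₗ[A] Coh.HH X ((SheafHomX.hom F).obj N) n) := by
  haveI : EnoughInjectives X.Modules := inferInstanceAs (EnoughInjectives (SheafOfModules _))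
  obtain ⟨ε, hε⟩ := ExtNat.exists_natural_equiv (homAb F) F
    ((constantSheaf (Opens.grothendieckTopology X) AddCommGrpCat.{u}).obj (AddCommGrpCat.of (ULift.{u} ℤ)))
    (fun E hE => QCoh.toAb_shortExact (shortExact_hom hF hE))
    (fun I hI q => haveI := hI; subsingleton_homAb_injective hF I q)
    (homAbEquiv F) (fun N N' φ g => homAbEquiv_naturality F φ g) n N
  refine ⟨{ ε with map_smul' := fun a x => ?_ }⟩
  show ε (a • x) = a • (show Coh.HH X ((SheafHomX.hom F).obj N) n from ε x)
  have h1 : a • x = x.comp (Ext.mk₀ (Formal.smulMod A N a)) (add_zero n) := by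
    rw [Ext.smul_eq_comp_mk₀, KLin.smul_id]
  rw [h1, hε]
  show Sheaf.H.map ((SheafOfModules.toSheaf X.ringCatSheaf).map ((SheafHomX.hom F).map (Formal.smulMod A N a))) n
    (ε x) = _
  rw [hom_map_smulMod, toSheaf_smulMod]
  rfl

end Groth.Agent.PnDual
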