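import Groth.Agent.Lib.LerayEdgeLin
import Groth.Agent.Lib.LerayCorner

/-!
Higher direct images in a single degree: cohomology is shifted, linearly.
-/

set_option autoImplicit false
set_option linter.style.haveILetI false
set_option linter.unusedSectionVars false
set_option backward.isDefEq.respectTransparency false
set_option backward.isDefEq.respectTransparency.types false
set_option maxHeartbeats 1000000

universe u

open CategoryTheory CategoryTheory.Limits AlgebraicGeometry TopologicalSpace Opposite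
open CategoryTheory.Abelian

noncomputable section

namespace Groth.Agent.LerayOneDegree

open Groth.Agent Groth.Agent.QCoh

variable {X Y : Scheme.{u}} {A : Type u} [CommRing A] (ρ : A →+* Coh.Γtop Y)

/-- A morphism on cohomology, linearly. -/
def mapA {N N' : Y.Modules} (φ : N ⟶ N') (p : ℕ) :
    letI := modHH ρ N p
    letI := modHH ρ N' p
    Coh.HH Y N p →ₗ[A] Coh.HH Y N' p :=
  letI := modHH ρ N p
  letI := modHH ρ N' p
  { toFun := Sheaf.H.map ((SheafOfModules.toSheaf Y.ringCatSheaf).map φ) p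
    map_add' := map_add _
    map_smul' := fun r x => by
      show Sheaf.H.map _ p (Sheaf.H.map (Coh.smulAb N (ρ r)) p x) =
        Sheaf.H.map (Coh.smulAb N' (ρ r)) p (Sheaf.H.map _ p x)
      rw [← Sheaf.H.map_comp_apply, ← Sheaf.H.map_comp_apply, toSheaf_map_comp_smulAb'] }

theorem bijective_mapA {S : ShortComplex Y.Modules} (hS : S.ShortExact) (p : ℕ)
    (h₁ : Subsingleton (Coh.HH Y S.X₁ p)) (h₂ : Subsingleton (Coh.HH Y S.X₁ (p + 1))) :
    Function.Bijective (mapA ρ S.g p) := by
  have hT := toAb_shortExact hS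
  let := modHH ρ S.X₂ p
  let := modHH ρ S.X₃ p
  refine ⟨(injective_iff_map_eq_zero _).2 fun x hx => ?_, fun y => ?_⟩
  · obtain ⟨z, rfl⟩ := Ext.covariant_sequence_exact₂ _ hT x hx
    rw [h₁.elim z 0]
    exact Ext.zero_comp _ _ _ _ _
  · exact Ext.covariant_sequence_exact₃ _ hT y rfl (h₂.elim _ _)

variable (f : X ⟶ Y) [HasInjectiveResolutions X.Modules] {M : X.Modules}

/-- The pushed Godement sequence. -/
theorem shortExact_push {m : ℕ} (hR : IsZero ((Coh.Rpush f (m + 1)).obj M)) :
    ((godSES M m).map (Scheme.Modules.pushforward f)).ShortExact := by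
  obtain ⟨e⟩ := nonempty_Rpush_iso f M m
  have hz : IsZero (rpushModel f M m) := hR.of_iso e.symm
  exact LerayLow.push_shortExact f (godSES_shortExact M m) (Preadditive.epi_of_cokernel_zero (hz.eq_of_tgt _ _))

theorem nonempty_Z_shift (j : ℕ) : ∀ m : ℕ, (∀ n, m < n → IsZero ((Coh.Rpush f n).obj M)) →
    letI := modHH ρ (LerayCorner.Z f M m) (j + 1)
    letI := modHH ρ (LerayCorner.Z f M (m + j)) 1
    Nonempty (Coh.HH Y (LerayCorner.Z f M m) (j + 1) ≃ₗ[A] Coh.HH Y (LerayCorner.Z f M (m + j)) 1) := by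
  induction j with
  | zero =>
    intro m _
    let := modHH ρ (LerayCorner.Z f M m) 1
    exact ⟨LinearEquiv.refl A (Coh.HH Y (LerayCorner.Z f M m) 1)⟩
  | succ j ih =>
    intro m hR
    obtain ⟨e⟩ := ih (m + 1) fun n hn => hR n (by omega)
    rw [show m + (j + 1) = m + 1 + j by omega]
    let := modHH ρ (LerayCorner.Z f M m) (j + 1 + 1)
    let := modHH ρ (LerayCorner.Z f M (m + 1)) (j + 1)
    let := modHH ρ (LerayCorner.Z f M (m + 1 + j)) 1
    have hS := shortExact_push f (hR (m + 1) (Nat.lt_succ_self m))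
    exact ⟨(LinearEquiv.ofBijective (connLin ρ hS (j + 1))
      (Ab.connecting_bijective (X := Y.toPresheafedSpace.carrier) (toAb_shortExact hS) (j + 1)
        (LerayCorner.subsingleton_HH_God_push f M m j) (LerayCorner.subsingleton_HH_God_push f M m (j + 1)))).symm.trans e⟩

theorem nonempty_Z_one (n : ℕ) (hR : IsZero ((Coh.Rpush f (n + 1)).obj M)) :
    letI := modHH ρ (LerayCorner.Z f M n) 1
    letI := modHH (f.appTop.hom.comp ρ) M (n + 1)
    Nonempty (Coh.HH Y (LerayCorner.Z f M n) 1 ≃ₗ[A] Coh.HH X M (n + 1)) := by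
  let := modHH ρ (LerayCorner.Z f M n) 1
  let := modHH ρ (LerayCorner.Z f M (n + 1)) 0
  let := modHH (f.appTop.hom.comp ρ) M (n + 1)
  let := secModule ρ (LerayCorner.Z f M (n + 1)) ⊤
  let := secModule (f.appTop.hom.comp ρ) (godQ M (n + 1)) ⊤
  obtain ⟨a, ha, hker⟩ := exists_classMap (f.appTop.hom.comp ρ) M (n + 1)
  let θ : Γ(LerayCorner.Z f M (n + 1), ⊤) →ₗ[A] Coh.HH X M (n + 1) :=
    { toFun := fun z => a (show Γ(godQ M (n + 1), ⊤) from z)
      map_add' := fun z w => map_add a _ _
      map_smul' := fun r z => by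
        refine Eq.trans (congrArg a ?_) (map_smul a r (show Γ(godQ M (n + 1), ⊤) from z))
        show (show Γ(X, ⊤) from (f.app ⊤).hom
            ((Y.presheaf.map (homOfLE (le_top : (⊤ : Y.Opens) ≤ ⊤)).op).hom (ρ r))) •
            (show Γ(godQ M (n + 1), ⊤) from z) =
          (X.presheaf.map (homOfLE (le_top : (⊤ : X.Opens) ≤ ⊤)).op).hom (f.appTop.hom (ρ r)) •
            (show Γ(godQ M (n + 1), ⊤) from z)
        rw [show (homOfLE (le_top : (⊤ : X.Opens) ≤ ⊤)).op = 𝟙 (op (⊤ : X.Opens)) from rfl,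
          show (homOfLE (le_top : (⊤ : Y.Opens) ≤ ⊤)).op = 𝟙 (op (⊤ : Y.Opens)) from rfl,
          X.presheaf.map_id, Y.presheaf.map_id]
        rfl }
  have hS := shortExact_push f hR
  let eA := Sheaf.H.equiv₀ (Coh.toAb ((Scheme.Modules.pushforward f).obj (God (godQ M n)))) isTerminalTop
  let eB := Sheaf.H.equiv₀ (Coh.toAb (LerayCorner.Z f M (n + 1))) isTerminalTop
  refine nonempty_linearEquiv_of_surjective ((connLin ρ hS 0).comp (secH ρ (LerayCorner.Z f M (n + 1))).toLinearMap)
    θ ((Ab.connecting_surjective (X := Y.toPresheafedSpace.carrier) (toAb_shortExact hS) 0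
      (LerayCorner.subsingleton_HH_God_push f M n 0)).comp (secH ρ _).surjective) ha fun z => ?_
  refine Iff.trans ((Ab.connecting_eq_zero_iff (X := Y.toPresheafedSpace.carrier) (toAb_shortExact hS) 0 _).trans
    ⟨?_, ?_⟩) (hker _).symm
  · rintro ⟨y, hy⟩
    refine ⟨eA y, ?_⟩
    refine (Sheaf.H.equiv₀_naturality isTerminalTop
      (((godSES M n).map (Scheme.Modules.pushforward f)).map (toAbFunctor Y)).g y).trans ?_
    exact (congrArg eB hy).trans (eB.apply_symm_apply z)
  · rintro ⟨x, hx⟩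
    refine ⟨eA.symm x, eB.injective ?_⟩
    refine (Sheaf.H.equiv₀_naturality isTerminalTop
      (((godSES M n).map (Scheme.Modules.pushforward f)).map (toAbFunctor Y)).g _).symm.trans ?_
    refine (congrArg _ (eA.apply_symm_apply x)).trans ?_
    exact hx.trans (eB.apply_symm_apply z).symm

/-- Direct images in a single degree. -/
theorem nonempty_HH (i j : ℕ) (hR : ∀ n, n ≠ i → IsZero ((Coh.Rpush f n).obj M)) :
    letI := modHH ρ ((Coh.Rpush f i).obj M) j
    letI := modHH (f.appTop.hom.comp ρ) M (i + j)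
    Nonempty (Coh.HH Y ((Coh.Rpush f i).obj M) j ≃ₗ[A] Coh.HH X M (i + j)) := by
  let := modHH ρ ((Coh.Rpush f i).obj M) j
  let := modHH (f.appTop.hom.comp ρ) M (i + j)
  rcases j with _ | j
  · let := secModule ρ ((Coh.Rpush f i).obj M) ⊤
    let := modHH f.appTop.hom M i
    obtain ⟨e⟩ := LerayEdgeLin.nonempty_sections_HH (M := M) f i fun n hn => hR n hn.ne
    refine ⟨(secH ρ ((Coh.Rpush f i).obj M)).symm.trans (AddEquiv.toLinearEquiv e.toAddEquiv fun r x => ?_)⟩
    show e (((Y.presheaf.map (homOfLE (le_top : (⊤ : Y.Opens) ≤ ⊤)).op).hom (ρ r)) • x) = _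
    rw [show (homOfLE (le_top : (⊤ : Y.Opens) ≤ ⊤)).op = 𝟙 (op (⊤ : Y.Opens)) from rfl, Y.presheaf.map_id]
    exact e.map_smul _ x
  have hup : ∀ n, i < n → IsZero ((Coh.Rpush f n).obj M) := fun n hn => hR n (by omega)
  obtain ⟨e₁⟩ := nonempty_Z_shift ρ f (M := M) j i hup
  obtain ⟨e₂⟩ := nonempty_Z_one ρ f (M := M) (i + j) (hup (i + j + 1) (by omega))
  let := modHH ρ (LerayCorner.Z f M i) (j + 1)
  let := modHH ρ (LerayCorner.Z f M (i + j)) 1
  rw [show i + (j + 1) = i + j + 1 by omega]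
  let := modHH (f.appTop.hom.comp ρ) M (i + j + 1)
  suffices h : Nonempty (Coh.HH Y ((Coh.Rpush f i).obj M) (j + 1) ≃ₗ[A] Coh.HH Y (LerayCorner.Z f M i) (j + 1)) by
    exact ⟨h.some.trans (e₁.trans e₂)⟩
  rcases i with _ | i
  · exact ⟨(HHcongr ρ (LerayCorner.nonempty_Z_zero f M).some (j + 1)).symm⟩
  · haveI := SpObjSS.enoughInjectives_of_hasInjectiveResolutions (C := X.Modules)
    haveI := QCoh.preservesFiniteLimits_push f
    have hM0 : IsZero ((Scheme.Modules.pushforward f).obj M) :=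
      (hR 0 (by omega)).of_iso ((Scheme.Modules.pushforward f).rightDerivedZeroIsoSelf.app M).symm
    have h0 : IsFlasqueMod ((Scheme.Modules.pushforward f).obj M) :=
      { epi := fun {U V} _ => by
          refine (AddCommGrpCat.epi_iff_surjective _).2 fun t => ⟨0, ?_⟩
          have e : ∀ x : Γ((Scheme.Modules.pushforward f).obj M, V.unop), x = 0 := fun x =>
            congr(($((IsZero.iff_id_eq_zero _).1 hM0)).app V.unop x)
          exact (e _).trans (e t).symm }
    have hBf : IsFlasqueMod (LerayCorner.B f M i) :=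
      isFlasqueMod_X₃ (LerayCorner.shortExact_one f M i)
        (LerayLow.isFlasqueMod_push_godQ f h0 i fun n hn => hR (n + 1) (by omega))
        (LerayLow.isFlasqueMod_push f (isFlasqueMod_God _))
    let := modHH ρ (cokernel (LerayCorner.incl f M i)) (j + 1)
    have e₃ : Coh.HH Y (LerayCorner.Z f M (i + 1)) (j + 1) ≃ₗ[A]
        Coh.HH Y (cokernel (LerayCorner.incl f M i)) (j + 1) :=
      LinearEquiv.ofBijective (mapA ρ (cokernel.π (LerayCorner.incl f M i)) (j + 1))
        (bijective_mapA ρ (LerayCorner.shortExact_two f M i) (j + 1)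
          (LerayCorner.subsingleton_HH_of_isFlasqueMod hBf j)
          (LerayCorner.subsingleton_HH_of_isFlasqueMod hBf (j + 1)))
    exact ⟨(HHcongr ρ (LerayCorner.nonempty_cokernel_incl f M i).some.symm (j + 1)).trans e₃.symm⟩

end Groth.Agent.LerayOneDegree
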