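import Groth.Agent.Lib.ZMTIso
import Groth.Agent.Lib.NormalPush
import Groth.Agent.CurveCohLib.Proper

/-!
# Proper birational morphisms over points of codimension at most one of a normal scheme
-/

set_option autoImplicit false
set_option linter.style.haveILetI false
set_option backward.isDefEq.respectTransparency false
set_option backward.isDefEq.respectTransparency.types false

universe u

open CategoryTheory CategoryTheory.Limits AlgebraicGeometry TopologicalSpace Opposite

namespace Groth.Agent.Lib.ZMTCodim

variable {X Y : Scheme.{u}} (f : X ⟶ Y)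

/-- Two points with surjective stalk maps, one specializing to the other in a fibre, are equal. -/
theorem eq_of_surjective_stalkMap {z' z : X} (h : z' ⤳ z) (hy : f z' = f z)
    (hs : Function.Surjective (f.stalkMap z)) : z' = z := by
  have hnat := Scheme.Hom.stalkSpecializes_stalkMap f z' z h
  haveI : IsIso (Y.presheaf.stalkSpecializes (f.base.hom.map_specializes h)) :=
    ⟨Y.presheaf.stalkSpecializes (specializes_of_eq hy.symm), by simp, by simp⟩
  haveI : IsLocalHom (X.presheaf.stalkSpecializes h).hom := by
    refine ⟨fun a ha => ?_⟩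
    obtain ⟨b, rfl⟩ := hs a
    have e := congr($(hnat) b)
    rw [ConcreteCategory.comp_apply, ConcreteCategory.comp_apply] at e
    change IsUnit ((X.presheaf.stalkSpecializes h) (f.stalkMap z b)) at ha
    rw [← e] at ha
    exact ((isUnit_map_iff (Y.presheaf.stalkSpecializes (f.base.hom.map_specializes h)).hom b).mp
      ((isUnit_map_iff (f.stalkMap z').hom _).mp ha)).map _
  have h1 := congr($(Scheme.SpecMap_stalkSpecializes_fromSpecStalk h).base (IsLocalRing.closedPoint (X.presheaf.stalk z')))
  rw [Scheme.fromSpecStalk_closedPoint, Scheme.Hom.comp_base, TopCat.comp_app] at h1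
  rw [← h1]
  exact (congrArg (X.fromSpecStalk z) (IsLocalRing.comap_closedPoint (X.presheaf.stalkSpecializes h).hom)).trans
    (Scheme.fromSpecStalk_closedPoint)

variable [IsIntegral X] [IsIntegral Y]

theorem surjective_stalkMap (hdom : f.base (genericPoint X) ⤳ genericPoint Y)
    (hφ : Function.Surjective (CohIII.stalkToFunctionField f (genericPoint Y) hdom)) (x : X)
    (hv : ValuationRing (Y.presheaf.stalk (f x))) : Function.Surjective (f.stalkMap x) := by
  intro a
  let φ := CohIII.stalkToFunctionField f (genericPoint Y) hdom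
  have hcomp : ∀ b, algebraMap (X.presheaf.stalk x) X.functionField (f.stalkMap x b) =
      φ (algebraMap (Y.presheaf.stalk (f x)) Y.functionField b) := fun b => by
    have hnat := Scheme.Hom.stalkSpecializes_stalkMap f (genericPoint X) x (genericPoint_specializes x)
    refine ((ConcreteCategory.comp_apply (f.stalkMap x) _ b).symm.trans
      ((congr($(hnat) b)).symm.trans (ConcreteCategory.comp_apply _ _ b))).trans ?_
    show f.stalkMap (genericPoint X) _ = f.stalkMap (genericPoint X) _
    refine congrArg (f.stalkMap (genericPoint X)) ?_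
    exact (congr($(TopCat.Presheaf.stalkSpecializes_comp Y.presheaf hdom (genericPoint_specializes (f x))) b)).symm
  obtain ⟨k, hk⟩ := hφ (algebraMap _ X.functionField a)
  haveI := hv
  rcases ValuationRing.isInteger_or_isInteger (Y.presheaf.stalk (f x)) k with ⟨b, hb⟩ | ⟨b, hb⟩
  · exact ⟨b, IsFractionRing.injective (X.presheaf.stalk x) X.functionField (by rw [hcomp, hb]; exact hk)⟩
  · by_cases hk0 : k = 0
    · refine ⟨0, IsFractionRing.injective (X.presheaf.stalk x) X.functionField ?_⟩
      rw [← hk, hk0, map_zero, map_zero, map_zero]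
    have hab : a * f.stalkMap x b = 1 := IsFractionRing.injective (X.presheaf.stalk x) X.functionField (by
      rw [map_mul, map_one, hcomp, hb, ← hk, ← map_mul, mul_inv_cancel₀ hk0, map_one])
    obtain ⟨b', rfl⟩ := (isUnit_map_iff (f.stalkMap x).hom b).mp (IsUnit.of_mul_eq_one_right _ hab)
    refine ⟨(b'⁻¹ : (Y.presheaf.stalk (f x))ˣ), ?_⟩
    have h1 : (f.stalkMap x) (b' : Y.presheaf.stalk (f x)) * (f.stalkMap x) ((b'⁻¹ : _ˣ) : Y.presheaf.stalk (f x)) = 1 := by
      rw [← map_mul, Units.mul_inv, map_one]
    exact (left_inv_eq_right_inv hab h1).symm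

/-- The fibres over normal points of codimension at most one are finite and discrete. -/
theorem isOpen_singleton_fibre [IsProper f] [IsLocallyNoetherian Y] (hY : Pi1.IsNormalScheme Y)
    (hdom : f.base (genericPoint X) ⤳ genericPoint Y)
    (hφ : Function.Surjective (CohIII.stalkToFunctionField f (genericPoint Y) hdom)) (y : Y)
    (hdim : ringKrullDim (Y.presheaf.stalk y) ≤ 1) (q : f.fiber y) : IsOpen ({q} : Set (f.fiber y)) := by
  haveI : IsIntegrallyClosed (Y.presheaf.stalk y) := (hY y).2
  haveI : ValuationRing (Y.presheaf.stalk y) := by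
    haveI : Ring.KrullDimLE 1 (Y.presheaf.stalk y) := Ring.krullDimLE_iff.mpr hdim
    haveI : Ring.DimensionLEOne (Y.presheaf.stalk y) :=
      ⟨fun {p} hp0 hp => Ring.krullDimLE_one_iff_of_noZeroDivisors.mp inferInstance p hp0 hp⟩
    have hD : IsDedekindDomain (Y.presheaf.stalk y) := {}
    exact ((tfae_of_isNoetherianRing_of_isLocalRing_of_isDomain (Y.presheaf.stalk y)).out 2 1
      (a := IsDedekindDomain (Y.presheaf.stalk y)) (b := ValuationRing (Y.presheaf.stalk y)) rfl rfl).mp hD
  have hι : ∀ p : f.fiber y, f (f.fiberι y p) = y := fun p => by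
    have : f.fiberι y p ∈ Set.range (f.fiberι y) := ⟨p, rfl⟩
    rwa [f.range_fiberι] at this
  haveI : LocallyOfFiniteType (f.fiberToSpecResidueField y) := MorphismProperty.pullback_snd _ _ inferInstance
  haveI : IsLocallyNoetherian (f.fiber y) := LocallyOfFiniteType.isLocallyNoetherian (f.fiberToSpecResidueField y)
  haveI : IsNoetherian (f.fiber y) := { }
  have hcl : ∀ p : f.fiber y, IsClosed ({p} : Set (f.fiber y)) := fun p => by
    refine closure_subset_iff_isClosed.mp fun p' hp' => ?_
    have hs : f.fiberι y p ⤳ f.fiberι y p' :=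
      (specializes_iff_mem_closure.mpr hp').map (f.fiberι y).continuous
    refine ((f.fiberι y).isEmbedding.injective (eq_of_surjective_stalkMap f hs ((hι p).trans (hι p').symm)
      (surjective_stalkMap f hdom hφ _ ?_))).symm
    rw [hι]; infer_instance
  haveI : Finite (f.fiber y) := Set.finite_univ_iff.mp
    (CurveCohLib.finite_of_closedPoints isClosed_univ fun p _ => hcl p)
  haveI : T1Space (f.fiber y) := ⟨hcl⟩
  exact isOpen_discrete _

end Groth.Agent.Lib.ZMTCodim
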