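import Groth.Agent.SiteBase.ExtCompare
import Groth.Agent.QCoh.Stalk
import Groth.Agent.LC.GorLoc
import Mathlib.AlgebraicGeometry.Noetherian

/-!
`Ext` into the ring of the sections of a coherent module is read on the stalks.
-/

set_option linter.style.haveILetI false
set_option linter.unusedSectionVars false
set_option backward.isDefEq.respectTransparency false
set_option backward.isDefEq.respectTransparency.types false
set_option maxHeartbeats 1000000

universe u

open CategoryTheory CategoryTheory.Limits AlgebraicGeometry TopologicalSpace Opposite CategoryTheory.Abelian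

noncomputable section

namespace Groth.Agent.ExtStalk

/-- `Ext` is invariant under an isomorphism of rings. -/
theorem subsingleton_ext_restrict_iff {R S : Type u} [CommRing R] [CommRing S] (e : R ≃+* S)
    (M N : ModuleCat.{u} S) (j : ℕ) :
    Subsingleton (Ext.{u} ((ModuleCat.restrictScalars.{u} e.toRingHom).obj M)
        ((ModuleCat.restrictScalars.{u} e.toRingHom).obj N) j) ↔
      Subsingleton (Ext.{u} M N j) := by
  let E := ModuleCat.restrictScalarsEquivalenceOfRingEquiv.{u} e
  haveI : E.functor.IsEquivalence := E.isEquivalence_functor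
  haveI : E.inverse.IsEquivalence := E.isEquivalence_inverse
  haveI : E.symm.inverse.Additive := inferInstanceAs E.functor.Additive
  haveI : E.symm.inverse.IsEquivalence := inferInstanceAs E.functor.IsEquivalence
  haveI : E.symm.functor.IsEquivalence := inferInstanceAs E.inverse.IsEquivalence
  obtain ⟨a⟩ := SiteBase.nonempty_ext_addEquiv_of_adjunction E.symm.toAdjunction
    (PB := E.functor.obj M) (PA := M) (E.unitIso.app M).symm j N
  exact a.symm.toEquiv.subsingleton_congr

/-- `Ext` of isomorphic modules. -/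
theorem subsingleton_ext_congr {R : Type u} [CommRing R] {M M' N N' : ModuleCat.{u} R} (a : M ≅ M') (b : N ≅ N')
    (j : ℕ) : Subsingleton (Ext.{u} M N j) ↔ Subsingleton (Ext.{u} M' N' j) :=
  (LC.extCongr (R := R) a b j).toEquiv.subsingleton_congr

/-- Restriction of scalars along an isomorphism, up to semilinear bijections. -/
theorem subsingleton_ext_semilinear {R S : Type u} [CommRing R] [CommRing S] (e : R ≃+* S)
    {M : ModuleCat.{u} R} {M' : ModuleCat.{u} S} (a : M ≃+ M') (ha : ∀ (r : R) (x : M), a (r • x) = e r • a x)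
    (j : ℕ) :
    Subsingleton (Ext.{u} M (ModuleCat.of R R) j) ↔ Subsingleton (Ext.{u} M' (ModuleCat.of S S) j) := by
  rw [← subsingleton_ext_restrict_iff e M' (ModuleCat.of S S) j]
  refine subsingleton_ext_congr ?_ ?_ j
  · let a' : M ≃ₗ[R] ((ModuleCat.restrictScalars.{u} e.toRingHom).obj M' : ModuleCat.{u} R) :=
      { a with map_smul' := ha }
    exact a'.toModuleIso
  · let e' : R ≃ₗ[R] ((ModuleCat.restrictScalars.{u} e.toRingHom).obj (ModuleCat.of S S) : ModuleCat.{u} R) :=
      { e.toAddEquiv with map_smul' := fun r x => map_mul e r x }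
    exact e'.toModuleIso

/-- `Ext` over a localization is a localization of `Ext`. -/
theorem subsingleton_ext_localized {A S : Type u} [CommRing A] [IsNoetherianRing A] [CommRing S] [Algebra A S]
    (T : Submonoid A) [IsLocalization T S] {N P : Type u} [AddCommGroup N] [Module A N] [Module.Finite A N]
    [AddCommGroup P] [Module A P] [Module S P] [IsScalarTower A S P] (g : N →ₗ[A] P) [IsLocalizedModule T g]
    (j : ℕ) :
    Subsingleton (LocalizedModule T (Ext.{u} (ModuleCat.of A N) (ModuleCat.of A A) j)) ↔
      Subsingleton (Ext.{u} (ModuleCat.of S P) (ModuleCat.of S S) j) := by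
  obtain ⟨w⟩ := LC.exists_extLoc_ring T N j
  rw [w.toEquiv.subsingleton_congr]
  let e := IsLocalization.algEquiv T (Localization T) S
  refine subsingleton_ext_semilinear e.toRingEquiv (IsLocalizedModule.iso T g).toAddEquiv (fun r x => ?_) j
  obtain ⟨a, s, rfl⟩ := IsLocalization.exists_mk'_eq T r
  have hu : IsUnit (algebraMap A S (s : A)) := IsLocalization.map_units S s
  refine hu.smul_left_cancel.1 ?_
  show algebraMap A S (s : A) • IsLocalizedModule.iso T g (IsLocalization.mk' (Localization T) a s • x) =
    algebraMap A S (s : A) • e (IsLocalization.mk' (Localization T) a s) • IsLocalizedModule.iso T g x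
  have h : (s : A) • (IsLocalization.mk' (Localization T) a s • x) = a • x := by
    rw [← algebraMap_smul (Localization T) (s : A), ← mul_smul, IsLocalization.mk'_spec', algebraMap_smul]
  rw [← mul_smul, ← e.commutes, ← map_mul, IsLocalization.mk'_spec', e.commutes, e.commutes, algebraMap_smul,
    algebraMap_smul, ← map_smul, h, map_smul]

/-- A module vanishes iff its localizations at the primes do. -/
theorem subsingleton_iff_localized {A : Type u} [CommRing A] (M : Type u) [AddCommGroup M] [Module A M] :
    Subsingleton M ↔ ∀ p : PrimeSpectrum A, Subsingleton (LocalizedModule p.asIdeal.primeCompl M) := by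
  rw [← Module.support_eq_empty_iff (R := A), Set.eq_empty_iff_forall_notMem]
  exact forall_congr' fun p => by rw [Module.mem_support_iff, not_nontrivial_iff_subsingleton]

/-- A module vanishes if its localizations at the maximal ideals do. -/
theorem subsingleton_of_maximal {A : Type u} [CommRing A] {M : Type u} [AddCommGroup M] [Module A M]
    (h : ∀ p : Ideal A, (hp : p.IsMaximal) → Subsingleton (LocalizedModule p.primeCompl M)) : Subsingleton M := by
  refine (subsingleton_iff_localized (A := A) M).2 fun p => ?_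
  obtain ⟨q, hq, hpq⟩ := Ideal.exists_le_maximal p.asIdeal p.isPrime.ne_top
  rw [← not_nontrivial_iff_subsingleton, ← Module.mem_support_iff]
  intro hp
  have h2 : (⟨q, hq.isPrime⟩ : PrimeSpectrum A) ∈ Module.support A M := Module.mem_support_mono hpq hp
  rw [Module.mem_support_iff] at h2
  exact not_nontrivial_iff_subsingleton.2 (h q hq) h2

/-- A point maximal in an affine chart of a Jacobson scheme is closed. -/
theorem isClosed_of_isMaximal {X : Scheme.{u}} [JacobsonSpace X] {U : X.Opens} (hU : IsAffineOpen U) {y : X}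
    (hy : y ∈ U) (h : (hU.primeIdealOf ⟨y, hy⟩).asIdeal.IsMaximal) : IsClosed ({y} : Set X) := by
  have h1 : IsClosed ({hU.primeIdealOf ⟨y, hy⟩} : Set (Spec Γ(X, U))) :=
    (PrimeSpectrum.isClosed_singleton_iff_isMaximal _).2 h
  have h2 : IsClosed (hU.fromSpec.base ⁻¹' {y}) := by
    convert h1
    ext q
    refine ⟨fun hq => hU.fromSpec.isOpenEmbedding.injective ?_, fun hq => ?_⟩
    · exact (show hU.fromSpec q = y from hq).trans (hU.fromSpec_primeIdealOf ⟨y, hy⟩).symm
    · show hU.fromSpec q = y
      rw [Set.mem_singleton_iff.1 hq]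
      exact hU.fromSpec_primeIdealOf ⟨y, hy⟩
  refine isClosed_singleton_of_isLocallyClosed_singleton ?_
  have : ({y} : Set X) = hU.fromSpec.base '' (hU.fromSpec.base ⁻¹' {y}) := by
    rw [Set.image_preimage_eq_of_subset]
    intro z hz
    rw [Set.mem_singleton_iff.1 hz, hU.range_fromSpec]
    exact hy
  rw [this]
  exact h2.isLocallyClosed.image hU.fromSpec.isOpenEmbedding.isInducing
    hU.fromSpec.isOpenEmbedding.isOpen_range.isLocallyClosed

variable {X : Scheme.{u}} [IsLocallyNoetherian X] {M : X.Modules}

theorem subsingleton_localized_iff (hM : Coh.IsCoh M) {U : X.Opens} (hU : IsAffineOpen U) {x : X} (hx : x ∈ U)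
    (j : ℕ) :
    Subsingleton (LocalizedModule (hU.primeIdealOf ⟨x, hx⟩).asIdeal.primeCompl
        (Ext.{u} (ModuleCat.of Γ(X, U) Γ(M, U)) (ModuleCat.of Γ(X, U) Γ(X, U)) j)) ↔
      Subsingleton (Ext.{u} (ModuleCat.of (X.presheaf.stalk x) (M.presheaf.stalk x))
        (ModuleCat.of (X.presheaf.stalk x) (X.presheaf.stalk x)) j) := by
  haveI : IsNoetherianRing Γ(X, U) := IsLocallyNoetherian.component_noetherian ⟨U, hU⟩
  haveI := QCoh.finite_of_isFT hM.1 hM.2 hU
  letI := QCoh.stalkAlg (X := X) hx
  letI := QCoh.stalkModule M hx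
  haveI := QCoh.isScalarTower_stalk M hx
  haveI := QCoh.isLocalization_stalk' hU hx
  haveI := QCoh.isLocalizedModule_germLin hM.1 hU hx
  exact subsingleton_ext_localized (hU.primeIdealOf ⟨x, hx⟩).asIdeal.primeCompl (QCoh.germLin M hx) j

/-- `Ext` on an affine open is read on the stalks. -/
theorem subsingleton_ext_sections_iff (hM : Coh.IsCoh M) {U : X.Opens} (hU : IsAffineOpen U) (j : ℕ) :
    Subsingleton (Ext.{u} (ModuleCat.of Γ(X, U) Γ(M, U)) (ModuleCat.of Γ(X, U) Γ(X, U)) j) ↔
      ∀ x ∈ U, Subsingleton (Ext.{u} (ModuleCat.of (X.presheaf.stalk x) (M.presheaf.stalk x))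
        (ModuleCat.of (X.presheaf.stalk x) (X.presheaf.stalk x)) j) := by
  rw [subsingleton_iff_localized (A := Γ(X, U))]
  refine ⟨fun h x hx => (subsingleton_localized_iff hM hU hx j).1 (h _), fun h p => ?_⟩
  obtain ⟨x, hx, rfl⟩ := QCoh.exists_point hU p
  exact (subsingleton_localized_iff hM hU hx j).2 (h x hx)

/-- The same, through an affine chart. -/
theorem subsingleton_ext_chart_iff (hM : Coh.IsCoh M) {R : CommRingCat.{u}} (f : Spec R ⟶ X) [IsOpenImmersion f]
    (j : ℕ) :
    Subsingleton (Ext.{u} ((moduleSpecΓFunctor (R := R)).obj ((Scheme.Modules.restrictFunctor f).obj M))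
        (ModuleCat.of R R) j) ↔
      ∀ x ∈ Set.range f.base, Subsingleton (Ext.{u} (ModuleCat.of (X.presheaf.stalk x) (M.presheaf.stalk x))
        (ModuleCat.of (X.presheaf.stalk x) (X.presheaf.stalk x)) j) := by
  have hU : IsAffineOpen (f ''ᵁ ⊤) := (isAffineOpen_top (Spec R)).image_of_isOpenImmersion f
  let e : R ≅ Γ(X, f ''ᵁ ⊤) := (Scheme.ΓSpecIso R).symm ≪≫ (f.appIso ⊤).symm
  refine (subsingleton_ext_semilinear e.commRingCatIsoToRingEquiv
    (M' := ModuleCat.of Γ(X, f ''ᵁ ⊤) Γ(M, f ''ᵁ ⊤)) (AddEquiv.refl _) (fun r x => ?_) j).trans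
    ((subsingleton_ext_sections_iff hM hU j).trans (forall_congr' fun x => ?_))
  · rfl
  · have : (x ∈ f ''ᵁ (⊤ : (Spec R).Opens)) ↔ x ∈ Set.range f.base := by simp
    rw [this]

end Groth.Agent.ExtStalk
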