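import Groth.Agent.Lib.PnNegVan
import Groth.Agent.Lib.ExtStalk
import Groth.Agent.LC.GorRows
import Groth.Agent.LC.CdDim
import Groth.Agent.CurveEmbed.Conic
import Groth.Agent.GrpSchLib.SmoothRegular
import Groth.Agent.SmoothReg.Scheme
import Groth.Agent.H23.PnChart
import Groth.Agent.S10829

/-!
Negative twist vanishing on projective space, read on stalks and on local cohomology at closed points.
-/

set_option linter.style.haveILetI false
set_option linter.unusedSectionVars false
set_option linter.overlappingInstances false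
set_option backward.isDefEq.respectTransparency false
set_option backward.isDefEq.respectTransparency.types false
set_option maxHeartbeats 1000000

universe u

open CategoryTheory CategoryTheory.Limits AlgebraicGeometry TopologicalSpace Opposite
open CategoryTheory.Abelian Filter

noncomputable section

namespace Groth.Agent.NegVanStalk

section Local

variable {R : Type u} [CommRing R] [IsLocalRing R] [LocCoh.IsGorensteinLocalRing R]

/-- Homs into the hull of the residue field detect zero. -/
theorem subsingleton_of_hom_hull {N E : Type u} [AddCommGroup N] [Module R N] [AddCommGroup E] [Module R E]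
    {f : IsLocalRing.ResidueField R →ₗ[R] E} (hf : InjHull.IsInjectiveHull f)
    (h : Subsingleton (N →ₗ[R] E)) : Subsingleton N := by
  refine subsingleton_of_forall_eq 0 fun x => ?_
  by_contra hx
  let t : R →ₗ[R] N := LinearMap.toSpanSingleton R N x
  have hle : LinearMap.ker t ≤ IsLocalRing.maximalIdeal R := by
    refine IsLocalRing.le_maximalIdeal ((Ideal.ne_top_iff_one _).2 fun h1 => hx ?_)
    simpa [t] using h1
  let g : (R ⧸ LinearMap.ker t) →ₗ[R] N := (LinearMap.ker t).liftQ t le_rfl
  have hg : Function.Injective g := LinearMap.ker_eq_bot.1 (Submodule.ker_liftQ_eq_bot _ _ le_rfl le_rfl)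
  let q : (R ⧸ LinearMap.ker t) →ₗ[R] IsLocalRing.ResidueField R :=
    (LinearMap.ker t).liftQ (Algebra.linearMap R (IsLocalRing.ResidueField R)) fun r hr =>
      LinearMap.mem_ker.2 (Ideal.Quotient.eq_zero_iff_mem.2 (hle hr))
  haveI := hf.isInjective
  obtain ⟨φ, hφ⟩ := Module.Injective.out g hg (f ∘ₗ q)
  have h1 := hφ (Submodule.Quotient.mk 1)
  rw [h.elim φ 0, LinearMap.zero_apply, LinearMap.comp_apply] at h1
  have h2 : q (Submodule.Quotient.mk 1) = 1 := map_one (algebraMap R (IsLocalRing.ResidueField R))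
  rw [h2] at h1
  exact one_ne_zero (hf.injective (h1.symm.trans (map_zero f).symm))

/-- Local duality, for vanishing. -/
theorem subsingleton_ext_iff_H (d : ℕ) (hd : ringKrullDim R = d) (M : Type u) [AddCommGroup M] [Module R M]
    [Module.Finite R M] (i j : ℕ) (hij : i + j = d) :
    Subsingleton (Abelian.Ext.{u} (ModuleCat.of R M) (ModuleCat.of R R) j) ↔
      Subsingleton (LocCoh.H (IsLocalRing.maximalIdeal R) i M) := by
  obtain ⟨E, _, _, f, hf⟩ := LC.exists_injectiveHull R (IsLocalRing.ResidueField R)
  obtain ⟨e⟩ := LC.exists_localDuality_gorenstein d hd E hf M j i hij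
  refine Iff.trans ⟨fun h => ?_, fun h => subsingleton_of_hom_hull hf h⟩ e.toEquiv.subsingleton_congr.symm
  exact ⟨fun φ ψ => LinearMap.ext fun x => by rw [h.elim x 0, map_zero, map_zero]⟩

end Local

variable {k : Type u} [Field k] {n : ℕ}

theorem isRegular_stalk (x : CohB1.ProjSpace n k) : IsRegularLocalRing ((CohB1.ProjSpace n k).presheaf.stalk x) := by
  haveI := CurveEmbed.smooth_toSpec n k
  exact GrpSchLib.isRegularLocalRing_stalk_of_smooth (CohB1.ProjSpace.toSpec n k) x

theorem dim_stalk (x : CohB1.ProjSpace n k) (hx : IsClosed ({x} : Set (CohB1.ProjSpace n k))) :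
    ringKrullDim ((CohB1.ProjSpace n k).presheaf.stalk x) = n := by
  haveI := CurveEmbed.smooth_toSpec n k
  haveI : IsIntegral (CohB1.ProjSpace n k) := H23.PnChart.isIntegral_projSpace n k
  exact (SmoothReg.ringKrullDim_stalk_closedPoint (CohB1.ProjSpace.toSpec n k) hx).trans (S10829.result k n)

theorem gorenstein_stalk (x : CohB1.ProjSpace n k) :
    LocCoh.IsGorensteinLocalRing ((CohB1.ProjSpace n k).presheaf.stalk x) := by
  haveI := isRegular_stalk x
  exact LC.gorenstein_of_isRegularLocalRing

variable (k n) in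
theorem jacobson : JacobsonSpace (CohB1.ProjSpace n k) := by
  haveI := CurveEmbed.smooth_toSpec n k
  exact LocallyOfFiniteType.jacobsonSpace (CohB1.ProjSpace.toSpec n k)

variable (k n) in
theorem noetherian : IsNoetherian (CohB1.ProjSpace n k) := Proj16.isNoetherian_proj _

/-- The condition at a stalk. -/
def StalkExt (j : ℕ) (F : (CohB1.ProjSpace n k).Modules) (x : CohB1.ProjSpace n k) : Prop :=
  Subsingleton (Abelian.Ext.{u} (ModuleCat.of ((CohB1.ProjSpace n k).presheaf.stalk x) (F.presheaf.stalk x))
    (ModuleCat.of ((CohB1.ProjSpace n k).presheaf.stalk x) ((CohB1.ProjSpace n k).presheaf.stalk x)) j)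

/-- Negative twist vanishing is read on the stalks. -/
theorem negVan_iff_stalk {F : (Proj (CohB1.polyGrading n k)).Modules} (hF : Coh.IsCoh F) (i j : ℕ)
    (hij : i + j = n) : PnNegVan.NegVan i F ↔ ∀ x : CohB1.ProjSpace n k, StalkExt j F x := by
  haveI hP : IsNoetherian (Proj (CohB1.polyGrading n k)) := Proj16.isNoetherian_proj _
  haveI : IsLocallyNoetherian (Proj (CohB1.polyGrading n k)) := hP.toIsLocallyNoetherian
  rw [PnNegVan.negVan_iff j i hij hF]
  unfold PnNegVan.ExtVan
  simp only [PnNegVan.secMod, fun c => ExtStalk.subsingleton_ext_chart_iff hF (PnNegVan.chart k n c) j]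
  refine ⟨fun h x => ?_, fun h c x _ => h x⟩
  obtain ⟨c, hc⟩ := PnNegVan.mem_range_chart x
  exact h c x hc

/-- Negative twist vanishing in terms of the twist by `-m`. -/
theorem negVan_iff_exists (i : ℕ) (F : (Proj (CohB1.polyGrading n k)).Modules) :
    PnNegVan.NegVan i F ↔ ∃ m₀ : ℤ, ∀ m : ℤ, m₀ ≤ m →
      Subsingleton (Coh.HH (Proj (CohB1.polyGrading n k)) (Twist.twistBy (CohB1.polyGrading n k) F (-m)) i) := by
  rw [PnNegVan.NegVan, eventually_atBot]
  exact ⟨fun ⟨a, h⟩ => ⟨-a, fun m hm => h (-m) (by omega)⟩,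
    fun ⟨a, h⟩ => ⟨-a, fun e he => by have := h (-e) (by omega); rwa [neg_neg] at this⟩⟩

theorem finite_stalk {F : (CohB1.ProjSpace n k).Modules} (hF : Coh.IsCoh F) (x : CohB1.ProjSpace n k) :
    Module.Finite ((CohB1.ProjSpace n k).presheaf.stalk x) (F.presheaf.stalk x) :=
  QCoh.finite_stalk_of_isFT hF.1 hF.2 x

/-- Vanishing at the closed points gives vanishing at all points. -/
theorem stalkExt_of_closed {F : (CohB1.ProjSpace n k).Modules} (hF : Coh.IsCoh F) (j : ℕ)
    (h : ∀ x : CohB1.ProjSpace n k, IsClosed ({x} : Set (CohB1.ProjSpace n k)) → StalkExt j F x)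
    (x : CohB1.ProjSpace n k) : StalkExt j F x := by
  haveI := noetherian k n
  haveI := jacobson k n
  obtain ⟨_, ⟨U, hU, rfl⟩, hx, -⟩ := (CohB1.ProjSpace n k).isBasis_affineOpens.exists_subset_of_mem_open
    (Set.mem_univ x) isOpen_univ
  have hU' : IsAffineOpen U := hU
  haveI : IsNoetherianRing Γ(CohB1.ProjSpace n k, U) := IsLocallyNoetherian.component_noetherian ⟨U, hU'⟩
  haveI := QCoh.finite_of_isFT hF.1 hF.2 hU'
  refine (ExtStalk.subsingleton_ext_sections_iff hF hU' j).1 ?_ x hx
  refine ExtStalk.subsingleton_of_maximal (A := Γ(CohB1.ProjSpace n k, U)) fun p hp => ?_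
  obtain ⟨y, hy, hyp⟩ := QCoh.exists_point hU' ⟨p, hp.isPrime⟩
  have hcl : IsClosed ({y} : Set (CohB1.ProjSpace n k)) :=
    ExtStalk.isClosed_of_isMaximal hU' hy (by rw [hyp]; exact hp)
  have h2 := (ExtStalk.subsingleton_localized_iff hF hU' hy j).2 (h y hcl)
  rw [hyp] at h2
  exact h2

/-- `Ext` at a closed point is local cohomology in the complementary degree. -/
theorem stalkExt_iff_H {F : (CohB1.ProjSpace n k).Modules} (hF : Coh.IsCoh F) (x : CohB1.ProjSpace n k)
    (hx : IsClosed ({x} : Set (CohB1.ProjSpace n k))) (i j : ℕ) (hij : i + j = n) :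
    StalkExt j F x ↔
      Subsingleton (LocCoh.H (IsLocalRing.maximalIdeal ((CohB1.ProjSpace n k).presheaf.stalk x)) i
        (F.presheaf.stalk x)) := by
  haveI := isRegular_stalk x
  haveI := gorenstein_stalk x
  haveI := finite_stalk hF x
  exact subsingleton_ext_iff_H n (dim_stalk x hx) _ i j hij

/-- Negative twist vanishing in terms of local cohomology at the closed points. -/
theorem negVan_iff_H {F : (Proj (CohB1.polyGrading n k)).Modules} (hF : Coh.IsCoh F) (i : ℕ) :
    PnNegVan.NegVan i F ↔ ∀ x : CohB1.ProjSpace n k, IsClosed ({x} : Set (CohB1.ProjSpace n k)) →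
      Subsingleton (LocCoh.H (IsLocalRing.maximalIdeal ((CohB1.ProjSpace n k).presheaf.stalk x)) i
        (F.presheaf.stalk x)) := by
  rcases le_or_gt i n with hi | hi
  · rw [negVan_iff_stalk hF i (n - i) (by omega)]
    exact ⟨fun h x hx => (stalkExt_iff_H hF x hx i (n - i) (by omega)).1 (h x),
      fun h => stalkExt_of_closed hF _ fun x hx => (stalkExt_iff_H hF x hx i (n - i) (by omega)).2 (h x hx)⟩
  · refine iff_of_true (Eventually.of_forall fun e => ?_) fun x hx => ?_
    · letI : (Proj (CohB1.polyGrading n k)).Over (Spec (CommRingCat.of k)) :=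
        inferInstanceAs ((CohB1.ProjSpace n k).Over (Spec (CommRingCat.of k)))
      exact Syzygy.subsingleton_high' hF e i hi
    · haveI := isRegular_stalk x
      haveI : IsNoetherianRing ((CohB1.ProjSpace n k).presheaf.stalk x) := inferInstance
      refine LC.subsingleton_H_of_supportDim_lt _ _ i ?_
      refine (Module.supportDim_le_ringKrullDim _ _).trans_lt ?_
      rw [dim_stalk x hx]
      exact_mod_cast hi

end Groth.Agent.NegVanStalk
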