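import Groth.Agent.Lib.ExtShLocal
import Groth.Agent.Lib.NegVanStalk
import Groth.Agent.Lib.NegVanClosed
import Groth.Agent.VarDim.Top
import Groth.Agent.VarDim.IrredFibres
import Groth.Agent.SchTop.Closed
import Groth.Agent.QCoh.LocFree
import Groth.Agent.H23.ClosedPushLen

/-!
Vanishing of local Ext sheaves below the codimension.
-/

set_option linter.style.haveILetI false
set_option linter.unusedSectionVars false
set_option linter.overlappingInstances false
set_option backward.isDefEq.respectTransparency false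
set_option backward.isDefEq.respectTransparency.types false
set_option maxHeartbeats 1000000

universe u

open CategoryTheory CategoryTheory.Limits AlgebraicGeometry TopologicalSpace Opposite
open CategoryTheory.Abelian

noncomputable section

namespace Groth.Agent.ExtShCodim

/-- Vanishing of `Ext` into the ring gives vanishing into finite free modules. -/
theorem subsingleton_ext_free {R : Type u} [CommRing R] {M : ModuleCat.{u} R} (N : Type u) [AddCommGroup N]
    [Module R N] [Module.Finite R N] [Module.Free R N] (q : ℕ)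
    (h : Subsingleton (Ext.{u} M (ModuleCat.of R R) q)) : Subsingleton (Ext.{u} M (ModuleCat.of R N) q) := by
  classical
  let b := Module.Free.chooseBasis R N
  refine subsingleton_of_forall_eq 0 fun x => ?_
  let p : Module.Free.ChooseBasisIndex R N → (ModuleCat.of R N ⟶ ModuleCat.of R R) := fun i =>
    ModuleCat.ofHom (b.coord i)
  let j : Module.Free.ChooseBasisIndex R N → (ModuleCat.of R R ⟶ ModuleCat.of R N) := fun i =>
    ModuleCat.ofHom (LinearMap.toSpanSingleton R N (b i))
  have hid : 𝟙 (ModuleCat.of R N) = ∑ i, p i ≫ j i := by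
    refine ModuleCat.hom_ext (LinearMap.ext fun z => ?_)
    rw [ModuleCat.hom_id, LinearMap.id_apply, ModuleCat.hom_sum, LinearMap.sum_apply]
    exact (b.sum_repr z).symm
  have h1 : ∀ i, x.comp (Ext.mk₀ (p i ≫ j i)) (add_zero q) = 0 := fun i => by
    rw [← Ext.mk₀_comp_mk₀, ← Ext.comp_assoc_of_third_deg_zero, h.elim (x.comp (Ext.mk₀ (p i)) (add_zero q)) 0,
      Ext.zero_comp]
  have h2 : ∀ s : Finset (Module.Free.ChooseBasisIndex R N),
      x.comp (Ext.mk₀ (∑ i ∈ s, p i ≫ j i)) (add_zero q) = 0 := fun s => by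
    induction s using Finset.induction with
    | empty => rw [Finset.sum_empty, Ext.mk₀_zero, Ext.comp_zero]
    | insert a s ha ih => rw [Finset.sum_insert ha, Ext.mk₀_add, Ext.comp_add, h1, ih, add_zero]
  have h3 := h2 Finset.univ
  rwa [← hid, Ext.comp_mk₀_id] at h3

variable {P : Scheme.{u}} [IsLocallyNoetherian P] [JacobsonSpace P]

/-- Stalk vanishing at the closed points is enough. -/
theorem forall_of_closed {M L : P.Modules} (hM : Coh.IsCoh M) (hL : Coh.IsQCoh L) (q : ℕ)
    (h : ∀ x : P, IsClosed ({x} : Set P) → Subsingleton (Ext.{u} (ModuleCat.of (P.presheaf.stalk x) (M.presheaf.stalk x))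
      (ModuleCat.of (P.presheaf.stalk x) (L.presheaf.stalk x)) q)) (x : P) :
    Subsingleton (Ext.{u} (ModuleCat.of (P.presheaf.stalk x) (M.presheaf.stalk x))
      (ModuleCat.of (P.presheaf.stalk x) (L.presheaf.stalk x)) q) := by
  obtain ⟨U, hU, hx⟩ := ExtShLocal.exists_affine x
  haveI : IsNoetherianRing Γ(P, U) := IsLocallyNoetherian.component_noetherian ⟨U, hU⟩
  haveI := QCoh.finite_of_isFT hM.1 hM.2 hU
  refine (ExtStalk2.subsingleton_ext_sections_iff hM hL hU q).1 ?_ x hx
  refine ExtStalk.subsingleton_of_maximal (A := Γ(P, U)) fun p hp => ?_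
  obtain ⟨y, hy, hyp⟩ := QCoh.exists_point hU ⟨p, hp.isPrime⟩
  have hcl : IsClosed ({y} : Set P) := ExtStalk.isClosed_of_isMaximal hU hy (by rw [hyp]; exact hp)
  have h1 := h y hcl
  letI := QCoh.stalkAlg (X := P) hy
  letI := QCoh.stalkModule M hy
  letI := QCoh.stalkModule L hy
  haveI := QCoh.isScalarTower_stalk M hy
  haveI := QCoh.isScalarTower_stalk L hy
  haveI := QCoh.isLocalization_stalk' hU hy
  haveI := QCoh.isLocalizedModule_germLin hM.1 hU hy
  haveI := QCoh.isLocalizedModule_germLin hL hU hy
  let T := (hU.primeIdealOf ⟨y, hy⟩).asIdeal.primeCompl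
  obtain ⟨w⟩ := LC.exists_extLoc T (Γ(L, U)) q (Γ(M, U))
  have h2 : Subsingleton (LocalizedModule T (Ext.{u} (ModuleCat.of Γ(P, U) Γ(M, U)) (ModuleCat.of Γ(P, U) Γ(L, U)) q)) := by
    rw [w.toEquiv.subsingleton_congr]
    exact (ExtStalk2.subsingleton_ext_semilinear
      (M' := ModuleCat.of (P.presheaf.stalk y) (M.presheaf.stalk y))
      (N' := ModuleCat.of (P.presheaf.stalk y) (L.presheaf.stalk y))
      (IsLocalization.algEquiv T (Localization T) (P.presheaf.stalk y)).toRingEquiv
      (IsLocalizedModule.iso T (QCoh.germLin M hy)).toAddEquiv (ExtStalk2.iso_semilinear T (QCoh.germLin M hy))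
      (IsLocalizedModule.iso T (QCoh.germLin L hy)).toAddEquiv (ExtStalk2.iso_semilinear T (QCoh.germLin L hy)) q).2 h1
  have hT : T = p.primeCompl := by
    show (hU.primeIdealOf ⟨y, hy⟩).asIdeal.primeCompl = _
    simp only [hyp]
  rw [hT] at h2
  exact h2

/-- Local Ext out of a closed subscheme into a locally free module vanishes below the codimension. -/
theorem isZero_extSh {X : Scheme.{u}} (ι : X ⟶ P) [IsClosedImmersion ι] (n r : ℕ)
    (hreg : ∀ p : P, IsRegularLocalRing (P.presheaf.stalk p))
    (hn : ∀ p : P, IsClosed ({p} : Set P) → (n : WithBot ℕ∞) ≤ ringKrullDim (P.presheaf.stalk p))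
    (hr : topologicalKrullDim ↥X ≤ (r : WithBot ℕ∞)) (E : P.Modules) (hE : FlatMod.IsFinLocFree E)
    [ModSite.HasSheafHom (O := P.sheaf) ((Scheme.Modules.pushforward ι).obj (Coh.structureModule X))]
    [HasInjectiveResolutions (ModSite.Mod P.sheaf)] (q : ℕ) (hq : q + r < n) :
    IsZero ((ModSite.extSh (O := P.sheaf) ((Scheme.Modules.pushforward ι).obj (Coh.structureModule X)) q).obj E) := by
  haveI : IsLocallyNoetherian X := LocallyOfFiniteType.isLocallyNoetherian ι
  have hO : Coh.IsCoh (Coh.structureModule X) :=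
    CurveDeg.isCoh_of_isInvertible InvX.isInvertible_structureModule
  have hG : Coh.IsCoh ((Coh.push ι).obj (Coh.structureModule X)) := QCoh.isCoh_pushforward_finite ι hO
  have hE' := QCoh.isQCoh_of_isFinLocFree hE
  rw [ExtShLocal.isZero_extSh_iff_stalk hG hE' q]
  refine forall_of_closed hG hE' q fun y hy => ?_
  haveI := QCoh.free_stalk_of_isFinLocFree hE y
  haveI := QCoh.finite_stalk_of_isFT (CurveDeg.isCoh_of_isFinLocFree hE).1 (CurveDeg.isCoh_of_isFinLocFree hE).2 y
  refine subsingleton_ext_free _ q ?_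
  haveI := hreg y
  haveI := QCoh.finite_stalk_of_isFT hG.1 hG.2 y
  by_cases hy' : y ∈ Set.range ι
  swap
  · haveI := H23.ClosedPushLen.subsingleton_stalk ι (Coh.structureModule X) hy'
    refine subsingleton_of_forall_eq 0 fun e => ?_
    rw [← Ext.mk₀_id_comp e, show 𝟙 (ModuleCat.of (P.presheaf.stalk y) _) = 0 from
      ModuleCat.hom_ext (LinearMap.ext fun z => Subsingleton.elim (α := ((Coh.push ι).obj (Coh.structureModule X)).presheaf.stalk y) _ _)]
    simp
  obtain ⟨x, rfl⟩ := hy'
  letI : Module (P.presheaf.stalk (ι x)) ((Coh.structureModule X).presheaf.stalk x) :=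
    Module.compHom _ (ι.stalkMap x).hom
  obtain ⟨e⟩ := NegVanClosed.nonempty_stalk_push_equiv ι (Coh.structureModule X) x
  letI := (ι.stalkMap x).hom.toAlgebra
  let u := LinearEquiv.ofBijective (LinearMap.toSpanSingleton (X.presheaf.stalk x) _ (H23.UnitSec.one x))
    ⟨fun a b h => sub_eq_zero.1 (H23.UnitSec.eq_zero_of_smul_one (a - b) (by rw [sub_smul]; exact sub_eq_zero.2 h)),
      fun m => Submodule.mem_span_singleton.1 ((H23.UnitSec.span_one x).ge (Submodule.mem_top : m ∈ ⊤))⟩
  haveI : IsScalarTower (P.presheaf.stalk (ι x)) (X.presheaf.stalk x)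
      ((Coh.structureModule X).presheaf.stalk x) := IsScalarTower.of_algebraMap_smul fun _ _ => rfl
  let A := P.presheaf.stalk (ι x)
  have hsurj : Function.Surjective (algebraMap A (X.presheaf.stalk x)) := ι.stalkMap_surjective x
  let K := RingHom.ker (algebraMap A (X.presheaf.stalk x))
  let q' : (A ⧸ K) ≃ₗ[A] X.presheaf.stalk x :=
    (Ideal.quotientKerAlgEquivOfSurjective (f := Algebra.ofId A (X.presheaf.stalk x)) hsurj).toLinearEquiv
  have hdim : Module.supportDim A (((Coh.push ι).obj (Coh.structureModule X)).presheaf.stalk (ι x)) =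
      ringKrullDim (X.presheaf.stalk x) := by
    rw [Module.supportDim_eq_of_equiv (e.trans ((q'.trans (u.restrictScalars A)).symm)),
      Module.supportDim_quotient_eq_ringKrullDim]
    exact ringKrullDim_eq_of_ringEquiv (RingHom.quotientKerEquivOfSurjective hsurj)
  haveI : IsNoetherianRing A := inferInstance
  haveI := LC.gorenstein_of_isRegularLocalRing (R := A)
  obtain ⟨d, hd, -, -⟩ := LC.gorenstein_basic (R := A)
  have hdn : n ≤ d := by
    have := hn (ι x) hy
    rw [hd] at this
    exact_mod_cast this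
  rw [NegVanStalk.subsingleton_ext_iff_H d hd _ (d - q) q (by omega)]
  refine LC.subsingleton_H_of_supportDim_lt _ _ _ ?_
  rw [hdim]
  exact ((SchTop.ringKrullDim_stalk_le x).trans hr).trans_lt (by exact_mod_cast (show r < d - q by omega))

/-- Closed points of an equidimensional scheme of finite type over a field have stalks of full dimension. -/
theorem le_ringKrullDim_stalk {k : Type u} [Field k] {X : Scheme.{u}} (f : X ⟶ Spec (CommRingCat.of k))
    [LocallyOfFiniteType f] (n : ℕ)
    (h : ∀ Z : Set ↥X, Z ∈ irreducibleComponents ↥X → topologicalKrullDim ↥Z = (n : WithBot ℕ∞))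
    (x : X) (hx : IsClosed ({x} : Set X)) : (n : WithBot ℕ∞) ≤ ringKrullDim (X.presheaf.stalk x) := by
  obtain ⟨b, hb, -, hle⟩ := VarDim.exists_deg_add_stalk f x
  obtain ⟨η, hη, hmax⟩ := VarDim.exists_maximal_generalization f x
  have h1 := h _ (VarDim.closure_mem_irreducibleComponents hmax)
  rw [VarDim.topologicalKrullDim_closure_singleton f η] at h1
  have h2 : VarDim.deg f η = n := by exact_mod_cast h1
  have h0 := (VarDim.closedPoint_iff_deg_eq_zero f x).1 hx
  have h3 := hle η hη
  rw [hb]
  exact_mod_cast (show n ≤ b by omega)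

/-- The dimension of an equidimensional scheme of finite type over a field. -/
theorem topologicalKrullDim_le {k : Type u} [Field k] {X : Scheme.{u}} (f : X ⟶ Spec (CommRingCat.of k))
    [LocallyOfFiniteType f] (n : ℕ)
    (h : ∀ Z : Set ↥X, Z ∈ irreducibleComponents ↥X → topologicalKrullDim ↥Z = (n : WithBot ℕ∞)) :
    topologicalKrullDim ↥X ≤ (n : WithBot ℕ∞) := by
  rw [VarDim.topologicalKrullDim_eq_iSup_deg f]
  refine iSup_le fun x => ?_
  obtain ⟨η, hη, hmax⟩ := VarDim.exists_maximal_generalization f x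
  have h1 := h _ (VarDim.closure_mem_irreducibleComponents hmax)
  rw [VarDim.topologicalKrullDim_closure_singleton f η] at h1
  have h2 : VarDim.deg f η = n := by exact_mod_cast h1
  have := VarDim.deg_le_of_specializes f hη
  exact_mod_cast (show VarDim.deg f x ≤ n by omega)

end Groth.Agent.ExtShCodim
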