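import Groth.Agent.Lib.RegImmExt
import Groth.Agent.Lib.RegSpread
import Groth.Agent.CAlgGlobalDim.RegSeq
import Groth.Agent.VarDim.IrredFibres

/-!
The dualizing Ext sheaf near a generic point of a generically reduced closed subscheme.
-/

set_option linter.style.haveILetI false
set_option linter.unusedSectionVars false
set_option backward.isDefEq.respectTransparency false
set_option backward.isDefEq.respectTransparency.types false
set_option maxHeartbeats 1000000

universe u

open CategoryTheory CategoryTheory.Limits AlgebraicGeometry TopologicalSpace Opposite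
open RingTheory.Sequence

noncomputable section

namespace Groth.Agent.GenericExt

/-- The local ring of a reduced point without proper generalisations is a field. -/
theorem isField_stalk {X : Scheme.{u}} (ξ : X) (hmax : ∀ y, y ⤳ ξ → y = ξ)
    [_root_.IsReduced (X.presheaf.stalk ξ)] : IsField (X.presheaf.stalk ξ) := by
  rw [IsLocalRing.isField_iff_maximalIdeal_eq, eq_bot_iff]
  intro a ha
  rw [Ideal.mem_bot]
  refine IsReduced.eq_zero a ?_
  rw [← mem_nilradical, nilradical_eq_sInf, Submodule.mem_sInf]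
  intro q hq
  have h1 : X.fromSpecStalk ξ ⟨q, hq⟩ = X.fromSpecStalk ξ (IsLocalRing.closedPoint _) := by
    rw [Scheme.fromSpecStalk_closedPoint]
    refine hmax _ ?_
    have h := Set.mem_range_self (f := X.fromSpecStalk ξ) ⟨q, hq⟩
    rw [Scheme.range_fromSpecStalk] at h
    exact h
  have h2 : q = IsLocalRing.maximalIdeal _ :=
    congrArg PrimeSpectrum.asIdeal ((X.fromSpecStalk ξ).isEmbedding.injective h1)
  exact h2 ▸ ha

variable {P X : Scheme.{u}} [IsLocallyNoetherian P] (ι : X ⟶ P) [IsClosedImmersion ι]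

/-- Near a generic point with reduced local ring the subscheme of a regular scheme is cut out by a regular
sequence. -/
theorem exists_chart (ξ : X) (hmax : ∀ y, y ⤳ ξ → y = ξ) [_root_.IsReduced (X.presheaf.stalk ξ)]
    [IsRegularLocalRing (P.presheaf.stalk (ι ξ))] (c : ℕ)
    (hdim : ringKrullDim (P.presheaf.stalk (ι ξ)) = (c : WithBot ℕ∞)) (V : P.Opens) (hV : ι ξ ∈ V) :
    ∃ (W : P.Opens) (_ : IsAffineOpen W) (rs : List Γ(P, W)), ι ξ ∈ W ∧ W ≤ V ∧ rs.length = c ∧
      IsWeaklyRegular Γ(P, W) rs ∧ RingHom.ker (ι.app W).hom = Ideal.ofList rs := by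
  have hF := isField_stalk ξ hmax
  obtain ⟨_, ⟨U, hU, rfl⟩, hx, hUV⟩ := P.isBasis_affineOpens.exists_subset_of_mem_open hV V.2
  haveI : IsNoetherianRing Γ(P, U) := IsLocallyNoetherian.component_noetherian ⟨U, hU⟩
  let y : U := ⟨ι ξ, hx⟩
  let p := (hU.primeIdealOf y).asIdeal
  letI := P.presheaf.algebra_section_stalk y
  haveI : IsLocalization.AtPrime (P.presheaf.stalk (ι ξ)) p := hU.isLocalization_stalk y
  let J := RingHom.ker (ι.app U).hom
  have hU' := hU.preimage ι
  let z : (ι ⁻¹ᵁ U : X.Opens) := ⟨ξ, hx⟩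
  let q := (hU'.primeIdealOf z).asIdeal
  letI := X.presheaf.algebra_section_stalk z
  haveI : IsLocalization.AtPrime (X.presheaf.stalk ξ) q := hU'.isLocalization_stalk z
  have hqp : q.comap (ι.app U).hom = p := by
    have h := IsAffineOpen.comap_primeIdealOf_appLE (f := ι) U hU (ι ⁻¹ᵁ U) hU' le_rfl (x := ξ) hx
    rw [← Scheme.Hom.app_eq_appLE] at h
    exact congrArg PrimeSpectrum.asIdeal h
  have hJp : J ≤ p := fun a ha => by
    rw [← hqp, Ideal.mem_comap, show ι.app U a = 0 from ha]
    exact q.zero_mem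
  let A := Localization.AtPrime p
  let ψ : A ≃ₐ[Γ(P, U)] P.presheaf.stalk (ι ξ) := IsLocalization.algEquiv p.primeCompl _ _
  haveI : IsRegularLocalRing A := IsRegularLocalRing.of_ringEquiv ψ.symm.toRingEquiv
  have hdA : ringKrullDim A = (c : WithBot ℕ∞) := (ringKrullDim_eq_of_ringEquiv ψ.toRingEquiv).trans hdim
  have hgen : J.map (algebraMap _ A) = IsLocalRing.maximalIdeal A := by
    rw [← IsLocalization.AtPrime.map_eq_maximalIdeal p A]
    refine le_antisymm (Ideal.map_mono hJp) (Ideal.map_le_iff_le_comap.2 fun a ha => ?_)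
    rw [Ideal.mem_comap, IsLocalization.algebraMap_mem_map_algebraMap_iff p.primeCompl]
    have h0 : algebraMap Γ(X, ι ⁻¹ᵁ U) (X.presheaf.stalk ξ) (ι.app U a) = 0 := by
      by_contra hne
      letI := hF.toField
      have hu : IsUnit (algebraMap Γ(X, ι ⁻¹ᵁ U) (X.presheaf.stalk ξ) (ι.app U a)) := isUnit_iff_ne_zero.2 hne
      rw [IsLocalization.AtPrime.isUnit_to_map_iff (X.presheaf.stalk ξ) q] at hu
      exact hu (Ideal.mem_comap.1 (hqp.ge ha))
    obtain ⟨⟨s, hs⟩, hsa⟩ := (IsLocalization.map_eq_zero_iff q.primeCompl _ _).1 h0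
    obtain ⟨m, rfl⟩ := ι.app_surjective U hU s
    exact ⟨m, fun hm => hs (Ideal.mem_comap.1 (hqp.ge hm)), (map_mul (ι.app U).hom m a).trans hsa⟩
  have hrk := CAlgGlobalDim.spanFinrank_eq_of_dim A c hdA
  have hmfg := (IsLocalRing.maximalIdeal A).fg_of_isNoetherianRing
  let gs := (IsLocalRing.maximalIdeal A).generators
  have fin : gs.Finite := Submodule.FG.finite_generators hmfg
  let l : List A := fin.toFinset.toList
  have hl : l.length = c := by
    show fin.toFinset.toList.length = c
    rw [Finset.length_toList, ← Set.ncard_eq_toFinset_card _ fin, Submodule.FG.generators_ncard hmfg, hrk]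
  have hlspan : Ideal.ofList l = IsLocalRing.maximalIdeal A := by
    refine Eq.trans ?_ (IsLocalRing.maximalIdeal A).span_generators
    refine congrArg Ideal.span (Set.ext fun b => ?_)
    simp [l, gs]
  have hlreg := CAlgGlobalDim.isWeaklyRegular_of_generators c A l hl hlspan hrk.ge
  obtain ⟨g, hg, rs, hlen, hrs, hspan⟩ := RegSpread.exists_away_of_localization J p hJp (fun i : Fin c => l.get (i.cast hl.symm))
    (by rw [show List.ofFn (fun i : Fin c => l.get (i.cast hl.symm)) = l from List.ext_getElem (by simp [hl]) (by simp)]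
        exact hlreg)
    (by
      rw [← CAlgGlobalDim.ofList_ofFn, show List.ofFn (fun i : Fin c => l.get (i.cast hl.symm)) = l from
        List.ext_getElem (by simp [hl]) (by simp), hlspan, hgen])
  let W := P.basicOpen g
  have hW : IsAffineOpen W := hU.basicOpen g
  have hWU : W ≤ U := P.basicOpen_le g
  haveI := hU.isLocalization_basicOpen g
  let θ : Localization.Away g ≃ₐ[Γ(P, U)] Γ(P, W) := IsLocalization.algEquiv (Submonoid.powers g) _ _
  refine ⟨W, hW, rs.map θ.toRingEquiv.toRingHom, (QCoh.mem_basicOpen_iff_notMem hU hx g).2 hg, hWU.trans hUV,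
    by simp [hlen], ?_, ?_⟩
  · letI := θ.toRingEquiv.toRingHom.toAlgebra
    haveI : Module.Flat (Localization.Away g) Γ(P, W) :=
      Module.Flat.of_linearEquiv (LinearEquiv.ofBijective (Algebra.linearMap (Localization.Away g) Γ(P, W))
        θ.toRingEquiv.bijective).symm
    exact hrs.toIsWeaklyRegular.of_flat
  · rw [← Ideal.map_ofList, hspan, Ideal.map_map,
      show θ.toRingEquiv.toRingHom.comp (algebraMap Γ(P, U) (Localization.Away g)) = algebraMap Γ(P, U) Γ(P, W) from
        RingHom.ext fun a => θ.commutes a]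
    show RingHom.ker (ι.app W).hom = (RingHom.ker (ι.app U).hom).map _
    rw [← Scheme.Hom.ker_apply ι ⟨W, hW⟩, ← Scheme.Hom.ker_apply ι ⟨U, hU⟩]
    exact (ι.ker.map_ideal (U := ⟨W, hW⟩) (V := ⟨U, hU⟩) hWU).symm

variable {L : P.Modules}

/-- The Ext sheaf is invertible near such a point. -/
theorem exists_free_nhd (hL : FlatMod.IsFinLocFreeOfRank 1 L) (I : InjectiveResolution L)
    (ξ : X) (hmax : ∀ y, y ⤳ ξ → y = ξ) [_root_.IsReduced (X.presheaf.stalk ξ)]
    [IsRegularLocalRing (P.presheaf.stalk (ι ξ))] (c : ℕ)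
    (hdim : ringKrullDim (P.presheaf.stalk (ι ξ)) = (c : WithBot ℕ∞))
    {ω : X.Modules} (hω : Coh.IsQCoh ω) (e : (Scheme.Modules.pushforward ι).obj ω ≅ RegImmExt.G ι I c) :
    ∃ U : X.Opens, ξ ∈ U ∧ Nonempty (ω.restrict U.ι ≅ FlatMod.freeMod (U : Scheme.{u}) 1) := by
  obtain ⟨V, hV, ⟨eL⟩⟩ := hL (ι ξ)
  obtain ⟨W, hW, rs, hξW, hWV, hlen, hreg, hker⟩ := exists_chart ι ξ hmax c hdim V hV
  obtain ⟨q⟩ := RegImmExt.chart_iso ι I c hW rs hlen hreg hker (QCoh.freeChart hW hWV eL)
  exact ⟨ι ⁻¹ᵁ W, hξW,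
    RegImmExt.free_of_chart ι hω hW rs hker ((Scheme.Modules.restrictFunctor hW.fromSpec).mapIso e ≪≫ q)⟩

end Groth.Agent.GenericExt
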