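import Groth.Agent.LC.Sop
import Groth.Agent.LC.PrimeSel
import Groth.Agent.AvramovLib.Ps
import Groth.Agent.Lib.NegVanStalk
import Groth.Agent.Lib.ExtShCodim
import Groth.Agent.Lib.GenericExt
import Groth.Agent.VarDim.Fibre

/-!
A subscheme of projective space of codimension `r` cut out by `r` equations is regularly immersed.
-/

set_option autoImplicit false
set_option linter.style.haveILetI false
set_option linter.unusedSectionVars false
set_option backward.isDefEq.respectTransparency false
set_option backward.isDefEq.respectTransparency.types false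
set_option maxHeartbeats 1000000

universe u

open CategoryTheory CategoryTheory.Limits AlgebraicGeometry TopologicalSpace Opposite
open RingTheory.Sequence IsLocalRing

noncomputable section

namespace Groth.Agent.CISeq

/-- Elements of a Cohen-Macaulay local ring cutting the dimension down by their number form a regular sequence. -/
theorem isWeaklyRegular_of_dim {R : Type u} [CommRing R] [hR : LocCoh.IsCohenMacaulayLocalRing R] (D r : ℕ)
    (hD : ringKrullDim R = (D : WithBot ℕ∞)) (x : Fin r → R) (hx : ∀ i, x i ∈ maximalIdeal R) (hr : r ≤ D)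
    (hdim : ringKrullDim (R ⧸ Ideal.span (Set.range x)) = ((D - r : ℕ) : WithBot ℕ∞)) :
    IsWeaklyRegular R (List.ofFn x) := by
  let I := Ideal.span (Set.range x)
  have hIm : I ≤ maximalIdeal R := Ideal.span_le.2 (by rintro _ ⟨i, rfl⟩; exact hx i)
  have hI : I ≠ ⊤ := fun h => (maximalIdeal.isMaximal R).ne_top (top_le_iff.1 (h ▸ hIm))
  let π := Ideal.Quotient.mk I
  have hπ : Function.Surjective π := Ideal.Quotient.mk_surjective
  haveI : Nontrivial (R ⧸ I) := Ideal.Quotient.nontrivial_iff.2 hI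
  haveI : IsLocalRing (R ⧸ I) := IsLocalRing.of_surjective' π hπ
  obtain ⟨f, hf, hfrad⟩ := LC.exists_gens_radical_eq_of_local (D - r) hdim (maximalIdeal (R ⧸ I))
    (maximalIdeal.isMaximal _).ne_top
  choose t ht using fun i => hπ (f i)
  have htm : ∀ i, t i ∈ maximalIdeal R := fun i => fun hu => hf i (ht i ▸ hu.map π)
  have hrad : (Ideal.ofList (List.ofFn x ++ List.ofFn t)).radical = maximalIdeal R := by
    refine le_antisymm ?_ fun a ha => ?_
    · rw [← (maximalIdeal.isMaximal R).isPrime.isRadical.radical]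
      refine Ideal.radical_mono (Ideal.span_le.2 fun a ha => ?_)
      rcases List.mem_append.1 (show a ∈ List.ofFn x ++ List.ofFn t from ha) with h | h
      · obtain ⟨i, rfl⟩ := List.mem_ofFn.1 h; exact hx i
      · obtain ⟨i, rfl⟩ := List.mem_ofFn.1 h; exact htm i
    · have hm : π a ∈ maximalIdeal (R ⧸ I) := fun hu => by
        obtain ⟨v, hv⟩ := hu
        obtain ⟨w, hw⟩ := hπ (↑v⁻¹ : R ⧸ I)
        have h1 : a * w - 1 ∈ maximalIdeal R := hIm (Ideal.Quotient.eq_zero_iff_mem.1 (by
          rw [map_sub, map_mul, map_one, hw, ← hv, Units.mul_inv, sub_self]))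
        have h2 := Ideal.sub_mem _ (Ideal.mul_mem_right w _ ha) h1
        rw [sub_sub_cancel] at h2
        exact (maximalIdeal.isMaximal R).ne_top ((Ideal.eq_top_iff_one _).2 h2)
      rw [← (maximalIdeal.isMaximal (R ⧸ I)).isPrime.isRadical.radical, hfrad] at hm
      obtain ⟨m, hm⟩ := hm
      have h3 : Ideal.span (Set.range f) = (Ideal.span (Set.range t)).map π := by
        rw [Ideal.map_span, ← Set.range_comp]
        exact congrArg Ideal.span (congrArg Set.range (funext fun i => (ht i).symm))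
      rw [← map_pow, h3, ← Ideal.mem_comap, Ideal.comap_map_of_surjective π hπ, ← RingHom.ker_eq_comap_bot,
        Ideal.mk_ker] at hm
      refine ⟨m, (sup_le (Ideal.span_mono ?_) (Ideal.span_mono ?_) : Ideal.span (Set.range t) ⊔ I ≤ _) hm⟩
      · rintro _ ⟨i, rfl⟩; exact List.mem_append.2 (Or.inr (List.mem_ofFn.2 ⟨i, rfl⟩))
      · rintro _ ⟨i, rfl⟩; exact List.mem_append.2 (Or.inl (List.mem_ofFn.2 ⟨i, rfl⟩))
  have h := LC.isWeaklyRegular_of_sop hR.supportDim_eq_depth D hD (List.ofFn x ++ List.ofFn t)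
    (by simp; omega) hrad
  exact ((isWeaklyRegular_append_iff R _ _).1 h).1

variable {k : Type u} [Field k] {N r : ℕ} {X : Scheme.{u}} (ι : X ⟶ CohB1.ProjSpace N k) [IsClosedImmersion ι]

/-- A subscheme of pure codimension `r` locally cut out by `r` equations is a regular immersion. -/
theorem isRegularImmersionOfCodim (hr : r ≤ N)
    (heq : ∀ Z : Set ↥X, Z ∈ irreducibleComponents ↥X → topologicalKrullDim ↥Z = ((N - r : ℕ) : WithBot ℕ∞))
    (hgen : ∀ x : X, ∃ U : (CohB1.ProjSpace N k).affineOpens, ι.base x ∈ (U : (CohB1.ProjSpace N k).Opens) ∧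
      ∃ f : Fin r → Γ(CohB1.ProjSpace N k, (U : (CohB1.ProjSpace N k).Opens)),
        ι.ker.ideal U = Ideal.span (Set.range f)) :
    RegImm.IsRegularImmersionOfCodim RegImm.Kind.regular r ι := by
  haveI := NegVanStalk.noetherian k N
  refine ⟨inferInstance, fun z => ?_⟩
  haveI : IsLocallyNoetherian X := LocallyOfFiniteType.isLocallyNoetherian ι
  let f0 := ι ≫ CohB1.ProjSpace.toSpec N k
  haveI : LocallyOfFiniteType f0 := by
    haveI := CurveEmbed.smooth_toSpec N k
    infer_instance
  obtain ⟨x, hxz, hxc⟩ := VarDim.exists_closed_specialization f0 z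
  obtain ⟨⟨U, hU⟩, hxU, f, hf⟩ := hgen x
  let P := CohB1.ProjSpace N k
  let p0 : P := ι x
  haveI : IsNoetherianRing Γ(P, U) := IsLocallyNoetherian.component_noetherian ⟨U, hU⟩
  let y : U := ⟨ι x, hxU⟩
  let p := (hU.primeIdealOf y).asIdeal
  letI := P.presheaf.algebra_section_stalk y
  haveI : IsLocalization.AtPrime (P.presheaf.stalk (ι x)) p := hU.isLocalization_stalk y
  let J := RingHom.ker (ι.app U).hom
  have hJf : J = Ideal.span (Set.range f) := (Scheme.Hom.ker_apply ι ⟨U, hU⟩).symm.trans hf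
  have hU' := hU.preimage ι
  let w : (ι ⁻¹ᵁ U : X.Opens) := ⟨x, hxU⟩
  let q := (hU'.primeIdealOf w).asIdeal
  letI := X.presheaf.algebra_section_stalk w
  haveI : IsLocalization.AtPrime (X.presheaf.stalk x) q := hU'.isLocalization_stalk w
  have hqp : q.comap (ι.app U).hom = p := by
    have h := IsAffineOpen.comap_primeIdealOf_appLE (f := ι) U hU (ι ⁻¹ᵁ U) hU' le_rfl (x := x) hxU
    rw [← Scheme.Hom.app_eq_appLE] at h
    exact congrArg PrimeSpectrum.asIdeal h
  have hJp : J ≤ p := fun a ha => by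
    rw [← hqp, Ideal.mem_comap, show ι.app U a = 0 from ha]
    exact q.zero_mem
  let A := Localization.AtPrime p
  let ψ : A ≃ₐ[Γ(P, U)] P.presheaf.stalk (ι x) := IsLocalization.algEquiv p.primeCompl _ _
  haveI : IsRegularLocalRing (P.presheaf.stalk (ι x)) := NegVanStalk.isRegular_stalk _
  haveI : IsRegularLocalRing A := IsRegularLocalRing.of_ringEquiv ψ.symm.toRingEquiv
  haveI := AvramovLib.isCM_of_regular A
  have hιc : IsClosed ({ι x} : Set ↥P) := by
    simpa using ι.isClosedEmbedding.isClosedMap _ hxc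
  have hdA : ringKrullDim A = (N : WithBot ℕ∞) :=
    (ringKrullDim_eq_of_ringEquiv ψ.toRingEquiv).trans (NegVanStalk.dim_stalk _ hιc)
  let φ : A →+* X.presheaf.stalk x := IsLocalization.map _ (ι.app U).hom
    (show p.primeCompl ≤ q.primeCompl.comap (ι.app U).hom from fun a ha hb => ha (hqp.le hb))
  have hφ : ∀ a, φ (algebraMap _ A a) = algebraMap _ (X.presheaf.stalk x) (ι.app U a) :=
    fun a => IsLocalization.map_eq _ a
  have hsurj : Function.Surjective φ := fun b => by
    obtain ⟨c, ⟨s, hs⟩, rfl⟩ := IsLocalization.exists_mk'_eq q.primeCompl b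
    obtain ⟨c', rfl⟩ := ι.app_surjective U hU c
    obtain ⟨s', rfl⟩ := ι.app_surjective U hU s
    exact ⟨IsLocalization.mk' (M := p.primeCompl) A c' ⟨s', fun h => hs (hqp.ge h)⟩, IsLocalization.map_mk' _ _ _⟩
  have hker : RingHom.ker φ = J.map (algebraMap _ A) := by
    refine le_antisymm (fun b hb => ?_) (Ideal.map_le_iff_le_comap.2 fun a ha => ?_)
    · obtain ⟨a, s, rfl⟩ := IsLocalization.exists_mk'_eq p.primeCompl b
      rw [RingHom.mem_ker, IsLocalization.map_mk', IsLocalization.mk'_eq_zero_iff] at hb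
      obtain ⟨⟨t, ht⟩, hta⟩ := hb
      obtain ⟨t', rfl⟩ := ι.app_surjective U hU t
      rw [IsLocalization.mk'_mem_map_algebraMap_iff]
      exact ⟨t', fun h => ht (hqp.ge h), (map_mul (ι.app U).hom t' a).trans hta⟩
    · rw [Ideal.mem_comap, RingHom.mem_ker, hφ, show ι.app U a = 0 from ha, map_zero]
  let g : Fin r → A := fun i => algebraMap _ A (f i)
  have hspan : Ideal.span (Set.range g) = J.map (algebraMap _ A) := by
    rw [hJf, Ideal.map_span, ← Set.range_comp]
    rfl
  have hgm : ∀ i, g i ∈ maximalIdeal A := fun i => by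
    rw [← IsLocalization.AtPrime.map_eq_maximalIdeal p A]
    exact Ideal.mem_map_of_mem _ (hJp (hJf.ge (Ideal.subset_span ⟨i, rfl⟩)))
  have hdim : ringKrullDim (A ⧸ Ideal.span (Set.range g)) = ((N - r : ℕ) : WithBot ℕ∞) := by
    rw [hspan, ← hker, ringKrullDim_eq_of_ringEquiv (RingHom.quotientKerEquivOfSurjective hsurj)]
    exact le_antisymm ((SchTop.ringKrullDim_stalk_le x).trans (ExtShCodim.topologicalKrullDim_le f0 (N - r) heq))
      (ExtShCodim.le_ringKrullDim_stalk f0 (N - r) heq x hxc)
  obtain ⟨d, hd, rs, hlen, hrs, hsp⟩ := RegSpread.exists_away_of_localization J p hJp g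
    (isWeaklyRegular_of_dim N r hdA g hgm hr hdim) hspan
  let W := P.basicOpen d
  have hW : IsAffineOpen W := hU.basicOpen d
  haveI := hU.isLocalization_basicOpen d
  let θ : Localization.Away d ≃ₐ[Γ(P, U)] Γ(P, W) := IsLocalization.algEquiv (Submonoid.powers d) _ _
  have hxW : ι x ∈ W := (QCoh.mem_basicOpen_iff_notMem hU hxU d).2 hd
  have hzW : ι z ∈ W := (hxz.map ι.continuous).mem_open W.2 hxW
  refine ⟨⟨W, hW⟩, hzW, ?_, rs.map θ.toRingEquiv.toRingHom, by simp [hlen], ?_, ?_⟩
  · exact IsZariskiLocalAtTarget.restrict (P := @IsClosedImmersion) inferInstance W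
  · show IsRegular Γ(P, W) (rs.map θ.toRingEquiv.toRingHom)
    haveI : Nontrivial Γ(P, W) := by
      refine ⟨⟨0, 1, fun h => ?_⟩⟩
      have h1 := congrArg (P.presheaf.germ W _ hxW) h
      rw [map_zero, map_one] at h1
      exact zero_ne_one h1
    refine ⟨?_, fun htop => ?_⟩
    · letI := θ.toRingEquiv.toRingHom.toAlgebra
      haveI : Module.Flat (Localization.Away d) Γ(P, W) :=
        Module.Flat.of_linearEquiv (LinearEquiv.ofBijective (Algebra.linearMap (Localization.Away d) Γ(P, W))
          θ.toRingEquiv.bijective).symm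
      exact hrs.toIsWeaklyRegular.of_flat
    · rw [Ideal.smul_eq_mul, Ideal.mul_top] at htop
      have h1 := congrArg (Ideal.map θ.symm.toRingEquiv.toRingHom) htop
      rw [Ideal.map_top, ← Ideal.map_ofList, Ideal.map_map] at h1
      refine hrs.top_ne_smul ?_
      rw [Ideal.smul_eq_mul, Ideal.mul_top]
      refine (h1.trans ?_)
      rw [show θ.symm.toRingEquiv.toRingHom.comp θ.toRingEquiv.toRingHom = RingHom.id _ from
        RingHom.ext fun a => θ.symm_apply_apply a, Ideal.map_id]
  · rw [← Ideal.map_ofList, hsp, Ideal.map_map,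
      show θ.toRingEquiv.toRingHom.comp (algebraMap Γ(P, U) (Localization.Away d)) = algebraMap Γ(P, U) Γ(P, W) from
        RingHom.ext fun a => θ.commutes a]
    show RingHom.ker (ι.app W).hom = (RingHom.ker (ι.app U).hom).map _
    rw [← Scheme.Hom.ker_apply ι ⟨W, hW⟩, ← Scheme.Hom.ker_apply ι ⟨U, hU⟩]
    exact (ι.ker.map_ideal (U := ⟨W, hW⟩) (V := ⟨U, hU⟩) (P.basicOpen_le d)).symm

end Groth.Agent.CISeq
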