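import Groth.Agent.Lib.EulerOneDeg
import Groth.Agent.Lib.AVIndex
import Groth.Agent.Lib.EulerFlatPull
import Groth.Agent.CurveCohLib.Proper

/-!
The Künneth formula for Euler characteristics of a box product with one factor of a single degree.
-/

set_option autoImplicit false
set_option linter.style.haveILetI false
set_option linter.unusedSectionVars false
set_option backward.isDefEq.respectTransparency false
set_option backward.isDefEq.respectTransparency.types false
set_option maxHeartbeats 1000000
set_option synthInstance.maxHeartbeats 400000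

universe u

open CategoryTheory CategoryTheory.Limits MonoidalCategory CartesianMonoidalCategory MonObj AlgebraicGeometry TopologicalSpace Opposite

noncomputable section

namespace Groth.Agent.AVKunneth

open Groth.Agent Groth.Agent.H23
open scoped Groth.Agent.H23.PicMul

/-- The point has Euler characteristic one. -/
theorem euler_point (k : Type u) [Field k] :
    @Curv2.euler k _ (Spec (CommRingCat.of k)) ⟨𝟙 _⟩ (Coh.structureModule (Spec (CommRingCat.of k))) = 1 := by
  letI : (Spec (CommRingCat.of k)).Over (Spec (CommRingCat.of k)) := ⟨𝟙 _⟩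
  haveI : IsProper ((Spec (CommRingCat.of k)) ↘ Spec (CommRingCat.of k)) := inferInstanceAs (IsProper (𝟙 _))
  haveI : Subsingleton ↥(Spec (CommRingCat.of k)) := inferInstanceAs (Subsingleton (PrimeSpectrum k))
  haveI := CurveCohLib.isNoetherian_of_proper (k := k) (X := Spec (CommRingCat.of k))
  rw [CurveCohLib.euler_eq_finrank_zero (CurveDeg.isCoh_of_isInvertible InvX.isInvertible_structureModule)
    fun x _ => by rw [show ({x} : Set ↥(Spec (CommRingCat.of k))) = Set.univ from Set.eq_univ_of_forall fun z => Subsingleton.elim z x]; exact isClosed_univ]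
  let ρ : k →+* Coh.Γtop (Spec (CommRingCat.of k)) := Coh.toGlobal (A := k) (𝟙 _)
  let M := Coh.structureModule (Spec (CommRingCat.of k))
  letI := QCoh.secModule ρ M ⊤
  letI := QCoh.modHH ρ M 0
  rw [show Module.finrank k (Coh.HH (Spec (CommRingCat.of k)) M 0) = 1 from ?_]
  · rfl
  let e : k ≃+ Γ(M, ⊤) := (Scheme.ΓSpecIso (CommRingCat.of k)).symm.commRingCatIsoToRingEquiv.toAddEquiv
  let l : k ≃ₗ[k] Γ(M, ⊤) := AddEquiv.toLinearEquiv e fun a x => by
    show (Scheme.ΓSpecIso (CommRingCat.of k)).inv (a * x) =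
      ((Spec (CommRingCat.of k)).presheaf.map (homOfLE (le_top : (⊤ : (Spec (CommRingCat.of k)).Opens) ≤ ⊤)).op).hom
        (ρ a) * (Scheme.ΓSpecIso (CommRingCat.of k)).inv x
    rw [map_mul, show (homOfLE (le_top : (⊤ : (Spec (CommRingCat.of k)).Opens) ≤ ⊤)).op = 𝟙 (op _) from rfl,
      (Spec (CommRingCat.of k)).presheaf.map_id]
    rfl
  rw [← (l.trans (QCoh.secH ρ M)).finrank_eq, Module.finrank_self]

variable {k : Type u} [Field k] [IsAlgClosed k] {A : Over (Spec (CommRingCat.of k))} [GrpObj A] [IsProper A.hom]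
  [GeometricallyIntegral A.hom]

/-- Euler characteristics of box products. -/
theorem euler_box {L : A.left.Modules} (hL : PicF.IsInvertible L)
    {D : A.left.Modules} (hD : PicF.IsInvertible D)
    {i : ℕ} (hi : ∀ j, j ≠ i → Subsingleton (Coh.HH A.left L j)) :
    @Curv2.euler k _ (A ⊗ A).left ⟨(A ⊗ A).hom⟩ (CohB1.tensorMod ((Scheme.Modules.pullback (snd A A).left).obj D)
        ((Scheme.Modules.pullback (fst A A).left).obj L)) =
      @Curv2.euler k _ A.left ⟨A.hom⟩ L * @Curv2.euler k _ A.left ⟨A.hom⟩ D := by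
  haveI : HasInjectiveResolutions A.left.Modules := KFlatLib.hasInjectiveResolutions_modules
  haveI : HasInjectiveResolutions (A ⊗ A).left.Modules := KFlatLib.hasInjectiveResolutions_modules
  haveI : IsLocallyNoetherian A.left := LocallyOfFiniteType.isLocallyNoetherian A.hom
  haveI : IsProper (A ⊗ A).hom := inferInstanceAs (IsProper (pullback.fst A.hom A.hom ≫ A.hom))
  haveI : IsLocallyNoetherian (A ⊗ A).left := LocallyOfFiniteType.isLocallyNoetherian (A ⊗ A).hom
  haveI : LocallyOfFinitePresentation A.hom :=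
    AlgStLib.locallyOfFinitePresentation_of_isLocallyNoetherian A.hom inferInstance
  haveI : Flat A.hom := inferInstance
  haveI : Coh.IsQCoh L := (CurveDeg.isCoh_of_isInvertible hL).1
  letI : A.left.Over (Spec (CommRingCat.of k)) := ⟨A.hom⟩
  letI : (A ⊗ A).left.Over (Spec (CommRingCat.of k)) := ⟨(A ⊗ A).hom⟩
  letI : (Spec (CommRingCat.of k)).Over (Spec (CommRingCat.of k)) := ⟨𝟙 _⟩
  haveI : IsProper (A.left ↘ Spec (CommRingCat.of k)) := inferInstanceAs (IsProper A.hom)
  haveI : IsProper ((A ⊗ A).left ↘ Spec (CommRingCat.of k)) := inferInstanceAs (IsProper (A ⊗ A).hom)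
  haveI : IsProper ((Spec (CommRingCat.of k)) ↘ Spec (CommRingCat.of k)) := inferInstanceAs (IsProper (𝟙 _))
  haveI : (Scheme.Modules.pullback A.hom).Additive :=
    haveI := (Scheme.Modules.pullbackPushforwardAdjunction A.hom).isLeftAdjoint
    Functor.additive_of_preserves_binary_products _
  have hE : FlatMod.IsFinLocFree D := H23.PullPush.isFinLocFree_of_isInvertible hD
  let F := CohB1.tensorMod ((Scheme.Modules.pullback (snd A A).left).obj D)
    ((Scheme.Modules.pullback (fst A A).left).obj L)
  have hF : PicF.IsInvertible F :=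
    PicMul.isInvertible_tensor (PicClLib.isInvertible_pullback _ hD) (PicClLib.isInvertible_pullback _ hL)
  let Φ : (Spec (CommRingCat.of k)).Modules ⥤ A.left.Modules :=
    Scheme.Modules.pullback A.hom ⋙ (DCoh.tensorBi (X := A.left)).obj D
  have hR : ∀ n, Nonempty (Φ.obj ((Coh.Rpush A.hom n).obj L) ≅ (Coh.Rpush (snd A A).left n).obj F) := fun n => by
    obtain ⟨a⟩ := S0033.result A.hom A.hom _ _ AVVanish.isPullback_fst L n
    obtain ⟨b⟩ := S0927.result (snd A A).left ((Scheme.Modules.pullback (fst A A).left).obj L) D hE n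
    exact ⟨((DCoh.tensorBi (X := A.left)).obj D).mapIso a ≪≫ b⟩
  have hz0 : ∀ n, n ≠ i → IsZero ((Coh.Rpush A.hom n).obj L) := fun n hn => by
    obtain ⟨h, ⟨ε⟩, hh⟩ := AVIndex.exists_Rpush_free hL n
    obtain rfl := hh.2 (hi n hn)
    refine IsZero.of_iso ((IsZero.iff_id_eq_zero _).2 ?_) ε
    rw [← H23.Frame.total, Finset.univ_eq_empty, Finset.sum_empty]
  obtain ⟨h, ⟨ε⟩, -⟩ := AVIndex.exists_Rpush_free hL i
  have e1 : Curv2.euler k A.left L = (-1) ^ i * h := by
    rw [EulerOneDeg.euler_eq k A.hom (Category.comp_id _) (CurveDeg.isCoh_of_isInvertible hL) i hz0,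
      CurveCohLib.euler_congr ε]
    have h1 := EulerFlatPull.euler_map_freeMod k (𝟭 (Spec (CommRingCat.of k)).Modules)
      (fun B hB => CurveDeg.isCoh_of_isFinLocFree hB) h
    simp only [Functor.id_obj] at h1
    rw [h1, euler_point, _root_.mul_one]
  have hO : Nonempty (Φ.obj (Coh.structureModule (Spec (CommRingCat.of k))) ≅ D) := by
    refine (PicGrp.cl_eq_cl_iff _ _).1 ?_
    show PicF.cl (CohB1.tensorMod D _) = _
    rw [PicMul.cl_tensor, show PicF.cl ((Scheme.Modules.pullback A.hom).obj
      (Coh.structureModule (Spec (CommRingCat.of k)))) = 1 from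
      (PicGrp.cl_eq_cl_iff _ _).2 (PicClLib.nonempty_pullback_structureModule A.hom), _root_.mul_one]
  have e2 : Curv2.euler k (A ⊗ A).left F = (-1) ^ i * (h * Curv2.euler k A.left D) := by
    rw [EulerOneDeg.euler_eq k (snd A A).left (Over.w (snd A A)) (CurveDeg.isCoh_of_isInvertible hF) i
      (fun n hn => (Φ.map_isZero (hz0 n hn)).of_iso (hR n).some.symm),
      CurveCohLib.euler_congr ((hR i).some.symm ≪≫ Φ.mapIso ε)]
    congr 1
    haveI : (((DCoh.tensorBi (X := A.left)).obj D)).Additive := inferInstance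
    haveI := CurveCohLib.isNoetherian_of_proper (k := k) (X := A.left)
    have h1 : ∀ n, Curv2.euler k A.left (Φ.obj (FlatMod.freeMod (Spec (CommRingCat.of k)) n)) =
        (n : ℤ) * Curv2.euler k A.left D := fun n => by
      rw [show Φ.obj (FlatMod.freeMod (Spec (CommRingCat.of k)) n) =
        ((DCoh.tensorBi (X := A.left)).obj D).obj ((Scheme.Modules.pullback A.hom).obj _) from rfl,
        CurveCohLib.euler_congr (((DCoh.tensorBi (X := A.left)).obj D).mapIso (SeesawX.freePullIso A.hom n)),
        EulerFlatPull.euler_map_freeMod k ((DCoh.tensorBi (X := A.left)).obj D)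
          (fun B hB => CurveTensor.isCoh_tensor hE (CurveDeg.isCoh_of_isFinLocFree hB)) n,
        CurveCohLib.euler_congr (KFlatLib.tensorUnitIso D)]
    exact h1 h
  show Curv2.euler k (A ⊗ A).left F = _
  rw [e2, e1]
  ring

end Groth.Agent.AVKunneth
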