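import Groth.Agent.Lib.IntAlt
import Groth.Agent.CycLib.CurveDeg

/-!
The projection formula for intersection numbers along morphisms of proper schemes.
-/

set_option autoImplicit false
set_option linter.style.haveILetI false
set_option linter.unusedSectionVars false
set_option backward.isDefEq.respectTransparency false
set_option backward.isDefEq.respectTransparency.types false
set_option maxHeartbeats 1000000

universe u

open CategoryTheory CategoryTheory.Limits AlgebraicGeometry TopologicalSpace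
open Groth.Agent.H23 Groth.Agent.H23.PicMul
open Groth.Agent.H23.IntNumCycle (alt degHom)

noncomputable section

namespace Groth.Agent.IntPush

attribute [local instance] PicMul.clMonoid

variable (k : Type u) [Field k] {X Y : Scheme.{u}} [X.Over (Spec (CommRingCat.of k))]
  [IsProper (X ↘ Spec (CommRingCat.of k))] [Y.Over (Spec (CommRingCat.of k))]
  [IsProper (Y ↘ Spec (CommRingCat.of k))]

theorem isProper (p : Y ⟶ X) (hp : p ≫ (X ↘ Spec (CommRingCat.of k)) = Y ↘ Spec (CommRingCat.of k)) :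
    IsProper p := by
  haveI : IsProper (p ≫ (X ↘ Spec (CommRingCat.of k))) := hp ▸ inferInstance
  exact IsProper.of_comp p (X ↘ Spec (CommRingCat.of k))

theorem deltaCompat (p : Y ⟶ X) (hp : p ≫ (X ↘ Spec (CommRingCat.of k)) = Y ↘ Spec (CommRingCat.of k)) :
    Cyc.DeltaCompat p (SnapLead.δ k) (SnapLead.δ k) := by
  haveI := isProper k p hp
  exact CycLib.deltaCompat_of_comp p (X ↘ Spec (CommRingCat.of k)) (CycLib.deltaCompat_rd _)
    (Y ↘ Spec (CommRingCat.of k)) hp.symm

/-- The degree of a cycle is unchanged by pushing forward. -/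
theorem degHom_map (p : Y ⟶ X) [IsProper p]
    (hp : p ≫ (X ↘ Spec (CommRingCat.of k)) = Y ↘ Spec (CommRingCat.of k)) (a : AlgebraicCycle Y ℤ) :
    degHom k (SnapLead.δ k) (AlgebraicCycle.map p (SnapLead.δ k) (SnapLead.δ k) a) =
      degHom k (SnapLead.δ k) a := by
  show AlgebraicCycle.map (X ↘ Spec (CommRingCat.of k)) (SnapLead.δ k) (fun _ => (0 : ℤ)) _ (IsLocalRing.closedPoint k) =
    AlgebraicCycle.map (Y ↘ Spec (CommRingCat.of k)) (SnapLead.δ k) (fun _ => (0 : ℤ)) a (IsLocalRing.closedPoint k)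
  rw [CycLib.map_map p (X ↘ Spec (CommRingCat.of k)) (deltaCompat k p hp) (IntAlt.deltaCompat k),
    CycLib.map_congr hp]

/-- The projection formula. -/
theorem alt_pullback (p : Y ⟶ X) [IsProper p]
    (hp : p ≫ (X ↘ Spec (CommRingCat.of k)) = Y ↘ Spec (CommRingCat.of k))
    {r : ℕ} {L : Fin r → X.Modules} (hL : ∀ i, PicF.IsInvertible (L i)) {F : Y.Modules}
    (hF : Cyc.CohLe (SnapLead.δ k) r F) (a : AlgebraicCycle Y ℤ) (ha : ⇑a = Cyc.sheafFun (SnapLead.δ k) r F)
    (s : Finset X) (hs : ∀ ξ ∈ s, SnapLead.δ k ξ = r)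
    (hsF : ∀ ξ, AlgebraicCycle.map p (SnapLead.δ k) (SnapLead.δ k) a ξ ≠ 0 → ξ ∈ s) :
    alt k r (fun i => (Scheme.Modules.pullback p).obj (L i)) F =
      ∑ ξ ∈ s, AlgebraicCycle.map p (SnapLead.δ k) (SnapLead.δ k) a ξ * alt k r L (Cyc.closureStructureSheaf ξ) := by
  classical
  haveI := CurveCohLib.isNoetherian_of_proper (k := k) (X := X)
  haveI := CurveCohLib.isNoetherian_of_proper (k := k) (X := Y)
  have hdX := SnapLead.isDimFun k (X := X)
  have hdY := SnapLead.isDimFun k (X := Y)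
  have hc := deltaCompat k p hp
  choose D hD hLD using fun i => PicInv.exists_inverse (hL i)
  choose v hv using fun i => RatSec.exists_sections (hD i)
  let γ : ℕ → AlgebraicCycle Y ℤ := fun n => Nat.rec a (fun i b =>
    if h : i < r then RatSec.c1CapCycle (PicClLib.isInvertible_pullback p (hD ⟨i, h⟩)) hdY b
      (C1Pull.vPull p (D ⟨i, h⟩) (v ⟨i, h⟩)) (C1Pull.vPull_ne_zero (hD _) (hv _)) else 0) n
  have hγs : ∀ (i : ℕ) (h : i < r), γ (i + 1) = RatSec.c1CapCycle (PicClLib.isInvertible_pullback p (hD ⟨i, h⟩)) hdY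
      (γ i) (C1Pull.vPull p (D ⟨i, h⟩) (v ⟨i, h⟩)) (C1Pull.vPull_ne_zero (hD _) (hv _)) := fun i h => by
    show dite _ _ _ = _
    rw [dif_pos h]
  have htriv : ∀ i, Nonempty (CohB1.tensorMod ((Scheme.Modules.pullback p).obj (L i))
      ((Scheme.Modules.pullback p).obj (D i)) ≅ Coh.structureModule Y) := fun i => cl_eq_iff.1 (by
    rw [cl_tensor, ← PicMul.one_def]
    show PicF.pullCl p (PicF.cl (L i)) * PicF.pullCl p (PicF.cl (D i)) = 1
    rw [← PicMul.pullCl_mul, ← cl_tensor, cl_eq_iff.2 (hLD i), ← PicMul.one_def, PicMul.pullCl_one])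
  have hY := IntNumCycle.main k (IntAlt.isSetup k) (IntAlt.deltaCompat k) r
    (fun i => (Scheme.Modules.pullback p).obj (L i)) (fun i => (Scheme.Modules.pullback p).obj (D i))
    (fun i => PicClLib.isInvertible_pullback p (hL i)) (fun i => PicClLib.isInvertible_pullback p (hD i)) htriv
    (fun i => C1Pull.vPull p (D i) (v i)) (fun i => C1Pull.vPull_ne_zero (hD i) (hv i)) F hF γ ha
    fun i h => by rw [hγs i h, RatSec.coe_c1CapCycle]
  -- the cycle downstairs
  let β := AlgebraicCycle.map p (SnapLead.δ k) (SnapLead.δ k) a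
  have hnn : ∀ ξ, 0 ≤ β ξ := fun ξ => by
    show 0 ≤ AlgebraicCycle.map p (SnapLead.δ k) (SnapLead.δ k) a ξ
    rw [CycLib.map_apply']
    refine finsum_nonneg fun x => finsum_nonneg fun _ => mul_nonneg ?_ (Int.natCast_nonneg _)
    rw [ha]
    exact CycleClassK.sheafFun_nonneg _ _ _ _
  have hβk : ∀ ξ, 0 < β ξ → SnapLead.δ k ξ = r := fun ξ h => hs ξ (hsF ξ h.ne')
  let G := Cyc.cycleSheafPos ⇑β
  have hG : Cyc.CohLe (SnapLead.δ k) r G := CycleClassK.cohLe_pos ⇑β hdX
    ((CycleClassK.lfPts_cycle β).mono fun x hx => ne_of_gt hx) fun x hx => (hβk x hx).le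
  have hGfun : Cyc.sheafFun (SnapLead.δ k) r G = ⇑β := by
    rw [CycleClassK.sheafFun_pos ⇑β hdX hβk]
    exact funext fun x => max_eq_left (hnn x)
  have hX := IntNumCycle.main k (IntAlt.isSetup k) (IntAlt.deltaCompat k) r L D hL hD hLD v hv G hG
    (fun n => AlgebraicCycle.map p (SnapLead.δ k) (SnapLead.δ k) (γ n)) hGfun.symm
    fun i h => by rw [hγs i h]; exact C1Push.map_c1Cap (hD _) hdY hdX hc (γ i) (hv _)
  rw [hY, ← degHom_map k p hp, ← hX, IntAlt.alt_eq_sum_closure k hL hG s hs (by rw [hGfun]; exact hsF), hGfun]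

end Groth.Agent.IntPush
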