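import Groth.Agent.Lib.IntNumEquiv
import Groth.Agent.H23.FiniteFlatDeg
import Groth.Agent.Nakai.Coeff
import Groth.Agent.H23.CurveCorr
import Groth.Agent.Lib.CurveBundle
import Groth.Agent.H23.ClosedPushLen
import Groth.Agent.MorLib.GeomFibre

/-!
The top intersection form of a proper integral scheme and its behaviour under morphisms.
-/

set_option autoImplicit false
set_option linter.style.haveILetI false
set_option linter.unusedSectionVars false
set_option backward.isDefEq.respectTransparency false
set_option backward.isDefEq.respectTransparency.types false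
set_option maxHeartbeats 1000000

universe u

open CategoryTheory CategoryTheory.Limits AlgebraicGeometry TopologicalSpace
open Groth.Agent.H23 Groth.Agent.H23.PicMul
open Groth.Agent.H23.IntNumCycle (alt)

noncomputable section

namespace Groth.Agent.TopInt

attribute [local instance] PicMul.clMonoid

/-- The units which are classes of invertible modules. -/
def inv (X : Scheme.{u}) : Subgroup (PicF.Cl X)ˣ where
  carrier := {c | PicF.IsInvertibleCl (c : PicF.Cl X)}
  mul_mem' ha hb := PicMul.isInvertibleCl_mul ha hb
  one_mem' := ⟨Coh.structureModule X, PicMul.one_def.symm, InvX.isInvertible_structureModule⟩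
  inv_mem' := by
    rintro c ⟨L, hL, hLi⟩
    obtain ⟨D, hD, hLD⟩ := PicInv.exists_inverse hLi
    refine ⟨D, left_inv_eq_right_inv (a := PicF.cl L) ?_ ?_, hD⟩
    · rw [mul_comm]
      exact (cl_tensor L D).symm.trans ((cl_eq_iff.2 hLD).trans PicMul.one_def.symm)
    · rw [hL]
      exact Units.mul_inv c

variable {X : Scheme.{u}}

/-- A representative. -/
def rep (c : inv X) : X.Modules := (show PicF.IsInvertibleCl ((c.1 : (PicF.Cl X)ˣ) : PicF.Cl X) from c.2).choose

theorem cl_rep (c : inv X) : PicF.cl (rep c) = ((c : (PicF.Cl X)ˣ) : PicF.Cl X) :=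
  (show PicF.IsInvertibleCl ((c.1 : (PicF.Cl X)ˣ) : PicF.Cl X) from c.2).choose_spec.1

theorem isInvertible_rep (c : inv X) : PicF.IsInvertible (rep c) :=
  (show PicF.IsInvertibleCl ((c.1 : (PicF.Cl X)ˣ) : PicF.Cl X) from c.2).choose_spec.2

/-- The class of an invertible module. -/
def mk {L : X.Modules} (hL : PicF.IsInvertible L) : inv X :=
  ⟨(PicMul.isUnit_cl hL).unit, show PicF.IsInvertibleCl _ from ⟨L, rfl, hL⟩⟩

theorem val_mk {L : X.Modules} (hL : PicF.IsInvertible L) :
    (((mk hL : inv X) : (PicF.Cl X)ˣ) : PicF.Cl X) = PicF.cl L := rfl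

variable (k : Type u) [Field k] [X.Over (Spec (CommRingCat.of k))] [IsProper (X ↘ Spec (CommRingCat.of k))]

/-- A twist does not change the intersection numbers. -/
theorem alt_twist {r : ℕ} {M : Fin r → X.Modules} (hM : ∀ i, PicF.IsInvertible (M i)) {A : X.Modules}
    (hA : PicF.IsInvertible A) {F : X.Modules} (hF : Cyc.CohLe (SnapLead.δ k) r F) :
    alt k r M (CohB1.tensorMod F A) = alt k r M F := by
  haveI := CurveCohLib.isNoetherian_of_proper (k := k) (X := X)
  have hfun : Cyc.sheafFun (SnapLead.δ k) r ((K0TensorInv.ten A).obj F) = Cyc.sheafFun (SnapLead.δ k) r F :=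
    K0TensorInv.sheafFun_ten hA _ _ F
  have hfin := IntAlt.finite_sheafFun k hF
  have hs : ∀ ξ ∈ hfin.toFinset, SnapLead.δ k ξ = (r : ℤ) := fun ξ hξ => by
    have h := hfin.mem_toFinset.1 hξ
    by_contra hne
    exact h (by simp only [Cyc.sheafFun, if_neg hne])
  rw [IntAlt.alt_eq_sum_closure k hM hF hfin.toFinset hs fun ξ h => hfin.mem_toFinset.2 h,
    show CohB1.tensorMod F A = (K0TensorInv.ten A).obj F from rfl,
    IntAlt.alt_eq_sum_closure k hM (K0TensorInv.cohLe_ten hA hF) hfin.toFinset hs fun ξ h =>
      hfin.mem_toFinset.2 (by rwa [hfun] at h), hfun]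

/-- Additivity in the first factor. -/
theorem alt_cons_mul {r : ℕ} {M : Fin r → X.Modules} (hM : ∀ i, PicF.IsInvertible (M i)) {A B : X.Modules}
    (hA : PicF.IsInvertible A) (hB : PicF.IsInvertible B) {F : X.Modules}
    (hF : Cyc.CohLe (SnapLead.δ k) ((r + 1 : ℕ) : ℤ) F) :
    alt k (r + 1) (Fin.cons (CohB1.tensorMod A B) M) F =
      alt k (r + 1) (Fin.cons A M) F + alt k (r + 1) (Fin.cons B M) F := by
  haveI := CurveCohLib.isNoetherian_of_proper (k := k) (X := X)
  have hcons : ∀ (L : X.Modules), alt k (r + 1) (Fin.cons L M) F = alt k r M F - alt k r M (CohB1.tensorMod F L) :=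
    fun L => by
      rw [IntAlt.alt_succ]
      simp only [Fin.cons_zero, Fin.cons_succ]
  have hB' : ∀ i, PicF.IsInvertible ((Fin.cons B M : Fin (r + 1) → X.Modules) i) := fun i => by
    induction i using Fin.cases with
    | zero => simpa using hB
    | succ j => simpa using hM j
  have h := alt_twist k hB' hA hF
  have hass : alt k r M (CohB1.tensorMod (CohB1.tensorMod F A) B) = alt k r M (CohB1.tensorMod F (CohB1.tensorMod A B)) := by
    rw [IntAlt.alt_eq_sum, IntAlt.alt_eq_sum, cl_tensor, cl_tensor, cl_tensor F, cl_tensor A, mul_assoc]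
  rw [IntAlt.alt_succ] at h
  simp only [Fin.cons_zero, Fin.cons_succ] at h
  have hB2 := hcons B
  rw [hcons, hcons A, ← hass]
  linarith

/-- The alternating sum attached to classes of invertible modules. -/
def form (r : ℕ) (c : Fin r → inv X) : ℤ :=
  (-1 : ℤ) ^ r * alt k r (fun i => rep (c i)) (Coh.structureModule X)

theorem form_eq {r : ℕ} (c : Fin r → inv X) {L : Fin r → X.Modules}
    (h : ∀ i, PicF.cl (L i) = (((c i : inv X) : (PicF.Cl X)ˣ) : PicF.Cl X)) :
    form k r c = (-1 : ℤ) ^ r * alt k r L (Coh.structureModule X) := by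
  rw [form, IntAlt.alt_congr_cl k (M' := L) fun i => (cl_rep (c i)).trans (h i).symm]

theorem form_perm {r : ℕ} (σ : Equiv.Perm (Fin r)) (c : Fin r → inv X) :
    form k r (fun i => c (σ i)) = form k r c := by
  rw [form, form, ← IntAlt.alt_perm k σ (fun i => rep (c i))]

theorem cohLe_structure {g : ℕ} (hg : topologicalKrullDim X ≤ g) :
    Cyc.CohLe (SnapLead.δ k) g (Coh.structureModule X) := by
  haveI := CurveCohLib.isNoetherian_of_proper (k := k) (X := X)
  refine SnapLead.cohLe_of_dim k (K0TensorInv.isCoh_invertible (InvX.isInvertible_structureModule)) ?_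
  exact le_trans (topologicalKrullDim_subspace_le X (CohB1.support (Coh.structureModule X))) hg

theorem form_cons_mul {r : ℕ} (hg : topologicalKrullDim X ≤ (r + 1 : ℕ)) (a b : inv X) (c : Fin r → inv X) :
    form k (r + 1) (Fin.cons (a * b) c) = form k (r + 1) (Fin.cons a c) + form k (r + 1) (Fin.cons b c) := by
  have hL : ∀ (x : inv X) (L : X.Modules), PicF.cl L = (((x : inv X) : (PicF.Cl X)ˣ) : PicF.Cl X) →
      form k (r + 1) (Fin.cons x c) =
        (-1 : ℤ) ^ (r + 1) * alt k (r + 1) (Fin.cons L fun i => rep (c i)) (Coh.structureModule X) :=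
    fun x L h => form_eq k _ fun i => by
      induction i using Fin.cases with
      | zero => simpa using h
      | succ j => simpa using cl_rep (c j)
  rw [hL a _ (cl_rep a), hL b _ (cl_rep b),
    hL (a * b) (CohB1.tensorMod (rep a) (rep b)) (by rw [cl_tensor, cl_rep, cl_rep]; rfl),
    alt_cons_mul k (fun i => isInvertible_rep _) (isInvertible_rep a) (isInvertible_rep b) (cohLe_structure k hg),
    mul_add]

theorem form_update_mul {g : ℕ} (hg : topologicalKrullDim X ≤ g) (c : Fin g → inv X) (i : Fin g) (a b : inv X) :
    form k g (Function.update c i (a * b)) = form k g (Function.update c i a) + form k g (Function.update c i b) := by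
  obtain ⟨r, rfl⟩ : ∃ r, g = r + 1 := ⟨g - 1, by have := i.pos; omega⟩
  let σ : Equiv.Perm (Fin (r + 1)) := Equiv.swap 0 i
  have key : ∀ x : inv X, form k (r + 1) (Function.update c i x) =
      form k (r + 1) (Fin.cons x (fun j => Function.update c i 1 (σ j.succ))) := fun x => by
    rw [← form_perm k σ (Function.update c i x)]
    congr 1
    funext j
    induction j using Fin.cases with
    | zero => simp [σ]
    | succ j =>
      have hne : σ j.succ ≠ i := fun h => Fin.succ_ne_zero j (σ.injective (h.trans (Equiv.swap_apply_left 0 i).symm))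
      simp [Fin.cons_succ, Function.update_of_ne hne]
  rw [key, key a, key b, form_cons_mul k hg]

/-- The top intersection form. -/
def multi {g : ℕ} (hg : topologicalKrullDim X ≤ g) :
    MultilinearMap ℤ (fun _ : Fin g => Additive (inv X)) ℤ :=
  MultilinearMap.mk' (fun m => form k g fun i => (m i).toMul)
    (by
      intro m i a b
      have h : ∀ x : Additive (inv X), (fun j => (Function.update m i x j).toMul) =
          Function.update (fun j => (m j).toMul) i x.toMul := fun x => by
        funext j
        rcases eq_or_ne j i with rfl | hj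
        · simp
        · simp [Function.update_of_ne hj]
      show form k g _ = form k g _ + form k g _
      rw [h, h, h]
      exact form_update_mul k hg _ i _ _)
    (by
      intro m i c x
      let φ : Additive (inv X) →+ ℤ :=
        AddMonoidHom.mk' (fun y => form k g fun j => (Function.update m i y j).toMul) fun a b => by
          have h : ∀ x : Additive (inv X), (fun j => (Function.update m i x j).toMul) =
              Function.update (fun j => (m j).toMul) i x.toMul := fun x => by
            funext j
            rcases eq_or_ne j i with rfl | hj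
            · simp
            · simp [Function.update_of_ne hj]
          rw [h, h, h]
          exact form_update_mul k hg _ i _ _
      exact (map_zsmul φ c x).trans rfl)

theorem multi_apply {g : ℕ} (hg : topologicalKrullDim X ≤ g) (m : Fin g → Additive (inv X)) :
    multi k hg m = form k g fun i => (m i).toMul := rfl

section Integral

variable [IsIntegral X] {g : ℕ}

theorem delta_generic (hg : topologicalKrullDim X = g) : SnapLead.δ k (genericPoint X) = (g : ℤ) := by
  refine (IntAlt.delta_eq_iff k _ g).1 ?_
  rw [genericPoint_closure]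
  exact (IsHomeomorph.topologicalKrullDim_eq _ (Homeomorph.Set.univ X).isHomeomorph).trans hg

theorem eq_generic_of_delta (hg : topologicalKrullDim X = g) {x : X} (hx : SnapLead.δ k x = (g : ℤ)) :
    x = genericPoint X := by
  by_contra hne
  have h := (SnapLead.isDimFun k (genericPoint X) x (genericPoint_specializes x) (Ne.symm hne)).1
  rw [delta_generic k hg, hx] at h
  exact lt_irrefl _ h

theorem sheafFun_structure (hg : topologicalKrullDim X = g) (x : X) [Decidable (x = genericPoint X)] :
    Cyc.sheafFun (SnapLead.δ k) g (Coh.structureModule X) x = if x = genericPoint X then 1 else 0 := by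
  split_ifs with hx
  · subst hx
    have hf : IsField (X.presheaf.stalk (genericPoint X)) := CurveBundle.isField_stalk_generic
    rw [Cyc.sheafFun, if_pos (delta_generic k hg)]
    rw [ClosedPushLen.length_structureModule]
    letI := hf.toField
    rw [Module.length_eq_one_iff.2 inferInstance]
    rfl
  · rw [Cyc.sheafFun, if_neg fun h => hx (eq_generic_of_delta k hg h)]

theorem alt_structure (hg : topologicalKrullDim X = g) {L : Fin g → X.Modules}
    (hL : ∀ i, PicF.IsInvertible (L i)) :
    alt k g L (Coh.structureModule X) = alt k g L (Cyc.closureStructureSheaf (genericPoint X)) := by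
  classical
  rw [IntAlt.alt_eq_sum_closure k hL (cohLe_structure k hg.le) {genericPoint X}
    (fun ξ hξ => by rw [Finset.mem_singleton.1 hξ]; exact delta_generic k hg)
    (fun ξ hξ => Finset.mem_singleton.2 (by
      by_contra hne
      exact hξ (by rw [sheafFun_structure k hg, if_neg hne]))),
    Finset.sum_singleton, sheafFun_structure k hg, if_pos rfl, one_mul]

variable {Y : Scheme.{u}} [IsIntegral Y] [Y.Over (Spec (CommRingCat.of k))]
  [IsProper (Y ↘ Spec (CommRingCat.of k))]

/-- The projection formula for the top intersection form. -/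
theorem form_pullback (f : Y ⟶ X) (hf : f ≫ (X ↘ Spec (CommRingCat.of k)) = Y ↘ Spec (CommRingCat.of k))
    (hgX : topologicalKrullDim X = g) (hgY : topologicalKrullDim Y = g) (c : Fin g → inv X)
    (c' : Fin g → inv Y)
    (hc : ∀ i, (((c' i : inv Y) : (PicF.Cl Y)ˣ) : PicF.Cl Y) = PicF.pullCl f (((c i : inv X) : (PicF.Cl X)ˣ) : PicF.Cl X)) :
    form k g c' = (AlgebraicCycle.mapCoeff f (SnapLead.δ k) (SnapLead.δ k) (genericPoint Y) : ℤ) * form k g c := by
  classical
  haveI := CurveCohLib.isNoetherian_of_proper (k := k) (X := X)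
  haveI := CurveCohLib.isNoetherian_of_proper (k := k) (X := Y)
  haveI := IntPush.isProper k f hf
  let η := genericPoint Y
  have hηd := delta_generic k hgY
  have hle := cohLe_structure k hgY.le
  obtain ⟨a, ha⟩ := IntNumCycle.main.exists_cycle (SnapLead.isDimFun k) hle
  have haη : ∀ x, a x = if x = η then 1 else 0 := fun x => by
    rw [ha, sheafFun_structure k hgY]
  have hmap : ∀ x, AlgebraicCycle.map f (SnapLead.δ k) (SnapLead.δ k) a x =
      if x = f η then (AlgebraicCycle.mapCoeff f (SnapLead.δ k) (SnapLead.δ k) η : ℤ) else 0 := fun x => by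
    rw [CycLib.map_apply']
    split_ifs with hx
    · rw [finsum_mem_eq_sum_of_inter_support_eq (t := {η}) _ ?_, Finset.sum_singleton, haη, if_pos rfl, one_mul]
      ext y
      simp only [Set.mem_inter_iff, Set.mem_preimage, Set.mem_singleton_iff, Function.mem_support,
        Finset.coe_singleton]
      refine ⟨fun h => ⟨?_, h.2⟩, fun h => ⟨?_, h.2⟩⟩
      · by_contra hne
        exact h.2 (by rw [haη, if_neg hne, zero_mul])
      · rw [h.1, hx]
    · refine finsum_mem_eq_zero_of_forall_eq_zero fun y hy => ?_
      rw [haη, if_neg, zero_mul]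
      rintro rfl
      exact hx hy.symm
  rw [form_eq k c' (L := fun i => (Scheme.Modules.pullback f).obj (rep (c i))) fun i => by
      rw [hc i, ← cl_rep (c i)]; rfl]
  by_cases hξd : SnapLead.δ k (f η) = (g : ℤ)
  · rw [IntPush.alt_pullback k f hf (fun i => isInvertible_rep (c i)) hle a ha {f η}
      (fun x hx => by rw [Finset.mem_singleton.1 hx]; exact hξd)
      (fun x hx => by
        rw [hmap] at hx
        exact Finset.mem_singleton.2 (by_contra fun hne => hx (if_neg hne))),
      Finset.sum_singleton, hmap, if_pos rfl, eq_generic_of_delta k hgX hξd,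
      ← alt_structure k hgX (fun i => isInvertible_rep (c i)), form]
    ring
  · rw [IntPush.alt_pullback k f hf (fun i => isInvertible_rep (c i)) hle a ha ∅ (by simp) (fun x hx => by
      rw [hmap] at hx
      refine absurd ?_ hx
      split_ifs
      · rw [AlgebraicCycle.mapCoeff, if_neg fun h => hξd (h.symm.trans hηd)]
        rfl
      · rfl),
      AlgebraicCycle.mapCoeff, if_neg fun h => hξd (h.symm.trans hηd)]
    simp

/-- The coefficient of the pushforward of the generic point vanishes unless the map is surjective. -/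
theorem mapCoeff_eq_zero (f : Y ⟶ X) (hf : f ≫ (X ↘ Spec (CommRingCat.of k)) = Y ↘ Spec (CommRingCat.of k))
    (hgX : topologicalKrullDim X = g) (hgY : topologicalKrullDim Y = g) (hns : ¬ Surjective f) :
    AlgebraicCycle.mapCoeff f (SnapLead.δ k) (SnapLead.δ k) (genericPoint Y) = 0 := by
  rw [AlgebraicCycle.mapCoeff, if_neg]
  intro h
  rw [delta_generic k hgY] at h
  haveI := IntPush.isProper k f hf
  refine hns ⟨fun x => ?_⟩
  have hmem : genericPoint X ∈ Set.range f := ⟨genericPoint Y, eq_generic_of_delta k hgX h.symm⟩
  exact (genericPoint_specializes x).mem_closed f.isClosedMap.isClosed_range hmem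

/-- The coefficient of a finite flat surjective map is its rank. -/
theorem mapCoeff_eq_finrank (f : Y ⟶ X) [IsFinite f] [Flat f] [Surjective f]
    (hf : f ≫ (X ↘ Spec (CommRingCat.of k)) = Y ↘ Spec (CommRingCat.of k))
    (hgX : topologicalKrullDim X = g) (hgY : topologicalKrullDim Y = g) :
    AlgebraicCycle.mapCoeff f (SnapLead.δ k) (SnapLead.δ k) (genericPoint Y) = f.finrank (genericPoint X) := by
  classical
  obtain ⟨hfin, hsum⟩ := FiniteFibreSum.sum_finrank f (genericPoint X)
  have hη : f (genericPoint Y) = genericPoint X := H23.CurveCorr.map_genericPoint_of_surjective f f.surjective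
  have hset : f ⁻¹' {genericPoint X} = {genericPoint Y} := by
    ext y
    refine ⟨fun hy => ?_, fun hy => by rw [Set.mem_singleton_iff.1 hy]; exact hη⟩
    obtain ⟨z, hz⟩ := f.surjective (genericPoint X)
    refine eq_generic_of_delta k hgY ?_
    obtain ⟨n, hn, hδ⟩ := IntPush.deltaCompat k f hf y
    have hfin : (f.residueFieldMap y).hom.Finite := MorLib.GF.finite_residueFieldMap f y
    have hn0 : n = 0 := by
      letI := (f.residueFieldMap y).hom.toAlgebra
      haveI : Module.Finite (X.residueField (f y)) (Y.residueField y) := hfin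
      have := trdeg_eq_zero (R := X.residueField (f y)) (A := Y.residueField y)
      rw [hn] at this
      exact_mod_cast this
    rw [hδ, hn0, show f y = genericPoint X from hy, delta_generic k hgX]
    simp
  rw [hset, finsum_mem_singleton] at hsum
  have hlen : FiniteFibreSum.fibreLen f (genericPoint Y) = 1 := by
    have hf' : IsField (Y.presheaf.stalk (genericPoint Y)) := CurveBundle.isField_stalk_generic
    letI := hf'.toField
    show Module.length _ _ = 1
    rw [Module.length_eq_one_iff]
    have hbot : Ideal.map (f.stalkMap (genericPoint Y)).hom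
        (IsLocalRing.maximalIdeal (X.presheaf.stalk (f (genericPoint Y)))) = ⊥ := by
      refine ((Ideal.eq_bot_or_top _).resolve_right fun h => ?_)
      have hle : Ideal.map (f.stalkMap (genericPoint Y)).hom
          (IsLocalRing.maximalIdeal (X.presheaf.stalk (f (genericPoint Y)))) ≤
          IsLocalRing.maximalIdeal (Y.presheaf.stalk (genericPoint Y)) :=
        ((IsLocalRing.local_hom_TFAE (f.stalkMap (genericPoint Y)).hom).out 0 2 rfl rfl).1 (inferInstanceAs (IsLocalHom (f.stalkMap (genericPoint Y)).hom))
      exact (IsLocalRing.maximalIdeal.isMaximal _).ne_top (top_le_iff.1 (h ▸ hle))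
    rw [hbot]
    haveI : IsSimpleModule (Y.presheaf.stalk (genericPoint Y)) (Y.presheaf.stalk (genericPoint Y)) := inferInstance
    exact IsSimpleModule.congr (Submodule.quotEquivOfEqBot (⊥ : Submodule (Y.presheaf.stalk (genericPoint Y)) (Y.presheaf.stalk (genericPoint Y))) rfl)
  rw [AlgebraicCycle.mapCoeff, if_pos (by rw [delta_generic k hgY, show f.base (genericPoint Y) = genericPoint X from hη,
    delta_generic k hgX]), ← hsum, hlen]
  simp

/-- Positivity for an ample class. -/
theorem form_pos (hg : topologicalKrullDim X = g) {L : X.Modules} (hL : CohB1.IsAmple L) :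
    0 < form k g fun _ => mk hL.1 := by
  haveI := CurveCohLib.isNoetherian_of_proper (k := k) (X := X)
  have hle : Cyc.CohLe (SnapLead.δ k) g (Coh.structureModule X) := cohLe_structure k hg.le
  have hη := delta_generic k hg
  have hsupp : topologicalKrullDim ((IntMult.ptIdeal (genericPoint X)).support : Set X) = g := by
    rw [IntMult.ptIdeal, Scheme.IdealSheafData.coe_support_vanishingIdeal]
    exact (IntAlt.delta_eq_iff k _ g).2 hη
  haveI := QCoh.isIntegral_closure_point (genericPoint X)
  haveI : IsIntegral (IntMult.ptIdeal (genericPoint X)).subscheme := QCoh.isIntegral_closure_point (genericPoint X)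
  have hcl : Cyc.CohLe (SnapLead.δ k) g (ClSub.quotMod (IntMult.ptIdeal (genericPoint X))) :=
    SnapLead.cohLe_of_dim k (ParShLib.isCoh_quotMod _) ((IntCoeff.dim_support_quotMod_le _).trans hsupp.le)
  have hlt : topologicalKrullDim ↥(CohB1.support (ClSub.quotMod (IntMult.ptIdeal (genericPoint X)))) <
      ((g + 1 : ℕ) : WithBot ℕ∞) :=
    SnapLead.dim_support_lt k (d := g + 1) (by simpa using hcl)
  obtain ⟨Q, hQd, hQn⟩ := Snapper.isMPolyLt_of_dim_lt k (L := fun _ : Fin g => L) (fun _ => hL.1) (g + 1)
    ⟨_, QCoh.isClosed_support_of_isFT hcl.1.1 hcl.1.2⟩ hlt _ hcl.1 subset_rfl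
  have h1 := Nakai.coeff_pos hL (IntMult.ptIdeal (genericPoint X)) g hsupp Q hQn
  have e1 := IntAlt.coeff_closure k hη (fun _ => hL.1) Q hQn
  have h2 : (0 : ℚ) < (((-1 : ℤ) ^ g * alt k g (fun _ => L) (Cyc.closureStructureSheaf (genericPoint X)) : ℤ) : ℚ) := by
    rw [← e1]
    exact h1
  rw [form_eq k _ (L := fun _ => L) fun _ => (val_mk hL.1).symm, alt_structure k hg fun _ => hL.1]
  exact_mod_cast h2

end Integral

end Groth.Agent.TopInt
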