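import Groth.Agent.Lib.SurfAmple
import Groth.Agent.Lib.CurveRR
import Groth.Agent.Lib.CurveDeg
import Groth.Agent.S8914

/-!
Intersection numbers of distinct curves, and negative definite configurations of curves.
-/

set_option autoImplicit false
set_option linter.style.haveILetI false
set_option linter.unusedSectionVars false
set_option backward.isDefEq.respectTransparency false
set_option backward.isDefEq.respectTransparency.types false
set_option maxHeartbeats 1000000

universe u

open CategoryTheory CategoryTheory.Limits AlgebraicGeometry TopologicalSpace Opposite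
open Groth.Agent.H23 Groth.Agent.H23.TrivBasic

noncomputable section

namespace Groth.Agent.SurfNegDef

attribute [local instance] PicMul.clMonoid

/-- A symmetric negative definite form which is nonnegative off the diagonal. -/
theorem nonpos_of_mul {ι : Type*} [Fintype ι] (G : ι → ι → ℤ)
    (hoff : ∀ i j, i ≠ j → 0 ≤ G i j) (hneg : ∀ a : ι → ℤ, a ≠ 0 → ∑ i, ∑ j, a i * a j * G i j < 0)
    (s : ι → ℤ) (h : ∀ j, 0 ≤ ∑ i, s i * G i j) : ∀ i, s i ≤ 0 := by
  let P : ι → ℤ := fun i => max (s i) 0
  intro i₀
  by_contra hi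
  have hP : P ≠ 0 := fun h0 => by
    have := congrFun h0 i₀
    simp only [P, Pi.zero_apply] at this
    omega
  have h1 : (0 : ℤ) ≤ ∑ j, P j * ∑ i, s i * G i j :=
    Finset.sum_nonneg fun j _ => mul_nonneg (le_max_right _ _) (h j)
  simp_rw [Finset.mul_sum] at h1
  rw [Finset.sum_comm] at h1
  have h2 : ∑ i, ∑ j, P j * (s i * G i j) ≤ ∑ i, ∑ j, P i * P j * G i j := by
    refine Finset.sum_le_sum fun i _ => Finset.sum_le_sum fun j _ => ?_
    rcases eq_or_ne i j with rfl | hij
    · rcases le_or_gt (s i) 0 with h' | h'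
      · simp [P, max_eq_right h']
      · exact le_of_eq (by simp only [P, max_eq_left h'.le]; ring)
    · have hd : s i * P j ≤ P i * P j := mul_le_mul_of_nonneg_right (le_max_left _ _) (le_max_right _ _)
      calc P j * (s i * G i j) = s i * P j * G i j := by ring
        _ ≤ _ := mul_le_mul_of_nonneg_right hd (hoff i j hij)
  have h3 := hneg P hP
  omega

variable {k : Type u} [Field k] {X : Scheme.{u}} [X.Over (Spec (CommRingCat.of k))]
  [IsProper (X ↘ Spec (CommRingCat.of k))]

/-- The Euler characteristic of a module on a closed subscheme as a pairing. -/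
theorem euler_quot_tensor (J : X.IdealSheafData) (hJ : PicF.IsInvertible (ClSub.idealMod J)) {M : X.Modules}
    (hM : PicF.IsInvertible M) :
    Curv2.euler k X (CohB1.tensorMod (ClSub.quotMod J) M) - Curv2.euler k X (ClSub.quotMod J) =
      -SurfPairing.pair k (PicF.cl (ClSub.idealMod J)) (PicF.cl M) := by
  haveI := CurveCohLib.isNoetherian_of_proper (k := k) (X := X)
  haveI := CurveOnSurf.isEquivalence_tensor hM
  haveI : Mono (ClSub.idealModι J) := inferInstanceAs (Mono (kernel.ι _))
  haveI : Mono (DivisorExt.mulIdeal J M) := by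
    haveI : Mono ((DCoh.tensorBi.obj M).map (ClSub.idealModι J)) := inferInstance
    exact mono_comp _ _
  obtain ⟨e₁⟩ := DivisorExt.nonempty_cokernel_mulIdeal J M
  obtain ⟨c⟩ := PicMul.comm (ClSub.quotMod J) M
  have hMc : Coh.IsCoh M := AmpleVan.isCoh_invertible hM
  have hMI : Coh.IsCoh ((SheafHomX.ten (ClSub.idealMod J)).obj M) := by
    rw [CurveOnSurf.ten_obj]
    exact AmpleVan.isCoh_invertible (PicMul.isInvertible_tensor hM hJ)
  have h := CurveOnSurf.euler_mono (k := k) (DivisorExt.mulIdeal J M) hMI hMc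
  rw [show Curv2.euler k X ((SheafHomX.ten (ClSub.idealMod J)).obj M) = Curv2.euler k X (CohB1.tensorMod M (ClSub.idealMod J)) from congrArg _ (CurveOnSurf.ten_obj M _),
    CurveCohLib.euler_congr (k := k) (e₁ ≪≫ c.symm)] at h
  have hq : Coh.IsCoh (ClSub.quotMod J) := ParShLib.isCoh_quotMod _
  have h2 := CurveCohLib.euler_additive (k := k) (DivisorExt.ideal_shortExact J)
    (AmpleVan.isCoh_invertible hJ) QCoh.isCoh_structureModule' hq
  replace h2 : Curv2.euler k X (Coh.structureModule X) =
      Curv2.euler k X (ClSub.idealMod J) + Curv2.euler k X (ClSub.quotMod J) := h2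
  rw [SurfPairing.pair, mul_comm (PicF.cl (ClSub.idealMod J)), ← PicMul.cl_tensor, SurfPairing.χ_cl,
    SurfPairing.χ_cl, SurfPairing.χ_cl, SurfPairing.χ_one]
  linarith

/-- A module with a section which does not vanish identically on an integral curve has nonnegative degree there. -/
theorem deg_nonneg_of_locus {C : Scheme.{u}} (i : C ⟶ X) [IsClosedImmersion i] [IsIntegral C]
    (hC : topologicalKrullDim C ≤ 1) {L : X.Modules} (hL : PicF.IsInvertible L) {s : Γ(L, ⊤)} (c : C)
    (hc : i c ∈ locus s) :
    letI : C.Over (Spec (CommRingCat.of k)) := ⟨i ≫ (X ↘ (Spec (CommRingCat.of k)))⟩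
    0 ≤ Curv2.deg k C ((Scheme.Modules.pullback i).obj L) 1 := by
  letI : C.Over (Spec (CommRingCat.of k)) := ⟨i ≫ (X ↘ (Spec (CommRingCat.of k)))⟩
  haveI : IsProper (C ↘ Spec (CommRingCat.of k)) :=
    show IsProper (i ≫ (X ↘ Spec (CommRingCat.of k))) from inferInstance
  obtain ⟨e⟩ := PicClLib.nonempty_pullback_structureModule i
  let φ := e.symm.hom ≫ (Scheme.Modules.pullback i).map (InvX.ofSect s)
  have hgen : c ∈ CohB1.genLocus _ φ := by
    rw [InvX.genLocus_pullback i hL _ e.symm]
    exact hc
  have hφ : φ ≠ 0 := fun h0 => by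
    rw [h0] at hgen
    obtain ⟨U, hcU, hU⟩ := (mem_locus_iff (s := InvX.one (0 : Coh.structureModule C ⟶ (Scheme.Modules.pullback i).obj L)) (x := c)).1
      (show c ∈ CohB1.genLocus _ (InvX.ofSect (InvX.one _)) by rw [AVAmple.ofSect_one]; exact hgen)
    rw [show InvX.one (0 : Coh.structureModule C ⟶ (Scheme.Modules.pullback i).obj L) = 0 from rfl, map_zero] at hU
    haveI : Nonempty U := ⟨⟨c, hcU⟩⟩
    exact zero_ne_one (hU.coord_unique le_rfl (r := (0 : Γ(C, U))) (r' := 1) (by simp))
  have h := (CurveDeg.deg_le_and_isIso k hC InvX.isInvertible_structureModule (PicClLib.isInvertible_pullback i hL) φ hφ).1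
  rw [CurveDeg.deg_structureModule] at h
  exact h

variable (k) in
include k in
/-- Integral curves with comparable supports are equal. -/
theorem eq_of_support_subset {C D : X.IdealSheafData} [IsIntegral C.subscheme] [IsIntegral D.subscheme]
    (hC : topologicalKrullDim (C.support : Set X) = 1) (hD : topologicalKrullDim (D.support : Set X) = 1)
    (h : (C.support : Set X) ⊆ D.support) : C = D := by
  haveI : JacobsonSpace X := LocallyOfFiniteType.jacobsonSpace (X ↘ Spec (CommRingCat.of k))
  have hirr : ∀ J : X.IdealSheafData, IsIntegral J.subscheme → IsIrreducible (J.support : Set X) := fun J _ => by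
    rw [← Scheme.IdealSheafData.range_subschemeι, ← Set.image_univ]
    exact (IrreducibleSpace.isIrreducible_univ _).image _ J.subschemeι.continuous.continuousOn
  have heq : C.support = D.support := by
    refine SetLike.coe_injective (h.antisymm fun z hz => ?_)
    by_contra hzC
    have hCi := hirr C inferInstance
    have hDi := hirr D inferInstance
    have hinf : (C.support : Set X).Infinite := fun hf => by
      haveI := hf.to_subtype
      have h0 : topologicalKrullDim (C.support : Set X) ≤ 0 := by
        haveI : JacobsonSpace (C.support : Set X) :=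
          .of_isClosedEmbedding C.support.isClosed.isClosedEmbedding_subtypeVal
        haveI : DiscreteTopology (C.support : Set X) := inferInstance
        exact topologicalKrullDim_zero_of_discreteTopology _
      rw [hC] at h0
      exact absurd h0 (by decide)
    obtain ⟨x, hxC, hxc⟩ := nonempty_inter_closedPoints hCi.nonempty C.support.isClosed.isLocallyClosed
    haveI := Subtype.irreducibleSpace hDi
    let x' : (D.support : Set X) := ⟨x, h hxC⟩
    let a : TopologicalSpace.IrreducibleCloseds (D.support : Set X) :=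
      ⟨Subtype.val ⁻¹' {x}, by
        rw [show (Subtype.val ⁻¹' {x} : Set (D.support : Set X)) = {x'} by ext ⟨y, hy⟩; simp [x']]
        exact isIrreducible_singleton, (mem_closedPoints_iff.1 hxc).preimage continuous_subtype_val⟩
    let b : TopologicalSpace.IrreducibleCloseds (D.support : Set X) :=
      ⟨Subtype.val ⁻¹' (C.support : Set X), by
        refine ⟨⟨x', hxC⟩, fun U V hU hV hU' hV' => ?_⟩
        obtain ⟨U₀, hU₀, rfl⟩ := hU
        obtain ⟨V₀, hV₀, rfl⟩ := hV
        obtain ⟨u, hu, hu'⟩ := hU'
        obtain ⟨v, hv, hv'⟩ := hV'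
        obtain ⟨w, hw, hw'⟩ := hCi.2 U₀ V₀ hU₀ hV₀ ⟨u, hu, hu'⟩ ⟨v, hv, hv'⟩
        exact ⟨⟨w, h hw⟩, hw, hw'⟩, C.support.isClosed.preimage continuous_subtype_val⟩
    let t : TopologicalSpace.IrreducibleCloseds (D.support : Set X) :=
      ⟨Set.univ, IrreducibleSpace.isIrreducible_univ _, isClosed_univ⟩
    obtain ⟨y, hy, hyx⟩ := (hinf.sdiff (Set.finite_singleton x)).nonempty
    have hab : a < b := lt_of_le_of_ne
      (fun w hw => show (w : X) ∈ (C.support : Set X) by rw [show (w : X) = x from hw]; exact hxC)
      fun e => hyx ((congrArg SetLike.coe e).ge (show (⟨y, h hy⟩ : (D.support : Set X)) ∈ (b : Set _) from hy))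
    have hbt : b < t := lt_of_le_of_ne (fun _ _ => trivial) fun e =>
      hzC ((congrArg SetLike.coe e).ge (show (⟨z, hz⟩ : (D.support : Set X)) ∈ (t : Set _) from trivial))
    let p₁ : LTSeries (TopologicalSpace.IrreducibleCloseds (D.support : Set X)) :=
      (RelSeries.singleton _ a).snoc b hab
    let p₂ : LTSeries (TopologicalSpace.IrreducibleCloseds (D.support : Set X)) :=
      p₁.snoc t (by rw [RelSeries.last_snoc]; exact hbt)
    have h2 : (p₂.length : WithBot ℕ∞) ≤ topologicalKrullDim (D.support : Set X) :=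
      le_iSup (fun p : LTSeries (TopologicalSpace.IrreducibleCloseds (D.support : Set X)) => (p.length : WithBot ℕ∞)) p₂
    rw [hD, show p₂.length = 2 from rfl] at h2
    exact absurd h2 (by decide)
  have hrad : ∀ J : X.IdealSheafData, IsReduced J.subscheme →
      Scheme.IdealSheafData.vanishingIdeal J.support = J := fun J _ => by
    rw [Scheme.IdealSheafData.vanishingIdeal_support]
    ext U : 2
    exact (H23.RedSub.isRadical_of_isReduced_subscheme U).radical
  rw [← hrad C inferInstance, ← hrad D inferInstance, heq]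

variable [IsIntegral X]

/-- A curve meets an effective divisor not containing it nonnegatively. -/
theorem pair_ideal_nonneg (hdim : topologicalKrullDim X = 2) (hreg : ∀ x : X, IsRegularLocalRing (X.presheaf.stalk x))
    {C F : X.IdealSheafData} [IsIntegral C.subscheme] (hC : topologicalKrullDim (C.support : Set X) = 1)
    (hF : BlowUp.IsEffCartierIdeal F) (hCF : ¬ (C.support : Set X) ⊆ F.support) :
    0 ≤ SurfPairing.pair k (PicF.cl (ClSub.idealMod C)) (PicF.cl (ClSub.idealMod F)) := by
  let i := C.subschemeι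
  have hd : topologicalKrullDim C.subscheme = 1 := by
    rw [(IsHomeomorph.topologicalKrullDim_eq _ i.isEmbedding.toHomeomorph.isHomeomorph)]
    exact (IsHomeomorph.topologicalKrullDim_eq _ (Homeomorph.setCongr (C.range_subschemeι)).isHomeomorph).trans hC
  have hker : i.ker = C := Scheme.IdealSheafData.ker_subschemeι C
  have hI : PicF.IsInvertible (ClSub.idealMod i.ker) :=
    CurveOnSurf.isInvertible_ideal (X ↘ Spec (CommRingCat.of k)) hdim hreg i hd
  have hFi := (S8914.result F).2 hF
  obtain ⟨L, hL, hLF⟩ := PicInv.exists_inverse hFi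
  obtain ⟨c⟩ := PicMul.comm L (ClSub.idealMod F)
  have hinv : ClSub.IsInverseOf L (ClSub.idealMod F) := let ⟨e⟩ := hLF; ⟨c ≪≫ e⟩
  obtain ⟨s, hs⟩ := AVAmple.exists_divisor_section F hF hL hinv
  obtain ⟨y, hy, hyF⟩ := Set.not_subset.1 hCF
  rw [← C.range_subschemeι] at hy
  obtain ⟨c', rfl⟩ := hy
  have hdeg := deg_nonneg_of_locus (k := k) i hd.le hL c' ((hs _).2 hyF)
  have hp := CurveOnSurf.pair_ideal (k := k) i hL hI
  have hcl : PicF.cl L * PicF.cl (ClSub.idealMod F) = 1 := (CurveOnSurf.isInvertible_of_inverse hFi hinv).2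
  have hpi := SurfPairing.pair_inv k hdim.le hI hL hFi hcl
  rw [hker] at hp hpi
  linarith

/-- A curve is negative on an ample module, in ideal convention. -/
theorem pair_curve_ample_neg (hdim : topologicalKrullDim X = 2) (hreg : ∀ x : X, IsRegularLocalRing (X.presheaf.stalk x))
    {C : X.IdealSheafData} [IsIntegral C.subscheme] (hC : topologicalKrullDim (C.support : Set X) = 1)
    {H : X.Modules} (hH : CohB1.IsAmple H) :
    SurfPairing.pair k (PicF.cl (ClSub.idealMod C)) (PicF.cl H) < 0 := by
  let i := C.subschemeι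
  have hd : topologicalKrullDim C.subscheme = 1 := by
    rw [(IsHomeomorph.topologicalKrullDim_eq _ i.isEmbedding.toHomeomorph.isHomeomorph)]
    exact (IsHomeomorph.topologicalKrullDim_eq _ (Homeomorph.setCongr (C.range_subschemeι)).isHomeomorph).trans hC
  have hker : i.ker = C := Scheme.IdealSheafData.ker_subschemeι C
  have hI : PicF.IsInvertible (ClSub.idealMod i.ker) :=
    CurveOnSurf.isInvertible_ideal (X ↘ Spec (CommRingCat.of k)) hdim hreg i hd
  letI : C.subscheme.Over (Spec (CommRingCat.of k)) := ⟨i ≫ (X ↘ (Spec (CommRingCat.of k)))⟩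
  haveI : IsProper (C.subscheme ↘ Spec (CommRingCat.of k)) :=
    show IsProper (i ≫ (X ↘ Spec (CommRingCat.of k))) from inferInstance
  haveI : CompactSpace C.subscheme :=
    QuasiCompact.compactSpace_of_compactSpace (C.subscheme ↘ Spec (CommRingCat.of k))
  have hp := CurveOnSurf.pair_ideal (k := k) i hH.1 hI
  have hdeg := CurveAmple.deg_pos_of_ample (k := k) hd
    (AmpleVan.FiniteSurj.isAmple_pullback_of_isAffineHom i hH)
  rw [hker] at hp
  linarith

/-- A nonempty effective divisor is negative on an ample module, in ideal convention. -/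
theorem pair_divisor_ample_neg (hdim : topologicalKrullDim X = 2) (hreg : ∀ x : X, IsRegularLocalRing (X.presheaf.stalk x))
    {F : X.IdealSheafData} (hF : BlowUp.IsEffCartierIdeal F) (hne : F ≠ ⊤) {H : X.Modules} (hH : CohB1.IsAmple H) :
    SurfPairing.pair k (PicF.cl (ClSub.idealMod F)) (PicF.cl H) < 0 := by
  have hFi := (S8914.result F).2 hF
  obtain ⟨L, hL, hLF⟩ := PicInv.exists_inverse hFi
  obtain ⟨c⟩ := PicMul.comm L (ClSub.idealMod F)
  have hinv : ClSub.IsInverseOf L (ClSub.idealMod F) := let ⟨e⟩ := hLF; ⟨c ≪≫ e⟩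
  obtain ⟨s, hs0, hs⟩ := AVAmple.exists_divisor_section_ne_zero F hF hL hinv
  have hlt : locus s ≠ ⊤ := fun h => hne ((Scheme.IdealSheafData.support_eq_bot_iff (I := F)).1
    (eq_bot_iff.2 fun x hx => ((hs x).1 (h.ge trivial) hx).elim))
  have hcl : PicF.cl L * PicF.cl (ClSub.idealMod F) = 1 := (CurveOnSurf.isInvertible_of_inverse hFi hinv).2
  have h1 := SurfAmple.pair_pos (k := k) hdim hreg hL hH hs0 hlt
  have h2 := SurfPairing.pair_inv k hdim.le hH.1 hL hFi hcl
  rw [SurfPairing.pair_comm k (PicF.cl H), SurfPairing.pair_comm k (PicF.cl H)] at h2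
  linarith

end Groth.Agent.SurfNegDef
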