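import Groth.Agent.Lib.CurveDuality
import Groth.Agent.CurveCohLib.Rank

/-!
Numerical consequences of duality: `h¹(L) = h⁰(L⁻¹ ⊗ ω)`, the degree of `ω`, vanishing.
-/

set_option linter.style.haveILetI false
set_option linter.unusedSectionVars false
set_option backward.isDefEq.respectTransparency false
set_option backward.isDefEq.respectTransparency.types false
set_option synthInstance.maxHeartbeats 100000

universe u

open CategoryTheory CategoryTheory.Limits AlgebraicGeometry TopologicalSpace Opposite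
open Groth.Agent.PnCoh.Finite (mapLin)

namespace Groth.Agent.CurveDuality

open Groth.Agent.CurveBundle Groth.Agent.CurveSlope Groth.Agent.CurveStable Groth.Agent.CurveSpecial

variable {X : Scheme.{u}}

/-- Every map out of an invertible module comes from a section of a twist. -/
theorem exists_homOfTwist (k : Type u) [Field k] [X.Over (Spec (CommRingCat.of k))] {L D : X.Modules}
    (e : (DCoh.tensorBi.obj L).obj D ≅ Coh.structureModule X) {M : X.Modules} (φ : L ⟶ M) :
    ∃ t : Coh.HH X ((DCoh.tensorBi.obj D).obj M) 0, homOfTwist e M t = φ := by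
  haveI : (DCoh.tensorBi.obj L).Full :=
    haveI := (CurveHiggs.twistEquiv e).isEquivalence_functor
    (inferInstance : (CurveHiggs.twistEquiv e).functor.Full)
  obtain ⟨ψ, hψ⟩ := (DCoh.tensorBi.obj L).map_surjective (X := Coh.structureModule X)
    ((KFlatLib.tensorUnitIso L).hom ≫ φ ≫ (CurveRR.cancelIso e).inv.app M)
  refine ⟨(Sheaf.H.equiv₀ (Coh.toAb ((DCoh.tensorBi.obj D).obj M)) isTerminalTop).symm
    (ψ.app ⊤ (H23.Frame.one ⊤)), ?_⟩
  have h : homOfClass ((Sheaf.H.equiv₀ (Coh.toAb ((DCoh.tensorBi.obj D).obj M)) isTerminalTop).symm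
      (ψ.app ⊤ (H23.Frame.one ⊤))) = ψ := CurveRR.hom_ext_one (by
    rw [homOfClass_one]
    exact AddEquiv.apply_symm_apply _ _)
  unfold homOfTwist
  rw [h, hψ]
  simp

variable (k : Type u) [Field k] [X.Over (Spec (CommRingCat.of k))] [IsIntegral X]
  [IsProper (X ↘ Spec (CommRingCat.of k))] [Smooth (X ↘ Spec (CommRingCat.of k))]
  {ω : X.Modules} {μ : Coh.HH X ω 1 →ₗ[k] k}

/-- Serre duality for invertible modules. -/
theorem finrank_h1_eq (hω : IsDualizing k ω μ) (hdim : topologicalKrullDim X = 1) {L D : X.Modules}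
    (hL : PicF.IsInvertible L) (e : (DCoh.tensorBi.obj L).obj D ≅ Coh.structureModule X) :
    Module.finrank k (Coh.HH X L 1) = Module.finrank k (Coh.HH X ((DCoh.tensorBi.obj D).obj ω) 0) := by
  haveI := CurveCohLib.isNoetherian_of_proper (k := k) (X := X)
  have hLf := isFinLocFree_of_rank (InvEnd.isFinLocFreeOfRank_one hL)
  haveI := S0002.result k X L (coh_of_free k hLf) 1
  have hb : Function.Bijective (pairing k e ω μ) := by
    refine ⟨(injective_iff_map_eq_zero _).2 fun t ht => ?_, fun g => ?_⟩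
    · by_contra ht0
      refine hω.ne (LinearMap.ext fun y => ?_)
      obtain ⟨x, hx⟩ := surjective_mapLin_one k hdim hL hω.inv (homOfTwist e ω t)
        (homOfTwist_ne_zero e ht0) y
      rw [← hx]
      exact LinearMap.congr_fun ht x
    · obtain ⟨φ, hφ⟩ := exists_rep k hω hdim _ L hLf rfl g
      obtain ⟨t, ht⟩ := exists_homOfTwist k e φ
      exact ⟨t, LinearMap.ext fun x => by
        show μ (mapLin k (homOfTwist e ω t) 1 x) = g x
        rw [ht, hφ]⟩
  rw [(LinearEquiv.ofBijective _ hb).finrank_eq, Subspace.dual_finrank_eq]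

section

variable (hO : Module.finrank k (Coh.HH X (Coh.structureModule X) 0) = 1)
include hO

theorem euler_structure (hdim : topologicalKrullDim X = 1) :
    Curv2.euler k X (Coh.structureModule X) = 1 - Curv2.genus k X := by
  rw [CurveRR.euler_eq_h0_sub_h1 k hdim.le QCoh.isQCoh_structureModule, hO]
  unfold Curv2.genus
  push_cast
  ring

/-- `h⁰(ω) = g`, `h¹(ω) = 1` and `deg ω = 2g - 2`. -/
theorem canonical_invariants (hω : IsDualizing k ω μ) (hdim : topologicalKrullDim X = 1) :
    Module.finrank k (Coh.HH X ω 0) = Curv2.genus k X ∧ Module.finrank k (Coh.HH X ω 1) = 1 ∧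
      Curv2.deg k X ω 1 = 2 * (Curv2.genus k X : ℤ) - 2 := by
  haveI := CurveCohLib.isNoetherian_of_proper (k := k) (X := X)
  have h0 : Module.finrank k (Coh.HH X ω 0) = Curv2.genus k X := by
    have h := finrank_h1_eq k hω hdim CurveDeg.isInvertible_structureModule
      (CurveTensor.structureTensorIso (Coh.structureModule X))
    have e := (CurveCohLib.hhEquiv (k := k) (CurveTensor.structureTensorIso ω) 0).finrank_eq
    unfold Curv2.genus
    rw [h, e]
  obtain ⟨D, hD, hdD, ⟨e⟩⟩ := exists_inverse_deg k hdim hω.inv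
  have h1 : Module.finrank k (Coh.HH X ω 1) = 1 := by
    rw [finrank_h1_eq k hω hdim hω.inv e,
      (CurveCohLib.hhEquiv (k := k) (CurveTensor.commIso D ω ≪≫ e) 0).finrank_eq, hO]
  refine ⟨h0, h1, ?_⟩
  have hχ := euler_eq k hdim (coh_of_free k (isFinLocFree_of_rank (InvEnd.isFinLocFreeOfRank_one hω.inv)))
  unfold Curv2.deg
  rw [euler_structure k hO hdim, hχ, h0, h1]
  push_cast
  ring

/-- In genus one the dualizing module is trivial. -/
theorem nonempty_iso_of_genus_one (hω : IsDualizing k ω μ) (hdim : topologicalKrullDim X = 1)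
    (hg : Curv2.genus k X = 1) : Nonempty (Coh.structureModule X ≅ ω) := by
  obtain ⟨h0, -, hd⟩ := canonical_invariants k hO hω hdim
  obtain ⟨s, hs⟩ := CurveRR.exists_hom_ne_zero k (P := ω) (by rw [h0, hg]; exact one_ne_zero)
  haveI := (CurveDeg.deg_le_and_isIso k hdim.le CurveDeg.isInvertible_structureModule hω.inv s hs).2
    (by rw [CurveDeg.deg_structureModule, hd, hg]; norm_num)
  exact ⟨asIso s⟩

/-- A bundle all of whose invertible quotients have degree above `2g - 2` has no first cohomology. -/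
theorem subsingleton_HH_one_of_quot (hdim : topologicalKrullDim X = 1) {V : X.Modules}
    (hV : FlatMod.IsFinLocFree V)
    (h : ∀ (I : X.Modules) (π : V ⟶ I), Epi π → FlatMod.IsFinLocFree (kernel π) → PicF.IsInvertible I →
      rk V = rk (kernel π) + 1 → dg k V = dg k (kernel π) + Curv2.deg k X I 1 →
      2 * (Curv2.genus k X : ℤ) - 2 < Curv2.deg k X I 1) :
    Subsingleton (Coh.HH X V 1) := by
  obtain ⟨ω, μ, hω⟩ := exists_isDualizing k (X := X) hdim
  refine (subsingleton_HH_one_iff k hω hdim hV).2 fun φ => ?_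
  by_contra hφ
  have hω1 := InvEnd.isFinLocFreeOfRank_one hω.inv
  obtain ⟨I, π, j, hj, hπ, hfac, hK, hI, hrk, hdg, hpos, hle⟩ :=
    exists_decomp k hdim.le hV (isFinLocFree_of_rank hω1) φ
  haveI := hj
  haveI := hπ
  rw [rk_eq hω1] at hle
  have hrI : rk I = 1 := by have := hpos hφ; omega
  have hI1 : FlatMod.IsFinLocFreeOfRank 1 I := hrI ▸ isFinLocFreeOfRank_rk hI
  have hj0 : j ≠ 0 := fun h0 => hφ (by rw [← hfac, h0, comp_zero])
  have h1 := (CurveDeg.deg_le_and_isIso k hdim.le (isInvertible_of_rank_one hI1) hω.inv j hj0).1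
  rw [(canonical_invariants k hO hω hdim).2.2] at h1
  haveI := CurveCohLib.isNoetherian_of_proper (k := k) (X := X)
  have hVc := coh_of_free k hV
  have hKc : Coh.IsCoh (kernel π) := QCoh.isCoh_kernel hVc (coh_of_free k hI) π
  have hS := shortExact_kernel_of_epi π
  have r1 := rk_add_coh k _ _ _ hS hVc
  have d1 := dg_add k _ _ _ hS hKc hVc (coh_of_free k hI)
  rw [← deg_eq_dg k hI1] at d1
  rw [hrI] at r1
  have := h I π inferInstance (isFinLocFree_of_mono k hdim.le hKc (kernel.ι π) hV)
    (isInvertible_of_rank_one hI1) r1 d1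
  omega

end

end Groth.Agent.CurveDuality
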