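import Groth.Agent.FlatMisc.SteinUC
import Groth.Agent.S1297
import Groth.Prelude.Def_ega3

/-!
# Points of the Stein factorisation and maximal ideals of the integral closure in the function field
-/

set_option autoImplicit false
set_option linter.style.haveILetI false
set_option backward.isDefEq.respectTransparency false
set_option backward.isDefEq.respectTransparency.types false

universe u

open CategoryTheory CategoryTheory.Limits AlgebraicGeometry TopologicalSpace Opposite

namespace Groth.Agent.Lib.SteinCount

variable {X Y : Scheme.{u}} [IsIntegral X]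

theorem stalkToFunctionField_germ (f : X ⟶ Y) {y : Y} (h : f.base (genericPoint X) ⤳ y) {V : Y.Opens}
    (hyV : y ∈ V) (a : Γ(Y, V)) :
    CohIII.stalkToFunctionField f y h ((Y.presheaf.germ V y hyV).hom a) =
      (X.presheaf.germ (f ⁻¹ᵁ V) (genericPoint X) (h.mem_open V.2 hyV)).hom ((f.app V).hom a) := by
  show (f.stalkMap (genericPoint X)).hom ((Y.presheaf.stalkSpecializes h).hom
      ((Y.presheaf.germ V y hyV).hom a)) = _
  rw [show (Y.presheaf.stalkSpecializes h).hom ((Y.presheaf.germ V y hyV).hom a) =
      (Y.presheaf.germ V (f.base (genericPoint X)) (h.mem_open V.2 hyV)).hom a from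
      Y.presheaf.germ_stalkSpecializes_apply hyV h a]
  exact Scheme.Hom.germ_stalkMap_apply f V (genericPoint X) _ a

variable (f : X ⟶ Y)

theorem specializes_toNormalization [UniversallyClosed f] [QuasiSeparated f] [QuasiCompact f] (z : f.normalization) :
    f.toNormalization.base (genericPoint X) ⤳ z := by
  rw [specializes_iff_mem_closure]
  have h1 : z ∈ closure (Set.range f.toNormalization) := f.toNormalization.denseRange z
  refine closure_minimal ?_ isClosed_closure h1
  rintro _ ⟨x, rfl⟩
  exact ((genericPoint_specializes x).map f.toNormalization.continuous).mem_closure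

variable [IsProper f] [IsLocallyNoetherian Y]

theorem exists_valuation (z : f.normalization) :
    ∃ (B : ValuationSubring X.functionField)
      (h : ∀ s, CohIII.stalkToFunctionField f.toNormalization z (specializes_toNormalization f z) s ∈ B.toSubring),
      IsLocalHom ((CohIII.stalkToFunctionField f.toNormalization z (specializes_toNormalization f z)).codRestrict
        B.toSubring h) :=
  IsLocalRing.exists_factor_valuationRing _

/-- The chosen valuation ring at a point of the Stein factorisation. -/
noncomputable def val (z : f.normalization) : ValuationSubring X.functionField := (exists_valuation f z).choose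

theorem mem_val (z : f.normalization) (s : f.normalization.presheaf.stalk z) :
    CohIII.stalkToFunctionField f.toNormalization z (specializes_toNormalization f z) s ∈ val f z :=
  (exists_valuation f z).choose_spec.choose s

theorem isUnit_val_iff (z : f.normalization) (s : f.normalization.presheaf.stalk z) :
    IsUnit (⟨_, mem_val f z s⟩ : val f z) ↔ IsUnit s :=
  ⟨fun h => (exists_valuation f z).choose_spec.choose_spec.1 _ h,
    fun h => h.map ((CohIII.stalkToFunctionField f.toNormalization z (specializes_toNormalization f z)).codRestrict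
      (val f z).toSubring (mem_val f z))⟩

variable {y : Y} (h : f.base (genericPoint X) ⤳ y) {z : f.normalization} (hz : f.fromNormalization z = y)

include hz in
/-- The map to the function field factors through the valuation ring, preserving non-units. -/
theorem stalk_mem_val (a : Y.presheaf.stalk y) :
    ∃ s : f.normalization.presheaf.stalk z,
      CohIII.stalkToFunctionField f.toNormalization z (specializes_toNormalization f z) s =
        CohIII.stalkToFunctionField f y h a ∧ (IsUnit s ↔ IsUnit a) := by
  obtain ⟨V, hyV, a, rfl⟩ := Y.presheaf.exists_germ_eq a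
  have hzV : z ∈ f.fromNormalization ⁻¹ᵁ V := by
    show f.fromNormalization z ∈ V
    rw [hz]; exact hyV
  refine ⟨(f.normalization.presheaf.germ _ z hzV).hom ((f.fromNormalization.app V).hom a), ?_, ?_⟩
  · rw [stalkToFunctionField_germ, stalkToFunctionField_germ]
    have e := Scheme.Hom.congr_app f.toNormalization_fromNormalization V
    rw [Scheme.Hom.comp_app] at e
    have e' := congr($(e) a)
    simp only [ConcreteCategory.comp_apply] at e'
    refine (congrArg _ e').trans ?_
    exact X.presheaf.germ_res_apply _ _ _ _
  · rw [← f.normalization.mem_basicOpen _ z hzV, ← Y.mem_basicOpen _ y hyV, ← Scheme.preimage_basicOpen]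
    show f.fromNormalization z ∈ Y.basicOpen a ↔ y ∈ Y.basicOpen a
    rw [hz]

include hz in
theorem integralClosureStalk_le : CohIII.integralClosureStalk f y h ≤ (val f z).toSubring := by
  intro c hc
  let φ := CohIII.stalkToFunctionField f y h
  obtain ⟨p, hp, hp0⟩ := hc
  have hmem : ∀ a, φ a ∈ (val f z).toSubring := fun a => by
    obtain ⟨s, hs, -⟩ := stalk_mem_val f h hz a
    show φ a ∈ _
    rw [show φ a = _ from hs.symm]
    exact mem_val f z s
  have hci : IsIntegral (val f z) c := ⟨p.map (φ.codRestrict _ hmem), hp.map _, by
    rw [Polynomial.eval₂_map]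
    exact hp0⟩
  obtain ⟨b, hb⟩ := IsIntegrallyClosed.isIntegral_iff.1 hci
  rw [← hb]
  exact b.2

/-- The maximal ideal attached to a point over `y`. -/
noncomputable def centre : Ideal (CohIII.integralClosureStalk f y h) :=
  (IsLocalRing.maximalIdeal (val f z)).comap (Subring.inclusion (integralClosureStalk_le f h hz))

theorem isMaximal_centre : (centre f h hz).IsMaximal := by
  haveI : (centre f h hz).IsPrime := Ideal.comap_isPrime _ _
  let φ := CohIII.stalkToFunctionField f y h
  letI := φ.toAlgebra
  let ψ : Y.presheaf.stalk y →+* CohIII.integralClosureStalk f y h :=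
    φ.codRestrict _ fun a => (isIntegral_algebraMap : IsIntegral _ (algebraMap _ X.functionField a))
  have hψ : ψ.IsIntegral := fun c => by
    obtain ⟨p, hp, hp0⟩ := c.2
    refine ⟨p, hp, Subtype.ext ?_⟩
    exact (Polynomial.hom_eval₂ p ψ (CohIII.integralClosureStalk f y h).subtype c).trans hp0
  refine Ideal.isMaximal_of_isIntegral_of_isMaximal_comap' ψ hψ _ ?_
  have : (centre f h hz).comap ψ = IsLocalRing.maximalIdeal (Y.presheaf.stalk y) := by
    ext a
    obtain ⟨s, hs, hu⟩ := stalk_mem_val f h hz a
    rw [IsLocalRing.mem_maximalIdeal, mem_nonunits_iff, ← hu, ← isUnit_val_iff f z s]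
    show _ ∈ IsLocalRing.maximalIdeal (val f z) ↔ _
    rw [IsLocalRing.mem_maximalIdeal, mem_nonunits_iff]
    exact Iff.of_eq (congrArg (fun t => ¬ IsUnit t) (Subtype.ext hs.symm))
  rw [this]
  exact IsLocalRing.maximalIdeal.isMaximal _

theorem centre_ne [IsFinite f.fromNormalization] {z' : f.normalization} (hz' : f.fromNormalization z' = y)
    (hne : z ≠ z') : centre f h hz ≠ centre f h hz' := by
  intro heq
  obtain ⟨V, hV, hyV, -⟩ := exists_isAffineOpen_mem_and_subset (X := Y) (x := y) (U := ⊤) trivial
  let W : f.normalization.Opens := f.fromNormalization ⁻¹ᵁ V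
  have hW : IsAffineOpen W := hV.preimage f.fromNormalization
  have hzW : z ∈ W := by show f.fromNormalization z ∈ V; rw [hz]; exact hyV
  have hzW' : z' ∈ W := by show f.fromNormalization z' ∈ V; rw [hz']; exact hyV
  have hspec : hW.primeIdealOf ⟨z, hzW⟩ ≠ hW.primeIdealOf ⟨z', hzW'⟩ := fun e => by
    have := congrArg hW.fromSpec e
    rw [hW.fromSpec_primeIdealOf, hW.fromSpec_primeIdealOf] at this
    exact hne this
  obtain ⟨s, hs⟩ : ∃ s : Γ(f.normalization, W), ¬ (z ∈ f.normalization.basicOpen s ↔ z' ∈ f.normalization.basicOpen s) := by
    by_contra hall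
    push_neg at hall
    refine hspec (PrimeSpectrum.ext (Ideal.ext fun s => not_iff_not.mp ?_))
    rw [← PrimeSpectrum.mem_basicOpen, ← PrimeSpectrum.mem_basicOpen, ← hW.fromSpec_preimage_basicOpen]
    show hW.fromSpec _ ∈ f.normalization.basicOpen s ↔ hW.fromSpec _ ∈ f.normalization.basicOpen s
    rw [hW.fromSpec_primeIdealOf, hW.fromSpec_primeIdealOf]
    exact hall s
  letI := (f.app V).hom.toAlgebra
  have hint : ((f.fromNormalization.app V).hom).IsIntegral :=
    RingHom.IsIntegral.of_finite (f.fromNormalization.finite_app V hV)
  let t : X.functionField :=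
    (X.presheaf.germ (f.toNormalization ⁻¹ᵁ W) (genericPoint X) ((specializes_toNormalization f z).mem_open W.2 hzW)).hom
      ((f.toNormalization.app W).hom s)
  have ht : t ∈ CohIII.integralClosureStalk f y h := by
    obtain ⟨p, hp, hp0⟩ := hint s
    refine ⟨p.map (Y.presheaf.germ V y hyV).hom, hp.map _, ?_⟩
    show Polynomial.eval₂ (CohIII.stalkToFunctionField f y h) t _ = 0
    rw [Polynomial.eval₂_map]
    let ev : Γ(f.normalization, W) →+* X.functionField :=
      (X.presheaf.germ (f.toNormalization ⁻¹ᵁ W) (genericPoint X) ((specializes_toNormalization f z).mem_open W.2 hzW)).hom.comp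
        (f.toNormalization.app W).hom
    have hev : (CohIII.stalkToFunctionField f y h).comp (Y.presheaf.germ V y hyV).hom =
        ev.comp (f.fromNormalization.app V).hom := RingHom.ext fun a => by
      refine (stalkToFunctionField_germ f h hyV a).trans ?_
      have e := Scheme.Hom.congr_app f.toNormalization_fromNormalization V
      rw [Scheme.Hom.comp_app] at e
      have e' := congr($(e) a)
      simp only [ConcreteCategory.comp_apply] at e'
      refine Eq.symm ?_
      refine (congrArg _ e').trans ?_
      exact X.presheaf.germ_res_apply _ _ _ _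
    rw [hev, show t = ev s from rfl, ← Polynomial.hom_eval₂, hp0, map_zero]
  have key : ∀ (w : f.normalization) (hw : f.fromNormalization w = y) (hwW : w ∈ W),
      (⟨t, ht⟩ : CohIII.integralClosureStalk f y h) ∉ centre f h hw ↔ w ∈ f.normalization.basicOpen s := by
    intro w hw hwW
    rw [f.normalization.mem_basicOpen s w hwW, ← isUnit_val_iff f w]
    show _ ∉ IsLocalRing.maximalIdeal (val f w) ↔ _
    rw [IsLocalRing.mem_maximalIdeal, mem_nonunits_iff, not_not]
    refine Iff.of_eq (congrArg IsUnit (Subtype.ext ?_))
    exact (stalkToFunctionField_germ f.toNormalization (specializes_toNormalization f w) hwW s).symm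
  refine hs ((key z hz hzW).symm.trans ?_)
  rw [heq]
  exact key z' hz' hzW'

end Groth.Agent.Lib.SteinCount
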