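import Groth.Agent.Lib.PnDualExtPn
import Mathlib.Algebra.Homology.DerivedCategory.Ext.Map

/-!
The duality pairing between `Ext` of modules and cohomology, natural in the first variable.
-/

set_option linter.style.haveILetI false
set_option linter.unusedSectionVars false
set_option backward.isDefEq.respectTransparency false
set_option backward.isDefEq.respectTransparency.types false
set_option maxHeartbeats 1000000

universe u

open CategoryTheory CategoryTheory.Limits AlgebraicGeometry TopologicalSpace Opposite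
open CategoryTheory.Abelian
open Groth.Agent.PnCoh Groth.Agent.PnCoh.Finite

noncomputable section

namespace Groth.Agent.DualPair

variable {X : Scheme.{u}}

instance preservesFiniteLimits_toAb : PreservesFiniteLimits (QCoh.toAbFunctor X) :=
  inferInstanceAs (PreservesFiniteLimits (SheafOfModules.toSheaf X.ringCatSheaf))

instance preservesFiniteColimits_toAb : PreservesFiniteColimits (QCoh.toAbFunctor X) :=
  inferInstanceAs (PreservesFiniteColimits (SheafOfModules.toSheaf X.ringCatSheaf))

variable [HasExt.{u} X.Modules]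

/-- Cohomology classes times `Ext` classes. -/
def cup {G W : X.Modules} {p q r : ℕ} (h : p + q = r) (e : Ext.{u} G W q) :
    Coh.HH X G p →+ Coh.HH X W r :=
  (e.mapExactFunctor (QCoh.toAbFunctor X)).postcomp _ h

theorem cup_apply {G W : X.Modules} {p q r : ℕ} (h : p + q = r) (e : Ext.{u} G W q) (x : Coh.HH X G p) :
    cup h e x = Ext.comp x (e.mapExactFunctor (QCoh.toAbFunctor X)) h := rfl

theorem cup_mk₀ {G W : X.Modules} {p : ℕ} (φ : G ⟶ W) (x : Coh.HH X G p) :
    cup (add_zero p) (Ext.mk₀ φ) x = Sheaf.H.map ((QCoh.toAbFunctor X).map φ) p x := by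
  rw [cup_apply, Ext.mapExactFunctor_mk₀]
  rfl

theorem cup_precomp {G G' W : X.Modules} {p q r : ℕ} (h : p + q = r) (g : G' ⟶ G) (e : Ext.{u} G W q)
    (x : Coh.HH X G' p) :
    cup h ((Ext.mk₀ g).comp e (zero_add q)) x = cup h e (Sheaf.H.map ((QCoh.toAbFunctor X).map g) p x) := by
  rw [cup_apply, cup_apply, Ext.mapExactFunctor_comp, Ext.mapExactFunctor_mk₀]
  exact (Ext.comp_assoc_of_second_deg_zero _ _ _ _).symm

theorem cup_postcomp {G W W' : X.Modules} {p q r : ℕ} (h : p + q = r) (g : W ⟶ W') (e : Ext.{u} G W q)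
    (x : Coh.HH X G p) :
    cup h (e.comp (Ext.mk₀ g) (add_zero q)) x = Sheaf.H.map ((QCoh.toAbFunctor X).map g) r (cup h e x) := by
  rw [cup_apply, cup_apply, Ext.mapExactFunctor_comp, Ext.mapExactFunctor_mk₀]
  exact (Ext.comp_assoc_of_third_deg_zero _ _ _ _).symm

variable {k : Type u} [Field k] [X.Over (Spec (CommRingCat.of k))]

/-- Multiplication by a scalar, through the module. -/
theorem smul_HH (G : X.Modules) (p : ℕ) (a : k) (x : Coh.HH X G p) :
    a • x = Sheaf.H.map ((QCoh.toAbFunctor X).map (a • 𝟙 G)) p x := by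
  rw [KLin.smul_id]
  rfl

theorem cup_smul {G W : X.Modules} {p q r : ℕ} (h : p + q = r) (e : Ext.{u} G W q) (a : k)
    (x : Coh.HH X G p) : cup h e (a • x) = a • cup h e x := by
  rw [smul_HH, smul_HH, ← cup_precomp, ← cup_postcomp]
  congr 2
  rw [Ext.mk₀_smul, Ext.smul_comp, Ext.mk₀_id_comp, Ext.smul_eq_comp_mk₀]

variable {W : X.Modules} {n : ℕ} (t : Coh.HH X W n →ₗ[k] k)

/-- The pairing. -/
def pairing {G : X.Modules} (q p : ℕ) (h : p + q = n) (e : Ext.{u} G W q) : Module.Dual k (Coh.HH X G p) where
  toFun x := t (cup h e x)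
  map_add' x y := by rw [map_add, map_add]
  map_smul' a x := by rw [cup_smul, map_smul]; rfl

theorem pairing_apply {G : X.Modules} (q p : ℕ) (h : p + q = n) (e : Ext.{u} G W q) (x : Coh.HH X G p) :
    pairing t q p h e x = t (cup h e x) := rfl

theorem pairing_mk₀ {G : X.Modules} (φ : G ⟶ W) :
    pairing t 0 n (add_zero n) (Ext.mk₀ φ) = Canon.dualityMap k X n W t G φ :=
  LinearMap.ext fun x => congrArg t (cup_mk₀ φ x)

theorem pairing_precomp {G G' : X.Modules} (q p : ℕ) (h : p + q = n) (g : G' ⟶ G) (e : Ext.{u} G W q) :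
    pairing t q p h ((Ext.mk₀ g).comp e (zero_add q)) = (Canon.HHlin k g p).dualMap (pairing t q p h e) :=
  LinearMap.ext fun x => congrArg t (cup_precomp h g e x)

theorem pairing_add {G : X.Modules} (q p : ℕ) (h : p + q = n) (e e' : Ext.{u} G W q) :
    pairing t q p h (e + e') = pairing t q p h e + pairing t q p h e' := by
  refine LinearMap.ext fun x => ?_
  rw [LinearMap.add_apply, pairing_apply, pairing_apply, pairing_apply, ← map_add]
  congr 1
  rw [cup_apply, cup_apply, cup_apply, Ext.mapExactFunctor_add, Ext.comp_add]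

theorem pairing_smul {G : X.Modules} (q p : ℕ) (h : p + q = n) (a : k) (e : Ext.{u} G W q) :
    pairing t q p h (a • e) = a • pairing t q p h e := by
  refine LinearMap.ext fun x => ?_
  rw [LinearMap.smul_apply, pairing_apply, pairing_apply, Ext.smul_eq_comp_mk₀, cup_postcomp, ← smul_HH,
    map_smul]

theorem pairing_zero {G : X.Modules} (q p : ℕ) (h : p + q = n) : pairing t q p h (0 : Ext.{u} G W q) = 0 :=
  LinearMap.ext fun x => by
    rw [pairing_apply, cup_apply, Ext.mapExactFunctor_zero, Ext.comp_zero, map_zero]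
    rfl

theorem pairing_delta {S : ShortComplex X.Modules} (hS : S.ShortExact) (q p : ℕ) (h : (p + 1) + q = n)
    (h' : p + (q + 1) = n) (y : Ext.{u} S.X₁ W q) :
    pairing t (q + 1) p h' (hS.extClass.comp y (add_comm 1 q)) =
      (deltaLin k hS p).dualMap (pairing t q (p + 1) h y) := by
  refine LinearMap.ext fun x => congrArg t ?_
  rw [cup_apply, cup_apply, Ext.mapExactFunctor_comp, Ext.mapExactFunctor_extClass]
  exact (Ext.comp_assoc _ _ _ rfl (add_comm 1 q) (by omega)).symm

/-- Duality in all degrees up to the top, by the pairing. -/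
theorem bijective_pairing (P : X.Modules → Prop)
    (htop : ∀ F, P F → Function.Bijective (Canon.dualityMap k X n W t F))
    (hpres : ∀ F, P F → ∃ S : ShortComplex X.Modules, S.X₃ = F ∧ P S.X₁ ∧ PnDual.IsDualPres W n t S) :
    ∀ (q p : ℕ) (h : p + q = n) (F : X.Modules), P F → Function.Bijective (pairing t (G := F) q p h) := by
  intro q
  induction q with
  | zero =>
    intro p h F hF
    obtain rfl : p = n := by omega
    refine (Function.Bijective.of_comp_iff _ (Ext.mk₀_bijective F W)).1 ?_
    rw [show pairing t (G := F) 0 p h ∘ Ext.mk₀ = Canon.dualityMap k X p W t F from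
      funext fun φ => pairing_mk₀ t φ]
    exact htop F hF
  | succ q ih =>
    intro p h F hF
    obtain ⟨S, rfl, hK, hS, hext, hcoh, hDE⟩ := hpres F hF
    have hsur : Function.Surjective fun y : Ext.{u} S.X₁ W q => hS.extClass.comp y (add_comm 1 q) :=
      fun x => Ext.contravariant_sequence_exact₃ hS W x ((hext (q + 1) q.succ_pos).elim _ _) (add_comm 1 q)
    have hD : Function.Surjective (pairing t (G := S.X₂) q (p + 1) (by omega)) := by
      intro ψ
      rcases q with _ | q
      · obtain rfl : p + 1 = n := by omega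
        obtain ⟨φ, hφ⟩ := hDE.2 ψ
        exact ⟨Ext.mk₀ φ, (pairing_mk₀ t φ).trans hφ⟩
      · haveI := hcoh (p + 1) (by omega)
        exact ⟨0, LinearMap.ext fun x => by rw [Subsingleton.elim x 0, map_zero, map_zero]⟩
    constructor
    · intro e e' hee
      rw [← sub_eq_zero]
      obtain ⟨y, hy⟩ := hsur (e - e')
      rw [← hy]
      have h0 : pairing t (q + 1) p h (hS.extClass.comp y (add_comm 1 q)) = 0 := by
        rw [show hS.extClass.comp y (add_comm 1 q) = e - e' from hy]
        refine add_right_cancel (b := pairing t (q + 1) p h e') ?_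
        rw [← pairing_add, sub_add_cancel, zero_add, hee]
      rw [pairing_delta t hS q p (by omega) h] at h0
      have hsub : LinearMap.ker (Canon.HHlin k S.f (p + 1)) ≤
          LinearMap.ker (pairing t q (p + 1) (by omega) y) := fun x hx => by
        obtain ⟨z, rfl⟩ := (PnDual.HHlin_f_eq_zero_iff hS p x).1 (LinearMap.mem_ker.1 hx)
        exact LinearMap.congr_fun h0 z
      obtain ⟨g, hg⟩ : pairing t q (p + 1) (by omega) y ∈
          LinearMap.range (Canon.HHlin k S.f (p + 1)).dualMap := by
        rw [LinearMap.range_dualMap_eq_dualAnnihilator_ker, Submodule.mem_dualAnnihilator]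
        exact fun x hx => hsub hx
      obtain ⟨z, rfl⟩ := hD g
      rw [← pairing_precomp] at hg
      rw [← (ih (p + 1) (by omega) S.X₁ hK).1 hg]
      show hS.extClass.comp ((Ext.mk₀ S.f).comp z (zero_add q)) (add_comm 1 q) = 0
      rw [← Ext.comp_assoc_of_second_deg_zero, hS.extClass_comp, Ext.zero_comp]
    · intro ψ
      have hδ : Function.Injective (deltaLin k hS p) := (injective_iff_map_eq_zero _).2 fun x hx => by
        obtain ⟨z, rfl⟩ := exists_of_deltaLin_eq_zero k hS p hx
        rw [(hcoh p (by omega)).elim z 0, map_zero]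
      obtain ⟨g, rfl⟩ := LinearMap.dualMap_surjective_of_injective hδ ψ
      obtain ⟨y, rfl⟩ := (ih (p + 1) (by omega) S.X₁ hK).2 g
      exact ⟨_, pairing_delta t hS q p (by omega) h y⟩

section Pn

open Groth.Agent.PnDual

variable {k : Type u} [Field k] {N : ℕ}

/-- Serre duality on projective space, by the pairing with a trace. -/
theorem exists_pairing_pn [HasExt.{u} (CohB1.ProjSpace N k).Modules] :
    ∃ t : Coh.HH (CohB1.ProjSpace N k) (Twist.twistProjSpace N k (-((N : ℤ) + 1))) N ≃ₗ[k] k,
      ∀ (q p : ℕ) (h : p + q = N) (F : (CohB1.ProjSpace N k).Modules), Coh.IsCoh F →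
        Function.Bijective (pairing t.toLinearMap (G := F) q p h) := by
  obtain ⟨t⟩ := exists_trace' (m := N) (R := k) (b := -((N : ℤ) + 1)) rfl
  exact ⟨t, fun q p h F hF => bijective_pairing t.toLinearMap GoodPn (fun G hG => bijective_top_pn t hG)
    (fun G hG => exists_dualPres t hG) q p h F (goodPn_of_isCoh hF)⟩

end Pn

end Groth.Agent.DualPair
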