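import Groth.Agent.KFlatLib.Scheme.TensorAssoc
import Groth.Agent.KFlatLib.Scheme.ProjAffineFlat
import Groth.Agent.KFlatLib.Scheme.Flatness
import Groth.Agent.KFlatLib.Scheme.Adjoint
import Groth.Agent.KExact.A1Shriek
import Groth.Agent.H23.PicMul
import Groth.Agent.SeesawX.Crit

/-!
Natural isomorphisms between composites of derived pullbacks, tensor products with flat modules and
derived direct images, from the corresponding isomorphisms of functors of modules.
-/

set_option autoImplicit false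
set_option linter.style.haveILetI false
set_option maxHeartbeats 800000

universe u

open CategoryTheory CategoryTheory.Limits AlgebraicGeometry

attribute [local instance] HasDerivedCategory.standard

namespace Groth.Agent.Lib.DerivedNat

open KFlatLib

variable {X Y Z : Scheme.{u}}

/-- A functor on the derived category computed by an additive functor of modules on K-flat complexes. -/
structure Computes (F : X.Modules ⥤ Y.Modules) [F.Additive] (L : DCoh.D X ⥤ DCoh.D Y) where
  /-- The comparison. -/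
  c : DerivedCategory.Q ⋙ L ⟶ F.mapHomologicalComplex (ComplexShape.up ℤ) ⋙ DerivedCategory.Q
  iso : ∀ K, DCoh.IsKFlat K → IsIso (c.app K)

/-- A functor of modules preserving K-flat complexes. -/
def PresKFlat (F : X.Modules ⥤ Y.Modules) [F.Additive] : Prop :=
  ∀ K, DCoh.IsKFlat K → DCoh.IsKFlat ((F.mapHomologicalComplex (ComplexShape.up ℤ)).obj K)

namespace Computes

/-- On resolutions the functor is computed termwise. -/
noncomputable def resIso {F : X.Modules ⥤ Y.Modules} [F.Additive] {L : DCoh.D X ⥤ DCoh.D Y} (h : Computes F L) :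
    DerivedCategory.Q ⋙ L ≅ kRes X ⋙ F.mapHomologicalComplex (ComplexShape.up ℤ) ⋙ DerivedCategory.Q :=
  haveI : ∀ K, IsIso ((Functor.whiskerLeft (kRes X) h.c).app K) := fun K => h.iso _ (isKFlat_kRes K)
  haveI := NatIso.isIso_of_isIso_app (Functor.whiskerLeft (kRes X) h.c)
  Functor.isoWhiskerRight (resQIso X).symm L ≪≫ Functor.associator _ _ _ ≪≫
    asIso (Functor.whiskerLeft (kRes X) h.c)

/-- Two functors computed by isomorphic functors of modules are isomorphic. -/
noncomputable def uniq {F G : X.Modules ⥤ Y.Modules} [F.Additive] [G.Additive] {L L' : DCoh.D X ⥤ DCoh.D Y}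
    (h : Computes F L) (h' : Computes G L') (e : F ≅ G) : L ≅ L' :=
  letI : Localization.Lifting DerivedCategory.Q (qisX X) (DerivedCategory.Q ⋙ L) L := ⟨Iso.refl _⟩
  letI : Localization.Lifting DerivedCategory.Q (qisX X) (DerivedCategory.Q ⋙ L') L' := ⟨Iso.refl _⟩
  Localization.liftNatIso DerivedCategory.Q (qisX X) (DerivedCategory.Q ⋙ L) (DerivedCategory.Q ⋙ L') L L'
    (h.resIso ≪≫ Functor.isoWhiskerLeft (kRes X)
      (Functor.isoWhiskerRight (NatIso.mapHomologicalComplex e (ComplexShape.up ℤ)) DerivedCategory.Q) ≪≫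
      h'.resIso.symm)

/-- The identity. -/
noncomputable def id : Computes (𝟭 X.Modules) (𝟭 (DCoh.D X)) where
  c := (Functor.rightUnitor _).hom ≫ (Functor.leftUnitor _).inv ≫
    Functor.whiskerRight (Functor.mapHomologicalComplexIdIso X.Modules (ComplexShape.up ℤ)).inv _
  iso K _ := by simp only [NatTrans.comp_app]; infer_instance

/-- Composites. -/
noncomputable def comp {F : X.Modules ⥤ Y.Modules} [F.Additive] {G : Y.Modules ⥤ Z.Modules} [G.Additive]
    {L : DCoh.D X ⥤ DCoh.D Y} {L' : DCoh.D Y ⥤ DCoh.D Z} (h : Computes F L) (h' : Computes G L')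
    (hF : PresKFlat F) : Computes (F ⋙ G) (L ⋙ L') where
  c := (Functor.associator _ _ _).inv ≫ Functor.whiskerRight h.c L' ≫ (Functor.associator _ _ _).hom ≫
    Functor.whiskerLeft (F.mapHomologicalComplex (ComplexShape.up ℤ)) h'.c
  iso K hK := by
    haveI := h.iso K hK
    haveI := h'.iso _ (hF K hK)
    simp only [NatTrans.comp_app, Functor.associator_inv_app,
      Functor.whiskerRight_app, Functor.whiskerLeft_app]
    exact inferInstanceAs (IsIso (𝟙 _ ≫ L'.map (h.c.app K) ≫ 𝟙 _ ≫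
      h'.c.app ((F.mapHomologicalComplex (ComplexShape.up ℤ)).obj K)))

end Computes

/-- Pullback. -/
noncomputable def computesPull (f : X ⟶ Y) [DCoh.HasLpull f] : Computes (Scheme.Modules.pullback f) (DCoh.Lpull f) where
  c := lpullComparison f
  iso _ hK := isIso_lpullComparison f hK

theorem presKFlat_pull (f : X ⟶ Y) : PresKFlat (Scheme.Modules.pullback f) := fun _ hK => isKFlat_pullback f hK

/-- Tensor product with a module. -/
noncomputable def computesTensor (M : X.Modules) [DCoh.HasLTensorMod M] :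
    Computes (DCoh.tensorRightMod M) (DCoh.LTensorMod M) where
  c := Functor.whiskerRight (DerivedCategory.quotientCompQhIso X.Modules).inv _ ≫
    (Functor.associator _ _ _).hom ≫
    Functor.whiskerLeft _ ((DCoh.tensorModKh M).totalLeftDerivedCounit DerivedCategory.Qh
      (HomotopyCategory.quasiIso X.Modules (ComplexShape.up ℤ))) ≫
    (quotientMapIso (DCoh.tensorRightMod M)).hom
  iso K hK := by
    haveI : IsIso ((Functor.whiskerLeft (HomotopyCategory.quotient X.Modules (ComplexShape.up ℤ))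
      ((DCoh.tensorModKh M).totalLeftDerivedCounit DerivedCategory.Qh
        (HomotopyCategory.quasiIso X.Modules (ComplexShape.up ℤ)))).app K) := isIso_LTensorMod_counit M hK
    simp only [NatTrans.comp_app]
    infer_instance

/-- The two names of `- ⊗ M`. -/
noncomputable def flipIso (M : X.Modules) : DCoh.tensorBi.flip.obj M ≅ DCoh.tensorRightMod M :=
  NatIso.ofComponents (fun _ => Iso.refl _) (fun φ => by
    simp only [Iso.refl_hom]
    erw [Category.comp_id])

theorem isKFlat_of_iso {K K' : CochainComplex X.Modules ℤ} (e : K ≅ K') (hK : DCoh.IsKFlat K) : DCoh.IsKFlat K' :=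
  KFlat.of_iso (T := DCoh.tensorBi) e hK

theorem presKFlat_tensor {M : X.Modules} (hM : FlatMod.IsFlat M) : PresKFlat (DCoh.tensorRightMod M) := by
  intro K hK
  have hS : DCoh.IsKFlat ((HomologicalComplex.single X.Modules (ComplexShape.up ℤ) 0).obj M) :=
    isKFlat_single_of_isFlat hM
  have h1 : DCoh.IsKFlat ((DCoh.tensorCx.flip.obj
      ((HomologicalComplex.single X.Modules (ComplexShape.up ℤ) 0).obj M)).obj K) := by
    rw [Functor.flip_obj_obj]
    exact isKFlat_tensorCx hK hS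
  have h2 : DCoh.IsKFlat (((DCoh.tensorBi.flip.obj M).mapHomologicalComplex (ComplexShape.up ℤ)).obj K) :=
    isKFlat_of_iso ((singleIso (DCoh.tensorBi (X := X)) M).app K) h1
  exact isKFlat_of_iso ((NatIso.mapHomologicalComplex (flipIso M) (ComplexShape.up ℤ)).app K) h2

/-- `f^*(- ⊗ M) ≅ f^*(-) ⊗ f^* M`. -/
noncomputable def pullTensorIso (f : X ⟶ Y) (M : Y.Modules) :
    DCoh.tensorRightMod M ⋙ Scheme.Modules.pullback f ≅
      Scheme.Modules.pullback f ⋙ DCoh.tensorRightMod ((Scheme.Modules.pullback f).obj M) :=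
  NatIso.ofComponents (fun N => ((pullTensorBiIso f).app N).app M)
    fun φ => NatTrans.congr_app ((pullTensorBiIso f).hom.naturality φ) M

/-- `(- ⊗ M) ⊗ N ≅ - ⊗ (M ⊗ N)`. -/
noncomputable def tensorTensorIso (M N : X.Modules) :
    DCoh.tensorRightMod M ⋙ DCoh.tensorRightMod N ≅ DCoh.tensorRightMod ((DCoh.tensorBi.obj M).obj N) :=
  NatIso.ofComponents (fun E => (((tensorAssocSch X).app E).app M).app N)
    fun φ => NatTrans.congr_app (NatTrans.congr_app ((tensorAssocSch X).hom.naturality φ) M) N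

theorem presKFlat_id : PresKFlat (𝟭 X.Modules) := fun _ hK => hK

theorem isFlat_of_invertible {M : X.Modules} (hM : PicF.IsInvertible M) : FlatMod.IsFlat M :=
  isFlat_of_isFinLocFree fun x => (SeesawX.isFinLocFreeOfRank_one hM x).elim fun U h => ⟨U, 1, h⟩

/-- Derived pullback and tensor product with a flat module. -/
theorem nonempty_lpull_tensor (f : X ⟶ Y) [DCoh.HasLpull f] {M : Y.Modules} (hM : FlatMod.IsFlat M)
    [DCoh.HasLTensorMod M] {M' : X.Modules} [DCoh.HasLTensorMod M'] (e : (Scheme.Modules.pullback f).obj M ≅ M') :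
    Nonempty (DCoh.LTensorMod M ⋙ DCoh.Lpull f ≅ DCoh.Lpull f ⋙ DCoh.LTensorMod M') :=
  ⟨((computesTensor M).comp (computesPull f) (presKFlat_tensor hM)).uniq
    ((computesPull f).comp (computesTensor M') (presKFlat_pull f))
    (pullTensorIso f M ≪≫ Functor.isoWhiskerLeft _ (DCoh.tensorBi.flip.mapIso e))⟩

/-- Composites of derived tensor products. -/
theorem nonempty_tensor_tensor {M N P : X.Modules} (hM : FlatMod.IsFlat M) [DCoh.HasLTensorMod M]
    [DCoh.HasLTensorMod N] [DCoh.HasLTensorMod P] (e : CohB1.tensorMod M N ≅ P) :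
    Nonempty (DCoh.LTensorMod M ⋙ DCoh.LTensorMod N ≅ DCoh.LTensorMod P) :=
  let e' : (DCoh.tensorBi.obj M).obj N ≅ P := e
  let i : DCoh.tensorRightMod ((DCoh.tensorBi.obj M).obj N) ≅ DCoh.tensorRightMod P :=
    (flipIso _).symm ≪≫ DCoh.tensorBi.flip.mapIso e' ≪≫ flipIso _
  let h : Computes (DCoh.tensorRightMod M ⋙ DCoh.tensorRightMod N) (DCoh.LTensorMod M ⋙ DCoh.LTensorMod N) :=
    (computesTensor M).comp (computesTensor N) (presKFlat_tensor hM)
  ⟨h.uniq (computesTensor P) (tensorTensorIso M N ≪≫ i)⟩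

theorem nonempty_tensor_congr {M N : X.Modules} [DCoh.HasLTensorMod M] [DCoh.HasLTensorMod N] (e : M ≅ N) :
    Nonempty (DCoh.LTensorMod M ≅ DCoh.LTensorMod N) :=
  ⟨(computesTensor M).uniq (computesTensor N) (DCoh.tensorBi.flip.mapIso e)⟩

theorem nonempty_tensor_unit {M : X.Modules} [DCoh.HasLTensorMod M] (e : M ≅ Coh.structureModule X) :
    Nonempty (DCoh.LTensorMod M ≅ 𝟭 _) :=
  ⟨(computesTensor M).uniq Computes.id (DCoh.tensorBi.flip.mapIso e ≪≫ tensorStructureIso X)⟩

theorem nonempty_lpull_congr {f g : X ⟶ Y} (h : f = g) [DCoh.HasLpull f] [DCoh.HasLpull g] :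
    Nonempty (DCoh.Lpull f ≅ DCoh.Lpull g) := by
  subst h; exact ⟨Iso.refl _⟩

theorem nonempty_rpush_congr {f g : X ⟶ Y} (h : f = g) [DCoh.HasRpush f] [DCoh.HasRpush g] :
    Nonempty (DCoh.Rpush f ≅ DCoh.Rpush g) := by
  subst h; exact ⟨Iso.refl _⟩

theorem nonempty_rpush_comp' (f : X ⟶ Y) (g : Y ⟶ Z) (k : X ⟶ Z) (h : f ≫ g = k)
    [DCoh.HasRpush f] [DCoh.HasRpush g] [DCoh.HasRpush k] :
    Nonempty (DCoh.Rpush f ⋙ DCoh.Rpush g ≅ DCoh.Rpush k) := by
  subst h; exact KFlatLib.nonempty_rpush_comp f g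

/-- Direct image along an isomorphism is inverse image along the inverse. -/
theorem nonempty_rpush_iso_lpull_inv (f : X ⟶ Y) (g : Y ⟶ X) (hfg : f ≫ g = 𝟙 X) (hgf : g ≫ f = 𝟙 Y)
    [DCoh.HasRpush f] [DCoh.HasLpull g] : Nonempty (DCoh.Rpush f ≅ DCoh.Lpull g) := by
  haveI := hasLpull f
  haveI := hasLpull (𝟙 X)
  haveI := hasLpull (𝟙 Y)
  obtain ⟨a⟩ := nonempty_lpull_rpush_adj f
  obtain ⟨i⟩ := KExact.A1Shriek.nonempty_lpull_comp' g f (𝟙 Y) hgf
  obtain ⟨i'⟩ := KExact.A1Shriek.nonempty_lpull_id (𝟙 Y) rfl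
  obtain ⟨j⟩ := KExact.A1Shriek.nonempty_lpull_comp' f g (𝟙 X) hfg
  obtain ⟨j'⟩ := KExact.A1Shriek.nonempty_lpull_id (𝟙 X) rfl
  exact ⟨a.rightAdjointUniq (CategoryTheory.Equivalence.mk (DCoh.Lpull f) (DCoh.Lpull g)
    (i ≪≫ i').symm (j ≪≫ j')).toAdjunction⟩

/-- Tensoring with an invertible module is left adjoint to tensoring with its inverse. -/
theorem nonempty_tensor_adj {M N : X.Modules} (hM : PicF.IsInvertible M) (hN : PicF.IsInvertible N)
    [DCoh.HasLTensorMod M] [DCoh.HasLTensorMod N] (e : CohB1.tensorMod M N ≅ Coh.structureModule X) :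
    Nonempty (DCoh.LTensorMod M ⊣ DCoh.LTensorMod N) := by
  obtain ⟨c⟩ := H23.PicMul.comm N M
  haveI := hasLTensorMod (Coh.structureModule X)
  obtain ⟨u⟩ := nonempty_tensor_unit (Iso.refl (Coh.structureModule X))
  obtain ⟨i⟩ := nonempty_tensor_tensor (N := N) (isFlat_of_invertible hM) e
  obtain ⟨j⟩ := nonempty_tensor_tensor (N := M) (isFlat_of_invertible hN) (c ≪≫ e)
  exact ⟨(CategoryTheory.Equivalence.mk (DCoh.LTensorMod M) (DCoh.LTensorMod N) (i ≪≫ u).symm (j ≪≫ u)).toAdjunction⟩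

/-- The projection formula for an invertible module, naturally. -/
theorem nonempty_projection (f : X ⟶ Y) [DCoh.HasRpush f] {N : Y.Modules} (hN : PicF.IsInvertible N)
    [DCoh.HasLTensorMod N] {N' : X.Modules} [DCoh.HasLTensorMod N'] (e : (Scheme.Modules.pullback f).obj N ≅ N') :
    Nonempty (DCoh.LTensorMod N' ⋙ DCoh.Rpush f ≅ DCoh.Rpush f ⋙ DCoh.LTensorMod N) := by
  haveI := hasLpull f
  obtain ⟨a⟩ := nonempty_lpull_rpush_adj f
  obtain ⟨D, hD, ⟨eD⟩⟩ := H23.PicInv.exists_inverse hN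
  haveI := hasLTensorMod D
  let D' := (Scheme.Modules.pullback f).obj D
  haveI := hasLTensorMod D'
  have hD' : PicF.IsInvertible D' := PicClLib.isInvertible_pullback f hD
  have hN' : PicF.IsInvertible N' :=
    H23.PicMul.isInvertible_of_iso e (PicClLib.isInvertible_pullback f hN)
  obtain ⟨c⟩ := H23.PicMul.comm D N
  obtain ⟨aD⟩ := nonempty_tensor_adj hD hN (c ≪≫ eD)
  obtain ⟨p⟩ := H23.PicMul.pull f D N
  obtain ⟨o⟩ := PicClLib.nonempty_pullback_structureModule f
  obtain ⟨aD'⟩ := nonempty_tensor_adj hD' hN'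
    (PicGrp.tensorModIso (Iso.refl D') e.symm ≪≫ p.symm ≪≫ (Scheme.Modules.pullback f).mapIso (c ≪≫ eD) ≪≫ o)
  obtain ⟨i⟩ := nonempty_lpull_tensor f (isFlat_of_invertible hD) (M' := D') (Iso.refl _)
  exact ⟨((a.comp aD').ofNatIsoLeft i.symm).rightAdjointUniq (aD.comp a)⟩

end Groth.Agent.Lib.DerivedNat
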