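import Groth.Agent.KFlatLib.Scheme.ProjFormula
import Groth.Agent.Lib.DerivedNat
import Groth.Agent.KFlatLib.InnerUnit
import Groth.Agent.KFlatLib.Scheme.RpushQCoh

/-!
The projection formula as an isomorphism of functors on objects with quasi-coherent cohomology sheaves.
-/

set_option autoImplicit false
set_option linter.style.haveILetI false
set_option maxHeartbeats 800000

universe u

open CategoryTheory CategoryTheory.Limits AlgebraicGeometry

attribute [local instance] HasDerivedCategory.standard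

namespace Groth.Agent.Lib.DerivedProj

open KFlatLib

variable {X Y : Scheme.{u}}

/-- Functors on complexes related by a map which is a quasi-isomorphism on K-flat complexes induce isomorphic
functors on the derived category. -/
noncomputable def kLiftIso {G G' : CochainComplex Y.Modules ℤ ⥤ CochainComplex X.Modules ℤ} (hG : KRespects G)
    (hG' : KRespects G') (τ : G ⟶ G') (h : ∀ P, DCoh.IsKFlat P → QuasiIso (τ.app P)) : kLift hG ≅ kLift hG' :=
  haveI : ∀ K, IsIso ((Functor.whiskerLeft (kRes Y) (Functor.whiskerRight τ DerivedCategory.Q)).app K) := fun K =>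
    isIso_Q_map _ (h _ (isKFlat_kRes K))
  haveI := NatIso.isIso_of_isIso_app (Functor.whiskerLeft (kRes Y) (Functor.whiskerRight τ DerivedCategory.Q))
  letI : Localization.Lifting DerivedCategory.Q (qisX Y) (DerivedCategory.Q ⋙ kLift hG) (kLift hG) := ⟨Iso.refl _⟩
  letI : Localization.Lifting DerivedCategory.Q (qisX Y) (DerivedCategory.Q ⋙ kLift hG') (kLift hG') := ⟨Iso.refl _⟩
  Localization.liftNatIso DerivedCategory.Q (qisX Y) (DerivedCategory.Q ⋙ kLift hG) (DerivedCategory.Q ⋙ kLift hG')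
    _ _ (kLiftFac hG ≪≫ asIso (Functor.whiskerLeft (kRes Y) (Functor.whiskerRight τ DerivedCategory.Q)) ≪≫
      (kLiftFac hG').symm)

/-- A derived tensor functor only depends on the complex up to isomorphism in the derived category. -/
theorem nonempty_projF_congr {R R' : CochainComplex Y.Modules ℤ}
    (e : DerivedCategory.Q.obj R ≅ DerivedCategory.Q.obj R') : Nonempty (projF R ≅ projF R') := by
  obtain ⟨Z, s, hs, g, hg⟩ := DerivedCategory.right_fac e.hom
  haveI : IsIso (DerivedCategory.Q.map s) := hs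
  haveI : IsIso (DerivedCategory.Q.map g) := by
    have h : DerivedCategory.Q.map g = DerivedCategory.Q.map s ≫ e.hom := by rw [hg, IsIso.hom_inv_id_assoc]
    rw [h]; infer_instance
  have key : ∀ {A B : CochainComplex Y.Modules ℤ} (t : A ⟶ B), IsIso (DerivedCategory.Q.map t) →
      Nonempty (projF A ≅ projF B) := fun {A B} t ht => by
    haveI : QuasiIso t := (DerivedCategory.isIso_Q_map_iff_quasiIso _ _).1 ht
    exact ⟨kLiftIso (kRespects_tensor A) (kRespects_tensor B) (DCoh.tensorCx.map t)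
      fun P hP => KFlat.quasiIso_map (T := DCoh.tensorBi) hP t⟩
  obtain ⟨a⟩ := key s inferInstance
  obtain ⟨b⟩ := key g inferInstance
  exact ⟨a.symm ≪≫ b⟩

variable (f : X ⟶ Y)

/-- The pullback followed by a tensor product only depends on the complex up to isomorphism. -/
theorem nonempty_projH_congr {I I' : CochainComplex X.Modules ℤ}
    (e : DerivedCategory.Q.obj I ≅ DerivedCategory.Q.obj I') : Nonempty (projH f I ≅ projH f I') := by
  obtain ⟨Z, s, hs, g, hg⟩ := DerivedCategory.right_fac e.hom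
  haveI : IsIso (DerivedCategory.Q.map s) := hs
  haveI : IsIso (DerivedCategory.Q.map g) := by
    have h : DerivedCategory.Q.map g = DerivedCategory.Q.map s ≫ e.hom := by rw [hg, IsIso.hom_inv_id_assoc]
    rw [h]; infer_instance
  have key : ∀ {A B : CochainComplex X.Modules ℤ} (t : A ⟶ B), IsIso (DerivedCategory.Q.map t) →
      Nonempty (projH f A ≅ projH f B) := fun {A B} t ht => by
    haveI : QuasiIso t := (DerivedCategory.isIso_Q_map_iff_quasiIso _ _).1 ht
    exact ⟨kLiftIso (kRespects_pullTensor f A) (kRespects_pullTensor f B)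
      (Functor.whiskerLeft (pullCx f) (DCoh.tensorCx.map t))
      fun P hP => KFlat.quasiIso_map (T := DCoh.tensorBi) (isKFlat_pullback f hP) t⟩
  obtain ⟨a⟩ := key s inferInstance
  obtain ⟨b⟩ := key g inferInstance
  exact ⟨a.symm ≪≫ b⟩

variable [QuasiCompact f] [QuasiSeparated f] [DCoh.HasRpush f]

/-- **The projection formula, naturally.** -/
theorem nonempty_proj (M : CochainComplex X.Modules ℤ) (hM : DCoh.IsQCohD (DerivedCategory.Q.obj M))
    (R : CochainComplex Y.Modules ℤ)
    (e : DerivedCategory.Q.obj R ≅ (DCoh.Rpush f).obj (DerivedCategory.Q.obj M)) :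
    Nonempty (ObjectProperty.ι (DCoh.IsQCohD (X := Y)) ⋙ projF R ≅
      ObjectProperty.ι (DCoh.IsQCohD (X := Y)) ⋙ projH f M ⋙ DCoh.Rpush f) := by
  obtain ⟨I, _, _, ⟨eE⟩⟩ := exists_kInjective_rep (DerivedCategory.Q.obj M)
  let R₀ := (kRes Y).obj ((pushCxF f).obj I)
  let a : R₀ ⟶ (pushCxF f).obj I := (flatCover Y).ψ.app _
  haveI : QuasiIso a := (flatCover Y).quasiIso_ψ _
  haveI := isIso_Q_map a inferInstance
  have hI : DCoh.IsQCohD (DerivedCategory.Q.obj I) := isQCohD_of_iso eE hM
  obtain ⟨eI⟩ := nonempty_rpush_iso_of_kInjective (f := f) (I := I) (Iso.refl _)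
  obtain ⟨c₁⟩ := nonempty_projF_congr (e ≪≫ (DCoh.Rpush f).mapIso eE ≪≫ eI ≪≫ (asIso (DerivedCategory.Q.map a)).symm)
  obtain ⟨c₂⟩ := nonempty_projH_congr f eE
  let θ := Functor.whiskerLeft (ObjectProperty.ι (DCoh.IsQCohD (X := Y))) (projθ f I a)
  haveI : ∀ E, IsIso (θ.app E) := fun E => by
    let r := DerivedCategory.Q.objObjPreimageIso E.obj
    exact (NatTrans.isIso_app_iff_of_iso (projθ f I a) r).1
      (isIso_projθ f I a (isKFlat_kRes _) hI _ (isQCohD_of_iso r.symm E.property))
  haveI := NatIso.isIso_of_isIso_app θ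
  exact ⟨Functor.isoWhiskerLeft _ c₁ ≪≫ asIso θ ≪≫
    Functor.isoWhiskerLeft _ (Functor.isoWhiskerRight c₂.symm (DCoh.Rpush f))⟩

omit [QuasiCompact f] [QuasiSeparated f] [DCoh.HasRpush f]

/-- Pullback tensored with a module in degree zero. -/
theorem nonempty_projH_single (N : X.Modules) [DCoh.HasLpull f] [DCoh.HasLTensorMod N] :
    Nonempty (projH f ((HomologicalComplex.single X.Modules (ComplexShape.up ℤ) 0).obj N) ≅
      DCoh.Lpull f ⋙ DCoh.LTensorMod N) := by
  let S := (HomologicalComplex.single X.Modules (ComplexShape.up ℤ) 0).obj N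
  let h := (DerivedNat.computesPull f).comp (DerivedNat.computesTensor N) (DerivedNat.presKFlat_pull f)
  let τ : pullCx f ⋙ DCoh.tensorCx.obj S ≅
      (Scheme.Modules.pullback f ⋙ DCoh.tensorRightMod N).mapHomologicalComplex (ComplexShape.up ℤ) :=
    Functor.isoWhiskerLeft _ ((symmIso (T := DCoh.tensorBi) (tensorBiFlipIso X) S).symm ≪≫
      singleIso (DCoh.tensorBi (X := X)) N ≪≫
      NatIso.mapHomologicalComplex (DerivedNat.flipIso N) (ComplexShape.up ℤ)) ≪≫
      Functor.mapHomologicalComplexCompIso (Iso.refl _) (ComplexShape.up ℤ)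
  let L := DCoh.Lpull f ⋙ DCoh.LTensorMod N
  letI : Localization.Lifting DerivedCategory.Q (qisX Y) (DerivedCategory.Q ⋙ projH f S) (projH f S) := ⟨Iso.refl _⟩
  letI : Localization.Lifting DerivedCategory.Q (qisX Y) (DerivedCategory.Q ⋙ L) L := ⟨Iso.refl _⟩
  exact ⟨Localization.liftNatIso DerivedCategory.Q (qisX Y) (DerivedCategory.Q ⋙ projH f S) (DerivedCategory.Q ⋙ L)
    _ _ (kLiftFac (kRespects_pullTensor f S) ≪≫
      Functor.isoWhiskerLeft (kRes Y) (Functor.isoWhiskerRight τ DerivedCategory.Q) ≪≫ h.resIso.symm)⟩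

/-- Pullback tensored with a shifted structure module. -/
theorem nonempty_projH_unit (j : ℤ) [DCoh.HasLpull f] :
    Nonempty (projH f ((HomologicalComplex.single X.Modules (ComplexShape.up ℤ) j).obj (Coh.structureModule X)) ≅
      DCoh.Lpull f ⋙ shiftFunctor (DCoh.D X) (-j)) := by
  let S := (HomologicalComplex.single X.Modules (ComplexShape.up ℤ) j).obj (Coh.structureModule X)
  let h := DerivedNat.computesPull f
  let τ : pullCx f ⋙ DCoh.tensorCx.obj S ≅ pullCx f ⋙ shiftFunctor (CochainComplex X.Modules ℤ) (-j) :=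
    Functor.isoWhiskerLeft _ ((symmIso (T := DCoh.tensorBi) (tensorBiFlipIso X) S).symm ≪≫
      Inner.tensorUnitShiftIso (DCoh.tensorBi (X := X)) (Coh.structureModule X) (tensorStructureIso X) j)
  let L := DCoh.Lpull f ⋙ shiftFunctor (DCoh.D X) (-j)
  letI : Localization.Lifting DerivedCategory.Q (qisX Y) (DerivedCategory.Q ⋙ projH f S) (projH f S) := ⟨Iso.refl _⟩
  letI : Localization.Lifting DerivedCategory.Q (qisX Y) (DerivedCategory.Q ⋙ L) L := ⟨Iso.refl _⟩
  exact ⟨Localization.liftNatIso DerivedCategory.Q (qisX Y) (DerivedCategory.Q ⋙ projH f S) (DerivedCategory.Q ⋙ L)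
    _ _ (kLiftFac (kRespects_pullTensor f S) ≪≫
      Functor.isoWhiskerLeft (kRes Y) (Functor.isoWhiskerRight τ DerivedCategory.Q ≪≫ Functor.associator _ _ _ ≪≫
        Functor.isoWhiskerLeft _ (DerivedCategory.Q.commShiftIso (-j))) ≪≫
      Functor.isoWhiskerRight h.resIso.symm (shiftFunctor (DCoh.D X) (-j)))⟩

/-- Direct image commutes with shifts, naturally. -/
theorem nonempty_rpush_shift [DCoh.HasRpush f] (n : ℤ) :
    Nonempty (shiftFunctor (DCoh.D X) n ⋙ DCoh.Rpush f ≅ DCoh.Rpush f ⋙ shiftFunctor (DCoh.D Y) n) := by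
  haveI := TriCat.qh_isLeftAdjoint_of_exists_resolution (A := X.Modules) exists_kInjective_res
  let adjQ := Adjunction.ofIsLeftAdjoint (DerivedCategory.Qh (C := X.Modules))
  let ρ := (DerivedCategory.Qh (C := X.Modules)).rightAdjoint
  let W := HomotopyCategory.quasiIso X.Modules (ComplexShape.up ℤ)
  haveI : (ρ ⋙ DCoh.pushKh f).IsRightDerivedFunctor
      (Functor.whiskerRight adjQ.unit (DCoh.pushKh f)) W :=
    TriCat.isRightDerivedFunctor_of_adjunction adjQ W (DCoh.pushKh f)
  let e : ρ ⋙ DCoh.pushKh f ≅ DCoh.Rpush f :=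
    Functor.rightDerivedUnique _ _ (Functor.whiskerRight adjQ.unit (DCoh.pushKh f))
      ((DCoh.pushKh f).totalRightDerivedUnit DerivedCategory.Qh W) W
  letI := adjQ.rightAdjointCommShift ℤ
  exact ⟨Functor.isoWhiskerLeft _ e.symm ≪≫ (ρ ⋙ DCoh.pushKh f).commShiftIso n ≪≫
    Functor.isoWhiskerRight e _⟩

end Groth.Agent.Lib.DerivedProj
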