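import Groth.Agent.Snapper.Multi
import Groth.Agent.Nakai.Coeff
import Mathlib.Algebra.Group.ForwardDiff

/-!
The coefficient of the product of all variables as a mixed difference.
-/

set_option autoImplicit false
set_option linter.style.haveILetI false
set_option linter.unusedSectionVars false
set_option backward.isDefEq.respectTransparency false
set_option backward.isDefEq.respectTransparency.types false

universe u

open CategoryTheory AlgebraicGeometry Groth.Agent.H23 Groth.Agent.H23.PicMul

noncomputable section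

namespace Groth.Agent.IntCoeff

attribute [local instance] PicMul.clMonoid

open MvPolynomial

/-- The exponent vector `(1, …, 1)`. -/
def ones (d : ℕ) : Fin d →₀ ℕ := Finsupp.equivFunOnFinite.symm fun _ => 1

@[simp] theorem ones_apply (d : ℕ) (i : Fin d) : ones d i = 1 := rfl

/-- The indicator of a set as exponents. -/
def ind {d : ℕ} (I : Finset (Fin d)) : Fin d → ℕ := fun i => if i ∈ I then 1 else 0

theorem eq_of_eval {r : ℕ} {P Q : MvPolynomial (Fin r) ℚ}
    (h : ∀ n : Fin r → ℕ, eval (fun i => (n i : ℚ)) P = eval (fun i => (n i : ℚ)) Q) : P = Q :=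
  MvPolynomial.funext_set (fun _ => Set.range ((↑) : ℕ → ℚ))
    (fun _ => Set.infinite_range_of_injective Nat.cast_injective) fun x hx => by
      choose n hn using fun i => hx i trivial
      obtain rfl : x = fun i => (n i : ℚ) := funext fun i => (hn i).symm
      exact h n

/-- The mixed difference at `0` of a monomial. -/
theorem diff_monomial {d : ℕ} (α : Fin d →₀ ℕ) :
    ∑ I : Finset (Fin d), (-1 : ℚ) ^ (Finset.univ \ I).card * eval (fun i => (ind I i : ℚ)) (monomial α 1) =
      ∏ i, ((1 : ℚ) - (if α i = 0 then 1 else 0)) := by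
  classical
  have h1 : ∀ I : Finset (Fin d), eval (fun i => (ind I i : ℚ)) (monomial α (1 : ℚ)) =
      ∏ i ∈ Finset.univ \ I, (if α i = 0 then (1 : ℚ) else 0) := by
    intro I
    rw [eval_monomial, one_mul, Finsupp.prod_fintype _ _ (fun i => pow_zero _),
      ← Finset.prod_sdiff (Finset.subset_univ I)]
    have : ∏ i ∈ I, ((ind I i : ℚ)) ^ α i = 1 := Finset.prod_eq_one fun i hi => by simp [ind, hi]
    rw [this, mul_one]
    refine Finset.prod_congr rfl fun i hi => ?_
    simp only [Finset.mem_sdiff, Finset.mem_univ, true_and] at hi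
    by_cases h : α i = 0 <;> simp [ind, hi, h]
  have h2 : ∏ i, ((1 : ℚ) - (if α i = 0 then 1 else 0)) =
      ∏ i, ((1 : ℚ) + -(if α i = 0 then 1 else 0)) := Finset.prod_congr rfl fun i _ => sub_eq_add_neg _ _
  rw [h2, Finset.prod_add, Finset.powerset_univ]
  refine Finset.sum_congr rfl fun I _ => ?_
  rw [h1, Finset.prod_const_one, one_mul, ← Finset.prod_const (-1 : ℚ), ← Finset.prod_mul_distrib]
  exact Finset.prod_congr rfl fun i _ => by ring

/-- The mixed difference at `0` reads off the coefficient of the product of all variables. -/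
theorem sum_diff {d : ℕ} (P : MvPolynomial (Fin d) ℚ) (hP : P.totalDegree ≤ d) :
    ∑ I : Finset (Fin d), (-1 : ℚ) ^ (Finset.univ \ I).card * eval (fun i => (ind I i : ℚ)) P =
      P.coeff (ones d) := by
  classical
  have h : ∀ I : Finset (Fin d), eval (fun i => (ind I i : ℚ)) P =
      ∑ α ∈ P.support, P.coeff α * eval (fun i => (ind I i : ℚ)) (monomial α 1) := fun I => by
    conv_lhs => rw [P.as_sum]
    rw [map_sum]
    refine Finset.sum_congr rfl fun α _ => ?_
    rw [eval_monomial, eval_monomial, one_mul]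
  simp_rw [h, Finset.mul_sum]
  rw [Finset.sum_comm]
  have h2 : ∀ α ∈ P.support, (∑ I : Finset (Fin d), (-1 : ℚ) ^ (Finset.univ \ I).card *
      (P.coeff α * eval (fun i => (ind I i : ℚ)) (monomial α 1))) = if α = ones d then P.coeff α else 0 := by
    intro α hα
    rw [show (∑ I : Finset (Fin d), (-1 : ℚ) ^ (Finset.univ \ I).card *
      (P.coeff α * eval (fun i => (ind I i : ℚ)) (monomial α 1))) = P.coeff α *
      ∑ I : Finset (Fin d), (-1 : ℚ) ^ (Finset.univ \ I).card * eval (fun i => (ind I i : ℚ)) (monomial α 1) by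
        rw [Finset.mul_sum]; exact Finset.sum_congr rfl fun I _ => by ring, diff_monomial]
    split_ifs with hα1
    · subst hα1; simp
    · rw [mul_eq_zero]
      refine Or.inr (Finset.prod_eq_zero_iff.2 ?_)
      by_contra hne
      push Not at hne
      have hpos : ∀ i, 1 ≤ α i := fun i => Nat.one_le_iff_ne_zero.2 fun h0 =>
        hne i (Finset.mem_univ _) (by simp [h0])
      have hle : ∑ i, α i ≤ d := le_trans (le_of_eq (Finsupp.sum_fintype α (fun _ e => e) (fun _ => rfl)).symm)
        ((le_totalDegree hα).trans hP)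
      refine hα1 (Finsupp.ext fun i => ?_)
      rw [ones_apply]
      by_contra hi
      have : ∑ _i : Fin d, 1 < ∑ i, α i :=
        Finset.sum_lt_sum (fun j _ => hpos j) ⟨i, Finset.mem_univ _, by have := hpos i; omega⟩
      simp at this
      omega
  rw [Finset.sum_congr rfl h2, Finset.sum_ite_eq']
  split_ifs with h
  · rfl
  · exact (MvPolynomial.notMem_support_iff.1 h).symm

theorem coeff_congr {d : ℕ} {P Q : MvPolynomial (Fin d) ℚ} (hP : P.totalDegree ≤ d) (hQ : Q.totalDegree ≤ d)
    (h : ∀ I : Finset (Fin d), eval (fun i => (ind I i : ℚ)) P = eval (fun i => (ind I i : ℚ)) Q) :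
    P.coeff (ones d) = Q.coeff (ones d) := by
  rw [← sum_diff P hP, ← sum_diff Q hQ]
  exact Finset.sum_congr rfl fun I _ => by rw [h]

variable {k : Type u} [Field k] {X : Scheme.{u}} [X.Over (Spec (CommRingCat.of k))]
  [IsProper (X ↘ Spec (CommRingCat.of k))]

/-- The class of an iterated twist. -/
theorem cl_tensorPows (F : X.Modules) : ∀ {d : ℕ} (L : Fin d → X.Modules) (n : Fin d → ℕ),
    PicF.cl (Curv2.tensorPows F d L n) = PicF.cl F * ∏ i, PicF.cl (L i) ^ n i
  | 0, L, n => by
    show PicF.cl F = _
    simp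
  | d + 1, L, n => by
    show PicF.cl (CohB1.tensorMod (Curv2.tensorPows F d (fun i => L i.castSucc) fun i => n i.castSucc)
      (CohB1.tensorPow (L (Fin.last d)) (n (Fin.last d)))) = _
    rw [cl_tensor, cl_tensorPow, cl_tensorPows F, Fin.prod_univ_castSucc, mul_assoc]

variable (k) in
/-- Snapper's polynomial, and its uniqueness. -/
theorem totalDegree_le {r : ℕ} {M : X.Modules} (hM : Coh.IsCoh M) {L : Fin r → X.Modules}
    (hL : ∀ i, PicF.IsInvertible (L i)) {d : ℕ} (hd : topologicalKrullDim ↥(CohB1.support M) ≤ d)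
    (P : MvPolynomial (Fin r) ℚ)
    (hP : ∀ n : Fin r → ℕ, (Curv2.euler k X (Curv2.tensorPows M r L n) : ℚ) = eval (fun i => (n i : ℚ)) P) :
    P.totalDegree ≤ d := by
  haveI := CurveCohLib.isNoetherian_of_proper (k := k) (X := X)
  obtain ⟨Q, hQ, hQn⟩ := Snapper.exists_mpoly k hL hM hd
  rw [eq_of_eval fun n => (hP n).symm.trans (hQn n)]
  exact hQ

theorem support_quotMod (D : X.IdealSheafData) : CohB1.support (ClSub.quotMod D) ⊆ (D.support : Set X) :=
  fun x hx => by
    by_contra h
    exact hx (ParShLib.subsingleton_stalk_quotMod D h)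

theorem dim_support_quotMod_le (D : X.IdealSheafData) :
    topologicalKrullDim ↥(CohB1.support (ClSub.quotMod D)) ≤ topologicalKrullDim (D.support : Set X) :=
  TopDim.dim_le_dim_of_subset (support_quotMod D)

variable (k) in
/-- Intersection numbers are integers. -/
theorem coeff_isInteger {d : ℕ} {M : X.Modules} (hM : Coh.IsCoh M)
    (hd : topologicalKrullDim ↥(CohB1.support M) ≤ d)
    {L : Fin d → X.Modules} (hL : ∀ i, PicF.IsInvertible (L i)) (P : MvPolynomial (Fin d) ℚ)
    (hP : ∀ n : Fin d → ℕ, (Curv2.euler k X (Curv2.tensorPows M d L n) : ℚ) = eval (fun i => (n i : ℚ)) P) :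
    ∃ z : ℤ, P.coeff (ones d) = (z : ℚ) := by
  refine ⟨∑ I : Finset (Fin d), (-1) ^ (Finset.univ \ I).card * Curv2.euler k X (Curv2.tensorPows M d L (ind I)), ?_⟩
  rw [← sum_diff P (totalDegree_le k hM hL hd P hP)]
  push_cast
  exact Finset.sum_congr rfl fun I _ => by rw [hP]

end Groth.Agent.IntCoeff
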