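import Groth.Agent.Lib.CohGrowth
import Groth.Agent.Lib.IntCoeff
import Groth.Agent.H26.IdealCl
import Groth.Agent.QCoh.LocFree
import Groth.Agent.H23.PicInv
import Groth.Prelude.Def_W4c5asymptcohfnACF
import Mathlib.Topology.Algebra.Order.LiminfLimsup
import Mathlib.Topology.Instances.ENNReal.Lemmas

/-!
Asymptotic cohomology: upper limits of `h^i(F ⊗ L^m) / m^n` ignore terms of lower order.
-/

set_option autoImplicit false
set_option linter.style.haveILetI false
set_option linter.unusedSectionVars false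
set_option backward.isDefEq.respectTransparency false
set_option backward.isDefEq.respectTransparency.types false
set_option maxHeartbeats 1000000

universe u

open CategoryTheory CategoryTheory.Limits AlgebraicGeometry TopologicalSpace Opposite Filter
open scoped ENNReal

noncomputable section

namespace Groth.Agent.AsympCoh

open Groth.Agent Groth.Agent.CohGrowth
open scoped Groth.Agent.H23.PicMul

section Real

/-- A normalised sequence. -/
def nseq (c : ℝ) (n : ℕ) (f : ℕ → ℕ) : ℕ → ℝ := fun m => (f m : ℝ) * c / (m : ℝ) ^ n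

/-- At most of order `m ^ n`. -/
def IsOrd (n : ℕ) (f : ℕ → ℕ) : Prop := ∃ C : ℕ, ∀ m, f m ≤ C * (m + 1) ^ n

variable {c : ℝ} {n : ℕ} {f g : ℕ → ℕ}

theorem nseq_nonneg (hc : 0 ≤ c) (m : ℕ) : 0 ≤ nseq c n f m :=
  div_nonneg (mul_nonneg (Nat.cast_nonneg _) hc) (pow_nonneg (Nat.cast_nonneg _) _)

theorem succ_pow_le {m : ℕ} (hm : 1 ≤ m) (n : ℕ) : ((m : ℝ) + 1) ^ n ≤ 2 ^ n * (m : ℝ) ^ n := by
  rw [← mul_pow]
  have : (1 : ℝ) ≤ m := by exact_mod_cast hm
  exact pow_le_pow_left₀ (by positivity) (by linarith) n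

theorem IsOrd.eventually_le (h : IsOrd n f) (hc : 0 ≤ c) : ∃ B : ℝ, ∀ᶠ m in atTop, nseq c n f m ≤ B := by
  obtain ⟨C, hC⟩ := h
  refine ⟨C * 2 ^ n * c, eventually_atTop.2 ⟨1, fun m hm => ?_⟩⟩
  have hm' : (0 : ℝ) < (m : ℝ) ^ n := pow_pos (by exact_mod_cast hm) _
  rw [nseq, div_le_iff₀ hm']
  have h1 : (f m : ℝ) ≤ C * (((m : ℝ) + 1) ^ n) := by exact_mod_cast hC m
  have h2 := succ_pow_le hm n
  calc (f m : ℝ) * c ≤ C * (2 ^ n * (m : ℝ) ^ n) * c :=
        mul_le_mul_of_nonneg_right (h1.trans (mul_le_mul_of_nonneg_left h2 (Nat.cast_nonneg _))) hc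
    _ = _ := by ring

theorem IsOrd.isBoundedUnder (h : IsOrd n f) (hc : 0 ≤ c) :
    IsBoundedUnder (· ≤ ·) atTop (nseq c n f) :=
  let ⟨B, hB⟩ := h.eventually_le hc; ⟨B, hB⟩

theorem isCobounded_of_nonneg {u : ℕ → ℝ} (h : ∀ m, 0 ≤ u m) : IsCoboundedUnder (· ≤ ·) atTop u :=
  isCoboundedUnder_le_of_le atTop h

/-- Eventually smaller up to `ε` gives smaller upper limits up to `ε`. -/
theorem limsup_le_add {u v : ℕ → ℝ} {ε : ℝ} (hu : ∀ m, 0 ≤ u m) (hv : ∀ m, 0 ≤ v m)
    (hvb : IsBoundedUnder (· ≤ ·) atTop v) (h : ∀ᶠ m in atTop, u m ≤ v m + ε) :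
    limsup u atTop ≤ limsup v atTop + ε := by
  refine le_of_forall_pos_le_add fun δ hδ => ?_
  refine limsup_le_of_le (isCobounded_of_nonneg hu) ?_
  filter_upwards [h, eventually_lt_of_limsup_lt (lt_add_of_pos_right _ hδ) hvb] with m h1 h2
  linarith

theorem limsup_le_of_forall {u v : ℕ → ℝ} (hu : ∀ m, 0 ≤ u m) (hv : ∀ m, 0 ≤ v m)
    (hvb : IsBoundedUnder (· ≤ ·) atTop v) (h : ∀ ε > 0, ∀ᶠ m in atTop, u m ≤ v m + ε) :
    limsup u atTop ≤ limsup v atTop :=
  le_of_forall_pos_le_add fun ε hε => limsup_le_add hu hv hvb (h ε hε)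

/-- Differences of order `m ^ (n - 1)` vanish after normalising. -/
theorem eventually_dist_le (hd : ∃ C, ∀ m, Nat.dist (f m) (g m) ≤ C * w n m) (hc : 0 ≤ c) {ε : ℝ} (hε : 0 < ε) :
    ∀ᶠ m in atTop, nseq c n f m ≤ nseq c n g m + ε := by
  obtain ⟨C, hC⟩ := hd
  have hle : ∀ m, (f m : ℝ) ≤ g m + (C * w n m : ℕ) := fun m => by
    have h1 := hC m
    rw [Nat.dist] at h1
    exact_mod_cast (show f m ≤ g m + C * w n m by omega)
  rcases n with _ | e
  · refine Eventually.of_forall fun m => ?_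
    have h1 := hle m
    simp only [w, if_true, mul_zero, Nat.cast_zero, add_zero] at h1
    simp only [nseq, pow_zero, div_one]
    nlinarith
  · obtain ⟨M, hM⟩ := exists_nat_gt ((C : ℝ) * 2 ^ e * c / ε)
    refine eventually_atTop.2 ⟨M + 1, fun m hm => ?_⟩
    have hm0 : (0 : ℝ) < m := by exact_mod_cast (show 0 < m by omega)
    have hp : (0 : ℝ) < (m : ℝ) ^ e := pow_pos hm0 _
    have h1 := hle m
    rw [w_succ] at h1
    push_cast at h1
    have h2 : (C : ℝ) * 2 ^ e * c ≤ ε * m := by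
      rw [div_lt_iff₀ hε] at hM
      have : (M : ℝ) ≤ m := by exact_mod_cast (show M ≤ m by omega)
      nlinarith
    simp only [nseq]
    rw [div_add' _ _ _ (pow_pos hm0 _).ne', div_le_div_iff_of_pos_right (pow_pos hm0 _)]
    calc (f m : ℝ) * c ≤ (g m + C * (2 ^ e * (m : ℝ) ^ e)) * c :=
          mul_le_mul_of_nonneg_right (h1.trans (add_le_add_right
            (mul_le_mul_of_nonneg_left (succ_pow_le (by omega) e) (Nat.cast_nonneg _)) _)) hc
      _ ≤ g m * c + ε * (m : ℝ) ^ (e + 1) := by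
          rw [pow_succ]
          nlinarith [mul_le_mul_of_nonneg_right h2 hp.le]

/-- Sequences differing by lower order have the same upper limit. -/
theorem limsup_eq_of_dist (hd : ∃ C, ∀ m, Nat.dist (f m) (g m) ≤ C * w n m) (hf : IsOrd n f) (hg : IsOrd n g)
    (hc : 0 ≤ c) : limsup (nseq c n f) atTop = limsup (nseq c n g) atTop :=
  le_antisymm
    (limsup_le_of_forall (nseq_nonneg hc) (nseq_nonneg hc) (hg.isBoundedUnder hc) fun _ hε =>
      eventually_dist_le hd hc hε)
    (limsup_le_of_forall (nseq_nonneg hc) (nseq_nonneg hc) (hf.isBoundedUnder hc) fun _ hε =>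
      eventually_dist_le (let ⟨C, hC⟩ := hd; ⟨C, fun m => Nat.dist_comm (f m) (g m) ▸ hC m⟩) hc hε)

/-- Along multiples. -/
theorem limsup_mul (hd : ∃ C, ∀ m, Nat.dist (f (m + 1)) (f m) ≤ C * w n m) (hf : IsOrd n f) {a : ℕ} (ha : 0 < a)
    (hc : 0 ≤ c) :
    limsup (nseq c n fun m => f (a * m)) atTop = (a : ℝ) ^ n * limsup (nseq c n f) atTop := by
  obtain ⟨C, hC⟩ := hd
  let f' : ℕ → ℕ := fun m => f (a * (m / a + 1))
  have hstep : ∀ m j, Nat.dist (f m) (f (m + j)) ≤ j * (C * w n (m + j)) := by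
    intro m j
    induction j with
    | zero => simp
    | succ j ih =>
      have h1 := hC (m + j)
      have h2 : C * w n (m + j) ≤ C * w n (m + (j + 1)) := Nat.mul_le_mul_left _ (w_mono (by omega))
      have h3 : j * (C * w n (m + j)) ≤ j * (C * w n (m + (j + 1))) := Nat.mul_le_mul_left _ h2
      rw [Nat.succ_mul]
      simp only [Nat.dist] at ih h1 ⊢
      rw [show m + (j + 1) = m + j + 1 from rfl] at *
      omega
  have hnear : ∀ m, Nat.dist (f m) (f' m) ≤ a * C * (a + 1) ^ n * w n m := fun m => by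
    have h1 : m < a * (m / a + 1) := Nat.lt_mul_div_succ m ha
    have h2 : a * (m / a + 1) ≤ m + a := by
      rw [mul_add, mul_one]
      exact Nat.add_le_add_right (Nat.mul_div_le m a) a
    have h3 := hstep m (a * (m / a + 1) - m)
    rw [Nat.add_sub_cancel' h1.le] at h3
    refine h3.trans ?_
    have h4 : w n (a * (m / a + 1)) ≤ (a + 1) ^ n * w n m := by
      refine (w_mono h2).trans ?_
      unfold w
      split_ifs
      · simp
      · have h5 : m + a + 1 ≤ (a + 1) * (m + 1) := by nlinarith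
        refine (Nat.pow_le_pow_left h5 _).trans ?_
        rw [mul_pow]
        exact Nat.mul_le_mul_right _ (Nat.pow_le_pow_right (Nat.succ_pos a) (Nat.sub_le n 1))
    calc _ ≤ a * (C * ((a + 1) ^ n * w n m)) :=
          Nat.mul_le_mul (by omega) (Nat.mul_le_mul_left C h4)
      _ = _ := by ring
  have ha' : (0 : ℝ) < a := by exact_mod_cast ha
  have hgen : IsOrd n fun m => f (a * m) := by
    obtain ⟨B, hB⟩ := hf
    refine ⟨B * (a + 1) ^ n, fun m => (hB _).trans ?_⟩
    rw [mul_assoc, ← mul_pow]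
    exact Nat.mul_le_mul_left _ (Nat.pow_le_pow_left (by nlinarith) _)
  have hmul : ∀ m, 0 < m → nseq c n (fun m => f (a * m)) m = (a : ℝ) ^ n * nseq c n f (a * m) := fun m hm => by
    have : (0 : ℝ) < m := by exact_mod_cast hm
    simp only [nseq, Nat.cast_mul, mul_pow]
    field_simp
  refine le_antisymm ?_ ?_
  · refine le_of_forall_pos_le_add fun δ hδ => limsup_le_of_le (isCobounded_of_nonneg (nseq_nonneg hc)) ?_
    have hδ' : 0 < δ / (a : ℝ) ^ n := div_pos hδ (pow_pos ha' _)
    have hev := eventually_lt_of_limsup_lt (lt_add_of_pos_right _ hδ') (hf.isBoundedUnder hc)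
    have htend : Tendsto (fun m => a * m) atTop atTop :=
      tendsto_atTop_mono (fun m => Nat.le_mul_of_pos_left m ha) tendsto_id
    filter_upwards [htend.eventually hev, eventually_gt_atTop 0] with m h1 h2
    rw [hmul m h2]
    have h3 := mul_le_mul_of_nonneg_left h1.le (pow_nonneg ha'.le n)
    rwa [mul_add, mul_div_cancel₀ _ (pow_pos ha' n).ne'] at h3
  · rw [← le_div_iff₀' (pow_pos ha' n)]
    refine le_of_forall_pos_le_add fun δ hδ => limsup_le_of_le (isCobounded_of_nonneg (nseq_nonneg hc)) ?_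
    set S := limsup (nseq c n fun m => f (a * m)) atTop
    have hS : 0 ≤ S := le_limsup_of_frequently_le (Eventually.of_forall (nseq_nonneg hc)).frequently
      (hgen.isBoundedUnder hc)
    obtain ⟨δ₁, hδ₁, hδ₁'⟩ : ∃ δ₁ : ℝ, 0 < δ₁ ∧ δ₁ * (S / (a : ℝ) ^ n + δ / 4 + 1) ≤ δ / 4 :=
      ⟨δ / 4 / (S / (a : ℝ) ^ n + δ / 4 + 1), by positivity, by rw [div_mul_cancel₀ _ (by positivity)]⟩
    have hev := eventually_lt_of_limsup_lt (lt_add_of_pos_right S (show 0 < δ / 4 * (a : ℝ) ^ n by positivity))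
      (hgen.isBoundedUnder hc)
    have hdiv : Tendsto (fun m => m / a + 1) atTop atTop := by
      refine tendsto_atTop_atTop.2 fun b => ⟨a * b, fun m hm => ?_⟩
      have : b ≤ m / a := (Nat.le_div_iff_mul_le ha).2 (by linarith)
      omega
    have hratio : Tendsto (fun m : ℕ => (((m : ℝ) + a) / m) ^ n) atTop (nhds 1) := by
      have h1 : Tendsto (fun m : ℕ => 1 + (a : ℝ) / m) atTop (nhds (1 + 0)) :=
        tendsto_const_nhds.add (tendsto_const_div_atTop_nhds_zero_nat (a : ℝ))
      rw [add_zero] at h1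
      have h2 := h1.pow n
      rw [one_pow] at h2
      refine h2.congr' ?_
      filter_upwards [eventually_gt_atTop 0] with m hm
      have : (m : ℝ) ≠ 0 := by exact_mod_cast hm.ne'
      congr 1
      field_simp
    filter_upwards [eventually_dist_le (n := n) (f := f) (g := f') ⟨_, hnear⟩ hc (show 0 < δ / 4 by positivity),
      hdiv.eventually hev, hratio.eventually (eventually_le_nhds (lt_add_of_pos_right (1 : ℝ) hδ₁)),
      eventually_gt_atTop 0] with m h1 h2 h3 h4
    refine h1.trans ?_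
    have hq : 0 < m / a + 1 := Nat.succ_pos _
    have hm' : (0 : ℝ) < m := by exact_mod_cast h4
    have h5 : (((a * (m / a + 1) : ℕ) : ℝ) / m) ^ n ≤ 1 + δ₁ := by
      refine le_trans (pow_le_pow_left₀ (by positivity) ?_ n) h3
      refine div_le_div_of_nonneg_right ?_ hm'.le
      exact_mod_cast (show a * (m / a + 1) ≤ m + a by
        rw [mul_add, mul_one]; exact Nat.add_le_add_right (Nat.mul_div_le m a) a)
    rw [hmul _ hq] at h2
    have h6 : nseq c n f (a * (m / a + 1)) ≤ S / (a : ℝ) ^ n + δ / 4 := by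
      rw [div_add' _ _ _ (pow_pos ha' n).ne', le_div_iff₀ (pow_pos ha' n)]
      linarith
    have h7 : nseq c n f' m = (((a * (m / a + 1) : ℕ) : ℝ) / m) ^ n * nseq c n f (a * (m / a + 1)) := by
      have : (0 : ℝ) < ((a * (m / a + 1) : ℕ) : ℝ) := by exact_mod_cast Nat.mul_pos ha hq
      simp only [nseq, f', div_pow]
      field_simp
    rw [h7]
    have h8 := mul_le_mul h5 h6 (nseq_nonneg hc _) (by positivity)
    have h9 : δ₁ * (S / (a : ℝ) ^ n + δ / 4) ≤ δ / 4 := le_trans (by nlinarith) hδ₁'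
    nlinarith

/-- The extended-real version of the normalised upper limit. -/
theorem limsup_ennreal (hf : IsOrd n f) :
    limsup (fun m => (f m : ℝ≥0∞) / (m : ℝ≥0∞) ^ n) atTop = ENNReal.ofReal (limsup (nseq 1 n f) atTop) := by
  have h := Monotone.map_limsup_of_continuousAt (F := atTop) (f := ENNReal.ofReal)
    (fun _ _ h => ENNReal.ofReal_le_ofReal h) (nseq 1 n f) ENNReal.continuous_ofReal.continuousAt
    (hf.isBoundedUnder zero_le_one) (isCobounded_of_nonneg (nseq_nonneg zero_le_one))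
  rw [h]
  refine limsup_congr ?_
  filter_upwards [eventually_gt_atTop 0] with m hm
  have hm' : (0 : ℝ) < (m : ℝ) ^ n := pow_pos (by exact_mod_cast hm) _
  simp only [Function.comp_apply, nseq, _root_.mul_one]
  rw [ENNReal.ofReal_div_of_pos hm', ENNReal.ofReal_natCast, ENNReal.ofReal_pow (Nat.cast_nonneg _),
    ENNReal.ofReal_natCast]

/-- Scaling. -/
theorem limsup_const_mul {r : ℝ} (hr : 0 ≤ r) {u : ℕ → ℝ} (hb : IsBoundedUnder (· ≤ ·) atTop u)
    (hu : ∀ m, 0 ≤ u m := by intro m; positivity) :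
    limsup (fun m => r * u m) atTop = r * limsup u atTop :=
  (Monotone.map_limsup_of_continuousAt (F := atTop) (f := fun x : ℝ => r * x)
    (fun _ _ h => mul_le_mul_of_nonneg_left h hr) u (continuous_const_mul r).continuousAt hb
    (isCobounded_of_nonneg hu)).symm

/-- Comparing with a convergent error. -/
theorem limsup_le_add_lim {u v g : ℕ → ℝ} {ℓ : ℝ} (hu : ∀ m, 0 ≤ u m) (hv : ∀ m, 0 ≤ v m)
    (hvb : IsBoundedUnder (· ≤ ·) atTop v) (hg : Tendsto g atTop (nhds ℓ))
    (h : ∀ᶠ m in atTop, u m ≤ v m + g m) : limsup u atTop ≤ limsup v atTop + ℓ := by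
  refine le_of_forall_pos_le_add fun δ hδ => ?_
  rw [add_assoc]
  refine limsup_le_add hu hv hvb ?_
  filter_upwards [h, hg.eventually (eventually_le_nhds (lt_add_of_pos_right ℓ hδ))] with m h1 h2
  linarith

/-- A bound with a convergent error. -/
theorem limsup_le_lim {u g : ℕ → ℝ} {ℓ : ℝ} (hu : ∀ m, 0 ≤ u m) (hg : Tendsto g atTop (nhds ℓ))
    (h : ∀ᶠ m in atTop, u m ≤ g m) : limsup u atTop ≤ ℓ := by
  have h1 := limsup_le_add_lim (v := fun _ => 0) hu (fun _ => le_rfl) isBoundedUnder_const hg (by simpa using h)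
  rwa [limsup_const, zero_add] at h1

end Real

section Path

variable {r : ℕ}

/-- Along a monotone path. -/
theorem dist_le_of_le {d C : ℕ} (f : (Fin r → ℕ) → ℕ)
    (h : ∀ i n, Nat.dist (f (Function.update n i (n i + 1))) (f n) ≤ C * w d (∑ l, n l)) :
    ∀ (D : ℕ) (v v' : Fin r → ℕ), v ≤ v' → ∑ l, (v' l - v l) = D → Nat.dist (f v) (f v') ≤ D * (C * w d (∑ l, v' l)) := by
  intro D
  induction D with
  | zero =>
    intro v v' hle hD
    rw [show v = v' from funext fun l => le_antisymm (hle l)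
      (Nat.sub_eq_zero_iff_le.1 ((Finset.sum_eq_zero_iff.1 hD) l (Finset.mem_univ l)))]
    simp
  | succ D ih =>
    intro v v' hle hD
    obtain ⟨i, -, hi⟩ := Finset.exists_ne_zero_of_sum_ne_zero (s := Finset.univ) (f := fun l => v' l - v l) (by omega)
    let v₁ := Function.update v i (v i + 1)
    have hle₁ : v₁ ≤ v' := fun l => by
      by_cases hl : l = i
      · subst hl
        simp only [v₁, Function.update_self]
        omega
      · simp only [v₁, Function.update_of_ne hl]
        exact hle l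
    have hD₁ : ∑ l, (v' l - v₁ l) = D := by
      have h1 : ∀ l, v' l - v l = (v' l - v₁ l) + if l = i then 1 else 0 := fun l => by
        by_cases hl : l = i
        · subst hl
          simp only [v₁, Function.update_self, if_true]
          omega
        · simp [v₁, Function.update_of_ne hl, hl]
      rw [Finset.sum_congr rfl fun l _ => h1 l, Finset.sum_add_distrib, Finset.sum_ite_eq'] at hD
      simp at hD
      omega
    have h2 := ih v₁ v' hle₁ hD₁
    have h3 : C * w d (∑ l, v l) ≤ C * w d (∑ l, v' l) :=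
      Nat.mul_le_mul_left _ (w_mono (Finset.sum_le_sum fun l _ => hle l))
    have h4 : Nat.dist (f v₁) (f v) ≤ C * w d (∑ l, v l) := h i v
    rw [Nat.succ_mul]
    simp only [Nat.dist] at h2 h4 ⊢
    omega

/-- Between two exponents. -/
theorem dist_le_path {d C : ℕ} (f : (Fin r → ℕ) → ℕ)
    (h : ∀ i n, Nat.dist (f (Function.update n i (n i + 1))) (f n) ≤ C * w d (∑ l, n l)) (v v' : Fin r → ℕ) :
    Nat.dist (f v) (f v') ≤ (∑ l, Nat.dist (v l) (v' l)) * (C * w d (∑ l, max (v l) (v' l))) := by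
  have h1 := dist_le_of_le f h _ v (fun l => max (v l) (v' l)) (fun l => le_max_left _ _) rfl
  have h2 := dist_le_of_le f h _ v' (fun l => max (v l) (v' l)) (fun l => le_max_right _ _) rfl
  have e : ∑ l, Nat.dist (v l) (v' l) = ∑ l, (max (v l) (v' l) - v l) + ∑ l, (max (v l) (v' l) - v' l) := by
    rw [← Finset.sum_add_distrib]
    exact Finset.sum_congr rfl fun l _ => by simp only [Nat.dist]; omega
  rw [e, add_mul]
  simp only [Nat.dist] at h1 h2 ⊢
  omega

end Path

section Geometry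

variable (k : Type u) [Field k] {X : Scheme.{u}} [X.Over (Spec (CommRingCat.of k))]
  [IsProper (X ↘ Spec (CommRingCat.of k))]

theorem sum_one (m : ℕ) : ∑ _l : Fin 1, m = m := by simp

/-- The twists by powers of one module. -/
theorem hgt_one (F L : X.Modules) (i m : ℕ) :
    hgt k (fun _ : Fin 1 => L) i F (fun _ => m) =
      Module.finrank k (Coh.HH X (CohB1.tensorMod F (CohB1.tensorPow L m)) i) := rfl

theorem finrank_pow_eq (L : X.Modules) (i m : ℕ) :
    hgt k (fun _ : Fin 1 => L) i (Coh.structureModule X) (fun _ => m) =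
      Module.finrank k (Coh.HH X (CohB1.tensorPow L m) i) :=
  (CurveCohLib.hhEquiv (k := k) (CurveTensor.structureTensorIso (CohB1.tensorPow L m)) i).finrank_eq

variable {n : ℕ} (hn : topologicalKrullDim X ≤ n)

include hn in
theorem isOrd_twist {L : X.Modules} (hL : PicF.IsInvertible L) {F : X.Modules} (hF : Coh.IsCoh F) (i : ℕ) :
    IsOrd n fun m => Module.finrank k (Coh.HH X (CohB1.tensorMod F (CohB1.tensorPow L m)) i) := by
  obtain ⟨C, hC⟩ := isBdd_of_dim_lt k (L := fun _ : Fin 1 => L) (fun _ => hL) (n + 1) ⊤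
    (lt_of_le_of_lt ((Topology.IsInducing.subtypeVal).topologicalKrullDim_le.trans hn)
      (by exact_mod_cast Nat.lt_succ_self n)) F hF (fun _ _ => trivial) i
  refine ⟨C, fun m => ?_⟩
  have h := hC fun _ => m
  rw [hgt_one, sum_one, w_succ] at h
  exact h

include hn in
theorem isOrd_pow {L : X.Modules} (hL : PicF.IsInvertible L) (i : ℕ) :
    IsOrd n fun m => Module.finrank k (Coh.HH X (CohB1.tensorPow L m) i) := by
  haveI := CurveCohLib.isNoetherian_of_proper (k := k) (X := X)
  obtain ⟨C, hC⟩ := isOrd_twist k hn hL QCoh.isCoh_structureModule' i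
  exact ⟨C, fun m => le_of_eq_of_le (finrank_pow_eq k L i m).symm (hC m)⟩

include hn in
theorem exists_step [IrreducibleSpace X] {L : X.Modules} (hL : PicF.IsInvertible L) (i : ℕ) :
    ∃ C, ∀ m, Nat.dist (Module.finrank k (Coh.HH X (CohB1.tensorPow L (m + 1)) i))
      (Module.finrank k (Coh.HH X (CohB1.tensorPow L m) i)) ≤ C * w n m := by
  haveI := CurveCohLib.isNoetherian_of_proper (k := k) (X := X)
  obtain ⟨C, hC⟩ := isBdd_dist_update k (L := fun _ : Fin 1 => L) (fun _ => hL) hn QCoh.isCoh_structureModule' 0 i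
  refine ⟨C, fun m => ?_⟩
  have h : Nat.dist (hgt k (fun _ : Fin 1 => L) i (Coh.structureModule X) (Function.update (fun _ : Fin 1 => m) 0 (m + 1)))
      (hgt k (fun _ : Fin 1 => L) i (Coh.structureModule X) (fun _ : Fin 1 => m)) ≤ C * w n (∑ _l : Fin 1, m) :=
    hC fun _ => m
  rw [sum_one, show Function.update (fun _ : Fin 1 => m) 0 (m + 1) = fun _ => m + 1 from
    funext fun l => by rw [Subsingleton.elim l 0, Function.update_self]] at h
  simp only [finrank_pow_eq] at h
  exact h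

include hn in
/-- Homogeneity of the upper limit. -/
theorem limsup_tensorPow [IrreducibleSpace X] {L : X.Modules} (hL : PicF.IsInvertible L) {a : ℕ} (ha : 0 < a)
    (i : ℕ) {c : ℝ} (hc : 0 ≤ c) :
    limsup (nseq c n fun m => Module.finrank k (Coh.HH X (CohB1.tensorPow (CohB1.tensorPow L a) m) i)) atTop =
      (a : ℝ) ^ n * limsup (nseq c n fun m => Module.finrank k (Coh.HH X (CohB1.tensorPow L m) i)) atTop := by
  rw [← limsup_mul (exists_step k hn hL i) (isOrd_pow k hn hL i) ha hc]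
  congr 2
  funext m
  exact (CurveCohLib.hhEquiv (k := k) ((PicGrp.cl_eq_cl_iff _ _).1
    (by simp only [H23.PicMul.cl_tensorPow, pow_mul])).some i).finrank_eq

omit hn in
include k in
/-- A non-empty open where a coherent module is free of its generic rank. -/
theorem exists_free_open [IsIntegral X] {F : X.Modules} (hF : Coh.IsCoh F) {r : ℕ}
    (hr : Module.finrank (X.presheaf.stalk (genericPoint X)) (F.presheaf.stalk (genericPoint X)) = r) :
    ∃ U : X.Opens, (U : Set X).Nonempty ∧ Nonempty (F.restrict U.ι ≅ FlatMod.freeMod (U : Scheme.{u}) r) := by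
  haveI := CurveCohLib.isNoetherian_of_proper (k := k) (X := X)
  let η := genericPoint X
  haveI : Module.Free (X.presheaf.stalk η) (F.presheaf.stalk η) := Module.Free.of_divisionRing X.functionField _
  obtain ⟨U, r', hηU, ⟨e⟩⟩ := QCoh.exists_free_nhd_of_free_stalk (QCoh.isCoh_iff_isFP.1 hF) η
  obtain ⟨_, ⟨V, hV, rfl⟩, hηV, hle⟩ :=
    X.isBasis_affineOpens.exists_subset_of_mem_open (show η ∈ (U : Set X) from hηU) U.2
  obtain ⟨l⟩ := QCoh.free_sections hV hle e
  obtain rfl : r' = r := (QCoh.finrank_stalk_of_freeChart hV hF.1 l hηV).symm.trans hr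
  exact ⟨U, ⟨η, hηU⟩, ⟨e⟩⟩

include hn in
/-- A coherent module of generic rank `r` counts `r` times the structure module. -/
theorem exists_dist_rank [IsIntegral X] {L : X.Modules} (hL : PicF.IsInvertible L) {F : X.Modules}
    (hF : Coh.IsCoh F) {r : ℕ}
    (hr : Module.finrank (X.presheaf.stalk (genericPoint X)) (F.presheaf.stalk (genericPoint X)) = r) (i : ℕ) :
    ∃ C, ∀ m, Nat.dist (Module.finrank k (Coh.HH X (CohB1.tensorMod F (CohB1.tensorPow L m)) i))
      (r * Module.finrank k (Coh.HH X (CohB1.tensorPow L m) i)) ≤ C * w n m := by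
  haveI := CurveCohLib.isNoetherian_of_proper (k := k) (X := X)
  obtain ⟨U, hU, ⟨e⟩⟩ := exists_free_open k hF hr
  obtain ⟨C, hC⟩ := isBdd_dist_free_nhd k (L := fun _ : Fin 1 => L) (fun _ => hL) hn hF hU e i
  refine ⟨C, fun m => ?_⟩
  have h : Nat.dist (hgt k (fun _ : Fin 1 => L) i F (fun _ => m))
      (hgt k (fun _ : Fin 1 => L) i (FlatMod.freeMod X r) (fun _ => m)) ≤ C * w n (∑ _l : Fin 1, m) := hC fun _ => m
  rw [hgt_one, hgt_one, sum_one] at h
  let P := CohB1.tensorPow L m
  have hP : PicF.IsInvertible P := InvX.isInvertible_tensorPow hL m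
  haveI := AmpleVan.isEquivalence_tw hP
  haveI : (AmpleVan.tw P).Additive := Functor.additive_of_preserves_binary_products _
  haveI : Module.Finite k (Coh.HH X ((AmpleVan.tw P).obj (Coh.structureModule X)) i) :=
    S0002.result k X _ (AmpleVan.isCoh_tensor QCoh.isCoh_structureModule' (AmpleVan.isCoh_invertible hP)) i
  rw [show Module.finrank k (Coh.HH X (CohB1.tensorMod (FlatMod.freeMod X r) P) i) =
    r * Module.finrank k (Coh.HH X P i) from
    (finrank_HH_map_free k (AmpleVan.tw P) r i).trans (congrArg (r * ·) (finrank_pow_eq k L i m))] at h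
  exact h

include hn in
/-- A short exact sequence with small first term. -/
theorem exists_dist_right {S : ShortComplex X.Modules} (hS : S.ShortExact) (h1 : Coh.IsCoh S.X₁)
    (h2 : Coh.IsCoh S.X₂) (h3 : Coh.IsCoh S.X₃) (hdim : topologicalKrullDim (CohB1.support S.X₁) < (n : WithBot ℕ∞))
    {L : X.Modules} (hL : PicF.IsInvertible L) (i : ℕ) :
    ∃ C, ∀ m, Nat.dist (Module.finrank k (Coh.HH X (CohB1.tensorMod S.X₂ (CohB1.tensorPow L m)) i))
      (Module.finrank k (Coh.HH X (CohB1.tensorMod S.X₃ (CohB1.tensorPow L m)) i)) ≤ C * w n m := by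
  haveI := CurveCohLib.isNoetherian_of_proper (k := k) (X := X)
  have hb := isBdd_of_dim_lt k (L := fun _ : Fin 1 => L) (fun _ => hL) n
    ⟨_, QCoh.isClosed_support_of_isFT h1.1 h1.2⟩ hdim S.X₁ h1 subset_rfl
  obtain ⟨C, hC⟩ := (hb i).add (hb (i + 1))
  refine ⟨C, fun m => ?_⟩
  obtain ⟨hA, hB, hC', f, g, e, hS'⟩ := Snapper.cohSES_tensorPows (fun _ : Fin 1 => L) (fun _ => hL) (fun _ => m)
    ⟨h1, h2, h3, S.f, S.g, S.zero, hS⟩
  have a1 := finrank_mid_le' k (S := ShortComplex.mk f g e) hS' hA hB hC' i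
  have a2 := finrank_right_le k (S := ShortComplex.mk f g e) hS' hA hB hC' i
  have h := hC fun _ => m
  rw [sum_one] at h
  dsimp only [hgt] at h a1 a2
  change Nat.dist (Module.finrank k (Coh.HH X (Curv2.tensorPows S.X₂ 1 (fun _ => L) fun _ => m) i))
    (Module.finrank k (Coh.HH X (Curv2.tensorPows S.X₃ 1 (fun _ => L) fun _ => m) i)) ≤ C * w n m
  simp only [Nat.dist]
  omega

include hn in
/-- A short exact sequence with small last term. -/
theorem exists_dist_left {S : ShortComplex X.Modules} (hS : S.ShortExact) (h1 : Coh.IsCoh S.X₁)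
    (h2 : Coh.IsCoh S.X₂) (h3 : Coh.IsCoh S.X₃) (hdim : topologicalKrullDim (CohB1.support S.X₃) < (n : WithBot ℕ∞))
    {L : X.Modules} (hL : PicF.IsInvertible L) (i : ℕ) :
    ∃ C, ∀ m, Nat.dist (Module.finrank k (Coh.HH X (CohB1.tensorMod S.X₁ (CohB1.tensorPow L m)) i))
      (Module.finrank k (Coh.HH X (CohB1.tensorMod S.X₂ (CohB1.tensorPow L m)) i)) ≤ C * w n m := by
  haveI := CurveCohLib.isNoetherian_of_proper (k := k) (X := X)
  have hb := isBdd_of_dim_lt k (L := fun _ : Fin 1 => L) (fun _ => hL) n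
    ⟨_, QCoh.isClosed_support_of_isFT h3.1 h3.2⟩ hdim S.X₃ h3 subset_rfl
  obtain ⟨C, hC⟩ := (hb i).add (hb (i - 1))
  refine ⟨C, fun m => ?_⟩
  obtain ⟨hA, hB, hC', f, g, e, hS'⟩ := Snapper.cohSES_tensorPows (fun _ : Fin 1 => L) (fun _ => hL) (fun _ => m)
    ⟨h1, h2, h3, S.f, S.g, S.zero, hS⟩
  have a1 := finrank_mid_le' k (S := ShortComplex.mk f g e) hS' hA hB hC' i
  have a2 := finrank_left_le k (S := ShortComplex.mk f g e) hS' hA hB hC' i
  have h := hC fun _ => m
  rw [sum_one] at h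
  dsimp only [hgt] at h a1 a2
  change Nat.dist (Module.finrank k (Coh.HH X (Curv2.tensorPows S.X₁ 1 (fun _ => L) fun _ => m) i))
    (Module.finrank k (Coh.HH X (Curv2.tensorPows S.X₂ 1 (fun _ => L) fun _ => m) i)) ≤ C * w n m
  simp only [Nat.dist]
  omega

section Multi

variable {r : ℕ}

/-- Exponents for the modules and their inverses. -/
def sgn (a : Fin r → ℤ) : Fin (r + r) → ℕ :=
  Fin.append (fun j => (a j).toNat) (fun j => (-(a j)).toNat)

omit hn in
/-- Powers of an integral twist are twists by the modules and their inverses. -/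
theorem finrank_ztwist_pow (L M : Fin r → X.Modules) (a : Fin r → ℤ) (i m : ℕ) :
    Module.finrank k (Coh.HH X (CohB1.tensorPow (W4c5asymptcohfn.ztwist X L M a) m) i) =
      hgt k (Fin.append L M) i (Coh.structureModule X) (fun l => m * sgn a l) := by
  refine (CurveCohLib.hhEquiv (k := k) ((PicGrp.cl_eq_cl_iff _ _).1 ?_).some i).finrank_eq
  rw [H23.PicMul.cl_tensorPow, W4c5asymptcohfn.ztwist, H23.PicMul.cl_tensor, H26.IdealCl.cl_multiTwist,
    H26.IdealCl.cl_multiTwist, IntCoeff.cl_tensorPows,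
    show PicF.cl (Coh.structureModule X) = (1 : PicF.Cl X) from H23.PicMul.one_def.symm, _root_.one_mul,
    Fin.prod_univ_add, mul_pow, ← Finset.prod_pow, ← Finset.prod_pow]
  simp only [sgn, Fin.append_left, Fin.append_right, ← pow_mul, mul_comm m]

include hn in
/-- One constant for all steps. -/
theorem exists_step_multi [IrreducibleSpace X] {R : ℕ} {L : Fin R → X.Modules} (hL : ∀ l, PicF.IsInvertible (L l))
    (i : ℕ) : ∃ C, ∀ l v, Nat.dist (hgt k L i (Coh.structureModule X) (Function.update v l (v l + 1)))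
      (hgt k L i (Coh.structureModule X) v) ≤ C * w n (∑ j, v j) := by
  haveI := CurveCohLib.isNoetherian_of_proper (k := k) (X := X)
  choose C hC using fun l => isBdd_dist_update k hL hn QCoh.isCoh_structureModule' l i
  exact ⟨∑ l, C l, fun l v => (hC l v).trans (Nat.mul_le_mul_right _
    (Finset.single_le_sum (f := C) (fun _ _ => Nat.zero_le _) (Finset.mem_univ l)))⟩

omit hn in
theorem sum_dist_sgn (a b : Fin r → ℤ) :
    ((∑ l, Nat.dist (sgn a l) (sgn b l) : ℕ) : ℝ) ≤ r * ‖(fun j => ((a j - b j : ℤ) : ℝ))‖ := by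
  rw [Fin.sum_univ_add, ← Finset.sum_add_distrib, Nat.cast_sum]
  refine (Finset.sum_le_card_nsmul _ _ ‖(fun j => ((a j - b j : ℤ) : ℝ))‖ fun j _ => ?_).trans
    (by rw [nsmul_eq_mul, Finset.card_univ, Fintype.card_fin])
  have e : ((Nat.dist (sgn a (Fin.castAdd r j)) (sgn b (Fin.castAdd r j)) +
      Nat.dist (sgn a (Fin.natAdd r j)) (sgn b (Fin.natAdd r j)) : ℕ) : ℤ) = |a j - b j| := by
    simp only [sgn, Fin.append_left, Fin.append_right, Nat.dist, Int.abs_eq_natAbs]
    omega
  refine le_trans (le_of_eq ?_) (norm_le_pi_norm (fun j => ((a j - b j : ℤ) : ℝ)) j)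
  rw [Real.norm_eq_abs, ← Int.cast_abs, ← e, Int.cast_natCast]

omit hn in
theorem sum_sgn (a : Fin r → ℤ) : ((∑ l, sgn a l : ℕ) : ℝ) ≤ r * ‖(fun j => ((a j : ℤ) : ℝ))‖ := by
  rw [Fin.sum_univ_add, ← Finset.sum_add_distrib, Nat.cast_sum]
  refine (Finset.sum_le_card_nsmul _ _ ‖(fun j => ((a j : ℤ) : ℝ))‖ fun j _ => ?_).trans
    (by rw [nsmul_eq_mul, Finset.card_univ, Fintype.card_fin])
  have e : ((sgn a (Fin.castAdd r j) + sgn a (Fin.natAdd r j) : ℕ) : ℤ) = |a j| := by
    simp only [sgn, Fin.append_left, Fin.append_right, Int.abs_eq_natAbs]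
    omega
  refine le_trans (le_of_eq ?_) (norm_le_pi_norm (fun j => ((a j : ℤ) : ℝ)) j)
  rw [Real.norm_eq_abs, ← Int.cast_abs, ← e, Int.cast_natCast]

variable {R : ℕ} {LL : Fin R → X.Modules} (hLL : ∀ l, PicF.IsInvertible (LL l)) (i : ℕ)

include hn hLL in
theorem isOrd_multi (v : Fin R → ℕ) :
    IsOrd n fun m => hgt k LL i (Coh.structureModule X) (fun l => m * v l) := by
  haveI := CurveCohLib.isNoetherian_of_proper (k := k) (X := X)
  obtain ⟨C, hC⟩ := isBdd_of_dim_lt k hLL (n + 1) ⊤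
    (lt_of_le_of_lt ((Topology.IsInducing.subtypeVal).topologicalKrullDim_le.trans hn)
      (by exact_mod_cast Nat.lt_succ_self n)) (Coh.structureModule X) QCoh.isCoh_structureModule' (fun _ _ => trivial) i
  refine ⟨C * (∑ l, v l + 1) ^ n, fun m => ?_⟩
  have h : hgt k LL i (Coh.structureModule X) (fun l => m * v l) ≤ C * w (n + 1) (∑ l, m * v l) :=
    hC fun l => m * v l
  rw [w_succ, ← Finset.mul_sum] at h
  refine h.trans ?_
  rw [_root_.mul_assoc, ← mul_pow]
  refine Nat.mul_le_mul_left _ (Nat.pow_le_pow_left ?_ _)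
  rw [add_mul, _root_.one_mul, mul_add, _root_.mul_one, mul_comm (∑ l, v l) m]
  omega

include hn hLL in
/-- Growth of the upper limits. -/
theorem exists_le_multi {c : ℝ} (hc : 0 ≤ c) : ∃ C : ℝ, 0 ≤ C ∧ ∀ v : Fin R → ℕ,
    limsup (nseq c n fun m => hgt k LL i (Coh.structureModule X) (fun l => m * v l)) atTop ≤
      C * ((∑ l, v l : ℕ) : ℝ) ^ n := by
  haveI := CurveCohLib.isNoetherian_of_proper (k := k) (X := X)
  obtain ⟨C, hC⟩ := isBdd_of_dim_lt k hLL (n + 1) ⊤
    (lt_of_le_of_lt ((Topology.IsInducing.subtypeVal).topologicalKrullDim_le.trans hn)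
      (by exact_mod_cast Nat.lt_succ_self n)) (Coh.structureModule X) QCoh.isCoh_structureModule' (fun _ _ => trivial) i
  refine ⟨C * c, mul_nonneg (Nat.cast_nonneg _) hc, fun v => ?_⟩
  refine limsup_le_lim (nseq_nonneg hc)
    (g := fun m => C * c * (((∑ l, v l : ℕ) : ℝ) + 1 / (m : ℝ)) ^ n) ?_ ?_
  · simpa using (((tendsto_const_nhds (x := ((∑ l, v l : ℕ) : ℝ))).add
      tendsto_one_div_atTop_nhds_zero_nat).pow n).const_mul ((C : ℝ) * c)
  · filter_upwards [eventually_gt_atTop 0] with m hm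
    have hm' : (0 : ℝ) < m := by exact_mod_cast hm
    have h : hgt k LL i (Coh.structureModule X) (fun l => m * v l) ≤ C * (m * ∑ l, v l + 1) ^ n :=
      (le_of_le_of_eq (hC fun l => m * v l) (by rw [w_succ, ← Finset.mul_sum]))
    have h' : (hgt k LL i (Coh.structureModule X) (fun l => m * v l) : ℝ) ≤
        C * ((m : ℝ) * ((∑ l, v l : ℕ) : ℝ) + 1) ^ n := by exact_mod_cast h
    simp only [nseq]
    rw [div_le_iff₀ (pow_pos hm' n), _root_.mul_assoc (_ * _), ← mul_pow, add_mul, div_mul_cancel₀ _ hm'.ne',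
      mul_comm ((∑ l, v l : ℕ) : ℝ)]
    nlinarith [mul_le_mul_of_nonneg_right h' hc]

include hn hLL in
/-- The upper limits move with the exponents. -/
theorem exists_abs_sub_le [IrreducibleSpace X] {c : ℝ} (hc : 0 ≤ c) :
    ∃ C : ℝ, 0 ≤ C ∧ (n = 0 → C = 0) ∧ ∀ v v' : Fin R → ℕ,
      |limsup (nseq c n fun m => hgt k LL i (Coh.structureModule X) (fun l => m * v l)) atTop -
        limsup (nseq c n fun m => hgt k LL i (Coh.structureModule X) (fun l => m * v' l)) atTop| ≤
      C * ((∑ l, Nat.dist (v l) (v' l) : ℕ) : ℝ) * ((∑ l, max (v l) (v' l) : ℕ) : ℝ) ^ (n - 1) := by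
  obtain ⟨C, hC⟩ := exists_step_multi k hn hLL i
  let E : ℕ := if n = 0 then 0 else C
  have hE : ∀ s, C * w n s = E * (s + 1) ^ (n - 1) := fun s => by
    simp only [E, w]
    split_ifs <;> simp
  refine ⟨E * c, mul_nonneg (Nat.cast_nonneg _) hc, fun h0 => by simp [E, h0], fun v v' => ?_⟩
  set D : ℕ := ∑ l, Nat.dist (v l) (v' l)
  set S : ℕ := ∑ l, max (v l) (v' l)
  let g : ℕ → ℝ := fun m => E * c * (D : ℝ) * ((S : ℝ) + 1 / (m : ℝ)) ^ (n - 1)
  have hg : Tendsto g atTop (nhds (E * c * (D : ℝ) * (S : ℝ) ^ (n - 1))) := by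
    show Tendsto (fun m : ℕ => E * c * (D : ℝ) * ((S : ℝ) + 1 / (m : ℝ)) ^ (n - 1)) _ _
    simpa using (((tendsto_const_nhds (x := (S : ℝ))).add
      tendsto_one_div_atTop_nhds_zero_nat).pow (n - 1)).const_mul ((E : ℝ) * c * D)
  let F := fun (u : Fin R → ℕ) (m : ℕ) => hgt k LL i (Coh.structureModule X) (fun l => m * u l)
  have key : ∀ m, 0 < m → |nseq c n (F v) m - nseq c n (F v') m| ≤ g m := fun m hm => by
    have hm' : (0 : ℝ) < m := by exact_mod_cast hm
    have h := dist_le_path (fun u => hgt k LL i (Coh.structureModule X) u) hC (fun l => m * v l) (fun l => m * v' l)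
    rw [hE, show ∑ l, Nat.dist (m * v l) (m * v' l) = m * D from by
        simp only [D, Finset.mul_sum, Nat.dist_mul_left],
      show ∑ l, max (m * v l) (m * v' l) = m * S from by simp only [S, Finset.mul_sum, Nat.mul_max_mul_left]] at h
    have h' : Nat.dist (F v m) (F v' m) ≤ m * D * (E * (m * S + 1) ^ (n - 1)) := h
    have h1 : |(F v m : ℝ) - F v' m| ≤ (m : ℝ) * D * (E * ((m : ℝ) * S + 1) ^ (n - 1)) := by
      rw [abs_sub_le_iff]
      simp only [Nat.dist] at h'
      constructor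
      · rw [sub_le_iff_le_add]
        exact_mod_cast (show F v m ≤ m * D * (E * (m * S + 1) ^ (n - 1)) + F v' m by omega)
      · rw [sub_le_iff_le_add]
        exact_mod_cast (show F v' m ≤ m * D * (E * (m * S + 1) ^ (n - 1)) + F v m by omega)
    rcases Nat.eq_zero_or_pos n with h0 | h0
    · have hE0 : E = 0 := if_pos h0
      simp only [hE0, Nat.cast_zero, zero_mul, mul_zero, abs_nonpos_iff, sub_eq_zero] at h1
      simp [g, nseq, h1, hE0]
    simp only [nseq, g]
    rw [← sub_div, abs_div, abs_of_pos (pow_pos hm' n), ← sub_mul, abs_mul, abs_of_nonneg hc,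
      div_le_iff₀ (pow_pos hm' n)]
    obtain ⟨e, rfl⟩ : ∃ e, n = e + 1 := ⟨n - 1, by omega⟩
    rw [Nat.add_sub_cancel] at h1 ⊢
    calc _ ≤ (m : ℝ) * D * (E * ((m : ℝ) * S + 1) ^ e) * c := mul_le_mul_of_nonneg_right h1 hc
      _ = _ := by
        rw [show (m : ℝ) * S + 1 = ((S : ℝ) + 1 / m) * m by field_simp, mul_pow, pow_succ]
        ring
  have hb := fun u => (isOrd_multi k hn hLL i u).isBoundedUnder hc
  rw [abs_sub_le_iff]
  constructor <;> rw [sub_le_iff_le_add']
  · refine limsup_le_add_lim (nseq_nonneg hc) (nseq_nonneg hc) (hb v') hg ?_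
    filter_upwards [eventually_gt_atTop 0] with m hm
    linarith [(abs_sub_le_iff.1 (key m hm)).1]
  · refine limsup_le_add_lim (nseq_nonneg hc) (nseq_nonneg hc) (hb v) hg ?_
    filter_upwards [eventually_gt_atTop 0] with m hm
    linarith [(abs_sub_le_iff.1 (key m hm)).2]

omit hn in
/-- An inverse of an invertible module is invertible. -/
theorem isInvertible_inverse {L M : X.Modules} (hL : PicF.IsInvertible L) (h : ClSub.IsInverseOf L M) :
    PicF.IsInvertible M := by
  obtain ⟨I, hI, e⟩ := H23.PicInv.exists_inverse hL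
  have h1 : PicF.cl L * PicF.cl M = 1 := by
    rw [← H23.PicMul.cl_tensor, H23.PicMul.one_def]
    exact H23.PicMul.cl_eq_iff.2 h
  have h2 : PicF.cl L * PicF.cl I = 1 := by
    rw [← H23.PicMul.cl_tensor, H23.PicMul.one_def]
    exact H23.PicMul.cl_eq_iff.2 e
  obtain ⟨f⟩ := H23.PicMul.cl_eq_iff.1 (left_inv_eq_right_inv (a := PicF.cl L) (b := PicF.cl I) (c := PicF.cl M)
    (by rw [mul_comm]; exact h2) h1)
  exact H23.PicMul.isInvertible_of_iso f hI

omit hn in
theorem append_invertible {L M : Fin r → X.Modules} (hL : ∀ j, PicF.IsInvertible (L j))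
    (hM : ∀ j, ClSub.IsInverseOf (L j) (M j)) : ∀ l, PicF.IsInvertible (Fin.append L M l) := by
  intro l
  induction l using Fin.addCases with
  | left j => rw [Fin.append_left]; exact hL j
  | right j => rw [Fin.append_right]; exact isInvertible_inverse (hL j) (hM j)

omit hn in
theorem hhat_ztwist (L M : Fin r → X.Modules) (a : Fin r → ℤ) (n i : ℕ) :
    W4c5asymptcohfn.hhat k X n i (W4c5asymptcohfn.ztwist X L M a) =
      limsup (nseq (n.factorial : ℝ) n fun m => hgt k (Fin.append L M) i (Coh.structureModule X)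
        (fun l => m * sgn a l)) atTop := by
  simp only [W4c5asymptcohfn.hhat, finrank_ztwist_pow]
  rfl

end Multi

end Geometry

end Groth.Agent.AsympCoh
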