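import Groth.Agent.Lib.AsympCoh
import Groth.Agent.Nakai.Big
import Groth.Agent.Snapper.DimVanish

/-!
Kodaira's lemma from the upper limit of `h⁰(L^m) / m^n`, and its consequences.
-/

set_option autoImplicit false
set_option linter.style.haveILetI false
set_option linter.unusedSectionVars false
set_option backward.isDefEq.respectTransparency false
set_option backward.isDefEq.respectTransparency.types false
set_option maxHeartbeats 1000000

universe u

open CategoryTheory CategoryTheory.Limits AlgebraicGeometry TopologicalSpace Opposite Filter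

noncomputable section

namespace Groth.Agent.BigVol

open Groth.Agent Groth.Agent.CohGrowth Groth.Agent.AsympCoh Groth.Agent.H23
open scoped Groth.Agent.H23.PicMul
open Groth.Agent.NefBig (h0)

/-- Terms of lower order are eventually small. -/
theorem eventually_w_lt (C : ℕ) {c : ℝ} (hc : 0 < c) (n : ℕ) :
    ∀ᶠ m : ℕ in atTop, ((C * w n m : ℕ) : ℝ) < c * (m : ℝ) ^ n := by
  have h := eventually_dist_le (n := n) (f := fun m => C * w n m) (g := fun _ => 0) (c := 1)
    ⟨C, fun m => by simp [Nat.dist]⟩ zero_le_one (half_pos hc)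
  filter_upwards [h, eventually_gt_atTop 0] with m h1 hm
  have hp : (0 : ℝ) < (m : ℝ) ^ n := pow_pos (by exact_mod_cast hm) _
  simp only [nseq, _root_.mul_one, Nat.cast_zero, zero_div, zero_add] at h1
  rw [div_le_iff₀ hp] at h1
  nlinarith

/-- Often at least of order `m ^ n`. -/
def OftenGrows (n : ℕ) (f : ℕ → ℕ) : Prop := ∃ c : ℝ, 0 < c ∧ ∃ᶠ m : ℕ in atTop, c * (m : ℝ) ^ n ≤ f m

theorem oftenGrows_of_limsup_pos {n : ℕ} {f : ℕ → ℕ} {c : ℝ} (hc : 0 ≤ c)
    (h : 0 < limsup (nseq c n f) atTop) : OftenGrows n f := by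
  set t := limsup (nseq c n f) atTop
  refine ⟨t / 2 / (c + 1), by positivity, ?_⟩
  have h1 := frequently_lt_of_lt_limsup (isCobounded_of_nonneg (nseq_nonneg hc)) (half_lt_self h)
  refine (h1.and_eventually (eventually_gt_atTop 0)).mono fun m ⟨h2, hm⟩ => ?_
  have hp : (0 : ℝ) < (m : ℝ) ^ n := pow_pos (by exact_mod_cast hm) _
  simp only [nseq] at h2
  rw [lt_div_iff₀ hp] at h2
  rw [div_mul_eq_mul_div, div_le_iff₀ (by linarith)]
  nlinarith [(Nat.cast_nonneg (f m) : (0 : ℝ) ≤ f m)]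

theorem support_tensor_left {X : Scheme.{u}} {E F : X.Modules} :
    CohB1.support (CohB1.tensorMod E F) ⊆ CohB1.support E := by
  intro x hx
  by_contra h
  haveI hs : Subsingleton (E.presheaf.stalk x) := not_not.1 h
  haveI hT : Subsingleton (TensorProduct (X.presheaf.stalk x) (E.presheaf.stalk x) (F.presheaf.stalk x)) :=
    subsingleton_of_forall_eq 0 fun t => by
      induction t using TensorProduct.induction_on with
      | zero => rfl
      | tmul a b => rw [Subsingleton.elim a 0, TensorProduct.zero_tmul]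
      | add a b ha hb => rw [ha, hb, add_zero]
  exact hx (@Equiv.subsingleton _ _ (KFlatLib.stalkTensorIso x E F).symm.toLinearEquiv.toEquiv hT)

section Ideal

variable (k : Type u) [Field k] {X : Scheme.{u}} [X.Over (Spec (CommRingCat.of k))]
  [IsProper (X ↘ Spec (CommRingCat.of k))] {n : ℕ} (hn : topologicalKrullDim X ≤ n)

include hn in
/-- Twisted sections of the ideal of a small subscheme. -/
theorem exists_sections_idealMod {L : X.Modules} (hL : PicF.IsInvertible L) (Z : X.IdealSheafData)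
    (hZ : topologicalKrullDim (Z.support : Set X) < n)
    (hg : OftenGrows n fun m => h0 k (CohB1.tensorPow L m)) :
    ∃ m : ℕ, 0 < m ∧ Nontrivial (Coh.HH X (CohB1.tensorMod (ClSub.idealMod Z) (CohB1.tensorPow L m)) 0) := by
  haveI := CurveCohLib.isNoetherian_of_proper (k := k) (X := X)
  have hq : Coh.IsCoh (ClSub.quotMod Z) := ParShLib.isCoh_quotMod _
  obtain ⟨C, hC⟩ := exists_dist_left k hn (DivisorExt.ideal_shortExact Z)
    (QCoh.isCoh_kernel QCoh.isCoh_structureModule' hq _) QCoh.isCoh_structureModule' hq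
    (lt_of_le_of_lt (IntCoeff.dim_support_quotMod_le Z) hZ) hL 0
  obtain ⟨c, hc, hfr⟩ := hg
  obtain ⟨m, h1, h2, hm⟩ := (hfr.and_eventually ((eventually_w_lt C hc n).and (eventually_gt_atTop 0))).exists
  refine ⟨m, hm, Module.nontrivial_of_finrank_pos (R := k) (Nat.pos_of_ne_zero fun h0' => ?_)⟩
  have h3 : Nat.dist (Module.finrank k (Coh.HH X (CohB1.tensorMod (ClSub.idealMod Z) (CohB1.tensorPow L m)) 0))
      (h0 k (CohB1.tensorMod (Coh.structureModule X) (CohB1.tensorPow L m))) ≤ C * w n m := hC m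
  have e : h0 k (CohB1.tensorMod (Coh.structureModule X) (CohB1.tensorPow L m)) = h0 k (CohB1.tensorPow L m) :=
    NefBig.h0_congr (CurveTensor.structureTensorIso (CohB1.tensorPow L m))
  rw [h0', e] at h3
  have h4 : (h0 k (CohB1.tensorPow L m) : ℝ) ≤ ((C * w n m : ℕ) : ℝ) := by
    exact_mod_cast (show h0 k (CohB1.tensorPow L m) ≤ C * w n m by simpa [Nat.dist] using h3)
  linarith

end Ideal

variable (k : Type u) [Field k] {X : Scheme.{u}} [X.Over (Spec (CommRingCat.of k))]
  [IsProper (X ↘ Spec (CommRingCat.of k))] [IsIntegral X] {n : ℕ} (hn : topologicalKrullDim X = n)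

include k hn in
theorem dim_support_cokernel {B : X.Modules} (hB : PicF.IsInvertible B) {s : Γ(B, ⊤)} (hs : s ≠ 0) :
    topologicalKrullDim (CohB1.support (cokernel (InvX.ofSect s))) < (n : WithBot ℕ∞) := by
  haveI := CurveCohLib.isNoetherian_of_proper (k := k) (X := X)
  have hc : Coh.IsCoh (cokernel (InvX.ofSect s)) :=
    QCoh.isCoh_cokernel QCoh.isCoh_structureModule'.1 (AmpleVan.isCoh_invertible hB) _
  have hne : topologicalKrullDim X ≠ ⊤ := fun h => by
    rw [h] at hn
    exact absurd hn.symm (ne_of_lt (WithBot.coe_lt_coe.2 (ENat.natCast_ne_top n).lt_top))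
  refine (TopDim.dim_lt_of_ssubset hne (QCoh.isClosed_support_of_isFT hc.1 hc.2) fun h => ?_).trans_le hn.le
  exact CurveAmple.support_cokernel_subset s (h.ge (Set.mem_univ (genericPoint X))) (NefBig.generic_mem_locus hB hs)

include hn in
/-- Kodaira's lemma. -/
theorem exists_mono_of_oftenGrows {L : X.Modules} (hL : PicF.IsInvertible L)
    (hg : OftenGrows n fun m => h0 k (CohB1.tensorPow L m))
    {B : X.Modules} (hB : PicF.IsInvertible B) {s : Γ(B, ⊤)} (hs : s ≠ 0) :
    ∃ (m : ℕ) (φ : B ⟶ CohB1.tensorPow L m), 0 < m ∧ Mono φ := by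
  haveI := CurveCohLib.isNoetherian_of_proper (k := k) (X := X)
  obtain ⟨B', hB', ⟨eB⟩⟩ := PicInv.exists_inverse hB
  have hBB : PicF.cl B * PicF.cl B' = 1 := by
    rw [← PicMul.cl_tensor, PicMul.one_def]; exact PicMul.cl_eq_iff.2 ⟨eB⟩
  let f := InvX.ofSect s
  haveI := CurveAmple.mono_ofSect hB hs
  have hBc := AmpleVan.isCoh_invertible hB
  have hB'c := AmpleVan.isCoh_invertible hB'
  have hOc : Coh.IsCoh (Coh.structureModule X) := QCoh.isCoh_structureModule'
  have hQ : Coh.IsCoh (cokernel f) := QCoh.isCoh_cokernel hOc.1 hBc f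
  have hS : (ShortComplex.mk f (cokernel.π f) (cokernel.condition f)).ShortExact :=
    .mk' (ShortComplex.exact_of_g_is_cokernel _ (cokernelIsCokernel f)) inferInstance inferInstance
  obtain ⟨f₁, g₁, w₁, hS₁⟩ := NefBig.ses_twist hS hB'
  obtain ⟨C, hC⟩ := exists_dist_left k hn.le hS₁ (AmpleVan.isCoh_tensor hOc hB'c) (AmpleVan.isCoh_tensor hBc hB'c)
    (AmpleVan.isCoh_tensor hQ hB'c)
    (lt_of_le_of_lt (TopDim.dim_le_dim_of_subset fun _ hx => support_tensor_left hx)
      (dim_support_cokernel k hn hB hs)) hL 0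
  obtain ⟨c, hc, hfr⟩ := hg
  obtain ⟨m, h1, h2, hm⟩ := (hfr.and_eventually ((eventually_w_lt C hc n).and (eventually_gt_atTop 0))).exists
  let N := CohB1.tensorMod B' (CohB1.tensorPow L m)
  have hN : PicF.IsInvertible N := InvX.isInvertible_tensorMod hB' (InvX.isInvertible_tensorPow hL _)
  have e1 : h0 k (CohB1.tensorMod (CohB1.tensorMod B B') (CohB1.tensorPow L m)) = h0 k (CohB1.tensorPow L m) :=
    NefBig.h0_congr_cl (by rw [PicMul.cl_tensor, PicMul.cl_tensor, hBB, _root_.one_mul])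
  have e2 : h0 k (CohB1.tensorMod (CohB1.tensorMod (Coh.structureModule X) B') (CohB1.tensorPow L m)) = h0 k N :=
    NefBig.h0_congr_cl (by rw [PicMul.cl_tensor, PicMul.cl_tensor, PicMul.cl_tensor, ← PicMul.one_def, _root_.one_mul])
  have h3 : Nat.dist (h0 k N) (h0 k (CohB1.tensorPow L m)) ≤ C * w n m := by
    rw [← e1, ← e2]; exact hC m
  have hpos : 0 < h0 k N := Nat.pos_of_ne_zero fun h0' => by
    rw [h0'] at h3
    have h4 : (h0 k (CohB1.tensorPow L m) : ℝ) ≤ ((C * w n m : ℕ) : ℝ) := by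
      exact_mod_cast (show h0 k (CohB1.tensorPow L m) ≤ C * w n m by simpa [Nat.dist] using h3)
    linarith
  obtain ⟨σ, hσ⟩ := CurveAmple.exists_section_ne_zero (Module.nontrivial_of_finrank_pos (R := k) hpos)
  haveI := CurveAmple.mono_ofSect hN hσ
  obtain ⟨g, hg⟩ := NefBig.mono_of_mono_unit (InvX.ofSect σ) hB (Q := CohB1.tensorPow L m) (by
    rw [PicMul.cl_tensor, mul_right_comm, mul_comm (PicF.cl B'), hBB, _root_.one_mul])
  exact ⟨m, g, hm, hg⟩

include hn in
/-- A power contains any ample module. -/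
theorem exists_mono_ample {L : X.Modules} (hL : PicF.IsInvertible L)
    (hg : OftenGrows n fun m => h0 k (CohB1.tensorPow L m)) {A : X.Modules} (hA : CohB1.IsAmple A) :
    ∃ (m : ℕ) (φ : A ⟶ CohB1.tensorPow L m), 0 < m ∧ Mono φ := by
  obtain ⟨a₀, ha₀, hgen⟩ := NefBig.exists_generated k hA
  have hB := InvX.isInvertible_tensorPow hA.1 (a₀ + 1)
  obtain ⟨s, hs⟩ := NefBig.exists_section_of_generated hB (hgen _ (Nat.le_succ _))
  obtain ⟨τ, hτ⟩ := NefBig.exists_section_of_generated (InvX.isInvertible_tensorPow hA.1 a₀) (hgen a₀ le_rfl)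
  obtain ⟨m, φ, hm, hφ⟩ := exists_mono_of_oftenGrows k hn hL hg hB hs
  haveI := CurveAmple.mono_ofSect (InvX.isInvertible_tensorPow hA.1 a₀) hτ
  obtain ⟨g', hg'⟩ := NefBig.mono_of_mono_unit (InvX.ofSect τ) hA.1 (Q := CohB1.tensorPow A (a₀ + 1)) (by
    rw [PicMul.cl_tensorPow, PicMul.cl_tensorPow, pow_succ])
  exact ⟨m, g' ≫ φ, hm, haveI := hφ; haveI := hg'; mono_comp _ _⟩

include hn in
/-- Often of order `m ^ n` means always. -/
theorem exists_growth {H : X.Modules} (hH : CohB1.IsAmple H) {L : X.Modules} (hL : PicF.IsInvertible L)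
    (hg : OftenGrows n fun m => h0 k (CohB1.tensorPow L m)) :
    ∃ c : ℚ, 0 < c ∧ ∀ᶠ m : ℕ in atTop, c * (m : ℚ) ^ n ≤ h0 k (CohB1.tensorPow L m) :=
  NefBig.growth_of_forall_mono (NefBig.deg_genericPoint_of_dim hn) hH hL fun _ hA => exists_mono_ample k hn hL hg hA

include hn in
/-- No top cohomology in large multiples of a big module. -/
theorem exists_top_eq_zero {H : X.Modules} (hH : CohB1.IsAmple H) {L : X.Modules} (hL : PicF.IsInvertible L)
    (hg : OftenGrows n fun m => h0 k (CohB1.tensorPow L m)) (hn1 : 1 ≤ n) :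
    ∃ ν j₀ : ℕ, 0 < ν ∧ ∀ j, j₀ ≤ j → Module.finrank k (Coh.HH X (CohB1.tensorPow (CohB1.tensorPow L ν) j) n) = 0 := by
  haveI := CurveCohLib.isNoetherian_of_proper (k := k) (X := X)
  haveI : X.IsSeparated := AmpleVan.isSeparated_of_proper (A := k)
  obtain ⟨ν, φ, hν, hφ⟩ := exists_mono_ample k hn hL hg hH
  obtain ⟨H', hH', ⟨eH⟩⟩ := PicInv.exists_inverse hH.1
  have hHH : PicF.cl H * PicF.cl H' = 1 := by
    rw [← PicMul.cl_tensor, PicMul.one_def]; exact PicMul.cl_eq_iff.2 ⟨eH⟩
  let N := CohB1.tensorMod (CohB1.tensorPow L ν) H'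
  have hN : PicF.IsInvertible N := InvX.isInvertible_tensorMod (InvX.isInvertible_tensorPow hL ν) hH'
  obtain ⟨ψ, hψ⟩ := NefBig.mono_twist φ hH'
  have hσ : InvX.one (eH.inv ≫ ψ) ≠ 0 := haveI := hψ; NefBig.one_ne_zero_of_mono (eH.inv ≫ ψ)
  obtain ⟨m₀, hm₀⟩ := AmpleVan.exists_vanishing (A := k) hH (M := Coh.structureModule X) QCoh.isCoh_structureModule'
  refine ⟨ν, m₀, hν, fun j hj => ?_⟩
  obtain ⟨f, hf⟩ := NefBig.mono_pow hN hσ j
  have hP : PicF.IsInvertible (CohB1.tensorPow H j) := InvX.isInvertible_tensorPow hH.1 j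
  have hQ : PicF.IsInvertible (CohB1.tensorPow (CohB1.tensorPow L ν) j) :=
    InvX.isInvertible_tensorPow (InvX.isInvertible_tensorPow hL ν) j
  have hNj : PicF.IsInvertible (CohB1.tensorPow N j) := InvX.isInvertible_tensorPow hN j
  haveI := hf
  let s := InvX.one f
  have hs : s ≠ 0 := NefBig.one_ne_zero_of_mono f
  haveI := CurveAmple.mono_ofSect hNj hs
  let S := ShortComplex.mk (InvX.ofSect s) (cokernel.π (InvX.ofSect s)) (cokernel.condition _)
  have hS : S.ShortExact := .mk' (ShortComplex.exact_of_g_is_cokernel _ (cokernelIsCokernel _)) inferInstance inferInstance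
  obtain ⟨f₁, g₁, w₁, hS₁⟩ := NefBig.ses_twist hS hP
  have hc : Coh.IsCoh (cokernel (InvX.ofSect s)) :=
    QCoh.isCoh_cokernel QCoh.isCoh_structureModule'.1 (AmpleVan.isCoh_invertible hNj) _
  have hcP := AmpleVan.isCoh_tensor hc (AmpleVan.isCoh_invertible hP)
  have h3 : Subsingleton (Coh.HH X (CohB1.tensorMod (cokernel (InvX.ofSect s)) (CohB1.tensorPow H j)) n) :=
    Snapper.subsingleton_HH_of_dim_lt n ⟨_, QCoh.isClosed_support_of_isFT hc.1 hc.2⟩
      (dim_support_cokernel k hn hNj hs) _ hcP.1 (fun _ hx => support_tensor_left hx) n le_rfl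
  have h1 : Subsingleton (Coh.HH X (CohB1.tensorMod (Coh.structureModule X) (CohB1.tensorPow H j)) n) := by
    obtain ⟨q, rfl⟩ : ∃ q, n = q + 1 := ⟨n - 1, by omega⟩
    exact hm₀ j hj q
  haveI := QCoh.subsingleton_HH_X₂ hS₁ n h1 h3
  have e : PicF.cl (CohB1.tensorMod (CohB1.tensorPow N j) (CohB1.tensorPow H j)) =
      PicF.cl (CohB1.tensorPow (CohB1.tensorPow L ν) j) := by
    rw [PicMul.cl_tensor, PicMul.cl_tensorPow, PicMul.cl_tensorPow, PicMul.cl_tensorPow, PicMul.cl_tensor, ← mul_pow,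
      _root_.mul_assoc, mul_comm (PicF.cl H'), hHH, _root_.mul_one]
  rw [← (CurveCohLib.hhEquiv (k := k) (PicMul.cl_eq_iff.1 e).some n).finrank_eq]
  exact Module.finrank_zero_of_subsingleton

end Groth.Agent.BigVol
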