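import Groth.Agent.Lib.ProjRegularPn
import Groth.Agent.KFlatLib.Scheme.ProjModule
import Groth.Agent.AmpleVan.ThickPush
import Groth.Agent.QCoh.AffineCohom
import Groth.Agent.QCoh.Support
import Groth.Prelude.Def_Pic13

/-!
Castelnuovo–Mumford regularity for closed subschemes of projective space.
-/

set_option linter.style.haveILetI false
set_option linter.unusedSectionVars false
set_option backward.isDefEq.respectTransparency false
set_option backward.isDefEq.respectTransparency.types false
set_option maxHeartbeats 1000000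

universe u

open CategoryTheory CategoryTheory.Limits AlgebraicGeometry TopologicalSpace Opposite
open Groth.Agent.KFlatLib Groth.Agent.PnCoh.Finite

noncomputable section

namespace Groth.Agent.Pic13Regular

open Groth.Agent Groth.Agent.PnCoh

variable {k : Type u} [Field k] {n : ℕ} {X : Scheme.{u}} (i : X ⟶ CohB1.ProjSpace n k) [IsClosedImmersion i]
  (F : X.Modules)

/-- The projection formula for twists. -/
theorem push_twistOn (d : ℤ) :
    Nonempty ((Scheme.Modules.pushforward i).obj (Pic13.twistOn k i F d) ≅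
      CohB1.tensorMod ((Scheme.Modules.pushforward i).obj F) (Twist.twistProjSpace n k d)) :=
  ⟨(@asIso _ _ _ _ _ (KFlatLib.isIso_projMod_of_isClosedImmersion i F (Twist.twistProjSpace n k d))).symm⟩

variable {F} (hF : Coh.IsCoh F)

include hF in
theorem isCoh_pushF : Coh.IsCoh ((Scheme.Modules.pushforward i).obj F) := by
  haveI hP : IsNoetherian (Proj (CohB1.polyGrading n k)) := Proj16.isNoetherian_proj _
  haveI : IsNoetherian (CohB1.ProjSpace n k) := hP
  haveI : IsLocallyNoetherian X := LocallyOfFiniteType.isLocallyNoetherian i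
  exact QCoh.isCoh_pushforward_finite i hF

include hF in
theorem isCoh_twistOn (d : ℤ) : Coh.IsCoh (Pic13.twistOn k i F d) := by
  haveI hP : IsNoetherian (Proj (CohB1.polyGrading n k)) := Proj16.isNoetherian_proj _
  haveI : IsNoetherian (CohB1.ProjSpace n k) := hP
  haveI : IsLocallyNoetherian X := LocallyOfFiniteType.isLocallyNoetherian i
  exact AmpleVan.isCoh_tensor hF (CurveDeg.isCoh_of_isInvertible (PicClLib.isInvertible_pullback i
    (isInvertible_twist (ProjRegular.coords k n) ProjRegular.coords_mem ProjRegular.coords_cover d)))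

include hF in
/-- Cohomology of the twists, computed on projective space. -/
theorem subsingleton_iff (d : ℤ) (q : ℕ) :
    Subsingleton (Coh.HH X (Pic13.twistOn k i F d) q) ↔ Subsingleton (Coh.HH (CohB1.ProjSpace n k)
      (CohB1.tensorMod ((Scheme.Modules.pushforward i).obj F) (Twist.twistProjSpace n k d)) q) := by
  obtain ⟨e⟩ := QCoh.HH_push_of_isAffineHom i (isCoh_twistOn i hF d).1 q
  obtain ⟨e'⟩ := push_twistOn i F d
  refine e.toEquiv.subsingleton_congr.trans ⟨fun h => ?_, fun h => ?_⟩
  · exact QCoh.subsingleton_HH_of_iso e' q h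
  · exact QCoh.subsingleton_HH_of_iso e'.symm q h

include hF in
theorem reg0_of_isMRegular {m : ℤ} (h : Pic13.IsMRegular k i F m) :
    ProjRegular.Reg0 (𝒜 := CohB1.polyGrading n k)
      (CohB1.tensorMod ((Scheme.Modules.pushforward i).obj F) (Twist.twistProjSpace n k m)) := by
  intro q hq
  obtain ⟨φ⟩ := ProjRegular.twist_twist_iso ((Scheme.Modules.pushforward i).obj F) m (-(q : ℤ))
  refine QCoh.subsingleton_HH_of_iso φ.symm q ?_
  rw [show m + -(q : ℤ) = m - q by ring]
  exact (subsingleton_iff i hF _ q).1 (h q hq)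

include hF in
theorem vanish {m : ℤ} (h : Pic13.IsMRegular k i F m) (q : ℕ) (hq : 1 ≤ q) (r : ℤ) (hr : m - q ≤ r) :
    Subsingleton (Coh.HH X (Pic13.twistOn k i F r) q) := by
  obtain ⟨e, rfl⟩ : ∃ e : ℕ, r = m + ((e : ℤ) - q) := ⟨(r - (m - q)).toNat, by omega⟩
  obtain ⟨φ⟩ := ProjRegular.twist_twist_iso ((Scheme.Modules.pushforward i).obj F) m ((e : ℤ) - q)
  exact (subsingleton_iff i hF _ q).2 (QCoh.subsingleton_HH_of_iso φ q
    (ProjRegular.reg_add ProjRegular.coords_mem ProjRegular.coords_cover (reg0_of_isMRegular i hF h) e q hq))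

include hF in
theorem isMRegular_of_le {m : ℤ} (h : Pic13.IsMRegular k i F m) {r : ℤ} (hr : m ≤ r) :
    Pic13.IsMRegular k i F r := fun q hq => vanish i hF h q hq _ (by omega)

include hF in
theorem isGloballyGenerated_twistOn {m : ℤ} (h : Pic13.IsMRegular k i F m) :
    Curv2.IsGloballyGenerated (Pic13.twistOn k i F m) := by
  haveI hP : IsNoetherian (Proj (CohB1.polyGrading n k)) := Proj16.isNoetherian_proj _
  have hG := isCoh_pushF i hF
  obtain ⟨ι, p, hp⟩ := ProjRegular.isGloballyGenerated ProjRegular.coords_mem ProjRegular.coords_cover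
    ProjRegular.coords_noetherian (ProjRegular.good_twistBy hG m) (reg0_of_isMRegular i hF h)
  obtain ⟨e⟩ := push_twistOn i F m
  haveI := AmpleVan.faithful_push i
  haveI : Epi ((Scheme.Modules.pullbackPushforwardAdjunction i).counit.app (Pic13.twistOn k i F m)) :=
    Adjunction.counit_epi_of_R_faithful _ _
  let p' : (SheafOfModules.free ι : (CohB1.ProjSpace n k).Modules) ⟶
      (Scheme.Modules.pushforward i).obj (Pic13.twistOn k i F m) := p ≫ e.inv
  haveI : Epi p' := by haveI := hp; exact epi_comp _ _
  haveI : Epi ((Scheme.Modules.pullback i).map p') := inferInstance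
  exact ⟨ι, (SheafOfModules.pullbackObjFreeIso i.toRingCatSheafHom ι).inv ≫
    ((Scheme.Modules.pullback i).map p' ≫
      (Scheme.Modules.pullbackPushforwardAdjunction i).counit.app (Pic13.twistOn k i F m)), inferInstance⟩

end Groth.Agent.Pic13Regular
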