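import Groth.Agent.Lib.Pic13Regular
import Groth.Agent.QCoh.HHExact
import Groth.Agent.PnCoh.Finite.HHLin
import Groth.Agent.AmpleVan.Uniform
import Groth.Agent.PnCoh.Chow.Proper
import Groth.Agent.CurveCohLib.Proper
import Groth.Agent.HilbPoly.EllSimple

/-!
Sequences `0 → F(-1) → F → G → 0` with `G` regular: the twists of `F`.
-/

set_option linter.style.haveILetI false
set_option linter.unusedSectionVars false
set_option backward.isDefEq.respectTransparency false
set_option backward.isDefEq.respectTransparency.types false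
set_option maxHeartbeats 1000000

universe u

open CategoryTheory CategoryTheory.Limits AlgebraicGeometry TopologicalSpace Opposite
open CategoryTheory.Abelian
open Groth.Agent.KFlatLib Groth.Agent.PnCoh.Finite

noncomputable section

namespace Groth.Agent.RegularSeq

open Groth.Agent Groth.Agent.PnCoh Groth.Agent.ProjRegular

section Long

theorem H_surjective {Y : TopCat.{u}} {T : ShortComplex (CohTop.Ab Y)} (hT : T.ShortExact) (q : ℕ)
    (h : Subsingleton (CohTop.H T.X₃ q)) : Function.Surjective (Sheaf.H.map T.f q) := fun x => by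
  obtain ⟨y, hy⟩ := Ext.covariant_sequence_exact₂ _ hT x (h.elim _ _)
  exact ⟨y, hy⟩

theorem H_exists_connecting {Y : TopCat.{u}} {T : ShortComplex (CohTop.Ab Y)} (hT : T.ShortExact) (q : ℕ)
    (x : CohTop.H T.X₁ (q + 1)) (hx : Sheaf.H.map T.f (q + 1) x = 0) :
    ∃ z : CohTop.H T.X₃ q, QCoh.Ab.connecting hT q z = x := by
  obtain ⟨z, hz⟩ := Ext.covariant_sequence_exact₁ _ hT x hx rfl
  exact ⟨z, hz⟩

theorem H_map_connecting {Y : TopCat.{u}} {T : ShortComplex (CohTop.Ab Y)} (hT : T.ShortExact) (q : ℕ)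
    (z : CohTop.H T.X₃ q) : Sheaf.H.map T.f (q + 1) (QCoh.Ab.connecting hT q z) = 0 := by
  have h := congrArg (fun y => Ext.comp z y (show q + 1 = q + 1 from rfl)) hT.extClass_comp
  simp only [Ext.comp_zero] at h
  refine Eq.trans ?_ h
  exact Ext.comp_assoc_of_third_deg_zero _ _ _ _

variable {X : Scheme.{u}} (A : Type u) [CommRing A] [X.Over (Spec (CommRingCat.of A))]
  {S : ShortComplex X.Modules} (hS : S.ShortExact)

include hS in
theorem surjective_mapLin (q : ℕ) (h : Subsingleton (Coh.HH X S.X₃ q)) :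
    Function.Surjective (mapLin A S.f q) := fun x => by
  exact H_surjective (Y := X.toPresheafedSpace.carrier) (QCoh.toAb_shortExact hS) q h x

include hS in
theorem injective_mapLin (q : ℕ) (h : ∀ z : Coh.HH X S.X₃ q, deltaLin A hS q z = 0) :
    Function.Injective (mapLin A S.f (q + 1)) := by
  rw [injective_iff_map_eq_zero]
  intro x hx
  obtain ⟨z, hz⟩ := H_exists_connecting (Y := X.toPresheafedSpace.carrier) (QCoh.toAb_shortExact hS) q x hx
  exact hz.symm.trans (h z)

include hS in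
theorem injective_mapLin_of_subsingleton (q : ℕ) (h : Subsingleton (Coh.HH X S.X₃ q)) :
    Function.Injective (mapLin A S.f (q + 1)) :=
  injective_mapLin A hS q fun z => by rw [h.elim z 0, map_zero]

include hS in
theorem injective_mapLin_one (h : Function.Surjective (S.g.app ⊤)) :
    Function.Injective (mapLin A S.f 1) :=
  injective_mapLin A hS 0 fun z => by
    let T := S.map (QCoh.toAbFunctor X)
    obtain ⟨w, hw⟩ := h (Sheaf.H.equiv₀ T.X₃ isTerminalTop z)
    refine (QCoh.Ab.connecting_eq_zero_iff (X := X.toPresheafedSpace.carrier)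
      (QCoh.toAb_shortExact hS) 0 z).2 ⟨(Sheaf.H.equiv₀ T.X₂ isTerminalTop).symm w, ?_⟩
    apply (Sheaf.H.equiv₀ T.X₃ isTerminalTop).injective
    refine ((Sheaf.H.equiv₀_naturality isTerminalTop T.g _).symm).trans ?_
    rw [AddEquiv.apply_symm_apply]
    exact hw

include hS in
theorem surjective_of_injective (h : Function.Injective (mapLin A S.f 1)) :
    Function.Surjective (S.g.app ⊤) := fun q => by
  let T := S.map (QCoh.toAbFunctor X)
  let z : Coh.HH X S.X₃ 0 := (Sheaf.H.equiv₀ T.X₃ isTerminalTop).symm q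
  have hz : mapLin A S.f 1 (deltaLin A hS 0 z) = 0 := by
    show Sheaf.H.map T.f 1 (QCoh.Ab.connecting (X := X.toPresheafedSpace.carrier) (QCoh.toAb_shortExact hS) 0 z) = 0
    exact H_map_connecting (Y := X.toPresheafedSpace.carrier) (QCoh.toAb_shortExact hS) 0 z
  obtain ⟨y, hy⟩ := exists_of_deltaLin_eq_zero A hS 0 (h (hz.trans (map_zero _).symm))
  refine ⟨Sheaf.H.equiv₀ T.X₂ isTerminalTop y, ?_⟩
  refine (Sheaf.H.equiv₀_naturality isTerminalTop T.g y).trans ?_
  rw [show Sheaf.H.map T.g 0 y = z from hy]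
  exact AddEquiv.apply_symm_apply _ _

/-- Isomorphic modules have linearly equivalent cohomology. -/
noncomputable def equivOfIso {M N : X.Modules} (e : M ≅ N) (q : ℕ) : Coh.HH X M q ≃ₗ[A] Coh.HH X N q :=
  LinearEquiv.ofLinear (mapLin A e.hom q) (mapLin A e.inv q)
    (LinearMap.ext fun x => (map_map (Y := X.toPresheafedSpace.carrier)
      (((QCoh.toAbFunctor X).map_comp e.inv e.hom).symm.trans (by rw [e.inv_hom_id, CategoryTheory.Functor.map_id])) q x).trans
        (Sheaf.H.map_id_apply ..))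
    (LinearMap.ext fun x => (map_map (Y := X.toPresheafedSpace.carrier)
      (((QCoh.toAbFunctor X).map_comp e.hom e.inv).symm.trans (by rw [e.hom_inv_id, CategoryTheory.Functor.map_id])) q x).trans
        (Sheaf.H.map_id_apply ..))

end Long

section Pn

variable {k : Type u} [Field k] {n : ℕ} {F G : (Proj (CohB1.polyGrading n k)).Modules}

local notation "𝒢" => CohB1.polyGrading n k

local instance : (Proj 𝒢).Over (Spec (CommRingCat.of k)) :=
  inferInstanceAs ((CohB1.ProjSpace n k).Over (Spec (CommRingCat.of k)))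

local instance : IsProper ((Proj 𝒢) ↘ Spec (CommRingCat.of k)) := PnCoh.Chow.isProper_toSpec n k

local instance : IsProper (CohB1.ProjSpace n k ↘ Spec (CommRingCat.of k)) := PnCoh.Chow.isProper_toSpec n k

variable (hF : Coh.IsCoh F) (f : tw F (-1) ⟶ F) (g : F ⟶ G) (hfg : f ≫ g = 0)
  (hS : (ShortComplex.mk f g hfg).ShortExact)
  (m : ℤ) (hG : ∀ q : ℕ, 1 ≤ q → ∀ r : ℤ, m - q ≤ r → Subsingleton (Coh.HH (Proj (CohB1.polyGrading n k)) (tw G r) q))

/-- The twisted sequence. -/
abbrev seq (r : ℤ) : ShortComplex (Proj 𝒢).Modules :=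
  (ShortComplex.mk f g hfg).map (DCoh.tensorBi.flip.obj (Twist.twist 𝒢 r))

include hS in
theorem seq_exact (r : ℤ) : (seq f g hfg r).ShortExact :=
  shortExact_twistBy (𝒜 := 𝒢) (coords k n) coords_mem coords_cover r hS

theorem X₁_iso (r : ℤ) : Nonempty ((seq f g hfg r).X₁ ≅ tw F (r - 1)) := by
  obtain ⟨e⟩ := twist_twist_iso (k := k) (n := n) F (-1) r
  rw [show r - 1 = -1 + r by ring]
  exact ⟨e⟩

include hF in
theorem finite_H (r : ℤ) (q : ℕ) : Module.Finite k (Coh.HH (Proj 𝒢) (tw F r) q) :=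
  CurveCohLib.finite_HH (k := k) (isCoh_twistBy hF r) q

include hF in
theorem eventually_zero : ∃ R : ℤ, ∀ r, R ≤ r → ∀ q, Subsingleton (Coh.HH (Proj 𝒢) (tw F r) (q + 1)) := by
  obtain ⟨d₀, hd⟩ := AmpleVan.exists_vanishing (A := k) (X := Proj 𝒢)
    (HilbPoly.isAmple_twist_one_pn (k := k) n) (M := F) hF
  refine ⟨(d₀ : ℤ), fun r hr q => ?_⟩
  lift r to ℕ using le_trans (Int.natCast_nonneg d₀) hr
  obtain ⟨e⟩ := twist_tensorPow_iso (𝒜 := 𝒢) (coords k n) coords_mem coords_cover r
  have h1 : Subsingleton (Coh.HH (Proj 𝒢)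
      ((DCoh.tensorBi.obj F).obj (CohB1.tensorPow (Twist.twist 𝒢 1) r)) (q + 1)) := hd r (by exact_mod_cast hr) q
  exact QCoh.subsingleton_HH_of_iso (X := Proj 𝒢) ((DCoh.tensorBi.obj F).mapIso e.symm) (q + 1) h1

include hS hG in
theorem high_step (q : ℕ) (r : ℤ) (hr : m - ((q + 2 : ℕ) : ℤ) ≤ r)
    (h : Subsingleton (Coh.HH (Proj 𝒢) (tw F (r + 1)) (q + 2))) :
    Subsingleton (Coh.HH (Proj 𝒢) (tw F r) (q + 2)) := by
  obtain ⟨e⟩ := X₁_iso f g hfg (r + 1)
  rw [show r + 1 - 1 = r by ring] at e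
  have hi := injective_mapLin_of_subsingleton k (seq_exact f g hfg hS (r + 1)) (q + 1)
    (hG (q + 1) (by omega) (r + 1) (by push_cast at hr ⊢; omega))
  haveI : Subsingleton (Coh.HH (Proj 𝒢) (seq f g hfg (r + 1)).X₂ (q + 2)) := h
  exact QCoh.subsingleton_HH_of_iso e _ hi.subsingleton

include hF hS hG in
theorem high_zero (q : ℕ) (r : ℤ) (hr : m - ((q + 2 : ℕ) : ℤ) ≤ r) :
    Subsingleton (Coh.HH (Proj 𝒢) (tw F r) (q + 2)) := by
  obtain ⟨R, hR⟩ := eventually_zero hF
  suffices ∀ d : ℕ, ∀ r : ℤ, m - ((q + 2 : ℕ) : ℤ) ≤ r → R ≤ r + d →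
      Subsingleton (Coh.HH (Proj 𝒢) (tw F r) (q + 2)) from
    this (R - r).toNat r hr (by omega)
  intro d
  induction d with
  | zero => exact fun r _ h => hR r (by simpa using h) (q + 1)
  | succ d ih => exact fun r hr h => high_step f g hfg hS m hG q r hr (ih (r + 1) (by omega) (by push_cast at h ⊢; omega))

/-- The first Betti number of a twist. -/
noncomputable abbrev h1 (F : (Proj (CohB1.polyGrading n k)).Modules) (r : ℤ) : ℕ :=
  Module.finrank k (Coh.HH (Proj 𝒢) (tw F r) 1)

include hfg in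
theorem h1_X₁ (r : ℤ) : Module.finrank k (Coh.HH (Proj 𝒢) (seq f g hfg r).X₁ 1) = h1 F (r - 1) :=
  (equivOfIso k (X₁_iso f g hfg r).some 1).finrank_eq

include hF hS hG in
theorem h1_le (r : ℤ) (hr : m - 1 ≤ r) : h1 F r ≤ h1 F (r - 1) := by
  haveI := finite_H hF (r - 1) 1
  haveI : Module.Finite k (Coh.HH (Proj 𝒢) (seq f g hfg r).X₁ 1) :=
    Module.Finite.equiv (equivOfIso k (X₁_iso f g hfg r).some 1).symm
  rw [← h1_X₁ f g hfg r]
  exact LinearMap.finrank_le_finrank_of_surjective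
    (surjective_mapLin k (seq_exact f g hfg hS r) 1 (hG 1 le_rfl r (by omega)))

include hG in
theorem surj_succ (r : ℤ) (hr : m ≤ r) (h : Function.Surjective ((seq f g hfg r).g.app ⊤)) :
    Function.Surjective ((seq f g hfg (r + 1)).g.app ⊤) := by
  intro z
  let l := (Finset.univ : Finset (ULift.{u} (Fin (n + 1)))).toList
  have hsurj := KoszulChop.surjective_dd_zero (tw G) (mulX coords_mem G) (mulX_comm coords_mem) l
    (covered coords_mem coords_cover) (r + 1) (fun p => by
      refine KoszulChop.subsingleton_HH_obj (tw G) _ _ _ _ ?_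
      exact hG (p + 1) (by omega) (r + 1 - ((p + 2 : ℕ) : ℤ)) (by push_cast; omega))
  haveI := KoszulChop.isIso_e0 (tw G) l (r + 1)
  obtain ⟨z', hz'⟩ := (ConcreteCategory.bijective_of_isIso ((KoszulChop.e0 (tw G) l (r + 1)).app ⊤)).2 z
  obtain ⟨w, hw⟩ := hsurj z'
  let R : AddSubgroup Γ(tw G (r + 1), ⊤) := ((seq f g hfg (r + 1)).g.app ⊤).hom.range
  have : z ∈ R := by
    rw [← hz', ← hw]
    refine KoszulChop.dd_zero_mem (tw G) (mulX coords_mem G) (secTop (Proj 𝒢)) l (r + 1) R
      (fun j _ t => ?_) w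
    have hsur' : Function.Surjective (((DCoh.tensorBi.map g).app (Twist.twist 𝒢 (r + 1 - 1))).app ⊤) := by
      rw [show r + 1 - 1 = r by ring]; exact h
    obtain ⟨v, hv⟩ := hsur' t
    refine ⟨(mulX coords_mem F j (r + 1)).app ⊤ v, ?_⟩
    have hn := (DCoh.tensorBi.map g).naturality (ProjShift.xHom (coords_mem (k := k) j) (r + 1))
    exact ((congrArg (fun φ : tw F (r + 1 - 1) ⟶ tw G (r + 1) => φ.app ⊤ v) hn)).trans (congrArg _ hv)
  exact this

include hF hS hG in
theorem h1_const_of_surj (r : ℤ) (hr : m ≤ r) (h : Function.Surjective ((seq f g hfg r).g.app ⊤)) :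
    h1 F r = h1 F (r - 1) := by
  haveI := finite_H hF (r - 1) 1
  rw [← h1_X₁ f g hfg r]
  exact (LinearEquiv.ofBijective _ ⟨injective_mapLin_one k (seq_exact f g hfg hS r) h,
    surjective_mapLin k (seq_exact f g hfg hS r) 1 (hG 1 le_rfl r (by omega))⟩).finrank_eq.symm

include hF hS hG in
theorem h1_zero_of_eq (r : ℤ) (hr : m ≤ r) (h : h1 F r = h1 F (r - 1)) : h1 F (r - 1) = 0 := by
  have hr' := seq_exact f g hfg hS r
  haveI : Module.Finite k (Coh.HH (Proj 𝒢) (seq f g hfg r).X₁ 1) := by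
    haveI := finite_H hF (r - 1) 1
    exact Module.Finite.equiv (equivOfIso k (X₁_iso f g hfg r).some 1).symm
  haveI : Module.Finite k (Coh.HH (Proj 𝒢) (seq f g hfg r).X₂ 1) := finite_H hF r 1
  have hinj : Function.Injective (mapLin k (seq f g hfg r).f 1) :=
    (LinearMap.injective_iff_surjective_of_finrank_eq_finrank
      (show _ = Module.finrank k (Coh.HH (Proj 𝒢) (seq f g hfg r).X₂ 1) by rw [h1_X₁]; exact h.symm)).2
      (surjective_mapLin k hr' 1 (hG 1 le_rfl r (by omega)))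
  have hall : ∀ e : ℕ, Function.Surjective ((seq f g hfg (r + e)).g.app ⊤) ∧ h1 F (r + e) = h1 F (r - 1) := by
    intro e
    induction e with
    | zero =>
      have hs := surjective_of_injective k hr' hinj
      rw [show r + ((0 : ℕ) : ℤ) = r by simp]
      exact ⟨hs, h⟩
    | succ e ih =>
      have hs := surj_succ f g hfg m hG (r + e) (by omega) ih.1
      rw [show r + ((e + 1 : ℕ) : ℤ) = r + e + 1 by push_cast; ring]
      refine ⟨hs, ?_⟩
      rw [h1_const_of_surj hF f g hfg hS m hG (r + e + 1) (by omega) hs, show r + (e : ℤ) + 1 - 1 = r + e by ring]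
      exact ih.2
  obtain ⟨R, hR⟩ := eventually_zero hF
  rw [← (hall (R - r).toNat).2]
  haveI : Subsingleton (Coh.HH (Proj 𝒢) (tw F (r + ((R - r).toNat : ℤ))) 1) := hR _ (by omega) 0
  exact Module.finrank_zero_of_subsingleton

include hF hS hG in
theorem h1_zero (r : ℤ) (hr : m - 1 + (h1 F (m - 1) : ℤ) ≤ r) : h1 F r = 0 := by
  suffices ∀ e : ℕ, h1 F (m - 1 + e) ≤ h1 F (m - 1) - e by
    obtain ⟨e, rfl⟩ : ∃ e : ℕ, r = m - 1 + e := ⟨(r - (m - 1)).toNat, by omega⟩
    have := this e; omega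
  intro e
  induction e with
  | zero => simp
  | succ e ih =>
    rw [show m - 1 + ((e + 1 : ℕ) : ℤ) = m + e by push_cast; ring]
    have hle := h1_le hF f g hfg hS m hG (m + e) (by omega)
    rw [show m + (e : ℤ) - 1 = m - 1 + e by ring] at hle
    rcases hle.lt_or_eq with hlt | heq
    · omega
    · have := h1_zero_of_eq hF f g hfg hS m hG (m + e) (by omega) (by rw [show m + (e : ℤ) - 1 = m - 1 + e by ring]; exact heq)
      rw [show m + (e : ℤ) - 1 = m - 1 + e by ring] at this
      omega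

include hF hS hG in
theorem subsingleton_one (r : ℤ) (hr : m - 1 + (h1 F (m - 1) : ℤ) ≤ r) :
    Subsingleton (Coh.HH (Proj 𝒢) (tw F r) 1) := by
  haveI := finite_H hF r 1
  exact (Module.finrank_zero_iff (R := k)).1 (h1_zero hF f g hfg hS m hG r hr)

end Pn

end Groth.Agent.RegularSeq
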