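import Groth.Agent.Lib.AmpleEmbedPow
import Groth.Agent.Lib.Pic13Regular
import Groth.Agent.Pic13Lib.EulerInv
import Groth.Agent.Pic13Lib.NumTrivBC
import Groth.Agent.Lib.GenLocusGG

/-!
Uniform vanishing and generation of large twists of numerically trivial modules, and general sections
avoiding finitely many points.
-/

set_option autoImplicit false
set_option linter.style.haveILetI false
set_option linter.unusedSectionVars false
set_option backward.isDefEq.respectTransparency false
set_option backward.isDefEq.respectTransparency.types false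
set_option maxHeartbeats 1000000

universe u

open CategoryTheory CategoryTheory.Limits AlgebraicGeometry TopologicalSpace Opposite

noncomputable section

namespace Groth.Agent.NumTrivTw

open Groth.Agent Groth.Agent.H23 Groth.Agent.Pic13Lib Groth.Agent.Pic13Lib.NumTriv
open scoped Groth.Agent.H23.PicMul

section Avoid

variable (k : Type u) [Field k] [Infinite k] {X : Scheme.{u}} [X.Over (Spec (CommRingCat.of k))]

include k in
/-- A section of a generated invertible module generating at finitely many given points. -/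
theorem exists_section_avoid {N : X.Modules} (hN : PicF.IsInvertible N) (hg : Curv2.IsGloballyGenerated N)
    {Z : Set X} (hZ : Z.Finite) : ∃ s : Γ(N, ⊤), Z ⊆ TrivBasic.locus s := by
  classical
  letI : Module k Γ(N, ⊤) := Module.compHom _
    (show k →+* Γ(X, ⊤) from Coh.toGlobal (X ↘ Spec (CommRingCat.of k)))
  choose V hV e he using fun z : X => InvX.exists_frame hN z
  have hcoord : ∀ (z : X) (s : Γ(N, ⊤)), ∃ c : Γ(X, V z), AModX.res N (le_top : V z ≤ ⊤) s = c • e z ∧
      (z ∈ TrivBasic.locus s ↔ IsUnit (X.presheaf.germ (V z) z (hV z) c)) := fun z s => by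
    obtain ⟨c, hc⟩ := (he z).exists_coord le_rfl (AModX.res N (le_top : V z ≤ ⊤) s)
    rw [AModX.res_self] at hc
    refine ⟨c, hc, AmpleX.mem_genLocus_iff (InvX.ofSect s) (he z) ?_ (hV z)⟩
    rw [InvX.one_ofSect]
    exact hc
  choose c hc hmem using hcoord
  have huniq : ∀ z (r r' : Γ(X, V z)), r • e z = r' • e z → r = r' := fun z r r' h =>
    (he z).coord_unique le_rfl (by rwa [AModX.res_self])
  let W : X → Submodule k Γ(N, ⊤) := fun z =>
    { carrier := {s | ¬ IsUnit (X.presheaf.germ (V z) z (hV z) (c z s))}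
      add_mem' := fun {a b} ha hb => by
        show ¬ IsUnit (X.presheaf.germ (V z) z (hV z) (c z (a + b)))
        rw [show c z (a + b) = c z a + c z b from huniq z _ _ (by rw [add_smul, ← hc, ← hc, ← hc, map_add]), map_add]
        exact IsLocalRing.nonunits_add ha hb
      zero_mem' := by
        show ¬ IsUnit (X.presheaf.germ (V z) z (hV z) (c z 0))
        rw [show c z 0 = 0 from huniq z _ _ (by rw [zero_smul, ← hc, map_zero]), map_zero]
        exact not_isUnit_zero
      smul_mem' := fun a s hs => by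
        let g : Γ(X, ⊤) := Coh.toGlobal (X ↘ Spec (CommRingCat.of k)) a
        show ¬ IsUnit (X.presheaf.germ (V z) z (hV z) (c z (g • s)))
        rw [show c z (g • s) = AModX.resR (le_top : V z ≤ ⊤) g * c z s from huniq z _ _ (by
          rw [mul_smul, ← hc, ← hc, AModX.res_smul]), map_mul]
        exact fun h => hs (isUnit_of_mul_isUnit_right h) }
  haveI := hZ.to_subtype
  obtain ⟨s, hs⟩ : ∃ s, ∀ z : Z, s ∉ W z := by
    by_contra! h
    obtain ⟨z, hz⟩ := Subspace.exists_eq_top_of_iUnion_eq_univ (p := fun z : Z => W z)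
      (Set.eq_univ_of_forall fun s => Set.mem_iUnion.2 (h s))
    obtain ⟨t, ht⟩ := GenLocusGG.exists_mem_locus hN hg z
    exact (show t ∈ W z from hz ▸ Submodule.mem_top) ((hmem z t).1 ht)
  exact ⟨s, fun z hz => (hmem z s).2 (not_not.1 (hs ⟨z, hz⟩))⟩

end Avoid

variable (k : Type u) [Field k] [IsAlgClosed k] {X : Scheme.{u}} [X.Over (Spec (CommRingCat.of k))]
  [IsProper (X ↘ Spec (CommRingCat.of k))]

/-- Large twists of the numerically trivial twists of a module are regular. -/
theorem exists_regular {L : X.Modules} (hL : CohB1.IsAmple L) {G : X.Modules} (hG : Coh.IsCoh G) :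
    ∃ (n : ℕ) (i : X ⟶ CohB1.ProjSpace n k), IsClosedImmersion i ∧ ∃ d₀ : ℕ, ∀ d, d₀ ≤ d →
      ∀ N : X.Modules, IsNT k N → ∃ (M : X.Modules) (t : ℤ), Coh.IsCoh M ∧ Pic13.IsMRegular k i M t ∧
        PicF.cl (Pic13.twistOn k i M t) = PicF.cl G * PicF.cl L ^ d * PicF.cl N := by
  haveI := CurveCohLib.isNoetherian_of_proper (k := k) (X := X)
  obtain ⟨n, i, b, hb, hci, hi, ⟨τ⟩⟩ := AmpleEmbedPow.exists_closedImmersion (X ↘ Spec (CommRingCat.of k)) hL
  haveI := hci
  have hF : ∀ r : ℕ, Coh.IsCoh (CohB1.tensorMod G (CohB1.tensorPow L r)) := fun r =>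
    AmpleVan.isCoh_tensor hG (AmpleVan.isCoh_invertible (InvX.isInvertible_tensorPow hL.1 r))
  choose m hm using fun r : ℕ => (unif i hi (hF r)).2
  refine ⟨n, i, hci, b * ((Finset.range b).sup (fun r => (m r).toNat) + 1), fun d hd N hN => ?_⟩
  have hr : d % b < b := Nat.mod_lt _ hb
  let t : ℕ := d / b
  have ht : (Finset.range b).sup (fun r => (m r).toNat) + 1 ≤ t := (Nat.le_div_iff_mul_le hb).2 (by rwa [mul_comm])
  let M := CohB1.tensorMod (CohB1.tensorMod G (CohB1.tensorPow L (d % b))) N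
  have hMc : Coh.IsCoh M := AmpleVan.isCoh_tensor (hF _) (AmpleVan.isCoh_invertible hN.1)
  have hreg : Pic13.IsMRegular k i M (m (d % b)) := hm (d % b) N hN M (by rw [PicMul.cl_tensor])
  have hmt : m (d % b) ≤ (t : ℤ) := by
    have h1 : (m (d % b)).toNat ≤ (Finset.range b).sup (fun r => (m r).toNat) :=
      Finset.le_sup (f := fun r => (m r).toNat) (Finset.mem_range.2 hr)
    omega
  refine ⟨M, t, hMc, Pic13Regular.isMRegular_of_le i hMc hreg hmt, ?_⟩
  have h1 : ∀ e : ℕ, tw i (e : ℤ) = PicF.cl L ^ (b * e) := fun e => by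
    induction e with
    | zero => rw [Nat.cast_zero, tw_zero, mul_zero, pow_zero]
    | succ e ih =>
      have h0 : tw i 1 = PicF.cl L ^ b := by
        rw [tw_eq, ← PicMul.cl_tensorPow]
        exact PicMul.cl_eq_iff.2 ⟨τ⟩
      rw [Nat.cast_succ, tw_add, ih, h0, ← pow_add, Nat.mul_succ]
  rw [cl_twistOn, h1, PicMul.cl_tensor, PicMul.cl_tensor, PicMul.cl_tensorPow]
  rw [show (PicF.cl G * PicF.cl L ^ (d % b) * PicF.cl N) * PicF.cl L ^ (b * t) =
    PicF.cl G * (PicF.cl L ^ (d % b) * PicF.cl L ^ (b * t)) * PicF.cl N by ac_rfl, ← pow_add, Nat.mod_add_div]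

/-- **Uniform vanishing.** -/
theorem exists_vanishing {L : X.Modules} (hL : CohB1.IsAmple L) {G : X.Modules} (hG : Coh.IsCoh G) :
    ∃ d₀ : ℕ, ∀ d, d₀ ≤ d → ∀ N : X.Modules, IsNT k N → ∀ q,
      Subsingleton (Coh.HH X (CohB1.tensorMod (CohB1.tensorMod G (CohB1.tensorPow L d)) N) (q + 1)) := by
  obtain ⟨n, i, hci, d₀, h⟩ := exists_regular k hL hG
  haveI := hci
  refine ⟨d₀, fun d hd N hN q => ?_⟩
  obtain ⟨M, t, hM, hreg, hcl⟩ := h d hd N hN
  obtain ⟨e⟩ := PicMul.cl_eq_iff.1 (show PicF.cl (CohB1.tensorMod (CohB1.tensorMod G (CohB1.tensorPow L d)) N) =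
    PicF.cl (Pic13.twistOn k i M t) by rw [hcl, PicMul.cl_tensor, PicMul.cl_tensor, PicMul.cl_tensorPow])
  exact QCoh.subsingleton_HH_of_iso e.symm _ (Pic13Regular.vanish i hM hreg (q + 1) (by omega) t (by omega))

/-- **Uniform generation.** -/
theorem exists_generated {L : X.Modules} (hL : CohB1.IsAmple L) :
    ∃ d₀ : ℕ, ∀ d, d₀ ≤ d → ∀ N : X.Modules, IsNT k N →
      Curv2.IsGloballyGenerated (CohB1.tensorMod (CohB1.tensorPow L d) N) := by
  haveI := CurveCohLib.isNoetherian_of_proper (k := k) (X := X)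
  obtain ⟨n, i, hci, d₀, h⟩ := exists_regular k hL (G := Coh.structureModule X) QCoh.isCoh_structureModule'
  haveI := hci
  refine ⟨d₀, fun d hd N hN => ?_⟩
  obtain ⟨M, t, hM, hreg, hcl⟩ := h d hd N hN
  refine AmpleX.isGloballyGenerated_of_iso (PicMul.cl_eq_iff.1 ?_).some (Pic13Regular.isGloballyGenerated_twistOn i hM hreg)
  rw [hcl, PicMul.cl_tensor, PicMul.cl_tensorPow, ← PicMul.one_def, _root_.one_mul]

end Groth.Agent.NumTrivTw
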