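import Groth.Agent.Lib.SectCut
import Groth.Agent.Lib.NumTrivVanish
import Groth.Agent.Lib.BigVol

/-!
Numerically trivial twists change the growth of cohomology only in lower order, uniformly.
-/

set_option autoImplicit false
set_option linter.style.haveILetI false
set_option linter.unusedSectionVars false
set_option backward.isDefEq.respectTransparency false
set_option backward.isDefEq.respectTransparency.types false
set_option maxHeartbeats 1000000

universe u

open CategoryTheory CategoryTheory.Limits AlgebraicGeometry TopologicalSpace Opposite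

noncomputable section

namespace Groth.Agent.NumTrivTw

open Groth.Agent Groth.Agent.H23 Groth.Agent.Pic13Lib.NumTriv Groth.Agent.CohGrowth Groth.Agent.UniformGrowth
open scoped Groth.Agent.H23.PicMul

/-- A closed set of dimension below one consists of closed points. -/
theorem isClosed_singleton_of_dim_lt_one {Y : Type*} [TopologicalSpace Y] [QuasiSober Y] [T0Space Y] {C : Set Y}
    (hC : IsClosed C) (hd : topologicalKrullDim ↥C < ((1 : ℕ) : WithBot ℕ∞)) {x : Y} (hx : x ∈ C) :
    IsClosed ({x} : Set Y) := by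
  refine isClosed_of_closure_subset fun y hy => by_contra fun hne => ?_
  have hyC : y ∈ C := hC.closure_subset_iff.2 (Set.singleton_subset_iff.2 hx) hy
  let a : IrreducibleCloseds ↥C := ⟨closure {⟨y, hyC⟩}, isIrreducible_singleton.closure, isClosed_closure⟩
  let b : IrreducibleCloseds ↥C := ⟨closure {⟨x, hx⟩}, isIrreducible_singleton.closure, isClosed_closure⟩
  have hab : a < b := by
    refine lt_of_le_of_ne (closure_minimal (Set.singleton_subset_iff.2 ?_) isClosed_closure) fun he => ?_
    · exact specializes_iff_mem_closure.1 ((subtype_specializes_iff ⟨x, hx⟩ ⟨y, hyC⟩).2 (specializes_iff_mem_closure.2 hy))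
    · have h := (IsGenericPoint.eq (show IsGenericPoint (⟨y, hyC⟩ : ↥C) (b : Set ↥C) from congrArg SetLike.coe he)
        (show IsGenericPoint (⟨x, hx⟩ : ↥C) (b : Set ↥C) from rfl))
      exact hne (congrArg Subtype.val h)
  have h1 : ((1 : ℕ) : WithBot ℕ∞) ≤ topologicalKrullDim ↥C := by
    have := Order.LTSeries.length_le_krullDim ((RelSeries.singleton _ a).snoc b (by simpa using hab))
    simpa [topologicalKrullDim] using this
  exact absurd hd (not_lt.2 h1)

variable (k : Type u) [Field k] [IsAlgClosed k] {X : Scheme.{u}} [X.Over (Spec (CommRingCat.of k))]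
  [IsProper (X ↘ Spec (CommRingCat.of k))]

theorem finrank_cl {M N : X.Modules} (h : PicF.cl M = PicF.cl N) (j : ℕ) :
    Module.finrank k (Coh.HH X M j) = Module.finrank k (Coh.HH X N j) :=
  (CurveCohLib.hhEquiv (k := k) (PicMul.cl_eq_iff.1 h).some j).finrank_eq

/-- Short exact sequences give the three inequalities. -/
theorem les_ineq {A B C : X.Modules} (h : Snapper.CohSES A B C) (j : ℕ) :
    Module.finrank k (Coh.HH X B j) ≤ Module.finrank k (Coh.HH X A j) + Module.finrank k (Coh.HH X C j) ∧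
      Module.finrank k (Coh.HH X A j) ≤ Module.finrank k (Coh.HH X B j) + Module.finrank k (Coh.HH X C (j - 1)) ∧
      Module.finrank k (Coh.HH X C j) ≤ Module.finrank k (Coh.HH X B j) + Module.finrank k (Coh.HH X A (j + 1)) := by
  obtain ⟨hA, hB, hC, f, g, e, hS⟩ := h
  exact ⟨finrank_mid_le' k (S := ShortComplex.mk f g e) hS hA hB hC j,
    finrank_left_le k (S := ShortComplex.mk f g e) hS hA hB hC j,
    finrank_right_le k (S := ShortComplex.mk f g e) hS hA hB hC j⟩

/-- The cut of a twist by a section with finitely many prescribed frames. -/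
theorem cohSES_cut [IsNoetherian X] {N : X.Modules} (hN : PicF.IsInvertible N) {s : Γ(N, ⊤)} {M : X.Modules}
    (hM : Coh.IsCoh M) (h : wass M ⊆ TrivBasic.locus s) :
    Snapper.CohSES (CohB1.tensorMod (Coh.structureModule X) M) (CohB1.tensorMod N M) (SectCut.cut s M) := by
  haveI := SectCut.mono_mulSect s hM h
  exact ⟨SectCut.isCoh_left InvX.isInvertible_structureModule hM, SectCut.isCoh_left hN hM, SectCut.isCoh_cut hN s hM,
    SectCut.mulSect s M, cokernel.π (SectCut.mulSect s M), cokernel.condition _,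
    .mk' (ShortComplex.exact_of_g_is_cokernel _ (cokernelIsCokernel _))
      (SectCut.mono_mulSect s hM h) (inferInstanceAs (Epi (cokernel.π _)))⟩

variable {H : X.Modules} (hH : CohB1.IsAmple H)

include hH in
/-- **The cohomology of numerically trivial twists of a coherent module is bounded.** -/
theorem exists_bound : ∀ (C : Closeds X) (F : X.Modules), Coh.IsCoh F → CohB1.support F ⊆ C →
    ∃ B : ℕ → ℕ, ∀ N : X.Modules, IsNT k N → ∀ j, Module.finrank k (Coh.HH X (CohB1.tensorMod F N) j) ≤ B j := by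
  haveI := CurveCohLib.isNoetherian_of_proper (k := k) (X := X)
  intro C
  induction C using WellFoundedLT.induction with
  | ind C IH =>
    intro F hF hFC
    rcases Set.eq_empty_or_nonempty (C : Set X) with h0 | ⟨x, hx⟩
    · refine ⟨0, fun N _ j => le_of_eq ?_⟩
      haveI := Euler.subsingleton_HH_of_isZero (CurveCohLib.isZero_of_subsingleton_stalks (M := CohB1.tensorMod F N)
        fun y => not_not.1 fun hy => (h0 ▸ hFC (BigVol.support_tensor_left hy) : y ∈ (∅ : Set X))) j
      exact Module.finrank_zero_of_subsingleton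
    obtain ⟨d₁, hd₁⟩ := exists_vanishing k hH hF
    obtain ⟨d₂, hd₂⟩ := exists_generated k hH
    let d := d₁ + d₂
    have hP : PicF.IsInvertible (CohB1.tensorPow H d) := InvX.isInvertible_tensorPow hH.1 d
    obtain ⟨s, hs⟩ := exists_section_avoid k (InvX.isInvertible_tensorMod hP InvX.isInvertible_structureModule)
      (hd₂ d (Nat.le_add_left _ _) _ (isNT_one k)) ((finite_wass hF).insert x)
    let P := CohB1.tensorMod (CohB1.tensorPow H d) (Coh.structureModule X)
    have hPi : PicF.IsInvertible P := InvX.isInvertible_tensorMod hP InvX.isInvertible_structureModule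
    have hses := cohSES_cut hPi (s := s) hF fun y hy => hs (Set.mem_insert_of_mem _ hy)
    have hQ : Coh.IsCoh (SectCut.cut s F) := hses.2.2.1
    let C' : Closeds X := ⟨(C : Set X) \ TrivBasic.locus s, C.isClosed.sdiff (TrivBasic.locus s).2⟩
    obtain ⟨BQ, hBQ⟩ := IH C' (lt_of_le_of_ne (Set.sdiff_subset : (C : Set X) \ _ ⊆ C) fun he =>
      ((Set.ext_iff.1 (congrArg SetLike.coe he) x).2 hx).2 (hs (Set.mem_insert x _))) _ hQ
      fun y hy => ⟨hFC (SectCut.support_cut hPi s hF hy).1, (SectCut.support_cut hPi s hF hy).2⟩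
    let G := CohB1.tensorMod F (CohB1.tensorPow H d)
    have hG : Coh.IsCoh G := AmpleVan.isCoh_tensor hF (AmpleVan.isCoh_invertible hP)
    let B₀ := (Curv2.euler k X G).toNat
    refine ⟨fun j => B₀ + BQ (j - 1), fun N hN j => ?_⟩
    obtain ⟨hA, hB, hC, f, g, e, hS⟩ := hses
    obtain ⟨f₁, g₁, e₁, hS₁⟩ := NefBig.ses_twist hS hN.1
    have hNc := AmpleVan.isCoh_invertible hN.1
    have h1 := (les_ineq k (A := CohB1.tensorMod (CohB1.tensorMod (Coh.structureModule X) F) N)
      (B := CohB1.tensorMod (CohB1.tensorMod P F) N) (C := CohB1.tensorMod (SectCut.cut s F) N)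
      ⟨AmpleVan.isCoh_tensor hA hNc, AmpleVan.isCoh_tensor hB hNc, AmpleVan.isCoh_tensor hC hNc, f₁, g₁, e₁, hS₁⟩ j).2.1
    rw [finrank_cl k (N := CohB1.tensorMod F N) (by
        rw [PicMul.cl_tensor, PicMul.cl_tensor, PicMul.cl_tensor, ← PicMul.one_def, _root_.one_mul]),
      finrank_cl k (M := CohB1.tensorMod (CohB1.tensorMod P F) N) (N := CohB1.tensorMod G N) (by
        simp only [P, G, PicMul.cl_tensor, ← PicMul.one_def, _root_.mul_one]
        ac_rfl)] at h1
    refine h1.trans (Nat.add_le_add ?_ (hBQ N hN _))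
    rcases j with _ | q
    · have h2 := euler_tensor_nt k hN hG
      rw [CurveAmple.euler_eq_h0_of_vanishing (k := k) (fun q => hd₁ d (Nat.le_add_right _ _) N hN q)] at h2
      show _ ≤ (Curv2.euler k X G).toNat
      rw [← h2, Int.toNat_natCast]
    · haveI := hd₁ d (Nat.le_add_right _ _) N hN q
      rw [Module.finrank_zero_of_subsingleton]
      exact Nat.zero_le _

variable {r : ℕ} {L : Fin r → X.Modules} (hL : ∀ i, PicF.IsInvertible (L i))

/-- Members of the cutting family. -/
structure Cut (H : X.Modules) where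
  N : X.Modules
  s : Γ(N, ⊤)
  tw : X.Modules
  hN : PicF.IsInvertible N
  htw : IsNT k tw
  hcl : ∃ N' : X.Modules, IsNT k N' ∧ PicF.cl N = PicF.cl H * PicF.cl N'

theorem isCoh_arg {M N : X.Modules} [IsNoetherian X] (hL : ∀ i, PicF.IsInvertible (L i)) (hM : Coh.IsCoh M)
    (hN : IsNT k N) (n : Fin r → ℕ) : Coh.IsCoh (CohB1.tensorMod (Curv2.tensorPows M r L n) N) :=
  AmpleVan.isCoh_tensor (Snapper.isCoh_tensorPows L hL n hM) (AmpleVan.isCoh_invertible hN.1)

theorem isInvertible_tensorPows {O : X.Modules} (hO : PicF.IsInvertible O) : ∀ {r : ℕ} (L : Fin r → X.Modules),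
    (∀ i, PicF.IsInvertible (L i)) → ∀ n : Fin r → ℕ, PicF.IsInvertible (Curv2.tensorPows O r L n)
  | 0, _, _, _ => hO
  | _ + 1, _, hL, _ => InvX.isInvertible_tensorMod (isInvertible_tensorPows hO _ (fun i => hL i.castSucc) _)
      (InvX.isInvertible_tensorPow (hL _) _)

theorem wass_arg {M N : X.Modules} [IsNoetherian X] (hL : ∀ i, PicF.IsInvertible (L i)) (hM : Coh.IsCoh M)
    (hN : IsNT k N) (n : Fin r → ℕ) : wass (CohB1.tensorMod (Curv2.tensorPows M r L n) N) ⊆ wass M := by
  have hP : PicF.IsInvertible (CohB1.tensorMod (Curv2.tensorPows (Coh.structureModule X) r L n) N) :=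
    InvX.isInvertible_tensorMod (isInvertible_tensorPows InvX.isInvertible_structureModule L hL n) hN.1
  obtain ⟨e⟩ := PicMul.cl_eq_iff.1 (show PicF.cl (CohB1.tensorMod M
      (CohB1.tensorMod (Curv2.tensorPows (Coh.structureModule X) r L n) N)) =
      PicF.cl (CohB1.tensorMod (Curv2.tensorPows M r L n) N) by
    rw [PicMul.cl_tensor, PicMul.cl_tensor, PicMul.cl_tensor, IntCoeff.cl_tensorPows, IntCoeff.cl_tensorPows,
      ← PicMul.one_def, _root_.one_mul, _root_.mul_assoc])
  have hq : Coh.IsQCoh (CohB1.tensorMod M (CohB1.tensorMod (Curv2.tensorPows (Coh.structureModule X) r L n) N)) :=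
    (AmpleVan.isCoh_tensor hM (AmpleVan.isCoh_invertible hP)).1
  exact (SectCut.wass_of_iso e hq (isCoh_arg k hL hM hN n).1).trans (SectCut.wass_tensor hM.1 hP)

theorem support_arg {M N : X.Modules} [IsNoetherian X] (hL : ∀ i, PicF.IsInvertible (L i)) (hM : Coh.IsCoh M)
    (n : Fin r → ℕ) : CohB1.support (CohB1.tensorMod (Curv2.tensorPows M r L n) N) ⊆ CohB1.support M :=
  fun _ hx => Snapper.support_tensorPows_subset L hL n hM (BigVol.support_tensor_left hx)

include hH hL in
/-- The cutting family obeys the rules. -/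
def cutTh (H₁ : X.Modules) (hH₁ : PicF.IsInvertible H₁) : UniformGrowth.Th.{u, u + 1} X L where
  A := Cut k H₁
  av a := TrivBasic.locus a.s
  G a j M n := Module.finrank k (Coh.HH X (SectCut.cut a.s (CohB1.tensorMod (Curv2.tensorPows M r L n) a.tw)) j)
  off := 1
  congr a j {M N} e n := (CurveCohLib.hhEquiv (k := k)
    (SectCut.cutIso a.s ((AmpleVan.tw a.tw).mapIso (Snapper.tensorPows_congr L n e).some)) j).finrank_eq
  les a {S} hS h1 h2 h3 _ _ a3 j n := by
    haveI := CurveCohLib.isNoetherian_of_proper (k := k) (X := X)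
    obtain ⟨c1, c2, c3, f, g, e, hS'⟩ := Snapper.cohSES_tensorPows L hL n ⟨h1, h2, h3, S.f, S.g, S.zero, hS⟩
    obtain ⟨f₁, g₁, e₁, hS₁⟩ := NefBig.ses_twist hS' a.htw.1
    obtain ⟨f₂, g₂, e₂, hS₂⟩ := SectCut.shortExact_cut a.hN a.s hS₁ (isCoh_arg k hL h1 a.htw n)
      (isCoh_arg k hL h2 a.htw n) (isCoh_arg k hL h3 a.htw n) ((wass_arg k hL h3 a.htw n).trans a3)
    exact les_ineq k ⟨SectCut.isCoh_cut a.hN a.s (isCoh_arg k hL h1 a.htw n),
      SectCut.isCoh_cut a.hN a.s (isCoh_arg k hL h2 a.htw n), SectCut.isCoh_cut a.hN a.s (isCoh_arg k hL h3 a.htw n),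
      f₂, g₂, e₂, hS₂⟩ j
  bump a j M n i := (CurveCohLib.hhEquiv (k := k) (SectCut.cutIso a.s ((AmpleVan.tw a.tw).mapIso
    ((Snapper.tensorPows_swap (L i) L n M).some ≪≫ (Snapper.tensorPows_bump L n i M).some))) j).finrank_eq
  base F hF j := by
    haveI := CurveCohLib.isNoetherian_of_proper (k := k) (X := X)
    obtain ⟨B₁, hB₁⟩ := exists_bound k hH ⊤ (CohB1.tensorMod F H₁)
      (AmpleVan.isCoh_tensor hF (AmpleVan.isCoh_invertible hH₁)) fun _ _ => trivial
    obtain ⟨B₂, hB₂⟩ := exists_bound k hH ⊤ F hF fun _ _ => trivial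
    refine ⟨B₁ j + B₂ (j + 1), wass F, finite_wass hF, fun a ha => ?_⟩
    have hc := isCoh_arg k hL hF a.htw 0
    obtain ⟨N', hN', hcl⟩ := a.hcl
    have h0 : PicF.cl (Curv2.tensorPows F r L 0) = PicF.cl F := by
      rw [IntCoeff.cl_tensorPows]; simp
    have h1 := (les_ineq k (cohSES_cut a.hN (s := a.s) hc ((wass_arg k hL hF a.htw 0).trans ha)) j).2.2
    refine h1.trans (Nat.add_le_add (le_of_eq_of_le (finrank_cl k ?_ j) (hB₁ _ (hN'.mul k a.htw) j))
      (le_of_eq_of_le (finrank_cl k ?_ (j + 1)) (hB₂ _ a.htw (j + 1))))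
    · simp only [PicMul.cl_tensor, h0, hcl]
      ac_rfl
    · simp only [PicMul.cl_tensor, h0, ← PicMul.one_def, _root_.one_mul]
  small F hF C hC hFC := by
    haveI := CurveCohLib.isNoetherian_of_proper (k := k) (X := X)
    have hcl : ∀ x ∈ CohB1.support F, IsClosed ({x} : Set X) := fun x hx =>
      isClosed_singleton_of_dim_lt_one C.isClosed hC (hFC hx)
    refine ⟨CohB1.support F, CurveCohLib.finite_of_closedPoints (QCoh.isClosed_support_of_isFT hF.1 hF.2) hcl,
      fun a ha j n => ?_⟩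
    haveI := Euler.subsingleton_HH_of_isZero (SectCut.isZero_cut a.hN a.s (isCoh_arg k hL hF a.htw n)
      ((support_arg hL hF n).trans ha)) j
    exact Module.finrank_zero_of_subsingleton

include hH in
/-- **Numerically trivial twists change the twists by powers in lower order only.** -/
theorem exists_dist {n : ℕ} (hn : topologicalKrullDim X ≤ n) {L₀ : X.Modules} (hL₀ : PicF.IsInvertible L₀) (j : ℕ) :
    ∃ C : ℕ, ∀ (m : ℕ) (P : X.Modules), IsNT k P → Nat.dist
      (Module.finrank k (Coh.HH X (CohB1.tensorMod (CohB1.tensorPow L₀ m) P) j))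
      (Module.finrank k (Coh.HH X (CohB1.tensorPow L₀ m) j)) ≤ C * w n m := by
  haveI := CurveCohLib.isNoetherian_of_proper (k := k) (X := X)
  obtain ⟨d₂, hd₂⟩ := exists_generated k hH
  let H₁ := CohB1.tensorPow H d₂
  have hH₁ : PicF.IsInvertible H₁ := InvX.isInvertible_tensorPow hH.1 d₂
  let T := cutTh k hH (L := fun _ : Fin 1 => L₀) (fun _ => hL₀) H₁ hH₁
  have hO : Coh.IsCoh (Coh.structureModule X) := QCoh.isCoh_structureModule'
  have hdim : topologicalKrullDim ↥((⊤ : Closeds X) : Set X) < ((T.off + n : ℕ) : WithBot ℕ∞) :=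
    lt_of_le_of_lt ((Topology.IsInducing.subtypeVal).topologicalKrullDim_le.trans hn)
      (by exact_mod_cast (show n < 1 + n by omega))
  have hub := UniformGrowth.ub_of_dim_lt (T := T) (fun _ => hL₀) n ⊤ hdim _ hO (fun _ _ => trivial)
  obtain ⟨C, Z, hZ, hC⟩ := (hub j).add (hub (j - 1))
  refine ⟨C + C, fun m P hP => ?_⟩
  have hHP := InvX.isInvertible_tensorMod hH₁ hP.1
  have hHO := InvX.isInvertible_tensorMod hH₁ (InvX.isInvertible_structureModule (X := X))
  obtain ⟨s, hs⟩ := exists_section_avoid k hHP (hd₂ d₂ le_rfl P hP) (hZ.union (finite_wass hO))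
  obtain ⟨t, ht⟩ := exists_section_avoid k hHO (hd₂ d₂ le_rfl _ (isNT_one k)) (hZ.union (finite_wass hO))
  let aP : Cut k H₁ := ⟨_, s, Coh.structureModule X, hHP, isNT_one k, P, hP, PicMul.cl_tensor _ _⟩
  let aO : Cut k H₁ := ⟨_, t, P, hHO, hP, Coh.structureModule X, isNT_one k, PicMul.cl_tensor _ _⟩
  have key : ∀ a : Cut k H₁, Z ∪ wass (Coh.structureModule X) ⊆ TrivBasic.locus a.s → ∀ T₁ T₂ : X.Modules,
      PicF.cl T₁ = PicF.cl L₀ ^ m * PicF.cl a.tw → PicF.cl T₂ = PicF.cl L₀ ^ m * (PicF.cl a.N * PicF.cl a.tw) →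
      Nat.dist (Module.finrank k (Coh.HH X T₁ j)) (Module.finrank k (Coh.HH X T₂ j)) ≤ C * w n m := by
    intro a ha T₁ T₂ h₁ h₂
    let M := CohB1.tensorMod (Curv2.tensorPows (Coh.structureModule X) 1 (fun _ => L₀) fun _ => m) a.tw
    have hMc : Coh.IsCoh M := isCoh_arg k (fun _ => hL₀) hO a.htw _
    have hw : wass M ⊆ TrivBasic.locus a.s := (wass_arg k (fun _ => hL₀) hO a.htw _).trans fun _ h => ha (Or.inr h)
    have hM : PicF.cl M = PicF.cl L₀ ^ m * PicF.cl a.tw := by
      rw [PicMul.cl_tensor, IntCoeff.cl_tensorPows, ← PicMul.one_def, _root_.one_mul, Fin.prod_univ_one]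
    have a1 := (les_ineq k (cohSES_cut a.hN (s := a.s) hMc hw) j).1
    have a2 := (les_ineq k (cohSES_cut a.hN (s := a.s) hMc hw) j).2.1
    rw [finrank_cl k (M := CohB1.tensorMod (Coh.structureModule X) M) (N := T₁) (by
        rw [PicMul.cl_tensor, ← PicMul.one_def, _root_.one_mul, hM, h₁]),
      finrank_cl k (M := CohB1.tensorMod a.N M) (N := T₂) (by
        rw [PicMul.cl_tensor, hM, h₂]; ac_rfl)] at a1 a2
    have h3' : T.G a j (Coh.structureModule X) (fun _ => m) + T.G a (j - 1) (Coh.structureModule X) (fun _ => m) ≤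
        C * w n (∑ _l : Fin 1, m) := hC a (fun _ h => ha (Or.inl h)) fun _ => m
    rw [AsympCoh.sum_one] at h3'
    have h3 : Module.finrank k (Coh.HH X (SectCut.cut a.s M) j) + Module.finrank k (Coh.HH X (SectCut.cut a.s M) (j - 1)) ≤
        C * w n m := h3'
    unfold Nat.dist
    omega
  let T₂ := CohB1.tensorMod (CohB1.tensorPow L₀ m) (CohB1.tensorMod H₁ P)
  have b1 := key aP hs (CohB1.tensorPow L₀ m) T₂
    (by show _ = _ * PicF.cl (Coh.structureModule X)
        rw [PicMul.cl_tensorPow, ← PicMul.one_def, _root_.mul_one])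
    (by show _ = _ * (PicF.cl (CohB1.tensorMod H₁ P) * PicF.cl (Coh.structureModule X))
        rw [PicMul.cl_tensor, PicMul.cl_tensorPow, ← PicMul.one_def, _root_.mul_one])
  have b2 := key aO ht (CohB1.tensorMod (CohB1.tensorPow L₀ m) P) T₂
    (by show _ = _ * PicF.cl P
        rw [PicMul.cl_tensor, PicMul.cl_tensorPow])
    (by show _ = _ * (PicF.cl (CohB1.tensorMod H₁ (Coh.structureModule X)) * PicF.cl P)
        rw [PicMul.cl_tensor, PicMul.cl_tensor H₁ (Coh.structureModule X), PicMul.cl_tensorPow, PicMul.cl_tensor, ← PicMul.one_def, _root_.mul_one])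
  rw [add_mul]
  exact (Nat.dist.triangle_inequality _ _ _).trans (Nat.add_le_add b2 ((Nat.dist_comm _ _).trans_le b1))

end Groth.Agent.NumTrivTw
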