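import Groth.Agent.Lib.SurfAdj
import Groth.Agent.Lib.IdealModMul
import Groth.Agent.Lib.GenLocusGG
import Groth.Agent.AmpleX.Generated

/-!
Nef invertible modules on a surface (integral classes only).
-/

set_option autoImplicit false
set_option linter.style.haveILetI false
set_option linter.unusedSectionVars false
set_option backward.isDefEq.respectTransparency false
set_option backward.isDefEq.respectTransparency.types false
set_option maxHeartbeats 1000000

universe u

open CategoryTheory CategoryTheory.Limits AlgebraicGeometry TopologicalSpace Opposite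
open Groth.Agent.H23 Groth.Agent.H23.TrivBasic

noncomputable section

namespace Groth.Agent.SurfNef

attribute [local instance] PicMul.clMonoid

variable (k : Type u) [Field k] {X : Scheme.{u}} [X.Over (Spec (CommRingCat.of k))]
  [IsProper (X ↘ Spec (CommRingCat.of k))] [Smooth (X ↘ Spec (CommRingCat.of k))] [IsIntegral X]

/-- Nonnegative pairing with every integral curve. -/
def Nef (N : X.Modules) : Prop :=
  ∀ C : X.IdealSheafData, IsIntegral C.subscheme → topologicalKrullDim (C.support : Set X) = 1 →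
    SurfPairing.pair k (PicF.cl (ClSub.idealMod C)) (PicF.cl N) ≤ 0

include k in
theorem invertible_ideal (hdim : topologicalKrullDim X = 2) {I : X.IdealSheafData} (hint : IsIntegral I.subscheme)
    (hd : topologicalKrullDim (I.support : Set X) = 1) : PicF.IsInvertible (ClSub.idealMod I) := by
  haveI := hint
  let i := I.subschemeι
  have hd' : topologicalKrullDim I.subscheme = 1 := by
    rw [IsHomeomorph.topologicalKrullDim_eq _
      ((i.isEmbedding.toHomeomorph).trans (Homeomorph.setCongr I.range_subschemeι)).isHomeomorph, hd]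
  have h := CurveOnSurf.isInvertible_ideal (X ↘ Spec (CommRingCat.of k)) hdim (SurfHodge.regular k) i hd'
  rwa [Scheme.IdealSheafData.ker_subschemeι] at h

theorem nef_iff (hdim : topologicalKrullDim X = 2) {N : X.Modules} (hN : PicF.IsInvertible N) :
    Nef k N ↔ ∀ C : X.IdealSheafData, IsIntegral C.subscheme → topologicalKrullDim (C.support : Set X) = 1 →
      0 ≤ Curv2.euler k X (CohB1.tensorMod (ClSub.quotMod C) N) - Curv2.euler k X (ClSub.quotMod C) := by
  refine forall₃_congr fun C hC hd => ?_
  rw [SurfNegDef.euler_quot_tensor (k := k) C (invertible_ideal k hdim hC hd) hN, neg_nonneg]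

/-- A curve of negative degree lies in the zero locus of every section. -/
theorem subset_of_pair_pos (hdim : topologicalKrullDim X = 2) {L : X.Modules} (hL : PicF.IsInvertible L) {s : Γ(L, ⊤)}
    {C : X.IdealSheafData} (hC : IsIntegral C.subscheme) (hd : topologicalKrullDim (C.support : Set X) = 1)
    (hneg : 0 < SurfPairing.pair k (PicF.cl (ClSub.idealMod C)) (PicF.cl L)) :
    ∀ x ∈ C.support, x ∉ locus s := by
  haveI := hC
  intro x hx hxs
  obtain ⟨c, rfl⟩ : x ∈ Set.range C.subschemeι := by rw [Scheme.IdealSheafData.range_subschemeι]; exact hx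
  have hdI : topologicalKrullDim C.subscheme ≤ 1 := by
    rw [IsHomeomorph.topologicalKrullDim_eq _
      ((C.subschemeι.isEmbedding.toHomeomorph).trans (Homeomorph.setCongr C.range_subschemeι)).isHomeomorph, hd]
  have h1 := SurfNegDef.deg_nonneg_of_locus (k := k) C.subschemeι hdI hL c hxs
  have h2 := CurveOnSurf.pair_ideal (k := k) C.subschemeι hL
    (by rw [Scheme.IdealSheafData.ker_subschemeι]; exact invertible_ideal k hdim hC hd)
  rw [Scheme.IdealSheafData.ker_subschemeι] at h2
  linarith

theorem nef_section (hdim : topologicalKrullDim X = 2) {N : X.Modules} (hN : PicF.IsInvertible N) (hnef : Nef k N)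
    {L : X.Modules} (hL : PicF.IsInvertible L) {s : Γ(L, ⊤)} (hs : s ≠ 0) :
    0 ≤ SurfPairing.pair k (PicF.cl N) (PicF.cl L) := by
  obtain ⟨H, hH⟩ := SurfAdj.exists_ample k hdim
  suffices h : ∀ n : ℕ, ∀ (L : X.Modules), PicF.IsInvertible L → ∀ (s : Γ(L, ⊤)), s ≠ 0 →
      SurfPairing.pair k (PicF.cl L) (PicF.cl H) < n → 0 ≤ SurfPairing.pair k (PicF.cl N) (PicF.cl L) from
    h _ L hL s hs (show _ < ((((SurfPairing.pair k (PicF.cl L) (PicF.cl H)).toNat + 1 : ℕ)) : ℤ) by push_cast; omega)
  intro n
  induction n with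
  | zero => exact fun L hL s hs h => absurd h (not_lt.2 (SurfAmple.pair_nonneg (k := k) hdim.le hL hH hs))
  | succ n ih =>
    intro L hL s hs hlt
    by_cases htop : locus s = ⊤
    · rw [show PicF.cl L = (1 : PicF.Cl X) from
        (PicMul.cl_eq_iff.2 (triv_of_frame (locus_eq_top_iff.1 htop))).trans PicMul.one_def.symm, SurfPairing.pair_one]
    obtain ⟨J, hJ, hJd, hJs⟩ := SurfAmple.exists_curve k hdim hL hs htop
    haveI := hJ
    have hJd' : topologicalKrullDim (J.support : Set X) = 1 := by
      rw [← IsHomeomorph.topologicalKrullDim_eq _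
        ((J.subschemeι.isEmbedding.toHomeomorph).trans (Homeomorph.setCongr J.range_subschemeι)).isHomeomorph, hJd]
    obtain ⟨t, ht⟩ := SurfAmple.exists_lift_section J hL hs hJs
    have hI := invertible_ideal k hdim hJ hJd'
    have hLI := PicMul.isInvertible_tensor hL hI
    have hneg := SurfNegDef.pair_curve_ample_neg (k := k) hdim (SurfHodge.regular k) hJd' hH
    have hp : SurfPairing.pair k (PicF.cl (CohB1.tensorMod L (ClSub.idealMod J))) (PicF.cl H) < n := by
      rw [PicMul.cl_tensor, SurfPairing.pair_comm k _ (PicF.cl H), SurfPairing.pair_mul k hdim.le hH.1 hL hI,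
        SurfPairing.pair_comm k (PicF.cl H) (PicF.cl L), SurfPairing.pair_comm k (PicF.cl H)]
      push_cast at hlt
      linarith
    have h1 := ih _ hLI t ht hp
    rw [PicMul.cl_tensor, SurfPairing.pair_mul k hdim.le hN hL hI, SurfPairing.pair_comm k (PicF.cl N) (PicF.cl (ClSub.idealMod J))] at h1
    linarith [hnef J hJ hJd']

theorem nef_big (hdim : topologicalKrullDim X = 2) {N : X.Modules} (hN : PicF.IsInvertible N) (hnef : Nef k N)
    {H M : X.Modules} (hH : CohB1.IsAmple H) (hM : PicF.IsInvertible M)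
    (hMM : 0 < SurfPairing.pair k (PicF.cl M) (PicF.cl M)) (hMH : 0 < SurfPairing.pair k (PicF.cl M) (PicF.cl H)) :
    0 ≤ SurfPairing.pair k (PicF.cl N) (PicF.cl M) := by
  obtain ⟨n, hn⟩ := SurfHodge.eventually_effective (k := k) hdim hH hM hMM hMH
  obtain ⟨s, hs⟩ := CurveAmple.exists_section_ne_zero (hn (n + 1) (Nat.le_succ n))
  have h := nef_section k hdim hN hnef (PicMul.isInvertible_tensorPow hM (n + 1)) hs
  rw [SurfAmple.pair_pow hdim.le hN hM] at h
  exact nonneg_of_mul_nonneg_right h (by positivity)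

theorem ample_self_pos (hdim : topologicalKrullDim X = 2) {H : X.Modules} (hH : CohB1.IsAmple H) :
    0 < SurfPairing.pair k (PicF.cl H) (PicF.cl H) := by
  obtain ⟨c, hgc, hc⟩ := VarDim.exists_closed_specialization (X ↘ Spec (CommRingCat.of k)) (genericPoint X)
  have hne : genericPoint X ≠ c := fun h => by
    have h0 := DiagReg.deg_eq_zero (X ↘ Spec (CommRingCat.of k)) (h ▸ hc)
    have h1 := (VarDim.topologicalKrullDim_eq_deg_genericPoint (X ↘ Spec (CommRingCat.of k))).symm.trans hdim
    rw [h0] at h1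
    exact absurd h1 (by decide)
  obtain ⟨m, hm, s, hs, hsc⟩ := CurveAmple.exists_section_vanishing k hH hc hne
  have h := SurfAmple.pair_pos (k := k) hdim (SurfHodge.regular k) (PicMul.isInvertible_tensorPow hH.1 m) hH hs
    (fun ht => hsc (ht ▸ trivial))
  rw [SurfPairing.pair_comm, SurfAmple.pair_pow hdim.le hH.1 hH.1 m] at h
  exact pos_of_mul_pos_right h (by positivity)

theorem nef_ample (hdim : topologicalKrullDim X = 2) {N : X.Modules} (hN : PicF.IsInvertible N) (hnef : Nef k N)
    {H : X.Modules} (hH : CohB1.IsAmple H) : 0 ≤ SurfPairing.pair k (PicF.cl N) (PicF.cl H) :=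
  nef_big k hdim hN hnef hH hH.1 (ample_self_pos k hdim hH) (ample_self_pos k hdim hH)

/-- A nef module has nonnegative square. -/
theorem self_nonneg (hdim : topologicalKrullDim X = 2) {N : X.Modules} (hN : PicF.IsInvertible N) (hnef : Nef k N) :
    0 ≤ SurfPairing.pair k (PicF.cl N) (PicF.cl N) := by
  obtain ⟨H, hH⟩ := SurfAdj.exists_ample k hdim
  have hhh := ample_self_pos k hdim hH
  have hd0 := nef_ample k hdim hN hnef hH
  by_contra hlt
  rw [not_le] at hlt
  set q := SurfPairing.pair k (PicF.cl N) (PicF.cl N) with hq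
  set d := SurfPairing.pair k (PicF.cl N) (PicF.cl H) with hd
  set p := SurfPairing.pair k (PicF.cl H) (PicF.cl H) with hp
  -- `M = b N + a H` of positive square and degree, negative on `N`
  obtain ⟨a, b, hb, ha, hP, hneg⟩ : ∃ a b : ℤ, 0 ≤ b ∧ 0 < a ∧ 0 < b * b * q + 2 * a * b * d + a * a * p ∧ b * q + a * d < 0 := by
    rcases hd0.eq_or_lt with h0 | h0
    · refine ⟨1 - q, 1, zero_le_one, by linarith, ?_, by rw [← h0]; linarith⟩
      rw [← h0]
      nlinarith
    · refine ⟨-q, 2 * d, by linarith, by linarith, ?_, by nlinarith⟩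
      nlinarith [mul_pos (mul_pos (neg_pos.2 hlt) (neg_pos.2 hlt)) hhh]
  obtain ⟨N₁, hN₁, e₁⟩ := SurfAdj.exists_smul k hdim.le hN b
  obtain ⟨H₁, hH₁, e₂⟩ := SurfAdj.exists_smul k hdim.le hH.1 a
  have hMi := PicMul.isInvertible_tensor hN₁ hH₁
  have hM : ∀ {B : X.Modules}, PicF.IsInvertible B →
      SurfPairing.pair k (PicF.cl B) (PicF.cl (CohB1.tensorMod N₁ H₁)) =
        b * SurfPairing.pair k (PicF.cl B) (PicF.cl N) + a * SurfPairing.pair k (PicF.cl B) (PicF.cl H) := fun hB => by
    rw [PicMul.cl_tensor, SurfPairing.pair_mul k hdim.le hB hN₁ hH₁, e₁ hB, e₂ hB]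
  set M := CohB1.tensorMod N₁ H₁
  have hMN : SurfPairing.pair k (PicF.cl N) (PicF.cl M) = b * q + a * d := by rw [hM hN]
  have hMH : SurfPairing.pair k (PicF.cl M) (PicF.cl H) = b * d + a * p := by
    rw [SurfPairing.pair_comm, hM hH.1, SurfPairing.pair_comm k (PicF.cl H) (PicF.cl N)]
  have hMM : SurfPairing.pair k (PicF.cl M) (PicF.cl M) = b * (b * q + a * d) + a * (b * d + a * p) := by
    rw [hM hMi, SurfPairing.pair_comm k (PicF.cl M) (PicF.cl N), hMN, hMH]
  have h := nef_big k hdim hN hnef hH hMi (by rw [hMM]; linarith) (by rw [hMH]; nlinarith)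
  rw [hMN] at h
  linarith

/-- A nef module orthogonal to an ample one is numerically trivial. -/
theorem pair_curve_eq_zero (hdim : topologicalKrullDim X = 2) {N : X.Modules} (hN : PicF.IsInvertible N)
    (hnef : Nef k N) {H : X.Modules} (hH : CohB1.IsAmple H) (h0 : SurfPairing.pair k (PicF.cl N) (PicF.cl H) = 0)
    {C : X.IdealSheafData} (hC : IsIntegral C.subscheme) (hd : topologicalKrullDim (C.support : Set X) = 1) :
    SurfPairing.pair k (PicF.cl (ClSub.idealMod C)) (PicF.cl N) = 0 := by
  haveI := CurveCohLib.isNoetherian_of_proper (k := k) (X := X)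
  haveI : X.IsSeparated := ⟨by
    rw [← Limits.terminal.comp_from (X ↘ Spec (CommRingCat.of k))]
    infer_instance⟩
  have hI := invertible_ideal k hdim hC hd
  obtain ⟨n, hn, hgg⟩ := AmpleX.eventually_ample_tensor hH hI
  have hi := PicMul.isInvertible_tensor (PicMul.isInvertible_tensorPow hH.1 n) hI
  obtain ⟨s, hs⟩ := GenLocusGG.exists_mem_locus hi (hgg n le_rfl).2 (genericPoint X)
  have h := nef_section k hdim hN hnef hi (Nakai.ne_zero_of_mem_locus hs)
  rw [PicMul.cl_tensor, SurfPairing.pair_mul k hdim.le hN (PicMul.isInvertible_tensorPow hH.1 n) hI,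
    SurfAmple.pair_pow hdim.le hN hH.1, h0, mul_zero, zero_add, SurfPairing.pair_comm] at h
  exact le_antisymm (hnef C hC hd) h

end Groth.Agent.SurfNef
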