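import Groth.Agent.Lib.ProjRegular
import Groth.Agent.AmpleVan.Vanish
import Groth.Agent.Lib.CurveDeg
import Groth.Agent.PnCoh.Finite.ProjSpace
import Groth.Prelude.Def_Curv2
import Groth.Prelude.Def_Twist2

/-!
Castelnuovo–Mumford regularity on projective space.
-/

set_option linter.style.haveILetI false
set_option linter.unusedSectionVars false
set_option backward.isDefEq.respectTransparency false
set_option backward.isDefEq.respectTransparency.types false
set_option maxHeartbeats 1000000

universe u

open CategoryTheory CategoryTheory.Limits AlgebraicGeometry TopologicalSpace Opposite MonoidalCategory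
open Groth.Agent.KFlatLib Groth.Agent.PnCoh.Finite

noncomputable section

namespace Groth.Agent.ProjRegular

open Groth.Agent.PnCoh

variable {k : Type u} [Field k] {n : ℕ}

/-- The coordinates. -/
noncomputable def coords (k : Type u) [Field k] (n : ℕ) : ULift.{u} (Fin (n + 1)) → MvPolynomial (Fin (n + 1)) k :=
  fun j => MvPolynomial.X j.down

theorem coords_mem (j : ULift.{u} (Fin (n + 1))) : coords k n j ∈ CohB1.polyGrading n k 1 :=
  MvPolynomial.isHomogeneous_X k j.down

theorem coords_cover : ⨆ j, D (CohB1.polyGrading n k) (coords k n j) = ⊤ := by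
  refine top_le_iff.1 ?_
  refine le_trans (PnCoh.iSup_mOpen_single (ι := Fin (n + 1)) (R := k)).ge ?_
  exact iSup_le fun j => le_iSup_of_le (ULift.up j) le_rfl

theorem coords_noetherian : ∀ j, IsNoetherianRing
    Γ(Proj (CohB1.polyGrading n k), D (CohB1.polyGrading n k) (coords k n j)) := fun j => by
  haveI hP : IsNoetherian (Proj (CohB1.polyGrading n k)) := Proj16.isNoetherian_proj _
  exact IsLocallyNoetherian.component_noetherian ⟨_, isAffineOpen_D coords_mem j⟩

variable {F : (CohB1.ProjSpace n k).Modules} (hF : Coh.IsCoh F)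

/-- Reassociating and rewriting the second factor. -/
theorem tensor_assoc_iso {X : Scheme.{u}} (M N L P : X.Modules) (e : CohB1.tensorMod N L ≅ P) :
    Nonempty ((DCoh.tensorBi.obj ((DCoh.tensorBi.obj M).obj N)).obj L ≅ (DCoh.tensorBi.obj M).obj P) :=
  ⟨(((KFlatLib.tensorAssocSch X).app M).app N).app L ≪≫ (DCoh.tensorBi.obj M).mapIso e⟩

/-- Twisting twice. -/
theorem twist_twist_iso (F : (CohB1.ProjSpace n k).Modules) (a b : ℤ) :
    Nonempty (tw (𝒜 := CohB1.polyGrading n k) (CohB1.tensorMod F (Twist.twistProjSpace n k a)) b ≅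
      CohB1.tensorMod F (Twist.twistProjSpace n k (a + b))) := by
  obtain ⟨e⟩ := twist_tensor_iso (coords k n) coords_mem coords_cover a b
  exact tensor_assoc_iso (X := Proj (CohB1.polyGrading n k)) F (Twist.twist (CohB1.polyGrading n k) a)
    (Twist.twist (CohB1.polyGrading n k) b) (Twist.twist (CohB1.polyGrading n k) (a + b)) e

include hF in
theorem isCoh_twistBy (m : ℤ) : Coh.IsCoh (CohB1.tensorMod F (Twist.twistProjSpace n k m)) := by
  haveI hP : IsNoetherian (Proj (CohB1.polyGrading n k)) := Proj16.isNoetherian_proj _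
  haveI : IsLocallyNoetherian (CohB1.ProjSpace n k) := hP.toIsLocallyNoetherian
  refine AmpleVan.isCoh_tensor hF ?_
  exact CurveDeg.isCoh_of_isInvertible (isInvertible_twist (coords k n) coords_mem coords_cover m)

include hF in
theorem subsingleton_HH_high (m : ℤ) (q : ℕ) (hq : n < q) :
    Subsingleton (Coh.HH (CohB1.ProjSpace n k) (CohB1.tensorMod F (Twist.twistProjSpace n k m)) q) := by
  letI : (Proj (CohB1.polyGrading n k)).Over (Spec (CommRingCat.of k)) :=
    inferInstanceAs ((CohB1.ProjSpace n k).Over (Spec (CommRingCat.of k)))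
  exact QCoh.HH_subsingleton_of_cover (X := Proj (CohB1.polyGrading n k)) (n + 1)
    (fun j => D (CohB1.polyGrading n k) (coords k n (ULift.up j)))
    (fun j => isAffineOpen_D coords_mem _)
    (top_le_iff.1 (coords_cover.ge.trans (iSup_le fun j => le_iSup_of_le j.down le_rfl)))
    (fun V W hV hW => IsAffineOpen.inf hV hW) (isCoh_twistBy hF m).1 q hq

include hF in
theorem reg0_of_isMRegular {m : ℤ} (h : Curv2.IsMRegular k n F m) :
    Reg0 (𝒜 := CohB1.polyGrading n k) (CohB1.tensorMod F (Twist.twistProjSpace n k m)) := by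
  intro q hq
  obtain ⟨e⟩ := twist_twist_iso F m (-(q : ℤ))
  refine QCoh.subsingleton_HH_of_iso e.symm q ?_
  rcases le_or_gt q n with hn | hn
  · exact h q hq hn
  · exact subsingleton_HH_high hF _ q hn

include hF in
theorem isMRegular_add {m : ℤ} (h : Curv2.IsMRegular k n F m) (e : ℕ) : Curv2.IsMRegular k n F (m + e) := by
  intro i hi hin
  have h1 := reg_add coords_mem coords_cover (reg0_of_isMRegular hF h) e i hi
  obtain ⟨φ⟩ := twist_twist_iso F m ((e : ℤ) - i)
  rw [show m + (e : ℤ) - i = m + ((e : ℤ) - i) by omega]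
  exact QCoh.subsingleton_HH_of_iso φ i h1

include hF in
theorem good_twistBy (m : ℤ) :
    Good (coords k n) (CohB1.tensorMod F (Twist.twistProjSpace n k m)) :=
  good_of_isCoh coords_mem (isCoh_twistBy hF m)

end Groth.Agent.ProjRegular
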