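import Groth.Agent.Lib.HomSections
import Mathlib.Algebra.Homology.DerivedCategory.Ext.ExactSequences
import Mathlib.Algebra.Category.ModuleCat.Projective

/-!
Morphisms of quasi-coherent modules on an affine scheme and Ext of their sections.
-/

set_option linter.style.haveILetI false
set_option linter.unusedSectionVars false
set_option backward.isDefEq.respectTransparency false
set_option backward.isDefEq.respectTransparency.types false
set_option maxHeartbeats 800000

universe u

open CategoryTheory CategoryTheory.Limits AlgebraicGeometry TopologicalSpace Opposite CategoryTheory.Abelian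

noncomputable section

namespace Groth.Agent.AffineHomExt

section Ext

variable {R : Type u} [CommRing R] {T : ShortComplex (ModuleCat.{u} R)} (hT : T.ShortExact) (Y : ModuleCat.{u} R)

include hT in
theorem subsingleton_ext_iff_succ [Projective T.X₂] (j : ℕ) :
    Subsingleton (Ext T.X₁ Y (j + 1)) ↔ Subsingleton (Ext T.X₃ Y (j + 2)) := by
  constructor <;> intro h
  · refine subsingleton_of_forall_eq 0 fun x => ?_
    obtain ⟨y, hy⟩ := Ext.contravariant_sequence_exact₃ hT Y x (Ext.eq_zero_of_projective _)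
      (show 1 + (j + 1) = j + 2 by omega)
    rw [← hy, h.elim y 0, Ext.comp_zero]
  · refine subsingleton_of_forall_eq 0 fun x => ?_
    obtain ⟨y, hy⟩ := Ext.contravariant_sequence_exact₁ hT Y x (show 1 + (j + 1) = j + 2 by omega) (h.elim _ _)
    rw [← hy, Ext.eq_zero_of_projective y, Ext.comp_zero]

include hT in
theorem subsingleton_ext_one_iff [Projective T.X₂] :
    Subsingleton (Ext T.X₃ Y 1) ↔ Function.Surjective fun φ : T.X₂ ⟶ Y => T.f ≫ φ := by
  constructor <;> intro h
  · intro ψ
    obtain ⟨y, hy⟩ := Ext.contravariant_sequence_exact₁ hT Y (Ext.mk₀ ψ) (show 1 + 0 = 1 by omega) (h.elim _ _)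
    obtain ⟨φ, rfl⟩ := (Ext.mk₀_bijective T.X₂ Y).2 y
    rw [Ext.mk₀_comp_mk₀] at hy
    exact ⟨φ, (Ext.mk₀_bijective _ _).1 hy⟩
  · refine subsingleton_of_forall_eq 0 fun x => ?_
    obtain ⟨y, hy⟩ := Ext.contravariant_sequence_exact₃ hT Y x (Ext.eq_zero_of_projective _)
      (show 1 + 0 = 1 by omega)
    obtain ⟨ψ, rfl⟩ := (Ext.mk₀_bijective T.X₁ Y).2 y
    obtain ⟨φ, rfl⟩ := h ψ
    rw [← hy, ← Ext.mk₀_comp_mk₀, ← Ext.comp_assoc_of_second_deg_zero, hT.extClass_comp, Ext.zero_comp]

end Ext

section Spec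

variable {R : CommRingCat.{u}}

theorem gamma_map_bijective {M : (Spec R).Modules} (hM : Coh.IsQCoh M) (N : (Spec R).Modules) :
    Function.Bijective (fun φ : M ⟶ N => (moduleSpecΓFunctor (R := R)).map φ) := by
  haveI : IsIso M.fromTildeΓ := (isQuasicoherent_iff_isIso_fromTildeΓ M).1 hM
  haveI : IsIso ((tilde.adjunction (R := R)).counit.app M) := ‹IsIso M.fromTildeΓ›
  constructor
  · intro φ φ' h
    apply (cancel_epi ((tilde.adjunction (R := R)).counit.app M)).1
    rw [← (tilde.adjunction (R := R)).counit_naturality φ, ← (tilde.adjunction (R := R)).counit_naturality φ']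
    exact congrArg (fun t => (tilde.functor R).map t ≫ (tilde.adjunction (R := R)).counit.app N) h
  · intro g
    refine ⟨inv ((tilde.adjunction (R := R)).counit.app M) ≫ ((tilde.adjunction (R := R)).homEquiv _ _).symm g, ?_⟩
    show (moduleSpecΓFunctor (R := R)).map _ = g
    obtain ⟨φ, hφ⟩ : ∃ φ, inv ((tilde.adjunction (R := R)).counit.app M) ≫
        ((tilde.adjunction (R := R)).homEquiv _ _).symm g = φ := ⟨_, rfl⟩
    rw [hφ]
    rw [IsIso.inv_comp_eq] at hφ
    have h2 := congrArg ((tilde.adjunction (R := R)).homEquiv _ _) hφ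
    rw [Equiv.apply_symm_apply, Adjunction.homEquiv_naturality_right] at h2
    rw [h2, Adjunction.homEquiv_unit, Adjunction.right_triangle_components, Category.id_comp]

theorem gamma_shortExact {S : ShortComplex (Spec R).Modules} (hS : S.ShortExact) (h1 : Coh.IsQCoh S.X₁) :
    ∃ w, (ShortComplex.mk ((moduleSpecΓFunctor (R := R)).map S.f) ((moduleSpecΓFunctor (R := R)).map S.g) w).ShortExact := by
  let Γf := moduleSpecΓFunctor (R := R)
  haveI : PreservesLimitsOfSize.{0, 0} Γf := (tilde.adjunction (R := R)).rightAdjoint_preservesLimits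
  haveI : Γf.Additive := (tilde.adjunction (R := R)).right_adjoint_additive
  refine ⟨by rw [← Functor.map_comp, S.zero, Functor.map_zero], ?_⟩
  haveI := hS.mono_f
  haveI := hS.epi_g
  have hmono : Mono (Γf.map S.f) := inferInstance
  have hker : IsLimit (KernelFork.ofι (Γf.map S.f)
      (show Γf.map S.f ≫ Γf.map S.g = 0 by rw [← Functor.map_comp, S.zero, Functor.map_zero])) :=
    KernelFork.mapIsLimit (KernelFork.ofι S.f S.zero) hS.fIsKernel Γf
  refine { exact := ShortComplex.exact_of_f_is_kernel _ hker, mono_f := hmono, epi_g := ?_ }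
  refine (ModuleCat.epi_iff_surjective _).2 fun q => ?_
  obtain ⟨p, hp⟩ := QCoh.app_top_surjective_of_HH_one hS (QCoh.subsingleton_HH_of_isAffine h1 0) q
  exact ⟨p, hp⟩

theorem projective_gamma_free (σ : Type u) :
    Projective ((moduleSpecΓFunctor (R := R)).obj (SheafOfModules.free σ : (Spec R).Modules)) := by
  haveI : Projective (ModuleCat.of R (σ →₀ R)) := (IsProjective.iff_projective (R := R) (σ →₀ R)).1 inferInstance
  exact Projective.of_iso ((tilde.toTildeΓNatIso.app (ModuleCat.of R (σ →₀ R))) ≪≫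
    (moduleSpecΓFunctor (R := R)).mapIso (tildeFinsupp σ)) inferInstance

theorem nonempty_gamma_unit :
    Nonempty ((moduleSpecΓFunctor (R := R)).obj (Coh.structureModule (Spec R)) ≅ ModuleCat.of R R) :=
  ⟨((tilde.toTildeΓNatIso.app (ModuleCat.of R R)) ≪≫ (moduleSpecΓFunctor (R := R)).mapIso tildeSelf).symm⟩

/-- Surjectivity of restriction of morphisms into a module, via sections. -/
theorem surjective_precomp_iff {A B : (Spec R).Modules} (hA : Coh.IsQCoh A) (hB : Coh.IsQCoh B) (f : A ⟶ B)
    (N : (Spec R).Modules) (Y : ModuleCat.{u} R) (e : (moduleSpecΓFunctor (R := R)).obj N ≅ Y) :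
    (Function.Surjective fun φ : B ⟶ N => f ≫ φ) ↔
      Function.Surjective fun φ : (moduleSpecΓFunctor (R := R)).obj B ⟶ Y =>
        (moduleSpecΓFunctor (R := R)).map f ≫ φ := by
  constructor <;> intro h ψ
  · obtain ⟨a, ha⟩ := (gamma_map_bijective hA N).2 (ψ ≫ e.inv)
    obtain ⟨φ, rfl⟩ := h a
    refine ⟨(moduleSpecΓFunctor (R := R)).map φ ≫ e.hom, ?_⟩
    simp only at ha ⊢
    rw [← Category.assoc, ← Functor.map_comp, ha, Category.assoc, e.inv_hom_id, Category.comp_id]
  · obtain ⟨φ', hφ'⟩ := h ((moduleSpecΓFunctor (R := R)).map ψ ≫ e.hom)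
    obtain ⟨φ, hφ⟩ := (gamma_map_bijective hB N).2 (φ' ≫ e.inv)
    refine ⟨φ, (gamma_map_bijective hA N).1 ?_⟩
    simp only at hφ hφ' ⊢
    rw [Functor.map_comp, hφ, ← Category.assoc, hφ', Category.assoc, e.hom_inv_id, Category.comp_id]

end Spec

end Groth.Agent.AffineHomExt
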