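import Groth.Agent.Lib.ExtStalk

/-!
`Ext` between the sections of a coherent and a quasi-coherent module is read on the stalks.
-/

set_option linter.style.haveILetI false
set_option linter.unusedSectionVars false
set_option backward.isDefEq.respectTransparency false
set_option backward.isDefEq.respectTransparency.types false
set_option maxHeartbeats 1000000

universe u

open CategoryTheory CategoryTheory.Limits AlgebraicGeometry TopologicalSpace Opposite CategoryTheory.Abelian

noncomputable section

namespace Groth.Agent.ExtStalk2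

/-- Restriction of scalars along an isomorphism, up to semilinear bijections of both arguments. -/
theorem subsingleton_ext_semilinear {R S : Type u} [CommRing R] [CommRing S] (e : R ≃+* S)
    {M N : ModuleCat.{u} R} {M' N' : ModuleCat.{u} S} (a : M ≃+ M') (ha : ∀ (r : R) (x : M), a (r • x) = e r • a x)
    (b : N ≃+ N') (hb : ∀ (r : R) (x : N), b (r • x) = e r • b x) (j : ℕ) :
    Subsingleton (Ext.{u} M N j) ↔ Subsingleton (Ext.{u} M' N' j) := by
  rw [← ExtStalk.subsingleton_ext_restrict_iff e M' N' j]
  refine ExtStalk.subsingleton_ext_congr ?_ ?_ j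
  · let a' : M ≃ₗ[R] ((ModuleCat.restrictScalars.{u} e.toRingHom).obj M' : ModuleCat.{u} R) :=
      { a with map_smul' := ha }
    exact a'.toModuleIso
  · let b' : N ≃ₗ[R] ((ModuleCat.restrictScalars.{u} e.toRingHom).obj N' : ModuleCat.{u} R) :=
      { b with map_smul' := hb }
    exact b'.toModuleIso

theorem iso_semilinear {A S : Type u} [CommRing A] [CommRing S] [Algebra A S] (T : Submonoid A) [IsLocalization T S]
    {N P : Type u} [AddCommGroup N] [Module A N] [AddCommGroup P] [Module A P] [Module S P] [IsScalarTower A S P]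
    (g : N →ₗ[A] P) [IsLocalizedModule T g] (r : Localization T) (x : LocalizedModule T N) :
    IsLocalizedModule.iso T g (r • x) = IsLocalization.algEquiv T (Localization T) S r • IsLocalizedModule.iso T g x := by
  let e := IsLocalization.algEquiv T (Localization T) S
  obtain ⟨a, s, rfl⟩ := IsLocalization.exists_mk'_eq T r
  have hu : IsUnit (algebraMap A S (s : A)) := IsLocalization.map_units S s
  refine hu.smul_left_cancel.1 ?_
  show algebraMap A S (s : A) • IsLocalizedModule.iso T g (IsLocalization.mk' (Localization T) a s • x) =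
    algebraMap A S (s : A) • e (IsLocalization.mk' (Localization T) a s) • IsLocalizedModule.iso T g x
  have h : (s : A) • (IsLocalization.mk' (Localization T) a s • x) = a • x := by
    rw [← algebraMap_smul (Localization T) (s : A), ← mul_smul, IsLocalization.mk'_spec', algebraMap_smul]
  rw [← mul_smul, ← e.commutes, ← map_mul, IsLocalization.mk'_spec', e.commutes, e.commutes, algebraMap_smul,
    algebraMap_smul, ← map_smul, h, map_smul]

variable {X : Scheme.{u}} [IsLocallyNoetherian X] {M L : X.Modules}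

/-- `Ext` on an affine open is read on the stalks. -/
theorem subsingleton_ext_sections_iff (hM : Coh.IsCoh M) (hL : Coh.IsQCoh L) {U : X.Opens} (hU : IsAffineOpen U)
    (j : ℕ) :
    Subsingleton (Ext.{u} (ModuleCat.of Γ(X, U) Γ(M, U)) (ModuleCat.of Γ(X, U) Γ(L, U)) j) ↔
      ∀ x ∈ U, Subsingleton (Ext.{u} (ModuleCat.of (X.presheaf.stalk x) (M.presheaf.stalk x))
        (ModuleCat.of (X.presheaf.stalk x) (L.presheaf.stalk x)) j) := by
  haveI : IsNoetherianRing Γ(X, U) := IsLocallyNoetherian.component_noetherian ⟨U, hU⟩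
  haveI := QCoh.finite_of_isFT hM.1 hM.2 hU
  rw [ExtStalk.subsingleton_iff_localized (A := Γ(X, U))]
  have key : ∀ x (hx : x ∈ U),
      Subsingleton (LocalizedModule (hU.primeIdealOf ⟨x, hx⟩).asIdeal.primeCompl
          (Ext.{u} (ModuleCat.of Γ(X, U) Γ(M, U)) (ModuleCat.of Γ(X, U) Γ(L, U)) j)) ↔
        Subsingleton (Ext.{u} (ModuleCat.of (X.presheaf.stalk x) (M.presheaf.stalk x))
          (ModuleCat.of (X.presheaf.stalk x) (L.presheaf.stalk x)) j) := by
    intro x hx
    letI := QCoh.stalkAlg (X := X) hx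
    letI := QCoh.stalkModule M hx
    letI := QCoh.stalkModule L hx
    haveI := QCoh.isScalarTower_stalk M hx
    haveI := QCoh.isScalarTower_stalk L hx
    haveI := QCoh.isLocalization_stalk' hU hx
    haveI := QCoh.isLocalizedModule_germLin hM.1 hU hx
    haveI := QCoh.isLocalizedModule_germLin hL hU hx
    let T := (hU.primeIdealOf ⟨x, hx⟩).asIdeal.primeCompl
    obtain ⟨w⟩ := LC.exists_extLoc T (Γ(L, U)) j (Γ(M, U))
    rw [w.toEquiv.subsingleton_congr]
    exact subsingleton_ext_semilinear (IsLocalization.algEquiv T (Localization T) (X.presheaf.stalk x)).toRingEquiv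
      (IsLocalizedModule.iso T (QCoh.germLin M hx)).toAddEquiv (iso_semilinear T (QCoh.germLin M hx))
      (IsLocalizedModule.iso T (QCoh.germLin L hx)).toAddEquiv (iso_semilinear T (QCoh.germLin L hx)) j
  refine ⟨fun h x hx => (key x hx).1 (h _), fun h p => ?_⟩
  obtain ⟨x, hx, rfl⟩ := QCoh.exists_point hU p
  exact (key x hx).2 (h x hx)

/-- The same, through an affine chart. -/
theorem subsingleton_ext_chart_iff (hM : Coh.IsCoh M) (hL : Coh.IsQCoh L) {R : CommRingCat.{u}} (f : Spec R ⟶ X)
    [IsOpenImmersion f] (j : ℕ) :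
    Subsingleton (Ext.{u} ((moduleSpecΓFunctor (R := R)).obj ((Scheme.Modules.restrictFunctor f).obj M))
        ((moduleSpecΓFunctor (R := R)).obj ((Scheme.Modules.restrictFunctor f).obj L)) j) ↔
      ∀ x ∈ Set.range f.base, Subsingleton (Ext.{u} (ModuleCat.of (X.presheaf.stalk x) (M.presheaf.stalk x))
        (ModuleCat.of (X.presheaf.stalk x) (L.presheaf.stalk x)) j) := by
  have hU : IsAffineOpen (f ''ᵁ ⊤) := (isAffineOpen_top (Spec R)).image_of_isOpenImmersion f
  let e : R ≅ Γ(X, f ''ᵁ ⊤) := (Scheme.ΓSpecIso R).symm ≪≫ (f.appIso ⊤).symm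
  refine (subsingleton_ext_semilinear e.commRingCatIsoToRingEquiv
    (M' := ModuleCat.of Γ(X, f ''ᵁ ⊤) Γ(M, f ''ᵁ ⊤)) (N' := ModuleCat.of Γ(X, f ''ᵁ ⊤) Γ(L, f ''ᵁ ⊤))
    (AddEquiv.refl _) (fun r x => rfl) (AddEquiv.refl _) (fun r x => rfl) j).trans
    ((subsingleton_ext_sections_iff hM hL hU j).trans (forall_congr' fun x => ?_))
  have : (x ∈ f ''ᵁ (⊤ : (Spec R).Opens)) ↔ x ∈ Set.range f.base := by simp
  rw [this]

end Groth.Agent.ExtStalk2
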