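import Groth.Agent.Lib.ExtShShift
import Groth.Agent.Lib.AffineHomExt
import Groth.Agent.Lib.ExtStalk2
import Groth.Agent.SheafHomX.Main
import Groth.Agent.Lib.CurveDeg

/-!
Vanishing of local Ext sheaves on locally Noetherian schemes, read on affine charts and on stalks.
-/

set_option linter.style.haveILetI false
set_option linter.unusedSectionVars false
set_option linter.overlappingInstances false
set_option backward.isDefEq.respectTransparency false
set_option backward.isDefEq.respectTransparency.types false
set_option maxHeartbeats 1000000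

universe u

open CategoryTheory CategoryTheory.Limits AlgebraicGeometry TopologicalSpace Opposite
open Groth.Agent.SheafHomX

noncomputable section

namespace Groth.Agent.ExtShLocal

open Groth.Agent.KFlatLib

attribute [local instance] CategoryTheory.Abelian.hasFiniteBiproducts

section Basic

variable {X : Scheme.{u}}

theorem epi_hom_map_biproduct {β : Type u} [Fintype β] (T : β → X.Modules) {A B : X.Modules} (v : A ⟶ B)
    (h : ∀ b, Epi ((hom (T b)).map v)) : Epi ((hom (⨁ T)).map v) := by
  haveI : ∀ b, Epi ((hom (T b)).map v) := h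
  have hn : (hom (⨁ T)).map v ≫ (homBiproductIso T B).hom =
      (homBiproductIso T A).hom ≫ biproduct.map fun b => (hom (T b)).map v := by
    refine biproduct.hom_ext _ _ fun b => ?_
    rw [Category.assoc, Category.assoc, biproduct.map_π]
    show _ ≫ biproduct.lift _ ≫ biproduct.π _ b = biproduct.lift _ ≫ biproduct.π _ b ≫ _
    rw [biproduct.lift_π, biproduct.lift_π_assoc]
    exact (homMap (biproduct.ι T b)).naturality v
  rw [show (hom (⨁ T)).map v = ((homBiproductIso T A).hom ≫ biproduct.map fun b => (hom (T b)).map v) ≫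
      (homBiproductIso T B).inv by rw [← hn, Category.assoc, Iso.hom_inv_id, Category.comp_id]]
  infer_instance

theorem isZero_hom_iff_epi (M N : X.Modules) :
    IsZero ((hom M).obj N) ↔ Epi ((homMap (0 : M ⟶ M)).app N) := by
  rw [homMap_zero]
  exact ⟨fun h => Preadditive.epi_of_cancel_zero _ fun g _ => h.eq_of_src _ _, fun h =>
    IsZero.of_epi_eq_zero (0 : (hom M).obj N ⟶ (hom M).obj N) rfl⟩

theorem ev_homMap {M M' N : X.Modules} (g : M ⟶ M') (a : Coh.structureModule X ⟶ (hom M').obj N) :
    ev M N (a ≫ (homMap g).app N) = g ≫ ev M' N a := by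
  show (tenUnitIso M).inv ≫ ((adj M).homEquiv _ _).symm (a ≫ (homMap g).app N) =
    g ≫ (tenUnitIso M').inv ≫ ((adj M').homEquiv _ _).symm a
  rw [homEquiv_homMap, ← Category.assoc, HomSections.tenUnitIso_inv_naturality, Category.assoc]

theorem surjective_global_iff {M M' N : X.Modules} (g : M ⟶ M') :
    (Function.Surjective fun a : Coh.structureModule X ⟶ (hom M').obj N => a ≫ (homMap g).app N) ↔
      Function.Surjective fun φ : M' ⟶ N => g ≫ φ := by
  constructor
  · intro h ψ
    obtain ⟨a, ha⟩ := h ((ev M N).symm ψ)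
    refine ⟨ev M' N a, ?_⟩
    show g ≫ ev M' N a = ψ
    rw [← ev_homMap, show a ≫ (homMap g).app N = _ from ha, AddEquiv.apply_symm_apply]
  · intro h b
    obtain ⟨φ, hφ⟩ := h (ev M N b)
    refine ⟨(ev M' N).symm φ, (ev M N).injective ?_⟩
    show ev M N ((ev M' N).symm φ ≫ (homMap g).app N) = ev M N b
    rw [ev_homMap, AddEquiv.apply_symm_apply]
    exact hφ

end Basic

section Affine

variable {R : CommRingCat.{u}} [IsNoetherianRing R]

theorem isQCoh_hom {M L : (Spec R).Modules} (hM : Coh.IsCoh M) (hL : Coh.IsQCoh L) :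
    Coh.IsQCoh ((hom M).obj L) := by
  obtain ⟨σ, τ, _, _, f, g, w, hg, he⟩ := exists_presentation_biproduct hM
  haveI := hg
  exact (isQCoh_hom_of_presentation f g w he hL).1

/-- Epimorphisms of internal homs on an affine scheme, on sections. -/
theorem epi_homMap_iff {M M' L : (Spec R).Modules} (hM : Coh.IsCoh M) (hM' : Coh.IsCoh M') (hL : Coh.IsQCoh L)
    (g : M ⟶ M') :
    Epi ((homMap g).app L) ↔ Function.Surjective
      (fun φ : (moduleSpecΓFunctor (R := R)).obj M' ⟶ (moduleSpecΓFunctor (R := R)).obj L =>
        (moduleSpecΓFunctor (R := R)).map g ≫ φ) := by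
  refine Iff.trans ?_ ((surjective_global_iff g).trans
    (AffineHomExt.surjective_precomp_iff hM.1 hM'.1 g L _ (Iso.refl _)))
  exact ⟨fun h => haveI := h; HomSections.surjective_of_epi (isQCoh_hom hM' hL) (isQCoh_hom hM hL) _,
    HomSections.epi_of_surjective (isQCoh_hom hM hL) _⟩

/-- A presentation by a finite free module. -/
theorem exists_free_epi {M : (Spec R).Modules} (hM : Coh.IsCoh M) :
    ∃ (σ : Type u) (_ : Fintype σ) (g : (⨁ fun _ : σ => Coh.structureModule (Spec R)) ⟶ M), Epi g := by
  obtain ⟨σ, τ, hσ, _, f, g, w, hg, he⟩ := exists_presentation_biproduct hM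
  exact ⟨σ, hσ, g, hg⟩

/-- Vanishing of the local Ext sheaves on an affine scheme is vanishing of the Ext modules. -/
theorem isZero_cx_iff {L : (Spec R).Modules} (hL : Coh.IsQCoh L) (I : InjectiveResolution L) : ∀ (j : ℕ)
    {M : (Spec R).Modules}, Coh.IsCoh M →
      (IsZero ((ExtShShift.cx I M).homology j) ↔
        Subsingleton (Abelian.Ext.{u} ((moduleSpecΓFunctor (R := R)).obj M)
          ((moduleSpecΓFunctor (R := R)).obj L) j)) := by
  haveI : IsLocallyNoetherian (Spec R) := isLocallyNoetherian_Spec.2 ‹_›
  intro j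
  induction j with
  | zero =>
    intro M hM
    haveI : (moduleSpecΓFunctor (R := R)).Additive := (tilde.adjunction (R := R)).right_adjoint_additive
    rw [← (ExtShShift.zeroIso I M).isZero_iff, isZero_hom_iff_epi, epi_homMap_iff hM hM hL]
    simp only [Functor.map_zero, zero_comp]
    refine ⟨fun h => ⟨fun x y => ?_⟩, fun h ψ => ⟨0, ((Abelian.Ext.mk₀_bijective _ _).1 (h.elim _ _))⟩⟩
    obtain ⟨x, rfl⟩ := (Abelian.Ext.mk₀_bijective _ _).2 x
    obtain ⟨y, rfl⟩ := (Abelian.Ext.mk₀_bijective _ _).2 y
    obtain ⟨_, rfl⟩ := h x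
    obtain ⟨_, rfl⟩ := h y
    rfl
  | succ j ih =>
    intro M hM
    obtain ⟨σ, _, φ, hφ⟩ := exists_free_epi hM
    haveI := hφ
    let S : ShortComplex (Spec R).Modules := ShortComplex.mk (kernel.ι φ) φ (kernel.condition φ)
    have hS : S.ShortExact := { exact := ShortComplex.exact_of_f_is_kernel _ (kernelIsKernel φ) }
    have hP : Coh.IsCoh S.X₂ := isCoh_biproduct_self (CurveDeg.isCoh_of_isInvertible InvX.isInvertible_structureModule)
    have hK : Coh.IsCoh S.X₁ := QCoh.isCoh_kernel hP hM φ
    have hz : ∀ q : ℕ, IsZero ((ExtShShift.cx I S.X₂).homology (q + 1)) :=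
      ExtShShift.isZero_of_exact I S.X₂ fun u hu => epi_hom_map_biproduct _ u fun _ => by
        rw [show (hom (Coh.structureModule (Spec R))).map u =
          ((unitIso (Spec R)).hom.app _ ≫ (𝟭 (Spec R).Modules).map u) ≫ (unitIso (Spec R)).inv.app _ from by
            rw [← (unitIso (Spec R)).hom.naturality, Category.assoc, (unitIso (Spec R)).hom_inv_id_app, Category.comp_id]]
        simp only [Functor.id_map]
        haveI := hu
        infer_instance
    obtain ⟨w, hT⟩ := AffineHomExt.gamma_shortExact hS hK.1
    haveI : Projective ((moduleSpecΓFunctor (R := R)).obj S.X₂) :=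
      Projective.of_iso ((moduleSpecΓFunctor (R := R)).mapIso (biproduct.isoCoproduct _).symm)
        (AffineHomExt.projective_gamma_free σ)
    rcases j with _ | j
    · exact (ExtShShift.isZero_one_iff I hS (hz 0)).trans
        ((epi_homMap_iff hK hP hL S.f).trans (AffineHomExt.subsingleton_ext_one_iff hT _).symm)
    · exact (ExtShShift.isZero_succ_succ_iff I hS j (hz j) (hz (j + 1))).trans
        ((ih hK).trans (AffineHomExt.subsingleton_ext_iff_succ hT _ j))

end Affine

section Local

variable {X : Scheme.{u}}

theorem isZero_iff_restrict {ι : Type*} {Y : ι → Scheme.{u}} (j : ∀ i, Y i ⟶ X) [∀ i, IsOpenImmersion (j i)]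
    (hcov : ∀ x : X, ∃ i, x ∈ Set.range (j i).base) (A : X.Modules) :
    IsZero A ↔ ∀ i, IsZero ((Scheme.Modules.restrictFunctor (j i)).obj A) := by
  have hadd : ∀ i, (Scheme.Modules.restrictFunctor (j i)).Additive := fun i =>
    Functor.additive_of_preserves_binary_products _
  refine ⟨fun h i => haveI := hadd i; Functor.map_isZero _ h, fun h => ?_⟩
  rw [IsZero.iff_id_eq_zero]
  exact eq_zero_of_restrict j hcov _ fun i => (h i).eq_of_src _ _

theorem exists_affine (x : X) : ∃ U : X.Opens, IsAffineOpen U ∧ x ∈ U := by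
  obtain ⟨_, ⟨U, hU, rfl⟩, hx, -⟩ := X.isBasis_affineOpens.exists_subset_of_mem_open (Set.mem_univ x) isOpen_univ
  exact ⟨U, hU, hx⟩

variable {Y : Scheme.{u}} (j : Y ⟶ X) [IsOpenImmersion j]

theorem preservesHomology_restrict : (Scheme.Modules.restrictFunctor j).PreservesHomology := by
  haveI : (Scheme.Modules.restrictFunctor j).Additive := Functor.additive_of_preserves_binary_products _
  haveI : PreservesLimitsOfSize.{0, 0} (Scheme.Modules.restrictFunctor j) := (lshAdj j).rightAdjoint_preservesLimits
  haveI : PreservesFiniteLimits (Scheme.Modules.restrictFunctor j) := ⟨fun _ => inferInstance⟩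
  haveI : (Scheme.Modules.restrictFunctor j).PreservesEpimorphisms := ⟨fun f _ => inferInstance⟩
  exact Functor.preservesHomology_of_preservesEpis_and_kernels _

/-- The restricted resolution. -/
def restrictRes {L : X.Modules} (I : InjectiveResolution L) :
    InjectiveResolution ((Scheme.Modules.restrictFunctor j).obj L) :=
  haveI : (Scheme.Modules.restrictFunctor j).Additive := Functor.additive_of_preserves_binary_products _
  haveI := preservesHomology_restrict j
  { cocomplex := ((Scheme.Modules.restrictFunctor j).mapHomologicalComplex _).obj I.cocomplex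
    injective := fun n => haveI := I.injective n; Injective.injective_of_adjoint (lshAdj j) _
    ι := (HomologicalComplex.singleMapHomologicalComplex _ _ 0).inv.app L ≫
      ((Scheme.Modules.restrictFunctor j).mapHomologicalComplex _).map I.ι
    quasiIso := inferInstance }

/-- The local Ext complexes restrict. -/
theorem isZero_homology_restrict {L : X.Modules} (I : InjectiveResolution L) (M : X.Modules) (q : ℕ) :
    IsZero ((Scheme.Modules.restrictFunctor j).obj ((ExtShShift.cx I M).homology q)) ↔
      IsZero ((ExtShShift.cx (restrictRes j I) ((Scheme.Modules.restrictFunctor j).obj M)).homology q) := by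
  haveI : (Scheme.Modules.restrictFunctor j).Additive := Functor.additive_of_preserves_binary_products _
  haveI := preservesHomology_restrict j
  let c : ((Scheme.Modules.restrictFunctor j).mapHomologicalComplex _).obj (ExtShShift.cx I M) ≅
      ExtShShift.cx (restrictRes j I) ((Scheme.Modules.restrictFunctor j).obj M) :=
    HomologicalComplex.Hom.isoOfComponents (fun i => (restrictIso j M).app _) fun i i' _ =>
      ((restrictIso j M).hom.naturality (I.cocomplex.d i i')).symm
  exact ((((ExtShShift.cx I M).sc q).mapHomologyIso (Scheme.Modules.restrictFunctor j)).symm ≪≫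
    (HomologicalComplex.homologyMapIso c q)).isZero_iff

/-- Vanishing of a local Ext sheaf is read on the stalks. -/
theorem isZero_extSh_iff_stalk [IsLocallyNoetherian X] {M L : X.Modules} (hM : Coh.IsCoh M) (hL : Coh.IsQCoh L)
    [ModSite.HasSheafHom (O := X.sheaf) M] [HasInjectiveResolutions (ModSite.Mod X.sheaf)] (q : ℕ) :
    IsZero ((ModSite.extSh (O := X.sheaf) M q).obj L) ↔
      ∀ x : X, Subsingleton (Abelian.Ext.{u} (ModuleCat.of (X.presheaf.stalk x) (M.presheaf.stalk x))
        (ModuleCat.of (X.presheaf.stalk x) (L.presheaf.stalk x)) q) := by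
  haveI : HasInjectiveResolutions X.Modules :=
    inferInstanceAs (HasInjectiveResolutions (ModSite.Mod X.sheaf))
  let I : InjectiveResolution L := InjectiveResolution.of _
  obtain ⟨a⟩ := ExtShShift.nonempty_extSh_iso I M q
  let R : X → CommRingCat.{u} := fun x => Γ(X, (exists_affine x).choose)
  let f : ∀ x, Spec (R x) ⟶ X := fun x => (exists_affine x).choose_spec.1.fromSpec
  haveI hf : ∀ x, IsOpenImmersion (f x) := fun x => inferInstanceAs (IsOpenImmersion (exists_affine x).choose_spec.1.fromSpec)
  have hcov : ∀ x : X, ∃ i, x ∈ Set.range (f i).base := fun x =>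
    ⟨x, (exists_affine x).choose_spec.1.range_fromSpec.ge (exists_affine x).choose_spec.2⟩
  rw [a.isZero_iff, isZero_iff_restrict f hcov]
  have key : ∀ i, IsZero ((Scheme.Modules.restrictFunctor (f i)).obj ((ExtShShift.cx I M).homology q)) ↔
      ∀ x ∈ Set.range (f i).base,
        Subsingleton (Abelian.Ext.{u} (ModuleCat.of (X.presheaf.stalk x) (M.presheaf.stalk x))
          (ModuleCat.of (X.presheaf.stalk x) (L.presheaf.stalk x)) q) := by
    intro i
    haveI : IsNoetherianRing (R i) := IsLocallyNoetherian.component_noetherian ⟨_, (exists_affine i).choose_spec.1⟩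
    rw [isZero_homology_restrict, isZero_cx_iff (QCoh.isQCoh_restrict _ hL) _ q (isCoh_restrict (f i) hM)]
    exact ExtStalk2.subsingleton_ext_chart_iff hM hL (f i) q
  refine ⟨fun h x => ?_, fun h i => (key i).2 fun x _ => h x⟩
  obtain ⟨i, hi⟩ := hcov x
  exact (key i).1 (h i) x hi

end Local

end Groth.Agent.ExtShLocal
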