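import Groth.Agent.SheafHomX.Coherent
import Groth.Agent.KFlatLib.Scheme.ExtZero
import Groth.Agent.KFlatLib.Scheme.TensorAssoc
import Groth.Agent.QCoh.Local
import Groth.Agent.QCoh.CechStd
import Groth.Agent.InvX.Tensor
import Groth.Agent.InvX.GenEpi
import Groth.Agent.AmpleX.QAGenerated
import Groth.Agent.QCoh.Support
import Groth.Agent.QCoh.HHExact

/-!
Sections of the internal hom over an open chart, and twisting.
-/

set_option linter.style.haveILetI false
set_option linter.unusedSectionVars false
set_option backward.isDefEq.respectTransparency false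
set_option backward.isDefEq.respectTransparency.types false
set_option maxHeartbeats 800000

universe u

open CategoryTheory CategoryTheory.Limits AlgebraicGeometry TopologicalSpace Opposite MonoidalCategory

noncomputable section

namespace Groth.Agent.HomSections

open Groth.Agent.SheafHomX Groth.Agent.KFlatLib

variable {X U : Scheme.{u}} (j : U ⟶ X) [IsOpenImmersion j]

local notation "rj" => Scheme.Modules.restrictFunctor j

theorem tenUnitIso_inv_naturality {Y : Scheme.{u}} {M M' : Y.Modules} (g : M ⟶ M') :
    (tenUnitIso M).inv ≫ ((DCoh.tensorBi (X := Y)).flip.map g).app (Coh.structureModule Y) =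
      g ≫ (tenUnitIso M').inv := by
  rw [Iso.inv_comp_eq, ← Category.assoc, Iso.eq_comp_inv]
  have h1 := congrArg (fun t => t.app (Coh.structureModule Y))
    ((tensorBiFlipIso Y).hom.naturality g)
  have h2 := (tensorStructureIso Y).hom.naturality g
  simp only [NatTrans.comp_app] at h1
  show ((DCoh.tensorBi (X := Y)).flip.map g).app (Coh.structureModule Y) ≫
      (((tensorBiFlipIso Y).hom.app M').app (Coh.structureModule Y) ≫ (tensorStructureIso Y).hom.app M') =
    (((tensorBiFlipIso Y).hom.app M).app (Coh.structureModule Y) ≫ (tensorStructureIso Y).hom.app M) ≫ g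
  rw [← Category.assoc, h1, Category.assoc, Category.assoc]
  exact congrArg _ h2

/-- Sections of the internal hom over a chart. -/
def secEquiv (M N : X.Modules) :
    ((lsh j).obj (Coh.structureModule U) ⟶ (hom M).obj N) ≃ ((rj).obj M ⟶ (rj).obj N) :=
  (((adj M).homEquiv _ _).symm.trans (Iso.homFromEquiv (((projIso j).app (Coh.structureModule U)).app M).symm)).trans
    (((lshAdj j).homEquiv _ _).trans (Iso.homFromEquiv (tenUnitIso ((rj).obj M))))

theorem secEquiv_apply (M N : X.Modules) (a : (lsh j).obj (Coh.structureModule U) ⟶ (hom M).obj N) :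
    secEquiv j M N a = (tenUnitIso ((rj).obj M)).inv ≫ (lshAdj j).homEquiv _ _
      (((projIso j).hom.app (Coh.structureModule U)).app M ≫ ((adj M).homEquiv _ _).symm a) := rfl

theorem secEquiv_homMap {M M' : X.Modules} (g : M ⟶ M') (N : X.Modules)
    (a : (lsh j).obj (Coh.structureModule U) ⟶ (hom M').obj N) :
    secEquiv j M N (a ≫ (homMap g).app N) = (rj).map g ≫ secEquiv j M' N a := by
  rw [secEquiv_apply, secEquiv_apply, homEquiv_homMap, ← Category.assoc]
  have hn := ((projIso j).hom.app (Coh.structureModule U)).naturality g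
  have hn' : ((projIso j).hom.app (Coh.structureModule U)).app M ≫
      ((DCoh.tensorBi (X := X)).flip.map g).app ((lsh j).obj (Coh.structureModule U)) =
      (lsh j).map (((DCoh.tensorBi (X := U)).flip.map ((rj).map g)).app (Coh.structureModule U)) ≫
        ((projIso j).hom.app (Coh.structureModule U)).app M' := hn.symm
  rw [hn', Category.assoc, Adjunction.homEquiv_naturality_left, ← Category.assoc, tenUnitIso_inv_naturality,
    Category.assoc]

/-- Maps out of the structure module of a chart, pushed into the scheme. -/
theorem surjective_postcomp_iff {A B : X.Modules} (v : A ⟶ B) :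
    Function.Surjective (fun a : (lsh j).obj (Coh.structureModule U) ⟶ A => a ≫ v) ↔
      Function.Surjective (fun a : Coh.structureModule U ⟶ (rj).obj A => a ≫ (rj).map v) := by
  constructor
  · intro h b
    obtain ⟨a, ha⟩ := h (((lshAdj j).homEquiv _ _).symm b)
    refine ⟨(lshAdj j).homEquiv _ _ a, ?_⟩
    show (lshAdj j).homEquiv _ _ a ≫ (rj).map v = b
    rw [← Adjunction.homEquiv_naturality_right, show a ≫ v = _ from ha, Equiv.apply_symm_apply]
  · intro h b
    obtain ⟨a, ha⟩ := h ((lshAdj j).homEquiv _ _ b)
    refine ⟨((lshAdj j).homEquiv _ _).symm a, ?_⟩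
    show ((lshAdj j).homEquiv _ _).symm a ≫ v = b
    rw [← Adjunction.homEquiv_naturality_right_symm, show a ≫ (rj).map v = _ from ha, Equiv.symm_apply_apply]

/-- Surjectivity of restriction maps of morphisms is surjectivity on sections of the internal homs. -/
theorem surjective_homMap_iff {M M' : X.Modules} (g : M ⟶ M') (N : X.Modules) :
    Function.Surjective (fun a : (lsh j).obj (Coh.structureModule U) ⟶ (hom M').obj N => a ≫ (homMap g).app N) ↔
      Function.Surjective (fun φ : (rj).obj M' ⟶ (rj).obj N => (rj).map g ≫ φ) := by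
  constructor
  · intro h ψ
    obtain ⟨a, ha⟩ := h ((secEquiv j M N).symm ψ)
    refine ⟨secEquiv j M' N a, ?_⟩
    show (rj).map g ≫ secEquiv j M' N a = ψ
    rw [← secEquiv_homMap, show a ≫ (homMap g).app N = _ from ha, Equiv.apply_symm_apply]
  · intro h b
    obtain ⟨φ, hφ⟩ := h (secEquiv j M N b)
    refine ⟨(secEquiv j M' N).symm φ, (secEquiv j M N).injective ?_⟩
    show secEquiv j M N ((secEquiv j M' N).symm φ ≫ (homMap g).app N) = secEquiv j M N b
    rw [secEquiv_homMap, Equiv.apply_symm_apply]
    exact hφ

section Affine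

variable {R : CommRingCat.{u}}

/-- On an affine scheme epimorphisms of quasi-coherent modules are surjective on sections. -/
theorem surjective_of_epi {A B : (Spec R).Modules} (hA : Coh.IsQCoh A) (hB : Coh.IsQCoh B) (v : A ⟶ B) [Epi v] :
    Function.Surjective (fun a : Coh.structureModule (Spec R) ⟶ A => a ≫ v) := by
  intro b
  let S : ShortComplex (Spec R).Modules := ShortComplex.mk (kernel.ι v) v (kernel.condition v)
  have hS : S.ShortExact := { exact := ShortComplex.exact_of_f_is_kernel _ (kernelIsKernel v) }
  obtain ⟨t, ht⟩ := QCoh.app_top_surjective_of_HH_one hS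
    (QCoh.subsingleton_HH_of_isAffine (QCoh.isQCoh_kernel hA hB v) 0) (InvX.one b)
  refine ⟨InvX.ofSect t, sub_eq_zero.1 (AmpleX.eq_zero_of_one_eq_zero _ ?_)⟩
  show v.app ⊤ (InvX.one (InvX.ofSect t)) - InvX.one b = 0
  rw [InvX.one_ofSect, sub_eq_zero]
  exact ht

theorem exists_epi_tilde (N : ModuleCat.{u} R) :
    ∃ π : (SheafOfModules.free N : (Spec R).Modules) ⟶ tilde N, Epi π := by
  let f : ModuleCat.of R (N →₀ R) ⟶ N := ModuleCat.ofHom (Finsupp.linearCombination R id)
  haveI : Epi f := (ModuleCat.epi_iff_surjective _).2 (Finsupp.linearCombination_id_surjective R N)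
  haveI : Epi ((tilde.functor R).map f) := (tilde.functor R).map_epi f
  exact ⟨(tildeFinsupp N).inv ≫ (tilde.functor R).map f, epi_comp _ _⟩

/-- A map into a quasi-coherent module on an affine scheme that is onto on sections is epi. -/
theorem epi_of_surjective {A B : (Spec R).Modules} (hB : Coh.IsQCoh B) (v : A ⟶ B)
    (h : Function.Surjective (fun a : Coh.structureModule (Spec R) ⟶ A => a ≫ v)) : Epi v := by
  haveI : B.IsQuasicoherent := hB
  let N : ModuleCat.{u} R := (moduleSpecΓFunctor (R := R)).obj B
  obtain ⟨π, hπ⟩ := exists_epi_tilde N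
  haveI : IsIso B.fromTildeΓ := (isQuasicoherent_iff_isIso_fromTildeΓ B).1 hB
  let q : (SheafOfModules.free N : (Spec R).Modules) ⟶ B := π ≫ B.fromTildeΓ
  haveI : Epi q := epi_comp _ _
  choose a ha using h
  let l : (SheafOfModules.free N : (Spec R).Modules) ⟶ A :=
    Sigma.desc fun x => a (Sigma.ι (fun _ : N => Coh.structureModule (Spec R)) x ≫ q)
  have hl : l ≫ v = q := Sigma.hom_ext _ _ fun x => by
    rw [← Category.assoc, show Sigma.ι (fun _ : N => Coh.structureModule (Spec R)) x ≫ l = _ from Sigma.ι_desc _ x]
    exact ha _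
  exact epi_of_epi_fac hl

end Affine

section Twist

/-- The internal hom commutes with an equivalence given by tensoring. -/
theorem nonempty_hom_comm (M L L' : X.Modules) (h : ten L' ⊣ ten L) :
    Nonempty (hom M ⋙ ten L ≅ ten L ⋙ hom M) := by
  let τ : ten M ⋙ ten L' ≅ ten L' ⋙ ten M :=
    NatIso.ofComponents
      (fun Z => (((tensorAssocSch X).app Z).app M).app L' ≪≫
        (DCoh.tensorBi.obj Z).mapIso ((((tensorBiFlipIso X).app L').app M)) ≪≫
        ((((tensorAssocSch X).app Z).app L').app M).symm)
      fun {Z Z'} f => by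
        have h1 := congrArg (fun t => (t.app M).app L') ((tensorAssocSch X).hom.naturality f)
        have h3 := congrArg (fun t => (t.app L').app M) ((tensorAssocSch X).inv.naturality f)
        simp only [NatTrans.comp_app, bifunctorComp₁₂_map_app_app, bifunctorComp₂₃_map_app_app] at h1 h3
        simp only [Functor.comp_map, Iso.trans_hom, Functor.mapIso_hom, Iso.app_hom, Iso.symm_hom, Iso.app_inv]
        refine ((Category.assoc _ _ _).symm.trans (congrArg (· ≫ _) h1)).trans ?_
        refine (Category.assoc _ _ _).trans ?_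
        refine Eq.trans ?_ (Category.assoc _ _ _).symm
        refine congrArg (_ ≫ ·) ?_
        refine ((Category.assoc _ _ _).symm.trans (congrArg (· ≫ _) ((DCoh.tensorBi.map f).naturality _).symm)).trans ?_
        refine (Category.assoc _ _ _).trans ?_
        refine Eq.trans ?_ (Category.assoc _ _ _).symm
        exact congrArg (_ ≫ ·) h3
  exact ⟨((h.comp (adj M)).ofNatIsoLeft τ.symm).rightAdjointUniq ((adj M).comp h)⟩

end Twist

end Groth.Agent.HomSections
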