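import Groth.Agent.Lib.CurveStable
import Groth.Agent.Lib.CurveTensor
import Groth.Agent.Lib.CurveRR
import Groth.Agent.KFlatLib.Perfect.Tensor

/-!
Right tensoring by a bundle, and kernels and images of equivariant maps.
-/

set_option linter.style.haveILetI false
set_option linter.unusedSectionVars false
set_option backward.isDefEq.respectTransparency false
set_option backward.isDefEq.respectTransparency.types false

universe u

open CategoryTheory CategoryTheory.Limits AlgebraicGeometry TopologicalSpace Opposite MonoidalCategory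

namespace Groth.Agent.CurveHiggs

variable {X : Scheme.{u}} {L : X.Modules}

/-- Right tensoring with `L` on a map. -/
noncomputable abbrev twist (L : X.Modules) {A B : X.Modules} (f : A ⟶ B) :
    (DCoh.tensorBi.obj A).obj L ⟶ (DCoh.tensorBi.obj B).obj L :=
  (DCoh.tensorBi.map f).app L

theorem twist_comp {A B C : X.Modules} (f : A ⟶ B) (g : B ⟶ C) :
    twist L (f ≫ g) = twist L f ≫ twist L g := by
  simp [twist]

theorem twist_zero {A B : X.Modules} : twist L (0 : A ⟶ B) = 0 :=
  (DCoh.tensorBi.flip.obj L).map_zero A B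

theorem comm_naturality {A B : X.Modules} (f : A ⟶ B) :
    (CurveTensor.commIso A L).hom ≫ (DCoh.tensorBi.obj L).map f =
      twist L f ≫ (CurveTensor.commIso B L).hom := by
  simp only [CurveTensor.commIso, Functor.mapIso_hom]
  show DCoh.shP.map _ ≫ DCoh.shP.map _ = DCoh.shP.map _ ≫ DCoh.shP.map _
  rw [← DCoh.shP.map_comp, ← DCoh.shP.map_comp]
  congr 1
  exact (BraidedCategory.braiding_naturality_left _ _).symm

theorem mono_twist (hL : FlatMod.IsFinLocFree L) {A B : X.Modules} (f : A ⟶ B) [Mono f] :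
    Mono (twist L f) := by
  haveI : Mono ((DCoh.tensorBi.obj L).map f) :=
    (CurveTensor.shortExact_tensor hL f (cokernel.π f) (cokernel.condition f)
      (CurveSlope.shortExact_cokernel_of_mono f)).mono_f
  have : twist L f = (CurveTensor.commIso A L).hom ≫ (DCoh.tensorBi.obj L).map f ≫
      (CurveTensor.commIso B L).inv := by
    rw [← Category.assoc, comm_naturality, Category.assoc, Iso.hom_inv_id, Category.comp_id]
  rw [this]
  infer_instance

/-- A map killed by the twisted quotient lifts to the twisted subobject. -/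
theorem exists_lift (hL : FlatMod.IsFinLocFree L) {A B C T : X.Modules} (i : A ⟶ B) (p : B ⟶ C)
    (w : i ≫ p = 0) (hS : (ShortComplex.mk i p w).ShortExact)
    (x : T ⟶ (DCoh.tensorBi.obj B).obj L) (hx : x ≫ twist L p = 0) :
    ∃ y, y ≫ twist L i = x := by
  have h := CurveTensor.shortExact_tensor hL i p w hS
  haveI := h.mono_f
  have hx' : (x ≫ (CurveTensor.commIso B L).hom) ≫ (DCoh.tensorBi.obj L).map p = 0 := by
    rw [Category.assoc, comm_naturality, ← Category.assoc, hx, zero_comp]
  refine ⟨h.exact.lift _ hx' ≫ (CurveTensor.commIso A L).inv, ?_⟩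
  haveI : Mono (CurveTensor.commIso B L).hom := inferInstance
  rw [← cancel_mono (CurveTensor.commIso B L).hom, Category.assoc, Category.assoc, ← comm_naturality,
    Iso.inv_hom_id_assoc]
  exact h.exact.lift_f _ _

/-- Kernel and image of an equivariant map are invariant. -/
theorem exists_invariant (hL : FlatMod.IsFinLocFree L) {E F I : X.Modules}
    (φ : E ⟶ (DCoh.tensorBi.obj E).obj L) (ψ : F ⟶ (DCoh.tensorBi.obj F).obj L)
    (f : E ⟶ F) (hf : f ≫ ψ = φ ≫ twist L f)
    (π : E ⟶ I) [Epi π] (j : I ⟶ F) [Mono j] (hfac : π ≫ j = f) :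
    (∃ χ, χ ≫ twist L (kernel.ι f) = kernel.ι f ≫ φ) ∧ ∃ χ, χ ≫ twist L j = j ≫ ψ := by
  have hw : kernel.ι f ≫ π = 0 := by
    rw [← cancel_mono j, Category.assoc, hfac, kernel.condition, zero_comp]
  haveI := mono_twist hL j
  have hker : (kernel.ι f ≫ φ) ≫ twist L π = 0 := by
    rw [← cancel_mono (twist L j), Category.assoc, ← twist_comp, hfac, Category.assoc, ← hf,
      kernel.condition_assoc, zero_comp, zero_comp]
  have hse : (ShortComplex.mk (kernel.ι f) π hw).ShortExact := by
    refine { exact := ShortComplex.exact_of_f_is_kernel _ (KernelFork.IsLimit.ofι _ _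
      (fun g hg => kernel.lift f g (by rw [← hfac, ← Category.assoc, hg, zero_comp]))
      (fun g hg => kernel.lift_ι _ _ _)
      (fun g hg m hm => by rw [← cancel_mono (kernel.ι f), kernel.lift_ι]; exact hm)) }
  obtain ⟨χ, hχ⟩ := exists_lift hL _ _ hw hse (kernel.ι f ≫ φ) hker
  have hdesc : kernel.ι f ≫ (φ ≫ twist L π) = 0 := by rw [← Category.assoc, hker]
  refine ⟨⟨χ, hχ⟩, hse.exact.desc (φ ≫ twist L π) hdesc, ?_⟩
  haveI : Epi (ShortComplex.mk (kernel.ι f) π hw).g := hse.epi_g
  have h1 : π ≫ hse.exact.desc (φ ≫ twist L π) hdesc = φ ≫ twist L π := hse.exact.g_desc _ _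
  rw [← cancel_epi π, ← Category.assoc, h1, Category.assoc, ← twist_comp, hfac, ← hf, reassoc_of% hfac]


/-- Right tensoring is left tensoring. -/
noncomputable def flipIso (L : X.Modules) : DCoh.tensorBi.flip.obj L ≅ DCoh.tensorBi.obj L :=
  NatIso.ofComponents (fun M => CurveTensor.commIso M L) fun f => (comm_naturality f).symm

/-- Tensoring with an invertible module is an equivalence. -/
noncomputable def twistEquiv {A B : X.Modules}
    (e : (DCoh.tensorBi.obj A).obj B ≅ Coh.structureModule X) : X.Modules ≌ X.Modules :=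
  CategoryTheory.Equivalence.mk (DCoh.tensorBi.obj A) (DCoh.tensorBi.obj B)
    (CurveRR.cancelIso (CurveTensor.commIso B A ≪≫ e)).symm (CurveRR.cancelIso e)

theorem twistEquiv_functor {A B : X.Modules}
    (e : (DCoh.tensorBi.obj A).obj B ≅ Coh.structureModule X) :
    (twistEquiv e).functor = DCoh.tensorBi.obj A := rfl


theorem isCoh_twist (hL : FlatMod.IsFinLocFree L) {E : X.Modules} (hE : Coh.IsCoh E) :
    Coh.IsCoh ((DCoh.tensorBi.obj E).obj L) := by
  have h := CurveTensor.isCoh_tensor hL hE
  have hq := (QCoh.isQCoh_iff_iso (CurveTensor.commIso L E)).1 h.1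
  exact ⟨hq, (QCoh.isCoh_of_epi (CurveTensor.commIso L E).hom h hq).2⟩

theorem isFinLocFree_twist (hL : PicF.IsInvertible L) {E : X.Modules} (hE : FlatMod.IsFinLocFree E) :
    FlatMod.IsFinLocFree ((DCoh.tensorBi.obj E).obj L) :=
  KFlatLib.isFinLocFree_tensor hE fun x =>
    let ⟨U, hx, h⟩ := InvEnd.isFinLocFreeOfRank_one hL x
    ⟨U, 1, hx, h⟩

end Groth.Agent.CurveHiggs
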