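import Groth.Agent.Lib.DualSheaf
import Groth.Agent.Lib.NegVanAmple
import Groth.Agent.Lib.CurveHiggs
import Groth.Agent.Lib.PnDualTwistAdj

/-!
Serre duality on a closed subscheme of projective space in a range of degrees.
-/

set_option linter.style.haveILetI false
set_option linter.unusedSectionVars false
set_option linter.overlappingInstances false
set_option backward.isDefEq.respectTransparency false
set_option backward.isDefEq.respectTransparency.types false
set_option maxHeartbeats 1000000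

universe u

open CategoryTheory CategoryTheory.Limits AlgebraicGeometry TopologicalSpace Opposite Filter
open CategoryTheory.Abelian
open Groth.Agent.PnCoh Groth.Agent.PnCoh.Finite
open scoped Groth.Agent.H23.PicMul

noncomputable section

namespace Groth.Agent.DualRange

section General

variable {X : Scheme.{u}} [HasExt.{u} X.Modules] {k : Type u} [Field k] [X.Over (Spec (CommRingCat.of k))]
  {W : X.Modules} {n : ℕ} (t : Coh.HH X W n →ₗ[k] k)

/-- The pairing as a linear map. -/
def pairingLin {G : X.Modules} (q p : ℕ) (h : p + q = n) :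
    Ext.{u} G W q →ₗ[k] Module.Dual k (Coh.HH X G p) where
  toFun e := DualPair.pairing t q p h e
  map_add' e e' := DualPair.pairing_add t q p h e e'
  map_smul' a e := DualPair.pairing_smul t q p h a e

/-- What a presentation must satisfy in a range. -/
structure IsPres (s : ℕ) (S : ShortComplex X.Modules) : Prop where
  shortExact : S.ShortExact
  ext : ∀ j, 0 < j → Subsingleton (Ext.{u} S.X₂ W j)
  coh : ∀ j, j < n → n ≤ j + s → Subsingleton (Coh.HH X S.X₂ j)

/-- Duality by the pairing in a range of degrees. -/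
theorem bijective_pairing (P : X.Modules → Prop) (s : ℕ)
    (htop : ∀ F, P F → Function.Bijective (Canon.dualityMap k X n W t F))
    (hpres : ∀ F, P F → ∃ S : ShortComplex X.Modules,
      S.X₃ = F ∧ P S.X₁ ∧ P S.X₂ ∧ IsPres (W := W) (n := n) s S) :
    ∀ (q p : ℕ) (h : p + q = n), q ≤ s → ∀ (F : X.Modules), P F →
      Function.Bijective (DualPair.pairing t (G := F) q p h) := by
  intro q
  induction q with
  | zero =>
    intro p h _ F hF
    obtain rfl : p = n := by omega
    refine (Function.Bijective.of_comp_iff _ (Ext.mk₀_bijective F W)).1 ?_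
    rw [show DualPair.pairing t (G := F) 0 p h ∘ Ext.mk₀ = Canon.dualityMap k X p W t F from
      funext fun φ => DualPair.pairing_mk₀ t φ]
    exact htop F hF
  | succ q ih =>
    intro p h hqs F hF
    obtain ⟨S, rfl, hK, hE, hS, hext, hcoh⟩ := hpres F hF
    have hsur : Function.Surjective fun y : Ext.{u} S.X₁ W q => hS.extClass.comp y (add_comm 1 q) :=
      fun x => Ext.contravariant_sequence_exact₃ hS W x ((hext (q + 1) q.succ_pos).elim _ _) (add_comm 1 q)
    have hD := (ih (p + 1) (by omega) (by omega) S.X₂ hE).2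
    constructor
    · intro e e' hee
      rw [← sub_eq_zero]
      obtain ⟨y, hy⟩ := hsur (e - e')
      rw [← hy]
      have h0 : DualPair.pairing t (q + 1) p h (hS.extClass.comp y (add_comm 1 q)) = 0 := by
        rw [show hS.extClass.comp y (add_comm 1 q) = e - e' from hy]
        refine add_right_cancel (b := DualPair.pairing t (q + 1) p h e') ?_
        rw [← DualPair.pairing_add, sub_add_cancel, zero_add, hee]
      rw [DualPair.pairing_delta t hS q p (by omega) h] at h0
      have hsub : LinearMap.ker (Canon.HHlin k S.f (p + 1)) ≤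
          LinearMap.ker (DualPair.pairing t q (p + 1) (by omega) y) := fun x hx => by
        obtain ⟨z, rfl⟩ := (PnDual.HHlin_f_eq_zero_iff hS p x).1 (LinearMap.mem_ker.1 hx)
        exact LinearMap.congr_fun h0 z
      obtain ⟨g, hg⟩ : DualPair.pairing t q (p + 1) (by omega) y ∈
          LinearMap.range (Canon.HHlin k S.f (p + 1)).dualMap := by
        rw [LinearMap.range_dualMap_eq_dualAnnihilator_ker, Submodule.mem_dualAnnihilator]
        exact fun x hx => hsub hx
      obtain ⟨z, rfl⟩ := hD g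
      rw [← DualPair.pairing_precomp] at hg
      rw [← (ih (p + 1) (by omega) (by omega) S.X₁ hK).1 hg]
      show hS.extClass.comp ((Ext.mk₀ S.f).comp z (zero_add q)) (add_comm 1 q) = 0
      rw [← Ext.comp_assoc_of_second_deg_zero, hS.extClass_comp, Ext.zero_comp]
    · intro ψ
      have hδ : Function.Injective (deltaLin k hS p) := (injective_iff_map_eq_zero _).2 fun x hx => by
        obtain ⟨z, rfl⟩ := exists_of_deltaLin_eq_zero k hS p hx
        rw [(hcoh p (by omega) (by omega)).elim z 0, map_zero]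
      obtain ⟨g, rfl⟩ := LinearMap.dualMap_surjective_of_injective hδ ψ
      obtain ⟨y, rfl⟩ := (ih (p + 1) (by omega) (by omega) S.X₁ hK).2 g
      exact ⟨_, DualPair.pairing_delta t hS q p (by omega) h y⟩

end General

section Inv

/-- `Ext` out of the image of the unit under an equivalence. -/
theorem subsingleton_ext_equiv {Y : Scheme.{u}} [HasExt.{u} Y.Modules] (F G : Y.Modules ⥤ Y.Modules)
    (adj : F ⊣ G) (hF : F.IsEquivalence) (hG : G.IsEquivalence) {A : Y.Modules}
    (j : F.obj (Coh.structureModule Y) ≅ A) (M : Y.Modules) (i : ℕ) :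
    Subsingleton (Ext A M i) ↔ Subsingleton (Coh.HH Y (G.obj M) i) := by
  haveI := hF
  haveI := hG
  haveI : G.Additive := Functor.additive_of_preserves_binary_products _
  haveI : EnoughInjectives Y.Modules := inferInstanceAs (EnoughInjectives (SheafOfModules _))
  obtain ⟨e₁⟩ := SiteBase.nonempty_ext_addEquiv_of_adjunction adj j i M
  obtain ⟨e₂⟩ := SiteBase.nonempty_ext_unit_addEquiv (R := Y.ringCatSheaf) (G.obj M) i
  exact (e₁.trans e₂).toEquiv.subsingleton_congr

/-- `Ext` out of a module with an inverse is cohomology of the tensor product with the inverse. -/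
theorem subsingleton_ext_inv {Y : Scheme.{u}} [HasExt.{u} Y.Modules] {A B : Y.Modules}
    (e : (DCoh.tensorBi.obj A).obj B ≅ Coh.structureModule Y) (M : Y.Modules) (i : ℕ) :
    Subsingleton (Ext A M i) ↔ Subsingleton (Coh.HH Y (CohB1.tensorMod M B) i) := by
  have adj : DCoh.tensorBi.obj A ⊣ DCoh.tensorBi.obj B := (CurveHiggs.twistEquiv e).toAdjunction
  have hF : (DCoh.tensorBi.obj A).IsEquivalence := (CurveHiggs.twistEquiv e).isEquivalence_functor
  have hG : (DCoh.tensorBi.obj B).IsEquivalence := (CurveHiggs.twistEquiv e).isEquivalence_inverse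
  have j : (DCoh.tensorBi.obj A).obj (Coh.structureModule Y) ≅ A :=
    (KFlatLib.tensorStructureIso Y).app A
  refine (subsingleton_ext_equiv _ _ adj hF hG j M i).trans ?_
  let c : (DCoh.tensorBi.obj B).obj M ≅ CohB1.tensorMod M B := CurveTensor.commIso B M
  exact ⟨fun h => QCoh.subsingleton_HH_of_iso c i h, fun h => QCoh.subsingleton_HH_of_iso c.symm i h⟩

end Inv

variable {k : Type u} [Field k] {N : ℕ} {X : Scheme.{u}} (ι : X ⟶ CohB1.ProjSpace N k) [IsClosedImmersion ι]

/-- The twists of the subscheme. -/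
abbrev tw (d : ℤ) : X.Modules := (Scheme.Modules.pullback ι).obj (Twist.twistProjSpace N k d)

theorem isInvertible_pn (d : ℤ) : PicF.IsInvertible (Twist.twistProjSpace N k d) :=
  isInvertible_twist (ProjRegular.coords k N) ProjRegular.coords_mem ProjRegular.coords_cover d

theorem nonempty_twist_inverse (d : ℤ) :
    Nonempty ((DCoh.tensorBi.obj ((tw ι (d)))).obj ((tw ι (-d))) ≅ Coh.structureModule X) := by
  letI := H23.PicMul.clMonoid X
  letI := H23.PicMul.clMonoid (CohB1.ProjSpace N k)
  obtain ⟨t⟩ := twist_tensor_iso (ProjRegular.coords k N) ProjRegular.coords_mem ProjRegular.coords_cover d (-d)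
  have h1 : PicF.cl (Twist.twistProjSpace N k d) * PicF.cl (Twist.twistProjSpace N k (-d)) = 1 := by
    rw [← H23.PicMul.cl_tensor, H23.PicMul.one_def, H23.PicMul.cl_eq_iff]
    exact ⟨t ≪≫ eqToIso (by rw [add_neg_cancel]) ≪≫ (@asIso _ _ _ _ _
      (isIso_oneHom (ProjRegular.coords k N) ProjRegular.coords_mem ProjRegular.coords_cover)).symm⟩
  have h2 := congrArg (H23.PicMul.pullHom ι) h1
  rw [map_mul, map_one] at h2
  have h3 : PicF.cl (CohB1.tensorMod ((tw ι (d))) ((tw ι (-d)))) = PicF.cl (Coh.structureModule X) := by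
    rw [H23.PicMul.cl_tensor, ← H23.PicMul.one_def]
    exact h2
  exact H23.PicMul.cl_eq_iff.1 h3

theorem isCoh_pull (d : ℤ) : Coh.IsCoh ((tw ι (d))) :=
  haveI := NegVanStalk.noetherian k N
  ZClosLib.isCoh_pullback ι (CurveDeg.isCoh_of_isInvertible (isInvertible_pn d))

variable [HasExt.{u} X.Modules]

/-- Very negative twists have no higher `Ext` into a coherent module. -/
theorem exists_ext_bound {ω : X.Modules} (hω : Coh.IsCoh ω) :
    ∃ e₀ : ℤ, ∀ d ≤ e₀, ∀ j, 0 < j → Subsingleton (Ext.{u} ((tw ι (d))) ω j) := by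
  have hpush := NegVanClosed.isCoh_push ι hω
  obtain ⟨m₀, hm₀⟩ := eventually_atTop.1 ((eventually_all_finset (Finset.Icc 1 N)).2
    fun j hj => PnNegVan.eventually_vanish hpush j (Finset.mem_Icc.1 hj).1)
  refine ⟨-m₀, fun d hd j hj => ?_⟩
  obtain ⟨e⟩ := nonempty_twist_inverse ι d
  refine (subsingleton_ext_inv e ω j).2 ((NegVanClosed.subsingleton_HH_iff ι hω.1 (-d) j).2 ?_)
  rcases le_or_gt j N with h | h
  · exact hm₀ (-d) (by omega) j (Finset.mem_Icc.2 ⟨hj, h⟩)
  · exact Syzygy.subsingleton_high' hpush _ j h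

/-- Presentations by sums of very negative twists. -/
theorem exists_pres {F : X.Modules} (hF : Coh.IsCoh F) (c : ℤ) :
    ∃ (β : Type u) (_ : Fintype β) (d : β → ℤ) (_ : ∀ b, d b < c) (S : ShortComplex X.Modules)
      (p : ∀ b, S.X₂ ⟶ (tw ι (d b))) (q : ∀ b, (tw ι (d b)) ⟶ S.X₂),
      S.ShortExact ∧ S.X₃ = F ∧ Coh.IsCoh S.X₁ ∧ Coh.IsCoh S.X₂ ∧ ∑ b, p b ≫ q b = 𝟙 S.X₂ := by
  classical
  haveI := NegVanStalk.noetherian k N
  haveI : IsLocallyNoetherian X := LocallyOfFiniteType.isLocallyNoetherian ι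
  have hpush := NegVanClosed.isCoh_push ι hF
  obtain ⟨β, _, d, hd, S, p, q, hS, h3, -, hpq⟩ :=
    PnDual.exists_presentation_lt (R := k) (m := N) (PnDual.goodPn_of_isCoh hpush) c
  haveI := KZ.ClosedDev.isIso_counit ι hpush.1
  haveI := hS.epi_g
  haveI : (Scheme.Modules.pullback ι).IsLeftAdjoint :=
    (Scheme.Modules.pullbackPushforwardAdjunction ι).isLeftAdjoint
  haveI : (Scheme.Modules.pullback ι).Additive :=
    (Scheme.Modules.pullbackPushforwardAdjunction ι).left_adjoint_additive
  let φ : (Scheme.Modules.pullback ι).obj S.X₂ ⟶ F :=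
    (Scheme.Modules.pullback ι).map (S.g ≫ eqToHom h3) ≫
      (Scheme.Modules.pullbackPushforwardAdjunction ι).counit.app F
  haveI : Epi φ := by
    haveI : Epi ((Scheme.Modules.pullback ι).map (S.g ≫ eqToHom h3)) := inferInstance
    exact epi_comp _ _
  have hsum : ∑ b, (Scheme.Modules.pullback ι).map (p b) ≫ (Scheme.Modules.pullback ι).map (q b) =
      𝟙 ((Scheme.Modules.pullback ι).obj S.X₂) := by
    simp only [← Functor.map_comp]
    rw [← Functor.map_sum]
    exact (congrArg (Scheme.Modules.pullback ι).map hpq).trans ((Scheme.Modules.pullback ι).map_id _)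
  have hE : Coh.IsCoh ((Scheme.Modules.pullback ι).obj S.X₂) := by
    let B := fun b => (tw ι (d b))
    haveI : HasFiniteBiproducts X.Modules := Abelian.hasFiniteBiproducts
    let r : (⨁ B) ⟶ (Scheme.Modules.pullback ι).obj S.X₂ :=
      biproduct.desc fun b => (Scheme.Modules.pullback ι).map (q b)
    haveI : Epi r := by
      refine Preadditive.epi_of_cancel_zero _ fun {Z} g hg => ?_
      rw [← Category.id_comp g, ← hsum, Preadditive.sum_comp]
      refine Finset.sum_eq_zero fun b _ => ?_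
      have := congrArg (fun χ => biproduct.ι B b ≫ χ) hg
      simp only [r, biproduct.ι_desc_assoc, comp_zero] at this
      rw [Category.assoc]
      exact (congrArg (_ ≫ ·) this).trans comp_zero
    have hB : Coh.IsCoh (⨁ B) := QCoh.isCoh_biproduct B fun b => isCoh_pull ι (d b)
    have hsr : (∑ b, (Scheme.Modules.pullback ι).map (p b) ≫ biproduct.ι B b) ≫ r = 𝟙 _ := by
      rw [Preadditive.sum_comp, ← hsum]
      refine Finset.sum_congr rfl fun b _ => ?_
      rw [Category.assoc]
      exact congrArg (_ ≫ ·) (biproduct.ι_desc _ b)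
    exact QCoh.isCoh_of_epi r hB (PnCoh.Finite.isQCoh_of_retract hB.1 _ r hsr)
  refine ⟨β, inferInstance, d, hd, ShortComplex.mk (kernel.ι φ) φ (kernel.condition φ),
    fun b => (Scheme.Modules.pullback ι).map (p b), fun b => (Scheme.Modules.pullback ι).map (q b), ?_, rfl,
    QCoh.isCoh_kernel hE hF φ, hE, hsum⟩
  exact { exact := ShortComplex.exact_of_f_is_kernel _ (kernelIsKernel φ) }

variable [X.Over (Spec (CommRingCat.of k))]

/-- The presentation needed for duality. -/
theorem exists_isPres (n s : ℕ) {ω : X.Modules} (hω : Coh.IsCoh ω)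
    (hvan : ∀ p, p < n → n ≤ p + s → ∃ m₀ : ℤ, ∀ m : ℤ, m₀ ≤ m → Subsingleton (Coh.HH X ((tw ι (-m))) p))
    {F : X.Modules} (hF : Coh.IsCoh F) :
    ∃ S : ShortComplex X.Modules, S.X₃ = F ∧ Coh.IsCoh S.X₁ ∧ Coh.IsCoh S.X₂ ∧
      IsPres (W := ω) (n := n) s S := by
  classical
  obtain ⟨e₀, he₀⟩ := exists_ext_bound ι hω
  have h : ∀ p : ℕ, ∃ m₀ : ℤ, p < n → n ≤ p + s → ∀ m : ℤ, m₀ ≤ m → Subsingleton (Coh.HH X ((tw ι (-m))) p) := by
    intro p
    by_cases hp : p < n ∧ n ≤ p + s
    · obtain ⟨m₀, hm⟩ := hvan p hp.1 hp.2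
      exact ⟨m₀, fun _ _ => hm⟩
    · exact ⟨0, fun h1 h2 => absurd ⟨h1, h2⟩ hp⟩
  choose m₀ hm₀ using h
  let M : ℤ := ∑ p ∈ Finset.range n, |m₀ p|
  obtain ⟨β, _, d, hd, S, pr, qr, hS, h3, h1, h2, hpq⟩ := exists_pres ι hF (min e₀ (-M))
  refine ⟨S, h3, h1, h2, hS, fun j hj => ?_, fun j hj hj' => ?_⟩
  · exact PnDual.subsingleton_ext_of_decomposition _ pr qr hpq j fun b =>
      he₀ (d b) (le_trans (hd b).le (min_le_left _ _)) j hj
  · refine PnCoh.Finite.subsingleton_HH_of_decomposition _ pr qr hpq j fun b => ?_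
    have hle : |m₀ j| ≤ M := Finset.single_le_sum (fun p _ => abs_nonneg (m₀ p)) (Finset.mem_range.2 hj)
    have := hm₀ j hj hj' (-(d b)) (by have := hd b; have := le_abs_self (m₀ j); omega)
    rwa [neg_neg] at this

variable {n : ℕ} {ω : X.Modules} (hω : Coh.IsCoh ω) (t : Coh.HH X ω n →ₗ[k] k)
  (hdual : ∀ F : X.Modules, Coh.IsCoh F → ∀ ψ : Coh.HH X F n →ₗ[k] k,
    ∃! φ : F ⟶ ω, ∀ x : Coh.HH X F n,
      ψ x = t (Sheaf.H.map ((SheafOfModules.toSheaf X.ringCatSheaf).map φ) n x))

include hdual in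
theorem bijective_top (F : X.Modules) (hF : Coh.IsCoh F) :
    Function.Bijective (Canon.dualityMap k X n ω t F) := by
  refine ⟨fun φ φ' h => ?_, fun ψ => ?_⟩
  · obtain ⟨φ₀, -, hu⟩ := hdual F hF (Canon.dualityMap k X n ω t F φ)
    exact (hu φ fun x => rfl).trans (hu φ' fun x => LinearMap.congr_fun h x).symm
  · obtain ⟨φ, hφ, -⟩ := hdual F hF ψ
    exact ⟨φ, LinearMap.ext fun x => (hφ x).symm⟩

include hω hdual in
/-- Serre duality in a range. -/
theorem nonempty_equiv (s : ℕ)
    (hvan : ∀ p, p < n → n ≤ p + s → ∃ m₀ : ℤ, ∀ m : ℤ, m₀ ≤ m → Subsingleton (Coh.HH X ((tw ι (-m))) p))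
    {F : X.Modules} (hF : Coh.IsCoh F) (i : ℕ) (hin : i ≤ n) (his : i ≤ s) :
    Nonempty (Ext.{u} F ω i ≃ₗ[k] Module.Dual k (Coh.HH X F (n - i))) :=
  ⟨LinearEquiv.ofBijective (pairingLin t i (n - i) (by omega))
    (bijective_pairing t Coh.IsCoh s (bijective_top t hdual)
      (fun G hG => exists_isPres ι n s hω hvan hG) i (n - i) (by omega) his F hF)⟩

include hω hdual in
/-- `Ext` vanishes above the dimension under the full vanishing. -/
theorem subsingleton_above
    (hvan : ∀ p, p < n → ∃ m₀ : ℤ, ∀ m : ℤ, m₀ ≤ m → Subsingleton (Coh.HH X ((tw ι (-m))) p))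
    {F : X.Modules} (hF : Coh.IsCoh F) (i : ℕ) (hi : n < i) : Subsingleton (Ext.{u} F ω i) := by
  refine (PnDual.duality_induction Coh.IsCoh n t (bijective_top t hdual) (fun G hG => ?_) F hF i).2 hi
  obtain ⟨S, h3, h1, h2, hS, hext, hcoh⟩ := exists_isPres ι n n hω (fun p hp _ => hvan p hp) hG
  exact ⟨S, h3, h1, hS, hext, fun j hj => hcoh j hj (by omega), bijective_top t hdual _ h2⟩

end Groth.Agent.DualRange
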