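import Groth.Agent.Lib.ClosedShriek

/-!
`Ext` out of direct images below and in the first nonvanishing degree.
-/

set_option linter.style.haveILetI false
set_option linter.unusedSectionVars false
set_option backward.isDefEq.respectTransparency false
set_option backward.isDefEq.respectTransparency.types false
set_option maxHeartbeats 1000000

universe u w v u₁

open CategoryTheory CategoryTheory.Limits AlgebraicGeometry TopologicalSpace Opposite
open CategoryTheory.Abelian

noncomputable section

namespace Groth.Agent.ExtClosed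

section General

variable {C : Type u₁} [Category.{v} C] [Abelian C]

/-- A complex of injectives exact below a degree splits up to that degree. -/
theorem exists_retraction (K : CochainComplex C ℕ) : ∀ c : ℕ, (∀ q, q ≤ c → Injective (K.X q)) →
    (∀ q, q < c → IsZero (K.homology q)) →
    ∃ (e : K.X c ⟶ K.X c) (h : K.X c ⟶ K.X (c - 1)),
      e + h ≫ K.d (c - 1) c = 𝟙 _ ∧ ∀ q, K.d q c ≫ e = 0 := by
  intro c
  induction c with
  | zero =>
    intro _ _
    exact ⟨𝟙 _, 0, by simp, fun q => by rw [K.shape q 0 (by simp), zero_comp]⟩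
  | succ c ih =>
    intro hI h0
    obtain ⟨e, h, heh, he⟩ := ih (fun q hq => hI q (by omega)) (fun q hq => h0 q (by omega))
    have hex : (K.sc' (c - 1) c (c + 1)).Exact := by
      rw [← HomologicalComplex.exactAt_iff' K (c - 1) c (c + 1) ?_ (by simp),
        HomologicalComplex.exactAt_iff_isZero_homology]
      · exact h0 c (by omega)
      · cases c <;> simp
    haveI : Injective (K.X c) := hI c (by omega)
    let s : K.X (c + 1) ⟶ K.X c := hex.descToInjective e (he (c - 1))
    have hs : K.d c (c + 1) ≫ s = e := hex.comp_descToInjective e (he (c - 1))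
    refine ⟨𝟙 _ - s ≫ K.d c (c + 1), s, sub_add_cancel _ _, fun q => ?_⟩
    by_cases hq : q + 1 = c + 1
    · obtain rfl : q = c := by omega
      rw [Preadditive.comp_sub, Category.comp_id, ← Category.assoc, hs, sub_eq_zero]
      conv_lhs => rw [← Category.id_comp (K.d q (q + 1)), ← heh]
      rw [Preadditive.add_comp, Category.assoc, K.d_comp_d, comp_zero, add_zero]
    · rw [K.shape q (c + 1) (by simpa using hq), zero_comp]

variable [HasExt.{w} C]

/-- When a cocycle is a boundary. -/
theorem extMk_eq_zero_iff {X Y : C} (R : InjectiveResolution Y) (n : ℕ) (f : X ⟶ R.cocomplex.X n)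
    (hf : f ≫ R.cocomplex.d n (n + 1) = 0) :
    R.extMk f (n + 1) rfl hf = 0 ↔ ∃ g : X ⟶ R.cocomplex.X (n - 1), g ≫ R.cocomplex.d (n - 1) n = f := by
  rcases n with _ | n
  swap
  · exact R.extMk_eq_zero_iff f _ rfl hf n rfl
  have hz : IsZero (R.cochainComplex.X (-1)) := R.cochainComplex.isZero_of_isStrictlyGE 0 (-1) (by omega)
  simp only [← R.extEquivCohomologyClass.apply_eq_iff_eq,
    InjectiveResolution.extEquivCohomologyClass_extMk, InjectiveResolution.extEquivCohomologyClass_zero,
    CochainComplex.HomComplex.CohomologyClass.mk_eq_zero_iff]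
  rw [CochainComplex.HomComplex.Cocycle.fromSingleMk_mem_coboundaries_iff _ _ _ _ _ (-1) (by omega)]
  have h00 : R.cocomplex.d (0 - 1) 0 = 0 := R.cocomplex.shape _ _ (by simp)
  constructor
  · rintro ⟨g, hg⟩
    refine ⟨0, ?_⟩
    rw [zero_comp]
    rw [hz.eq_of_tgt g 0, zero_comp] at hg
    exact ((cancel_mono (R.cochainComplexXIso 0 0 rfl).inv).1 (hg.symm.trans zero_comp.symm)).symm
  · rintro ⟨g, rfl⟩
    exact ⟨0, by rw [h00, comp_zero, zero_comp, zero_comp]⟩

end General

variable {X P : Scheme.{u}} (ι : X ⟶ P) [IsClosedImmersion ι] [HasExt.{u} P.Modules] {L : P.Modules}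
  (I : InjectiveResolution L)

open ClosedShriek in
/-- `Ext` out of direct images in the first degree with a nonzero local `Ext` sheaf is represented. -/
theorem exists_universal (c : ℕ) (h0 : ∀ q, q < c → IsZero ((scx ι I).homology q)) :
    ∃ η : Ext.{u} ((Scheme.Modules.pushforward ι).obj ((scx ι I).homology c)) L c,
      ∀ F : X.Modules, Function.Bijective fun φ : F ⟶ (scx ι I).homology c =>
        (Ext.mk₀ ((Scheme.Modules.pushforward ι).map φ)).comp η (zero_add c) := by
  let K := scx ι I
  let A := shriekAdj ι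
  haveI : (Scheme.Modules.pushforward ι).Additive := Functor.additive_of_preserves_binary_products _
  obtain ⟨e, h, heh, he⟩ := exists_retraction K c
    (fun q _ => haveI := I.injective q; injective_shriek ι (I.cocomplex.X q)) h0
  have hsucc : ∀ {Z : X.Modules} (g : Z ⟶ K.X c), g ≫ K.d c (c + 1) = 0 → g ≫ e ≫ K.d c (c + 1) = 0 := by
    intro Z g hg
    have h1 : e = 𝟙 _ - h ≫ K.d (c - 1) c := eq_sub_of_add_eq heh
    rw [h1, Preadditive.sub_comp, Category.id_comp, Category.assoc, K.d_comp_d, comp_zero, sub_zero, hg]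
  let u := CokernelCofork.IsColimit.desc' (K.homologyIsCokernel ((ComplexShape.up ℕ).prev c) c rfl)
    (K.iCycles c ≫ e) (by rw [← Category.assoc, K.toCycles_i, he])
  let σ : K.homology c ⟶ K.X c := u.1
  have hσ : K.homologyπ c ≫ σ = K.iCycles c ≫ e := u.2
  have hσd : σ ≫ K.d c (c + 1) = 0 := by
    rw [← cancel_epi (K.homologyπ c), ← Category.assoc, hσ, Category.assoc, comp_zero]
    exact hsucc _ (K.iCycles_d c (c + 1))
  -- a cocycle is a class plus a boundary
  have hdec : ∀ {Z : X.Modules} (g : Z ⟶ K.X c) (hg : g ≫ K.d c (c + 1) = 0),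
      g = (K.liftCycles g (c + 1) (by simp) hg ≫ K.homologyπ c) ≫ σ + (g ≫ h) ≫ K.d (c - 1) c := by
    intro Z g hg
    rw [Category.assoc, hσ, ← Category.assoc, K.liftCycles_i, Category.assoc, ← Preadditive.comp_add, heh,
      Category.comp_id]
  -- classes are not boundaries
  have hinj : ∀ {Z : X.Modules} (φ : Z ⟶ K.homology c) (k : Z ⟶ K.X (c - 1)),
      φ ≫ σ = k ≫ K.d (c - 1) c → φ = 0 := by
    intro Z φ k hk
    have hlift : K.liftCycles σ (c + 1) (by simp) hσd ≫ K.homologyπ c = 𝟙 _ := by
      rw [← cancel_epi (K.homologyπ c), Category.comp_id, ← Category.assoc]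
      have h1 : K.homologyπ c ≫ K.liftCycles σ (c + 1) (by simp) hσd =
          𝟙 _ - (K.iCycles c ≫ h) ≫ K.toCycles (c - 1) c := by
        rw [← cancel_mono (K.iCycles c), Category.assoc, K.liftCycles_i, hσ, Preadditive.sub_comp,
          Category.id_comp, Category.assoc, K.toCycles_i]
        rw [show e = 𝟙 _ - h ≫ K.d (c - 1) c from eq_sub_of_add_eq heh, Preadditive.comp_sub, Category.comp_id,
          Category.assoc]
      rw [h1, Preadditive.sub_comp, Category.id_comp, Category.assoc, K.toCycles_comp_homologyπ, comp_zero,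
        sub_zero]
    rw [← Category.comp_id φ, ← hlift, ← Category.assoc, K.comp_liftCycles]
    have h2 : K.liftCycles (φ ≫ σ) (c + 1) (by simp) (by rw [Category.assoc, hσd, comp_zero]) =
        k ≫ K.toCycles (c - 1) c := by
      rw [← cancel_mono (K.iCycles c), K.liftCycles_i, Category.assoc, K.toCycles_i, hk]
    rw [h2, Category.assoc, K.toCycles_comp_homologyπ, comp_zero]
  -- transport along the adjunction
  let f₀ := (A.homEquiv _ _).symm σ
  have hd : ∀ {Z : X.Modules} (a : (Scheme.Modules.pushforward ι).obj Z ⟶ I.cocomplex.X c),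
      A.homEquiv _ _ a ≫ K.d c (c + 1) = A.homEquiv _ _ (a ≫ I.cocomplex.d c (c + 1)) := fun a =>
    (A.homEquiv_naturality_right a (I.cocomplex.d c (c + 1))).symm
  have hf₀ : f₀ ≫ I.cocomplex.d c (c + 1) = 0 := by
    refine (A.homEquiv_naturality_right_symm σ (I.cocomplex.d c (c + 1))).symm.trans ?_
    rw [show σ ≫ (shriek ι).map (I.cocomplex.d c (c + 1)) = 0 from hσd]
    exact (A.homAddEquiv _ _).symm.map_zero
  refine ⟨I.extMk f₀ (c + 1) rfl hf₀, fun F => ?_⟩
  have hcomp : ∀ φ : F ⟶ K.homology c,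
      (Ext.mk₀ ((Scheme.Modules.pushforward ι).map φ)).comp (I.extMk f₀ (c + 1) rfl hf₀) (zero_add c) =
        I.extMk ((A.homEquiv _ _).symm (φ ≫ σ)) (c + 1) rfl (by
          rw [A.homEquiv_naturality_left_symm, Category.assoc, hf₀, comp_zero]) := fun φ => by
    rw [I.mk₀_comp_extMk]
    congr 1
  constructor
  · intro φ φ' hφ
    rw [← sub_eq_zero]
    have h1 : I.extMk ((A.homEquiv _ _).symm ((φ - φ') ≫ σ)) (c + 1) rfl (by
        rw [A.homEquiv_naturality_left_symm, Category.assoc, hf₀, comp_zero]) = 0 := by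
      rw [← hcomp, Functor.map_sub, ← sub_eq_zero.2 hφ]
      exact map_sub ((AddMonoidHom.mk' (fun g => (Ext.mk₀ g).comp (I.extMk f₀ (c + 1) rfl hf₀) (zero_add c))
        fun a b => by rw [Ext.mk₀_add, Ext.add_comp])) _ _
    obtain ⟨g, hg⟩ := (extMk_eq_zero_iff I c _ _).1 h1
    refine hinj (φ - φ') (A.homEquiv _ _ g) ?_
    rw [← Equiv.apply_symm_apply (A.homEquiv _ _) ((φ - φ') ≫ σ), ← hg]
    exact A.homEquiv_naturality_right g (I.cocomplex.d (c - 1) c)
  · intro x
    obtain ⟨f, hf, rfl⟩ := I.extMk_surjective x (c + 1) rfl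
    have hg : A.homEquiv _ _ f ≫ K.d c (c + 1) = 0 := by
      rw [hd, hf]
      exact (A.homAddEquiv _ _).map_zero
    refine ⟨K.liftCycles (A.homEquiv _ _ f) (c + 1) (by simp) hg ≫ K.homologyπ c, ?_⟩
    refine (hcomp _).trans ?_
    rw [← sub_eq_zero, InjectiveResolution.sub_extMk, extMk_eq_zero_iff]
    refine ⟨-((A.homEquiv _ _).symm (A.homEquiv _ _ f ≫ h)), ?_⟩
    have h2 := congrArg (A.homAddEquiv _ _).symm (hdec (A.homEquiv _ _ f) hg)
    rw [map_add] at h2
    have h3 : (A.homEquiv _ _).symm ((A.homEquiv _ _ f ≫ h) ≫ K.d (c - 1) c) =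
        (A.homEquiv _ _).symm (A.homEquiv _ _ f ≫ h) ≫ I.cocomplex.d (c - 1) c :=
      A.homEquiv_naturality_right_symm _ _
    rw [Preadditive.neg_comp, ← h3, neg_eq_iff_add_eq_zero, ← add_sub_assoc, sub_eq_zero, add_comm]
    exact h2.symm.trans ((A.homEquiv _ _).symm_apply_apply f)

end Groth.Agent.ExtClosed
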