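import Groth.Agent.SiteBase.ClosedEmb
import Groth.Agent.PnCoh.PushNat
import Mathlib.Algebra.Homology.DerivedCategory.Ext.MapBijective

/-!
Cohomology of a direct image along a closed embedding, naturally.
-/

set_option linter.style.haveILetI false
set_option backward.isDefEq.respectTransparency false
set_option backward.isDefEq.respectTransparency.types false
set_option maxHeartbeats 1000000

universe u w w' v v' u₁ u₂

open CategoryTheory CategoryTheory.Limits TopologicalSpace Opposite CategoryTheory.Abelian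

noncomputable section

namespace Groth.Agent.PushHNat

section General

variable {C : Type u₁} [Category.{v} C] [Abelian C] {D : Type u₂} [Category.{v'} D] [Abelian D]
  (G : C ⥤ D) [G.Additive] [PreservesFiniteLimits G] [PreservesFiniteColimits G]
  [HasExt.{w} C] [HasExt.{w'} D]

/-- A universal map into the image gives bijections on `Ext`. -/
theorem bijective_comp_map [EnoughInjectives C] [G.PreservesInjectiveObjects] {A : C} {B : D}
    (u : B ⟶ G.obj A) (h : ∀ Y, Function.Bijective fun φ : A ⟶ Y => u ≫ G.map φ) (n : ℕ) :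
    ∀ Y : C, Function.Bijective fun x : Ext A Y n => (Ext.mk₀ u).comp (x.mapExactFunctor G) (zero_add n) := by
  induction n with
  | zero =>
    intro Y
    refine (Function.Bijective.of_comp_iff _ (Ext.mk₀_bijective A Y)).1 ?_
    rw [show (fun x : Ext A Y 0 => (Ext.mk₀ u).comp (x.mapExactFunctor G) (zero_add 0)) ∘ Ext.mk₀ =
        Ext.mk₀ ∘ fun φ : A ⟶ Y => u ≫ G.map φ from funext fun φ => by
      simp only [Function.comp_apply, Ext.mapExactFunctor_mk₀, Ext.mk₀_comp_mk₀]]
    exact (Ext.mk₀_bijective _ _).comp (h Y)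
  | succ n ih =>
    intro Y
    let I : InjectivePresentation Y := Classical.arbitrary _
    let S := ShortComplex.mk _ _ (cokernel.condition I.f)
    have hI : Injective (S.map G).X₂ := Functor.PreservesInjectiveObjects.injective_obj I.injective
    have hI' : Injective S.X₂ := I.injective
    have hS : S.ShortExact := { exact := ShortComplex.exact_cokernel I.f }
    have hδ : ∀ x : Ext A S.X₃ n, (Ext.mk₀ u).comp ((x.comp hS.extClass rfl).mapExactFunctor G) (zero_add _) =
        ((Ext.mk₀ u).comp (x.mapExactFunctor G) (zero_add n)).comp (hS.map_of_exact G).extClass rfl := fun x => by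
      rw [Ext.mapExactFunctor_comp, Ext.mapExactFunctor_extClass]
      exact (Ext.comp_assoc _ _ _ (zero_add n) rfl (by omega)).symm
    have hsub : ∀ (x y : Ext A S.X₁ (n + 1)),
        (Ext.mk₀ u).comp ((x - y).mapExactFunctor G) (zero_add _) =
          (Ext.mk₀ u).comp (x.mapExactFunctor G) (zero_add _) -
            (Ext.mk₀ u).comp (y.mapExactFunctor G) (zero_add _) := fun x y => by
      rw [eq_sub_iff_add_eq, ← Ext.comp_add, ← Ext.mapExactFunctor_add, sub_add_cancel]
    constructor
    · intro x y hxy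
      rw [← sub_eq_zero]
      obtain ⟨z, hz⟩ := Ext.covariant_sequence_exact₁ A hS (x - y) (Ext.eq_zero_of_injective _) rfl
      have h1 := hsub x y
      rw [show (Ext.mk₀ u).comp (x.mapExactFunctor G) (zero_add _) = _ from hxy, sub_self, ← hz, hδ] at h1
      obtain ⟨w, hw⟩ := Ext.covariant_sequence_exact₃ B (hS.map_of_exact G) _ rfl h1
      obtain ⟨w', rfl⟩ := (ih S.X₂).2 w
      have h2 : z = w'.comp (Ext.mk₀ S.g) (add_zero n) := (ih S.X₃).1 (by
        simp only [Ext.mapExactFunctor_comp, Ext.mapExactFunctor_mk₀]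
        rw [← Ext.comp_assoc_of_third_deg_zero]
        exact hw.symm)
      rw [← hz, h2, Ext.comp_assoc_of_second_deg_zero, hS.comp_extClass, Ext.comp_zero]
    · intro y
      obtain ⟨z, rfl⟩ := Ext.covariant_sequence_exact₁ B (hS.map_of_exact G) y (Ext.eq_zero_of_injective _) rfl
      obtain ⟨z', rfl⟩ := (ih S.X₃).2 z
      exact ⟨z'.comp hS.extClass rfl, hδ z'⟩

end General

variable {X Y : TopCat.{u}} (f : X ⟶ Y)

/-- The constant sheaf `ℤ`. -/
abbrev ZZ (X : TopCat.{u}) : CohTop.Ab X :=
  (constantSheaf (Opens.grothendieckTopology X) AddCommGrpCat.{u}).obj (AddCommGrpCat.of (ULift.{u} ℤ))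

/-- The map of constant sheaves. -/
def constUnit : ZZ Y ⟶ (CohTop.push f).obj (ZZ X) :=
  ((constantSheafAdj (Opens.grothendieckTopology Y) AddCommGrpCat.{u} isTerminalTop).homEquiv _ _).symm
    ((constantSheafAdj (Opens.grothendieckTopology X) AddCommGrpCat.{u} isTerminalTop).homEquiv _ _ (𝟙 (ZZ X)))

theorem bijective_constUnit (F : CohTop.Ab X) :
    Function.Bijective fun φ : ZZ X ⟶ F => constUnit f ≫ (CohTop.push f).map φ := by
  let e := (constantSheafAdj (Opens.grothendieckTopology Y) AddCommGrpCat.{u} isTerminalTop).homEquiv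
    (AddCommGrpCat.of (ULift.{u} ℤ)) ((CohTop.push f).obj F)
  let e' := (constantSheafAdj (Opens.grothendieckTopology X) AddCommGrpCat.{u} isTerminalTop).homEquiv
    (AddCommGrpCat.of (ULift.{u} ℤ)) F
  refine (Function.Bijective.of_comp_iff' e.bijective _).1 ?_
  have hh : (e ∘ fun φ : ZZ X ⟶ F => constUnit f ≫ (CohTop.push f).map φ) = e' := funext fun φ => by
    show e (constUnit f ≫ _) = e' φ
    rw [constUnit, ← Adjunction.homEquiv_naturality_right_symm, Equiv.apply_symm_apply]
    show _ = e' φ
    rw [← Category.id_comp φ]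
    exact ((constantSheafAdj (Opens.grothendieckTopology X) AddCommGrpCat.{u}
      isTerminalTop).homEquiv_naturality_right (𝟙 (ZZ X)) φ).symm.trans (by rw [Category.id_comp])
  rw [hh]
  exact e'.bijective

variable (hf : Topology.IsClosedEmbedding f)

include hf in
theorem preservesFiniteLimits_push : PreservesFiniteLimits (CohTop.push f) := by
  haveI := QCoh.Ab.push_isRightAdjoint f
  infer_instance

/-- Cohomology of a sheaf into cohomology of its direct image. -/
def pushH (F : CohTop.Ab X) (n : ℕ) : CohTop.H F n →+ CohTop.H ((CohTop.push f).obj F) n :=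
  haveI := ClosedEmb.preservesFiniteColimits_push hf
  haveI := preservesFiniteLimits_push f hf
  ((Ext.mk₀ (constUnit f)).precomp _ (zero_add n)).comp ((CohTop.push f).mapExtAddHom (ZZ X) F n)

theorem pushH_natural {F F' : CohTop.Ab X} (φ : F ⟶ F') (n : ℕ) (x : CohTop.H F n) :
    pushH f hf F' n (Sheaf.H.map φ n x) = Sheaf.H.map ((CohTop.push f).map φ) n (pushH f hf F n x) := by
  haveI := ClosedEmb.preservesFiniteColimits_push hf
  haveI := preservesFiniteLimits_push f hf
  show (Ext.mk₀ (constUnit f)).comp ((Ext.comp x (Ext.mk₀ φ) (add_zero n)).mapExactFunctor (CohTop.push f))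
      (zero_add n) = _
  rw [Ext.mapExactFunctor_comp, Ext.mapExactFunctor_mk₀]
  exact (Ext.comp_assoc_of_third_deg_zero _ _ _ _).symm

theorem bijective_pushH (F : CohTop.Ab X) (n : ℕ) : Function.Bijective (pushH f hf F n) := by
  haveI := ClosedEmb.preservesFiniteColimits_push hf
  haveI := preservesFiniteLimits_push f hf
  haveI : (CohTop.push f).PreservesInjectiveObjects := ⟨fun {I} hI => SiteBase.injective_push f I⟩
  exact bijective_comp_map (CohTop.push f) (constUnit f) (bijective_constUnit f) n F

end Groth.Agent.PushHNat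

namespace Groth.Agent.PushHNat

open AlgebraicGeometry

variable {k : Type u} [CommRing k] {X P : Scheme.{u}} [X.Over (Spec (CommRingCat.of k))]
  [P.Over (Spec (CommRingCat.of k))] (ι : X ⟶ P) [IsClosedImmersion ι]

/-- Cohomology along a closed immersion over the base, linearly and naturally. -/
def pushHLin (hι : ι ≫ (P ↘ Spec (CommRingCat.of k)) = X ↘ Spec (CommRingCat.of k)) (M : X.Modules) (n : ℕ) :
    Coh.HH X M n →ₗ[k] Coh.HH P ((Coh.push ι).obj M) n where
  toFun x := pushH ι.base ι.isClosedEmbedding (QCoh.abSheaf M) n x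
  map_add' x y := map_add _ x y
  map_smul' a x := by
    show pushH ι.base ι.isClosedEmbedding (QCoh.abSheaf M) n
        (Sheaf.H.map (Coh.smulAb M (Coh.toGlobal (X ↘ Spec (CommRingCat.of k)) a)) n x) =
      Sheaf.H.map (Coh.smulAb ((Coh.push ι).obj M) (Coh.toGlobal (P ↘ Spec (CommRingCat.of k)) a)) n
        (pushH ι.base ι.isClosedEmbedding (QCoh.abSheaf M) n x)
    rw [PnCoh.smulAb_push]
    refine (pushH_natural ι.base ι.isClosedEmbedding _ n x).trans ?_
    refine congrArg (fun r => Sheaf.H.map ((CohTop.push ι.base).map (Coh.smulAb M r)) n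
      (pushH ι.base ι.isClosedEmbedding (QCoh.abSheaf M) n x)) ?_
    rw [← hι]
    rfl

theorem bijective_pushHLin (hι : ι ≫ (P ↘ Spec (CommRingCat.of k)) = X ↘ Spec (CommRingCat.of k))
    (M : X.Modules) (n : ℕ) : Function.Bijective (pushHLin ι hι M n) :=
  bijective_pushH ι.base ι.isClosedEmbedding (QCoh.abSheaf M) n

theorem pushHLin_natural (hι : ι ≫ (P ↘ Spec (CommRingCat.of k)) = X ↘ Spec (CommRingCat.of k))
    {M M' : X.Modules} (φ : M ⟶ M') (n : ℕ) (x : Coh.HH X M n) :
    pushHLin ι hι M' n (Sheaf.H.map ((SheafOfModules.toSheaf X.ringCatSheaf).map φ) n x) =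
      Sheaf.H.map ((SheafOfModules.toSheaf P.ringCatSheaf).map ((Coh.push ι).map φ)) n (pushHLin ι hι M n x) :=
  pushH_natural ι.base ι.isClosedEmbedding ((SheafOfModules.toSheaf X.ringCatSheaf).map φ) n x

end Groth.Agent.PushHNat
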