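import Groth.Agent.Lib.DualPair
import Groth.Agent.Lib.PushHNat
import Groth.Agent.Lib.ExtClosed
import Groth.Agent.KZ.ClosedDev
import Groth.Agent.ZClosLib.CohDescent

/-!
The dualizing sheaf of a closed subscheme of projective space.
-/

set_option linter.style.haveILetI false
set_option linter.unusedSectionVars false
set_option backward.isDefEq.respectTransparency false
set_option backward.isDefEq.respectTransparency.types false
set_option maxHeartbeats 1000000

universe u

open CategoryTheory CategoryTheory.Limits AlgebraicGeometry TopologicalSpace Opposite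
open CategoryTheory.Abelian

noncomputable section

namespace Groth.Agent.DualSheaf

/-- Quasi-coherent modules on a closed subscheme are determined by their direct images. -/
theorem nonempty_iso_of_push {X P : Scheme.{u}} (ι : X ⟶ P) [IsClosedImmersion ι] {A B : X.Modules}
    (hA : Coh.IsQCoh ((Scheme.Modules.pushforward ι).obj A))
    (e : (Scheme.Modules.pushforward ι).obj A ≅ (Scheme.Modules.pushforward ι).obj B) : Nonempty (A ≅ B) := by
  haveI := KZ.ClosedDev.isIso_counit ι hA
  haveI := KZ.ClosedDev.isIso_counit ι ((QCoh.isQCoh_iff_iso e).1 hA)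
  exact ⟨(asIso ((Scheme.Modules.pullbackPushforwardAdjunction ι).counit.app A)).symm ≪≫
    (Scheme.Modules.pullback ι).mapIso e ≪≫
    asIso ((Scheme.Modules.pullbackPushforwardAdjunction ι).counit.app B)⟩

variable {k : Type u} [Field k] {N : ℕ} {X : Scheme.{u}} (ι : X ⟶ CohB1.ProjSpace N k) [IsClosedImmersion ι]

local notation "ωP" => Twist.twistProjSpace N k (-((N : ℤ) + 1))

theorem isCoh_omega [ModSite.HasSheafHom (O := (CohB1.ProjSpace N k).sheaf) ((Scheme.Modules.pushforward ι).obj (Coh.structureModule X))]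
    [HasInjectiveResolutions (ModSite.Mod (CohB1.ProjSpace N k).sheaf)] (c : ℕ) :
    Coh.IsCoh ((ModSite.extSh (O := (CohB1.ProjSpace N k).sheaf)
      ((Scheme.Modules.pushforward ι).obj (Coh.structureModule X)) c).obj ωP) := by
  haveI := NegVanStalk.noetherian k N
  haveI : IsLocallyNoetherian X := LocallyOfFiniteType.isLocallyNoetherian ι
  exact ExtShCoh.isCoh_extSh (NegVanClosed.isCoh_push ι (CurveDeg.isCoh_of_isInvertible InvX.isInvertible_structureModule))
    (CurveDeg.isCoh_of_isInvertible (PnCoh.Finite.isInvertible_twist (ProjRegular.coords k N)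
      ProjRegular.coords_mem ProjRegular.coords_cover _)) c

/-- The local Ext sheaves vanish below the codimension. -/
theorem isZero_below [ModSite.HasSheafHom (O := (CohB1.ProjSpace N k).sheaf) ((Scheme.Modules.pushforward ι).obj (Coh.structureModule X))]
    [HasInjectiveResolutions (ModSite.Mod (CohB1.ProjSpace N k).sheaf)] (n : ℕ)
    (hdim : topologicalKrullDim ↥X ≤ (n : WithBot ℕ∞)) (q : ℕ) (hq : q + n < N) :
    IsZero ((ModSite.extSh (O := (CohB1.ProjSpace N k).sheaf)
      ((Scheme.Modules.pushforward ι).obj (Coh.structureModule X)) q).obj ωP) := by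
  haveI := NegVanStalk.noetherian k N
  haveI := NegVanStalk.jacobson (k := k) (n := N)
  refine ExtShCodim.isZero_extSh ι N n (fun p => NegVanStalk.isRegular_stalk p)
    (fun p hp => (NegVanStalk.dim_stalk p hp).ge) hdim _ ?_ q hq
  intro x
  obtain ⟨U, hx, h⟩ := InvEnd.isFinLocFreeOfRank_one (PnCoh.Finite.isInvertible_twist (ProjRegular.coords k N)
    ProjRegular.coords_mem ProjRegular.coords_cover (-((N : ℤ) + 1))) x
  exact ⟨U, 1, hx, h⟩

variable [X.Over (Spec (CommRingCat.of k))]
  (hι : ι ≫ CohB1.ProjSpace.toSpec N k = X ↘ Spec (CommRingCat.of k))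

include hι in
/-- The first nonzero local Ext sheaf is a dualizing sheaf. -/
theorem exists_trace [ModSite.HasSheafHom (O := (CohB1.ProjSpace N k).sheaf) ((Scheme.Modules.pushforward ι).obj (Coh.structureModule X))]
    [HasInjectiveResolutions (ModSite.Mod (CohB1.ProjSpace N k).sheaf)] (n c : ℕ) (hc : n + c = N)
    (hdim : topologicalKrullDim ↥X ≤ (n : WithBot ℕ∞)) (ω : X.Modules)
    (hω : Nonempty ((Scheme.Modules.pushforward ι).obj ω ≅
      (ModSite.extSh (O := (CohB1.ProjSpace N k).sheaf) ((Scheme.Modules.pushforward ι).obj (Coh.structureModule X)) c).obj ωP)) :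
    ∃ t : Coh.HH X ω n →ₗ[k] k, ∀ F : X.Modules, Coh.IsCoh F → ∀ ψ : Coh.HH X F n →ₗ[k] k,
      ∃! φ : F ⟶ ω, ∀ x : Coh.HH X F n,
        ψ x = t (Sheaf.H.map ((SheafOfModules.toSheaf X.ringCatSheaf).map φ) n x) := by
  haveI : HasExt.{u} (CohB1.ProjSpace N k).Modules := IsGrothendieckAbelian.hasExt _
  haveI hP := NegVanStalk.noetherian k N
  haveI : IsLocallyNoetherian X := LocallyOfFiniteType.isLocallyNoetherian ι
  haveI : HasInjectiveResolutions (CohB1.ProjSpace N k).Modules :=
    inferInstanceAs (HasInjectiveResolutions (ModSite.Mod (CohB1.ProjSpace N k).sheaf))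
  let I : InjectiveResolution (ωP) := InjectiveResolution.of _
  have h0 : ∀ q, q < c → IsZero ((ClosedShriek.scx ι I).homology q) := fun q hq => by
    obtain ⟨b⟩ := ClosedShriek.nonempty_homology_iso ι I q
    exact ClosedShriek.isZero_of_push ι (b.isZero_iff.2 (isZero_below ι n hdim q (by omega)))
  obtain ⟨η, hη⟩ := ExtClosed.exists_universal ι I c h0
  obtain ⟨a⟩ := hω
  obtain ⟨b⟩ := ClosedShriek.nonempty_homology_iso ι I c
  have hpush : Coh.IsCoh ((Scheme.Modules.pushforward ι).obj ω) :=
    SheafHomX.isCoh_of_iso a.symm (isCoh_omega ι c)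
  obtain ⟨w⟩ := nonempty_iso_of_push ι hpush.1 (a ≪≫ b.symm)
  obtain ⟨tP, htP⟩ := DualPair.exists_pairing_pn (k := k) (N := N)
  let ηω := (Ext.mk₀ ((Scheme.Modules.pushforward ι).map w.hom)).comp η (zero_add c)
  let V : ∀ (F : X.Modules), Coh.HH X F n →ₗ[k] Coh.HH (CohB1.ProjSpace N k) ((Coh.push ι).obj F) n :=
    fun F => PushHNat.pushHLin ι hι F n
  let t : Coh.HH X ω n →ₗ[k] k := (DualPair.pairing tP.toLinearMap c n hc ηω).comp (V ω)
  refine ⟨t, fun F hF ψ => ?_⟩
  have hb : Function.Bijective fun φ : F ⟶ ω =>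
      (V F).dualMap (DualPair.pairing tP.toLinearMap c n hc
        ((Ext.mk₀ ((Scheme.Modules.pushforward ι).map φ)).comp ηω (zero_add c))) := by
    have h1 : Function.Bijective fun φ : F ⟶ ω =>
        (Ext.mk₀ ((Scheme.Modules.pushforward ι).map φ)).comp ηω (zero_add c) := by
      have h2 := (hη F).comp w.homToEquiv.bijective
      refine (congrArg Function.Bijective (funext fun φ => ?_)).mp h2
      show (Ext.mk₀ ((Scheme.Modules.pushforward ι).map (φ ≫ w.hom))).comp η (zero_add c) = _
      rw [Functor.map_comp, ← Ext.mk₀_comp_mk₀, Ext.comp_assoc_of_second_deg_zero]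
    exact (LinearEquiv.ofBijective (V F) (PushHNat.bijective_pushHLin ι hι F n)).dualMap.bijective.comp
      ((htP c n hc _ (NegVanClosed.isCoh_push ι hF)).comp h1)
  have hkey : ∀ (φ : F ⟶ ω) (x : Coh.HH X F n),
      t (Sheaf.H.map ((SheafOfModules.toSheaf X.ringCatSheaf).map φ) n x) =
        (V F).dualMap (DualPair.pairing tP.toLinearMap c n hc
          ((Ext.mk₀ ((Scheme.Modules.pushforward ι).map φ)).comp ηω (zero_add c))) x := fun φ x => by
    show DualPair.pairing tP.toLinearMap c n hc ηω
      (PushHNat.pushHLin ι hι ω n (Sheaf.H.map ((SheafOfModules.toSheaf X.ringCatSheaf).map φ) n x)) = _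
    rw [PushHNat.pushHLin_natural]
    exact (congrArg tP (DualPair.cup_precomp hc ((Scheme.Modules.pushforward ι).map φ) ηω _)).symm
  obtain ⟨φ, hφ⟩ := hb.2 ψ
  exact ⟨φ, fun x => (LinearMap.congr_fun hφ x).symm.trans (hkey φ x).symm, fun φ' hφ' =>
    hb.1 (LinearMap.ext fun x => ((hkey φ' x).symm.trans (hφ' x).symm).trans (LinearMap.congr_fun hφ x).symm)⟩

end Groth.Agent.DualSheaf
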