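import Mathlib.LinearAlgebra.Alternating.Uncurry.Fin
import Mathlib.LinearAlgebra.Alternating.Curry
import Mathlib.LinearAlgebra.ExteriorPower.Basis
import Mathlib.LinearAlgebra.Determinant
import Mathlib.RingTheory.Regular.RegularSequence
import Mathlib.Algebra.Module.Injective
import Mathlib.LinearAlgebra.StdBasis

/-!
The residue of a cocycle: a cocycle of a resolution of `M` killed by `a₁, …, a_r` determines, by the zigzag through
the Koszul cochains, an element of `M` modulo the ideal of the `aᵢ`, alternating in the `aᵢ`.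
-/

set_option linter.unusedSectionVars false
set_option linter.style.haveILetI false

universe u v w

noncomputable section

namespace Groth.Agent.KoszulZigzag

open AlternatingMap (alternatizeUncurryFin alternatizeUncurryFinLM alternatizeUncurryFin_apply alternatizeUncurryFinLM_apply
  alternatizeUncurryFin_alternatizeUncurryFinLM_comp_of_symmetric)

section Del

variable {R : Type*} [CommRing R] {P P' V W : Type*} [AddCommGroup P] [Module R P] [AddCommGroup P'] [Module R P']
  [AddCommGroup V] [Module R V] [AddCommGroup W] [Module R W] {p : ℕ}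

/-- The Koszul differential of cochains. -/
def del (ℓ : P →ₗ[R] R) (c : P [⋀^Fin p]→ₗ[R] V) : P [⋀^Fin (p + 1)]→ₗ[R] V :=
  alternatizeUncurryFin (ℓ.smulRight c)

theorem del_apply (ℓ : P →ₗ[R] R) (c : P [⋀^Fin p]→ₗ[R] V) (v : Fin (p + 1) → P) :
    del ℓ c v = ∑ i : Fin (p + 1), (-1 : ℤ) ^ (i : ℕ) • ℓ (v i) • c (i.removeNth v) := by
  simp [del, alternatizeUncurryFin_apply]

theorem del_add (ℓ : P →ₗ[R] R) (c c' : P [⋀^Fin p]→ₗ[R] V) : del ℓ (c + c') = del ℓ c + del ℓ c' := by
  ext v
  simp [del_apply, smul_add, Finset.sum_add_distrib]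

theorem del_smul (ℓ : P →ₗ[R] R) (b : R) (c : P [⋀^Fin p]→ₗ[R] V) : del ℓ (b • c) = b • del ℓ c := by
  ext v
  simp [del_apply, Finset.smul_sum, smul_comm b]

theorem del_zero (ℓ : P →ₗ[R] R) : del ℓ (0 : P [⋀^Fin p]→ₗ[R] V) = 0 := by
  ext v
  simp [del_apply]

theorem del_sub (ℓ : P →ₗ[R] R) (c c' : P [⋀^Fin p]→ₗ[R] V) : del ℓ (c - c') = del ℓ c - del ℓ c' := by
  rw [eq_sub_iff_add_eq, ← del_add, sub_add_cancel]

theorem del_add_left (ℓ m : P →ₗ[R] R) (c : P [⋀^Fin p]→ₗ[R] V) : del (ℓ + m) c = del ℓ c + del m c := by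
  ext v
  simp [del_apply, add_smul, Finset.sum_add_distrib, smul_add]

theorem del_smul_left (ℓ : P →ₗ[R] R) (b : R) (c : P [⋀^Fin p]→ₗ[R] V) : del (b • ℓ) c = b • del ℓ c := by
  ext v
  simp [del_apply, Finset.smul_sum, smul_comm b, mul_smul]

theorem del_del (ℓ : P →ₗ[R] R) (c : P [⋀^Fin p]→ₗ[R] V) : del ℓ (del ℓ c) = 0 := by
  let f : P →ₗ[R] P →ₗ[R] P [⋀^Fin p]→ₗ[R] V := ℓ.smulRight (ℓ.smulRight c)
  have h : ℓ.smulRight (del ℓ c) = alternatizeUncurryFinLM ∘ₗ f := by
    refine LinearMap.ext fun x => ?_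
    simp [del, f]
  rw [del, h]
  exact alternatizeUncurryFin_alternatizeUncurryFinLM_comp_of_symmetric fun x y => by
    simp [f, smul_comm (ℓ x)]

theorem del_anticomm (ℓ m : P →ₗ[R] R) (c : P [⋀^Fin p]→ₗ[R] V) : del ℓ (del m c) = -del m (del ℓ c) := by
  have h := del_del (ℓ + m) c
  rw [del_add_left ℓ m c, del_add_left, del_add, del_add, del_del, del_del, zero_add, add_zero] at h
  exact eq_neg_of_add_eq_zero_left h

theorem comp_del (g : V →ₗ[R] W) (ℓ : P →ₗ[R] R) (c : P [⋀^Fin p]→ₗ[R] V) :
    g.compAlternatingMap (del ℓ c) = del ℓ (g.compAlternatingMap c) := by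
  ext v
  simp [del_apply, map_sum, map_smul, map_zsmul]

theorem del_compLinearMap (A : P' →ₗ[R] P) (ℓ : P →ₗ[R] R) (c : P [⋀^Fin p]→ₗ[R] V) :
    (del ℓ c).compLinearMap A = del (ℓ.comp A) (c.compLinearMap A) := by
  ext v
  simp [del_apply, AlternatingMap.compLinearMap_apply, Fin.removeNth_apply, Function.comp_def]
  rfl

/-- Cartan's formula. -/
theorem curryLeft_del (ℓ : P →ₗ[R] R) (c : P [⋀^Fin (p + 1)]→ₗ[R] V) (x : P) :
    (del ℓ c).curryLeft x = ℓ x • c - del ℓ (c.curryLeft x) := by
  ext v
  rw [AlternatingMap.curryLeft_apply_apply, del_apply, Fin.sum_univ_succ, AlternatingMap.sub_apply, AlternatingMap.smul_apply,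
    del_apply, sub_eq_add_neg, ← Finset.sum_neg_distrib]
  congr 1
  · simp [Matrix.vecCons]
  · refine Finset.sum_congr rfl fun i _ => ?_
    have h : Fin.removeNth i.succ (Matrix.vecCons x v) = Matrix.vecCons x (i.removeNth v) := by
      funext j
      refine Fin.cases ?_ (fun j => ?_) j
      · simp [Fin.removeNth_apply, Matrix.vecCons]
      · simp [Fin.removeNth_apply, Matrix.vecCons]
    rw [h, AlternatingMap.curryLeft_apply_apply, Fin.val_succ, pow_succ, mul_neg_one, neg_smul]
    simp [Matrix.vecCons]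

theorem del_zero_apply (ℓ : P →ₗ[R] R) (c : P [⋀^Fin 0]→ₗ[R] V) (v : Fin (0 + 1) → P) :
    del ℓ c v = ℓ (v 0) • c ![] := by
  rw [del_apply, Finset.sum_eq_single (0 : Fin (0 + 1)) (fun b _ hb => absurd (Subsingleton.elim (α := Fin 1) b 0) hb)
    (fun h => absurd (Finset.mem_univ _) h), Subsingleton.elim ((0 : Fin (0 + 1)).removeNth v) ![]]
  simp

theorem map_range_le (ℓ : P →ₗ[R] R) (z : P [⋀^Fin p]→ₗ[R] V) (v : Fin (p + 1) → P) :
    del ℓ z v ∈ (LinearMap.range ℓ : Ideal R) • (⊤ : Submodule R V) := by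
  rw [del_apply]
  refine Submodule.sum_mem _ fun i _ => zsmul_mem ?_ _
  exact Submodule.smul_mem_smul (LinearMap.mem_range_self ℓ _) trivial

end Del

section Free

variable {R : Type*} [CommRing R] {r : ℕ} {V W : Type*} [AddCommGroup V] [Module R V] [AddCommGroup W] [Module R W]

/-- The standard tuple. -/
def std (R : Type*) [CommRing R] (r : ℕ) : Fin r → (Fin r → R) := fun i => Pi.single i 1

theorem alt_top (c : (Fin r → R) [⋀^Fin r]→ₗ[R] V) (v : Fin r → Fin r → R) :
    c v = Matrix.det (Matrix.of v) • c (std R r) := by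
  classical
  let b := Pi.basisFun R (Fin r)
  have hb : (b : Fin r → Fin r → R) = std R r := funext fun i => Pi.basisFun_apply R (Fin r) i
  have h : c = b.det.smulRight (c (std R r)) := by
    refine b.ext_alternating fun σ hσ => ?_
    let τ : Equiv.Perm (Fin r) := Equiv.ofBijective σ (Finite.injective_iff_bijective.1 hσ)
    show c ((b : Fin r → Fin r → R) ∘ τ) = b.det ((b : Fin r → Fin r → R) ∘ τ) • c (std R r)
    rw [c.map_perm, b.det.map_perm, b.det_self, hb]
    simp [Units.smul_def, Int.cast_smul_eq_zsmul]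
  conv_lhs => rw [h]
  show b.det v • c (std R r) = _
  congr 1
  rw [Module.Basis.det_apply, ← Matrix.det_transpose]
  rfl

theorem exists_lift {p : ℕ} (g : V →ₗ[R] W) (c : (Fin r → R) [⋀^Fin p]→ₗ[R] W) (h : ∀ v, ∃ w, g w = c v) :
    ∃ y : (Fin r → R) [⋀^Fin p]→ₗ[R] V, g.compAlternatingMap y = c := by
  let L := exteriorPower.alternatingMapLinearEquiv c
  have hL : ∀ z, L z ∈ LinearMap.range g := fun z => by
    have hz : z ∈ Submodule.span R (Set.range (exteriorPower.ιMulti R p (M := Fin r → R))) := by
      rw [exteriorPower.ιMulti_span]; trivial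
    induction hz using Submodule.span_induction with
    | mem z hz =>
      obtain ⟨v, rfl⟩ := hz
      rw [exteriorPower.alternatingMapLinearEquiv_apply_ιMulti]
      exact h v
    | zero => simp
    | add a b _ _ ha hb => rw [map_add]; exact add_mem ha hb
    | smul a b _ hb => rw [map_smul]; exact Submodule.smul_mem _ _ hb
  obtain ⟨f, hf⟩ := Module.projective_lifting_property g.rangeRestrict (L.codRestrict _ hL) g.surjective_rangeRestrict
  refine ⟨exteriorPower.alternatingMapLinearEquiv.symm f, ?_⟩
  ext v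
  have := congrArg Subtype.val (LinearMap.congr_fun hf (exteriorPower.ιMulti R p v))
  simp only [LinearMap.comp_apply, LinearMap.rangeRestrict, LinearMap.codRestrict_apply, L,
    exteriorPower.alternatingMapLinearEquiv_apply_ιMulti] at this
  rw [← this]
  congr 1

theorem exists_del_eq_top {p : ℕ} (hp : p + 1 = r) (ℓ : (Fin r → R) →ₗ[R] R) {m : V}
    (hm : m ∈ (LinearMap.range ℓ : Ideal R) • (⊤ : Submodule R V))
    (c : (Fin r → R) [⋀^Fin (p + 1)]→ₗ[R] V) (hc : c (fun i => Pi.single (Fin.cast hp i) 1) = m) :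
    ∃ z, del ℓ z = c := by
  subst hp
  have key : ∀ m ∈ (LinearMap.range ℓ : Ideal R) • (⊤ : Submodule R V),
      ∃ z : (Fin (p + 1) → R) [⋀^Fin p]→ₗ[R] V, del ℓ z (std R (p + 1)) = m := by
    intro m hm
    refine Submodule.smul_induction_on hm (fun b hb x _ => ?_) fun a b ha hb => ?_
    · obtain ⟨w, rfl⟩ := hb
      let D := (Pi.basisFun R (Fin (p + 1))).det
      refine ⟨((D.curryLeft) w).smulRight x, ?_⟩
      rw [del_apply]
      have h1 : ∀ i : Fin (p + 1),
          (-1 : ℤ) ^ (i : ℕ) • D (Matrix.vecCons w (i.removeNth (std R (p + 1)))) = w i := fun i => by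
        rw [← D.map_insertNth, Fin.insertNth_removeNth]
        have hD : D = (Pi.basisFun R (Fin (p + 1))).det := rfl
        have hw : w = ∑ j, w j • std R (p + 1) j := by
          funext k
          simp [std, Finset.sum_apply, Pi.single_apply]
        conv_lhs => rw [hw]
        rw [AlternatingMap.map_update_sum, Finset.sum_eq_single i]
        · rw [AlternatingMap.map_update_smul, Function.update_eq_self]
          have : std R (p + 1) = (Pi.basisFun R (Fin (p + 1)) : Fin (p + 1) → Fin (p + 1) → R) :=
            funext fun i => (Pi.basisFun_apply R (Fin (p + 1)) i).symm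
          rw [this, Module.Basis.det_self, smul_eq_mul, mul_one]
        · intro j _ hj
          rw [AlternatingMap.map_update_smul, AlternatingMap.map_eq_zero_of_eq D _ (i := i) (j := j) ?_ hj.symm, smul_zero]
          simp [Function.update_of_ne hj]
        · simp
      have h2 : ℓ w = ∑ i, w i * ℓ (std R (p + 1) i) := by
        conv_lhs => rw [pi_eq_sum_univ w]
        rw [map_sum]
        refine Finset.sum_congr rfl fun i _ => ?_
        rw [map_smul, smul_eq_mul]
        congr 2
        funext j
        simp [std, Pi.single_apply, eq_comm]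
      rw [h2, Finset.sum_smul]
      refine Finset.sum_congr rfl fun i _ => ?_
      rw [AlternatingMap.smulRight_apply, AlternatingMap.curryLeft_apply_apply, ← h1 i, smul_smul, ← smul_assoc,
        mul_comm, ← smul_mul_assoc]
    · obtain ⟨z, rfl⟩ := ha
      obtain ⟨z', rfl⟩ := hb
      exact ⟨z + z', by rw [del_add, AlternatingMap.add_apply]⟩
  obtain ⟨z, hz⟩ := key m hm
  refine ⟨z, AlternatingMap.ext fun v => ?_⟩
  rw [alt_top (del ℓ z) v, alt_top c v, hz]
  congr 1
  exact hc.symm

end Free

section Row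

variable {R : Type*} [CommRing R] {V : Type*} [AddCommGroup V] [Module R V]

/-- Successive divisibility of a module along a sequence. -/
def Divisible {r : ℕ} (f : Fin r → R) (V : Type*) [AddCommGroup V] [Module R V] : Prop :=
  ∀ i : Fin r, ∀ x : V, (∀ j < i, f j • x = 0) → ∃ y : V, (∀ j < i, f j • y = 0) ∧ f i • y = x

theorem row_exact : ∀ {r : ℕ} (ℓ : (Fin r → R) →ₗ[R] R), Divisible (fun i => ℓ (Pi.single i 1)) V →
    ∀ {p : ℕ} (c : (Fin r → R) [⋀^Fin (p + 1)]→ₗ[R] V), del ℓ c = 0 → ∃ z, del ℓ z = c := by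
  intro r
  induction r with
  | zero =>
    intro ℓ _ p c _
    refine ⟨0, ?_⟩
    ext v
    rw [del_zero, AlternatingMap.zero_apply, c.map_coord_zero 0 (Subsingleton.elim _ _)]
  | succ r ih =>
    intro ℓ hf p c hc
    let π : (Fin (r + 1) → R) →ₗ[R] (Fin r → R) := LinearMap.funLeft R R Fin.castSucc
    let inl : (Fin r → R) →ₗ[R] (Fin (r + 1) → R) :=
      { toFun := fun x => Fin.snoc x 0
        map_add' := fun x y => by
          funext i
          refine Fin.lastCases ?_ (fun j => ?_) i <;> simp
        map_smul' := fun b x => by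
          funext i
          refine Fin.lastCases ?_ (fun j => ?_) i <;> simp }
    let t : (Fin (r + 1) → R) →ₗ[R] R := LinearMap.proj (Fin.last r)
    let e : Fin (r + 1) → R := Pi.single (Fin.last r) 1
    let ℓ' := ℓ.comp inl
    let f := ℓ e
    have hπi : π.comp inl = LinearMap.id := LinearMap.ext fun x => funext fun j => by
      simp [π, inl, LinearMap.funLeft_apply]
    have hti : t.comp inl = 0 := LinearMap.ext fun x => by simp [t, inl]
    have hπe : π e = 0 := funext fun j => by simp [π, e, LinearMap.funLeft_apply]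
    have hte : t e = 1 := by simp [t, e]
    have hdec : ∀ x, x = inl (π x) + t x • e := fun x => funext fun i => by
      refine Fin.lastCases ?_ (fun j => ?_) i <;> simp [π, inl, t, e, LinearMap.funLeft_apply]
    have hℓ : ℓ = ℓ'.comp π + f • t := LinearMap.ext fun x => by
      conv_lhs => rw [hdec x]
      simp [ℓ', f, mul_comm]
    let T : ∀ {q : ℕ}, ((Fin r → R) [⋀^Fin q]→ₗ[R] V) → ((Fin (r + 1) → R) [⋀^Fin (q + 1)]→ₗ[R] V) :=
      fun y => del t (y.compLinearMap π)
    have hT0 : ∀ {q : ℕ} (y : (Fin r → R) [⋀^Fin q]→ₗ[R] V), (T y).compLinearMap inl = 0 := fun y => by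
      rw [del_compLinearMap, hti]
      ext v
      simp [del_apply]
    have hπ' : ∀ {q : ℕ} (y : (Fin r → R) [⋀^Fin q]→ₗ[R] V),
        (y.compLinearMap π).compLinearMap inl = y := fun y => by
      rw [AlternatingMap.compLinearMap_assoc, hπi, AlternatingMap.compLinearMap_id]
    have hcur : ∀ {q : ℕ} (y : (Fin r → R) [⋀^Fin (q + 1)]→ₗ[R] V) (x : Fin (r + 1) → R),
        (y.compLinearMap π).curryLeft x = (y.curryLeft (π x)).compLinearMap π := fun y x => by
      ext v
      simp only [AlternatingMap.curryLeft_apply_apply, AlternatingMap.compLinearMap_apply]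
      congr 1
      funext i
      refine Fin.cases ?_ (fun j => ?_) i <;> simp
    have hdelπ : ∀ {q : ℕ} (y : (Fin r → R) [⋀^Fin q]→ₗ[R] V),
        del ℓ (y.compLinearMap π) = (del ℓ' y).compLinearMap π + f • T y := fun y => by
      rw [hℓ, del_add_left, del_smul_left, del_compLinearMap]
    have hdelT : ∀ {q : ℕ} (y : (Fin r → R) [⋀^Fin q]→ₗ[R] V), del ℓ (T y) = -T (del ℓ' y) := fun y => by
      show del ℓ (del t (y.compLinearMap π)) = _
      rw [del_anticomm, hdelπ, del_add, del_smul, show del t (T y) = 0 from del_del t _, smul_zero, add_zero]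
    have key : ∀ (q : ℕ) (c : (Fin (r + 1) → R) [⋀^Fin (q + 1)]→ₗ[R] V),
        c = (c.compLinearMap inl).compLinearMap π + T ((c.curryLeft e).compLinearMap inl) := by
      intro q
      induction q with
      | zero =>
        intro c
        ext v
        show c v = c (fun i => inl (π (v i))) + T ((c.curryLeft e).compLinearMap inl) v
        have hT : T ((c.curryLeft e).compLinearMap inl) v = t (v 0) • c (fun _ => e) := by
          show del t _ v = _
          rw [del_apply, Fin.sum_univ_one]
          simp only [Fin.val_zero, pow_zero, one_smul, AlternatingMap.compLinearMap_apply,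
            AlternatingMap.curryLeft_apply_apply]
          congr 2
          funext i
          fin_cases i
          simp
        rw [hT]
        have h1 : v = Function.update (fun _ : Fin 1 => e) 0 (inl (π (v 0)) + t (v 0) • e) := by
          funext i
          fin_cases i
          simpa using hdec (v 0)
        conv_lhs => rw [h1]
        rw [c.map_update_add, c.map_update_smul]
        have e1 : ∀ a, Function.update (fun _ : Fin 1 => e) 0 a = fun _ : Fin 1 => a := fun a => by
          funext i; fin_cases i; simp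
        rw [e1, e1]
        congr 1
        exact congrArg c (funext fun i => by rw [Subsingleton.elim i 0])
      | succ q ihq =>
        intro c
        ext v
        obtain ⟨x, v, rfl⟩ : ∃ x w, v = Matrix.vecCons x w := ⟨Matrix.vecHead v, Matrix.vecTail v, (Matrix.cons_head_tail v).symm⟩
        rw [← AlternatingMap.curryLeft_apply_apply, ← AlternatingMap.curryLeft_apply_apply]
        refine congrArg (fun (a : (Fin (r + 1) → R) [⋀^Fin (q + 1)]→ₗ[R] V) => a v) ?_
        have hlin : ∀ y : (Fin (r + 1) → R) [⋀^Fin (q + 2)]→ₗ[R] V,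
            y.curryLeft x = y.curryLeft (inl (π x)) + t x • y.curryLeft e := fun y => by
          rw [← map_smul, ← map_add, ← hdec]
        have hee : (c.curryLeft e).curryLeft e = 0 := AlternatingMap.curryLeft_same c e
        have hswap : (c.curryLeft (inl (π x))).curryLeft e = -((c.curryLeft e).curryLeft (inl (π x))) := by
          ext w
          show c (Matrix.vecCons (inl (π x)) (Matrix.vecCons e w)) = -c (Matrix.vecCons e (Matrix.vecCons (inl (π x)) w))
          rw [← c.map_swap _ (show (0 : Fin (q + 2)) ≠ 1 by simp [Fin.ext_iff])]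
          congr 1
          funext i
          refine Fin.cases ?_ (fun i => Fin.cases ?_ (fun j => ?_) i) i
          · rw [Function.comp_apply, Equiv.swap_apply_left]; rfl
          · rw [Function.comp_apply, show Fin.succ (0 : Fin (q + 1)) = (1 : Fin (q + 2)) from rfl,
              Equiv.swap_apply_right]; rfl
          · rw [Function.comp_apply, Equiv.swap_apply_of_ne_of_ne (Fin.succ_ne_zero _)
              (fun h : j.succ.succ = (1 : Fin (q + 2)) => Fin.succ_ne_zero j (Fin.succ_injective _ h))]
            rfl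
        have hinl : ∀ {s : ℕ} (y : (Fin (r + 1) → R) [⋀^Fin (s + 1)]→ₗ[R] V) (a : Fin r → R),
            (y.compLinearMap inl).curryLeft a = (y.curryLeft (inl a)).compLinearMap inl := fun y a => by
          ext w
          simp only [AlternatingMap.curryLeft_apply_apply, AlternatingMap.compLinearMap_apply]
          congr 1
          funext i
          refine Fin.cases ?_ (fun j => ?_) i <;> simp
        have hRHS : ((c.compLinearMap inl).compLinearMap π + T ((c.curryLeft e).compLinearMap inl)).curryLeft x =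
            ((c.curryLeft (inl (π x))).compLinearMap inl).compLinearMap π +
              (t x • ((c.curryLeft e).compLinearMap inl).compLinearMap π -
                T (((c.curryLeft e).curryLeft (inl (π x))).compLinearMap inl)) := by
          rw [AlternatingMap.curryLeft_add, LinearMap.add_apply, hcur, hinl, curryLeft_del, hcur, hinl]
        rw [hRHS, hlin]
        have hT1 : ∀ y : (Fin r → R) [⋀^Fin q]→ₗ[R] V, T (-y) = -T y := fun y => by
          show del t _ = -del t _
          ext w
          simp [del_apply, Finset.sum_neg_distrib]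
        have hT2 : T ((0 : (Fin (r + 1) → R) [⋀^Fin q]→ₗ[R] V).compLinearMap inl) = 0 := by
          ext w
          simp [T, del_apply]
        have A := ihq (c.curryLeft (inl (π x)))
        rw [hswap, show (-((c.curryLeft e).curryLeft (inl (π x)))).compLinearMap inl =
          -(((c.curryLeft e).curryLeft (inl (π x))).compLinearMap inl) by ext; simp, hT1] at A
        have B := ihq (c.curryLeft e)
        rw [hee, hT2, add_zero] at B
        refine (congrArg₂ (fun u v => u + t x • v) A B).trans ?_
        abel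
    let c0 := c.compLinearMap inl
    let c1 := (c.curryLeft e).compLinearMap inl
    have hc' := hc
    rw [key p c, del_add, hdelπ, hdelT] at hc'
    have h0 : del ℓ' c0 = 0 := by
      have h := congrArg (fun y => AlternatingMap.compLinearMap y inl) hc'
      simp only [AlternatingMap.add_compLinearMap, AlternatingMap.zero_compLinearMap] at h
      rw [show (f • T c0).compLinearMap inl = f • (T c0).compLinearMap inl by ext; simp,
        show (-T (del ℓ' c1)).compLinearMap inl = -((T (del ℓ' c1)).compLinearMap inl) by ext; simp,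
        hT0, hT0, hπ', smul_zero, neg_zero, add_zero, add_zero] at h
      exact h
    have h1 : f • c0 = del ℓ' c1 := by
      have hTinv : ∀ y : (Fin r → R) [⋀^Fin (p + 1)]→ₗ[R] V, ((T y).curryLeft e).compLinearMap inl = y := fun y => by
        rw [curryLeft_del, hte, one_smul, hcur, hπe, _root_.map_zero]
        have : del t ((0 : (Fin r → R) [⋀^Fin p]→ₗ[R] V).compLinearMap π) = 0 := by
          ext w; simp [del_apply]
        rw [this, sub_zero, hπ']
      rw [h0, show ((0 : (Fin r → R) [⋀^Fin (p + 2)]→ₗ[R] V).compLinearMap π) = 0 by ext; simp, zero_add,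
        ← sub_eq_add_neg, sub_eq_zero] at hc'
      have h := congrArg (fun y => (AlternatingMap.curryLeft y e).compLinearMap inl) hc'
      simp only [AlternatingMap.curryLeft_smul, LinearMap.smul_apply] at h
      rw [show (f • (T c0).curryLeft e).compLinearMap inl = f • ((T c0).curryLeft e).compLinearMap inl by ext; simp,
        hTinv, hTinv] at h
      exact h
    have hf' : Divisible (fun i => ℓ' (Pi.single i 1)) V := by
      intro i x hx
      have hs : ∀ j : Fin r, ℓ' (Pi.single j 1) = ℓ (Pi.single j.castSucc 1) := fun j => congrArg ℓ <| by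
        funext k
        refine Fin.lastCases ?_ (fun l => ?_) k
        · simp [inl, (Fin.castSucc_lt_last j).ne']
        · simp [inl, Pi.single_apply, Fin.castSucc_inj]
      obtain ⟨y, hy, hy'⟩ := hf i.castSucc x fun j hj => by
        obtain ⟨j, rfl⟩ := Fin.exists_castSucc_eq.2 (ne_of_lt (hj.trans_le (Fin.le_last _)))
        show ℓ (Pi.single j.castSucc 1) • x = 0
        rw [← hs]
        exact hx j (Fin.castSucc_lt_castSucc_iff.1 hj)
      refine ⟨y, fun j hj => ?_, ?_⟩
      · show ℓ' (Pi.single j 1) • y = 0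
        rw [hs]
        exact hy _ (Fin.castSucc_lt_castSucc_iff.2 hj)
      · show ℓ' (Pi.single i 1) • y = x
        rw [hs]
        exact hy'
    obtain ⟨z0, hz0⟩ := ih ℓ' hf' c0 h0
    rcases p with - | p
    · let w := c1 - f • z0
      have hw : del ℓ' w = 0 := by rw [del_sub, del_smul, hz0, h1, sub_self]
      have hwk : ∀ x, ℓ' x • w ![] = 0 := fun x => by
        have h := congrArg (fun y : (Fin r → R) [⋀^Fin 1]→ₗ[R] V => y (fun _ => x)) hw
        rwa [del_zero_apply, AlternatingMap.zero_apply] at h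
      obtain ⟨y, hy, hy'⟩ := hf (Fin.last r) (w ![]) fun j hj => by
        obtain ⟨j, rfl⟩ := Fin.exists_castSucc_eq.2 (ne_of_lt hj)
        refine Eq.trans ?_ (hwk (Pi.single j 1))
        congr 1
        refine congrArg ℓ ?_
        funext k
        refine Fin.lastCases ?_ (fun l => ?_) k
        · simp [inl, (Fin.castSucc_lt_last j).ne']
        · simp [inl, Pi.single_apply, Fin.castSucc_inj]
      have hyk : ∀ x, ℓ' x • y = 0 := fun x => by
        rw [show ℓ' x = ∑ j, x j * ℓ (Pi.single j.castSucc 1) from ?_, Finset.sum_smul]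
        · refine Finset.sum_eq_zero fun j _ => ?_
          rw [mul_smul, hy _ (Fin.castSucc_lt_last j), smul_zero]
        · show ℓ (inl x) = _
          have hs : inl x = ∑ j : Fin r, x j • (Pi.single j.castSucc 1 : Fin (r + 1) → R) := funext fun k => by
            refine Fin.lastCases ?_ (fun l => ?_) k
            · simp [inl, Finset.sum_apply, (Fin.castSucc_lt_last _).ne']
            · simp [inl, Finset.sum_apply, Pi.single_apply, Fin.castSucc_inj]
          rw [hs, map_sum]
          simp
      let y0 : (Fin r → R) [⋀^Fin 0]→ₗ[R] V := AlternatingMap.constOfIsEmpty R (Fin r → R) (Fin 0) y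
      have hy0 : del ℓ' y0 = 0 := by
        ext v
        simp [del_apply, y0, hyk]
      have hy1 : f • y0 = w := by
        ext v
        rw [AlternatingMap.smul_apply]
        exact hy'.trans (congrArg w (Subsingleton.elim _ _))
      refine ⟨(z0 + y0).compLinearMap π, ?_⟩
      rw [hdelπ, del_add, hz0, hy0, add_zero]
      conv_rhs => rw [key 0 c]
      congr 1
      show f • del t ((z0 + y0).compLinearMap π) = del t (c1.compLinearMap π)
      rw [← del_smul, show f • (z0 + y0).compLinearMap π = (f • (z0 + y0)).compLinearMap π by ext; simp,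
        smul_add, hy1]
      congr 2
      simp [w]
    · have hw : del ℓ' (c1 - f • z0) = 0 := by rw [del_sub, del_smul, hz0, h1, sub_self]
      obtain ⟨z1, hz1⟩ := ih ℓ' hf' _ hw
      refine ⟨z0.compLinearMap π - T z1, ?_⟩
      rw [del_sub, hdelπ, hdelT, hz1, hz0]
      conv_rhs => rw [key (p + 1) c]
      show _ + f • T z0 - -del t ((c1 - f • z0).compLinearMap π) = _
      rw [show (c1 - f • z0).compLinearMap π = c1.compLinearMap π - f • z0.compLinearMap π by ext; simp, del_sub,
        del_smul]
      show _ + f • T z0 - -(T c1 - f • T z0) = _ + T c1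
      abel

theorem divisible_of_injective {R : Type u} [CommRing R] {r : ℕ} (f : Fin r → R)
    (hf : RingTheory.Sequence.IsWeaklyRegular R (List.ofFn f)) (V : Type u) [AddCommGroup V] [Module R V]
    [Module.Injective R V] : Divisible f V := by
  intro i x hx
  let K : Ideal R := Ideal.span (f '' {j | j < i})
  have hK : ∀ b ∈ K, b • x = 0 := fun b hb => by
    induction hb using Submodule.span_induction with
    | mem b hb => obtain ⟨j, hj, rfl⟩ := hb; exact hx j hj
    | zero => simp
    | add a b _ _ ha hb => rw [add_smul, ha, hb, add_zero]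
    | smul a b _ hb => rw [smul_eq_mul, mul_smul, hb, smul_zero]
  have hlist : Ideal.ofList ((List.ofFn f).take (i : ℕ)) = K := by
    refine congrArg Ideal.span (Set.ext fun b => ?_)
    simp only [List.mem_take_iff_getElem, List.length_ofFn, List.getElem_ofFn, Set.mem_image,
      Set.mem_setOf_eq]
    constructor
    · rintro ⟨j, hj, rfl⟩
      exact ⟨⟨j, by omega⟩, by show j < (i : ℕ); omega, rfl⟩
    · rintro ⟨j, hj, rfl⟩
      exact ⟨j, by have : (j : ℕ) < i := hj; omega, rfl⟩
  have hreg : ∀ b, f i * b ∈ K → b ∈ K := fun b hb => by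
    have h := ((RingTheory.Sequence.isWeaklyRegular_iff R _).1 hf) (i : ℕ) (by simp)
    have h' := @h (Submodule.Quotient.mk b) 0 (by
      show _ • Submodule.Quotient.mk b = _ • (0 : R ⧸ _)
      rw [smul_zero, ← Submodule.Quotient.mk_smul, Submodule.Quotient.mk_eq_zero, List.getElem_ofFn, smul_eq_mul,
        Ideal.mul_top, hlist]
      simpa using hb)
    rw [Submodule.Quotient.mk_eq_zero, smul_eq_mul, Ideal.mul_top, hlist] at h'
    exact h'
  let φ : (R ⧸ K) →ₗ[R] (R ⧸ K) := f i • LinearMap.id
  have hφ : Function.Injective φ := (injective_iff_map_eq_zero _).2 fun z hz => by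
    obtain ⟨b, rfl⟩ := Submodule.mkQ_surjective _ z
    change Submodule.Quotient.mk (f i • b) = 0 at hz
    rw [Submodule.Quotient.mk_eq_zero] at hz
    exact (Submodule.Quotient.mk_eq_zero _).2 (hreg b hz)
  let g : (R ⧸ K) →ₗ[R] V := Submodule.liftQ K (LinearMap.toSpanSingleton R V x) hK
  obtain ⟨h, hh⟩ := Module.Injective.out φ hφ g
  refine ⟨h (Submodule.Quotient.mk 1), fun j hj => ?_, ?_⟩
  · rw [← map_smul, ← Submodule.Quotient.mk_smul,
      (Submodule.Quotient.mk_eq_zero _).2 (by rw [smul_eq_mul, mul_one]; exact Ideal.subset_span ⟨j, hj, rfl⟩), _root_.map_zero]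
  · rw [← map_smul]
    refine (hh (Submodule.Quotient.mk 1)).trans ?_
    exact one_smul R x

end Row

section Zigzag

variable {R : Type u} [CommRing R] {r : ℕ} (N : ℕ → Type v) [∀ j, AddCommGroup (N j)] [∀ j, Module R (N j)]
  {M : Type w} [AddCommGroup M] [Module R M] (η : M →ₗ[R] N 0) (d : ∀ j, N j →ₗ[R] N (j + 1))

/-- A resolution. -/
structure IsRes : Prop where
  inj : Function.Injective η
  exact0 : ∀ v, d 0 v = 0 ↔ ∃ m, η m = v
  comp : ∀ j v, d (j + 1) (d j v) = 0
  exact : ∀ j v, d (j + 1) v = 0 → ∃ w, d j w = v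

variable (ℓ : (Fin r → R) →ₗ[R] R)

/-- Descending the zigzag. -/
def Reach : (q p : ℕ) → ((Fin r → R) [⋀^Fin p]→ₗ[R] N q) → M → Prop
  | 0, p, c, m => ∀ h : p = r, c (fun i => Pi.single (Fin.cast h i) 1) = η m
  | q + 1, p, c, m => ∃ y : (Fin r → R) [⋀^Fin p]→ₗ[R] N q, (d q).compAlternatingMap y = c ∧
      Reach q (p + 1) (del ℓ y) m

variable {N η d ℓ}

theorem Reach.add : ∀ {q p : ℕ} {c c' : (Fin r → R) [⋀^Fin p]→ₗ[R] N q} {m m' : M},
    Reach N η d ℓ q p c m → Reach N η d ℓ q p c' m' → Reach N η d ℓ q p (c + c') (m + m')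
  | 0, _, _, _, _, _, h, h' => fun e => by rw [AlternatingMap.add_apply, h e, h' e, map_add]
  | q + 1, _, _, _, _, _, ⟨y, hy, h⟩, ⟨y', hy', h'⟩ => ⟨y + y',
      by ext v; simp [← hy, ← hy'], by rw [del_add]; exact Reach.add h h'⟩

theorem Reach.smul (b : R) : ∀ {q p : ℕ} {c : (Fin r → R) [⋀^Fin p]→ₗ[R] N q} {m : M},
    Reach N η d ℓ q p c m → Reach N η d ℓ q p (b • c) (b • m)
  | 0, _, _, _, h => fun e => by rw [AlternatingMap.smul_apply, h e, map_smul]
  | q + 1, _, _, _, ⟨y, hy, h⟩ => ⟨b • y, by ext v; simp [← hy], by rw [del_smul]; exact Reach.smul b h⟩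

theorem Reach.comp (A : (Fin r → R) →ₗ[R] (Fin r → R)) : ∀ {q p : ℕ} {c : (Fin r → R) [⋀^Fin p]→ₗ[R] N q} {m : M},
    Reach N η d ℓ q p c m →
      Reach N η d (ℓ.comp A) q p (c.compLinearMap A) (Matrix.det (Matrix.of fun i => A (std R r i)) • m)
  | 0, p, c, m, h => fun e => by
      subst e
      rw [AlternatingMap.compLinearMap_apply, map_smul, ← h rfl]
      exact alt_top c _
  | q + 1, _, _, _, ⟨y, hy, h⟩ => ⟨y.compLinearMap A, by ext v; simp [← hy],
      by rw [← del_compLinearMap]; exact Reach.comp A h⟩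

variable (hd : IsRes N η d)
include hd

theorem Reach.exists_of_closed : ∀ {q p : ℕ} (_ : p + q = r) (c : (Fin r → R) [⋀^Fin p]→ₗ[R] N q),
    (d q).compAlternatingMap c = 0 → del ℓ c = 0 → ∃ m, Reach N η d ℓ q p c m
  | 0, p, hpq, c, hc, _ => by
      obtain rfl : p = r := by simpa using hpq
      obtain ⟨m, hm⟩ := (hd.exact0 (c (std R p))).1 (congrArg (fun a : (Fin p → R) [⋀^Fin p]→ₗ[R] _ => a (std R p)) hc)
      exact ⟨m, fun _ => hm.symm⟩
  | q + 1, p, hpq, c, hc, hc' => by
      obtain ⟨y, hy⟩ := exists_lift (d q) c fun v =>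
        hd.exact q _ (congrArg (fun a : (Fin r → R) [⋀^Fin p]→ₗ[R] _ => a v) hc)
      obtain ⟨m, hm⟩ := Reach.exists_of_closed (q := q) (p := p + 1) (by omega) (del ℓ y)
        (by rw [comp_del, hy, hc']) (del_del _ _)
      exact ⟨m, y, hy, hm⟩

theorem Reach.mem_of_boundary : ∀ {q p : ℕ} (_ : p + 1 + q = r) (z : (Fin r → R) [⋀^Fin p]→ₗ[R] N q),
    (d q).compAlternatingMap z = 0 → ∀ {m : M}, Reach N η d ℓ q (p + 1) (del ℓ z) m →
      m ∈ (LinearMap.range ℓ : Ideal R) • (⊤ : Submodule R M)
  | 0, p, hpq, z, hz, m, h => by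
      obtain ⟨z', rfl⟩ := exists_lift η z fun v =>
        (hd.exact0 _).1 (congrArg (fun a : (Fin r → R) [⋀^Fin p]→ₗ[R] _ => a v) hz)
      have h1 := h (by omega)
      rw [← comp_del, LinearMap.compAlternatingMap_apply] at h1
      rw [← hd.inj h1]
      exact map_range_le ℓ z' _
  | q + 1, p, hpq, z, hz, m, ⟨y, hy, h⟩ => by
      obtain ⟨u, rfl⟩ := exists_lift (d q) z fun v =>
        hd.exact q _ (congrArg (fun a : (Fin r → R) [⋀^Fin p]→ₗ[R] _ => a v) hz)
      refine Reach.mem_of_boundary (q := q) (p := p + 1) (by omega) (y - del ℓ u) ?_ ?_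
      · ext v
        simp only [LinearMap.compAlternatingMap_apply, AlternatingMap.sub_apply, map_sub, AlternatingMap.zero_apply]
        rw [← LinearMap.compAlternatingMap_apply, hy, ← LinearMap.compAlternatingMap_apply (d q) (del ℓ u), comp_del,
          sub_self]
      · rw [del_sub, del_del, sub_zero]
        exact h

theorem Reach.exists_boundary : ∀ {q p : ℕ}, (∀ q' < q, Divisible (fun i => ℓ (Pi.single i 1)) (N q')) →
    ∀ (_ : p + 1 + q = r) (c : (Fin r → R) [⋀^Fin (p + 1)]→ₗ[R] N q), (d q).compAlternatingMap c = 0 →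
      del ℓ c = 0 → ∀ {m : M}, m ∈ (LinearMap.range ℓ : Ideal R) • (⊤ : Submodule R M) → Reach N η d ℓ q (p + 1) c m →
      ∃ z, del ℓ z = c ∧ (d q).compAlternatingMap z = 0
  | 0, p, _, hpq, c, hc, _, m, hm, h => by
      obtain ⟨c', rfl⟩ := exists_lift η c fun v =>
        (hd.exact0 _).1 (congrArg (fun a : (Fin r → R) [⋀^Fin (p + 1)]→ₗ[R] _ => a v) hc)
      obtain ⟨z, rfl⟩ := exists_del_eq_top (by omega) ℓ hm c' (hd.inj (h (by omega)))
      refine ⟨η.compAlternatingMap z, (comp_del _ _ _).symm, ?_⟩
      ext v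
      simp only [LinearMap.compAlternatingMap_apply, AlternatingMap.zero_apply]
      exact (hd.exact0 _).2 ⟨_, rfl⟩
  | q + 1, p, hdiv, hpq, c, hc, hc', m, hm, ⟨y, hy, h⟩ => by
      obtain ⟨z, hz, hz'⟩ := Reach.exists_boundary (q := q) (p := p + 1) (fun q' hq' => hdiv q' (by omega))
        (by omega) (del ℓ y) (by rw [comp_del, hy, hc']) (del_del _ _) hm h
      obtain ⟨u, hu⟩ := row_exact ℓ (hdiv q (by omega)) (y - z) (by rw [del_sub, hz, sub_self])
      refine ⟨(d q).compAlternatingMap u, ?_, ?_⟩
      · rw [← comp_del, hu]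
        ext v
        rw [LinearMap.compAlternatingMap_apply, AlternatingMap.sub_apply, map_sub,
          show d q (z v) = 0 from congrArg (fun a : (Fin r → R) [⋀^Fin (p + 1)]→ₗ[R] _ => a v) hz', sub_zero]
        exact congrArg (fun a : (Fin r → R) [⋀^Fin (p + 1)]→ₗ[R] _ => a v) hy
      · ext v
        simp [hd.comp]

theorem Reach.exists_of_top (hdiv : ∀ j, Divisible (fun i => ℓ (Pi.single i 1)) (N j)) : ∀ {q p : ℕ}
    (_ : p + q = r) (m : M), ∃ c : (Fin r → R) [⋀^Fin p]→ₗ[R] N q,
      (d q).compAlternatingMap c = 0 ∧ del ℓ c = 0 ∧ Reach N η d ℓ q p c m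
  | 0, p, hpq, m => by
      obtain rfl : p = r := by simpa using hpq
      refine ⟨((Pi.basisFun R (Fin p)).det).smulRight (η m), ?_, ?_, fun _ => ?_⟩
      · ext v
        simp only [LinearMap.compAlternatingMap_apply, AlternatingMap.smulRight_apply, map_smul, AlternatingMap.zero_apply]
        rw [(hd.exact0 _).2 ⟨m, rfl⟩, smul_zero]
      · let b := Pi.basisFun R (Fin p)
        refine b.ext_alternating fun σ hσ => ?_
        exact absurd (Fintype.card_le_of_injective σ hσ) (by simp)
      · rw [AlternatingMap.smulRight_apply]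
        have : (fun i => Pi.single (Fin.cast rfl i) (1 : R)) = (Pi.basisFun R (Fin p) : Fin p → Fin p → R) :=
          funext fun i => (Pi.basisFun_apply R (Fin p) i).symm
        rw [this, Module.Basis.det_self, one_smul]
  | q + 1, p, hpq, m => by
      obtain ⟨c, hc, hc', h⟩ := Reach.exists_of_top hdiv (q := q) (p := p + 1) (by omega) m
      obtain ⟨y, hy⟩ := row_exact ℓ (hdiv q) c hc'
      refine ⟨(d q).compAlternatingMap y, ?_, ?_, y, rfl, by rw [hy]; exact h⟩
      · ext v
        simp [hd.comp]
      · rw [← comp_del, hy, hc]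

end Zigzag

section Residue

variable {R : Type u} [CommRing R] {r : ℕ} (N : ℕ → Type v) [∀ j, AddCommGroup (N j)] [∀ j, Module R (N j)]
  {M : Type w} [AddCommGroup M] [Module R M] (η : M →ₗ[R] N 0) (d : ∀ j, N j →ₗ[R] N (j + 1))

/-- The linear form of a tuple. -/
def lin (a : Fin r → R) : (Fin r → R) →ₗ[R] R := Fintype.linearCombination R a

theorem lin_single (a : Fin r → R) (i : Fin r) : lin a (Pi.single i 1) = a i := by
  simp [lin, Fintype.linearCombination_apply_single]

theorem range_lin (a : Fin r → R) : (LinearMap.range (lin a) : Ideal R) = Ideal.span (Set.range a) :=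
  Fintype.range_linearCombination R a

/-- `m` is a residue of `x` along `a`. -/
def Rel (a : Fin r → R) (x : N r) (m : M) : Prop :=
  Reach N η d (lin a) r 0 (AlternatingMap.constOfIsEmpty R (Fin r → R) (Fin 0) x) m

variable {N η d}

theorem Rel.add {a : Fin r → R} {x x' : N r} {m m' : M} (h : Rel N η d a x m) (h' : Rel N η d a x' m') :
    Rel N η d a (x + x') (m + m') := by
  show Reach N η d _ r 0 _ _
  convert Reach.add h h' using 1
  ext v
  simp

theorem Rel.smul {a : Fin r → R} {x : N r} {m : M} (b : R) (h : Rel N η d a x m) :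
    Rel N η d a (b • x) (b • m) := by
  show Reach N η d _ r 0 _ _
  convert Reach.smul b h using 1
  ext v
  simp

theorem Rel.comp {a f : Fin r → R} (A : Matrix (Fin r) (Fin r) R) (hA : ∀ i, a i = ∑ j, A i j * f j)
    {x : N r} {m : M} (h : Rel N η d f x m) : Rel N η d a x (A.det • m) := by
  let L : (Fin r → R) →ₗ[R] (Fin r → R) := Fintype.linearCombination R fun i => A i
  have hL : ∀ i, L (std R r i) = A i := fun i => by
    simp [L, std, Fintype.linearCombination_apply_single]
  have hl : (lin f).comp L = lin a := by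
    refine LinearMap.pi_ext' fun i => LinearMap.ext_ring ?_
    show lin f (L (std R r i)) = lin a (Pi.single i 1)
    rw [hL, lin_single, hA]
    simp [lin, Fintype.linearCombination_apply]
  have h' := Reach.comp L h
  rw [hl] at h'
  show Reach N η d _ r 0 _ _
  convert h' using 1
  · ext v
    simp
  · congr 1
    congr 1
    ext i j
    rw [Matrix.of_apply, hL]

variable (hd : IsRes N η d)
include hd

theorem Rel.exists_of_killed (a : Fin r → R) (x : N r) (hdx : d r x = 0) (hax : ∀ i, a i • x = 0) :
    ∃ m, Rel N η d a x m := by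
  refine Reach.exists_of_closed hd (by simp) _ ?_ ?_
  · ext v
    simp [hdx]
  · ext v
    have h : ∀ w, lin a w • x = 0 := fun w => by
      simp [lin, Fintype.linearCombination_apply, Finset.sum_smul, mul_smul, hax]
    simp [del_apply, h]

theorem Rel.mem_zero {a : Fin r → R} {m : M} (h : Rel N η d a 0 m) :
    m ∈ Ideal.span (Set.range a) • (⊤ : Submodule R M) := by
  rw [← range_lin]
  rcases r with - | q
  · have h1 := h rfl
    rw [hd.inj (show η m = η 0 by rw [map_zero, ← h1]; rfl)]
    exact zero_mem _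
  · obtain ⟨y, hy, h⟩ := h
    refine Reach.mem_of_boundary hd (q := q) (p := 0) (by omega) y ?_ h
    rw [hy]
    ext v
    simp

theorem Rel.unique {a : Fin r → R} {x : N r} {m m' : M} (h : Rel N η d a x m) (h' : Rel N η d a x m') :
    m - m' ∈ Ideal.span (Set.range a) • (⊤ : Submodule R M) := by
  have h2 := h.add (h'.smul (-1 : R))
  rw [neg_one_smul, neg_one_smul, add_neg_cancel, ← sub_eq_add_neg] at h2
  exact Rel.mem_zero hd h2

theorem Rel.boundary {a : Fin r → R} {q : ℕ} (hq : q + 1 = r) (w : N q) (hw : ∀ i, a i • w = 0) {m : M}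
    (h : Rel N η d a (hq ▸ d q w) m) : m ∈ Ideal.span (Set.range a) • (⊤ : Submodule R M) := by
  subst hq
  rw [← range_lin]
  obtain ⟨y, hy, h⟩ := h
  have hz : del (lin a) (AlternatingMap.constOfIsEmpty R (Fin (q + 1) → R) (Fin 0) w) = 0 := by
    ext v
    have : ∀ z, lin a z • w = 0 := fun z => by
      simp [lin, Fintype.linearCombination_apply, Finset.sum_smul, mul_smul, hw]
    simp [del_apply, this]
  refine Reach.mem_of_boundary hd (q := q) (p := 0) (by omega)
    (y - AlternatingMap.constOfIsEmpty R (Fin (q + 1) → R) (Fin 0) w) ?_ ?_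
  · ext v
    have := congrArg (fun z : (Fin (q + 1) → R) [⋀^Fin 0]→ₗ[R] N (q + 1) => z v) hy
    simp only [LinearMap.compAlternatingMap_apply] at this
    simp [map_sub, this]
  · rw [del_sub, hz, sub_zero]
    exact h

theorem Rel.exists_preimage {a : Fin r → R} (hdiv : ∀ j, Divisible a (N j)) (m : M) :
    ∃ x, d r x = 0 ∧ (∀ i, a i • x = 0) ∧ Rel N η d a x m := by
  have hdiv' : ∀ j, Divisible (fun i => lin a (Pi.single i 1)) (N j) := by simpa only [lin_single] using hdiv
  obtain ⟨c, hc, hc', h⟩ := Reach.exists_of_top hd hdiv' (q := r) (p := 0) (by simp) m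
  refine ⟨c ![], ?_, fun i => ?_, ?_⟩
  · exact congrArg (fun z : (Fin r → R) [⋀^Fin 0]→ₗ[R] N (r + 1) => z ![]) hc
  · have := congrArg (fun z : (Fin r → R) [⋀^Fin 1]→ₗ[R] N r => z fun _ => Pi.single i 1) hc'
    simp only [del_zero_apply, AlternatingMap.zero_apply, lin_single] at this
    exact this
  · show Reach N η d _ r 0 _ _
    convert h using 1
    ext v
    simp [Subsingleton.elim v ![]]

theorem Rel.exists_coboundary {a : Fin r → R} (hdiv : ∀ j, Divisible a (N j)) {x : N r} {m : M}
    (hdx : d r x = 0) (hax : ∀ i, a i • x = 0) (hm : m ∈ Ideal.span (Set.range a) • (⊤ : Submodule R M))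
    (h : Rel N η d a x m) :
    x = 0 ∨ ∃ (q : ℕ) (hq : q + 1 = r) (w : N q), (∀ i, a i • w = 0) ∧ hq ▸ d q w = x := by
  rw [← range_lin] at hm
  rcases r with - | q
  · refine Or.inl ?_
    have h1 := h rfl
    have hm0 : m = 0 := by
      have : (LinearMap.range (lin a) : Ideal R) = ⊥ := by
        rw [range_lin, Set.range_eq_empty, Ideal.span_empty]
      rwa [this, Submodule.bot_smul, Submodule.mem_bot] at hm
    rw [hm0, map_zero] at h1
    simpa using h1
  · refine Or.inr ?_
    have hdiv' : ∀ j, Divisible (fun i => lin a (Pi.single i 1)) (N j) := by simpa only [lin_single] using hdiv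
    obtain ⟨y, hy, h⟩ := h
    have hcl : (d q).compAlternatingMap (del (lin a) y) = 0 := by
      rw [comp_del, hy]
      ext v
      have : ∀ z, lin a z • x = 0 := fun z => by
        simp [lin, Fintype.linearCombination_apply, Finset.sum_smul, mul_smul, hax]
      simp [del_apply, this]
    obtain ⟨z, hz, hz'⟩ := Reach.exists_boundary hd (fun j _ => hdiv' j) (q := q) (p := 0) (by omega)
      (del (lin a) y) hcl (del_del _ _) hm h
    refine ⟨q, rfl, (y - z) ![], fun i => ?_, ?_⟩
    · have h0 : del (lin a) (y - z) = 0 := by rw [del_sub, hz, sub_self]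
      have := congrArg (fun z : (Fin (q + 1) → R) [⋀^Fin 1]→ₗ[R] N q => z fun _ => Pi.single i 1) h0
      simp only [del_zero_apply, AlternatingMap.zero_apply, lin_single] at this
      exact this
    · show d q ((y - z) ![]) = x
      rw [AlternatingMap.sub_apply, map_sub,
        show d q (z ![]) = 0 from congrArg (fun a : (Fin (q + 1) → R) [⋀^Fin 0]→ₗ[R] _ => a ![]) hz', sub_zero]
      exact congrArg (fun a : (Fin (q + 1) → R) [⋀^Fin 0]→ₗ[R] _ => a ![]) hy

end Residue

section Natural

variable {R : Type u} {S : Type u} [CommRing R] [CommRing S] [Algebra R S] {r : ℕ}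
  {N : ℕ → Type v} [∀ j, AddCommGroup (N j)] [∀ j, Module R (N j)]
  {M : Type w} [AddCommGroup M] [Module R M] {η : M →ₗ[R] N 0} {d : ∀ j, N j →ₗ[R] N (j + 1)}
  {N' : ℕ → Type v} [∀ j, AddCommGroup (N' j)] [∀ j, Module R (N' j)] [∀ j, Module S (N' j)]
  [∀ j, IsScalarTower R S (N' j)]
  {M' : Type w} [AddCommGroup M'] [Module R M'] [Module S M'] [IsScalarTower R S M']
  {η' : M' →ₗ[S] N' 0} {d' : ∀ j, N' j →ₗ[S] N' (j + 1)}

/-- Extending scalars on tuples. -/
def ext (S : Type u) [CommRing S] [Algebra R S] (r : ℕ) : (Fin r → R) →ₗ[R] (Fin r → S) :=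
  (Algebra.linearMap R S).compLeft (Fin r)

/-- Restricting cochains. -/
def restr {p : ℕ} {V : Type*} [AddCommGroup V] [Module R V] [Module S V] [IsScalarTower R S V]
    (c : (Fin r → S) [⋀^Fin p]→ₗ[S] V) : (Fin r → R) [⋀^Fin p]→ₗ[R] V :=
  ({ c.toMultilinearMap.restrictScalars R with
      map_eq_zero_of_eq' := c.map_eq_zero_of_eq' } : (Fin r → S) [⋀^Fin p]→ₗ[R] V).compLinearMap (ext S r)

theorem restr_apply {p : ℕ} {V : Type*} [AddCommGroup V] [Module R V] [Module S V] [IsScalarTower R S V]
    (c : (Fin r → S) [⋀^Fin p]→ₗ[S] V) (v : Fin p → Fin r → R) :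
    restr c v = c (fun i => ext S r (v i)) := rfl

theorem Reach.restrict {a : Fin r → R} : ∀ {q p : ℕ} {c : (Fin r → S) [⋀^Fin p]→ₗ[S] N' q} {m : M'},
    Reach N' η' d' (lin fun i => algebraMap R S (a i)) q p c m →
      Reach N' (η'.restrictScalars R) (fun j => (d' j).restrictScalars R) (lin a) q p (restr c) m
  | 0, p, c, m, h => fun e => by
      rw [restr_apply, LinearMap.restrictScalars_apply, ← h e]
      congr 1
      funext i j
      simp [ext, Pi.single_apply, apply_ite (algebraMap R S)]
  | q + 1, p, c, m, ⟨y, hy, h⟩ => ⟨restr y, by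
      ext v
      exact congrArg (fun z : (Fin r → S) [⋀^Fin p]→ₗ[S] N' (q + 1) => z fun i => ext S r (v i)) hy, by
      have : del (lin a) (restr y) = restr (del (lin fun i => algebraMap R S (a i)) y) := by
        ext v
        rw [restr_apply, del_apply, del_apply]
        refine Finset.sum_congr rfl fun i _ => ?_
        congr 1
        rw [restr_apply, ← algebraMap_smul S (lin a (v i))]
        congr 1
        simp [lin, ext, Fintype.linearCombination_apply, map_sum]
      rw [this]
      exact Reach.restrict h⟩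

theorem Reach.map {ℓ : (Fin r → R) →ₗ[R] R} (g : ∀ j, N j →ₗ[R] N' j) (g₀ : M →ₗ[R] M')
    (hg : ∀ j v, g (j + 1) (d j v) = d' j (g j v)) (hg₀ : ∀ m, g 0 (η m) = η' (g₀ m)) :
    ∀ {q p : ℕ} {c : (Fin r → R) [⋀^Fin p]→ₗ[R] N q} {m : M}, Reach N η d ℓ q p c m →
      Reach N' (η'.restrictScalars R) (fun j => (d' j).restrictScalars R) ℓ q p ((g q).compAlternatingMap c) (g₀ m)
  | 0, p, c, m, h => fun e => by
      rw [LinearMap.compAlternatingMap_apply, h e, hg₀]
      rfl
  | q + 1, p, c, m, ⟨y, hy, h⟩ => ⟨(g q).compAlternatingMap y, by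
      ext v
      simp [← hy, hg], by
      rw [← comp_del]
      exact Reach.map g g₀ hg hg₀ h⟩

/-- Residues are compatible with change of rings. -/
theorem Rel.natural (hd' : IsRes N' η' d') (g : ∀ j, N j →ₗ[R] N' j) (g₀ : M →ₗ[R] M')
    (hg : ∀ j v, g (j + 1) (d j v) = d' j (g j v)) (hg₀ : ∀ m, g 0 (η m) = η' (g₀ m))
    {a : Fin r → R} {x : N r} {m : M} {m' : M'} (h : Rel N η d a x m)
    (h' : Rel N' η' d' (fun i => algebraMap R S (a i)) (g r x) m') :
    g₀ m - m' ∈ Ideal.span (Set.range fun i => algebraMap R S (a i)) • (⊤ : Submodule S M') := by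
  have hR : IsRes N' (η'.restrictScalars R) (fun j => (d' j).restrictScalars R) :=
    ⟨hd'.inj, hd'.exact0, hd'.comp, hd'.exact⟩
  have h1 : Rel N' (η'.restrictScalars R) (fun j => (d' j).restrictScalars R) a (g r x) (g₀ m) := by
    show Reach _ _ _ _ r 0 _ _
    convert Reach.map g g₀ hg hg₀ h using 1
    ext v
    simp
  have h2 : Rel N' (η'.restrictScalars R) (fun j => (d' j).restrictScalars R) a (g r x) m' := by
    show Reach _ _ _ _ r 0 _ _
    convert Reach.restrict h' using 1
    ext v
    simp [restr_apply]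
  refine Submodule.smul_induction_on (Rel.unique hR h1 h2) (fun b hb n _ => ?_) fun u v hu hv => add_mem hu hv
  rw [← algebraMap_smul S b n]
  refine Submodule.smul_mem_smul ?_ trivial
  rw [show Set.range (fun i => algebraMap R S (a i)) = algebraMap R S '' Set.range a from Set.range_comp _ _,
    ← Ideal.map_span]
  exact Ideal.mem_map_of_mem _ hb

end Natural

section Independence

variable {R : Type u} [CommRing R]

/-- The classes of a regular sequence are independent modulo the square of the ideal. -/
theorem mem_of_syzygy : ∀ {r : ℕ} (f : Fin r → R), RingTheory.Sequence.IsWeaklyRegular R (List.ofFn f) →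
    ∀ c : Fin r → R, ∑ i, c i * f i = 0 → ∀ i, c i ∈ Ideal.span (Set.range f) := by
  intro r
  induction r with
  | zero => intro f _ c _ i; exact i.elim0
  | succ r ih =>
    intro f hf c hc
    rw [List.ofFn_succ', List.concat_eq_append, RingTheory.Sequence.isWeaklyRegular_append_iff] at hf
    obtain ⟨hf', hl⟩ := hf
    rw [RingTheory.Sequence.isWeaklyRegular_singleton_iff] at hl
    let f' : Fin r → R := fun i => f i.castSucc
    have hK : Ideal.ofList (List.ofFn f') = Ideal.span (Set.range f') := by
      refine congrArg Ideal.span (Set.ext fun b => ?_)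
      simp [List.mem_ofFn]
    have hle : Ideal.span (Set.range f') ≤ Ideal.span (Set.range f) :=
      Ideal.span_mono (Set.range_comp_subset_range _ _)
    rw [Fin.sum_univ_castSucc] at hc
    have hlast : c (Fin.last r) ∈ Ideal.span (Set.range f') := by
      have := @hl (Submodule.Quotient.mk (c (Fin.last r))) 0 (by
        show f (Fin.last r) • Submodule.Quotient.mk (c (Fin.last r)) = f (Fin.last r) • (0 : R ⧸ _)
        rw [smul_zero, ← Submodule.Quotient.mk_smul, Submodule.Quotient.mk_eq_zero, smul_eq_mul, smul_eq_mul,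
          Ideal.mul_top, hK, mul_comm, eq_neg_of_add_eq_zero_right hc]
        exact neg_mem (Ideal.sum_mem _ fun i _ => Ideal.mul_mem_left _ _ (Ideal.subset_span ⟨i, rfl⟩)))
      rw [Submodule.Quotient.mk_eq_zero, smul_eq_mul, Ideal.mul_top, hK] at this
      exact this
    obtain ⟨u, hu⟩ := (Ideal.mem_span_range_iff_exists_fun).1 hlast
    have h0 : ∑ i, (c i.castSucc + u i * f (Fin.last r)) * f' i = 0 := by
      rw [← hc, ← hu, Finset.sum_mul, ← Finset.sum_add_distrib]
      exact Finset.sum_congr rfl fun i _ => by ring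
    intro i
    refine Fin.lastCases (hle hlast) (fun j => ?_) i
    have hj := hle (ih f' hf' _ h0 j)
    have : u j * f (Fin.last r) ∈ Ideal.span (Set.range f) := Ideal.mul_mem_left _ _ (Ideal.subset_span ⟨_, rfl⟩)
    simpa using sub_mem hj this

theorem mem_of_mem_sq {r : ℕ} (f : Fin r → R) (hf : RingTheory.Sequence.IsWeaklyRegular R (List.ofFn f))
    (c : Fin r → R) (hc : ∑ i, c i * f i ∈ Ideal.span (Set.range f) • Ideal.span (Set.range f)) (i : Fin r) :
    c i ∈ Ideal.span (Set.range f) := by
  rw [Submodule.mem_ideal_smul_span_iff_exists_sum (R := R) _ f] at hc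
  obtain ⟨s, hs, hs'⟩ := hc
  rw [Finsupp.sum_fintype s (fun i c => c • f i) (fun i => zero_smul R (f i))] at hs'
  have h := mem_of_syzygy f hf (fun j => c j - s j) (by
    simp only [sub_mul, Finset.sum_sub_distrib, ← hs', smul_eq_mul, sub_self]) i
  simpa using add_mem h (hs i)

end Independence

end Groth.Agent.KoszulZigzag
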