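import Groth.Agent.Lib.ExtGlobal
import Groth.Agent.Lib.KoszulZigzag
import Groth.Agent.Lib.RegImmExt
import Mathlib.Algebra.Category.ModuleCat.EpiMono

/-!
Sections over an affine open of an injective resolution of a quasi-coherent module: a resolution by injective
modules of the module of sections.
-/

set_option linter.style.haveILetI false
set_option linter.unusedSectionVars false
set_option backward.isDefEq.respectTransparency false
set_option backward.isDefEq.respectTransparency.types false
set_option maxHeartbeats 1000000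

universe u

open CategoryTheory CategoryTheory.Limits AlgebraicGeometry TopologicalSpace Opposite

noncomputable section

namespace Groth.Agent.AffineResolution

open Groth.Agent.SheafHomX Groth.Agent.KFlatLib

variable {X : Scheme.{u}} {L : X.Modules} (I : InjectiveResolution L)

/-- The augmentation, typed. -/
abbrev aug : L ⟶ I.cocomplex.X 0 := I.ι.f 0

theorem ker_sections_zero (W : X.Opens) (v : Γ(I.cocomplex.X 0, W)) :
    (I.cocomplex.d 0 1).app W v = 0 ↔ ∃ m : Γ(L, W), (aug I).app W m = v := by
  let S : ShortComplex X.Modules := ShortComplex.mk (aug I) (I.cocomplex.d 0 1) I.ι_f_zero_comp_complex_d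
  have hS : S.Exact := I.exact₀
  haveI : Mono S.f := inferInstanceAs (Mono (I.ι.f 0))
  haveI : PreservesFiniteColimits (QCoh.toAbFunctor X) :=
    (QCoh.toAbFunctor X).preservesFiniteColimits_of_preservesHomology
  constructor
  · intro hv
    exact TopCat.Sheaf.sections_exact_of_left_exact (U := W) (S := S.map (QCoh.toAbFunctor X))
      (hS.map (QCoh.toAbFunctor X)) ((QCoh.toAbFunctor X).map_mono S.f) v hv
  · rintro ⟨m, rfl⟩
    exact congr(($(S.zero)).app W m)

theorem sections_comp (W : X.Opens) (j : ℕ) (v : Γ(I.cocomplex.X j, W)) :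
    (I.cocomplex.d (j + 1) (j + 1 + 1)).app W ((I.cocomplex.d j (j + 1)).app W v) = 0 :=
  congr(($(I.cocomplex.d_comp_d j (j + 1) (j + 1 + 1))).app W v)

theorem exact_top (hL : ExtGlobal.Acyclic L) (j : ℕ) (v : Γ(I.cocomplex.X (j + 1), ⊤))
    (hv : (I.cocomplex.d (j + 1) (j + 1 + 1)).app ⊤ v = 0) :
    ∃ w : Γ(I.cocomplex.X j, ⊤), (I.cocomplex.d j (j + 1)).app ⊤ w = v := by
  haveI : ModSite.HasSheafHom (O := X.sheaf) (Coh.structureModule X) := SheafHomX.isLeftAdjoint_ten _
  have hC : ∀ q, ExtGlobal.Acyclic (I.cocomplex.X q) := fun q p => by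
    haveI := I.injective q
    exact QCoh.subsingleton_HH_of_iso ((SheafHomX.unitIso X).app (I.cocomplex.X q)) (p + 1)
      (ExtGlobal.acyclic_hom_injective (Coh.structureModule X) (I.cocomplex.X q) p)
  have hz : ∀ q, IsZero (I.cocomplex.homology (q + 1)) := fun q =>
    (HomologicalComplex.exactAt_iff_isZero_homology _ _).1 (I.cocomplex_exactAt_succ q)
  have hH : ∀ q ≤ j + 1, ExtGlobal.Acyclic (I.cocomplex.homology q) := fun q _ => by
    rcases q with - | q
    · intro p
      have e : I.cocomplex.homology 0 ≅ L :=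
        (asIso (HomologicalComplex.homologyMap I.ι 0)).symm ≪≫ (HomologicalComplex.singleObjHomologySelfIso _ 0 L)
      exact QCoh.subsingleton_HH_of_iso e.symm (p + 1) (hL p)
    · exact ExtGlobal.acyclic_of_isZero (hz q)
  let a : Coh.structureModule X ⟶ I.cocomplex.X (j + 1) := InvX.ofSect v
  have ha : a ≫ I.cocomplex.d (j + 1) (j + 1 + 1) = 0 := by
    refine AmpleX.eq_zero_of_one_eq_zero _ ?_
    show (I.cocomplex.d (j + 1) (j + 1 + 1)).app ⊤ (InvX.one a) = 0
    rw [InvX.one_ofSect]
    exact hv
  let a' := I.cocomplex.liftCycles a (j + 1 + 1) (by simp) ha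
  obtain ⟨b, hb⟩ := ExtGlobal.exists_of_comp_eq_zero I.cocomplex hC (j + 1) hH a' ((hz j).eq_of_tgt _ _)
  have hb' : b ≫ I.cocomplex.d j (j + 1) = a := by
    have h := congrArg (· ≫ I.cocomplex.iCycles (j + 1)) hb
    simp only [Category.assoc, HomologicalComplex.toCycles_i, a', HomologicalComplex.liftCycles_i] at h
    exact h
  exact ⟨InvX.one b, (congrArg InvX.one hb').trans (InvX.one_ofSect v)⟩

theorem toChart_naturality {M N : X.Modules} (g : M ⟶ N) {W : X.Opens} (hW : IsAffineOpen W) (m : Γ(M, W)) :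
    ((Scheme.Modules.restrictFunctor hW.fromSpec).map g).app ⊤ (QCoh.toChart hW M m) =
      QCoh.toChart hW N (g.app W m) :=
  ConcreteCategory.congr_hom (g.mapPresheaf.naturality (homOfLE (QCoh.image_top_fromSpec hW).le).op) m

theorem exact_affine (hL : Coh.IsQCoh L) {W : X.Opens} (hW : IsAffineOpen W) (j : ℕ)
    (v : Γ(I.cocomplex.X (j + 1), W)) (hv : (I.cocomplex.d (j + 1) (j + 1 + 1)).app W v = 0) :
    ∃ w : Γ(I.cocomplex.X j, W), (I.cocomplex.d j (j + 1)).app W w = v := by
  let I' := ExtShLocal.restrictRes hW.fromSpec I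
  have hA : ExtGlobal.Acyclic ((Scheme.Modules.restrictFunctor hW.fromSpec).obj L) := fun p =>
    QCoh.subsingleton_HH_of_isAffine (QCoh.isQCoh_restrict hW.fromSpec hL) p
  obtain ⟨w', hw'⟩ := exact_top I' hA j (QCoh.toChart hW _ v) (by
    refine (toChart_naturality (I.cocomplex.d (j + 1) (j + 1 + 1)) hW v).trans ?_
    rw [hv]
    exact map_zero _)
  obtain ⟨w, rfl⟩ := (QCoh.bijective_toChart hW (I.cocomplex.X j)).2 w'
  exact ⟨w, (QCoh.bijective_toChart hW _).1 ((toChart_naturality _ hW w).symm.trans hw')⟩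

theorem injective_sections (j : ℕ) {W : X.Opens} (hW : IsAffineOpen W) :
    Module.Injective Γ(X, W) Γ(I.cocomplex.X j, W) := by
  let I' := ExtShLocal.restrictRes hW.fromSpec I
  haveI : Injective ((Scheme.Modules.restrictFunctor hW.fromSpec).obj (I.cocomplex.X j)) := I'.injective j
  haveI : (tilde.functor Γ(X, W)).PreservesMonomorphisms := ⟨fun f _ => QCoh.tildeMap_mono f⟩
  haveI : Injective ((moduleSpecΓFunctor (R := Γ(X, W))).obj
      ((Scheme.Modules.restrictFunctor hW.fromSpec).obj (I.cocomplex.X j))) :=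
    Injective.injective_of_adjoint (tilde.adjunction (R := Γ(X, W))) _
  haveI : Injective (ModuleCat.of Γ(X, W) Γ(I.cocomplex.X j, W)) :=
    Injective.of_iso ((QCoh.chartEquiv hW (I.cocomplex.X j)).toModuleIso.symm) inferInstance
  exact Module.injective_module_of_injective_object Γ(X, W) Γ(I.cocomplex.X j, W)

/-- The linear maps on sections. -/
def linApp {M N : X.Modules} (g : M ⟶ N) (W : X.Opens) : Γ(M, W) →ₗ[Γ(X, W)] Γ(N, W) where
  toFun := g.app W
  map_add' := map_add _
  map_smul' r m := Scheme.Modules.Hom.app_smul g r m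

theorem linApp_apply {M N : X.Modules} (g : M ⟶ N) (W : X.Opens) (m : Γ(M, W)) : linApp g W m = g.app W m := rfl

theorem isRes (hL : Coh.IsQCoh L) {W : X.Opens} (hW : IsAffineOpen W) :
    KoszulZigzag.IsRes (fun j => Γ(I.cocomplex.X j, W)) (linApp (aug I) W)
      (fun j => linApp (I.cocomplex.d j (j + 1)) W) where
  inj := by
    haveI : Mono (aug I) := inferInstanceAs (Mono (I.ι.f 0))
    exact QCoh.app_injective (aug I) W
  exact0 v := ker_sections_zero I W v
  comp j v := sections_comp I W j v
  exact j v hv := exact_affine I hL hW j v hv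

theorem divisible {r : ℕ} (j : ℕ) {W : X.Opens} (hW : IsAffineOpen W) (f : Fin r → Γ(X, W))
    (hf : RingTheory.Sequence.IsWeaklyRegular Γ(X, W) (List.ofFn f)) :
    KoszulZigzag.Divisible f Γ(I.cocomplex.X j, W) :=
  haveI := injective_sections I j hW
  KoszulZigzag.divisible_of_injective f hf _

end Groth.Agent.AffineResolution
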