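import Groth.Agent.Lib.RegImmExt
import Groth.Agent.Lib.AffineHomExt
import Groth.Agent.QCoh.DevissageTheta
import Groth.Agent.Lib.AffineResolution

/-!
Sections of the internal hom out of the structure sheaf of a closed subscheme: the sections killed by its ideal.
-/

set_option linter.style.haveILetI false
set_option linter.unusedSectionVars false
set_option backward.isDefEq.respectTransparency false
set_option backward.isDefEq.respectTransparency.types false
set_option maxHeartbeats 1000000

universe u

open CategoryTheory CategoryTheory.Limits AlgebraicGeometry TopologicalSpace Opposite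

noncomputable section

namespace Groth.Agent.HomPushSections

open Groth.Agent.SheafHomX Groth.Agent.KFlatLib

variable {P X : Scheme.{u}} (ι : X ⟶ P) [IsClosedImmersion ι]

/-- The direct image of the structure sheaf. -/
abbrev pushO : P.Modules := (Scheme.Modules.pushforward ι).obj (Coh.structureModule X)

theorem unitToPush_app (W : P.Opens) (s : Γ(P, W)) :
    (ClSub.unitToPush ι).app W s = ι.app W s := rfl

theorem epi_unitToPush : Epi (ClSub.unitToPush ι) := by
  refine Preadditive.epi_of_cancel_zero _ fun {Z} g hg => QCoh.hom_eq_zero_of_affine g fun U hU s => ?_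
  let s' : Γ(X, ι ⁻¹ᵁ U) := s
  obtain ⟨r, hr⟩ := ι.app_surjective U hU s'
  rw [show s = (ClSub.unitToPush ι).app U r from hr.symm]
  exact congr(($hg).app U r)

/-- Evaluation at one. -/
def eps (N : P.Modules) : (hom (pushO ι)).obj N ⟶ N :=
  (homMap (ClSub.unitToPush ι)).app N ≫ (unitIso P).hom.app N

theorem eps_naturality {N N' : P.Modules} (g : N ⟶ N') : (hom (pushO ι)).map g ≫ eps ι N' = eps ι N ≫ g := by
  rw [eps, eps, ← Category.assoc, (homMap (ClSub.unitToPush ι)).naturality g, Category.assoc, Category.assoc]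
  exact congrArg (_ ≫ ·) ((unitIso P).hom.naturality g)

theorem mono_eps (N : P.Modules) : Mono (eps ι N) := by
  haveI := epi_unitToPush ι
  let S : ShortComplex P.Modules :=
    ShortComplex.mk (kernel.ι (ClSub.unitToPush ι)) (ClSub.unitToPush ι) (kernel.condition _)
  haveI : Epi S.g := epi_unitToPush ι
  obtain ⟨w, hm, -⟩ := ExtShShift.homMap_exact (S := S) (ShortComplex.exact_of_f_is_kernel _ (kernelIsKernel _)) N
  haveI : Mono ((homMap (ClSub.unitToPush ι)).app N) := hm
  rw [eps]
  exact mono_comp _ _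

theorem killed (N : P.Modules) : KZ.ClosedDev.Killed ι ((hom (pushO ι)).obj N) :=
  haveI : Mono ((ClosedShriek.shriekPushIso ι).hom.app N) := inferInstance
  KZ.ClosedDev.Killed.of_mono ι ((ClosedShriek.shriekPushIso ι).hom.app N)
    (KZ.ClosedDev.killed_push ι ((ClosedShriek.shriek ι).obj N))

theorem secEquiv_naturality {U : Scheme.{u}} (j : U ⟶ P) [IsOpenImmersion j] (M : P.Modules) {N N' : P.Modules}
    (g : N ⟶ N') (a : (lsh j).obj (Coh.structureModule U) ⟶ (hom M).obj N) :
    HomSections.secEquiv j M N' (a ≫ (hom M).map g) =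
      HomSections.secEquiv j M N a ≫ (Scheme.Modules.restrictFunctor j).map g := by
  rw [HomSections.secEquiv_apply, HomSections.secEquiv_apply, (adj M).homEquiv_naturality_right_symm,
    Category.assoc, ← (lshAdj j).homEquiv_naturality_right, Category.assoc]

theorem exists_factor {R : CommRingCat.{u}} {A B N : (Spec R).Modules} (hA : Coh.IsQCoh A) (hB : Coh.IsQCoh B)
    (q : A ⟶ B) [Epi q] (φ : A ⟶ N)
    (h : ∀ t : (moduleSpecΓFunctor (R := R)).obj A, (moduleSpecΓFunctor (R := R)).map q t = 0 →
      (moduleSpecΓFunctor (R := R)).map φ t = 0) : ∃ φ' : B ⟶ N, q ≫ φ' = φ := by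
  let Γf := moduleSpecΓFunctor (R := R)
  have hs : Function.Surjective (Γf.map q).hom := fun b =>
    QCoh.app_surjective_of_epi hA hB q (isAffineOpen_top (Spec R)) b
  let k : Γf.obj B →ₗ[R] Γf.obj N := (Submodule.liftQ (LinearMap.ker (Γf.map q).hom) (Γf.map φ).hom
    fun t ht => h t ht).comp ((Γf.map q).hom.quotKerEquivOfSurjective hs).symm.toLinearMap
  obtain ⟨φ', hφ'⟩ := (AffineHomExt.gamma_map_bijective hB N).2 (ModuleCat.ofHom (X := Γf.obj B) (Y := Γf.obj N) k)
  refine ⟨φ', (AffineHomExt.gamma_map_bijective hA N).1 ?_⟩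
  show Γf.map (q ≫ φ') = Γf.map φ
  rw [Functor.map_comp, show Γf.map φ' = _ from hφ']
  refine ModuleCat.hom_ext (LinearMap.ext fun t => ?_)
  show k ((Γf.map q).hom t) = (Γf.map φ).hom t
  simp only [k, LinearMap.comp_apply, LinearEquiv.coe_coe]
  rw [show ((Γf.map q).hom.quotKerEquivOfSurjective hs).symm ((Γf.map q).hom t) = Submodule.Quotient.mk t from
    (LinearEquiv.symm_apply_eq _).2 rfl]
  rfl

theorem exists_eps (N : P.Modules) {W : P.Opens} (hW : IsAffineOpen W) (x : Γ(N, W))
    (hx : ∀ a ∈ RingHom.ker (ι.app W).hom, a • x = 0) : ∃ s, (eps ι N).app W s = x := by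
  let R := Γ(P, W)
  let j := hW.fromSpec
  let rj := Scheme.Modules.restrictFunctor j
  let T := (lsh j).obj (Coh.structureModule (Spec R))
  let xb : Γ(rj.obj N, ⊤) := QCoh.toChart hW N x
  let ψ : Coh.structureModule (Spec R) ⟶ rj.obj N := QCoh.homOfTop xb
  let τ : T ⟶ N := ((lshAdj j).homEquiv _ _).symm ψ
  let b : T ⟶ (hom (Coh.structureModule P)).obj N := τ ≫ (unitIso P).inv.app N
  let φ := HomSections.secEquiv j (Coh.structureModule P) N b
  let c := HomSections.secEquiv j (Coh.structureModule P) T ((unitIso P).inv.app T)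
  haveI : IsIso ((lshAdj j).unit.app (Coh.structureModule (Spec R))) := inferInstance
  let c' := c ≫ inv ((lshAdj j).unit.app (Coh.structureModule (Spec R)))
  have hφ : φ = c' ≫ ψ := by
    have h1 : b = (unitIso P).inv.app T ≫ (hom (Coh.structureModule P)).map τ := ((unitIso P).inv.naturality τ)
    have h2 : ψ = (lshAdj j).unit.app (Coh.structureModule (Spec R)) ≫ rj.map τ :=
      (Equiv.apply_symm_apply ((lshAdj j).homEquiv _ _) ψ).symm.trans ((lshAdj j).homEquiv_unit _ _ τ)
    show HomSections.secEquiv j _ N b = _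
    rw [h1, secEquiv_naturality, h2, Category.assoc, IsIso.inv_hom_id_assoc]
  -- the map factors through the structure sheaf of the subscheme
  haveI : Epi (rj.map (ClSub.unitToPush ι)) := by
    haveI := epi_unitToPush ι
    haveI := ExtShLocal.preservesHomology_restrict j
    exact rj.map_epi _
  obtain ⟨φ', hφ'⟩ := exists_factor (QCoh.isQCoh_restrict j (PnCoh.isQCoh_structureModule P))
    (QCoh.isQCoh_restrict j (RegImmExt.isQCoh_push ι)) (rj.map (ClSub.unitToPush ι)) φ fun t ht => by
      obtain ⟨s, rfl⟩ := (QCoh.bijective_toChart hW (Coh.structureModule P)).2 t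
      have hs : ι.app W (s : Γ(P, W)) = 0 := by
        have h1 := (AffineResolution.toChart_naturality (ClSub.unitToPush ι) hW s).symm.trans ht
        exact (QCoh.bijective_toChart hW _).1 (h1.trans (map_zero (QCoh.chartEquiv hW _)).symm)
      let one : Γ(Coh.structureModule P, W) := (1 : Γ(P, W))
      have hs1 : (show Γ(P, W) from s) • one = s := mul_one (show Γ(P, W) from s)
      rw [← hs1, QCoh.toChart_smul, map_smul]
      let t0 : Γ(Spec R, ⊤) := c'.app ⊤ (QCoh.toChart hW (Coh.structureModule P) one)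
      have h2 : φ.app ⊤ (QCoh.toChart hW (Coh.structureModule P) one) = t0 • xb := by
        rw [hφ]
        refine (QCoh.homOfTop_app xb (W := ⊤) t0).trans (congrArg (_ • ·) ?_)
        show (rj.obj N).presheaf.map (𝟙 _) xb = xb
        rw [CategoryTheory.Functor.map_id]
        rfl
      have h3 : (show R from s) • xb = 0 :=
        (QCoh.toChart_smul hW N (show Γ(P, W) from s) x).symm.trans
          ((congrArg (QCoh.toChart hW N) (hx _ hs)).trans (map_zero (QCoh.chartEquiv hW N)))
      show (show R from s) • φ.app ⊤ (QCoh.toChart hW (Coh.structureModule P) one) = 0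
      rw [h2, Scheme.Modules.smul_Spec_def, smul_comm]
      rw [Scheme.Modules.smul_Spec_def] at h3
      exact (congrArg (t0 • ·) h3).trans (smul_zero t0)
  let a := (HomSections.secEquiv j (pushO ι) N).symm φ'
  have ha : a ≫ eps ι N = τ := by
    have h1 : a ≫ (homMap (ClSub.unitToPush ι)).app N = b := by
      apply (HomSections.secEquiv j (Coh.structureModule P) N).injective
      rw [HomSections.secEquiv_homMap, Equiv.apply_symm_apply]
      exact hφ'
    rw [eps, reassoc_of% h1, Category.assoc, Iso.inv_hom_id_app]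
    exact Category.comp_id τ
  obtain ⟨s, hs⟩ := (QCoh.bijective_toChart hW ((hom (pushO ι)).obj N)).2 (((lshAdj j).homEquiv _ _ a).app ⊤ (1 : Γ(Spec R, ⊤)))
  refine ⟨s, (QCoh.bijective_toChart hW N).1 ?_⟩
  rw [← AffineResolution.toChart_naturality (eps ι N) hW s, hs]
  have h4 : ((lshAdj j).homEquiv _ _ a) ≫ rj.map (eps ι N) = ψ := by
    rw [← Adjunction.homEquiv_naturality_right, ha]
    exact Equiv.apply_symm_apply _ _
  refine (congr(($h4).app ⊤ (1 : Γ(Spec R, ⊤)))).trans ?_
  refine (QCoh.homOfTop_app xb (W := ⊤) _).trans ((one_smul Γ(Spec R, ⊤) _).trans ?_)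
  show (rj.obj N).presheaf.map (𝟙 _) xb = xb
  rw [CategoryTheory.Functor.map_id]
  rfl

theorem eps_range (N : P.Modules) {W : P.Opens} (hW : IsAffineOpen W) (x : Γ(N, W)) :
    (∃ s, (eps ι N).app W s = x) ↔ ∀ a ∈ RingHom.ker (ι.app W).hom, a • x = 0 := by
  refine ⟨?_, exists_eps ι N hW x⟩
  rintro ⟨s, rfl⟩ a ha
  rw [← Scheme.Modules.Hom.app_smul, killed ι N ⟨W, hW⟩ a (by rw [Scheme.Hom.ker_apply]; exact ha) s, map_zero]

end Groth.Agent.HomPushSections
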