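import Groth.Agent.Lib.AffineResolution
import Groth.Agent.Lib.HomPushSections
import Groth.Agent.Lib.ConormalWedge
import Groth.Agent.Lib.BasisHom
import Groth.Agent.Lib.DivisorExt
import Groth.Agent.H23.PicMul
import Groth.Agent.Lib.InvEnd

/-!
The top local Ext sheaf of the structure sheaf of a regular immersion: the maps from the top exterior power of the
conormal sheaf.
-/

set_option linter.style.haveILetI false
set_option linter.unusedSectionVars false
set_option backward.isDefEq.respectTransparency false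
set_option backward.isDefEq.respectTransparency.types false
set_option maxHeartbeats 1000000

universe u

open CategoryTheory CategoryTheory.Limits AlgebraicGeometry TopologicalSpace Opposite
open Groth.Agent.AModX
open scoped TensorProduct

noncomputable section

namespace Groth.Agent.RegExtFormula

open Groth.Agent.SheafHomX

section Ev

variable {X : Scheme.{u}} (L N : X.Modules)

/-- Evaluation of a section of the internal hom. -/
def evs {V : X.Opens} (h : Γ((hom L).obj N, V)) (l : Γ(L, V)) : Γ(N, V) :=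
  ((adj L).counit.app N).app V (QCoh.tmS ((hom L).obj N) L h l)

theorem evs_add {V : X.Opens} (h h' : Γ((hom L).obj N, V)) (l : Γ(L, V)) :
    evs L N (h + h') l = evs L N h l + evs L N h' l := by
  rw [evs, QCoh.tmS_add_left]
  exact map_add _ _ _

theorem evs_smul_left {V : X.Opens} (r : Γ(X, V)) (h : Γ((hom L).obj N, V)) (l : Γ(L, V)) :
    evs L N (r • h) l = r • evs L N h l := by
  rw [evs, QCoh.tmS_smul_left]
  exact Scheme.Modules.Hom.app_smul _ _ _

theorem evs_smul_right {V : X.Opens} (r : Γ(X, V)) (h : Γ((hom L).obj N, V)) (l : Γ(L, V)) :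
    evs L N h (r • l) = r • evs L N h l := by
  rw [evs, QCoh.tmS_smul_right]
  exact Scheme.Modules.Hom.app_smul _ _ _

theorem evs_res {V V' : X.Opens} (i : V' ≤ V) (h : Γ((hom L).obj N, V)) (l : Γ(L, V)) :
    res N i (evs L N h l) = evs L N (res _ i h) (res L i l) := by
  exact (app_res ((adj L).counit.app N) i _).symm.trans
    (congrArg (((adj L).counit.app N).app V') (QCoh.map_tmS ((hom L).obj N) L (homOfLE i) h l))

theorem isQCoh_inv {M : X.Modules} (hM : PicF.IsInvertible M) : Coh.IsQCoh M :=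
  QCoh.isQCoh_of_isFinLocFree fun x =>
    let ⟨U, hx, e⟩ := InvEnd.isFinLocFreeOfRank_one hM x
    ⟨U, 1, hx, e⟩

theorem isQCoh_cancel {H D : X.Modules} (h1 : Coh.IsQCoh ((DCoh.tensorBi.obj H).obj L)) (hD : Coh.IsQCoh D)
    (e : CohB1.tensorMod L D ≅ Coh.structureModule X) : Coh.IsQCoh H := by
  obtain ⟨a⟩ := H23.PicMul.assoc H L D
  obtain ⟨u⟩ := H23.PicMul.unit H
  have he : ∀ A B : X.Modules, CohB1.tensorMod A B = (DCoh.tensorBi.obj A).obj B := fun _ _ => rfl
  have h2 : Coh.IsQCoh (CohB1.tensorMod (CohB1.tensorMod H L) D) := by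
    rw [he, he]
    exact KFlatLib.isQCoh_tensor h1 hD
  let i₂ : CohB1.tensorMod H (CohB1.tensorMod L D) ≅ CohB1.tensorMod H (Coh.structureModule X) :=
    PicGrp.tensorModIso (Iso.refl _) e
  exact (QCoh.isQCoh_iff_iso (a ≪≫ i₂ ≪≫ u)).1 h2

theorem isQCoh_and_iso (hL : PicF.IsInvertible L) (hN : Coh.IsQCoh N) :
    Coh.IsQCoh ((hom L).obj N) ∧ IsIso ((adj L).counit.app N) := by
  obtain ⟨D, hD, ⟨e⟩⟩ := H23.PicInv.exists_inverse hL
  obtain ⟨c⟩ := H23.PicMul.comm D L
  have hinv : ClSub.IsInverseOf D L := ⟨c ≪≫ e⟩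
  haveI := DivisorExt.isEquivalence_ten hinv
  haveI : (hom L).IsEquivalence :=
    Functor.isEquivalence_of_iso ((ten L).asEquivalence.toAdjunction.rightAdjointUniq (adj L))
  haveI hiso : IsIso ((adj L).counit.app N) := inferInstance
  refine ⟨?_, hiso⟩
  exact isQCoh_cancel L (H := (hom L).obj N) (D := D)
    ((QCoh.isQCoh_iff_iso (asIso ((adj L).counit.app N))).2 hN) (isQCoh_inv hD) e

theorem bijective_evs (hL : PicF.IsInvertible L) (hN : Coh.IsQCoh N) (hLq : Coh.IsQCoh L) {U : X.Opens}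
    (hU : IsAffineOpen U) (ω : Γ(L, U)) (hω : Function.Bijective fun b : Γ(X, U) => b • ω) :
    Function.Bijective fun h : Γ((hom L).obj N, U) => evs L N h ω := by
  obtain ⟨hH, hiso⟩ := isQCoh_and_iso L N hL hN
  haveI := hiso
  let E : Γ(X, U) ≃ₗ[Γ(X, U)] Γ(L, U) := LinearEquiv.ofBijective (LinearMap.toSpanSingleton _ _ ω) hω
  let T : Γ((hom L).obj N, U) ≃ₗ[Γ(X, U)] Γ((hom L).obj N, U) ⊗[Γ(X, U)] Γ(L, U) :=
    (TensorProduct.rid Γ(X, U) Γ((hom L).obj N, U)).symm ≪≫ₗ TensorProduct.congr (LinearEquiv.refl _ _) E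
  have hT : ∀ h, QCoh.tmLin ((hom L).obj N) L U (T h) = QCoh.tmS ((hom L).obj N) L h ω := fun h => by
    show QCoh.tmLin _ L U (TensorProduct.congr (LinearEquiv.refl _ _) E ((TensorProduct.rid _ _).symm h)) = _
    rw [TensorProduct.rid_symm_apply, TensorProduct.congr_tmul, QCoh.tmLin_tmul]
    congr 1
    exact one_smul _ ω
  have h1 : Function.Bijective fun h => QCoh.tmS ((hom L).obj N) L h ω := by
    refine (congrArg Function.Bijective (funext hT)).mp ?_
    exact (QCoh.bijective_tmLin hH hLq hU).comp T.bijective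
  exact (ConcreteCategory.bijective_of_isIso (((adj L).counit.app N).app U)).comp h1

end Ev

variable {P X : Scheme.{u}} (ι : X ⟶ P) [IsClosedImmersion ι] {r : ℕ}

/-- The opens on which the subscheme is empty or cut out by a regular sequence. -/
def goods (r : ℕ) : Set P.Opens :=
  {W | IsAffineOpen W ∧ (ι ⁻¹ᵁ W = ⊥ ∨ ∃ f : Fin r → ConormalWedge.Id ι W, ConormalWedge.IsGens ι W f)}

theorem isBasis_goods (hι : RegImm.IsRegularImmersionOfCodim RegImm.Kind.regular r ι) :
    Opens.IsBasis (goods ι r) := by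
  refine Opens.isBasis_iff_nbhd.2 fun {U p} hp => ?_
  by_cases hpX : p ∈ Set.range ι
  · obtain ⟨x, rfl⟩ := hpX
    obtain ⟨W, hW, f, hxW, hf⟩ := ConormalWedge.exists_gens ι hι x
    obtain ⟨g, hg, hxg⟩ := hW.exists_basicOpen_le ⟨ι x, hp⟩ hxW
    exact ⟨P.basicOpen g, ⟨hW.basicOpen g, Or.inr ⟨_, hf.basicOpen ι hW g⟩⟩, hxg, hg⟩
  · let O : P.Opens := U ⊓ ⟨(Set.range ι)ᶜ, ι.isClosedEmbedding.isClosed_range.isOpen_compl⟩
    obtain ⟨_, ⟨W, hW, rfl⟩, hpW, hWO⟩ := P.isBasis_affineOpens.exists_subset_of_mem_open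
      (show p ∈ O from ⟨hp, hpX⟩) O.2
    refine ⟨W, ⟨hW, Or.inl (bot_unique fun x hx => ?_)⟩, hpW, fun q hq => (hWO hq).1⟩
    exact ((hWO hx).2 ⟨x, rfl⟩).elim

variable {F : P.Modules} (I : InjectiveResolution F)

/-- The complex. -/
abbrev cplx : CochainComplex P.Modules ℕ := ExtShShift.cx I (HomPushSections.pushO ι)

/-- Evaluation at one of a cocycle. -/
def cyc (W : P.Opens) (z : Γ((cplx ι I).cycles r, W)) : Γ(I.cocomplex.X r, W) :=
  (HomPushSections.eps ι (I.cocomplex.X r)).app W (((cplx ι I).iCycles r).app W z)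

theorem eps_d (W : P.Opens) (j : ℕ) (s : Γ((cplx ι I).X j, W)) :
    (I.cocomplex.d j (j + 1)).app W ((HomPushSections.eps ι (I.cocomplex.X j)).app W s) =
      (HomPushSections.eps ι (I.cocomplex.X (j + 1))).app W (((cplx ι I).d j (j + 1)).app W s) :=
  congr(($((HomPushSections.eps_naturality ι (I.cocomplex.d j (j + 1))).symm)).app W s)

theorem cyc_add (W : P.Opens) (z z' : Γ((cplx ι I).cycles r, W)) : cyc ι I W (z + z') = cyc ι I W z + cyc ι I W z' :=
  (congrArg ((HomPushSections.eps ι (I.cocomplex.X r)).app W) (map_add (((cplx ι I).iCycles r).app W).hom z z')).trans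
    (map_add _ _ _)

theorem cyc_smul (W : P.Opens) (a : Γ(P, W)) (z : Γ((cplx ι I).cycles r, W)) :
    cyc ι I W (a • z) = a • cyc ι I W z :=
  (congrArg ((HomPushSections.eps ι (I.cocomplex.X r)).app W)
    (Scheme.Modules.Hom.app_smul ((cplx ι I).iCycles r) a z)).trans (Scheme.Modules.Hom.app_smul _ _ _)

theorem cyc_res {W V : P.Opens} (h : V ≤ W) (z : Γ((cplx ι I).cycles r, W)) :
    cyc ι I V (res _ h z) = res _ h (cyc ι I W z) := by
  exact (congrArg ((HomPushSections.eps ι (I.cocomplex.X r)).app V) (app_res ((cplx ι I).iCycles r) h z)).trans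
    (app_res (HomPushSections.eps ι (I.cocomplex.X r)) h _)

theorem cyc_injective (W : P.Opens) : Function.Injective (cyc (r := r) ι I W) :=
  haveI := HomPushSections.mono_eps ι (I.cocomplex.X r)
  (QCoh.app_injective (HomPushSections.eps ι (I.cocomplex.X r)) W).comp
    (QCoh.app_injective ((cplx ι I).iCycles r) W)

theorem cyc_killed {W : P.Opens} (hW : IsAffineOpen W) (z : Γ((cplx ι I).cycles r, W)) (a : Γ(P, W))
    (ha : a ∈ RingHom.ker (ι.app W).hom) : a • cyc ι I W z = 0 :=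
  (HomPushSections.eps_range ι (I.cocomplex.X r) hW _).1 ⟨_, rfl⟩ a ha

theorem cyc_closed (W : P.Opens) (z : Γ((cplx ι I).cycles r, W)) :
    (I.cocomplex.d r (r + 1)).app W (cyc ι I W z) = 0 := by
  rw [cyc, eps_d]
  exact (congrArg ((HomPushSections.eps ι _).app W) congr(($((cplx ι I).iCycles_d r (r + 1))).app W z)).trans
    (map_zero _)

theorem exists_cyc {W : P.Opens} (hW : IsAffineOpen W) (x : Γ(I.cocomplex.X r, W))
    (hd : (I.cocomplex.d r (r + 1)).app W x = 0) (hk : ∀ a ∈ RingHom.ker (ι.app W).hom, a • x = 0) :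
    ∃ z : Γ((cplx ι I).cycles r, W), cyc ι I W z = x := by
  obtain ⟨s, rfl⟩ := (HomPushSections.eps_range ι (I.cocomplex.X r) hW x).2 hk
  haveI := HomPushSections.mono_eps ι (I.cocomplex.X (r + 1))
  have hs : ((cplx ι I).d r (r + 1)).app W s = 0 :=
    QCoh.app_injective (HomPushSections.eps ι (I.cocomplex.X (r + 1))) W
      (((eps_d ι I W r s).symm.trans hd).trans (map_zero _).symm)
  let S : ShortComplex P.Modules :=
    ShortComplex.mk ((cplx ι I).iCycles r) ((cplx ι I).d r (r + 1)) ((cplx ι I).iCycles_d r (r + 1))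
  haveI : Mono S.f := inferInstanceAs (Mono ((cplx ι I).iCycles r))
  obtain ⟨z, hz⟩ := BasisHom.exists_app_eq_of_exact (S := S)
    (ShortComplex.exact_of_f_is_kernel _ ((cplx ι I).cyclesIsKernel r (r + 1) (by simp))) W s hs
  exact ⟨z, congrArg ((HomPushSections.eps ι (I.cocomplex.X r)).app W) hz⟩

variable {L : X.Modules} (φ : ∀ U : X.affineOpens, (L.val.obj (op U.1)) ≃ₗ[Γ(X, U.1)]
    ↥(⋀[Γ(X, U.1)]^r ((Omega.conormal ι).val.obj (op U.1))))

/-- Restriction to the subscheme. -/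
abbrev u (W : P.Opens) (m : Γ(F, W)) : Γ((Scheme.Modules.pullback ι).obj F, ι ⁻¹ᵁ W) :=
  ((Scheme.Modules.pullbackPushforwardAdjunction ι).unit.app F).app W m

/-- `h` is the homomorphism given by the residues of `z`. -/
def IsRes {W : P.Opens} (hW : IsAffineOpen W) (z : Γ((cplx ι I).cycles r, W))
    (h : Γ((hom L).obj ((Scheme.Modules.pullback ι).obj F), ι ⁻¹ᵁ W)) : Prop :=
  ∀ (a : Fin r → ConormalWedge.Id ι W) (m : Γ(F, W)),
    KoszulZigzag.Rel (fun j => Γ(I.cocomplex.X j, W)) (AffineResolution.linApp (AffineResolution.aug I) W)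
      (fun j => AffineResolution.linApp (I.cocomplex.d j (j + 1)) W) (fun i => ConormalWedge.fn ι (a i))
      (cyc ι I W z) m →
    evs L _ h (ConormalWedge.wedge ι φ hW a) = u ι W m

variable (hF : Coh.IsQCoh F) (hι : RegImm.IsRegularImmersionOfCodim RegImm.Kind.regular r ι)
  (hφ : ∀ (U V : X.affineOpens) (h : V.1 ≤ U.1) (e : Fin r → (Omega.conormal ι).val.obj (op U.1)),
    L.val.map (homOfLE h).op ((φ U).symm (exteriorPower.ιMulti _ r e)) =
      (φ V).symm (exteriorPower.ιMulti _ r (fun j => (Omega.conormal ι).val.map (homOfLE h).op (e j))))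

include hφ hι in
theorem isInvertible_L : PicF.IsInvertible L := InvX.isInvertible_of_frames fun x => by
  obtain ⟨W, hW, f, hxW, hf⟩ := ConormalWedge.exists_gens ι hι x
  exact ⟨ι ⁻¹ᵁ W, hxW, _, ConormalWedge.wedge_isFrame ι φ hφ hW hf⟩

include hF hφ hι in
theorem bijective_evs_wedge {W V : P.Opens} (hW : IsAffineOpen W) (hV : IsAffineOpen V) (h : V ≤ W)
    {f : Fin r → ConormalWedge.Id ι W} (hf : ConormalWedge.IsGens ι W f) :
    Function.Bijective fun t : Γ((hom L).obj ((Scheme.Modules.pullback ι).obj F), ι ⁻¹ᵁ V) =>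
      evs L _ t (ConormalWedge.wedge ι φ hV fun i => res (ClSub.idealMod ι.ker) h (f i)) := by
  have hL := isInvertible_L ι φ hι hφ
  have h' : ι ⁻¹ᵁ V ≤ ι ⁻¹ᵁ W := fun y hy => h hy
  refine bijective_evs L _ hL (QCoh.isQCoh_pullback ι hF) (isQCoh_inv hL) (hV.preimage ι) _ ?_
  rw [← ConormalWedge.wedge_res ι φ hφ hW hV h h']
  exact ConormalWedge.wedge_isFrame ι φ hφ hW hf (ι ⁻¹ᵁ V) h'

include hF in
theorem u_eq_zero {W : P.Opens} (hW : IsAffineOpen W) (m : Γ(F, W)) :
    u ι W m = 0 ↔ m ∈ RingHom.ker (ι.app W).hom • (⊤ : Submodule Γ(P, W) Γ(F, W)) := by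
  rw [← Scheme.Hom.ker_apply ι ⟨W, hW⟩]
  exact (QCoh.unit_app_closed ι hF hW).2 m

theorem u_smul (W : P.Opens) (a : Γ(P, W)) (m : Γ(F, W)) : u ι W (a • m) = ι.app W a • u ι W m :=
  (Scheme.Modules.Hom.app_smul ((Scheme.Modules.pullbackPushforwardAdjunction ι).unit.app F) a m).trans
    (QCoh.pushforward_smul ι W a _)

theorem span_fn_le {W : P.Opens} (a : Fin r → ConormalWedge.Id ι W) :
    Ideal.span (Set.range fun i => ConormalWedge.fn ι (a i)) ≤ RingHom.ker (ι.app W).hom :=
  Ideal.span_le.2 (Set.range_subset_iff.2 fun i => ConormalWedge.fn_mem ι (a i))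

include hF hι hφ in
theorem existsUnique_isRes {W : P.Opens} (hW : W ∈ goods ι r) (z : Γ((cplx ι I).cycles r, W)) :
    ∃! h, IsRes ι I φ hW.1 z h := by
  obtain ⟨hWa, hW'⟩ := hW
  rcases hW' with hbot | ⟨f, hf⟩
  · have hs : ∀ (N : X.Modules), Subsingleton Γ(N, ι ⁻¹ᵁ W) := fun N => by
      rw [hbot]
      exact Module.subsingleton Γ(X, (⊥ : X.Opens)) _
    haveI := hs ((hom L).obj ((Scheme.Modules.pullback ι).obj F))
    haveI := hs ((Scheme.Modules.pullback ι).obj F)
    exact ⟨0, fun a m _ => Subsingleton.elim _ _, fun y _ => Subsingleton.elim _ _⟩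
  have hres := AffineResolution.isRes I hF hWa
  obtain ⟨m₀, hm₀⟩ := KoszulZigzag.Rel.exists_of_killed hres (fun i => ConormalWedge.fn ι (f i)) (cyc ι I W z)
    (cyc_closed ι I W z) fun i => cyc_killed ι I hWa z _ (ConormalWedge.fn_mem ι (f i))
  have hbij := bijective_evs_wedge ι φ hF hι hφ hWa hWa le_rfl hf
  simp only [res_self] at hbij
  obtain ⟨h, hh⟩ := hbij.2 (u ι W m₀)
  refine ⟨h, fun a m ham => ?_, fun h' hh' => hbij.1 ((hh' f m₀ hm₀).trans hh.symm)⟩
  choose A hA using fun i => ConormalWedge.exists_coord ι hf (a i)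
  have h1 := KoszulZigzag.Rel.unique hres ham (hm₀.comp (Matrix.of A) hA)
  have h2 : u ι W (m - (Matrix.of A).det • m₀) = 0 :=
    (u_eq_zero ι hF hWa _).2 (Submodule.smul_mono (span_fn_le ι a) le_rfl h1)
  rw [u, map_sub, sub_eq_zero] at h2
  rw [u, h2]
  show _ = u ι W ((Matrix.of A).det • m₀)
  rw [ConormalWedge.wedge_det ι φ hWa (Matrix.of A) hA, evs_smul_right, show evs L _ h _ = u ι W m₀ from hh, u_smul]

include hF hι hφ in
theorem isRes_res {W V : P.Opens} (hW : W ∈ goods ι r) (hV : V ∈ goods ι r) (i : V ≤ W)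
    (i' : ι ⁻¹ᵁ V ≤ ι ⁻¹ᵁ W) (z : Γ((cplx ι I).cycles r, W))
    {h : Γ((hom L).obj ((Scheme.Modules.pullback ι).obj F), ι ⁻¹ᵁ W)} (hh : IsRes ι I φ hW.1 z h)
    {h' : Γ((hom L).obj ((Scheme.Modules.pullback ι).obj F), ι ⁻¹ᵁ V)}
    (hh' : IsRes ι I φ hV.1 (res _ i z) h') : res _ i' h = h' := by
  obtain ⟨hWa, hbot | ⟨f, hf⟩⟩ := hW
  · have : ι ⁻¹ᵁ V = ⊥ := bot_unique (hbot ▸ i')
    haveI : Subsingleton Γ((hom L).obj ((Scheme.Modules.pullback ι).obj F), ι ⁻¹ᵁ V) := by
      rw [this]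
      exact Module.subsingleton Γ(X, (⊥ : X.Opens)) _
    exact Subsingleton.elim _ _
  let f' : Fin r → ConormalWedge.Id ι V := fun l => res (ClSub.idealMod ι.ker) i (f l)
  refine (bijective_evs_wedge ι φ hF hι hφ hWa hV.1 i hf).1 ?_
  have hresW := AffineResolution.isRes I hF hWa
  have hresV := AffineResolution.isRes I hF hV.1
  obtain ⟨m, hm⟩ := KoszulZigzag.Rel.exists_of_killed hresW (fun l => ConormalWedge.fn ι (f l)) (cyc ι I W z)
    (cyc_closed ι I W z) fun l => cyc_killed ι I hWa z _ (ConormalWedge.fn_mem ι (f l))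
  letI : Algebra Γ(P, W) Γ(P, V) := (resR i).toAlgebra
  letI : ∀ j, Module Γ(P, W) Γ(I.cocomplex.X j, V) := fun j => Module.compHom _ (resR i)
  haveI : ∀ j, IsScalarTower Γ(P, W) Γ(P, V) Γ(I.cocomplex.X j, V) := fun j =>
    IsScalarTower.of_algebraMap_smul fun _ _ => rfl
  letI : Module Γ(P, W) Γ(F, V) := Module.compHom _ (resR i)
  haveI : IsScalarTower Γ(P, W) Γ(P, V) Γ(F, V) := IsScalarTower.of_algebraMap_smul fun _ _ => rfl
  let g : ∀ j, Γ(I.cocomplex.X j, W) →ₗ[Γ(P, W)] Γ(I.cocomplex.X j, V) := fun j =>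
    { toFun := res (I.cocomplex.X j) i
      map_add' := map_add _
      map_smul' := fun a x => res_smul i a x }
  let g₀ : Γ(F, W) →ₗ[Γ(P, W)] Γ(F, V) :=
    { toFun := res F i, map_add' := map_add _, map_smul' := fun a x => res_smul i a x }
  obtain ⟨m', hm'⟩ := KoszulZigzag.Rel.exists_of_killed hresV (fun l => algebraMap Γ(P, W) Γ(P, V) (ConormalWedge.fn ι (f l)))
    (g r (cyc ι I W z))
    (by
      show (I.cocomplex.d r (r + 1)).app V (res _ i (cyc ι I W z)) = 0
      rw [app_res, cyc_closed, map_zero])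
    (fun l => by
      show resR i _ • res _ i (cyc ι I W z) = 0
      rw [← res_smul, cyc_killed ι I hWa z _ (ConormalWedge.fn_mem ι (f l)), map_zero])
  have hnat := KoszulZigzag.Rel.natural hresV g g₀ (fun j v => (app_res (I.cocomplex.d j (j + 1)) i v).symm)
    (fun v => (app_res (AffineResolution.aug I) i v).symm) hm hm'
  have hfn : ∀ l, ConormalWedge.fn ι (f' l) = algebraMap Γ(P, W) Γ(P, V) (ConormalWedge.fn ι (f l)) := fun l =>
    ConormalWedge.fn_res ι i (f l)
  have hle : Ideal.span (Set.range fun l => algebraMap Γ(P, W) Γ(P, V) (ConormalWedge.fn ι (f l))) ≤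
      RingHom.ker (ι.app V).hom := by
    simp only [← hfn]
    exact span_fn_le ι f'
  have h2 : u ι V (res F i m - m') = 0 := (u_eq_zero ι hF hV.1 _).2 (Submodule.smul_mono hle le_rfl hnat)
  rw [u, map_sub, sub_eq_zero] at h2
  have h3 : evs L _ h' (ConormalWedge.wedge ι φ hV.1 f') = u ι V m' := by
    refine hh' f' m' ?_
    simp only [hfn]
    rw [cyc_res]
    exact hm'
  show evs L _ (res _ i' h) (ConormalWedge.wedge ι φ hV.1 f') = evs L _ h' (ConormalWedge.wedge ι φ hV.1 f')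
  rw [h3, ← ConormalWedge.wedge_res ι φ hφ hWa hV.1 i i', ← evs_res, hh f m hm]
  exact (app_res ((Scheme.Modules.pullbackPushforwardAdjunction ι).unit.app F) i m).symm.trans h2

theorem IsRes.add {W : P.Opens} {hW : IsAffineOpen W} {z z' : Γ((cplx ι I).cycles r, W)}
    {h h' : Γ((hom L).obj ((Scheme.Modules.pullback ι).obj F), ι ⁻¹ᵁ W)} (hF : Coh.IsQCoh F)
    (H : IsRes ι I φ hW z h) (H' : IsRes ι I φ hW z' h') : IsRes ι I φ hW (z + z') (h + h') := by
  intro a m ham
  have hres := AffineResolution.isRes I hF hW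
  obtain ⟨m₁, h1⟩ := KoszulZigzag.Rel.exists_of_killed hres (fun i => ConormalWedge.fn ι (a i)) (cyc ι I W z)
    (cyc_closed ι I W z) fun i => cyc_killed ι I hW z _ (ConormalWedge.fn_mem ι (a i))
  obtain ⟨m₂, h2⟩ := KoszulZigzag.Rel.exists_of_killed hres (fun i => ConormalWedge.fn ι (a i)) (cyc ι I W z')
    (cyc_closed ι I W z') fun i => cyc_killed ι I hW z' _ (ConormalWedge.fn_mem ι (a i))
  rw [cyc_add] at ham
  have h3 : u ι W (m - (m₁ + m₂)) = 0 :=
    (u_eq_zero ι hF hW _).2 (Submodule.smul_mono (span_fn_le ι a) le_rfl (KoszulZigzag.Rel.unique hres ham (h1.add h2)))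
  rw [u, map_sub, sub_eq_zero] at h3
  rw [evs_add, H a m₁ h1, H' a m₂ h2, u, u, u, h3, map_add]

theorem IsRes.smul {W : P.Opens} {hW : IsAffineOpen W} {z : Γ((cplx ι I).cycles r, W)} (b : Γ(P, W))
    {h : Γ((hom L).obj ((Scheme.Modules.pullback ι).obj F), ι ⁻¹ᵁ W)} (hF : Coh.IsQCoh F)
    (H : IsRes ι I φ hW z h) : IsRes ι I φ hW (b • z) (ι.app W b • h) := by
  intro a m ham
  have hres := AffineResolution.isRes I hF hW
  obtain ⟨m₁, h1⟩ := KoszulZigzag.Rel.exists_of_killed hres (fun i => ConormalWedge.fn ι (a i)) (cyc ι I W z)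
    (cyc_closed ι I W z) fun i => cyc_killed ι I hW z _ (ConormalWedge.fn_mem ι (a i))
  rw [cyc_smul] at ham
  have h3 : u ι W (m - b • m₁) = 0 :=
    (u_eq_zero ι hF hW _).2 (Submodule.smul_mono (span_fn_le ι a) le_rfl (KoszulZigzag.Rel.unique hres ham (h1.smul b)))
  rw [u, map_sub, sub_eq_zero] at h3
  rw [evs_smul_left, H a m₁ h1, ← u_smul, u, u, h3]

include hF hι hφ in
/-- The comparison. -/
theorem nonempty_iso :
    Nonempty ((cplx ι I).homology r ≅
      (Scheme.Modules.pushforward ι).obj ((hom L).obj ((Scheme.Modules.pullback ι).obj F))) := by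
  let H := (hom L).obj ((Scheme.Modules.pullback ι).obj F)
  let T := (Scheme.Modules.pushforward ι).obj H
  choose g hg hu using fun (W : P.Opens) (hW : W ∈ goods ι r) (z : Γ((cplx ι I).cycles r, W)) =>
    existsUnique_isRes ι I φ hF hι hφ hW z
  have hB := isBasis_goods ι hι
  obtain ⟨Φ, hΦ⟩ := BasisHom.exists_hom (M := (cplx ι I).cycles r) (N := T) hB g
    (fun W hW V hV i z => isRes_res ι I φ hF hι hφ hW hV i (fun y hy => i hy) z (hg W hW z) (hg V hV (res _ i z)))
    (fun W hW z z' => (hu W hW _ _ (IsRes.add ι I φ hF (hg W hW z) (hg W hW z'))).symm)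
    (fun W hW b z => by
      refine (hu W hW _ _ (IsRes.smul ι I φ b hF (hg W hW z))).symm.trans ?_
      exact (QCoh.pushforward_smul ι W b _).symm)
  obtain ⟨p, hpr⟩ : ∃ p, (ComplexShape.up ℕ).prev r = p := ⟨_, rfl⟩
  have hempty : ∀ W, ι ⁻¹ᵁ W = ⊥ → ∀ (z : Γ((cplx ι I).cycles r, W)), IsAffineOpen W → z = 0 := by
    intro W hbot z hW
    apply cyc_injective ι I W
    have h1 : (1 : Γ(P, W)) ∈ RingHom.ker (ι.app W).hom := by
      haveI : Subsingleton Γ(X, ι ⁻¹ᵁ W) := by rw [hbot]; infer_instance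
      exact Subsingleton.elim _ _
    rw [← one_smul Γ(P, W) (cyc ι I W z), cyc_killed ι I hW z 1 h1]
    exact (map_zero (AddMonoidHom.mk' (cyc (r := r) ι I W) (cyc_add ι I W))).symm
  have hzero : (cplx ι I).toCycles p r ≫ Φ = 0 := by
    refine Scheme.Modules.hom_ext _ _ fun V => ?_
    ext w
    refine BasisHom.eq_of_basis hB _ _ fun W hW i => ?_
    show res T i (((cplx ι I).toCycles p r ≫ Φ).app V w) = res T i 0
    rw [map_zero, ← app_res]
    generalize res ((cplx ι I).X p) i w = w'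
    show Φ.app W (((cplx ι I).toCycles p r).app W w') = 0
    rw [hΦ W hW]
    refine (hu W hW _ 0 fun a m ham => ?_).symm
    rw [show evs L _ (0 : Γ(H, ι ⁻¹ᵁ W)) _ = 0 from (by
      have h0 := evs_add L ((Scheme.Modules.pullback ι).obj F) (0 : Γ(H, ι ⁻¹ᵁ W)) 0 (ConormalWedge.wedge ι φ hW.1 a)
      rw [add_zero] at h0
      exact left_eq_add.1 h0)]
    refine ((u_eq_zero ι hF hW.1 m).2 (Submodule.smul_mono (span_fn_le ι a) le_rfl ?_)).symm
    have hcy : cyc ι I W (((cplx ι I).toCycles p r).app W w') =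
        (HomPushSections.eps ι (I.cocomplex.X r)).app W (((cplx ι I).d p r).app W w') :=
      congrArg ((HomPushSections.eps ι (I.cocomplex.X r)).app W) congr(($((cplx ι I).toCycles_i p r)).app W w')
    rw [hcy] at ham
    have hp : p = r - 1 := by cases r <;> simp [← hpr]
    rcases r with - | q
    · obtain rfl : p = 0 := hp
      refine KoszulZigzag.Rel.mem_zero (AffineResolution.isRes I hF hW.1) ?_
      convert ham using 1
      rw [show (cplx ι I).d 0 0 = 0 from (cplx ι I).shape _ _ (by simp)]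
      exact (map_zero _).symm
    · obtain rfl : p = q := hp
      refine KoszulZigzag.Rel.boundary (AffineResolution.isRes I hF hW.1) rfl
        ((HomPushSections.eps ι (I.cocomplex.X p)).app W w') (fun l => ?_) ?_
      · exact (HomPushSections.eps_range ι (I.cocomplex.X p) hW.1 _).1 ⟨w', rfl⟩ _ (ConormalWedge.fn_mem ι (a l))
      · exact (congrArg (fun c => KoszulZigzag.Rel _ _ _ _ c m) (eps_d ι I W p w')).mpr ham
  haveI : Epi Φ := by
    refine BasisHom.epi_of_basis hB Φ fun W hW t => ?_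
    let t' : Γ(H, ι ⁻¹ᵁ W) := t
    rcases hW.2 with hbot | ⟨f, hf⟩
    · haveI : Subsingleton Γ(H, ι ⁻¹ᵁ W) := by rw [hbot]; exact Module.subsingleton Γ(X, (⊥ : X.Opens)) _
      exact ⟨0, Subsingleton.elim (α := Γ(H, ι ⁻¹ᵁ W)) _ _⟩
    have hbij := bijective_evs_wedge ι φ hF hι hφ hW.1 hW.1 le_rfl hf
    simp only [res_self] at hbij
    obtain ⟨m, hm⟩ := (QCoh.unit_app_closed ι hF hW.1).1 (evs L _ t' (ConormalWedge.wedge ι φ hW.1 f))
    obtain ⟨x, hx, hxk, hxm⟩ := KoszulZigzag.Rel.exists_preimage (AffineResolution.isRes I hF hW.1)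
      (fun j => AffineResolution.divisible I j hW.1 _ hf.regular) m
    obtain ⟨z, rfl⟩ := exists_cyc ι I hW.1 x hx fun b hb => by
      rw [← hf.span_eq] at hb
      induction hb using Submodule.span_induction with
      | mem b hb => obtain ⟨l, rfl⟩ := hb; exact hxk l
      | zero => exact zero_smul _ _
      | add a b _ _ ha hb => rw [add_smul, ha, hb, add_zero]
      | smul a b _ hb => rw [smul_eq_mul, mul_smul, hb, smul_zero]
    refine ⟨z, (hΦ W hW z).trans (hbij.1 ?_)⟩
    exact (hg W hW z f m hxm).trans hm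
  let S : ShortComplex P.Modules := ShortComplex.mk ((cplx ι I).toCycles p r) Φ hzero
  haveI : Epi S.g := ‹Epi Φ›
  have hS : S.Exact := by
    refine BasisHom.exact_of_basis hB S fun W hW z hz => ?_
    rcases hW.2 with hbot | ⟨f, hf⟩
    · exact ⟨0, (map_zero _).trans (hempty W hbot z hW.1).symm⟩
    have hres := AffineResolution.isRes I hF hW.1
    obtain ⟨m, hm⟩ := KoszulZigzag.Rel.exists_of_killed hres (fun i => ConormalWedge.fn ι (f i)) (cyc ι I W z)
      (cyc_closed ι I W z) fun i => cyc_killed ι I hW.1 z _ (ConormalWedge.fn_mem ι (f i))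
    have hgz : g W hW z = 0 := (hΦ W hW z).symm.trans hz
    have hum : u ι W m = 0 := by
      rw [← hg W hW z f m hm, hgz]
      have h0 := evs_add L ((Scheme.Modules.pullback ι).obj F) (0 : Γ(H, ι ⁻¹ᵁ W)) 0 (ConormalWedge.wedge ι φ hW.1 f)
      rw [add_zero] at h0
      exact left_eq_add.1 h0
    have hmem := (u_eq_zero ι hF hW.1 m).1 hum
    rw [← hf.span_eq] at hmem
    rcases KoszulZigzag.Rel.exists_coboundary hres (fun j => AffineResolution.divisible I j hW.1 _ hf.regular)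
      (cyc_closed ι I W z) (fun i => cyc_killed ι I hW.1 z _ (ConormalWedge.fn_mem ι (f i))) hmem hm with
      h0 | ⟨q, hq, w, hwk, hw⟩
    · refine ⟨0, (map_zero _).trans ?_⟩
      apply cyc_injective ι I W
      rw [h0]
      exact map_zero (AddMonoidHom.mk' (cyc (r := r) ι I W) (cyc_add ι I W))
    · subst hq
      have hp : p = q := by simp [← hpr]
      obtain ⟨w', rfl⟩ := (HomPushSections.eps_range ι (I.cocomplex.X q) hW.1 w).2 fun b hb => by
        rw [← hf.span_eq] at hb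
        induction hb using Submodule.span_induction with
        | mem b hb => obtain ⟨l, rfl⟩ := hb; exact hwk l
        | zero => exact zero_smul _ _
        | add a b _ _ ha hb => rw [add_smul, ha, hb, add_zero]
        | smul a b _ hb => rw [smul_eq_mul, mul_smul, hb, smul_zero]
      show ∃ a, ((cplx ι I).toCycles p (q + 1)).app W a = z
      rw [hp]
      refine ⟨w', cyc_injective ι I W ?_⟩
      rw [← hw]
      show (HomPushSections.eps ι _).app W (((cplx ι I).iCycles (q + 1)).app W (((cplx ι I).toCycles q (q + 1)).app W w')) =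
        (I.cocomplex.d q (q + 1)).app W _
      rw [eps_d]
      exact congrArg ((HomPushSections.eps ι _).app W) congr(($((cplx ι I).toCycles_i q (q + 1))).app W w')
  exact ⟨IsColimit.coconePointUniqueUpToIso ((cplx ι I).homologyIsCokernel p r hpr) hS.gIsCokernel⟩

end Groth.Agent.RegExtFormula
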