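import Groth.Agent.S11924
import Groth.Agent.S15517
import Groth.Agent.S11325
import Groth.Agent.Lib.SmoothTop
import Groth.Agent.Lib.SurfPairing
import Groth.Agent.Lib.PnDualSheafHom
import Groth.Agent.AvramovLib.Ps
import Groth.Agent.GrpSchLib.SmoothRegular

/-!
Serre duality on smooth projective varieties over any field, and Riemann-Roch on surfaces.
-/

set_option autoImplicit false
set_option linter.style.haveILetI false
set_option linter.unusedSectionVars false
set_option backward.isDefEq.respectTransparency false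
set_option backward.isDefEq.respectTransparency.types false
set_option maxHeartbeats 1000000

universe u

open CategoryTheory CategoryTheory.Limits AlgebraicGeometry TopologicalSpace Opposite
open Groth.Agent.H23

noncomputable section

namespace Groth.Agent.SmoothDuality

attribute [local instance] PicMul.clMonoid

section General

variable {k : Type u} [Field k] {n : ℕ} {X : Scheme.{u}} [X.Over (Spec (CommRingCat.of k))]
  [IsProper (X ↘ Spec (CommRingCat.of k))] [HasExt.{u} X.Modules] {W : X.Modules} (hWi : PicF.IsInvertible W)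
  (hD₀ : ∀ F : X.Modules, Coh.IsCoh F → ∀ i ≤ n,
    Nonempty (Abelian.Ext F W i ≃ₗ[k] Module.Dual k (Coh.HH X F (n - i))))

include hWi hD₀ in
/-- Duality gives equality of dimensions. -/
theorem finrank_dual_of {L L' : X.Modules} (hL : PicF.IsInvertible L) (h : PicF.cl L * PicF.cl L' = 1) (p : ℕ)
    (hp : p ≤ n) :
    Module.finrank k (Coh.HH X (CohB1.tensorMod L' W) (n - p)) = Module.finrank k (Coh.HH X L p) := by
  haveI := CurveCohLib.isNoetherian_of_proper (k := k) (X := X)
  have hLc : Coh.IsCoh L := AmpleVan.isCoh_invertible hL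
  have hLf : FlatMod.IsFinLocFree L := fun x =>
    let ⟨U, hx, e⟩ := InvEnd.isFinLocFreeOfRank_one hL x
    ⟨U, 1, hx, e⟩
  obtain ⟨e₁⟩ := hD₀ L hLc (n - p) (Nat.sub_le _ _)
  obtain ⟨e₂⟩ := PnDual.nonempty_ext_linearEquiv_HH (A := k) hLf W (n - p)
  have hWq : Coh.IsQCoh W := RegExtFormula.isQCoh_inv hWi
  obtain ⟨m⟩ := S11325.nonempty_hom_iso L W hL hWq
  have hD : PicF.cl ((SheafHomX.hom L).obj (Coh.structureModule X)) * PicF.cl L = 1 := by
    haveI := (RegExtFormula.isQCoh_and_iso L (Coh.structureModule X) hL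
      (RegExtFormula.isQCoh_inv InvX.isInvertible_structureModule)).2
    rw [← PicMul.cl_tensor, PicMul.one_def]
    exact PicMul.cl_eq_iff.2 ⟨asIso ((SheafHomX.adj L).counit.app (Coh.structureModule X))⟩
  have hcl : PicF.cl ((SheafHomX.hom L).obj W) = PicF.cl (CohB1.tensorMod L' W) := by
    rw [PicMul.cl_eq_iff.2 ⟨m⟩, PicMul.cl_tensor, PicMul.cl_tensor, mul_comm (PicF.cl L')]
    refine congrArg (PicF.cl W * ·) ?_
    rw [← mul_one (PicF.cl ((SheafHomX.hom L).obj (Coh.structureModule X))), ← h, ← mul_assoc, hD, one_mul]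
  obtain ⟨m'⟩ := PicMul.cl_eq_iff.1 hcl
  let e₃ := CurveCohLib.hhEquiv (k := k) m' (n - p)
  rw [show n - (n - p) = p by omega] at e₁
  haveI := CurveCohLib.finite_HH (k := k) hLc p
  rw [← ((e₁.symm.trans e₂).trans e₃).finrank_eq, Subspace.dual_finrank_eq]

end General

section GeneralRR

variable {k : Type u} [Field k] {X : Scheme.{u}} [X.Over (Spec (CommRingCat.of k))]
  [IsProper (X ↘ Spec (CommRingCat.of k))] [HasExt.{u} X.Modules] (hdim : topologicalKrullDim X ≤ (2 : ℕ))
  {W : X.Modules} (hWi : PicF.IsInvertible W)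
  (hD₀ : ∀ F : X.Modules, Coh.IsCoh F → ∀ i ≤ 2,
    Nonempty (Abelian.Ext F W i ≃ₗ[k] Module.Dual k (Coh.HH X F (2 - i))))

include hdim hWi hD₀ in
theorem χ_dual_of {L L' : X.Modules} (hL : PicF.IsInvertible L) (hL' : PicF.IsInvertible L')
    (h : PicF.cl L * PicF.cl L' = 1) :
    SurfPairing.χ k (PicF.cl L' * PicF.cl W) = SurfPairing.χ k (PicF.cl L) := by
  haveI := CurveCohLib.isNoetherian_of_proper (k := k) (X := X)
  haveI : X.IsSeparated := ⟨by
    rw [← Limits.terminal.comp_from (X ↘ Spec (CommRingCat.of k))]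
    infer_instance⟩
  have hv : ∀ {M : X.Modules}, PicF.IsInvertible M → ∀ i, 3 ≤ i → Subsingleton (Coh.HH X M i) := fun hM i hi =>
    Snapper.subsingleton_HH_of_dim_le (d := 2) hdim (AmpleVan.isCoh_invertible hM).1 (by omega)
  rw [← PicMul.cl_tensor, SurfPairing.χ_cl, SurfPairing.χ_cl,
    Euler.euler_eq_sum k _ 3 (hv (PicMul.isInvertible_tensor hL' hWi)), Euler.euler_eq_sum k _ 3 (hv hL)]
  have h0 := finrank_dual_of hWi hD₀ hL h 0 (by omega)
  have h1 := finrank_dual_of hWi hD₀ hL h 1 (by omega)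
  have h2 := finrank_dual_of hWi hD₀ hL h 2 (by omega)
  simp only [Nat.sub_zero, Nat.sub_self, show 2 - 1 = 1 from rfl] at h0 h1 h2
  simp only [Finset.sum_range_succ, Finset.sum_range_zero, h0, h1, h2]
  ring

include hdim hWi hD₀ in
/-- Riemann-Roch on a surface with duality. -/
theorem riemann_roch_of {L : X.Modules} (hL : PicF.IsInvertible L) :
    2 * Curv2.euler k X L = FGA.intNum k X 2 ![L, L] (Coh.structureModule X) -
      FGA.intNum k X 2 ![L, W] (Coh.structureModule X) + 2 * Curv2.euler k X (Coh.structureModule X) := by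
  obtain ⟨L', hL', e⟩ := PicInv.exists_inverse hL
  have h : PicF.cl L * PicF.cl L' = 1 := by
    rw [← PicMul.cl_tensor, PicMul.one_def]
    exact PicMul.cl_eq_iff.2 e
  have hO : PicF.cl (Coh.structureModule X) * PicF.cl (Coh.structureModule X) = (1 : PicF.Cl X) := by
    rw [← PicMul.one_def, one_mul]
  have h0 := χ_dual_of hdim hWi hD₀ InvX.isInvertible_structureModule InvX.isInvertible_structureModule hO
  rw [← PicMul.one_def, one_mul] at h0
  rw [SurfPairing.intNum_eq_pair k hdim hL hL, SurfPairing.intNum_eq_pair k hdim hL hWi, ← SurfPairing.χ_cl,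
    ← SurfPairing.χ_cl, ← PicMul.one_def]
  exact SurfPairing.riemann_roch k hdim hL hL' hWi h (χ_dual_of hdim hWi hD₀ hL hL' h) h0

end GeneralRR


variable {k : Type u} [Field k] {n r : ℕ} {X : Scheme.{u}} [X.Over (Spec (CommRingCat.of k))]
  [SmoothOfRelativeDimension n (X ↘ Spec (CommRingCat.of k))] (ι : X ⟶ CohB1.ProjSpace r k) [IsClosedImmersion ι]
  (hι : ι ≫ CohB1.ProjSpace.toSpec r k = X ↘ Spec (CommRingCat.of k)) {W : X.Modules}
  (hW : ExtPow.IsExtPow n (Omega.sheaf (X ↘ Spec (CommRingCat.of k))) W)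

include ι hι hW in
theorem nonempty_ext_equiv [Nonempty X] [HasExt.{u} X.Modules] (F : X.Modules) (hF : Coh.IsCoh F) (i : ℕ)
    (hi : i ≤ n) : Nonempty (Abelian.Ext F W i ≃ₗ[k] Module.Dual k (Coh.HH X F (n - i))) := by
  haveI : Smooth (X ↘ Spec (CommRingCat.of k)) := SmoothOfRelativeDimension.smooth n _
  haveI := NegVanStalk.noetherian k r
  haveI : IsLocallyNoetherian X := LocallyOfFiniteType.isLocallyNoetherian ι
  obtain ⟨t, ht⟩ := S11924.result k r n X ι hι W hW
  have hWc : Coh.IsCoh W := CurveDeg.isCoh_of_isInvertible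
    (SmoothTop.isInvertible_top (X ↘ Spec (CommRingCat.of k)) n hW)
  have hn : topologicalKrullDim ↥X = (n : WithBot ℕ∞) := by
    refine le_antisymm (ExtShCodim.topologicalKrullDim_le (X ↘ Spec (CommRingCat.of k)) n
      (SmoothEquidim.dim_component (X ↘ Spec (CommRingCat.of k)) n)) ?_
    obtain ⟨x⟩ := (inferInstance : Nonempty X)
    obtain ⟨Z, hZ, -⟩ := exists_mem_irreducibleComponents_subset_of_isIrreducible {x} isIrreducible_singleton
    exact (SmoothEquidim.dim_component (X ↘ Spec (CommRingCat.of k)) n Z hZ).symm.le.trans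
      Topology.IsEmbedding.subtypeVal.isInducing.topologicalKrullDim_le
  exact (S15517.result k r n X ι hι hn (fun x hx => by
    haveI := GrpSchLib.isRegularLocalRing_stalk_of_smooth (X ↘ Spec (CommRingCat.of k)) x
    exact ⟨AvramovLib.isCM_of_regular _, SmoothEquidim.dim_stalk (X ↘ Spec (CommRingCat.of k)) n x hx⟩)
    W hWc t ht F hF).1 i hi

include ι hι hW in
/-- `H^(n-p)(L⁻¹ ⊗ W)` is dual to `H^p(L)`. -/
theorem finrank_dual [IsProper (X ↘ Spec (CommRingCat.of k))] [Nonempty X] {L L' : X.Modules}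
    (hL : PicF.IsInvertible L) (h : PicF.cl L * PicF.cl L' = 1) (p : ℕ) (hp : p ≤ n) :
    Module.finrank k (Coh.HH X (CohB1.tensorMod L' W) (n - p)) = Module.finrank k (Coh.HH X L p) := by
  haveI : HasExt.{u} X.Modules := IsGrothendieckAbelian.hasExt _
  haveI : Smooth (X ↘ Spec (CommRingCat.of k)) := SmoothOfRelativeDimension.smooth n _
  exact finrank_dual_of (SmoothTop.isInvertible_top (X ↘ Spec (CommRingCat.of k)) n hW)
    (nonempty_ext_equiv ι hι hW) hL h p hp

end Groth.Agent.SmoothDuality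

namespace Groth.Agent.SmoothDuality

attribute [local instance] PicMul.clMonoid

variable {k : Type u} [Field k] {r : ℕ} {X : Scheme.{u}} [X.Over (Spec (CommRingCat.of k))]
  [SmoothOfRelativeDimension 2 (X ↘ Spec (CommRingCat.of k))] [IsProper (X ↘ Spec (CommRingCat.of k))]
  [Nonempty X] (ι : X ⟶ CohB1.ProjSpace r k) [IsClosedImmersion ι]
  (hι : ι ≫ CohB1.ProjSpace.toSpec r k = X ↘ Spec (CommRingCat.of k)) {W : X.Modules}
  (hW : ExtPow.IsExtPow 2 (Omega.sheaf (X ↘ Spec (CommRingCat.of k))) W)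

include ι hι hW in
theorem χ_dual {L L' : X.Modules} (hL : PicF.IsInvertible L) (hL' : PicF.IsInvertible L')
    (h : PicF.cl L * PicF.cl L' = 1) :
    SurfPairing.χ k (PicF.cl L' * PicF.cl W) = SurfPairing.χ k (PicF.cl L) := by
  haveI : HasExt.{u} X.Modules := IsGrothendieckAbelian.hasExt _
  haveI : Smooth (X ↘ Spec (CommRingCat.of k)) := SmoothOfRelativeDimension.smooth 2 _
  exact χ_dual_of (ExtShCodim.topologicalKrullDim_le (X ↘ Spec (CommRingCat.of k)) 2
    (SmoothEquidim.dim_component (X ↘ Spec (CommRingCat.of k)) 2))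
    (SmoothTop.isInvertible_top (X ↘ Spec (CommRingCat.of k)) 2 hW) (nonempty_ext_equiv ι hι hW) hL hL' h

include ι hι hW in
/-- Riemann-Roch on a smooth projective surface. -/
theorem riemann_roch {L : X.Modules} (hL : PicF.IsInvertible L) :
    2 * Curv2.euler k X L = FGA.intNum k X 2 ![L, L] (Coh.structureModule X) -
      FGA.intNum k X 2 ![L, W] (Coh.structureModule X) + 2 * Curv2.euler k X (Coh.structureModule X) := by
  haveI : HasExt.{u} X.Modules := IsGrothendieckAbelian.hasExt _
  haveI : Smooth (X ↘ Spec (CommRingCat.of k)) := SmoothOfRelativeDimension.smooth 2 _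
  exact riemann_roch_of (ExtShCodim.topologicalKrullDim_le (X ↘ Spec (CommRingCat.of k)) 2
    (SmoothEquidim.dim_component (X ↘ Spec (CommRingCat.of k)) 2))
    (SmoothTop.isInvertible_top (X ↘ Spec (CommRingCat.of k)) 2 hW) (nonempty_ext_equiv ι hι hW) hL

end Groth.Agent.SmoothDuality
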