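import Groth.Agent.Lib.SurfAmple
import Groth.Agent.Lib.SmoothDuality
import Groth.Agent.Lib.TopPower
import Groth.Agent.Lib.AmpleEmbed
import Groth.Agent.AmpleX.Generated
import Groth.Agent.CurveFin.RelDim

/-!
Smooth surfaces with an ample module: vanishing of `H²` in large degree, big classes, the Hodge index theorem.
-/

set_option autoImplicit false
set_option linter.style.haveILetI false
set_option linter.unusedSectionVars false
set_option backward.isDefEq.respectTransparency false
set_option backward.isDefEq.respectTransparency.types false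
set_option maxHeartbeats 1000000

universe u

open CategoryTheory CategoryTheory.Limits AlgebraicGeometry TopologicalSpace Opposite
open Groth.Agent.H23 Groth.Agent.H23.TrivBasic

noncomputable section

namespace Groth.Agent.SurfHodge

attribute [local instance] PicMul.clMonoid

variable {k : Type u} [Field k] {X : Scheme.{u}} [X.Over (Spec (CommRingCat.of k))]
  [IsProper (X ↘ Spec (CommRingCat.of k))] [Smooth (X ↘ Spec (CommRingCat.of k))] [IsIntegral X]

theorem regular (k : Type u) [Field k] [X.Over (Spec (CommRingCat.of k))] [Smooth (X ↘ Spec (CommRingCat.of k))]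
    (x : X) : IsRegularLocalRing (X.presheaf.stalk x) :=
  GrpSchLib.isRegularLocalRing_stalk_of_smooth (X ↘ Spec (CommRingCat.of k)) x

variable (hdim : topologicalKrullDim X = 2) {H : X.Modules} (hH : CohB1.IsAmple H)

include hdim hH in
/-- Duality and Riemann-Roch from an ample module. -/
theorem exists_canonical : ∃ W : X.Modules, PicF.IsInvertible W ∧
    (∀ {L L' : X.Modules}, PicF.IsInvertible L → PicF.cl L * PicF.cl L' = 1 →
      Module.finrank k (Coh.HH X (CohB1.tensorMod L' W) 0) = Module.finrank k (Coh.HH X L 2)) ∧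
    ∀ {L : X.Modules}, PicF.IsInvertible L →
      2 * Curv2.euler k X L = SurfPairing.pair k (PicF.cl L) (PicF.cl L) -
        SurfPairing.pair k (PicF.cl L) (PicF.cl W) + 2 * Curv2.euler k X (Coh.structureModule X) := by
  haveI := CurveFin.smoothOfRelativeDimension_of_dim (f := X ↘ Spec (CommRingCat.of k)) (d := 2) hdim
  obtain ⟨n, ι, hi, hι⟩ := AmpleEmbed.exists_closedImmersion (X ↘ Spec (CommRingCat.of k)) hH
  haveI := hi
  obtain ⟨W, hW, hWi⟩ := TopPower.exists_canonical (X ↘ Spec (CommRingCat.of k)) 2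
  refine ⟨W, hWi, fun {L L'} hL h => ?_, fun {L} hL => ?_⟩
  · exact SmoothDuality.finrank_dual ι hι hW hL h 2 le_rfl
  · rw [SmoothDuality.riemann_roch ι hι hW hL, SurfPairing.intNum_eq_pair k hdim.le hL hL,
      SurfPairing.intNum_eq_pair k hdim.le hL hWi]

include hdim hH in
/-- `H²` vanishes on classes of large degree, uniformly. -/
theorem exists_h2_vanishing : ∃ n₀ : ℤ, ∀ L : X.Modules, PicF.IsInvertible L →
    n₀ < SurfPairing.pair k (PicF.cl L) (PicF.cl H) → Subsingleton (Coh.HH X L 2) := by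
  haveI := CurveCohLib.isNoetherian_of_proper (k := k) (X := X)
  obtain ⟨W, hWi, hdual, -⟩ := exists_canonical (k := k) hdim hH
  refine ⟨SurfPairing.pair k (PicF.cl W) (PicF.cl H), fun L hL hlt => ?_⟩
  by_contra hns
  rw [not_subsingleton_iff_nontrivial] at hns
  haveI := CurveCohLib.finite_HH (k := k) (AmpleVan.isCoh_invertible hL) 2
  obtain ⟨L', hL', e⟩ := PicInv.exists_inverse hL
  have h : PicF.cl L * PicF.cl L' = 1 := by
    rw [← PicMul.cl_tensor, PicMul.one_def]
    exact PicMul.cl_eq_iff.2 e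
  have hpos : 0 < Module.finrank k (Coh.HH X (CohB1.tensorMod L' W) 0) := by
    rw [hdual hL h]
    exact Module.finrank_pos
  obtain ⟨t, ht⟩ := CurveAmple.exists_section_ne_zero (M := CohB1.tensorMod L' W)
    (Module.nontrivial_of_finrank_pos (R := k) hpos)
  have h1 := SurfAmple.pair_nonneg (k := k) hdim.le (PicMul.isInvertible_tensor hL' hWi) hH ht
  rw [SurfPairing.pair_comm, PicMul.cl_tensor, SurfPairing.pair_mul k hdim.le hH.1 hL' hWi,
    SurfPairing.pair_inv k hdim.le hH.1 hL hL' h, SurfPairing.pair_comm k (PicF.cl H) (PicF.cl L),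
    SurfPairing.pair_comm k (PicF.cl H) (PicF.cl W)] at h1
  omega

include hdim hH in
/-- A class of positive square and positive degree has many effective multiples. -/
theorem eventually_effective {L : X.Modules} (hL : PicF.IsInvertible L)
    (hLL : 0 < SurfPairing.pair k (PicF.cl L) (PicF.cl L))
    (hLH : 0 < SurfPairing.pair k (PicF.cl L) (PicF.cl H)) :
    ∃ N : ℕ, ∀ n : ℕ, N ≤ n → Nontrivial (Coh.HH X (CohB1.tensorPow L n) 0) := by
  haveI := CurveCohLib.isNoetherian_of_proper (k := k) (X := X)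
  haveI : X.IsSeparated := ⟨by
    rw [← Limits.terminal.comp_from (X ↘ Spec (CommRingCat.of k))]
    infer_instance⟩
  obtain ⟨n₀, hn₀⟩ := exists_h2_vanishing (k := k) hdim hH
  obtain ⟨W, hWi, -, hRR⟩ := exists_canonical (k := k) hdim hH
  let a := SurfPairing.pair k (PicF.cl L) (PicF.cl L)
  let b := SurfPairing.pair k (PicF.cl L) (PicF.cl W)
  let c := Curv2.euler k X (Coh.structureModule X)
  refine ⟨n₀.toNat + b.toNat + (-c).toNat * 2 + 1, fun n hn => ?_⟩
  let P := CohB1.tensorPow L n
  have hP : PicF.IsInvertible P := PicMul.isInvertible_tensorPow hL n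
  have hPH : SurfPairing.pair k (PicF.cl P) (PicF.cl H) = n * SurfPairing.pair k (PicF.cl L) (PicF.cl H) := by
    rw [SurfPairing.pair_comm, SurfAmple.pair_pow hdim.le hH.1 hL n, SurfPairing.pair_comm]
  have hPP : SurfPairing.pair k (PicF.cl P) (PicF.cl P) = n * (n * a) := by
    rw [SurfAmple.pair_pow hdim.le hP hL n, SurfPairing.pair_comm, SurfAmple.pair_pow hdim.le hL hL n]
  have hPW : SurfPairing.pair k (PicF.cl P) (PicF.cl W) = n * b := by
    rw [SurfPairing.pair_comm, SurfAmple.pair_pow hdim.le hWi hL n, SurfPairing.pair_comm]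
  have h2 : Subsingleton (Coh.HH X P 2) := hn₀ P hP (by
    rw [hPH]
    nlinarith [Int.self_le_toNat n₀])
  have h := hRR hP
  rw [hPP, hPW] at h
  have hb := Int.self_le_toNat b
  have hc := Int.self_le_toNat (-c)
  have hn' : (n₀.toNat : ℤ) + b.toNat + (-c).toNat * 2 + 1 ≤ n := by exact_mod_cast hn
  have ha1 : 1 ≤ a := hLL
  have hna : (n : ℤ) ≤ n * a := le_mul_of_one_le_right (by positivity) ha1
  have hd : 1 + 2 * ((-c).toNat : ℤ) ≤ n * a - b := by linarith
  have hn1 : (1 : ℤ) ≤ n := by linarith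
  have hd2 : n * a - b ≤ n * (n * a - b) := le_mul_of_one_le_left (by linarith) hn1
  have hχ : 0 < Curv2.euler k X P := by linarith
  have he := Euler.euler_eq_sum k P 3 fun i hi =>
    Snapper.subsingleton_HH_of_dim_le (d := 2) hdim.le (AmpleVan.isCoh_invertible hP).1 (by omega)
  haveI := h2
  simp only [Finset.sum_range_succ, Finset.sum_range_zero,
    Module.finrank_zero_of_subsingleton (R := k) (M := Coh.HH X P 2)] at he
  push_cast at he
  ring_nf at he
  have hpos : (0 : ℤ) < Module.finrank k (Coh.HH X P 0) := by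
    linarith [Int.natCast_nonneg (Module.finrank k (Coh.HH X P 1))]
  exact Module.nontrivial_of_finrank_pos (R := k) (by exact_mod_cast hpos)

include hdim hH in
/-- An effective module of nonzero self-intersection pairs positively with an ample one. -/
theorem pair_pos_of_effective {L : X.Modules} (hL : PicF.IsInvertible L)
    (hLL : SurfPairing.pair k (PicF.cl L) (PicF.cl L) ≠ 0) (h0 : Nontrivial (Coh.HH X L 0)) :
    0 < SurfPairing.pair k (PicF.cl L) (PicF.cl H) := by
  obtain ⟨s, hs⟩ := CurveAmple.exists_section_ne_zero h0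
  refine SurfAmple.pair_pos (k := k) hdim (regular k) hL hH hs fun ht => hLL ?_
  obtain ⟨e⟩ := triv_of_frame (locus_eq_top_iff.1 ht)
  rw [PicMul.cl_eq_iff.2 ⟨e⟩, ← PicMul.one_def, SurfPairing.pair_one]

include hdim hH in
theorem pair_pow_self {L : X.Modules} (hL : PicF.IsInvertible L) (n : ℕ) :
    SurfPairing.pair k (PicF.cl (CohB1.tensorPow L n)) (PicF.cl (CohB1.tensorPow L n)) =
      n * (n * SurfPairing.pair k (PicF.cl L) (PicF.cl L)) := by
  rw [SurfAmple.pair_pow hdim.le (PicMul.isInvertible_tensorPow hL n) hL n, SurfPairing.pair_comm,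
    SurfAmple.pair_pow hdim.le hL hL n]

include hdim hH in
/-- Quadratic growth of sections of a class of positive square and degree. -/
theorem eventually_growth {L : X.Modules} (hL : PicF.IsInvertible L)
    (hLL : 0 < SurfPairing.pair k (PicF.cl L) (PicF.cl L))
    (hLH : 0 < SurfPairing.pair k (PicF.cl L) (PicF.cl H)) :
    ∃ c : ℚ, 0 < c ∧ ∃ N : ℕ, ∀ n : ℕ, N ≤ n →
      c * (n : ℚ) ^ 2 < (Module.finrank k (Coh.HH X (CohB1.tensorPow L n) 0) : ℚ) := by
  haveI := CurveCohLib.isNoetherian_of_proper (k := k) (X := X)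
  haveI : X.IsSeparated := ⟨by
    rw [← Limits.terminal.comp_from (X ↘ Spec (CommRingCat.of k))]
    infer_instance⟩
  obtain ⟨n₀, hn₀⟩ := exists_h2_vanishing (k := k) hdim hH
  obtain ⟨W, hWi, -, hRR⟩ := exists_canonical (k := k) hdim hH
  let b := SurfPairing.pair k (PicF.cl L) (PicF.cl W)
  let c := Curv2.euler k X (Coh.structureModule X)
  refine ⟨(SurfPairing.pair k (PicF.cl L) (PicF.cl L) : ℚ) / 4, by positivity,
    n₀.toNat + 2 * b.toNat + 4 * (-c).toNat + 1, fun n hn => ?_⟩
  let P := CohB1.tensorPow L n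
  have hP : PicF.IsInvertible P := PicMul.isInvertible_tensorPow hL n
  have hPH : SurfPairing.pair k (PicF.cl P) (PicF.cl H) = n * SurfPairing.pair k (PicF.cl L) (PicF.cl H) := by
    rw [SurfPairing.pair_comm, SurfAmple.pair_pow hdim.le hH.1 hL n, SurfPairing.pair_comm]
  have hPW : SurfPairing.pair k (PicF.cl P) (PicF.cl W) = n * b := by
    rw [SurfPairing.pair_comm, SurfAmple.pair_pow hdim.le hWi hL n, SurfPairing.pair_comm]
  have h2 : Subsingleton (Coh.HH X P 2) := hn₀ P hP (by
    rw [hPH]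
    nlinarith [Int.self_le_toNat n₀])
  have h := hRR hP
  rw [pair_pow_self hdim hH hL n, hPW] at h
  have hb := Int.self_le_toNat b
  have hc := Int.self_le_toNat (-c)
  have hn' : (n₀.toNat : ℤ) + 2 * b.toNat + 4 * (-c).toNat + 1 ≤ n := by exact_mod_cast hn
  have he := Euler.euler_eq_sum k P 3 fun i hi =>
    Snapper.subsingleton_HH_of_dim_le (d := 2) hdim.le (AmpleVan.isCoh_invertible hP).1 (by omega)
  haveI := h2
  simp only [Finset.sum_range_succ, Finset.sum_range_zero,
    Module.finrank_zero_of_subsingleton (R := k) (M := Coh.HH X P 2)] at he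
  push_cast at he
  ring_nf at he
  let a := SurfPairing.pair k (PicF.cl L) (PicF.cl L)
  have ha1 : 1 ≤ a := hLL
  have hna : (n : ℤ) ≤ n * a := le_mul_of_one_le_right (by positivity) ha1
  have hd : 1 + 4 * ((-c).toNat : ℤ) ≤ n * a - 2 * b := by linarith
  have hn1 : (1 : ℤ) ≤ n := by linarith
  have hd2 : n * a - 2 * b ≤ n * (n * a - 2 * b) := le_mul_of_one_le_left (by linarith) hn1
  have key : (n : ℤ) * (n * a) < 4 * Module.finrank k (Coh.HH X P 0) := by
    linarith [Int.natCast_nonneg (Module.finrank k (Coh.HH X P 1))]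
  have key' : ((n : ℤ) : ℚ) * ((n : ℤ) * (a : ℚ)) < 4 * (Module.finrank k (Coh.HH X P 0) : ℚ) := by
    exact_mod_cast key
  push_cast at key'
  rw [pow_two]
  linarith

include hdim hH in
/-- A class with effective multiples and positive square has positive degree. -/
theorem pair_pos_of_eventually {L : X.Modules} (hL : PicF.IsInvertible L)
    (hLL : 0 < SurfPairing.pair k (PicF.cl L) (PicF.cl L)) {n : ℕ} (hn : 0 < n)
    (h0 : Nontrivial (Coh.HH X (CohB1.tensorPow L n) 0)) :
    0 < SurfPairing.pair k (PicF.cl L) (PicF.cl H) := by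
  have h := pair_pos_of_effective (k := k) hdim hH (PicMul.isInvertible_tensorPow hL n)
    (by rw [pair_pow_self hdim hH hL n]; positivity) h0
  rw [SurfPairing.pair_comm, SurfAmple.pair_pow hdim.le hH.1 hL n, SurfPairing.pair_comm] at h
  exact pos_of_mul_pos_right h (by positivity)

include hdim hH in
/-- The Hodge index theorem. -/
theorem hodge_index {L : X.Modules} (hL : PicF.IsInvertible L)
    (horth : SurfPairing.pair k (PicF.cl L) (PicF.cl H) = 0) :
    SurfPairing.pair k (PicF.cl L) (PicF.cl L) ≤ 0 := by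
  by_contra hcon
  push_neg at hcon
  haveI : CompactSpace X := hH.2.1
  haveI : X.IsSeparated := ⟨by
    rw [← Limits.terminal.comp_from (X ↘ Spec (CommRingCat.of k))]
    infer_instance⟩
  obtain ⟨n₀, hn₀, hA⟩ := AmpleX.eventually_ample_tensor hH hL
  obtain ⟨hA, -⟩ := hA n₀ le_rfl
  have hP : PicF.IsInvertible (CohB1.tensorPow H n₀) := PicMul.isInvertible_tensorPow hH.1 n₀
  have hLA : 0 < SurfPairing.pair k (PicF.cl L) (PicF.cl (CohB1.tensorMod (CohB1.tensorPow H n₀) L)) := by
    rw [PicMul.cl_tensor, SurfPairing.pair_mul k hdim.le hL hP hL, SurfAmple.pair_pow hdim.le hL hH.1 n₀, horth]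
    simpa using hcon
  obtain ⟨N, hN⟩ := eventually_effective (k := k) hdim hA hL hcon hLA
  have h := pair_pos_of_eventually (k := k) hdim hH hL hcon (n := N + 1) (Nat.succ_pos N) (hN _ (Nat.le_succ N))
  omega

include hdim hH in
/-- The Hodge index theorem, relative to a class of positive square. -/
theorem hodge_index' {L M : X.Modules} (hL : PicF.IsInvertible L) (hM : PicF.IsInvertible M)
    (hpos : 0 < SurfPairing.pair k (PicF.cl L) (PicF.cl L))
    (horth : SurfPairing.pair k (PicF.cl L) (PicF.cl M) = 0) :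
    SurfPairing.pair k (PicF.cl M) (PicF.cl M) ≤ 0 := by
  by_contra hcon
  push_neg at hcon
  obtain ⟨L', hL', eL⟩ := PicInv.exists_inverse hL
  obtain ⟨M', hM', eM⟩ := PicInv.exists_inverse hM
  have hLi : PicF.cl L * PicF.cl L' = 1 := by
    rw [← PicMul.cl_tensor, PicMul.one_def]
    exact PicMul.cl_eq_iff.2 eL
  have hMi : PicF.cl M * PicF.cl M' = 1 := by
    rw [← PicMul.cl_tensor, PicMul.one_def]
    exact PicMul.cl_eq_iff.2 eM
  let a := SurfPairing.pair k (PicF.cl L) (PicF.cl H)
  let b := SurfPairing.pair k (PicF.cl M) (PicF.cl H)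
  have ha : a ≠ 0 := fun h => absurd hpos (not_lt.2 (hodge_index hdim hH hL h))
  have hb : b ≠ 0 := fun h => absurd hcon (not_lt.2 (hodge_index hdim hH hM h))
  have sgn : ∀ {A A' : X.Modules}, PicF.IsInvertible A → PicF.IsInvertible A' → PicF.cl A * PicF.cl A' = 1 →
      SurfPairing.pair k (PicF.cl A) (PicF.cl H) ≠ 0 → ∃ B : X.Modules, PicF.IsInvertible B ∧
        (B = A ∨ B = A') ∧ 0 < SurfPairing.pair k (PicF.cl B) (PicF.cl H) := by
    intro A A' hA hA' h h0
    rcases lt_or_gt_of_ne h0 with hlt | hgt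
    · refine ⟨A', hA', Or.inr rfl, ?_⟩
      rw [SurfPairing.pair_comm, SurfPairing.pair_inv k hdim.le hH.1 hA hA' h, SurfPairing.pair_comm]
      omega
    · exact ⟨A, hA, Or.inl rfl, hgt⟩
  obtain ⟨A, hA, hAc, hAH⟩ := sgn hL hL' hLi ha
  obtain ⟨B, hB, hBc, hBH⟩ := sgn hM' hM (by rw [mul_comm, hMi]) (by
    rw [SurfPairing.pair_comm, SurfPairing.pair_inv k hdim.le hH.1 hM hM' hMi, SurfPairing.pair_comm]
    exact neg_ne_zero.2 hb)
  have hAA : SurfPairing.pair k (PicF.cl A) (PicF.cl A) = SurfPairing.pair k (PicF.cl L) (PicF.cl L) := by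
    rcases hAc with rfl | rfl
    · rfl
    · rw [SurfPairing.pair_inv k hdim.le hL' hL hL' hLi, SurfPairing.pair_comm,
        SurfPairing.pair_inv k hdim.le hL hL hL' hLi, neg_neg]
  have hBB : SurfPairing.pair k (PicF.cl B) (PicF.cl B) = SurfPairing.pair k (PicF.cl M) (PicF.cl M) := by
    rcases hBc with rfl | rfl
    · rw [SurfPairing.pair_inv k hdim.le hM' hM hM' hMi, SurfPairing.pair_comm,
        SurfPairing.pair_inv k hdim.le hM hM hM' hMi, neg_neg]
    · rfl
  have hAB : SurfPairing.pair k (PicF.cl A) (PicF.cl B) = 0 := by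
    have hLM' : SurfPairing.pair k (PicF.cl L) (PicF.cl M') = 0 := by
      rw [SurfPairing.pair_inv k hdim.le hL hM hM' hMi, horth, neg_zero]
    rcases hAc with rfl | rfl <;> rcases hBc with rfl | rfl
    · exact hLM'
    · exact horth
    · rw [SurfPairing.pair_comm, SurfPairing.pair_inv k hdim.le hM' hL hL' hLi, SurfPairing.pair_comm, hLM', neg_zero]
    · rw [SurfPairing.pair_comm, SurfPairing.pair_inv k hdim.le hM hL hL' hLi, SurfPairing.pair_comm, horth, neg_zero]
  obtain ⟨B', hB', eB⟩ := PicInv.exists_inverse hB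
  have hBi : PicF.cl B * PicF.cl B' = 1 := by
    rw [← PicMul.cl_tensor, PicMul.one_def]
    exact PicMul.cl_eq_iff.2 eB
  let p := (SurfPairing.pair k (PicF.cl B) (PicF.cl H)).toNat
  let q := (SurfPairing.pair k (PicF.cl A) (PicF.cl H)).toNat
  let P := CohB1.tensorPow A p
  let Q := CohB1.tensorPow B' q
  have hP : PicF.IsInvertible P := PicMul.isInvertible_tensorPow hA p
  have hQ : PicF.IsInvertible Q := PicMul.isInvertible_tensorPow hB' q
  have hp : (p : ℤ) = SurfPairing.pair k (PicF.cl B) (PicF.cl H) := Int.toNat_of_nonneg hBH.le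
  have hq : (q : ℤ) = SurfPairing.pair k (PicF.cl A) (PicF.cl H) := Int.toNat_of_nonneg hAH.le
  have hPQ : PicF.IsInvertible (CohB1.tensorMod P Q) := PicMul.isInvertible_tensor hP hQ
  have hB'H : SurfPairing.pair k (PicF.cl H) (PicF.cl B') = -SurfPairing.pair k (PicF.cl B) (PicF.cl H) := by
    rw [SurfPairing.pair_inv k hdim.le hH.1 hB hB' hBi, SurfPairing.pair_comm]
  have horth' : SurfPairing.pair k (PicF.cl (CohB1.tensorMod P Q)) (PicF.cl H) = 0 := by
    rw [SurfPairing.pair_comm, PicMul.cl_tensor, SurfPairing.pair_mul k hdim.le hH.1 hP hQ,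
      SurfAmple.pair_pow hdim.le hH.1 hA p, SurfAmple.pair_pow hdim.le hH.1 hB' q, hB'H,
      SurfPairing.pair_comm k (PicF.cl H) (PicF.cl A), hp, hq]
    ring
  have hsq := hodge_index hdim hH hPQ horth'
  have hPQ0 : SurfPairing.pair k (PicF.cl P) (PicF.cl Q) = 0 := by
    rw [SurfAmple.pair_pow hdim.le hP hB' q, SurfPairing.pair_comm, SurfAmple.pair_pow hdim.le hB' hA p,
      SurfPairing.pair_comm, SurfPairing.pair_inv k hdim.le hA hB hB' hBi, hAB]
    ring
  have hPP : SurfPairing.pair k (PicF.cl P) (PicF.cl P) = p * (p * SurfPairing.pair k (PicF.cl L) (PicF.cl L)) := by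
    rw [pair_pow_self hdim hH hA p, hAA]
  have hQQ : SurfPairing.pair k (PicF.cl Q) (PicF.cl Q) = q * (q * SurfPairing.pair k (PicF.cl M) (PicF.cl M)) := by
    rw [pair_pow_self hdim hH hB' q, SurfPairing.pair_inv k hdim.le hB' hB hB' hBi, SurfPairing.pair_comm,
      SurfPairing.pair_inv k hdim.le hB hB hB' hBi, hBB, neg_neg]
  rw [PicMul.cl_tensor, SurfPairing.pair_comm, ← PicMul.cl_tensor,
    show PicF.cl (CohB1.tensorMod P Q) = PicF.cl P * PicF.cl Q from PicMul.cl_tensor P Q] at hsq
  have e1 := SurfPairing.pair_mul k hdim.le hPQ hP hQ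
  have e2 := SurfPairing.pair_mul k hdim.le hP hP hQ
  have e3 := SurfPairing.pair_mul k hdim.le hQ hP hQ
  rw [PicMul.cl_tensor] at e1
  rw [e1, SurfPairing.pair_comm k (PicF.cl P * PicF.cl Q) (PicF.cl P), SurfPairing.pair_comm k (PicF.cl P * PicF.cl Q) (PicF.cl Q),
    e2, e3, SurfPairing.pair_comm k (PicF.cl Q) (PicF.cl P), hPQ0, hPP, hQQ] at hsq
  have hppos : (0 : ℤ) < p := by omega
  have hqpos : (0 : ℤ) < q := by omega
  nlinarith [mul_pos hppos (mul_pos hppos hpos), mul_pos hqpos (mul_pos hqpos hcon)]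

end Groth.Agent.SurfHodge
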