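import Groth.Agent.Nakai.SurfProj
import Groth.Agent.Lib.SurfHodge
import Groth.Agent.Lib.SurfNegDef
import Groth.Agent.Lib.SmoothDuality
import Groth.Agent.GeomField.GlobalFunctions

/-!
Adjunction on smooth proper surfaces (no projectivity hypothesis) and strict Hodge index for curves.
-/

set_option autoImplicit false
set_option linter.style.haveILetI false
set_option linter.unusedSectionVars false
set_option backward.isDefEq.respectTransparency false
set_option backward.isDefEq.respectTransparency.types false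
set_option maxHeartbeats 1000000

universe u

open CategoryTheory CategoryTheory.Limits AlgebraicGeometry TopologicalSpace Opposite
open Groth.Agent.H23

noncomputable section

namespace Groth.Agent.SurfAdj

attribute [local instance] PicMul.clMonoid GeomField.globalAlgebra

/-- Global functions of a proper integral scheme over an algebraically closed field are constants. -/
theorem finrank_h0 (k : Type u) [Field k] [IsAlgClosed k] (X : Scheme.{u}) [X.Over (Spec (CommRingCat.of k))]
    [IsProper (X ↘ Spec (CommRingCat.of k))] [IsIntegral X] :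
    Module.finrank k (Coh.HH X (Coh.structureModule X) 0) = 1 := by
  rw [GeomField.finrank_HH_zero]
  haveI := GeomField.algebraMap_integral k X
  haveI : Nonempty (⊤ : X.Opens) := ⟨⟨Classical.arbitrary X, trivial⟩⟩
  haveI : IsDomain Γ(X, ⊤) := inferInstance
  exact (Module.finrank_eq_card_basis (ι := Fin 1) ((Module.Basis.singleton (Fin 1) k).map
    (LinearEquiv.ofBijective (Algebra.linearMap k Γ(X, ⊤))
      (IsAlgClosed.algebraMap_bijective_of_isIntegral (k := k) (K := Γ(X, ⊤)))))).trans (Fintype.card_fin 1)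

/-- `χ(O_C) = 1 - h¹` for a proper integral curve over an algebraically closed field. -/
theorem euler_curve_eq (k : Type u) [Field k] [IsAlgClosed k] (X : Scheme.{u}) [X.Over (Spec (CommRingCat.of k))]
    [IsProper (X ↘ Spec (CommRingCat.of k))] [IsIntegral X] (hdim : topologicalKrullDim X ≤ 1) :
    Curv2.euler k X (Coh.structureModule X) =
      1 - (Module.finrank k (Coh.HH X (Coh.structureModule X) 1) : ℤ) := by
  rw [CurveRR.euler_eq_h0_sub_h1 k hdim QCoh.isQCoh_structureModule, finrank_h0]
  simp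

variable (k : Type u) [Field k] {X : Scheme.{u}} [X.Over (Spec (CommRingCat.of k))]
  [IsProper (X ↘ Spec (CommRingCat.of k))] [Smooth (X ↘ Spec (CommRingCat.of k))] [IsIntegral X]

include k in
theorem exists_ample (hdim : topologicalKrullDim X = 2) : ∃ H : X.Modules, CohB1.IsAmple H :=
  Nakai.exists_isAmple_of_regular k hdim (SurfHodge.regular k)

/-- The canonical module is invertible. -/
theorem isInvertible_W (hdim : topologicalKrullDim X = 2) {W : X.Modules}
    (hW : ExtPow.IsExtPow 2 (Omega.sheaf (X ↘ Spec (CommRingCat.of k))) W) : PicF.IsInvertible W := by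
  haveI := CurveFin.smoothOfRelativeDimension_of_dim (f := X ↘ Spec (CommRingCat.of k)) (d := 2) hdim
  exact SmoothTop.isInvertible_top (X ↘ Spec (CommRingCat.of k)) 2 hW

/-- Riemann-Roch. -/
theorem rr (hdim : topologicalKrullDim X = 2) {W : X.Modules}
    (hW : ExtPow.IsExtPow 2 (Omega.sheaf (X ↘ Spec (CommRingCat.of k))) W) {L : X.Modules}
    (hL : PicF.IsInvertible L) :
    2 * Curv2.euler k X L = SurfPairing.pair k (PicF.cl L) (PicF.cl L) -
      SurfPairing.pair k (PicF.cl L) (PicF.cl W) + 2 * Curv2.euler k X (Coh.structureModule X) := by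
  obtain ⟨H, hH⟩ := exists_ample k hdim
  haveI := CurveFin.smoothOfRelativeDimension_of_dim (f := X ↘ Spec (CommRingCat.of k)) (d := 2) hdim
  obtain ⟨n, ι, hi, hι⟩ := AmpleEmbed.exists_closedImmersion (X ↘ Spec (CommRingCat.of k)) hH
  haveI := hi
  rw [SmoothDuality.riemann_roch ι hι hW hL, SurfPairing.intNum_eq_pair k hdim.le hL hL,
    SurfPairing.intNum_eq_pair k hdim.le hL (isInvertible_W k hdim hW)]

/-- Adjunction for the structure sheaf of an integral curve. -/
theorem adjunction (hdim : topologicalKrullDim X = 2) {W : X.Modules}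
    (hW : ExtPow.IsExtPow 2 (Omega.sheaf (X ↘ Spec (CommRingCat.of k))) W) {C : X.IdealSheafData}
    [IsIntegral C.subscheme] (hC : topologicalKrullDim (C.support : Set X) = 1) :
    letI : C.subscheme.Over (Spec (CommRingCat.of k)) := ⟨C.subschemeι ≫ (X ↘ (Spec (CommRingCat.of k)))⟩
    PicF.IsInvertible (ClSub.idealMod C) ∧
    2 * Curv2.euler k C.subscheme (Coh.structureModule C.subscheme) =
      SurfPairing.pair k (PicF.cl (ClSub.idealMod C)) (PicF.cl W) -
        SurfPairing.pair k (PicF.cl (ClSub.idealMod C)) (PicF.cl (ClSub.idealMod C)) := by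
  let i := C.subschemeι
  letI : C.subscheme.Over (Spec (CommRingCat.of k)) := ⟨i ≫ (X ↘ (Spec (CommRingCat.of k)))⟩
  have hd : topologicalKrullDim C.subscheme = 1 := by
    rw [IsHomeomorph.topologicalKrullDim_eq _
      ((i.isEmbedding.toHomeomorph).trans (Homeomorph.setCongr C.range_subschemeι)).isHomeomorph, hC]
  have hI := CurveOnSurf.isInvertible_ideal (X ↘ Spec (CommRingCat.of k)) hdim (SurfHodge.regular k) i hd
  rw [Scheme.IdealSheafData.ker_subschemeι] at hI
  refine ⟨hI, ?_⟩
  have h := CurveOnSurf.euler_ideal (k := k) i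
  rw [Scheme.IdealSheafData.ker_subschemeι] at h
  have h2 := rr k hdim hW hI
  linarith

/-- Integer multiples of classes, tested by the pairing. -/
theorem exists_smul (hdim : topologicalKrullDim X ≤ 2) {A : X.Modules} (hA : PicF.IsInvertible A) (c : ℤ) :
    ∃ (V : X.Modules) (_ : PicF.IsInvertible V), ∀ {B : X.Modules}, PicF.IsInvertible B →
      SurfPairing.pair k (PicF.cl B) (PicF.cl V) = c * SurfPairing.pair k (PicF.cl B) (PicF.cl A) := by
  obtain ⟨A', hA', e⟩ := PicInv.exists_inverse hA
  have h : PicF.cl A * PicF.cl A' = 1 := by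
    rw [← PicMul.cl_tensor, PicMul.one_def]
    exact PicMul.cl_eq_iff.2 e
  obtain ⟨n, rfl | rfl⟩ := Int.eq_nat_or_neg c
  · exact ⟨_, PicMul.isInvertible_tensorPow hA n, fun hB => SurfAmple.pair_pow hdim hB hA n⟩
  · refine ⟨_, PicMul.isInvertible_tensorPow hA' n, fun {B} hB => ?_⟩
    rw [SurfAmple.pair_pow hdim hB hA' n, SurfPairing.pair_inv k hdim hB hA hA' h]
    ring

/-- A class of zero square orthogonal to a positive one has zero degree. -/
theorem pair_ample_eq_zero (hdim : topologicalKrullDim X = 2) {H W N : X.Modules} (hH : CohB1.IsAmple H)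
    (hWi : PicF.IsInvertible W) (hN : PicF.IsInvertible N)
    (hWW : 0 < SurfPairing.pair k (PicF.cl W) (PicF.cl W))
    (hWN : SurfPairing.pair k (PicF.cl W) (PicF.cl N) = 0)
    (hNN : SurfPairing.pair k (PicF.cl N) (PicF.cl N) = 0) :
    SurfPairing.pair k (PicF.cl N) (PicF.cl H) = 0 := by
  by_contra hne
  set a := SurfPairing.pair k (PicF.cl W) (PicF.cl W)
  set c := -SurfPairing.pair k (PicF.cl W) (PicF.cl H) with hc
  set q := a * SurfPairing.pair k (PicF.cl H) (PicF.cl H) + c * SurfPairing.pair k (PicF.cl H) (PicF.cl W) with hq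
  set d := SurfPairing.pair k (PicF.cl N) (PicF.cl H) with hd
  obtain ⟨N₁, hN₁, e₁⟩ := exists_smul k hdim.le hN (d * (q.natAbs + 1))
  obtain ⟨H₁, hH₁, e₂⟩ := exists_smul k hdim.le hH.1 a
  obtain ⟨W₁, hW₁, e₃⟩ := exists_smul k hdim.le hWi c
  have hMi := PicMul.isInvertible_tensor hN₁ (PicMul.isInvertible_tensor hH₁ hW₁)
  have hM : ∀ {B : X.Modules}, PicF.IsInvertible B →
      SurfPairing.pair k (PicF.cl B) (PicF.cl (CohB1.tensorMod N₁ (CohB1.tensorMod H₁ W₁))) =
        d * (q.natAbs + 1) * SurfPairing.pair k (PicF.cl B) (PicF.cl N) +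
          (a * SurfPairing.pair k (PicF.cl B) (PicF.cl H) + c * SurfPairing.pair k (PicF.cl B) (PicF.cl W)) := fun hB => by
    rw [PicMul.cl_tensor, SurfPairing.pair_mul k hdim.le hB hN₁ (PicMul.isInvertible_tensor hH₁ hW₁),
      PicMul.cl_tensor, SurfPairing.pair_mul k hdim.le hB hH₁ hW₁, e₁ hB, e₂ hB, e₃ hB]
  set M := CohB1.tensorMod N₁ (CohB1.tensorMod H₁ W₁)
  have horth : SurfPairing.pair k (PicF.cl W) (PicF.cl M) = 0 := by
    rw [hM hWi, hWN, hc]
    ring
  have hle := SurfHodge.hodge_index' (k := k) hdim hH hWi hMi hWW horth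
  rw [hM hMi] at hle
  rw [SurfPairing.pair_comm k (PicF.cl M) (PicF.cl N), hM hN, SurfPairing.pair_comm k (PicF.cl M) (PicF.cl H), hM hH.1,
    SurfPairing.pair_comm k (PicF.cl M) (PicF.cl W), horth, hNN, SurfPairing.pair_comm k (PicF.cl N) (PicF.cl W), hWN,
    SurfPairing.pair_comm k (PicF.cl H) (PicF.cl N), ← hd] at hle
  have h1 : 1 ≤ d * d := by
    rcases lt_or_gt_of_ne hne with h | h <;> nlinarith
  have h2 : 0 < 2 * (d * d) * (q.natAbs + 1) + q := by
    have h3 : -(q.natAbs : ℤ) ≤ q := by omega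
    nlinarith [Int.natCast_nonneg q.natAbs]
  nlinarith [mul_pos hWW h2]

end Groth.Agent.SurfAdj
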