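import Groth.Agent.Lib.CurveTwist
import Groth.Agent.InvX.GenEpi
import Groth.Agent.QCoh.DevissageSum

/-!
A bundle whose twists by closed points have no first cohomology is globally generated.
-/

set_option linter.style.haveILetI false
set_option linter.unusedSectionVars false
set_option backward.isDefEq.respectTransparency false
set_option backward.isDefEq.respectTransparency.types false
set_option synthInstance.maxHeartbeats 100000

universe u

open CategoryTheory CategoryTheory.Limits AlgebraicGeometry TopologicalSpace Opposite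
open Groth.Agent.PnCoh.Finite (mapLin)

namespace Groth.Agent.CurveGenerated

open Groth.Agent.CurveBundle Groth.Agent.CurveSlope Groth.Agent.CurveStable Groth.Agent.CurvePoint

variable {X : Scheme.{u}} (k : Type u) [Field k] [X.Over (Spec (CommRingCat.of k))] [IsIntegral X]
  [IsProper (X ↘ Spec (CommRingCat.of k))] [Smooth (X ↘ Spec (CommRingCat.of k))] [IsAlgClosed k]

/-- Sections of a quotient of a bundle of rank `r` onto an `r`-dimensional module killed by the
maximal ideal detect congruence modulo the maximal ideal. -/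
theorem mem_smul_of_map_eq_zero {E C : X.Modules} {r : ℕ} (p : X) (hp : IsClosed ({p} : Set X))
    (b : Module.Basis (Fin r) (X.presheaf.stalk p) (E.presheaf.stalk p))
    (q : E.presheaf.stalk p →ₗ[X.presheaf.stalk p] C.presheaf.stalk p) (hq : Function.Surjective q)
    (hkill : ∀ a ∈ IsLocalRing.maximalIdeal (X.presheaf.stalk p), ∀ w : C.presheaf.stalk p, a • w = 0)
    (hfin : letI := CurveCohLib.stalkModuleK k C p; Module.finrank k (C.presheaf.stalk p) = r)
    (v : E.presheaf.stalk p) (hv : q v = 0) :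
    v ∈ IsLocalRing.maximalIdeal (X.presheaf.stalk p) •
      (⊤ : Submodule (X.presheaf.stalk p) (E.presheaf.stalk p)) := by
  classical
  letI := CurveCohLib.stalkModuleK k C p
  let L : (Fin r → k) →ₗ[k] C.presheaf.stalk p :=
    { toFun := fun c => ∑ i, Curv2.stalkMap k X p (c i) • q (b i)
      map_add' := fun c d => by
        simp only [Pi.add_apply, map_add, add_smul, Finset.sum_add_distrib]
      map_smul' := fun a c => by
        show _ = Curv2.stalkMap k X p a • ∑ i, Curv2.stalkMap k X p (c i) • q (b i)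
        rw [Finset.smul_sum]
        simp only [Pi.smul_apply, smul_eq_mul, map_mul, mul_smul] }
  have key : ∀ (w : E.presheaf.stalk p) (c : Fin r → k),
      (∀ i, b.repr w i - Curv2.stalkMap k X p (c i) ∈ IsLocalRing.maximalIdeal (X.presheaf.stalk p)) →
        q w = L c := fun w c hc => by
    conv_lhs => rw [← b.sum_repr w]
    rw [map_sum]
    refine Finset.sum_congr rfl fun i _ => ?_
    have h0 := hkill _ (hc i) (q (b i))
    rw [sub_smul, sub_eq_zero] at h0
    rw [map_smul]
    exact h0
  choose c hc using fun (w : E.presheaf.stalk p) (i : Fin r) =>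
    CurveSection.exists_stalkMap_sub_mem k hp (b.repr w i)
  have hLs : Function.Surjective L := fun y => by
    obtain ⟨w, rfl⟩ := hq y
    exact ⟨c w, (key w _ (hc w)).symm⟩
  haveI : Module.Finite k (C.presheaf.stalk p) := Module.Finite.of_surjective L hLs
  have hLi : Function.Injective L :=
    (LinearMap.injective_iff_surjective_of_finrank_eq_finrank (by rw [Module.finrank_fin_fun, hfin])).2 hLs
  have h0 : c v = 0 := hLi (((key v _ (hc v)).symm.trans hv).trans (map_zero L).symm)
  rw [← b.sum_repr v]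
  refine Submodule.sum_mem _ fun i _ => Submodule.smul_mem_smul ?_ Submodule.mem_top
  have := hc v i
  rwa [h0, Pi.zero_apply, map_zero, sub_zero] at this

include k in
/-- Fibres are generated by global sections when the twist by the point has no `H¹`. -/
theorem exists_section_mod (p : X) (hp : IsClosed ({p} : Set X)) {E : X.Modules} {r : ℕ}
    (hE : FlatMod.IsFinLocFreeOfRank r E)
    (h1 : Subsingleton (Coh.HH X ((DCoh.tensorBi.obj E).obj (ptMod p hp)) 1))
    (v : E.presheaf.stalk p) :
    ∃ t : Coh.HH X E 0,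
      v - E.presheaf.germ ⊤ p trivial (Sheaf.H.equiv₀ (Coh.toAb E) isTerminalTop t : Γ(E, ⊤)) ∈
        IsLocalRing.maximalIdeal (X.presheaf.stalk p) •
          (⊤ : Submodule (X.presheaf.stalk p) (E.presheaf.stalk p)) := by
  classical
  haveI := CurveCohLib.isNoetherian_of_proper (k := k) (X := X)
  have hEf := isFinLocFree_of_rank hE
  let C := (DCoh.tensorBi.obj E).obj (ClSub.quotMod (ptIdeal p hp))
  let g : E ⟶ C := (KFlatLib.tensorUnitIso E).inv ≫
    (DCoh.tensorBi.obj E).map (ClSub.toSubscheme (ptIdeal p hp))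
  have hT := CurvePoint.shortExact_of_iso_mid _ _ _
    (CurveTensor.shortExact_tensor hEf _ _ _ (shortExact_pt p hp)) (KFlatLib.tensorUnitIso E)
  have hC : Coh.IsCoh C := CurveTensor.isCoh_tensor hEf (isCoh_quot p hp k)
  have hsupp : CohB1.support C ⊆ {p} :=
    (CurveTensor.support_tensor_subset (E := E)).trans (support_quot_subset p hp)
  have hcl : ∀ x ∈ CohB1.support C, IsClosed ({x} : Set X) := fun x hx =>
    Set.mem_singleton_iff.1 (hsupp hx) ▸ hp
  obtain ⟨e, he⟩ := CurveCohLib.exists_h0Equiv (k := k) hC hcl {p} (by simpa using hsupp)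
  have hfin : letI := CurveCohLib.stalkModuleK k C p; Module.finrank k (C.presheaf.stalk p) = r := by
    letI := CurveCohLib.stalkModuleK k C p
    have h := CurveTensor.euler_tensor_torsion k hE (isCoh_quot p hp k) (closed_support p hp)
    obtain ⟨h', -⟩ := CurveCohLib.euler_eq_sum_stalks (k := k) hC hcl {p} (by simpa using hsupp)
    rw [euler_quot p hp k, h', Finset.sum_singleton] at h
    omega
  let F := DerSch.stalkFunctor X p
  haveI : Epi g := hT.epi_g
  haveI : Epi (F.map g) := inferInstance
  let q : E.presheaf.stalk p →ₗ[X.presheaf.stalk p] C.presheaf.stalk p := (F.map g).hom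
  have hq : Function.Surjective q := (ModuleCat.epi_iff_surjective (F.map g)).1 inferInstance
  obtain ⟨b⟩ := CurveTensor.exists_basis_stalk hE p
  let y : Coh.HH X C 0 := e.symm (Pi.single (⟨p, Finset.mem_singleton_self p⟩ : ({p} : Finset X)) (q v))
  haveI := h1
  obtain ⟨t, ht⟩ : ∃ t, mapLin k g 0 t = y := by
    have := (CurveCohLib.ker_deltaLin k hT 0).le (LinearMap.mem_ker.2 (Subsingleton.elim _ 0) : y ∈ _)
    exact this
  refine ⟨t, mem_smul_of_map_eq_zero k p hp b q hq (fun a ha w => smul_tensor_eq_zero p hp ha w) hfin _ ?_⟩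
  rw [map_sub, sub_eq_zero]
  have h2 := congrArg (fun z => e z ⟨p, Finset.mem_singleton_self p⟩) ht
  simp only [y, LinearEquiv.apply_symm_apply, Pi.single_eq_same] at h2
  rw [he] at h2
  refine h2.symm.trans ?_
  refine Eq.trans ?_ (TopCat.Presheaf.stalkFunctor_map_germ_apply ⊤ p trivial
    ((Scheme.Modules.toPresheaf X).map g) _).symm
  refine congrArg (C.presheaf.germ ⊤ p trivial) ?_
  exact (Sheaf.H.equiv₀_naturality isTerminalTop ((QCoh.toAbFunctor X).map g) t).symm

include k in
/-- Global generation from vanishing at every closed point. -/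
theorem isGloballyGenerated_of_h1 {E : X.Modules} {r : ℕ}
    (hE : FlatMod.IsFinLocFreeOfRank r E)
    (h1 : ∀ (p : X) (hp : IsClosed ({p} : Set X)),
      Subsingleton (Coh.HH X ((DCoh.tensorBi.obj E).obj (ptMod p hp)) 1)) :
    Curv2.IsGloballyGenerated E := by
  classical
  haveI := CurveCohLib.isNoetherian_of_proper (k := k) (X := X)
  have hEc := coh_of_free k (isFinLocFree_of_rank hE)
  haveI := S0002.result k X E hEc 0
  let β := Module.finBasis k (Coh.HH X E 0)
  let ι := ULift.{u} (Fin (Module.finrank k (Coh.HH X E 0)))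
  let φ : (∐ fun _ : ι => Coh.structureModule X) ⟶ E :=
    Sigma.desc fun i => CurveSpecial.homOfClass (β i.down)
  refine ⟨ι, φ, ?_⟩
  have hsrc : Coh.IsCoh (⨁ fun _ : ι => Coh.structureModule X) :=
    QCoh.isCoh_biproduct _ fun _ => QCoh.isCoh_structureModule'
  have hsq : Coh.IsQCoh (∐ fun _ : ι => Coh.structureModule X) :=
    (QCoh.isQCoh_iff_iso (biproduct.isoCoproduct fun _ : ι => Coh.structureModule X)).1 hsrc.1
  have hQ : Coh.IsCoh (cokernel φ) := QCoh.isCoh_cokernel hsq hEc φ
  refine Preadditive.epi_of_isZero_cokernel φ (CurveCohLib.isZero_of_subsingleton_stalks fun x => ?_)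
  by_contra hne
  obtain ⟨p, hpZ, hp⟩ := IsClosed.exists_closed_singleton
    (QCoh.isClosed_support_of_isFT hQ.1 hQ.2) ⟨x, hne⟩
  let F := DerSch.stalkFunctor X p
  let N : Submodule (X.presheaf.stalk p) (E.presheaf.stalk p) := LinearMap.range (F.map φ).hom
  have hgen : ∀ i, E.presheaf.germ ⊤ p trivial
      (Sheaf.H.equiv₀ (Coh.toAb E) isTerminalTop (β i) : Γ(E, ⊤)) ∈ N := fun i => by
    refine ⟨F.map (Sigma.ι (fun _ : ι => Coh.structureModule X) ⟨i⟩)
      ((Coh.structureModule X).presheaf.germ ⊤ p trivial (H23.Frame.one ⊤)), ?_⟩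
    show (F.map φ) (F.map _ _) = _
    rw [← ConcreteCategory.comp_apply, ← Functor.map_comp, Sigma.ι_desc]
    refine (TopCat.Presheaf.stalkFunctor_map_germ_apply ⊤ p trivial
      ((Scheme.Modules.toPresheaf X).map (CurveSpecial.homOfClass (β i))) _).trans ?_
    exact congrArg (E.presheaf.germ ⊤ p trivial) (CurveSpecial.homOfClass_one (β i))
  have hall : ∀ t : Coh.HH X E 0, E.presheaf.germ ⊤ p trivial
      (Sheaf.H.equiv₀ (Coh.toAb E) isTerminalTop t : Γ(E, ⊤)) ∈ N := fun t => by
    rw [← β.sum_repr t]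
    refine Finset.sum_induction _ (fun t : Coh.HH X E 0 => E.presheaf.germ ⊤ p trivial
      (Sheaf.H.equiv₀ (Coh.toAb E) isTerminalTop t : Γ(E, ⊤)) ∈ N)
      (fun a b ha hb => ?_) ?_ fun i _ => ?_
    · rw [show E.presheaf.germ ⊤ p trivial (Sheaf.H.equiv₀ (Coh.toAb E) isTerminalTop (a + b) : Γ(E, ⊤)) =
        E.presheaf.germ ⊤ p trivial (Sheaf.H.equiv₀ (Coh.toAb E) isTerminalTop a : Γ(E, ⊤)) +
          E.presheaf.germ ⊤ p trivial (Sheaf.H.equiv₀ (Coh.toAb E) isTerminalTop b : Γ(E, ⊤)) from
        (congrArg (E.presheaf.germ ⊤ p trivial)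
          (map_add (Sheaf.H.equiv₀ (Coh.toAb E) isTerminalTop) a b)).trans (map_add _ _ _)]
      exact N.add_mem ha hb
    · rw [show E.presheaf.germ ⊤ p trivial (Sheaf.H.equiv₀ (Coh.toAb E) isTerminalTop 0 : Γ(E, ⊤)) = 0 from
        (congrArg (E.presheaf.germ ⊤ p trivial) (map_zero (Sheaf.H.equiv₀ (Coh.toAb E) isTerminalTop))).trans
          (map_zero _)]
      exact N.zero_mem
    · rw [CurveCohLib.germ_h0Equiv_smul]
      exact N.smul_mem _ (hgen i)
  haveI : Module.Finite (X.presheaf.stalk p) (E.presheaf.stalk p) := finite_stalk_of_coh hEc p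
  have htop : (⊤ : Submodule (X.presheaf.stalk p) (E.presheaf.stalk p)) ≤ N := by
    refine Submodule.le_of_le_smul_of_le_jacobson_bot Module.Finite.fg_top
      (IsLocalRing.maximalIdeal_le_jacobson (R := X.presheaf.stalk p) ⊥) fun v _ => ?_
    obtain ⟨t, ht⟩ := exists_section_mod k p hp hE (h1 p hp) v
    exact Submodule.mem_sup.2 ⟨_, hall t, _, ht, add_sub_cancel _ _⟩
  haveI : Epi (F.map φ) := (ModuleCat.epi_iff_surjective _).2 fun v => htop (Submodule.mem_top : v ∈ _)
  exact hpZ (ModuleCat.subsingleton_of_isZero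
    ((isZero_cokernel_of_epi (F.map φ)).of_iso (PreservesCokernel.iso F φ)))

end Groth.Agent.CurveGenerated
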