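import Groth.Agent.Lib.CurveCanonical
import Groth.Agent.Lib.CurveGenerated

/-!
Vanishing for twists of bundles with bounded subsheaves, and sections of semistable bundles of
degree zero.
-/

set_option linter.style.haveILetI false
set_option linter.unusedSectionVars false
set_option backward.isDefEq.respectTransparency false
set_option backward.isDefEq.respectTransparency.types false
set_option synthInstance.maxHeartbeats 100000

universe u

open CategoryTheory CategoryTheory.Limits AlgebraicGeometry TopologicalSpace Opposite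
open Groth.Agent.PnCoh.Finite (mapLin)

namespace Groth.Agent.CurveDuality

open Groth.Agent.CurveBundle Groth.Agent.CurveSlope Groth.Agent.CurveStable Groth.Agent.CurveSpecial

variable {X : Scheme.{u}} (k : Type u) [Field k] [X.Over (Spec (CommRingCat.of k))] [IsIntegral X]
  [IsProper (X ↘ Spec (CommRingCat.of k))] [Smooth (X ↘ Spec (CommRingCat.of k))]

theorem rk_tensor {E F : X.Modules} (hE : FlatMod.IsFinLocFree E) (hF : FlatMod.IsFinLocFree F) :
    rk ((DCoh.tensorBi.obj E).obj F) = rk E * rk F := by
  haveI := QCoh.free_stalk_of_isFinLocFree hE (genericPoint X)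
  haveI := QCoh.free_stalk_of_isFinLocFree hF (genericPoint X)
  have e := (KFlatLib.stalkTensorIso (genericPoint X) E F).toLinearEquiv
  refine e.finrank_eq.symm.trans ?_
  exact Module.finrank_tensorProduct (R := X.presheaf.stalk (genericPoint X))

theorem dg_tensor_line (hdim : topologicalKrullDim X = 1) {D F : X.Modules} (hD : PicF.IsInvertible D)
    (hF : FlatMod.IsFinLocFree F) :
    rk ((DCoh.tensorBi.obj D).obj F) = rk F ∧
      dg k ((DCoh.tensorBi.obj D).obj F) = dg k F + (rk F : ℤ) * Curv2.deg k X D 1 := by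
  have hD1 := InvEnd.isFinLocFreeOfRank_one hD
  have hr : rk ((DCoh.tensorBi.obj D).obj F) = rk F := by
    rw [rk_tensor (isFinLocFree_of_rank hD1) hF, rk_eq hD1, one_mul]
  refine ⟨hr, ?_⟩
  have h := CurveTensor.euler_tensor k hdim hD1 (coh_of_free k hF)
  unfold dg
  rw [hr, h]
  push_cast
  ring

theorem finrank_h0_mid_le {S : ShortComplex X.Modules} (hS : S.ShortExact) (h2 : Coh.IsCoh S.X₂)
    (h3 : Coh.IsCoh S.X₃) :
    Module.finrank k (Coh.HH X S.X₂ 0) ≤
      Module.finrank k (Coh.HH X S.X₁ 0) + Module.finrank k (Coh.HH X S.X₃ 0) := by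
  haveI := S0002.result k X S.X₂ h2 0
  haveI := S0002.result k X S.X₃ h3 0
  have hinj : Function.Injective (mapLin k S.f 0) := CurveCohLib.mapLin_f_zero_injective k hS
  have hsum := LinearMap.finrank_range_add_finrank_ker (mapLin k S.g 0)
  rw [CurveCohLib.ker_mapLin_g k hS 0, LinearMap.finrank_range_of_inj hinj] at hsum
  have := Submodule.finrank_le (LinearMap.range (mapLin k S.g 0))
  omega

variable (hO : Module.finrank k (Coh.HH X (Coh.structureModule X) 0) = 1)
include hO

/-- Bounded subsheaves force vanishing of the first cohomology of a twist. -/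
theorem subsingleton_HH_one_twist (hdim : topologicalKrullDim X = 1) {E N : X.Modules}
    (hE : FlatMod.IsFinLocFree E) (hN : PicF.IsInvertible N)
    (h : ∀ (K : X.Modules) (i : K ⟶ E), Mono i → FlatMod.IsFinLocFree K → rk E = rk K + 1 →
      dg k K + (2 * (Curv2.genus k X : ℤ) - 2) < dg k E + Curv2.deg k X N 1) :
    Subsingleton (Coh.HH X ((DCoh.tensorBi.obj E).obj N) 1) := by
  have hNE := CurveHiggs.isFinLocFree_twist hN hE
  have hN1 := InvEnd.isFinLocFreeOfRank_one hN
  refine subsingleton_HH_one_of_quot k hO hdim hNE fun I π hπ hK hI hrk hdg => ?_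
  obtain ⟨D, hD, hdD, ⟨e⟩⟩ := exists_inverse_deg k hdim hN
  have e' : (DCoh.tensorBi.obj D).obj N ≅ Coh.structureModule X := CurveTensor.commIso D N ≪≫ e
  let ε : (DCoh.tensorBi.obj D).obj ((DCoh.tensorBi.obj E).obj N) ≅ E :=
    (DCoh.tensorBi.obj D).mapIso (CurveTensor.commIso E N) ≪≫ (CurveRR.cancelIso e').app E
  haveI : Mono ((DCoh.tensorBi.obj D).map (kernel.ι π)) :=
    (CurveTensor.shortExact_tensor (isFinLocFree_of_rank (InvEnd.isFinLocFreeOfRank_one hD)) _ _ _
      (shortExact_kernel_of_epi π)).mono_f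
  let i := (DCoh.tensorBi.obj D).map (kernel.ι π) ≫ ε.hom
  have hKf : FlatMod.IsFinLocFree ((DCoh.tensorBi.obj D).obj (kernel π)) :=
    KFlatLib.isFinLocFree_tensor (isFinLocFree_of_rank (InvEnd.isFinLocFreeOfRank_one hD)) hK
  obtain ⟨r1, d1⟩ := dg_tensor_line k hdim hD hK
  obtain ⟨r2, d2⟩ := dg_tensor_line k hdim hN hE
  have r3 := rk_congr (CurveTensor.commIso E N)
  have d3 := dg_congr k (CurveTensor.commIso E N)
  have hr : rk E = rk ((DCoh.tensorBi.obj D).obj (kernel π)) + 1 := by omega
  have hlt := h _ i inferInstance hKf hr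
  rw [d1, hdD] at hlt
  rw [d3, d2] at hdg
  have hrE : (rk E : ℤ) = (rk (kernel π) : ℤ) + 1 := by exact_mod_cast hr.trans (by rw [r1])
  rw [hrE] at hdg
  linarith

set_option maxHeartbeats 1600000 in
/-- A bundle of degree zero without subsheaves of positive degree has at most rank many sections. -/
theorem finrank_h0_le_rk (hdim : topologicalKrullDim X = 1) :
    ∀ (r : ℕ) (G : X.Modules), FlatMod.IsFinLocFree G → rk G = r → dg k G = 0 →
      (∀ (F : X.Modules) (i : F ⟶ G), Mono i → FlatMod.IsFinLocFree F → dg k F ≤ 0) →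
      Module.finrank k (Coh.HH X G 0) ≤ r := by
  haveI := CurveCohLib.isNoetherian_of_proper (k := k) (X := X)
  intro r
  induction r with
  | zero =>
    intro G hG hr _ _
    exact (CurveCohLib.finrank_HH_zero_eq_zero_of_isZero (k := k) (isZero_of_rk_zero hG hr)).le
  | succ r ih =>
    intro G hG hr hd hss
    by_cases h0 : Module.finrank k (Coh.HH X G 0) = 0
    · omega
    obtain ⟨s, hs⟩ := CurveRR.exists_hom_ne_zero k h0
    have hO1 := InvEnd.isFinLocFreeOfRank_one (CurveDeg.isInvertible_structureModule (X := X))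
    have hOf := isFinLocFree_of_rank hO1
    haveI := CurveSection.mono_of_ne_zero k hdim.le hOf (rk_eq hO1) hG s hs
    obtain ⟨M, j, hj, hM, hrM, hmax⟩ := exists_max_sub k hdim.le hG (a := 1)
      ⟨_, s, inferInstance, hOf, rk_eq hO1⟩
    haveI := hj
    have hGc := coh_of_free k hG
    have hMc := coh_of_free k hM
    have hQc : Coh.IsCoh (cokernel j) := QCoh.isCoh_cokernel hMc.1 hGc j
    have hS := shortExact_cokernel_of_mono j
    have hQ := isFinLocFree_of_max k hdim.le j (cokernel.π j) _ hS hMc hG hQc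
      (fun F g hg hF hrF => hmax F g hg hF (hrF.trans hrM))
    have hdO : dg k (Coh.structureModule X) = 0 := by
      rw [← deg_eq_dg k hO1, CurveDeg.deg_structureModule]
    have hdM : dg k M = 0 := le_antisymm (hss M j hj hM) (hdO ▸ hmax _ s inferInstance hOf (rk_eq hO1))
    have hd2 := dg_add k _ _ _ hS hMc hGc hQc
    have hr2 := rk_add_coh k _ _ _ hS hGc
    have hQ0 := ih (cokernel j) hQ (by omega) (by omega) fun F i hi hF => by
      haveI := hi
      obtain ⟨P, p, hp, hP, -, hdP⟩ := exists_preimage k hdim.le j (cokernel.π j) _ hS hMc hG hQc i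
        (coh_of_free k hF)
      have := hss P p hp hP
      omega
    have hM1 : FlatMod.IsFinLocFreeOfRank 1 M := hrM ▸ isFinLocFreeOfRank_rk hM
    have hM0 : Module.finrank k (Coh.HH X M 0) ≤ 1 := by
      by_cases hM00 : Module.finrank k (Coh.HH X M 0) = 0
      · omega
      obtain ⟨t, ht⟩ := CurveRR.exists_hom_ne_zero k hM00
      haveI := (CurveDeg.deg_le_and_isIso k hdim.le CurveDeg.isInvertible_structureModule
        (isInvertible_of_rank_one hM1) t ht).2
        (by rw [CurveDeg.deg_structureModule, deg_eq_dg k hM1, hdM])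
      rw [← (CurveCohLib.hhEquiv (k := k) (asIso t) 0).finrank_eq, hO]
    have hsum := finrank_h0_mid_le k hS hGc hQc
    dsimp only at hsum
    omega

end Groth.Agent.CurveDuality
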