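import Groth.Agent.Lib.RigDescent

/-!
Invertible modules on a scheme covered by disjoint opens.
-/

set_option autoImplicit false
set_option linter.unusedSectionVars false
set_option backward.isDefEq.respectTransparency false
set_option backward.isDefEq.respectTransparency.types false
set_option maxHeartbeats 800000

universe u

open CategoryTheory CategoryTheory.Limits AlgebraicGeometry TopologicalSpace Opposite

noncomputable section

namespace Groth.Agent.DisjointGlue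

open Groth.Agent.AModX Groth.Agent.InvX Groth.Agent.UnitDescent Groth.Agent.FramesTrans Groth.Agent.RigDatum

theorem τ_congr {X : Scheme.{u}} {L : X.Modules} (F : Frames L) {Z : Scheme.{u}} {x x' : Z ⟶ X} (e : x = x')
    (a b : X) (ha : (⊤ : Z.Opens) ≤ x ⁻¹ᵁ F.U a) (hb : (⊤ : Z.Opens) ≤ x ⁻¹ᵁ F.U b) :
    τ F x a b ha hb = τ F x' a b (e ▸ ha) (e ▸ hb) := by
  subst e; rfl

variable {Y : Scheme.{u}} {I : Type u} {C : I → Scheme.{u}} (j : ∀ i, C i ⟶ Y) [∀ i, IsOpenImmersion (j i)]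
  (hd : ∀ {Z : Scheme.{u}} {s t : I} (a : Z ⟶ C s) (b : Z ⟶ C t), a ≫ j s = b ≫ j t → s ≠ t → IsEmpty Z)
  (hcov : ∀ y, ∃ i x, j i x = y)

include hd in
/-- The point lifts through one member only. -/
theorem eq_of_mem {y : Y} {s t : I} (hs : y ∈ (j s).opensRange) (ht : y ∈ (j t).opensRange) : s = t := by
  by_contra hne
  obtain ⟨a, ha⟩ := hs
  obtain ⟨b, hb⟩ := ht
  obtain ⟨z, -, -⟩ := Scheme.Pullback.exists_preimage_pullback (f := j s) (g := j t) a b (ha.trans hb.symm)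
  exact (hd _ _ pullback.condition hne).elim z

include hd hcov in
/-- Invertible modules on disjoint opens glue. -/
theorem exists_glue (L : ∀ i, (C i).Modules) (hL : ∀ i, PicF.IsInvertible (L i)) :
    ∃ M : Y.Modules, PicF.IsInvertible M ∧ ∀ i, Nonempty ((Scheme.Modules.pullback (j i)).obj M ≅ L i) := by
  classical
  let F := fun i => (nonempty_frames (hL i)).some
  let K : Type u := Σ i, C i
  let V : K → Y.Opens := fun p => (j p.1) ''ᵁ (F p.1).U p.2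
  let lft : ∀ (i : I) (a : C i) {Z : Scheme.{u}} (x : Z ⟶ Y), (⊤ : Z.Opens) ≤ x ⁻¹ᵁ V ⟨i, a⟩ → (Z ⟶ C i) :=
    fun i a Z x hx => IsOpenImmersion.lift (j i) x (by
      rintro _ ⟨z, rfl⟩
      obtain ⟨w, -, hw⟩ := hx (x := z) trivial
      exact ⟨w, hw⟩)
  have lft_fac : ∀ (i : I) (a : C i) {Z : Scheme.{u}} (x : Z ⟶ Y) (hx : (⊤ : Z.Opens) ≤ x ⁻¹ᵁ V ⟨i, a⟩),
      lft i a x hx ≫ j i = x := fun i a Z x hx => IsOpenImmersion.lift_fac _ _ _
  have lft_mem : ∀ (i : I) (a : C i) {Z : Scheme.{u}} (x : Z ⟶ Y) (hx : (⊤ : Z.Opens) ≤ x ⁻¹ᵁ V ⟨i, a⟩)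
      (l : Z ⟶ C i), l ≫ j i = x → (⊤ : Z.Opens) ≤ l ⁻¹ᵁ (F i).U a := by
    intro i a Z x hx l hl z _
    obtain ⟨w, hw, e⟩ := hx (x := z) trivial
    have : w = l z := (j i).isOpenEmbedding.injective (e.trans (by rw [← Scheme.Hom.comp_apply, hl]))
    show l z ∈ (F i).U a
    rw [← this]
    exact hw
  -- the transition inside one member
  have g₀ex : ∀ (i : I) (a b : C i), ∃ g : Γ(Y, V ⟨i, a⟩ ⊓ V ⟨i, b⟩)ˣ, ∀ {Z : Scheme.{u}} (x : Z ⟶ Y)
      (hx : (⊤ : Z.Opens) ≤ x ⁻¹ᵁ (V ⟨i, a⟩ ⊓ V ⟨i, b⟩)) (l : Z ⟶ C i) (hl : l ≫ j i = x),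
      ev x hx g = τ (F i) l b a (lft_mem i b x (fun _ _ => (hx trivial).2) l hl)
        (lft_mem i a x (fun _ _ => (hx trivial).1) l hl) := by
    intro i a b
    let W := V ⟨i, a⟩ ⊓ V ⟨i, b⟩
    have hWa : (⊤ : W.toScheme.Opens) ≤ W.ι ⁻¹ᵁ V ⟨i, a⟩ := fun z _ => z.2.1
    have hWb : (⊤ : W.toScheme.Opens) ≤ W.ι ⁻¹ᵁ V ⟨i, b⟩ := fun z _ => z.2.2
    let l₀ := lft i a W.ι hWa
    obtain ⟨g, hg⟩ := RigDescent.exists_ev_eq
      (τ (F i) l₀ b a (lft_mem i b W.ι hWb l₀ (lft_fac _ a _ hWa)) (lft_mem i a W.ι hWa l₀ (lft_fac _ a _ hWa)))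
    refine ⟨g, fun {Z} x hx l hl => ?_⟩
    rw [RigDescent.ev_lp, hg, uP_τ]
    have e : lp W x hx ≫ l₀ = l := by
      rw [← cancel_mono (j i), Category.assoc, show l₀ ≫ j i = W.ι from lft_fac i a W.ι hWa, lp_ι, hl]
    exact τ_congr (F i) e b a _ _
  choose g₀ hg₀ using g₀ex
  let G : ∀ p q : K, Γ(Y, V p ⊓ V q)ˣ := fun ⟨s, a⟩ ⟨t, b⟩ =>
    if h : s = t then (by subst h; exact g₀ s a b) else 1
  have hG : ∀ (i : I) (a b : C i), G ⟨i, a⟩ ⟨i, b⟩ = g₀ i a b := fun i a b => dif_pos rfl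
  let co : H23.CocycleMod.Cocycle V := ⟨G, fun p q r W hp hq hr => by
    obtain ⟨s, a⟩ := p
    obtain ⟨t, b⟩ := q
    obtain ⟨t', c⟩ := r
    suffices Units.map (resR (le_inf hp hr)).toMonoidHom (G ⟨s, a⟩ ⟨t', c⟩) =
        Units.map (resR (le_inf hq hr)).toMonoidHom (G ⟨t, b⟩ ⟨t', c⟩) *
          Units.map (resR (le_inf hp hq)).toMonoidHom (G ⟨s, a⟩ ⟨t, b⟩) from congrArg Units.val this
    refine RigDescent.ev_ι_injective ?_
    by_cases hW : IsEmpty W.toScheme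
    · exact Units.ext (Subsingleton.elim _ _)
    obtain ⟨⟨y, hy⟩⟩ := not_isEmpty_iff.1 hW
    have hr' : ∀ {i : I} {a : C i}, W ≤ V ⟨i, a⟩ → y ∈ (j i).opensRange := fun h => by
      obtain ⟨w, -, e⟩ := h hy
      exact ⟨w, e⟩
    obtain rfl := eq_of_mem j hd (hr' hp) (hr' hq)
    obtain rfl := eq_of_mem j hd (hr' hp) (hr' hr)
    have hWa : (⊤ : W.toScheme.Opens) ≤ W.ι ⁻¹ᵁ V ⟨s, a⟩ := fun z _ => hp z.2
    let l := lft s a W.ι hWa
    have ev' : ∀ (a' b' : C s) (h : W ≤ V ⟨s, a'⟩ ⊓ V ⟨s, b'⟩),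
        ev W.ι (U := W) (ι_le W le_rfl) (Units.map (resR h).toMonoidHom (G ⟨s, a'⟩ ⟨s, b'⟩)) =
          τ (F s) l b' a' (lft_mem s b' W.ι (fun z _ => (h z.2).2) l (lft_fac _ a _ hWa))
            (lft_mem s a' W.ι (fun z _ => (h z.2).1) l (lft_fac _ a _ hWa)) := fun a' b' h => by
      rw [ev_eq W.ι (ι_le W le_rfl) h (G ⟨s, a'⟩ ⟨s, b'⟩) (Units.map (resR h).toMonoidHom (G ⟨s, a'⟩ ⟨s, b'⟩)) rfl, hG]
      exact hg₀ s a' b' W.ι (fun z _ => h z.2) l (lft_fac _ a _ hWa)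
    rw [map_mul, ev' a c (le_inf hp hr), ev' b c (le_inf hq hr), ev' a b (le_inf hp hq)]
    exact (τ_trans (F s) l c b a _ _ _).symm⟩
  refine ⟨H23.CocycleMod.mod co, H23.CocycleMod.isInvertible co
    (top_le_iff.1 fun y _ => by
      obtain ⟨i, x, rfl⟩ := hcov y
      exact Opens.mem_iSup.2 ⟨⟨i, x⟩, x, (F i).mem x, rfl⟩), fun i => ?_⟩
  let N := (Scheme.Modules.pullback (j i)).obj (H23.CocycleMod.mod co)
  have hU : ∀ a : C i, (F i).U a ≤ j i ⁻¹ᵁ V ⟨i, a⟩ := fun a z hz => ⟨z, hz, rfl⟩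
  refine RigDescent.nonempty_iso_of_main (F i).U (fun x => ⟨x, (F i).mem x⟩)
    (fun a => res N (hU a) (pullElt (j i) (H23.CocycleMod.frame co ⟨i, a⟩))) (F i).e
    (fun a => (isFrame_pullElt (j i) (H23.CocycleMod.isFrame_frame co ⟨i, a⟩)).res _) (F i).he
    fun a b W wa wb => ?_
  have w' : W ≤ j i ⁻¹ᵁ (V ⟨i, b⟩ ⊓ V ⟨i, a⟩) := fun z hz => ⟨hU b (wb hz), hU a (wa hz)⟩
  let Gp : Γ(C i, W)ˣ := Units.map ((j i).appLE _ W w').hom.toMonoidHom (G ⟨i, b⟩ ⟨i, a⟩)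
  refine ⟨Gp, ?_, ?_⟩
  · rw [res_res, res_res]
    have h := congrArg (fun s => res N w' (pullElt (j i) s)) (H23.CocycleMod.res_frame co ⟨i, b⟩ ⟨i, a⟩)
    erw [pullElt_res, FramesTrans.pullElt_smul, pullElt_res, res_smul, res_res, res_res] at h
    exact h
  · refine (tr_spec ((F i).he a) ((F i).he b) wa wb).trans ?_
    suffices Units.map (resR (le_inf wa wb)).toMonoidHom (tr ((F i).he a) ((F i).he b)) = Gp from
      congrArg (· • res (L i) wa ((F i).e a)) (congrArg Units.val this)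
    refine RigDescent.ev_ι_injective ?_
    rw [ev_eq W.ι (ι_le W le_rfl) (le_inf wa wb) (tr ((F i).he a) ((F i).he b))
      (Units.map (resR (le_inf wa wb)).toMonoidHom (tr ((F i).he a) ((F i).he b))) rfl]
    have hGp : ev W.ι (ι_le W le_rfl) Gp =
        ev (W.ι ≫ j i) (U := V ⟨i, b⟩ ⊓ V ⟨i, a⟩) (fun z _ => w' z.2) (G ⟨i, b⟩ ⟨i, a⟩) :=
      Units.ext (ConcreteCategory.congr_hom
        (Scheme.Hom.appLE_comp_appLE W.ι (j i) (V ⟨i, b⟩ ⊓ V ⟨i, a⟩) W ⊤ w' (ι_le W le_rfl))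
          (G ⟨i, b⟩ ⟨i, a⟩).val)
    rw [hGp, hG, hg₀ i b a (W.ι ≫ j i) _ W.ι rfl]
    rfl

include hd hcov in
/-- A module trivial on each of the disjoint opens is trivial. -/
theorem nonempty_triv {M : Y.Modules} (hM : PicF.IsInvertible M)
    (θ : ∀ i, (Scheme.Modules.pullback (j i)).obj M ≅ Coh.structureModule (C i)) :
    Nonempty (M ≅ Coh.structureModule Y) := by
  obtain ⟨F⟩ := nonempty_frames hM
  let q : ∀ (p : Y) (i : I), (j i ⁻¹ᵁ F.U p).toScheme ⟶ (F.U p).toScheme := fun p i => j i ∣_ F.U p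
  have hq : ∀ (p : Y) (w : (F.U p).toScheme), ∃ i z, q p i z = w := fun p w => by
    obtain ⟨i, z, hz⟩ := hcov w.1
    refine ⟨i, ⟨z, show j i z ∈ F.U p by rw [hz]; exact w.2⟩, (F.U p).ι.isOpenEmbedding.injective ?_⟩
    rw [← Scheme.Hom.comp_apply, morphismRestrict_ι]
    exact hz
  choose s hs using fun p => UnitDescent.exists_unit (q p) (hq p)
    (fun i => coAt F (j i) (θ i) (j i ⁻¹ᵁ F.U p).ι p (fun z _ => z.2)) fun i i' Z m m' e => by
      by_cases hZ : IsEmpty Z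
      · exact Units.ext (Subsingleton.elim _ _)
      have e' : (m ≫ (j i ⁻¹ᵁ F.U p).ι) ≫ j i = (m' ≫ (j i' ⁻¹ᵁ F.U p).ι) ≫ j i' := by
        simp only [Category.assoc, ← morphismRestrict_ι]
        rw [reassoc_of% e]
      obtain rfl : i = i' := by_contra fun hne => hZ (hd _ _ e' hne)
      rw [cancel_mono] at e'
      simp only [uP_coAt, e']
  choose g hg using fun p => RigDescent.exists_ev_eq (s p)
  have hev : ∀ (p : Y) (i : I) {Z : Scheme.{u}} (x : Z ⟶ C i) (hx : (⊤ : Z.Opens) ≤ (x ≫ j i) ⁻¹ᵁ F.U p),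
      ev (x ≫ j i) hx (g p) = coAt F (j i) (θ i) x p hx := fun p i Z x hx => by
    have hx' : (⊤ : Z.Opens) ≤ x ⁻¹ᵁ (j i ⁻¹ᵁ F.U p) := hx
    have e : lp _ x hx' ≫ q p i = lp (F.U p) (x ≫ j i) hx := by
      rw [← cancel_mono (F.U p).ι, Category.assoc, morphismRestrict_ι, lp_ι, ← Category.assoc, lp_ι]
    rw [RigDescent.ev_lp, hg, ← e, uP_comp, hs p i, uP_coAt]
    simp only [lp_ι]
  let n : ∀ p, Γ(Coh.structureModule Y, F.U p) := fun p =>
    (g p : Γ(Y, F.U p)) • (show Γ(Coh.structureModule Y, F.U p) from (1 : Γ(Y, F.U p)))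
  refine RigDescent.nonempty_iso_of_main F.U (fun x => ⟨x, F.mem x⟩) F.e n F.he
    (fun p => (isFrame_one _).isUnit_smul (g p).isUnit) fun a b W wa wb => ?_
  let G : Γ(Y, W)ˣ := Units.map (resR (le_inf wa wb)).toMonoidHom (tr (F.he a) (F.he b))
  refine ⟨G, tr_spec (F.he a) (F.he b) wa wb, ?_⟩
  have key : Units.map (resR wb).toMonoidHom (g b) = G * Units.map (resR wa).toMonoidHom (g a) := by
    refine RigDescent.ev_ι_injective ?_
    refine UnitDescent.eq_of_uP (fun i => j i ∣_ W)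
      (fun w => by
        obtain ⟨i, z, hz⟩ := hcov w.1
        refine ⟨i, ⟨z, show j i z ∈ W by rw [hz]; exact w.2⟩, W.ι.isOpenEmbedding.injective ?_⟩
        rw [← Scheme.Hom.comp_apply, morphismRestrict_ι]
        exact hz) fun i => ?_
    let x := (j i ⁻¹ᵁ W).ι
    have hx : (⊤ : (j i ⁻¹ᵁ W).toScheme.Opens) ≤ (x ≫ j i) ⁻¹ᵁ W := fun z _ => z.2
    rw [uP_ev, uP_ev, ev_congr (morphismRestrict_ι _ W), ev_congr (morphismRestrict_ι _ W), map_mul,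
      ev_eq (x ≫ j i) hx wb (g b) (Units.map (resR wb).toMonoidHom (g b)) rfl,
      ev_eq (x ≫ j i) hx wa (g a) (Units.map (resR wa).toMonoidHom (g a)) rfl,
      ev_eq (x ≫ j i) hx (le_inf wa wb) (tr (F.he a) (F.he b)) G rfl, hev, hev]
    exact coAt_change F (j i) (θ i) x a b _ _
  show res _ wb ((g b : Γ(Y, F.U b)) • _) = _ • res _ wa ((g a : Γ(Y, F.U a)) • _)
  rw [res_smul, res_smul, smul_smul]
  refine (congrArg (fun c : Γ(Y, W)ˣ => (c : Γ(Y, W)) • res _ wb _) key).trans ?_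
  congr 1
  exact (map_one (resR wb)).trans (map_one (resR wa)).symm

end Groth.Agent.DisjointGlue
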