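import Groth.Agent.Lib.RigSheaf
import Groth.Agent.Lib.DisjointGlue

/-!
Rigidified classes are the points of an fppf sheafified Picard functor.
-/

set_option autoImplicit false
set_option linter.unusedSectionVars false
set_option linter.style.haveILetI false
set_option backward.isDefEq.respectTransparency false
set_option backward.isDefEq.respectTransparency.types false
set_option maxHeartbeats 800000

universe u

open CategoryTheory CategoryTheory.Limits AlgebraicGeometry TopologicalSpace Opposite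

noncomputable section

namespace Groth.Agent.RigPoints

open Groth.Agent.InvX Groth.Agent.FramesTrans Groth.Agent.RigDatum
open scoped Groth.Agent.H23.PicMul

variable {X S : Scheme.{u}}

/-- A domain of classes stable under base change and twist, and local for flat covers. -/
structure Dom (f : X ⟶ S) (Q : ∀ T : Over S, PicF.Cl (PicF.XT f T) → Prop) : Prop where
  inv : ∀ {T : Over S} {c}, Q T c → PicF.IsInvertibleCl c
  pull : ∀ {T T' : Over S} (g : T' ⟶ T) {c}, Q T c → Q T' (PicF.pullCl (PicF.XTmap f g) c)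
  twist : ∀ {T : Over S} {c} {m : PicF.Cl T.left}, Q T c → PicF.IsInvertibleCl m →
    Q T (c * PicF.pullCl (PicF.XTproj f T) m)
  desc : ∀ {T : Over S} {c}, PicF.IsInvertibleCl c → ∀ {I : Type u} (U : I → Over S) (g : ∀ i, U i ⟶ T),
    (∀ i, Flat (g i).left) → (∀ i, LocallyOfFinitePresentation (g i).left) →
    (∀ t : T.left, ∃ i x, (g i).left x = t) → (∀ i, Q (U i) (PicF.pullCl (PicF.XTmap f (g i)) c)) → Q T c

/-- A representing object for the sheafification of the classes in a domain. -/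
structure Pts (f : X ⟶ S) (Q : ∀ T : Over S, PicF.Cl (PicF.XT f T) → Prop) (P : Over S)
    (φ : ∀ T : Over S, PicF.Cl (PicF.XT f T) → (T ⟶ P)) : Prop where
  natural : ∀ (T T' : Over S) (g : T' ⟶ T) (c : PicF.Cl (PicF.XT f T)), Q T c →
    φ T' (PicF.pullCl (PicF.XTmap f g) c) = g ≫ φ T c
  locallySurjective : ∀ (T : Over S) (g : T ⟶ P), ∃ R ∈ Scheme.fppfPrecoverage T.left,
    ∀ ⦃U : Scheme.{u}⦄ (u : U ⟶ T.left), R u →
      ∃ c : PicF.Cl (PicF.XT f (AbDual.ovr T u)), Q _ c ∧ φ (AbDual.ovr T u) c = AbDual.ovrHom T u ≫ g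
  locallyInjective : ∀ (T : Over S) (c c' : PicF.Cl (PicF.XT f T)), Q T c → Q T c' →
    φ T c = φ T c' → ∃ R ∈ Scheme.fppfPrecoverage T.left, ∀ ⦃U : Scheme.{u}⦄ (u : U ⟶ T.left), R u →
      PicF.pullCl (PicF.XTmap f (AbDual.ovrHom T u)) c = PicF.pullCl (PicF.XTmap f (AbDual.ovrHom T u)) c'

/-- A covering contains a small covering family. -/
theorem exists_family {Y : Scheme.{u}} {R : Presieve Y} (hR : R ∈ Scheme.fppfPrecoverage Y) :
    ∃ (U : Y → Scheme.{u}) (w : ∀ y, U y ⟶ Y), (∀ y, Flat (w y)) ∧ (∀ y, LocallyOfFinitePresentation (w y)) ∧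
      (∀ y, ∃ i x, w i x = y) ∧ ∀ y, R (w y) := by
  have h : ∀ y : Y, ∃ (U : Scheme.{u}) (w : U ⟶ Y), R w ∧ ∃ x, w x = y := fun y => by
    obtain ⟨U, w, hw, x, hx⟩ := (Presieve.mem_comap_jointlySurjectivePrecoverage_iff Scheme.forget).1 hR.1 y
    exact ⟨U, w, hw, x, hx⟩
  choose U w hw x hx using h
  exact ⟨U, w, fun y => (hR.2 (hw y)).1, fun y => (hR.2 (hw y)).2, fun y => ⟨y, x y, hx y⟩, hw⟩

variable (f : X ⟶ S)

theorem hom_ext {T P : Over S} {I : Type u} (U : I → Over S) (g : ∀ i, U i ⟶ T) (hf : ∀ i, Flat (g i).left)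
    (hl : ∀ i, LocallyOfFinitePresentation (g i).left) (hc : ∀ t : T.left, ∃ i x, (g i).left x = t)
    {a b : T ⟶ P} (h : ∀ i, g i ≫ a = g i ≫ b) : a = b :=
  Over.OverMorphism.ext (UnitDescent.hom_ext (fun i => (g i).left) hc fun i => congrArg CommaMorphism.left (h i))

theorem isPullback_XTmap {T T' : Over S} (g : T' ⟶ T) :
    IsPullback (PicF.XTmap f g) (PicF.XTproj f T') (PicF.XTproj f T) g.left := by
  refine IsPullback.of_right ?_ (XTmap_snd f g) (IsPullback.of_hasPullback f T.hom)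
  rw [XTmap_fst f g, Over.w g]
  exact IsPullback.of_hasPullback f T'.hom

theorem XTmap_proj {T T' : Over S} (g : T' ⟶ T) :
    PicF.XTmap f g ≫ PicF.XTproj f T = PicF.XTproj f T' ≫ g.left :=
  (isPullback_XTmap f g).w

theorem sec_XTmap (σ : S ⟶ X) (hσ : σ ≫ f = 𝟙 S) {T T' : Over S} (g : T' ⟶ T) :
    PicF.secT f σ hσ T' ≫ PicF.XTmap f g = g.left ≫ PicF.secT f σ hσ T := by
  refine pullback.hom_ext ?_ ?_
  · rw [Category.assoc, XTmap_fst, Category.assoc]
    unfold PicF.secT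
    rw [pullback.lift_fst, pullback.lift_fst, Over.w_assoc]
  · rw [Category.assoc, XTmap_snd, Category.assoc]
    unfold PicF.secT
    rw [pullback.lift_snd_assoc, pullback.lift_snd]
    exact (Category.id_comp _).trans (Category.comp_id _).symm

section Disjoint

variable {Y : Scheme.{u}} {I : Type u} {C : I → Scheme.{u}} (j : ∀ i, C i ⟶ Y) [∀ i, IsOpenImmersion (j i)]
  (hd : ∀ {Z : Scheme.{u}} {s t : I} (a : Z ⟶ C s) (b : Z ⟶ C t), a ≫ j s = b ≫ j t → s ≠ t → IsEmpty Z)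
  (hcov : ∀ y, ∃ i x, j i x = y)

include hd hcov in
theorem cl_eq_one_of_disjoint {c : PicF.Cl Y} (hc : PicF.IsInvertibleCl c) (h : ∀ i, PicF.pullCl (j i) c = 1) :
    c = 1 := by
  obtain ⟨M, rfl, hM⟩ := hc
  exact H23.PicMul.cl_eq_iff.2
    (DisjointGlue.nonempty_triv j hd hcov hM fun i => (H23.PicMul.cl_eq_iff.1 (h i)).some)

include hd hcov in
theorem cl_eq_of_disjoint {c c' : PicF.Cl Y} (hc : PicF.IsInvertibleCl c) (hc' : PicF.IsInvertibleCl c')
    (h : ∀ i, PicF.pullCl (j i) c = PicF.pullCl (j i) c') : c = c' := by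
  obtain ⟨⟨b, hb⟩, hbc⟩ := H23.PicMul.exists_inv ⟨c', hc'⟩
  have h1 : c * b = 1 := cl_eq_one_of_disjoint j hd hcov (H23.PicMul.isInvertibleCl_mul hc hb) fun i => by
    rw [H23.PicMul.pullCl_mul, h i, ← H23.PicMul.pullCl_mul, mul_comm, show b * c' = 1 from hbc,
      H23.PicMul.pullCl_one]
  calc c = c * (b * c') := by rw [show b * c' = 1 from hbc, mul_one]
    _ = (c * b) * c' := (mul_assoc _ _ _).symm
    _ = c' := by rw [h1, one_mul]

end Disjoint

section Sigma

variable (T : Over S) {I : Type u} (U : I → Scheme.{u}) (w : ∀ i, U i ⟶ T.left)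

/-- The total space of a family. -/
abbrev tot : Over S := AbDual.ovr T (Sigma.desc w)

/-- A member of a family. -/
abbrev inc (i : I) : AbDual.ovr T (w i) ⟶ tot T U w := Over.homMk (Sigma.ι U i) (Sigma.ι_desc_assoc _ _ _)

theorem inc_hom (i : I) : inc T U w i ≫ AbDual.ovrHom T (Sigma.desc w) = AbDual.ovrHom T (w i) :=
  Over.OverMorphism.ext (Sigma.ι_desc _ _)

instance (i : I) : IsOpenImmersion (PicF.XTmap f (inc T U w i)) :=
  MorphismProperty.of_isPullback (isPullback_XTmap f (inc T U w i)).flip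
    (inferInstanceAs (IsOpenImmersion (Sigma.ι U i)))

theorem inc_disjoint {Z : Scheme.{u}} {s t : I} (a : Z ⟶ PicF.XT f (AbDual.ovr T (w s)))
    (b : Z ⟶ PicF.XT f (AbDual.ovr T (w t)))
    (e : a ≫ PicF.XTmap f (inc T U w s) = b ≫ PicF.XTmap f (inc T U w t)) (hst : s ≠ t) : IsEmpty Z := by
  refine isEmpty_of_commSq_sigmaι_of_ne (g := U) (a := a ≫ PicF.XTproj f _) (b := b ≫ PicF.XTproj f _) ⟨?_⟩ hst
  have := congrArg (· ≫ PicF.XTproj f (tot T U w)) e
  simp only [Category.assoc, XTmap_proj] at this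
  rw [Category.assoc, Category.assoc]
  exact this

theorem sigma_disjoint {Z : Scheme.{u}} {s t : I} (a : Z ⟶ U s) (b : Z ⟶ U t)
    (e : a ≫ Sigma.ι U s = b ≫ Sigma.ι U t) (hst : s ≠ t) : IsEmpty Z :=
  isEmpty_of_commSq_sigmaι_of_ne ⟨e⟩ hst

theorem inc_cover (z : PicF.XT f (tot T U w)) : ∃ i x, PicF.XTmap f (inc T U w i) x = z := by
  obtain ⟨i, x, hx⟩ := (sigmaOpenCover U).exists_eq (PicF.XTproj f (tot T U w) z)
  let O := PicF.XTproj f (tot T U w) ⁻¹ᵁ (Sigma.ι U i).opensRange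
  let l := (isPullback_XTmap f (inc T U w i)).lift O.ι
    (IsOpenImmersion.lift (Sigma.ι U i) (O.ι ≫ PicF.XTproj f (tot T U w)) (by rintro _ ⟨q, rfl⟩; exact q.2))
    (IsOpenImmersion.lift_fac _ _ _).symm
  refine ⟨i, l ⟨z, x, hx⟩, ?_⟩
  rw [← Scheme.Hom.comp_apply, IsPullback.lift_fst]
  rfl

theorem flat_desc (hf : ∀ i, Flat (w i)) : Flat (Sigma.desc w) := IsZariskiLocalAtSource.sigmaDesc hf

theorem lfp_desc (hl : ∀ i, LocallyOfFinitePresentation (w i)) : LocallyOfFinitePresentation (Sigma.desc w) :=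
  IsZariskiLocalAtSource.sigmaDesc hl

theorem surjective_desc (hc : ∀ t : T.left, ∃ i x, w i x = t) : Surjective (Sigma.desc w) :=
  Surjective.sigmaDesc_of_union_range_eq_univ (Set.eq_univ_of_forall fun t => by
    obtain ⟨i, x, hx⟩ := hc t
    exact Set.mem_iUnion.2 ⟨i, x, hx⟩)

end Sigma

variable (σ : S ⟶ X) (hσ : σ ≫ f = 𝟙 S)
  (ha : ∀ (T : Over S) (U : T.left.Opens), IsIso ((PicF.XTproj f T).app U))
  {Q : ∀ T : Over S, PicF.Cl (PicF.XT f T) → Prop} (hQ : Dom f Q) {P : Over S}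
  {φ : ∀ T : Over S, PicF.Cl (PicF.XT f T) → (T ⟶ P)} (hP : Pts f Q P φ)

/-- Pullback of a rigidified class. -/
def pullRig {T T' : Over S} (g : T' ⟶ T) (c : PicF.Rig f σ hσ T) : PicF.Rig f σ hσ T' :=
  ⟨PicF.pullCl (PicF.XTmap f g) c.1, PicClLib.isInvertibleCl_pullCl _ c.2.1, by
    show PicF.pullCl (PicF.secT f σ hσ T') (PicF.pullCl (PicF.XTmap f g) c.1) = _
    rw [PicClLib.pullCl_comp, sec_XTmap, ← PicClLib.pullCl_comp,
      show PicF.pullCl (PicF.secT f σ hσ T) c.1 = 1 from c.2.2, H23.PicMul.pullCl_one]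
    rfl⟩

theorem pull_glue (T : Over S) {U : Scheme.{u}} (u : U ⟶ T.left) (c : PicF.Cl (PicF.XT f T)) :
    PicF.pullCl (PicF.XTmap f (r₁ T u)) (PicF.pullCl (PicF.XTmap f (AbDual.ovrHom T u)) c) =
      PicF.pullCl (PicF.XTmap f (r₂ T u)) (PicF.pullCl (PicF.XTmap f (AbDual.ovrHom T u)) c) := by
  rw [PicClLib.pullCl_comp, PicClLib.pullCl_comp, ← PicClLib.XTmap_comp, ← PicClLib.XTmap_comp,
    show r₁ T u ≫ AbDual.ovrHom T u = r₂ T u ≫ AbDual.ovrHom T u from Over.OverMorphism.ext pullback.condition]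

include hQ hP in
/-- Twisting by a module from the base does not change the point. -/
theorem φ_twist {T : Over S} {c : PicF.Cl (PicF.XT f T)} (hc : Q T c) {m : PicF.Cl T.left}
    (hm : PicF.IsInvertibleCl m) : φ T (c * PicF.pullCl (PicF.XTproj f T) m) = φ T c := by
  obtain ⟨M, hMm, hM⟩ := hm
  obtain ⟨F⟩ := nonempty_frames hM
  refine hom_ext (fun x => AbDual.ovr T (F.U x).ι) (fun x => AbDual.ovrHom T (F.U x).ι)
    (fun x => inferInstanceAs (Flat (F.U x).ι)) (fun x => inferInstanceAs (LocallyOfFinitePresentation (F.U x).ι))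
    (fun t => ⟨t, ⟨t, F.mem t⟩, rfl⟩) fun x => ?_
  rw [← hP.natural _ _ _ _ (hQ.twist hc ⟨M, hMm, hM⟩), ← hP.natural _ _ _ _ hc]
  congr 1
  have h1 : PicF.pullCl (F.U x).ι m = 1 := by
    rw [← hMm]
    obtain ⟨e⟩ := InvUfdLib.nonempty_iso_restrict_of_frame (F.he x)
    exact H23.PicMul.cl_eq_iff.2 ⟨((Scheme.Modules.restrictFunctorIsoPullback (F.U x).ι).app M).symm ≪≫ e⟩
  rw [H23.PicMul.pullCl_mul, PicClLib.pullCl_comp, XTmap_proj, ← PicClLib.pullCl_comp,
    show PicF.pullCl (AbDual.ovrHom T (F.U x).ι).left m = 1 from h1, H23.PicMul.pullCl_one, mul_one]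

include hQ hP in
/-- Every class has a rigidified representative with the same point. -/
theorem exists_rigidify {T : Over S} {c : PicF.Cl (PicF.XT f T)} (hc : Q T c) :
    ∃ c₁ : PicF.Rig f σ hσ T, Q T c₁.1 ∧ φ T c₁.1 = φ T c := by
  obtain ⟨⟨b, hb⟩, hbc⟩ := H23.PicMul.exists_inv
    ⟨PicF.pullCl (PicF.secT f σ hσ T) c, PicClLib.isInvertibleCl_pullCl _ (hQ.inv hc)⟩
  refine ⟨⟨c * PicF.pullCl (PicF.XTproj f T) b, hQ.inv (hQ.twist hc hb), ?_⟩, hQ.twist hc hb,
    φ_twist f hQ hP hc hb⟩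
  show PicF.pullCl _ _ = _
  rw [H23.PicMul.pullCl_mul, PicClLib.pullCl_comp, RigSheaf.sec_proj, PicClLib.pullCl_id, mul_comm]
  exact hbc

include ha hQ hP in
/-- Rigidified classes with the same point are equal. -/
theorem injective {T : Over S} {c c' : PicF.Rig f σ hσ T} (hc : Q T c.1) (hc' : Q T c'.1)
    (h : φ T c.1 = φ T c'.1) : c = c' := by
  obtain ⟨R, hR, hR'⟩ := hP.locallyInjective T c.1 c'.1 hc hc' h
  obtain ⟨U, w, hf, hl, hcov, hw⟩ := exists_family hR
  haveI := flat_desc T U w hf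
  haveI := lfp_desc T U w hl
  haveI := surjective_desc T U w hcov
  let t := AbDual.ovrHom T (Sigma.desc w)
  have key : PicF.pullCl (PicF.XTmap f t) c.1 = PicF.pullCl (PicF.XTmap f t) c'.1 :=
    cl_eq_of_disjoint (fun i => PicF.XTmap f (inc T U w i)) (inc_disjoint f T U w) (inc_cover f T U w)
      (PicClLib.isInvertibleCl_pullCl _ c.2.1) (PicClLib.isInvertibleCl_pullCl _ c'.2.1) fun i => by
        rw [PicClLib.pullCl_comp, PicClLib.pullCl_comp, ← PicClLib.XTmap_comp, inc_hom]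
        exact hR' _ (hw i)
  exact (RigSheaf.existsUnique_rig f σ hσ ha T (Sigma.desc w) (pullRig f σ hσ t c') (pull_glue f T _ _)).unique
    key rfl

include ha hQ hP in
/-- Every point comes from a rigidified class. -/
theorem surjective {T : Over S} (g : T ⟶ P) : ∃ c : PicF.Rig f σ hσ T, Q T c.1 ∧ φ T c.1 = g := by
  obtain ⟨R, hR, hR'⟩ := hP.locallySurjective T g
  obtain ⟨U, w, hf, hl, hcov, hw⟩ := exists_family hR
  haveI := flat_desc T U w hf
  haveI := lfp_desc T U w hl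
  haveI := surjective_desc T U w hcov
  choose c hcQ hcφ using fun i => hR' (w i) (hw i)
  choose b hbQ hbφ using fun i => exists_rigidify f σ hσ hQ hP (hcQ i)
  choose L hLc hL using fun i => (b i).2.1
  let j := fun i => PicF.XTmap f (inc T U w i)
  obtain ⟨M, hM, hMj⟩ := DisjointGlue.exists_glue j (inc_disjoint f T U w) (inc_cover f T U w) L hL
  have hMb : ∀ i, PicF.pullCl (j i) (PicF.cl M) = (b i).1 := fun i =>
    (H23.PicMul.cl_eq_iff.2 (hMj i)).trans (hLc i)
  have hfl : ∀ i, Flat (inc T U w i).left := fun i => inferInstanceAs (Flat (Sigma.ι U i))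
  have hlp : ∀ i, LocallyOfFinitePresentation (inc T U w i).left := fun i =>
    inferInstanceAs (LocallyOfFinitePresentation (Sigma.ι U i))
  have hcv : ∀ z : (tot T U w).left, ∃ i x, (inc T U w i).left x = z := fun z => (sigmaOpenCover U).exists_eq z
  have hMQ : Q (tot T U w) (PicF.cl M) := hQ.desc ⟨M, rfl, hM⟩ (fun i => AbDual.ovr T (w i))
    (fun i => inc T U w i) hfl hlp hcv fun i => by rw [hMb]; exact hbQ i
  let C : PicF.Rig f σ hσ (tot T U w) := ⟨PicF.cl M, ⟨M, rfl, hM⟩,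
    cl_eq_one_of_disjoint (Sigma.ι U) (sigma_disjoint U) (fun y => (sigmaOpenCover U).exists_eq y)
      (PicClLib.isInvertibleCl_pullCl _ ⟨M, rfl, hM⟩) fun i => by
        rw [PicClLib.pullCl_comp]
        have e := sec_XTmap f σ hσ (inc T U w i)
        refine (congrArg (fun m => PicF.pullCl m (PicF.cl M)) e.symm).trans ?_
        rw [← PicClLib.pullCl_comp, hMb]
        exact (b i).2.2⟩
  have hCφ : φ (tot T U w) C.1 = AbDual.ovrHom T (Sigma.desc w) ≫ g :=
    hom_ext _ (fun i => inc T U w i) hfl hlp hcv fun i => by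
      rw [← hP.natural _ _ _ _ hMQ, hMb, hbφ, hcφ, ← Category.assoc, inc_hom]
  have hglue : PicF.pullCl (PicF.XTmap f (r₁ T (Sigma.desc w))) C.1 =
      PicF.pullCl (PicF.XTmap f (r₂ T (Sigma.desc w))) C.1 :=
    congrArg Subtype.val (injective f σ hσ ha hQ hP (c := pullRig f σ hσ (r₁ T (Sigma.desc w)) C)
      (c' := pullRig f σ hσ (r₂ T (Sigma.desc w)) C) (hQ.pull _ hMQ) (hQ.pull _ hMQ) (by
        show φ _ (PicF.pullCl (PicF.XTmap f (r₁ T (Sigma.desc w))) C.1) =
          φ _ (PicF.pullCl (PicF.XTmap f (r₂ T (Sigma.desc w))) C.1)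
        rw [hP.natural _ _ _ _ hMQ, hP.natural _ _ _ _ hMQ, hCφ, ← Category.assoc, ← Category.assoc]
        exact congrArg (· ≫ g) (Over.OverMorphism.ext pullback.condition)))
  obtain ⟨d, hd, -⟩ := RigSheaf.existsUnique_rig f σ hσ ha T (Sigma.desc w) C hglue
  have h1f : ∀ _ : PUnit.{u + 1}, Flat (AbDual.ovrHom T (Sigma.desc w)).left := fun _ => ‹Flat (Sigma.desc w)›
  have h1l : ∀ _ : PUnit.{u + 1}, LocallyOfFinitePresentation (AbDual.ovrHom T (Sigma.desc w)).left := fun _ =>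
    ‹LocallyOfFinitePresentation (Sigma.desc w)›
  have h1c : ∀ t : T.left, ∃ (_ : PUnit.{u + 1}), ∃ x, (AbDual.ovrHom T (Sigma.desc w)).left x = t := fun t =>
    ⟨⟨⟩, (Sigma.desc w).surjective t⟩
  have hdQ : Q T d.1 := hQ.desc d.2.1 (fun _ : PUnit.{u + 1} => tot T U w)
    (fun _ => AbDual.ovrHom T (Sigma.desc w)) h1f h1l h1c fun _ => by rw [hd]; exact hMQ
  refine ⟨d, hdQ, hom_ext (fun _ : PUnit.{u + 1} => tot T U w) (fun _ => AbDual.ovrHom T (Sigma.desc w))
    h1f h1l h1c fun _ => ?_⟩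
  rw [← hP.natural _ _ _ _ hdQ, hd, hCφ]

end Groth.Agent.RigPoints
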