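import Groth.Agent.Lib.AVDuality
import Groth.Agent.Lib.AVDualExist
import Groth.Agent.H28.ExtSh
import Groth.Agent.ExtPowPull.Unique
import Groth.Agent.CurveCohLib.Rank
import Groth.Agent.CurveFin.RelDim

/-!
The Hodge numbers of an abelian variety.
-/

set_option autoImplicit false
set_option linter.style.haveILetI false
set_option linter.unusedSectionVars false
set_option backward.isDefEq.respectTransparency false
set_option backward.isDefEq.respectTransparency.types false
set_option maxHeartbeats 800000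
set_option synthInstance.maxHeartbeats 400000

universe u

open CategoryTheory CategoryTheory.Limits MonoidalCategory CartesianMonoidalCategory MonObj AlgebraicGeometry TopologicalSpace Opposite

noncomputable section

namespace Groth.Agent.AVHodge

open Groth.Agent

variable {k : Type u} [Field k]

/-- The cohomology of a free module is the free sum of that of the structure module. -/
theorem finrank_HH_freeMod (X : Scheme.{u}) [X.Over (Spec (CommRingCat.of k))]
    [IsProper (X ↘ Spec (CommRingCat.of k))] (n p : ℕ) :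
    Module.finrank k (Coh.HH X (FlatMod.freeMod X n) p) =
      n * Module.finrank k (Coh.HH X (Coh.structureModule X) p) := by
  haveI := CurveCohLib.isNoetherian_of_proper (k := k) (X := X)
  haveI := CurveCohLib.finite_HH (k := k)
    (CurveDeg.isCoh_of_isInvertible (PicLoc.isInvertible_structureModule X)) p
  let O' := Coh.structureModule X
  let F := FlatMod.freeMod X n
  have comp : ∀ {M N P : X.Modules} (f : M ⟶ N) (h : N ⟶ P) (x : Coh.HH X M p),
      PnCoh.Finite.mapLin k h p (PnCoh.Finite.mapLin k f p x) = PnCoh.Finite.mapLin k (f ≫ h) p x := fun f h x =>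
    PnCoh.Finite.map_map (Y := X.toPresheafedSpace.carrier) ((QCoh.toAbFunctor X).map_comp f h).symm p x
  have hadd : ∀ {M N : X.Modules} (f g : M ⟶ N) (x : Coh.HH X M p),
      PnCoh.Finite.mapLin k (f + g) p x = PnCoh.Finite.mapLin k f p x + PnCoh.Finite.mapLin k g p x := fun f g x =>
    (congrArg (fun e => Sheaf.H.map e p x) ((QCoh.toAbFunctor X).map_add (f := f) (g := g))).trans
      (Sheaf.H.map_add_apply _ _ x)
  have hid : ∀ {M : X.Modules} (x : Coh.HH X M p), PnCoh.Finite.mapLin k (𝟙 M) p x = x := fun x =>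
    (congrArg (fun e => Sheaf.H.map e p x) ((QCoh.toAbFunctor X).map_id _)).trans (Sheaf.H.map_id_apply x)
  let toC : Coh.HH X F p →ₗ[k] Fin n → Coh.HH X O' p :=
    LinearMap.pi fun i => PnCoh.Finite.mapLin k (H23.Frame.proj X n i) p
  let inC : (Fin n → Coh.HH X O' p) →ₗ[k] Coh.HH X F p :=
    ∑ i, (PnCoh.Finite.mapLin k (H23.Frame.incl X n i) p).comp (LinearMap.proj i)
  have hsum : ∀ x : Coh.HH X F p, inC (toC x) = PnCoh.Finite.mapLin k (∑ i, H23.Frame.proj X n i ≫ H23.Frame.incl X n i) p x := by
    intro x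
    let Φ : (F ⟶ F) →+ Coh.HH X F p := AddMonoidHom.mk' (fun f => PnCoh.Finite.mapLin k f p x) fun f g => hadd f g x
    show _ = Φ _
    rw [map_sum]
    refine (LinearMap.sum_apply _ _ _).trans ?_
    exact Finset.sum_congr rfl fun i _ => comp _ _ x
  have h₁ : ∀ x, inC (toC x) = x := fun x => by
    rw [hsum, H23.Frame.total]
    exact hid x
  have h₂ : ∀ c, toC (inC c) = c := fun c => funext fun j => by
    have hz : PnCoh.Finite.mapLin k (0 : O' ⟶ O') p = 0 := LinearMap.ext fun y => by
      have := hadd (0 : O' ⟶ O') 0 y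
      rw [add_zero, left_eq_add] at this
      exact this
    show PnCoh.Finite.mapLin k (H23.Frame.proj X n j) p (inC c) = c j
    rw [show inC c = ∑ i, PnCoh.Finite.mapLin k (H23.Frame.incl X n i) p (c i) from LinearMap.sum_apply _ _ _,
      map_sum, Finset.sum_eq_single j]
    · rw [comp, H23.Frame.incl_proj, if_pos rfl]
      exact hid _
    · intro i _ hi
      rw [comp, H23.Frame.incl_proj, if_neg hi, hz]
      rfl
    · intro h; exact absurd (Finset.mem_univ j) h
  rw [(LinearEquiv.ofLinearMap toC inC (LinearMap.ext h₂) (LinearMap.ext h₁)).finrank_eq, Module.finrank_pi_fintype,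
    Finset.sum_const, Finset.card_univ, Fintype.card_fin, smul_eq_mul]

variable {A : Over (Spec (CommRingCat.of k))} [GrpObj A] [IsProper A.hom]

/-- The module of differentials of a proper smooth group is free. -/
theorem nonempty_omega_free (n : ℕ) [SmoothOfRelativeDimension n A.hom] :
    Nonempty (Omega.sheaf A.hom ≅ FlatMod.freeMod A.left n) := by
  haveI : Subsingleton ↥(Spec (CommRingCat.of k)) := inferInstanceAs (Subsingleton (PrimeSpectrum k))
  obtain ⟨b⟩ := GrpOmega.nonempty_omega_iso A
  have hΩ : FlatMod.IsFinLocFreeOfRank n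
      ((Scheme.Modules.pullback η[A].left).obj (Omega.sheaf A.hom)) :=
    TFOneX.isFinLocFreeOfRank_pullback η[A].left (ConsPropLib.isFinLocFreeOfRank_of_cover
      (J := A.left) (fun x => (SmoothTop.exists_locFree A.hom n x).choose.ι)
      (fun x => ⟨x, ⟨x, (SmoothTop.exists_locFree A.hom n x).choose_spec.1⟩, rfl⟩)
      fun x => (SmoothTop.exists_locFree A.hom n x).choose_spec.2)
  haveI : Subsingleton ↥(𝟙_ (Over (Spec (CommRingCat.of k)))).left := inferInstanceAs (Subsingleton (PrimeSpectrum k))
  obtain ⟨U, hU, ⟨e⟩⟩ := hΩ (IsLocalRing.closedPoint k)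
  obtain rfl : U = ⊤ := top_le_iff.1 fun z _ => (Subsingleton.elim _ z) ▸ hU
  haveI : IsIso (⊤ : (Spec (CommRingCat.of k)).Opens).ι :=
    inferInstanceAs (IsIso (Spec (CommRingCat.of k)).topIso.hom)
  let t := (⊤ : (Spec (CommRingCat.of k)).Opens).ι
  let M := (Scheme.Modules.pullback η[A].left).obj (Omega.sheaf A.hom)
  let e₁ : M ≅ FlatMod.freeMod (Spec (CommRingCat.of k)) n :=
    ((Scheme.Modules.pullbackId _).app M).symm ≪≫ (Scheme.Modules.pullbackCongr (IsIso.inv_hom_id t).symm).app M ≪≫
    ((Scheme.Modules.pullbackComp (inv t) t).app M).symm ≪≫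
    (Scheme.Modules.pullback (inv t)).mapIso (((Scheme.Modules.restrictFunctorIsoPullback t).app M).symm ≪≫ e) ≪≫
    SeesawX.freePullIso _ n
  exact ⟨b.symm ≪≫ (Scheme.Modules.pullback A.hom).mapIso e₁ ≪≫ SeesawX.freePullIso _ n⟩

/-- An exterior power of the differentials is free of binomial rank. -/
theorem nonempty_extPow_free (n r : ℕ) [SmoothOfRelativeDimension n A.hom] {L : A.left.Modules}
    (hL : ExtPow.IsExtPow r (Omega.sheaf A.hom) L) :
    Nonempty (L ≅ FlatMod.freeMod A.left (n.choose r)) := by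
  obtain ⟨e⟩ := nonempty_omega_free (A := A) n
  let M := Omega.sheaf A.hom
  let t := (⊤ : A.left.Opens).ι
  obtain ⟨s, hs⟩ := H23.Frame.exists_frame (U := (⊤ : A.left.Opens))
    ((Scheme.Modules.restrictFunctor t).mapIso e ≪≫ QCoh.freeModRestrict _ n)
  have hM : FlatMod.IsFinLocFree M := fun x =>
    ⟨⊤, n, trivial, ⟨(Scheme.Modules.restrictFunctor t).mapIso e ≪≫ QCoh.freeModRestrict _ n⟩⟩
  obtain ⟨u⟩ := ExtPowPull.nonempty_iso hL (H28.ExtSh.isExtPow_L r hM)
  obtain ⟨w⟩ := H23.Frame.exists_iso_of_frame _ (H28.ExtSh.isFrame_wFrame (m := r) hs)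
  have hcard : Fintype.card (Set.powersetCard (Fin n) r) = n.choose r := by
    rw [← Nat.card_eq_fintype_card, Set.powersetCard.card, Nat.card_fin]
  rw [hcard] at w
  haveI : IsIso t := inferInstanceAs (IsIso A.left.topIso.hom)
  let W := H28.ExtBase.L M r
  exact ⟨u ≪≫ ((Scheme.Modules.pullbackId _).app W).symm ≪≫
    (Scheme.Modules.pullbackCongr (IsIso.inv_hom_id t).symm).app W ≪≫
    ((Scheme.Modules.pullbackComp (inv t) t).app W).symm ≪≫
    (Scheme.Modules.pullback (inv t)).mapIso (((Scheme.Modules.restrictFunctorIsoPullback t).app W).symm ≪≫ w) ≪≫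
    SeesawX.freePullIso _ _⟩

variable [IsAlgClosed k] [GeometricallyIntegral A.hom] [Smooth A.hom] [GeometricallyConnected A.hom]

/-- **The Hodge numbers of an abelian variety.** -/
theorem finrank_HH_extPow {g : ℕ} (hg : topologicalKrullDim ↥A.left = g) (r : ℕ) {L : A.left.Modules}
    (hL : ExtPow.IsExtPow r (Omega.sheaf A.hom) L) (s : ℕ) :
    @Module.finrank k (Coh.HH A.left L s) _ _ (@Coh.moduleOver k _ A.left ⟨A.hom⟩ L s) =
      g.choose r * g.choose s := by
  haveI : IsIntegral A.left := GeometricallyIntegral.isIntegral_of_subsingleton A.hom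
  haveI : SmoothOfRelativeDimension g A.hom := CurveFin.smoothOfRelativeDimension_of_dim A.hom hg
  letI : A.left.Over (Spec (CommRingCat.of k)) := ⟨A.hom⟩
  haveI : IsProper (A.left ↘ Spec (CommRingCat.of k)) := inferInstanceAs (IsProper A.hom)
  obtain ⟨e⟩ := nonempty_extPow_free (A := A) g r hL
  rw [(CurveCohLib.hhEquiv (k := k) e s).finrank_eq, finrank_HH_freeMod A.left]
  congr 1
  exact AVDualExist.finrank_HH_structure (A := A) hg s

end Groth.Agent.AVHodge
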