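import Groth.Agent.GrLib8.CechLC
import Groth.Agent.LocCohSec.Core
import Groth.Agent.LC.ExtCechAcyclic
import Groth.Agent.QCoh.CechComparison
import Groth.Agent.QCoh.Tilde
import Groth.Agent.QCoh.ClosedPush
import Groth.Agent.QCoh.HHExact

/-!
# Cohomology of `M~` on a union of basic opens and the extended Čech complex
-/

set_option autoImplicit false
set_option linter.style.haveILetI false
set_option backward.isDefEq.respectTransparency false
set_option backward.isDefEq.respectTransparency.types false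

universe u

open CategoryTheory CategoryTheory.Limits AlgebraicGeometry TopologicalSpace Opposite

namespace Groth.Agent.Lib.KoszulSheaf

open GrLib8.CechLC LocCohSec

variable {R : CommRingCat.{u}}

/-- The union of the basic opens of a family. -/
noncomputable abbrev uni (fs : List R) : (Spec R).Opens :=
  ⨆ i : Fin fs.length, (PrimeSpectrum.basicOpen (fs.get i) : (Spec R).Opens)

theorem basicOpen_le_uni {fs : List R} {f : R} (hf : f ∈ fs) :
    (PrimeSpectrum.basicOpen f : (Spec R).Opens) ≤ uni fs := by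
  obtain ⟨i, rfl⟩ := List.get_of_mem hf
  exact le_iSup (fun i : Fin fs.length => (PrimeSpectrum.basicOpen (fs.get i) : (Spec R).Opens)) i

/-- The power torsion submodule of a family. -/
abbrev tors (fs : List R) (M : ModuleCat.{u} R) : Submodule R M :=
  DRing.torsionSub (Ideal.span {x : R | x ∈ fs}) M

theorem mem_tors {fs : List R} {M : ModuleCat.{u} R} {m : M} :
    m ∈ tors fs M ↔ ∀ f ∈ fs, ∃ k : ℕ, f ^ k • m = 0 :=
  LC.ExtCech.mem_torsionSub_span_iff fs m

section Sections

variable (M : ModuleCat.{u} R)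

theorem toSec_basicOpen_eq_zero_iff (f : R) (m : M) :
    toSec M (PrimeSpectrum.basicOpen f) m = 0 ↔ ∃ k : ℕ, f ^ k • m = 0 := by
  rw [IsLocalizedModule.eq_zero_iff (.powers f) (toSec M (PrimeSpectrum.basicOpen f))]
  exact ⟨fun ⟨⟨_, k, rfl⟩, h⟩ => ⟨k, h⟩, fun ⟨k, h⟩ => ⟨⟨_, k, rfl⟩, h⟩⟩

theorem toSec_eq_zero_iff {fs : List R} {W : (Spec R).Opens} (hW : W = uni fs) (m : M) :
    toSec M W m = 0 ↔ m ∈ tors fs M := by
  subst hW
  rw [mem_tors]
  constructor
  · intro h f hf
    refine (toSec_basicOpen_eq_zero_iff M f m).1 ?_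
    rw [← res_toSec M (basicOpen_le_uni hf) m, h, map_zero]
  · intro h
    refine eq_zero_of_locally M (fun i : ULift.{u} (Fin fs.length) =>
      (PrimeSpectrum.basicOpen (fs.get i.down) : (Spec R).Opens)) _
      (fun i => basicOpen_le_uni (List.get_mem fs i.down)) (iSup_le fun i => ?_) _ fun i => ?_
    · exact le_iSup (fun i : ULift.{u} (Fin fs.length) =>
        (PrimeSpectrum.basicOpen (fs.get i.down) : (Spec R).Opens)) ⟨i⟩
    · rw [res_toSec]
      exact (toSec_basicOpen_eq_zero_iff M _ m).2 (h _ (List.get_mem fs i.down))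

theorem exists_basicOpen_le {W : (Spec R).Opens} (p : W) :
    ∃ g : R, p.1 ∈ (PrimeSpectrum.basicOpen g : (Spec R).Opens) ∧
      (PrimeSpectrum.basicOpen g : (Spec R).Opens) ≤ W := by
  obtain ⟨_, ⟨g, rfl⟩, hp, hle⟩ := Opens.isBasis_iff_nbhd.1 PrimeSpectrum.isBasis_basic_opens p.2
  exact ⟨g, hp, hle⟩

/-- Sections of `M~` vanish on opens where all elements of `M` vanish. -/
theorem sec_eq_zero {W : (Spec R).Opens} (h : ∀ m : M, toSec M W m = 0) (s : sec M W) : s = 0 := by
  choose g hg hgW using fun p : W => exists_basicOpen_le p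
  refine eq_zero_of_locally M (fun p => (PrimeSpectrum.basicOpen (g p) : (Spec R).Opens)) W hgW
    (fun x hx => Opens.mem_iSup.2 ⟨⟨x, hx⟩, hg _⟩) s fun p => ?_
  obtain ⟨m, k, hk⟩ := exists_smul_eq_toSec M (g p) (res M (hgW p) s)
  refine smul_pow_eq_zero_cancel M le_rfl k (hk.trans ?_)
  rw [← res_toSec M (hgW p) m, h, map_zero]

variable {M}

theorem smul_pow_bijective {f : R} (hf : IsIso (f • 𝟙 M)) (k : ℕ) :
    Function.Bijective fun m : M => f ^ k • m := by
  have h : Function.Bijective fun m : M => f • m :=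
    ConcreteCategory.bijective_of_isIso (f • 𝟙 M)
  induction k with
  | zero =>
    simp only [pow_zero, one_smul]
    exact Function.bijective_id
  | succ k ih =>
    have := ih.comp h
    simpa [Function.comp_def, pow_succ, mul_smul] using this

theorem toSec_pow_smul (W : (Spec R).Opens) (f : R) (m : M) :
    toSec M W (f • m) = f • toSec M W m := map_smul _ _ _

/-- Restriction to `D(f)` is injective when `f` acts bijectively. -/
theorem res_injective {f : R} (hf : IsIso (f • 𝟙 M)) {W : (Spec R).Opens} (s : sec M W)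
    (hs : res M (inf_le_left : W ⊓ PrimeSpectrum.basicOpen f ≤ W) s = 0) : s = 0 := by
  choose g hg hgW using fun p : W => exists_basicOpen_le p
  refine eq_zero_of_locally M (fun p => (PrimeSpectrum.basicOpen (g p) : (Spec R).Opens)) W hgW
    (fun x hx => Opens.mem_iSup.2 ⟨⟨x, hx⟩, hg _⟩) s fun p => ?_
  obtain ⟨m, k, hk⟩ := exists_smul_eq_toSec M (g p) (res M (hgW p) s)
  obtain ⟨n, hn⟩ := exists_pow_smul_eq_zero_basicOpen M f (g p) (res M (hgW p) s) (by
    rw [res_res, ← res_res M inf_le_left (le_inf ((PrimeSpectrum.basicOpen_mul_le_left (g p) f).trans (hgW p))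
      (PrimeSpectrum.basicOpen_mul_le_right (g p) f)), hs, map_zero])
  refine smul_pow_eq_zero_cancel M le_rfl k (hk.trans ?_)
  obtain ⟨m', rfl⟩ := (smul_pow_bijective hf n).2 m
  obtain ⟨m'', rfl⟩ := (smul_pow_bijective hf n).2 m'
  have h0 : toSec M (PrimeSpectrum.basicOpen (g p)) (f ^ n • f ^ n • f ^ n • m'') = 0 := by
    rw [map_smul, ← hk, smul_comm, hn, smul_zero]
  obtain ⟨l, hl⟩ := (toSec_basicOpen_eq_zero_iff M _ _).1 h0
  refine (toSec_basicOpen_eq_zero_iff M _ _).2 ⟨l, (smul_pow_bijective hf n).1 ?_⟩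
  show f ^ n • g p ^ l • f ^ n • f ^ n • m'' = f ^ n • (0 : M)
  rw [smul_zero, smul_comm, hl]

theorem bijective_res_basicOpen {f : R} (hf : IsIso (f • 𝟙 M)) (g : R) :
    Function.Bijective (res M (inf_le_left :
      (PrimeSpectrum.basicOpen g : (Spec R).Opens) ⊓ PrimeSpectrum.basicOpen f ≤ PrimeSpectrum.basicOpen g)) := by
  refine ⟨(injective_iff_map_eq_zero _).2 fun s hs => res_injective hf s hs, fun t => ?_⟩
  have hle : (PrimeSpectrum.basicOpen (g * f) : (Spec R).Opens) ≤
      (PrimeSpectrum.basicOpen g : (Spec R).Opens) ⊓ PrimeSpectrum.basicOpen f :=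
    le_inf (PrimeSpectrum.basicOpen_mul_le_left g f) (PrimeSpectrum.basicOpen_mul_le_right g f)
  have hge : (PrimeSpectrum.basicOpen g : (Spec R).Opens) ⊓ PrimeSpectrum.basicOpen f ≤
      (PrimeSpectrum.basicOpen (g * f) : (Spec R).Opens) := (PrimeSpectrum.basicOpen_mul g f).ge
  obtain ⟨m, k, hk⟩ := exists_smul_eq_toSec M (g * f) (res M hle t)
  obtain ⟨m', hm'⟩ := (smul_pow_bijective hf k).2 m
  obtain ⟨u, hu⟩ := (IsLocalizedModule.map_units (toSec M (PrimeSpectrum.basicOpen g))
    (⟨g ^ k, k, rfl⟩ : Submonoid.powers g)) |> (Module.End.isUnit_iff _).1 |> fun h => h.2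
      (toSec M (PrimeSpectrum.basicOpen g) m')
  refine ⟨u, ?_⟩
  have hu' : g ^ k • u = toSec M (PrimeSpectrum.basicOpen g) m' := hu
  have h1 : res M hle (res M inf_le_left u) = res M hle t := by
    refine sub_eq_zero.1 (smul_pow_eq_zero_cancel M le_rfl k ?_)
    rw [smul_sub, sub_eq_zero, hk, res_res, mul_pow, mul_comm (g ^ k) (f ^ k), mul_smul,
      ← map_smul (res M _) (g ^ k), hu', res_toSec, ← map_smul]
    exact congrArg _ hm'
  rw [← res_self' (res M inf_le_left u), ← res_self' t, ← res_res M hle hge, h1, res_res]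
where
  res_self' {V : (Spec R).Opens} (s : sec M V) : res M (le_refl V) s = s := by
    show ((modulesSpecToSheaf.obj (tilde M)).presheaf.map (homOfLE (le_refl V)).op) s = s
    rw [show (homOfLE (le_refl V)).op = 𝟙 (op V) from rfl, CategoryTheory.Functor.map_id]
    rfl

theorem bijective_toSec {f : R} (hf : IsIso (f • 𝟙 M)) {W : (Spec R).Opens}
    (hW : (PrimeSpectrum.basicOpen f : (Spec R).Opens) ≤ W) : Function.Bijective (toSec M W) := by
  have hinj : ∀ s : sec M W, res M hW s = 0 → s = 0 := fun s hs => res_injective hf s (by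
    rw [← res_res M hW (inf_le_right), hs, map_zero])
  refine ⟨(injective_iff_map_eq_zero _).2 fun m hm => ?_, fun s => ?_⟩
  · obtain ⟨k, hk⟩ := (toSec_basicOpen_eq_zero_iff M f m).1 (by rw [← res_toSec M hW, hm, map_zero])
    exact (smul_pow_bijective hf k).1 (hk.trans (smul_zero _).symm)
  · obtain ⟨m, k, hk⟩ := exists_smul_eq_toSec M f (res M hW s)
    obtain ⟨m', rfl⟩ := (smul_pow_bijective hf k).2 m
    refine ⟨m', (sub_eq_zero.1 (hinj _ ?_))⟩
    refine smul_pow_eq_zero_cancel M le_rfl k ?_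
    rw [map_sub, smul_sub, res_toSec, hk, map_smul, sub_self]

end Sections

section Cohomology

/-- Restriction of the associated sheaf to an open. -/
noncomputable abbrev sh (U : (Spec R).Opens) : ModuleCat.{u} R ⥤ (U : Scheme.{u}).Modules :=
  tilde.functor R ⋙ Scheme.Modules.restrictFunctor U.ι

/-- Cohomology of the associated sheaf on an open. -/
noncomputable abbrev H (U : (Spec R).Opens) (M : ModuleCat.{u} R) (p : ℕ) : Type u :=
  Coh.HH ↑U ((sh U).obj M) p

theorem shortExact_sh (U : (Spec R).Opens) {S : ShortComplex (ModuleCat.{u} R)} (hS : S.ShortExact) :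
    (S.map (sh U)).ShortExact :=
  hS.map_of_exact _

/-- Functoriality of cohomology of the associated sheaf. -/
noncomputable abbrev Hmap (U : (Spec R).Opens) {M N : ModuleCat.{u} R} (φ : M ⟶ N) (p : ℕ) :
    H U M p →+ H U N p :=
  Sheaf.H.map ((QCoh.toAbFunctor (U : Scheme.{u})).map ((sh U).map φ)) p

/-- Functoriality of sections of the associated sheaf. -/
noncomputable abbrev secMap {M N : ModuleCat.{u} R} (φ : M ⟶ N) (W : (Spec R).Opens) :
    sec M W →ₗ[R] sec N W :=
  ((modulesSpecToSheaf.map (tilde.map φ)).1.app (op W)).hom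

theorem secMap_toSec {M N : ModuleCat.{u} R} (φ : M ⟶ N) (W : (Spec R).Opens) (m : M) :
    secMap φ W (toSec M W m) = toSec N W (φ.hom m) :=
  ConcreteCategory.congr_hom (tilde.toOpen_map_app φ W) m

/-- Degree zero cohomology. -/
noncomputable def e0 (U : (Spec R).Opens) (M : ModuleCat.{u} R) : H U M 0 ≃+ sec M (U.ι ''ᵁ ⊤) :=
  Sheaf.H.equiv₀ (Coh.toAb ((sh U).obj M)) isTerminalTop

theorem e0_natural (U : (Spec R).Opens) {M N : ModuleCat.{u} R} (φ : M ⟶ N) (x : H U M 0) :
    e0 U N (Hmap U φ 0 x) = secMap φ (U.ι ''ᵁ ⊤) (e0 U M x) :=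
  (Sheaf.H.equiv₀_naturality isTerminalTop ((QCoh.toAbFunctor (U : Scheme.{u})).map ((sh U).map φ)) x).symm

theorem sections_exact {X : Scheme.{u}} {S : ShortComplex X.Modules} (hS : S.ShortExact) (V : X.Opens) :
    Function.Injective (S.f.app V) ∧ ∀ y, S.g.app V y = 0 → ∃ x, S.f.app V x = y := by
  let E := S.map (QCoh.toAbFunctor X)
  have hE : E.ShortExact := QCoh.toAb_shortExact hS
  haveI := hE.mono_f
  let F := sheafToPresheaf (Opens.grothendieckTopology X) AddCommGrpCat.{u} ⋙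
    (evaluation _ _).obj (op V)
  haveI : F.Additive := ⟨fun {_ _ _ _} => rfl⟩
  haveI : Mono (F.map E.f) := inferInstance
  exact ⟨(AddCommGrpCat.mono_iff_injective (F.map E.f)).1 inferInstance,
    (E.map F).ab_exact_iff.1 (hE.exact.map_of_mono_of_preservesKernel F ‹_› inferInstance)⟩

theorem secMap_exact {S : ShortComplex (ModuleCat.{u} R)} (hS : S.ShortExact) (W : (Spec R).Opens) :
    Function.Injective (secMap S.f W) ∧ ∀ y, secMap S.g W y = 0 → ∃ x, secMap S.f W x = y :=
  sections_exact (hS.map_of_exact (tilde.functor R)) W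

theorem secMap_add {M N : ModuleCat.{u} R} (a b : M ⟶ N) (W : (Spec R).Opens) :
    secMap (a + b) W = secMap a W + secMap b W := by
  show ((modulesSpecToSheaf.map ((tilde.functor R).map (a + b))).1.app (op W)).hom = _
  rw [(tilde.functor R).map_add]
  rfl

theorem secMap_comp {M N P : ModuleCat.{u} R} (a : M ⟶ N) (b : N ⟶ P) (W : (Spec R).Opens) (s : sec M W) :
    secMap (a ≫ b) W s = secMap b W (secMap a W s) := by
  show ((modulesSpecToSheaf.map ((tilde.functor R).map (a ≫ b))).1.app (op W)).hom s = _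
  rw [(tilde.functor R).map_comp, modulesSpecToSheaf.map_comp]
  rfl

theorem secMap_id {M : ModuleCat.{u} R} (W : (Spec R).Opens) (s : sec M W) : secMap (𝟙 M) W s = s := by
  show ((modulesSpecToSheaf.map ((tilde.functor R).map (𝟙 M))).1.app (op W)).hom s = _
  rw [(tilde.functor R).map_id, modulesSpecToSheaf.map_id]
  rfl

theorem Hmap_add (U : (Spec R).Opens) {M N : ModuleCat.{u} R} (a b : M ⟶ N) (p : ℕ) (x : H U M p) :
    Hmap U (a + b) p x = Hmap U a p x + Hmap U b p x := by
  show Sheaf.H.map ((QCoh.toAbFunctor (U : Scheme.{u})).map ((sh U).map (a + b))) p x = _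
  rw [(sh U).map_add, (QCoh.toAbFunctor (U : Scheme.{u})).map_add]
  exact Sheaf.H.map_add_apply (J := Opens.grothendieckTopology (U : Scheme.{u})) _ _ x

theorem Hmap_comp (U : (Spec R).Opens) {M N P : ModuleCat.{u} R} (a : M ⟶ N) (b : N ⟶ P) (p : ℕ) (x : H U M p) :
    Hmap U (a ≫ b) p x = Hmap U b p (Hmap U a p x) := by
  show Sheaf.H.map ((QCoh.toAbFunctor (U : Scheme.{u})).map ((sh U).map (a ≫ b))) p x = _
  rw [(sh U).map_comp, (QCoh.toAbFunctor (U : Scheme.{u})).map_comp]
  exact Sheaf.H.map_comp_apply (J := Opens.grothendieckTopology (U : Scheme.{u})) _ _ _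

theorem Hmap_id (U : (Spec R).Opens) {M : ModuleCat.{u} R} (p : ℕ) (x : H U M p) :
    Hmap U (𝟙 M) p x = x := by
  show Sheaf.H.map ((QCoh.toAbFunctor (U : Scheme.{u})).map ((sh U).map (𝟙 M))) p x = _
  rw [(sh U).map_id, (QCoh.toAbFunctor (U : Scheme.{u})).map_id]
  exact Sheaf.H.map_id_apply (J := Opens.grothendieckTopology (U : Scheme.{u})) _

theorem image_homOfLE_preimage {U D : (Spec R).Opens} (h : D ≤ U) (V : (U : Scheme.{u}).Opens) :
    U.ι ''ᵁ ((Spec R).homOfLE h ''ᵁ ((Spec R).homOfLE h ⁻¹ᵁ V)) = U.ι ''ᵁ V ⊓ D := by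
  rw [Scheme.Hom.image_preimage_eq_opensRange_inf, Scheme.opensRange_homOfLE]
  refine Opens.ext (Set.ext fun x => ⟨?_, ?_⟩)
  · rintro ⟨y, ⟨hy1, hy2⟩, rfl⟩
    exact ⟨⟨y, hy2, rfl⟩, hy1⟩
  · rintro ⟨⟨y, hy, rfl⟩, hx⟩
    exact ⟨y, ⟨hx, hy⟩, rfl⟩

theorem bijective_res_of_eq {M : ModuleCat.{u} R} {f : R} (hf : IsIso (f • 𝟙 M)) {g : R}
    {A B : (Spec R).Opens} (hA : A = PrimeSpectrum.basicOpen g)
    (hB : B = A ⊓ PrimeSpectrum.basicOpen f) (h : B ≤ A) : Function.Bijective (res M h) := by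
  subst hA hB
  exact bijective_res_basicOpen hf g

theorem subsingleton_H_of_isIso {f : R} {U : (Spec R).Opens} (hU : (PrimeSpectrum.basicOpen f : (Spec R).Opens) ≤ U)
    {M : ModuleCat.{u} R} (hf : IsIso (f • 𝟙 M)) (p : ℕ) : Subsingleton (H U M (p + 1)) := by
  let D : (Spec R).Opens := PrimeSpectrum.basicOpen f
  let j := (Spec R).homOfLE hU
  haveI : IsAffine (D : Scheme.{u}) := IsAffineOpen.Spec_basicOpen f
  haveI : IsAffineHom (j ≫ U.ι) := inferInstance
  haveI : IsAffineHom j := IsAffineHom.of_comp j U.ι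
  have hG : Coh.IsQCoh ((sh U).obj M) :=
    QCoh.isQCoh_restrict U.ι (QCoh.isQCoh_spec_iff.2 ⟨M, ⟨Iso.refl _⟩⟩)
  have hB : Opens.IsBasis {V : (U : Scheme.{u}).Opens | ∃ g : R, U.ι ''ᵁ V = PrimeSpectrum.basicOpen g} := by
    refine Opens.isBasis_iff_nbhd.2 fun {V x} hx => ?_
    obtain ⟨g, hg, hle⟩ := exists_basicOpen_le (W := U.ι ''ᵁ V) ⟨U.ι x, ⟨x, hx, rfl⟩⟩
    refine ⟨U.ι ⁻¹ᵁ PrimeSpectrum.basicOpen g, ⟨g, ?_⟩, hg, fun y hy => ?_⟩
    · rw [Scheme.Hom.image_preimage_eq_opensRange_inf, Scheme.Opens.opensRange_ι]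
      exact inf_eq_right.2 (hle.trans (U.ι.image_le_opensRange V |>.trans (Scheme.Opens.opensRange_ι U).le))
    · obtain ⟨z, hz, hzy⟩ := hle hy
      exact U.ι.isOpenEmbedding.injective hzy ▸ hz
  haveI : IsIso ((Scheme.Modules.restrictAdjunction j).unit.app ((sh U).obj M)) := by
    refine QCoh.isIso_of_isBasis _ hB fun V hV => ?_
    obtain ⟨g, hg⟩ := hV
    rw [Scheme.Modules.restrictAdjunction_unit_app_app]
    exact bijective_res_of_eq hf hg (image_homOfLE_preimage hU V)
      (U.ι.image_mono (j.image_preimage_le V))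
  have hq := QCoh.isQCoh_restrict j hG
  have h0 : Subsingleton (Coh.HH ↑D (((sh U).obj M).restrict j) (p + 1)) := QCoh.subsingleton_HH_of_isAffine hq p
  obtain ⟨e⟩ := QCoh.HH_push_of_isAffineHom j hq (p + 1)
  haveI := e.symm.toEquiv.subsingleton
  let i := asIso ((Scheme.Modules.restrictAdjunction j).unit.app ((sh U).obj M))
  refine subsingleton_of_forall_eq 0 fun x => ?_
  have h1 : Sheaf.H.map ((QCoh.toAbFunctor (U : Scheme.{u})).map i.inv) (p + 1)
      (Sheaf.H.map ((QCoh.toAbFunctor (U : Scheme.{u})).map i.hom) (p + 1) x) = x := by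
    erw [← Sheaf.H.map_comp_apply, ← (QCoh.toAbFunctor (U : Scheme.{u})).map_comp, i.hom_inv_id,
      (QCoh.toAbFunctor (U : Scheme.{u})).map_id]
    exact Sheaf.H.map_id_apply (J := Opens.grothendieckTopology (U : Scheme.{u})) _
  rw [← h1, Subsingleton.elim (α := Coh.HH ↑U ((Coh.push j).obj (((sh U).obj M).restrict j)) (p + 1))
    (Sheaf.H.map ((QCoh.toAbFunctor (U : Scheme.{u})).map i.hom) (p + 1) x) 0, map_zero]

end Cohomology

section Cech

theorem isZero_extCech_X_of_torsion {K : ModuleCat.{u} R} :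
    ∀ (fs : List R), (∀ f ∈ fs, ∀ x : K, ∃ k : ℕ, f ^ k • x = 0) →
      ∀ q : ℤ, 1 ≤ q → IsZero ((DerCA.extCech K fs).X q)
  | [], _, q, hq => HomologicalComplex.isZero_single_obj_X (ComplexShape.up ℤ) 0 K q (by omega)
  | g :: fs, h, q, hq => by
    have ih := isZero_extCech_X_of_torsion fs fun f hf => h f (List.mem_cons_of_mem _ hf)
    refine IsZero.of_iso ?_ (DerCA.mappingCoconeXIso (DerCA.locCxUnit (Submonoid.powers g) (DerCA.extCech K fs)) q)
    refine (IsZero.iff_id_eq_zero _).2 (biprod.hom_ext _ _ ((ih q hq).eq_of_tgt _ _) (IsZero.eq_of_tgt ?_ _ _))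
    rcases eq_or_lt_of_le hq with rfl | hq'
    · refine @ModuleCat.isZero_of_subsingleton _ _ _ (subsingleton_of_forall_eq 0 fun y => ?_)
      obtain ⟨⟨x, ⟨_, k, rfl⟩⟩, hx⟩ := IsLocalizedModule.surj (Submonoid.powers g)
        (LocalizedModule.mkLinearMap (Submonoid.powers g) ((DerCA.extCech K fs).X (1 - 1))) y
      obtain ⟨n, hn⟩ := h g List.mem_cons_self ((pi0 K fs).hom x)
      have hx0 : g ^ n • x = 0 :=
        (pi0_spec K fs).1.1 ((map_smul (pi0 K fs).hom (g ^ n) x).trans (hn.trans (map_zero _).symm))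
      refine ((Module.End.isUnit_iff _).1 (IsLocalizedModule.map_units
        (LocalizedModule.mkLinearMap (Submonoid.powers g) ((DerCA.extCech K fs).X (1 - 1)))
        (⟨g ^ k, k, rfl⟩ : Submonoid.powers g))).1 ?_
      refine hx.trans (Eq.trans ?_ (map_zero (algebraMap R (Module.End R _) (g ^ k))).symm)
      exact (IsLocalizedModule.eq_zero_iff (Submonoid.powers g) _).2 ⟨⟨g ^ n, n, rfl⟩, hx0⟩
    · exact Functor.map_isZero (DerCA.locFunctor (Submonoid.powers g)) (ih (q - 1) (by omega))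

/-- Extended Čech cohomology. -/
noncomputable abbrev E (fs : List R) (M : ModuleCat.{u} R) (q : ℕ) : ModuleCat.{u} R :=
  (DerCA.extCech M fs).homology (q : ℤ)

theorem isZero_E_of_torsion {fs : List R} {K : ModuleCat.{u} R}
    (h : ∀ f ∈ fs, ∀ x : K, ∃ k : ℕ, f ^ k • x = 0) (q : ℕ) : IsZero (E fs K (q + 1)) :=
  ShortComplex.isZero_homology_of_isZero_X₂ _ (isZero_extCech_X_of_torsion fs h _ (by omega))

theorem isZero_E_of_sum {fs : List R} {P : ModuleCat.{u} R} {ι : Type} [Fintype ι]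
    (N : ι → ModuleCat.{u} R) (a : ∀ i, P ⟶ N i) (b : ∀ i, N i ⟶ P) (hab : ∑ i, a i ≫ b i = 𝟙 P)
    (q : ℕ) (hN : ∀ i, IsZero (E fs (N i) q)) : IsZero (E fs P q) := by
  let F : (P ⟶ P) →+ (E fs P q ⟶ E fs P q) :=
    { toFun := fun φ => HomologicalComplex.homologyMap (cechMap φ fs) (q : ℤ)
      map_zero' := by rw [cechMap_zero, HomologicalComplex.homologyMap_zero]
      map_add' := fun x y => by rw [cechMap_add, HomologicalComplex.homologyMap_add] }
  have h1 : F (𝟙 P) = 0 := by
    rw [← hab, map_sum]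
    refine Finset.sum_eq_zero fun i _ => ?_
    show HomologicalComplex.homologyMap (cechMap (a i ≫ b i) fs) (q : ℤ) = 0
    rw [cechMap_comp, HomologicalComplex.homologyMap_comp, (hN i).eq_of_tgt (HomologicalComplex.homologyMap (cechMap (a i) fs) (q : ℤ)) 0, zero_comp]
  have h2 : cechMap (𝟙 P) fs = 𝟙 _ := cechMap_id P fs
  rw [IsZero.iff_id_eq_zero]
  refine Eq.trans ?_ h1
  show _ = HomologicalComplex.homologyMap (cechMap (𝟙 P) fs) (q : ℤ)
  rw [h2, HomologicalComplex.homologyMap_id]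
where
  cechMap_id (P : ModuleCat.{u} R) : ∀ fs : List R, cechMap (𝟙 P) fs = 𝟙 _
    | [] => (HomologicalComplex.single (ModuleCat.{u} R) (ComplexShape.up ℤ) 0).map_id P
    | f :: fs => HomologicalComplex.hom_ext _ _ fun n => ModuleCat.hom_ext (LinearMap.ext fun x =>
      cone_ext _ (p := n + -1)
        ((map_fst_apply _ _ _ _ (locCxUnit_naturality (Submonoid.powers f) (cechMap (𝟙 P) fs)) (n + -1) x).trans
          (by rw [cechMap_id P fs]; rfl))
        ((map_snd_apply _ _ _ _ (locCxUnit_naturality (Submonoid.powers f) (cechMap (𝟙 P) fs)) (n + -1) x).trans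
          (by rw [cechMap_id P fs, (DerCA.locCx (Submonoid.powers f)).map_id]; rfl)))

end Cech

section Main

variable (fs : List R)

/-- The union of the basic opens, as the image of the top open. -/
noncomputable abbrev utop : (Spec R).Opens := (uni fs).ι ''ᵁ ⊤

theorem utop_eq : utop fs = uni fs := Scheme.Opens.ι_image_top _

theorem isIso_smul_localized (f : R) (M : ModuleCat.{u} R) :
    IsIso (f • 𝟙 (ModuleCat.of R (LocalizedModule (Submonoid.powers f) M))) := by
  rw [ConcreteCategory.isIso_iff_bijective]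
  exact (Module.End.isUnit_iff _).1 (IsLocalizedModule.map_units
    (LocalizedModule.mkLinearMap (Submonoid.powers f) M) (⟨f, 1, pow_one f⟩ : Submonoid.powers f))

/-- An acyclic presentation of a torsion-free module. -/
theorem exists_presentation (M : ModuleCat.{u} R) (hM : ∀ m ∈ tors fs M, m = 0) :
    ∃ S : ShortComplex (ModuleCat.{u} R), S.X₁ = M ∧ S.ShortExact ∧
      Function.Bijective (toSec S.X₂ (utop fs)) ∧ (∀ p, Subsingleton (H (uni fs) S.X₂ (p + 1))) ∧
      (∀ q, IsZero (E fs S.X₂ q)) := by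
  classical
  let N : Fin fs.length → ModuleCat.{u} R := fun i =>
    ModuleCat.of R (LocalizedModule (Submonoid.powers (fs.get i)) M)
  let P : ModuleCat.{u} R := ModuleCat.of R (∀ i, N i)
  let f : M ⟶ P := ModuleCat.ofHom (LinearMap.pi fun i => LocalizedModule.mkLinearMap (Submonoid.powers (fs.get i)) M)
  let g : P ⟶ ModuleCat.of R (P ⧸ LinearMap.range f.hom) := ModuleCat.ofHom (LinearMap.range f.hom).mkQ
  have hf : Function.Injective f.hom := (injective_iff_map_eq_zero f.hom).2 fun m hm => hM m (mem_tors.2 fun r hr => by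
    obtain ⟨i, rfl⟩ := List.get_of_mem hr
    obtain ⟨⟨_, k, rfl⟩, hk⟩ := (IsLocalizedModule.eq_zero_iff (Submonoid.powers (fs.get i))
      (LocalizedModule.mkLinearMap (Submonoid.powers (fs.get i)) M)).1 (congrFun hm i)
    exact ⟨k, hk⟩)
  let S : ShortComplex (ModuleCat.{u} R) := ShortComplex.mk f g
    (ModuleCat.hom_ext (LinearMap.ext fun x => (LinearMap.exact_map_mkQ_range f.hom).apply_apply_eq_zero x))
  have hS : S.ShortExact :=
    { exact := (ShortComplex.ShortExact.moduleCat_exact_iff_function_exact _).2 (LinearMap.exact_map_mkQ_range f.hom)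
      mono_f := (ModuleCat.mono_iff_injective _).2 hf
      epi_g := (ModuleCat.epi_iff_surjective _).2 (Submodule.mkQ_surjective _) }
  let a : ∀ i, P ⟶ N i := fun i => ModuleCat.ofHom (LinearMap.proj i)
  let b : ∀ i, N i ⟶ P := fun i => ModuleCat.ofHom (LinearMap.single R (fun i => (N i : Type u)) i)
  have hab : ∑ i, a i ≫ b i = 𝟙 P := by
    refine ModuleCat.hom_ext (LinearMap.ext fun x => ?_)
    rw [ModuleCat.hom_sum, LinearMap.sum_apply]
    exact Finset.univ_sum_single x
  have hN : ∀ i, IsIso (fs.get i • 𝟙 (N i)) := fun i => isIso_smul_localized _ M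
  have hle : ∀ i, (PrimeSpectrum.basicOpen (fs.get i) : (Spec R).Opens) ≤ utop fs := fun i =>
    (basicOpen_le_uni (List.get_mem fs i)).trans (utop_eq fs).ge
  have hP : Function.Bijective (toSec P (utop fs)) := by
    refine ⟨(injective_iff_map_eq_zero _).2 fun x hx => funext fun i => ?_, fun s => ?_⟩
    · refine (bijective_toSec (hN i) (hle i)).1 ?_
      refine Eq.trans ?_ (map_zero (toSec (N i) (utop fs))).symm
      exact (secMap_toSec (a i) (utop fs) x).symm.trans ((congrArg _ hx).trans (map_zero _))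
    · choose n hn using fun i => (bijective_toSec (hN i) (hle i)).2 (secMap (a i) (utop fs) s)
      refine ⟨(n : ∀ i, N i), ?_⟩
      let F : (P ⟶ P) →+ (sec P (utop fs) →ₗ[R] sec P (utop fs)) :=
        AddMonoidHom.mk' (fun φ => secMap φ (utop fs)) (fun x y => secMap_add x y _)
      have key : ∀ t : sec P (utop fs), t = ∑ i, secMap (b i) (utop fs) (secMap (a i) (utop fs) t) := fun t => by
        conv_lhs => rw [← secMap_id (utop fs) t, ← hab, show secMap (∑ i, a i ≫ b i) (utop fs) =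
          F (∑ i, a i ≫ b i) from rfl, map_sum, LinearMap.sum_apply]
        exact Finset.sum_congr rfl fun i _ => secMap_comp (a i) (b i) _ t
      rw [key s, key (toSec P (utop fs) n)]
      refine Finset.sum_congr rfl fun i _ => congrArg _ ?_
      rw [secMap_toSec]
      exact hn i
  refine ⟨S, rfl, hS, hP, fun p => subsingleton_of_forall_eq 0 fun x => ?_,
    fun q => isZero_E_of_sum N a b hab q fun i => ?_⟩
  · let F : (P ⟶ P) →+ (H (uni fs) P (p + 1) →+ H (uni fs) P (p + 1)) :=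
      AddMonoidHom.mk' (fun φ => Hmap (uni fs) φ (p + 1)) (fun c d => AddMonoidHom.ext (Hmap_add _ c d _))
    refine (Hmap_id _ (p + 1) x).symm.trans ?_
    show F (𝟙 P) x = 0
    rw [← hab, map_sum, AddMonoidHom.finsetSum_apply]
    refine Finset.sum_eq_zero fun i _ => ?_
    haveI := subsingleton_H_of_isIso (basicOpen_le_uni (List.get_mem fs i)) (hN i) p
    refine (Hmap_comp _ (a i) (b i) _ x).trans ?_
    rw [Subsingleton.elim (Hmap (uni fs) (a i) (p + 1) x) 0, map_zero]
  · exact LC.ExtCech.isZero_extCech_homology (N i) (hN i) fs (List.get_mem fs i) q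

theorem nonempty_E_zero (M : ModuleCat.{u} R) : Nonempty (E fs M 0 ≃+ tors fs M) :=
  ⟨(LinearEquiv.ofBijective ((sig fs M).hom.codRestrict (tors fs M) (sig_mem fs))
    ⟨fun _ _ h => sig_injective fs M (congrArg Subtype.val h), fun m => by
      obtain ⟨y, hy⟩ := sig_surj fs m.2
      exact ⟨y, Subtype.ext hy⟩⟩).toAddEquiv⟩

theorem nonempty_E_shift {S : ShortComplex (ModuleCat.{u} R)} (hS : S.ShortExact)
    (h : ∀ q, IsZero (E fs S.X₂ q)) (q : ℕ) : Nonempty (E fs S.X₃ q ≃+ E fs S.X₁ (q + 1)) := by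
  haveI := hS.mono_f
  haveI := hS.epi_g
  obtain ⟨w, hK⟩ := exists_shortExact S.f S.g ((ModuleCat.mono_iff_injective _).1 inferInstance)
    ((ModuleCat.epi_iff_surjective _).1 inferInstance)
    ((ShortComplex.ShortExact.moduleCat_exact_iff_function_exact _).1 hS.exact) fs
  exact ⟨(hK.δIso (q : ℤ) ((q + 1 : ℕ) : ℤ) (by simp) (h q) (h (q + 1))).toLinearEquiv.toAddEquiv⟩

/-- Passing to the torsion-free quotient. -/
theorem exists_torsionFree (M : ModuleCat.{u} R) :
    ∃ (M' : ModuleCat.{u} R) (π : M ⟶ M'), Function.Surjective π.hom ∧ (∀ m ∈ tors fs M', m = 0) ∧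
      IsIso ((sh (uni fs)).map π) ∧ ∀ q, Nonempty (E fs M (q + 1) ≃+ E fs M' (q + 1)) := by
  let K := tors fs M
  let π : M ⟶ ModuleCat.of R (M ⧸ K) := ModuleCat.ofHom K.mkQ
  let ι : ModuleCat.of R K ⟶ M := ModuleCat.ofHom K.subtype
  let S : ShortComplex (ModuleCat.{u} R) := ShortComplex.mk ι π
    (ModuleCat.hom_ext (LinearMap.ext fun x => (LinearMap.exact_subtype_mkQ K).apply_apply_eq_zero x))
  have hS : S.ShortExact :=
    { exact := (ShortComplex.ShortExact.moduleCat_exact_iff_function_exact _).2 (LinearMap.exact_subtype_mkQ K)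
      mono_f := (ModuleCat.mono_iff_injective _).2 Subtype.val_injective
      epi_g := (ModuleCat.epi_iff_surjective _).2 (Submodule.mkQ_surjective _) }
  have hKt : ∀ f ∈ fs, ∀ x : K, ∃ k : ℕ, f ^ k • x = 0 := fun f hf x => by
    obtain ⟨k, hk⟩ := mem_tors.1 x.2 f hf
    exact ⟨k, Subtype.ext hk⟩
  refine ⟨_, π, Submodule.mkQ_surjective _, fun m => ?_, ?_, fun q => ?_⟩
  · obtain ⟨x, rfl⟩ := Submodule.mkQ_surjective K m
    intro hm
    refine (Submodule.Quotient.mk_eq_zero K).2 (mem_tors.2 fun f hf => ?_)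
    obtain ⟨k, hk⟩ := mem_tors.1 hm f hf
    obtain ⟨l, hl⟩ := mem_tors.1 ((Submodule.Quotient.mk_eq_zero K).1 ((map_smul K.mkQ (f ^ k) x).trans hk)) f hf
    exact ⟨l + k, by rw [pow_add, mul_smul]; exact hl⟩
  · refine (shortExact_sh (uni fs) hS).isIso_g_iff.2 ((IsZero.iff_id_eq_zero _).2 ?_)
    refine Scheme.Modules.hom_ext _ _ fun V => ?_
    refine ConcreteCategory.hom_ext _ _ fun x => ?_
    have hle : (uni fs).ι ''ᵁ V ≤ uni fs :=
      ((uni fs).ι.image_le_opensRange V).trans (Scheme.Opens.opensRange_ι _).le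
    refine sec_eq_zero (ModuleCat.of R K) (fun k => ?_) x
    rw [← res_toSec (ModuleCat.of R K) hle k, (toSec_eq_zero_iff (ModuleCat.of R K) rfl k).2
      (mem_tors.2 fun f hf => hKt f hf k), map_zero]
  · obtain ⟨w, hK⟩ := exists_shortExact ι π Subtype.val_injective (Submodule.mkQ_surjective _)
      (LinearMap.exact_subtype_mkQ K) fs
    have h1 := (hK.homology_exact₂ ((q + 1 : ℕ) : ℤ)).mono_g
      ((isZero_E_of_torsion hKt q).eq_of_src _ _)
    have h2 := (hK.homology_exact₃ ((q + 1 : ℕ) : ℤ) ((q + 1 + 1 : ℕ) : ℤ) (by simp)).epi_f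
      ((isZero_E_of_torsion hKt (q + 1)).eq_of_tgt _ _)
    haveI : IsIso (HomologicalComplex.homologyMap (cechMap π fs) ((q + 1 : ℕ) : ℤ)) :=
      @isIso_of_mono_of_epi _ _ _ _ _ _ h1 h2
    exact ⟨(asIso (HomologicalComplex.homologyMap (cechMap π fs) ((q + 1 : ℕ) : ℤ))).toLinearEquiv.toAddEquiv⟩

/-- The kernel of the restriction is the zeroth cohomology. -/
theorem nonempty_ker (M : ModuleCat.{u} R) :
    Nonempty (LinearMap.ker (toSec M (utop fs)) ≃+ E fs M 0) := by
  obtain ⟨e⟩ := nonempty_E_zero fs M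
  have h : LinearMap.ker (toSec M (utop fs)) = tors fs M :=
    Submodule.ext fun m => toSec_eq_zero_iff M (utop_eq fs) m
  exact ⟨(LinearEquiv.ofEq _ _ h).toAddEquiv.trans e.symm⟩

/-- The cokernel of the restriction is the first cohomology. -/
theorem nonempty_coker (M : ModuleCat.{u} R) :
    Nonempty ((sec M (utop fs) ⧸ LinearMap.range (toSec M (utop fs))) ≃+ E fs M 1) := by
  obtain ⟨M', π, hπ, hM', hiso, hE⟩ := exists_torsionFree fs M
  obtain ⟨S, hS1, hS, hP, -, hPE⟩ := exists_presentation fs M' hM'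
  subst hS1
  obtain ⟨eE⟩ := hE 0
  obtain ⟨eδ⟩ := nonempty_E_shift fs hS hPE 0
  obtain ⟨e0'⟩ := nonempty_E_zero fs S.X₃
  have hb : Function.Bijective (secMap π (utop fs)) :=
    ConcreteCategory.bijective_of_isIso (((sh (uni fs)).map π).app ⊤)
  let eP := LinearEquiv.ofBijective _ hP
  let w : sec M (utop fs) →ₗ[R] S.X₃ := S.g.hom ∘ₗ eP.symm.toLinearMap ∘ₗ
    secMap S.f (utop fs) ∘ₗ secMap π (utop fs)
  obtain ⟨hfi, hfe⟩ := secMap_exact hS (utop fs)
  haveI := hS.mono_f
  haveI := hS.epi_g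
  have hgf := (ShortComplex.ShortExact.moduleCat_exact_iff_function_exact _).1 hS.exact
  have hker : LinearMap.range (toSec M (utop fs)) = LinearMap.ker w := by
    refine le_antisymm ?_ fun s hs => ?_
    · rintro _ ⟨m, rfl⟩
      show S.g.hom (eP.symm (secMap S.f (utop fs) (secMap π (utop fs) (toSec M (utop fs) m)))) = 0
      rw [secMap_toSec, secMap_toSec, show eP.symm (toSec S.X₂ (utop fs) _) = _ from eP.symm_apply_apply _]
      exact hgf.apply_apply_eq_zero _
    · obtain ⟨m', hm'⟩ := (hgf _).1 (LinearMap.mem_ker.1 hs)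
      obtain ⟨m, rfl⟩ := hπ m'
      refine ⟨m, hb.1 (hfi ?_)⟩
      rw [secMap_toSec, secMap_toSec, hm']
      exact eP.apply_symm_apply _
  have hran : LinearMap.range w = tors fs S.X₃ := by
    refine le_antisymm ?_ fun x hx => ?_
    · rintro _ ⟨s, rfl⟩
      refine (toSec_eq_zero_iff S.X₃ (utop_eq fs) _).1 ?_
      show toSec S.X₃ (utop fs) (S.g.hom (eP.symm _)) = 0
      rw [← secMap_toSec, show toSec S.X₂ (utop fs) (eP.symm _) = _ from eP.apply_symm_apply _, LinearMap.comp_apply,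
        ← secMap_comp S.f S.g, S.zero, secMap_zero]
      rfl
    · obtain ⟨y, rfl⟩ := (ModuleCat.epi_iff_surjective S.g).1 inferInstance x
      obtain ⟨s', hs'⟩ := hfe (toSec S.X₂ (utop fs) y)
        ((secMap_toSec _ _ _).trans ((toSec_eq_zero_iff S.X₃ (utop_eq fs) _).2 hx))
      obtain ⟨s, rfl⟩ := hb.2 s'
      refine ⟨s, congrArg S.g.hom ?_⟩
      show eP.symm (secMap S.f (utop fs) (secMap π (utop fs) s)) = y
      rw [hs']
      exact eP.symm_apply_apply y
  exact ⟨((((Submodule.quotEquivOfEq _ _ hker).trans w.quotKerEquivRange).trans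
    (LinearEquiv.ofEq _ _ hran)).toAddEquiv.trans e0'.symm).trans (eδ.trans eE.symm)⟩
where
  secMap_zero {M N : ModuleCat.{u} R} {W : (Spec R).Opens} : secMap (0 : M ⟶ N) W = 0 := by
    have h := secMap_add (0 : M ⟶ N) 0 W
    rw [add_zero, left_eq_add] at h
    exact h

/-- Cohomology of an isomorphism of restrictions. -/
noncomputable def Hequiv (U : (Spec R).Opens) {M N : ModuleCat.{u} R} (π : M ⟶ N) (h : IsIso ((sh U).map π)) (p : ℕ) :
    H U M p ≃+ H U N p :=
  haveI := h
  ((Sheaf.functorH (Opens.grothendieckTopology (U : Scheme.{u})) p).mapIso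
    ((QCoh.toAbFunctor (U : Scheme.{u})).mapIso (asIso ((sh U).map π)))).addCommGroupIsoToAddEquiv

/-- The higher cohomology of the union is the extended Čech cohomology, shifted by one. -/
theorem nonempty_higher : ∀ (q : ℕ) (M : ModuleCat.{u} R),
    Nonempty (H (uni fs) M (q + 1) ≃+ E fs M (q + 2)) := by
  intro q
  induction q with
  | zero =>
    intro M
    obtain ⟨M', π, hπ, hM', hiso, hE⟩ := exists_torsionFree fs M
    obtain ⟨S, hS1, hS, hP, hPH, hPE⟩ := exists_presentation fs M' hM'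
    subst hS1
    obtain ⟨eE⟩ := hE 1
    obtain ⟨eδ⟩ := nonempty_E_shift fs hS hPE 1
    obtain ⟨ec⟩ := nonempty_coker fs S.X₃
    have eM := Hequiv (uni fs) π hiso 1
    have hT := QCoh.toAb_shortExact (shortExact_sh (uni fs) hS)
    let a : sec S.X₃ (utop fs) →+ H (uni fs) S.X₁ 1 :=
      (QCoh.Ab.connecting (X := ((uni fs) : Scheme.{u}).toPresheafedSpace.carrier) hT 0).comp
        (e0 (uni fs) S.X₃).symm.toAddMonoidHom
    have ha : Function.Surjective a :=
      (QCoh.Ab.connecting_surjective (X := ((uni fs) : Scheme.{u}).toPresheafedSpace.carrier) hT 0 (hPH 0)).comp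
        (e0 (uni fs) S.X₃).symm.surjective
    haveI := hS.epi_g
    obtain ⟨ea⟩ := QCoh.Ab.nonempty_addEquiv_of_surjective a (LinearMap.range (toSec S.X₃ (utop fs))).mkQ.toAddMonoidHom
      ha (Submodule.mkQ_surjective _) fun s => by
        refine (QCoh.Ab.connecting_eq_zero_iff (X := ((uni fs) : Scheme.{u}).toPresheafedSpace.carrier) hT 0
          ((e0 (uni fs) S.X₃).symm s)).trans (Iff.trans ?_ (Submodule.Quotient.mk_eq_zero _).symm)
        constructor
        · rintro ⟨y, hy⟩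
          obtain ⟨m, hm⟩ := hP.2 (e0 (uni fs) S.X₂ y)
          refine ⟨S.g.hom m, ?_⟩
          rw [← secMap_toSec, hm, ← e0_natural]
          exact (congrArg (e0 (uni fs) S.X₃) hy).trans (AddEquiv.apply_symm_apply _ _)
        · rintro ⟨x, rfl⟩
          obtain ⟨m, rfl⟩ := (ModuleCat.epi_iff_surjective S.g).1 inferInstance x
          refine ⟨(e0 (uni fs) S.X₂).symm (toSec S.X₂ (utop fs) m), (e0 (uni fs) S.X₃).injective ?_⟩
          refine (e0_natural (uni fs) S.g _).trans ?_
          rw [AddEquiv.apply_symm_apply, AddEquiv.apply_symm_apply, secMap_toSec]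
    exact ⟨((eM.trans ea).trans ec).trans (eδ.trans eE.symm)⟩
  | succ q ih =>
    intro M
    obtain ⟨M', π, hπ, hM', hiso, hE⟩ := exists_torsionFree fs M
    obtain ⟨S, hS1, hS, hP, hPH, hPE⟩ := exists_presentation fs M' hM'
    subst hS1
    obtain ⟨eE⟩ := hE (q + 2)
    obtain ⟨eδ⟩ := nonempty_E_shift fs hS hPE (q + 2)
    obtain ⟨eq'⟩ := ih S.X₃
    have eM := Hequiv (uni fs) π hiso (q + 2)
    have hT := QCoh.toAb_shortExact (shortExact_sh (uni fs) hS)
    let ec : H (uni fs) S.X₃ (q + 1) ≃+ H (uni fs) S.X₁ (q + 2) :=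
      AddEquiv.ofBijective _ (QCoh.Ab.connecting_bijective (X := ((uni fs) : Scheme.{u}).toPresheafedSpace.carrier)
        hT (q + 1) (hPH q) (hPH (q + 1)))
    exact ⟨((eM.trans ec.symm).trans eq').trans (eδ.trans eE.symm)⟩

end Main

end Groth.Agent.Lib.KoszulSheaf
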