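import Groth.Agent.Lib.UnitDescent
import Groth.Agent.InvX.Pullback
import Groth.Agent.InvX.GenLocusPull
import Groth.Agent.InvX.Tensor

/-!
An invertible module through frames and their transition units evaluated at points.
-/

set_option autoImplicit false
set_option backward.isDefEq.respectTransparency false
set_option backward.isDefEq.respectTransparency.types false

universe u

open CategoryTheory CategoryTheory.Limits AlgebraicGeometry TopologicalSpace Opposite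

noncomputable section

namespace Groth.Agent.FramesTrans

open Groth.Agent.AModX Groth.Agent.InvX Groth.Agent.UnitDescent

variable {X X' : Scheme.{u}}

/-- A family of frames around all points. -/
structure Frames (L : X.Modules) where
  /-- The opens. -/
  U : X → X.Opens
  mem : ∀ p, p ∈ U p
  /-- The frames. -/
  e : ∀ p, Γ(L, U p)
  he : ∀ p, IsFrame (e p)

theorem nonempty_frames {L : X.Modules} (hL : PicF.IsInvertible L) : Nonempty (Frames L) := by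
  choose U hU e he using exists_frame hL
  exact ⟨⟨U, hU, e, he⟩⟩

/-- Two frames differ by a unit. -/
theorem exists_unit {M : X.Modules} {U U' : X.Opens} {e : Γ(M, U)} {e' : Γ(M, U')} (he : IsFrame e)
    (he' : IsFrame e') :
    ∃ g : Γ(X, U ⊓ U')ˣ, res M inf_le_right e' = (g : Γ(X, U ⊓ U')) • res M inf_le_left e := by
  obtain ⟨c, hc⟩ := he.exists_coord inf_le_left (res M (inf_le_right : U ⊓ U' ≤ U') e')
  obtain ⟨d, hd⟩ := he'.exists_coord inf_le_right (res M (inf_le_left : U ⊓ U' ≤ U) e)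
  have h1 : d * c = 1 := he.coord_unique inf_le_left
    ((mul_smul _ _ _).trans ((congrArg (d • ·) hc.symm).trans (hd.symm.trans (one_smul _ _).symm)))
  exact ⟨⟨c, d, by rw [mul_comm]; exact h1, h1⟩, hc⟩

/-- The transition unit between two frames. -/
def tr {M : X.Modules} {U U' : X.Opens} {e : Γ(M, U)} {e' : Γ(M, U')} (he : IsFrame e) (he' : IsFrame e') :
    Γ(X, U ⊓ U')ˣ := (exists_unit he he').choose

theorem tr_spec {M : X.Modules} {U U' : X.Opens} {e : Γ(M, U)} {e' : Γ(M, U')} (he : IsFrame e) (he' : IsFrame e')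
    {W : X.Opens} (h : W ≤ U) (h' : W ≤ U') :
    res M h' e' = resR (le_inf h h') (tr he he' : Γ(X, U ⊓ U')) • res M h e := by
  have := congrArg (res M (le_inf h h' : W ≤ U ⊓ U')) (exists_unit he he').choose_spec
  rwa [res_smul, res_res, res_res] at this

/-- A transition unit at a point is determined by its defining property. -/
theorem ev_eq {Z : Scheme.{u}} (x : Z ⟶ X) {W : X.Opens} (hx : (⊤ : Z.Opens) ≤ x ⁻¹ᵁ W) {V : X.Opens}
    (h : W ≤ V) (g : Γ(X, V)ˣ) (c : Γ(X, W)ˣ) (hc : (c : Γ(X, W)) = resR h (g : Γ(X, V))) :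
    ev x hx c = ev x (hx.trans (x.preimage_mono h)) g := by
  rw [← ev_res x h hx g]
  exact congrArg (ev x hx) (Units.ext hc)

variable {L : X.Modules} (F : Frames L)

/-- The transition at a point. -/
def τ {Z : Scheme.{u}} (x : Z ⟶ X) (a b : X) (ha : (⊤ : Z.Opens) ≤ x ⁻¹ᵁ F.U a) (hb : (⊤ : Z.Opens) ≤ x ⁻¹ᵁ F.U b) :
    Γ(Z, ⊤)ˣ :=
  ev x (U := F.U a ⊓ F.U b) (fun z _ => ⟨ha (Set.mem_univ z), hb (Set.mem_univ z)⟩)
    (tr (F.he a) (F.he b))

theorem uP_τ {Z W : Scheme.{u}} (y : W ⟶ Z) (x : Z ⟶ X) (a b : X) (ha : (⊤ : Z.Opens) ≤ x ⁻¹ᵁ F.U a)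
    (hb : (⊤ : Z.Opens) ≤ x ⁻¹ᵁ F.U b) :
    uP y (τ F x a b ha hb) = τ F (y ≫ x) a b (fun _ _ => ha trivial) (fun _ _ => hb trivial) :=
  uP_ev y x _ _

theorem τ_trans {Z : Scheme.{u}} (x : Z ⟶ X) (a b c : X) (ha : (⊤ : Z.Opens) ≤ x ⁻¹ᵁ F.U a)
    (hb : (⊤ : Z.Opens) ≤ x ⁻¹ᵁ F.U b) (hc : (⊤ : Z.Opens) ≤ x ⁻¹ᵁ F.U c) :
    τ F x a b ha hb * τ F x b c hb hc = τ F x a c ha hc := by
  let W := F.U a ⊓ F.U b ⊓ F.U c
  have hW : (⊤ : Z.Opens) ≤ x ⁻¹ᵁ W := fun _ _ => ⟨⟨ha trivial, hb trivial⟩, hc trivial⟩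
  have wa : W ≤ F.U a := inf_le_left.trans inf_le_left
  have wb : W ≤ F.U b := inf_le_left.trans inf_le_right
  have wc : W ≤ F.U c := inf_le_right
  let g : ∀ p q : X, W ≤ F.U p → W ≤ F.U q → Γ(X, W)ˣ := fun p q hp hq =>
    Units.map (resR (le_inf hp hq)).toMonoidHom (tr (F.he p) (F.he q))
  have key : g a b wa wb * g b c wb wc = g a c wa wc := Units.ext ((F.he a).coord_unique wa (by
    show (resR (le_inf wa wb) (tr (F.he a) (F.he b) : Γ(X, F.U a ⊓ F.U b)) *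
      resR (le_inf wb wc) (tr (F.he b) (F.he c) : Γ(X, F.U b ⊓ F.U c))) • res L wa (F.e a) =
      resR (le_inf wa wc) (tr (F.he a) (F.he c) : Γ(X, F.U a ⊓ F.U c)) • res L wa (F.e a)
    rw [← tr_spec (F.he a) (F.he c) wa wc, tr_spec (F.he b) (F.he c) wb wc, tr_spec (F.he a) (F.he b) wa wb,
      smul_smul, mul_comm]))
  have := congrArg (ev x hW) key
  rw [map_mul, ev_eq x hW (le_inf wa wb) _ (g a b wa wb) rfl, ev_eq x hW (le_inf wb wc) _ (g b c wb wc) rfl,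
    ev_eq x hW (le_inf wa wc) _ (g a c wa wc) rfl] at this
  exact this

theorem τ_self {Z : Scheme.{u}} (x : Z ⟶ X) (a : X) (ha : (⊤ : Z.Opens) ≤ x ⁻¹ᵁ F.U a) : τ F x a a ha ha = 1 :=
  mul_eq_left.1 (τ_trans F x a a a ha ha ha)

theorem τ_symm {Z : Scheme.{u}} (x : Z ⟶ X) (a b : X) (ha : (⊤ : Z.Opens) ≤ x ⁻¹ᵁ F.U a)
    (hb : (⊤ : Z.Opens) ≤ x ⁻¹ᵁ F.U b) : τ F x b a hb ha = (τ F x a b ha hb)⁻¹ :=
  eq_inv_of_mul_eq_one_right ((τ_trans F x a b a ha hb ha).trans (τ_self F x a ha))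

theorem pullElt_res (r : X' ⟶ X) {M : X.Modules} {U V : X.Opens} (h : V ≤ U) (s : Γ(M, U)) :
    pullElt r (res M h s) = res _ (r.preimage_mono h) (pullElt r s) :=
  app_res ((Scheme.Modules.pullbackPushforwardAdjunction r).unit.app M) h s

theorem pullElt_smul (r : X' ⟶ X) {M : X.Modules} {U : X.Opens} (c : Γ(X, U)) (s : Γ(M, U)) :
    pullElt r (c • s) = (r.app U c) • pullElt r s :=
  Scheme.Modules.Hom.app_smul ((Scheme.Modules.pullbackPushforwardAdjunction r).unit.app M) c s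

/-- A pulled back frame changes by the pulled back transition. -/
theorem pull_tr (r : X' ⟶ X) (a b : X) {W : X'.Opens} (ha : W ≤ r ⁻¹ᵁ F.U a) (hb : W ≤ r ⁻¹ᵁ F.U b) :
    res _ hb (pullElt r (F.e b)) =
      (r.appLE (F.U a ⊓ F.U b) W (le_inf ha hb)).hom (tr (F.he a) (F.he b) : Γ(X, F.U a ⊓ F.U b)) •
        res _ ha (pullElt r (F.e a)) := by
  have h := congrArg (fun s => res ((Scheme.Modules.pullback r).obj L)
    (show W ≤ r ⁻¹ᵁ (F.U a ⊓ F.U b) from le_inf ha hb) (pullElt r s))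
    (exists_unit (F.he a) (F.he b)).choose_spec
  simp only [pullElt_res, pullElt_smul, res_smul, res_res] at h
  exact h

/-- An isomorphism onto the structure module gives a unit in each frame. -/
theorem exists_coord_unit {Y : Scheme.{u}} {N : Y.Modules} (θ : N ≅ Coh.structureModule Y) {U : Y.Opens}
    {e : Γ(N, U)} (he : IsFrame e) :
    ∃ h : Γ(Y, U)ˣ, (show Γ(Y, U) from θ.hom.app U e) = h := by
  obtain ⟨d, hd⟩ := (he.map_iso θ).exists_coord le_rfl (show Γ(Coh.structureModule Y, U) from (1 : Γ(Y, U)))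
  rw [res_self] at hd
  let c : Γ(Y, U) := θ.hom.app U e
  have h1 : d * c = 1 := hd.symm
  exact ⟨⟨c, d, by rw [mul_comm]; exact h1, h1⟩, rfl⟩

variable (r : X' ⟶ X) (θ : (Scheme.Modules.pullback r).obj L ≅ Coh.structureModule X')

/-- A trivialisation of a pullback in a frame. -/
def co (a : X) : Γ(X', r ⁻¹ᵁ F.U a)ˣ :=
  (exists_coord_unit θ (isFrame_pullElt r (F.he a))).choose

/-- A trivialisation of a pullback in a frame at a point. -/
def coAt {Z : Scheme.{u}} (y : Z ⟶ X') (a : X) (hy : (⊤ : Z.Opens) ≤ (y ≫ r) ⁻¹ᵁ F.U a) : Γ(Z, ⊤)ˣ :=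
  ev y (U := r ⁻¹ᵁ F.U a) hy (co F r θ a)

theorem uP_coAt {Z W : Scheme.{u}} (m : W ⟶ Z) (y : Z ⟶ X') (a : X) (hy : (⊤ : Z.Opens) ≤ (y ≫ r) ⁻¹ᵁ F.U a) :
    uP m (coAt F r θ y a hy) = coAt F r θ (m ≫ y) a (fun _ _ => hy trivial) :=
  uP_ev m y _ _

theorem coAt_change {Z : Scheme.{u}} (y : Z ⟶ X') (a b : X)
    (hy : (⊤ : Z.Opens) ≤ (y ≫ r) ⁻¹ᵁ F.U a) (hy' : (⊤ : Z.Opens) ≤ (y ≫ r) ⁻¹ᵁ F.U b) :
    coAt F r θ y b hy' = τ F (y ≫ r) a b hy hy' * coAt F r θ y a hy := by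
  let W : X'.Opens := r ⁻¹ᵁ F.U a ⊓ r ⁻¹ᵁ F.U b
  have hW : (⊤ : Z.Opens) ≤ y ⁻¹ᵁ W := fun _ _ => ⟨hy trivial, hy' trivial⟩
  let ha' : Γ(X', W)ˣ := Units.map (resR (inf_le_left : W ≤ _)).toMonoidHom (co F r θ a)
  let hb' : Γ(X', W)ˣ := Units.map (resR (inf_le_right : W ≤ _)).toMonoidHom (co F r θ b)
  let g : Γ(X', W)ˣ := Units.map (r.appLE (F.U a ⊓ F.U b) W le_rfl).hom.toMonoidHom (tr (F.he a) (F.he b))
  have key : hb' = g * ha' := by
    have h1 := congrArg (θ.hom.app W) (pull_tr F r a b (W := W) inf_le_left inf_le_right)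
    rw [Scheme.Modules.Hom.app_smul, app_res, app_res] at h1
    refine Units.ext ?_
    show resR inf_le_right (co F r θ b : Γ(X', _)) = (g : Γ(X', W)) * resR inf_le_left (co F r θ a : Γ(X', _))
    have ea := (exists_coord_unit θ (isFrame_pullElt r (F.he a))).choose_spec
    have eb := (exists_coord_unit θ (isFrame_pullElt r (F.he b))).choose_spec
    refine (congrArg (resR _) eb.symm).trans (h1.trans ?_)
    exact congrArg ((g : Γ(X', W)) * ·) (congrArg (resR _) ea)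
  have hev := congrArg (ev y hW) key
  rw [map_mul, ev_eq y hW (inf_le_left : W ≤ r ⁻¹ᵁ F.U a) _ ha' rfl,
    ev_eq y hW (inf_le_right : W ≤ r ⁻¹ᵁ F.U b) _ hb' rfl] at hev
  refine hev.trans (congrArg (· * _) ?_)
  exact Units.ext (ConcreteCategory.congr_hom (Scheme.Hom.appLE_comp_appLE y r (F.U a ⊓ F.U b) W ⊤ le_rfl hW)
    (tr (F.he a) (F.he b) : Γ(X, F.U a ⊓ F.U b)))

end Groth.Agent.FramesTrans
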