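import Groth.Agent.Snapper.Multi
import Groth.Agent.Snapper.IsoOn
import Groth.Agent.SeesawX.Glue
import Groth.Agent.H23.Frame

/-!
Growth of the cohomology of twists: the cohomology of twists by several invertible modules of a coherent
module grows at most like the power of the total exponent given by the dimension of the support, and
changes little when one exponent is raised.
-/

set_option autoImplicit false
set_option linter.style.haveILetI false
set_option linter.unusedSectionVars false
set_option backward.isDefEq.respectTransparency false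
set_option backward.isDefEq.respectTransparency.types false

universe u

open CategoryTheory CategoryTheory.Limits AlgebraicGeometry TopologicalSpace Opposite
open Groth.Agent.PnCoh.Finite (mapLin deltaLin)

noncomputable section

namespace Groth.Agent.CohGrowth

open Groth.Agent Groth.Agent.Snapper

section Nums

/-- The allowed growth below dimension `d`. -/
def w (d s : ℕ) : ℕ := if d = 0 then 0 else (s + 1) ^ (d - 1)

theorem w_succ (d s : ℕ) : w (d + 1) s = (s + 1) ^ d := by simp [w]

theorem w_mono {d s t : ℕ} (h : s ≤ t) : w d s ≤ w d t := by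
  unfold w
  split_ifs
  · exact le_rfl
  · exact Nat.pow_le_pow_left (by omega) _

theorem mul_w_le (d s : ℕ) : s * w d s ≤ (s + 1) ^ d := by
  rcases d with _ | d
  · simp [w]
  · rw [w_succ, pow_succ']
    exact Nat.mul_le_mul_right _ (Nat.le_succ s)

theorem w_le_succ (d s : ℕ) : w d s ≤ w (d + 1) s := by
  rcases d with _ | d
  · simp [w]
  · rw [w_succ, w_succ, pow_succ']
    exact Nat.le_mul_of_pos_left _ (Nat.succ_pos s)

variable {r : ℕ}

/-- Bounded by the allowed growth. -/
def IsBdd (d : ℕ) (f : (Fin r → ℕ) → ℕ) : Prop := ∃ C, ∀ n, f n ≤ C * w d (∑ i, n i)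

theorem IsBdd.mono {d : ℕ} {f g : (Fin r → ℕ) → ℕ} (h : IsBdd d g) (hle : ∀ n, f n ≤ g n) : IsBdd d f :=
  let ⟨C, hC⟩ := h; ⟨C, fun n => (hle n).trans (hC n)⟩

theorem IsBdd.add {d : ℕ} {f g : (Fin r → ℕ) → ℕ} (h : IsBdd d f) (h' : IsBdd d g) :
    IsBdd d fun n => f n + g n :=
  let ⟨C, hC⟩ := h; let ⟨C', hC'⟩ := h'
  ⟨C + C', fun n => by rw [add_mul]; exact Nat.add_le_add (hC n) (hC' n)⟩

theorem IsBdd.succ {d : ℕ} {f : (Fin r → ℕ) → ℕ} (h : IsBdd d f) : IsBdd (d + 1) f :=
  let ⟨C, hC⟩ := h; ⟨C, fun n => (hC n).trans (Nat.mul_le_mul_left C (w_le_succ d _))⟩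

theorem isBdd_of_eq_zero {d : ℕ} {f : (Fin r → ℕ) → ℕ} (h : ∀ n, f n = 0) : IsBdd d f :=
  ⟨0, fun n => by simp [h n]⟩

theorem sum_update (n : Fin r → ℕ) (i : Fin r) :
    ∑ l, Function.update n i (n i + 1) l = (∑ l, n l) + 1 := by
  rw [Finset.sum_update_of_mem (Finset.mem_univ i), ← Finset.add_sum_erase _ n (Finset.mem_univ i),
    Finset.sdiff_singleton_eq_erase]
  omega

/-- Small steps give growth one degree up. -/
theorem isBdd_of_step {d : ℕ} (f : (Fin r → ℕ) → ℕ)
    (h : ∀ i, IsBdd d fun n => Nat.dist (f (Function.update n i (n i + 1))) (f n)) : IsBdd (d + 1) f := by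
  classical
  choose C hC using h
  let c := ∑ i, C i
  have key : ∀ s, ∀ n : Fin r → ℕ, ∑ i, n i = s → f n ≤ f 0 + s * (c * w d s) := by
    intro s
    induction s with
    | zero =>
      intro n hn
      rw [show n = 0 from funext fun i => (Finset.sum_eq_zero_iff.1 hn) i (Finset.mem_univ i)]
      exact Nat.le_add_right _ _
    | succ s ih =>
      intro n hn
      obtain ⟨i, -, hi⟩ := Finset.exists_ne_zero_of_sum_ne_zero (s := Finset.univ) (f := n) (by omega)
      let m := Function.update n i (n i - 1)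
      have hn' : Function.update m i (m i + 1) = n := by
        simp only [m, Function.update_self, Function.update_idem]
        rw [Nat.sub_add_cancel (Nat.one_le_iff_ne_zero.2 hi), Function.update_eq_self]
      have hm : ∑ l, m l = s := by
        have := sum_update m i
        rw [hn', hn] at this
        omega
      have h1 : Nat.dist (f (Function.update m i (m i + 1))) (f m) ≤ C i * w d (∑ l, m l) := hC i m
      rw [hn', hm, Nat.dist] at h1
      have h2 := ih m hm
      have h3 : C i * w d s ≤ c * w d (s + 1) :=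
        Nat.mul_le_mul (Finset.single_le_sum (fun l _ => Nat.zero_le _) (Finset.mem_univ i)) (w_mono (Nat.le_succ s))
      have h4 : s * (c * w d s) ≤ s * (c * w d (s + 1)) :=
        Nat.mul_le_mul_left _ (Nat.mul_le_mul_left _ (w_mono (Nat.le_succ s)))
      rw [Nat.succ_mul]
      omega
  refine ⟨f 0 + c, fun n => (key _ n rfl).trans ?_⟩
  rw [w_succ, add_mul]
  refine Nat.add_le_add (Nat.le_mul_of_pos_right _ (pow_pos (Nat.succ_pos _) _)) ?_
  rw [mul_left_comm]
  exact Nat.mul_le_mul_left c (mul_w_le _ _)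

end Nums

section LES

variable (k : Type u) [Field k] {X : Scheme.{u}} [X.Over (Spec (CommRingCat.of k))]
  [IsProper (X ↘ Spec (CommRingCat.of k))] {S : ShortComplex X.Modules}

variable (hS : S.ShortExact) (h1 : Coh.IsCoh S.X₁) (h2 : Coh.IsCoh S.X₂) (h3 : Coh.IsCoh S.X₃)

include hS h1 h2 h3

/-- The first term. -/
theorem finrank_left_le (j : ℕ) : Module.finrank k (Coh.HH X S.X₁ j) ≤
    Module.finrank k (Coh.HH X S.X₂ j) + Module.finrank k (Coh.HH X S.X₃ (j - 1)) := by
  haveI := S0002.result k X S.X₁ h1 j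
  haveI := S0002.result k X S.X₂ h2 j
  have e := (mapLin k S.f j).finrank_range_add_finrank_ker
  have hr := Submodule.finrank_le (LinearMap.range (mapLin k S.f j))
  rcases j with _ | j
  · rw [Euler.ker_mapLin_f_zero k hS, finrank_bot] at e
    omega
  · haveI := S0002.result k X S.X₃ h3 j
    rw [← Euler.range_deltaLin k hS j] at e
    have := LinearMap.finrank_range_le (deltaLin k hS j)
    rw [Nat.add_sub_cancel]
    omega

/-- The last term. -/
theorem finrank_right_le (j : ℕ) : Module.finrank k (Coh.HH X S.X₃ j) ≤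
    Module.finrank k (Coh.HH X S.X₂ j) + Module.finrank k (Coh.HH X S.X₁ (j + 1)) := by
  haveI := S0002.result k X S.X₁ h1 (j + 1)
  haveI := S0002.result k X S.X₂ h2 j
  haveI := S0002.result k X S.X₃ h3 j
  have e := (deltaLin k hS j).finrank_range_add_finrank_ker
  rw [← Euler.range_mapLin_g k hS j] at e
  have := LinearMap.finrank_range_le (mapLin k S.g j)
  have := Submodule.finrank_le (LinearMap.range (deltaLin k hS j))
  omega

/-- The middle term. -/
theorem finrank_mid_le' (j : ℕ) : Module.finrank k (Coh.HH X S.X₂ j) ≤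
    Module.finrank k (Coh.HH X S.X₁ j) + Module.finrank k (Coh.HH X S.X₃ j) := by
  haveI := S0002.result k X S.X₁ h1 j
  haveI := S0002.result k X S.X₂ h2 j
  haveI := S0002.result k X S.X₃ h3 j
  have e := (mapLin k S.g j).finrank_range_add_finrank_ker
  rw [← Euler.range_mapLin_f k hS j] at e
  have := Submodule.finrank_le (LinearMap.range (mapLin k S.g j))
  have := LinearMap.finrank_range_le (mapLin k S.f j)
  omega

end LES

section Twists

variable (k : Type u) [Field k] {X : Scheme.{u}} [X.Over (Spec (CommRingCat.of k))]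
  [IsProper (X ↘ Spec (CommRingCat.of k))] {r : ℕ} {L : Fin r → X.Modules}

/-- The dimensions of the cohomology of the twists. -/
def hgt (L : Fin r → X.Modules) (j : ℕ) (M : X.Modules) : (Fin r → ℕ) → ℕ :=
  fun n => Module.finrank k (Coh.HH X (Curv2.tensorPows M r L n) j)

theorem hgt_congr {A B : X.Modules} (e : A ≅ B) (j : ℕ) (n : Fin r → ℕ) : hgt k L j A n = hgt k L j B n :=
  (CurveCohLib.hhEquiv (k := k) (tensorPows_congr L n e).some j).finrank_eq

theorem hgt_eq_zero (hL : ∀ i, PicF.IsInvertible (L i)) {M : X.Modules} (hM : Coh.IsCoh M)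
    (h : CohB1.support M = ∅) (j : ℕ) (n : Fin r → ℕ) : hgt k L j M n = 0 := by
  haveI := CurveCohLib.isNoetherian_of_proper (k := k) (X := X)
  have hz : IsZero (Curv2.tensorPows M r L n) := CurveCohLib.isZero_of_subsingleton_stalks fun x =>
    not_not.1 fun hx => (h ▸ support_tensorPows_subset L hL n hM hx : x ∈ (∅ : Set X))
  haveI := Euler.subsingleton_HH_of_isZero hz j
  exact Module.finrank_zero_of_subsingleton

/-- A map changes the dimensions by at most those of its kernel and cokernel. -/
theorem dist_map_le (hL : ∀ i, PicF.IsInvertible (L i)) {A B : X.Modules} (hA : Coh.IsCoh A) (hB : Coh.IsCoh B)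
    (φ : A ⟶ B) (j : ℕ) (n : Fin r → ℕ) :
    Nat.dist (hgt k L j A n) (hgt k L j B n) ≤ hgt k L j (kernel φ) n + hgt k L (j + 1) (kernel φ) n +
      (hgt k L j (cokernel φ) n + hgt k L (j - 1) (cokernel φ) n) := by
  haveI := CurveCohLib.isNoetherian_of_proper (k := k) (X := X)
  have hK := QCoh.isCoh_kernel hA hB φ
  have hC := QCoh.isCoh_cokernel hA.1 hB φ
  have hI : Coh.IsCoh (Abelian.image φ) :=
    QCoh.isCoh_of_epi (Abelian.factorThruImage φ) hA (QCoh.isQCoh_kernel hB.1 hC.1 _)
  obtain ⟨hK', hA', hI', f, g, w₁, hS₁⟩ := cohSES_tensorPows L hL n (A := kernel φ) (B := A) (C := Abelian.image φ)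
    ⟨hK, hA, hI, kernel.ι φ, Abelian.factorThruImage φ,
      (cancel_mono (Abelian.image.ι φ)).1 (by rw [Category.assoc, Abelian.image.fac, kernel.condition, zero_comp]),
      { exact := ShortComplex.exact_of_f_is_kernel _ (KernelFork.IsLimit.ofι' _ _ fun {T} t ht =>
          ⟨kernel.lift φ t (by rw [← Abelian.image.fac φ, reassoc_of% ht, zero_comp]), kernel.lift_ι _ _ _⟩)
        mono_f := inferInstance
        epi_g := inferInstance }⟩
  obtain ⟨hI'', hB', hC', f', g', w₂, hS₂⟩ := cohSES_tensorPows L hL n (A := Abelian.image φ) (B := B) (C := cokernel φ)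
    ⟨hI, hB, hC, Abelian.image.ι φ, cokernel.π φ, kernel.condition _,
      { exact := ShortComplex.exact_of_f_is_kernel _ (kernelIsKernel (cokernel.π φ))
        mono_f := inferInstance
        epi_g := inferInstance }⟩
  have a1 := finrank_mid_le' k (S := ShortComplex.mk f g w₁) hS₁ hK' hA' hI' j
  have a2 := finrank_right_le k (S := ShortComplex.mk f g w₁) hS₁ hK' hA' hI' j
  have b1 := finrank_mid_le' k (S := ShortComplex.mk f' g' w₂) hS₂ hI' hB' hC' j
  have b2 := finrank_left_le k (S := ShortComplex.mk f' g' w₂) hS₂ hI' hB' hC' j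
  dsimp only at a1 a2 b1 b2
  unfold hgt Nat.dist
  omega

/-- A map which is an isomorphism over `U` changes little. -/
theorem isBdd_dist_of_isoOn (hL : ∀ i, PicF.IsInvertible (L i)) {d : ℕ} {C : Set X} {U : X.Opens}
    (IH : ∀ M : X.Modules, Coh.IsCoh M → CohB1.support M ⊆ C \ U → ∀ j, IsBdd d (hgt k L j M))
    {A B : X.Modules} (hA : Coh.IsCoh A) (hB : Coh.IsCoh B) (hAC : CohB1.support A ⊆ C)
    (hBC : CohB1.support B ⊆ C) (φ : A ⟶ B) (hφ : IsoOn U φ) (j : ℕ) :
    IsBdd d fun n => Nat.dist (hgt k L j A n) (hgt k L j B n) := by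
  haveI := CurveCohLib.isNoetherian_of_proper (k := k) (X := X)
  obtain ⟨hk, hc⟩ := support_subset_compl hφ
  obtain ⟨hk', hc'⟩ := support_sub_of_map hA hB φ
  have IK := IH _ (QCoh.isCoh_kernel hA hB φ) fun x hx => ⟨hAC (hk' hx), hk hx⟩
  have IC := IH _ (QCoh.isCoh_cokernel hA.1 hB φ) fun x hx => ⟨hBC (hc' hx), hc hx⟩
  exact (((IK j).add (IK (j + 1))).add ((IC j).add (IC (j - 1)))).mono fun n => dist_map_le k hL hA hB φ j n

/-- Two modules linked over `U` have close dimensions after tensoring with `M`. -/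
theorem isBdd_dist_of_link (hL : ∀ i, PicF.IsInvertible (L i)) {d : ℕ} {C : Set X} {U : X.Opens}
    (IH : ∀ M : X.Modules, Coh.IsCoh M → CohB1.support M ⊆ C \ U → ∀ j, IsBdd d (hgt k L j M))
    {A B K I : X.Modules} {a : K ⟶ A} {b : K ⟶ I} {c : B ⟶ I} (hA : Coh.IsCoh A) (hB : Coh.IsCoh B)
    (hK : Coh.IsCoh K) (hI : Coh.IsCoh I) (ha : IsoOn U a) (hb : IsoOn U b) (hc : IsoOn U c)
    {M : X.Modules} (hM : Coh.IsCoh M) (hMC : CohB1.support M ⊆ C) (j : ℕ) :
    IsBdd d fun n => Nat.dist (hgt k L j (CohB1.tensorMod A M) n) (hgt k L j (CohB1.tensorMod B M) n) := by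
  haveI := CurveCohLib.isNoetherian_of_proper (k := k) (X := X)
  let F := AmpleVan.tw M
  have hsupp : ∀ A, CohB1.support (F.obj A) ⊆ C := fun A => fun x hx => hMC (CurveTensor.support_tensor_subset hx)
  have hcoh : ∀ {A}, Coh.IsCoh A → Coh.IsCoh (F.obj A) := fun h => AmpleVan.isCoh_tensor h hM
  have e1 := isBdd_dist_of_isoOn k hL IH (hcoh hK) (hcoh hA) (hsupp _) (hsupp _) _ (ha.tensor M) j
  have e2 := isBdd_dist_of_isoOn k hL IH (hcoh hK) (hcoh hI) (hsupp _) (hsupp _) _ (hb.tensor M) j
  have e3 := isBdd_dist_of_isoOn k hL IH (hcoh hB) (hcoh hI) (hsupp _) (hsupp _) _ (hc.tensor M) j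
  refine ((e1.add e2).add e3).mono fun n => ?_
  show Nat.dist (hgt k L j (F.obj A) n) (hgt k L j (F.obj B) n) ≤ _
  unfold Nat.dist
  omega

/-- Raising one exponent changes little. -/
theorem isBdd_dist_bump (hL : ∀ i, PicF.IsInvertible (L i)) {d : ℕ} {C : Closeds X} {U : X.Opens} (i : Fin r)
    {e : Γ(L i, U)} (he : InvX.IsFrame e)
    (IH : ∀ M : X.Modules, Coh.IsCoh M → CohB1.support M ⊆ (C : Set X) \ U → ∀ j, IsBdd d (hgt k L j M))
    {M : X.Modules} (hM : Coh.IsCoh M) (hMC : CohB1.support M ⊆ C) (j : ℕ) :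
    IsBdd d fun n => Nat.dist (hgt k L j M (Function.update n i (n i + 1))) (hgt k L j M n) := by
  haveI := CurveCohLib.isNoetherian_of_proper (k := k) (X := X)
  obtain ⟨K, I, a, b, c, hK, hI, ha, hb, hc⟩ := exists_link_frame (hL i) he
  refine (isBdd_dist_of_link k hL IH QCoh.isCoh_structureModule' (AmpleVan.isCoh_invertible (hL i)) hK hI ha hb hc
    hM hMC j).mono fun n => ?_
  have h1 : hgt k L j (CohB1.tensorMod (Coh.structureModule X) M) n = hgt k L j M n :=
    hgt_congr k (CurveTensor.structureTensorIso M) j n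
  have h2 : hgt k L j (CohB1.tensorMod (L i) M) n = hgt k L j M (Function.update n i (n i + 1)) :=
    (CurveCohLib.hhEquiv (k := k)
      ((tensorPows_swap (L i) L n M).some ≪≫ (tensorPows_bump L n i M).some) j).finrank_eq
  rw [h1, h2, Nat.dist_comm]

/-- **The twists of a coherent module supported below dimension `d` have cohomology `O(|n|^(d-1))`.** -/
theorem isBdd_of_dim_lt (hL : ∀ i, PicF.IsInvertible (L i)) (d : ℕ) :
    ∀ (C : Closeds X), topologicalKrullDim ↥(C : Set X) < (d : WithBot ℕ∞) →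
      ∀ M : X.Modules, Coh.IsCoh M → CohB1.support M ⊆ C → ∀ j, IsBdd d (hgt k L j M) := by
  haveI := CurveCohLib.isNoetherian_of_proper (k := k) (X := X)
  have hempty : ∀ (d : ℕ) (M : X.Modules), Coh.IsCoh M → CohB1.support M = ∅ → ∀ j, IsBdd d (hgt k L j M) :=
    fun d M hM h j => isBdd_of_eq_zero fun n => hgt_eq_zero k hL hM h j n
  induction d with
  | zero =>
    intro C hC M hM hMC
    refine hempty 0 M hM (Set.eq_empty_of_forall_notMem fun x hx => ?_)
    haveI : Nonempty ↥(C : Set X) := ⟨⟨x, hMC hx⟩⟩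
    haveI : Nonempty (IrreducibleCloseds ↥(C : Set X)) :=
      ⟨⟨closure {⟨x, hMC hx⟩}, isIrreducible_singleton.closure, isClosed_closure⟩⟩
    exact absurd hC (not_lt.2 (by exact_mod_cast Order.krullDim_nonneg))
  | succ d IHd =>
    intro C
    induction C using WellFoundedLT.induction with
    | ind C IH =>
      intro hC M hM hMC j
      rcases Set.eq_empty_or_nonempty (C : Set X) with h0 | hne
      · exact hempty _ M hM (Set.subset_empty_iff.1 (h0 ▸ hMC)) j
      by_cases hirr : IsIrreducible (C : Set X)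
      · obtain ⟨η, hη⟩ := QuasiSober.sober hirr C.isClosed
        have hηC : η ∈ (C : Set X) := hη.mem
        refine isBdd_of_step _ fun i => ?_
        obtain ⟨U, hηU, e, he⟩ := InvX.exists_frame (hL i) η
        refine isBdd_dist_bump k hL i he (fun N hN hNs => IHd ⟨_, C.isClosed.sdiff U.2⟩ ?_ N hN hNs) hM hMC j
        haveI : IrreducibleSpace ↥(C : Set X) := isIrreducible_iff_irreducibleSpace.1 hirr
        let Y : Set ↥(C : Set X) := {y | (y : X) ∈ (U : Set X)ᶜ}
        have hlt := H23.TopDim.dim_lt_of_ssubset (X := ↥(C : Set X)) (fun h => by rw [h] at hC; exact not_top_lt hC)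
          (Y := Y) (U.2.isClosed_compl.preimage continuous_subtype_val)
          (fun h => (h.ge (Set.mem_univ ⟨η, hηC⟩) : η ∈ (U : Set X)ᶜ) hηU)
        have hle : topologicalKrullDim ↥((C : Set X) \ U) ≤ topologicalKrullDim ↥Y := by
          let g : ↥((C : Set X) \ U) → ↥Y := fun p => ⟨⟨p.1, p.2.1⟩, p.2.2⟩
          have hcomp : Topology.IsInducing ((Subtype.val ∘ Subtype.val : ↥Y → X) ∘ g) :=
            show Topology.IsInducing (Subtype.val : ↥((C : Set X) \ U) → X) from Topology.IsInducing.subtypeVal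
          exact ((Topology.IsInducing.subtypeVal.comp Topology.IsInducing.subtypeVal).of_comp_iff.1 hcomp).topologicalKrullDim_le
        refine lt_of_le_of_lt hle ?_
        revert hlt hC
        generalize topologicalKrullDim ↥Y = a
        generalize topologicalKrullDim ↥(C : Set X) = b
        intro hC hlt
        cases a with
        | bot => exact WithBot.bot_lt_coe _
        | coe a =>
          cases b with
          | bot => exact absurd hlt not_lt_bot
          | coe b =>
            have h1 : a < b := WithBot.coe_lt_coe.1 hlt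
            have h2 : b < ((d + 1 : ℕ) : ℕ∞) := WithBot.coe_lt_coe.1 hC
            refine WithBot.coe_lt_coe.2 (lt_of_lt_of_le h1 ?_)
            exact ENat.lt_add_one_iff (ENat.natCast_ne_top d) |>.1 (by exact_mod_cast h2)
      · obtain ⟨A, B, hA, hB, hsub, hnA, hnB⟩ : ∃ A B : Set X, IsClosed A ∧ IsClosed B ∧
            (C : Set X) ⊆ A ∪ B ∧ ¬ (C : Set X) ⊆ A ∧ ¬ (C : Set X) ⊆ B := by
          by_contra! hno
          exact hirr ⟨hne, isPreirreducible_iff_isClosed_union_isClosed.2 fun A B hA hB hs =>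
            or_iff_not_imp_left.2 fun hA' => hno A B hA hB hs hA'⟩
        let C₁ : Closeds X := ⟨(C : Set X) ∩ A, C.isClosed.inter hA⟩
        let C₂ : Closeds X := ⟨(C : Set X) ∩ B, C.isClosed.inter hB⟩
        have h1 : C₁ < C := lt_of_le_of_ne (Set.inter_subset_left : (C : Set X) ∩ A ⊆ C)
          fun h => hnA (Set.inter_eq_left.1 (congrArg (SetLike.coe) h))
        have h2 : C₂ < C := lt_of_le_of_ne (Set.inter_subset_left : (C : Set X) ∩ B ⊆ C)
          fun h => hnB (Set.inter_eq_left.1 (congrArg (SetLike.coe) h))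
        have hdim : ∀ C' : Closeds X, C' ≤ C → topologicalKrullDim ↥(C' : Set X) < ((d + 1 : ℕ) : WithBot ℕ∞) :=
          fun C' h => lt_of_le_of_lt (H23.TopDim.dim_le_dim_of_subset (show (C' : Set X) ⊆ C from h)) hC
        let U : X.Opens := ⟨(C₂ : Set X)ᶜ, C₂.isClosed.isOpen_compl⟩
        let φ := resMap U M
        have hQ : Coh.IsQCoh ((Scheme.Modules.pushforward U.ι).obj (M.restrict U.ι)) :=
          QCoh.isQCoh_pushforward U.ι (QCoh.isQCoh_restrict U.ι hM.1)
        have hco := QCoh.isQCoh_cokernel hM.1 hQ φ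
        have hI : Coh.IsCoh (Abelian.image φ) :=
          QCoh.isCoh_of_epi (Abelian.factorThruImage φ) hM (QCoh.isQCoh_kernel hQ hco _)
        have hK : Coh.IsCoh (kernel φ) := QCoh.isCoh_of_mono (kernel.ι φ) hM (QCoh.isQCoh_kernel hM.1 hQ φ)
        have b₂ := IH C₂ h2 (hdim C₂ h2.le) _ hK fun x hx =>
          not_not.1 fun hx2 => (support_subset_compl (isoOn_resMap U M)).1 hx (show x ∈ U from hx2)
        have b₁ := IH C₁ h1 (hdim C₁ h1.le) _ hI fun x hx => by
          by_contra hx1
          have hP := QCoh.mem_support_of_mono hI.1 hQ (Abelian.image.ι φ) hx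
          refine notMem_support_push (W := ⟨(C₁ : Set X)ᶜ, C₁.isClosed.isOpen_compl⟩) hx1 ?_ hP
          refine Set.disjoint_left.2 fun y hy hyM => ?_
          rcases hsub (hMC hyM) with h | h
          · exact hy.1 ⟨hMC hyM, h⟩
          · exact hy.2 ⟨hMC hyM, h⟩
        refine ((b₂ j).add (b₁ j)).mono fun n => ?_
        obtain ⟨hK', hM', hI', f, g, w₁, hS₁⟩ := cohSES_tensorPows L hL n (A := kernel φ) (B := M)
          (C := Abelian.image φ) ⟨hK, hM, hI, kernel.ι φ, Abelian.factorThruImage φ,
            (cancel_mono (Abelian.image.ι φ)).1 (by rw [Category.assoc, Abelian.image.fac, kernel.condition, zero_comp]),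
            { exact := ShortComplex.exact_of_f_is_kernel _ (KernelFork.IsLimit.ofι' _ _ fun {T} t ht =>
                ⟨kernel.lift φ t (by rw [← Abelian.image.fac φ, reassoc_of% ht, zero_comp]), kernel.lift_ι _ _ _⟩)
              mono_f := inferInstance
              epi_g := inferInstance }⟩
        exact finrank_mid_le' k (S := ShortComplex.mk f g w₁) hS₁ hK' hM' hI' j

end Twists

section Irreducible

variable (k : Type u) [Field k] {X : Scheme.{u}} [X.Over (Spec (CommRingCat.of k))]
  [IsProper (X ↘ Spec (CommRingCat.of k))] [IrreducibleSpace X] {r : ℕ} {L : Fin r → X.Modules}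

/-- Outside a non-empty open the twists are small. -/
theorem isBdd_outside (hL : ∀ i, PicF.IsInvertible (L i)) {g : ℕ} (hg : topologicalKrullDim X ≤ g)
    {U : X.Opens} (hU : (U : Set X).Nonempty) (M : X.Modules) (hM : Coh.IsCoh M)
    (hMs : CohB1.support M ⊆ Set.univ \ U) (j : ℕ) : IsBdd g (hgt k L j M) := by
  refine isBdd_of_dim_lt k hL g ⟨(U : Set X)ᶜ, U.2.isClosed_compl⟩ ?_ M hM (fun x hx => (hMs hx).2) j
  have hne : topologicalKrullDim X ≠ ⊤ := fun h => by
    rw [h] at hg
    exact absurd (top_le_iff.1 hg) (ne_of_lt (WithBot.coe_lt_coe.2 (ENat.natCast_ne_top g).lt_top))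
  obtain ⟨x, hx⟩ := hU
  exact (H23.TopDim.dim_lt_of_ssubset hne U.2.isClosed_compl fun h => (h.ge (Set.mem_univ x)) hx).trans_le hg

/-- **Raising one exponent changes the cohomology by `O(|n|^(g-1))`.** -/
theorem isBdd_dist_update (hL : ∀ i, PicF.IsInvertible (L i)) {g : ℕ} (hg : topologicalKrullDim X ≤ g)
    {M : X.Modules} (hM : Coh.IsCoh M) (i : Fin r) (j : ℕ) :
    IsBdd g fun n => Nat.dist (hgt k L j M (Function.update n i (n i + 1))) (hgt k L j M n) := by
  obtain ⟨U, hηU, e, he⟩ := InvX.exists_frame (hL i) (genericPoint X)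
  exact isBdd_dist_bump k hL i he (C := ⊤)
    (fun N hN hNs => isBdd_outside k hL hg ⟨_, hηU⟩ N hN hNs) hM (fun x _ => trivial) j

/-- A coherent module free of rank `d` on a non-empty open has twists close to those of the free module. -/
theorem isBdd_dist_free_nhd (hL : ∀ i, PicF.IsInvertible (L i)) {g : ℕ} (hg : topologicalKrullDim X ≤ g) {d : ℕ}
    {E : X.Modules} (hEc : Coh.IsCoh E) {U : X.Opens} (hU : (U : Set X).Nonempty)
    (e : E.restrict U.ι ≅ FlatMod.freeMod (U : Scheme.{u}) d) (j : ℕ) :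
    IsBdd g fun n => Nat.dist (hgt k L j E n) (hgt k L j (FlatMod.freeMod X d) n) := by
  haveI := CurveCohLib.isNoetherian_of_proper (k := k) (X := X)
  let O := FlatMod.freeMod X d
  have hOc : Coh.IsCoh O := CurveDeg.isCoh_of_isFinLocFree (SeesawX.isFinLocFree_freeMod X d)
  have hQ : Coh.IsQCoh ((Scheme.Modules.pushforward U.ι).obj (E.restrict U.ι)) :=
    QCoh.isQCoh_pushforward U.ι (QCoh.isQCoh_restrict U.ι hEc.1)
  let γ := (Scheme.Modules.pushforward U.ι).mapIso (QCoh.freeModRestrict U.ι d ≪≫ e.symm)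
  have hψ : IsoOn U (resMap U O ≫ γ.hom) := fun x hx => by
    haveI := isoOn_resMap U O x hx
    rw [Functor.map_comp]
    infer_instance
  obtain ⟨K, I, a, b, c, hK, hI, ha, hb, hc⟩ := exists_link hEc hOc hQ (resMap U E) _ (isoOn_resMap U E) hψ
  refine (isBdd_dist_of_link k hL (C := Set.univ)
    (fun N hN hNs => isBdd_outside k hL hg hU N hN hNs) hEc hOc hK hI ha hb hc
    (M := Coh.structureModule X) QCoh.isCoh_structureModule' (fun x _ => trivial) j).mono fun n => ?_
  rw [show hgt k L j (CohB1.tensorMod E (Coh.structureModule X)) n = hgt k L j E n from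
      hgt_congr k (CurveTensor.commIso E (Coh.structureModule X) ≪≫ CurveTensor.structureTensorIso E) j n,
    show hgt k L j (CohB1.tensorMod O (Coh.structureModule X)) n = hgt k L j O n from
      hgt_congr k (CurveTensor.commIso O (Coh.structureModule X) ≪≫ CurveTensor.structureTensorIso O) j n]

/-- A module locally free of rank `d` has twists close to those of the free module. -/
theorem isBdd_dist_free (hL : ∀ i, PicF.IsInvertible (L i)) {g : ℕ} (hg : topologicalKrullDim X ≤ g) {d : ℕ}
    {E : X.Modules} (hE : FlatMod.IsFinLocFreeOfRank d E) (j : ℕ) :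
    IsBdd g fun n => Nat.dist (hgt k L j E n) (hgt k L j (FlatMod.freeMod X d) n) := by
  haveI := CurveCohLib.isNoetherian_of_proper (k := k) (X := X)
  obtain ⟨U, hηU, ⟨e⟩⟩ := hE (genericPoint X)
  exact isBdd_dist_free_nhd k hL hg
    (CurveDeg.isCoh_of_isFinLocFree fun x => let ⟨U, hx, e⟩ := hE x; ⟨U, d, hx, e⟩) ⟨_, hηU⟩ e j

end Irreducible

section Free

variable (k : Type u) [Field k] {X : Scheme.{u}} [X.Over (Spec (CommRingCat.of k))]
  [IsProper (X ↘ Spec (CommRingCat.of k))]

/-- An additive functor takes a free module to a free sum, in cohomology. -/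
theorem finrank_HH_map_free (G : X.Modules ⥤ X.Modules) [G.Additive] (n p : ℕ)
    [Module.Finite k (Coh.HH X (G.obj (Coh.structureModule X)) p)] :
    Module.finrank k (Coh.HH X (G.obj (FlatMod.freeMod X n)) p) =
      n * Module.finrank k (Coh.HH X (G.obj (Coh.structureModule X)) p) := by
  let O' := G.obj (Coh.structureModule X)
  let F := G.obj (FlatMod.freeMod X n)
  have comp : ∀ {M N P : X.Modules} (f : M ⟶ N) (h : N ⟶ P) (x : Coh.HH X M p),
      mapLin k h p (mapLin k f p x) = mapLin k (f ≫ h) p x := fun f h x =>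
    PnCoh.Finite.map_map (Y := X.toPresheafedSpace.carrier) ((QCoh.toAbFunctor X).map_comp f h).symm p x
  have hadd : ∀ {M N : X.Modules} (f g : M ⟶ N) (x : Coh.HH X M p),
      mapLin k (f + g) p x = mapLin k f p x + mapLin k g p x := fun f g x =>
    (congrArg (fun e => Sheaf.H.map e p x) ((QCoh.toAbFunctor X).map_add (f := f) (g := g))).trans
      (Sheaf.H.map_add_apply _ _ x)
  have hid : ∀ {M : X.Modules} (x : Coh.HH X M p), mapLin k (𝟙 M) p x = x := fun x =>
    (congrArg (fun e => Sheaf.H.map e p x) ((QCoh.toAbFunctor X).map_id _)).trans (Sheaf.H.map_id_apply x)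
  let toC : Coh.HH X F p →ₗ[k] Fin n → Coh.HH X O' p :=
    LinearMap.pi fun i => mapLin k (G.map (H23.Frame.proj X n i)) p
  let inC : (Fin n → Coh.HH X O' p) →ₗ[k] Coh.HH X F p :=
    ∑ i, (mapLin k (G.map (H23.Frame.incl X n i)) p).comp (LinearMap.proj i)
  have hsum : ∀ x : Coh.HH X F p, inC (toC x) =
      mapLin k (∑ i, G.map (H23.Frame.proj X n i) ≫ G.map (H23.Frame.incl X n i)) p x := by
    intro x
    let Φ : (F ⟶ F) →+ Coh.HH X F p := AddMonoidHom.mk' (fun f => mapLin k f p x) fun f g => hadd f g x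
    show _ = Φ _
    rw [map_sum]
    refine (LinearMap.sum_apply _ _ _).trans ?_
    exact Finset.sum_congr rfl fun i _ => comp _ _ x
  have h₁ : ∀ x, inC (toC x) = x := fun x => by
    rw [hsum, show (∑ i, G.map (H23.Frame.proj X n i) ≫ G.map (H23.Frame.incl X n i)) = 𝟙 F by
      simp only [← G.map_comp]; rw [← G.map_sum, H23.Frame.total, G.map_id]]
    exact hid x
  have h₂ : ∀ c, toC (inC c) = c := fun c => funext fun j => by
    have hz : mapLin k (0 : O' ⟶ O') p = 0 := LinearMap.ext fun y => by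
      have := hadd (0 : O' ⟶ O') 0 y
      rw [add_zero, left_eq_add] at this
      exact this
    show mapLin k (G.map (H23.Frame.proj X n j)) p (inC c) = c j
    rw [show inC c = ∑ i, mapLin k (G.map (H23.Frame.incl X n i)) p (c i) from LinearMap.sum_apply _ _ _,
      map_sum, Finset.sum_eq_single j]
    · rw [comp, ← G.map_comp, H23.Frame.incl_proj, if_pos rfl, G.map_id]
      exact hid _
    · intro i _ hi
      rw [comp, ← G.map_comp, H23.Frame.incl_proj, if_neg hi, G.map_zero, hz]
      rfl
    · intro h; exact absurd (Finset.mem_univ j) h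
  rw [(LinearEquiv.ofLinearMap toC inC (LinearMap.ext h₂) (LinearMap.ext h₁)).finrank_eq, Module.finrank_pi_fintype,
    Finset.sum_const, Finset.card_univ, Fintype.card_fin, smul_eq_mul]

end Free

end Groth.Agent.CohGrowth
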