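import Groth.Agent.Lib.LerayOneDegree
import Groth.Agent.Lib.Euler
import Groth.Agent.QCoh.RpushProper

/-!
Euler characteristics through a morphism with higher direct images in a single degree.
-/

set_option autoImplicit false
set_option linter.style.haveILetI false
set_option linter.unusedSectionVars false
set_option backward.isDefEq.respectTransparency false
set_option backward.isDefEq.respectTransparency.types false
set_option maxHeartbeats 400000

universe u

open CategoryTheory CategoryTheory.Limits AlgebraicGeometry TopologicalSpace Opposite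

noncomputable section

namespace Groth.Agent.EulerOneDeg

open Groth.Agent Groth.Agent.QCoh

variable (k : Type u) [Field k] {X Y : Scheme.{u}} [X.Over (Spec (CommRingCat.of k))]
  [Y.Over (Spec (CommRingCat.of k))]
  (f : X ⟶ Y) [HasInjectiveResolutions X.Modules]

/-- Cohomology is shifted. -/
theorem finrank_eq (hf : f ≫ (Y ↘ Spec (CommRingCat.of k)) = X ↘ Spec (CommRingCat.of k)) {M : X.Modules} (i : ℕ)
    (hR : ∀ n, n ≠ i → IsZero ((Coh.Rpush f n).obj M)) (j : ℕ) :
    Module.finrank k (Coh.HH X M (i + j)) = Module.finrank k (Coh.HH Y ((Coh.Rpush f i).obj M) j) := by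
  have hρ : f.appTop.hom.comp (Coh.toGlobal (A := k) (Y ↘ Spec (CommRingCat.of k))) =
      Coh.toGlobal (A := k) (X ↘ Spec (CommRingCat.of k)) := by
    rw [← hf]
    rfl
  obtain ⟨e⟩ := LerayOneDegree.nonempty_HH (Coh.toGlobal (A := k) (Y ↘ Spec (CommRingCat.of k))) f (M := M) i j hR
  rw [hρ] at e
  exact e.finrank_eq.symm

theorem subsingleton_low {M : X.Modules} (i : ℕ) (hR : ∀ n, n ≠ i → IsZero ((Coh.Rpush f n).obj M)) {n : ℕ}
    (hn : n < i) : Subsingleton (Coh.HH X M n) := by
  let := modHH f.appTop.hom M n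
  obtain ⟨e⟩ := LerayEdgeLin.nonempty_sections_HH f (M := M) n fun m hm => hR m (by omega)
  haveI : Subsingleton Γ((Coh.Rpush f n).obj M, ⊤) := subsingleton_of_forall_eq 0 fun z =>
    congr(($((IsZero.iff_id_eq_zero _).1 (hR n (by omega)))).app ⊤ z)
  exact e.symm.toEquiv.subsingleton

/-- The Euler characteristic up to sign is that of the higher direct image. -/
theorem euler_eq [IsProper (X ↘ Spec (CommRingCat.of k))] [IsProper (Y ↘ Spec (CommRingCat.of k))]
    (hf : f ≫ (Y ↘ Spec (CommRingCat.of k)) = X ↘ Spec (CommRingCat.of k)) {M : X.Modules} (hM : Coh.IsCoh M)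
    (i : ℕ) (hR : ∀ n, n ≠ i → IsZero ((Coh.Rpush f n).obj M)) :
    Curv2.euler k X M = (-1) ^ i * Curv2.euler k Y ((Coh.Rpush f i).obj M) := by
  haveI : IsProper f := by
    haveI : IsProper (f ≫ (Y ↘ Spec (CommRingCat.of k))) := by rw [hf]; infer_instance
    exact IsProper.of_comp f (Y ↘ Spec (CommRingCat.of k))
  obtain ⟨d₁, hd₁⟩ := Euler.exists_bound (X := X) k
  obtain ⟨d₂, hd₂⟩ := Euler.exists_bound (X := Y) k
  rw [Euler.euler_eq_sum k M (i + (d₁ + d₂)) fun p hp => hd₁ M hM.1 p (by omega),
    Euler.euler_eq_sum k _ (d₁ + d₂) fun p hp =>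
      hd₂ _ (QCoh.isQCoh_Rpush f hM.1 i) p (by omega),
    Finset.sum_range_add, Finset.sum_eq_zero fun n hn => ?_, zero_add, Finset.mul_sum]
  · refine Finset.sum_congr rfl fun j _ => ?_
    rw [finrank_eq k f hf i hR j, pow_add, _root_.mul_assoc]
  · haveI := subsingleton_low f i hR (Finset.mem_range.1 hn)
    rw [Module.finrank_zero_of_subsingleton]
    simp

end Groth.Agent.EulerOneDeg
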