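import Groth.Agent.QCoh.Bound
import Groth.Agent.QCoh.SupportFT
import Groth.Agent.S15708
import Groth.Prelude.Def_CohB1
import Mathlib.Topology.Sober
import Mathlib.Topology.KrullDimension

/-!
Vanishing of cohomology above the number of affines covering the support.
-/

set_option linter.style.haveILetI false
set_option linter.unusedSectionVars false
set_option maxHeartbeats 800000

universe u

open CategoryTheory CategoryTheory.Limits AlgebraicGeometry TopologicalSpace Opposite

namespace Groth.Agent.SupportVanish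

variable {X : Scheme.{u}}

/-- A module with zero stalks on an open has no cohomology there. -/
theorem subsingleton_HU_of_vanish [NoetherianSpace X] {M : X.Modules} (hM : Coh.IsQCoh M) {V : X.Opens}
    (h0 : ∀ x ∈ V, Subsingleton (M.presheaf.stalk x)) :
    ∀ (n : ℕ) (W : X.Opens), W ≤ V →
      Subsingleton (CohTop.HU (X := X.toPresheafedSpace.carrier) (QCoh.abSheaf M) n W) := by
  intro n
  induction n with
  | zero =>
    intro W hW
    have : Subsingleton Γ(M, W) := ⟨fun s t =>
      TopCat.Presheaf.section_ext ⟨M.presheaf, M.isSheaf⟩ W s t fun x hx => @Subsingleton.elim _ (h0 x (hW hx)) _ _⟩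
    exact (SiteBase.huZero (J := Opens.grothendieckTopology X.toPresheafedSpace.carrier)
      (QCoh.abSheaf M) W).toEquiv.subsingleton_congr.2 this
  | succ n ih =>
    intro W hW
    obtain ⟨s, hs, hsW⟩ := isCompact_iff_finite_and_eq_biUnion_affineOpens.mp
      (NoetherianSpace.isCompact (W : Set X))
    rw [hsW]
    suffices h : ∀ s' : Set X.affineOpens, s'.Finite → s' ⊆ s →
        Subsingleton (CohTop.HU (X := X.toPresheafedSpace.carrier) (QCoh.abSheaf M) (n + 1)
          (⨆ U ∈ s', (U : X.Opens))) from h s hs subset_rfl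
    intro s' hs'
    induction s', hs' using Set.Finite.induction_on with
    | empty =>
      intro _
      simp only [Set.mem_empty_iff_false, iSup_false, iSup_bot]
      exact QCoh.subsingleton_HU_of_isAffineOpen hM (isAffineOpen_bot X) n
    | @insert U₀ s' _ _ ih' =>
      intro hsub
      rw [iSup_insert]
      refine QCoh.Ab.subsingleton_HU_sup _ _ _ n (QCoh.subsingleton_HU_of_isAffineOpen hM U₀.2 n)
        (ih' ((Set.subset_insert _ _).trans hsub)) (ih _ ?_)
      exact inf_le_left.trans ((le_iSup₂ (f := fun (U : X.affineOpens) (_ : U ∈ s) => (U : X.Opens)) U₀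
        (hsub (Set.mem_insert _ _))).trans (hsW.ge.trans hW))

/-- Vanishing above the number of affines covering the support. -/
theorem subsingleton_HH_of_cover_support [NoetherianSpace X] {M : X.Modules} (hM : Coh.IsQCoh M)
    (hcl : IsClosed (CohB1.support M))
    (hd : ∀ V W : X.Opens, IsAffineOpen V → IsAffineOpen W → IsAffineOpen (V ⊓ W))
    (t : ℕ) (U : Fin t → X.Opens) (hU : ∀ i, IsAffineOpen (U i))
    (hcov : CohB1.support M ⊆ ((⨆ i, U i : X.Opens) : Set X)) (q : ℕ) (hq : t ≤ q) (hq0 : 0 < q) :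
    Subsingleton (Coh.HH X M q) := by
  obtain ⟨m, rfl⟩ := Nat.exists_eq_add_of_le (show 1 ≤ q from hq0)
  rw [Nat.add_comm 1 m]
  let V : X.Opens := ⟨(CohB1.support M)ᶜ, hcl.isOpen_compl⟩
  have hV : ∀ x ∈ V, Subsingleton (M.presheaf.stalk x) := fun x hx => not_not.1 hx
  refine QCoh.Ab.subsingleton_H_of_HU_top (X := X.toPresheafedSpace.carrier) (QCoh.abSheaf M) (m + 1) ?_
  rw [show (⊤ : X.Opens) = (⨆ i, U i) ⊔ V from top_le_iff.1 (fun x _ => by
    by_cases hx : x ∈ CohB1.support M
    exacts [Or.inl (hcov hx), Or.inr hx]) |>.symm]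
  exact QCoh.Ab.subsingleton_HU_sup _ _ _ m
    (QCoh.subsingleton_HU_iSup hM IsAffineOpen (fun _ h => h) hd t U hU (m + 1) (by omega))
    (subsingleton_HU_of_vanish hM hV (m + 1) V le_rfl)
    (subsingleton_HU_of_vanish hM hV m _ inf_le_right)

section Topology

variable {T : Type u} [TopologicalSpace T] [NoetherianSpace T] [QuasiSober T]

/-- Finitely many points generalise every point of a closed set. -/
theorem exists_finite_generalizing {Z : Set T} (hZ : IsClosed Z) :
    ∃ S : Set T, S.Finite ∧ S ⊆ Z ∧ ∀ y ∈ Z, ∃ η ∈ S, η ⤳ y := by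
  haveI : QuasiSober Z := hZ.isClosedEmbedding_subtypeVal.quasiSober
  have hfin := NoetherianSpace.finite_irreducibleComponents (α := Z)
  haveI := hfin.to_subtype
  choose g hg using fun C : irreducibleComponents Z =>
    (QuasiSober.sober C.2.1 (isClosed_of_mem_irreducibleComponents _ C.2))
  refine ⟨Set.range fun C => (g C : T), Set.finite_range _, ?_, fun y hy => ?_⟩
  · rintro _ ⟨C, rfl⟩
    exact (g C).2
  · let C : irreducibleComponents Z :=
      ⟨irreducibleComponent ⟨y, hy⟩, irreducibleComponent_mem_irreducibleComponents _⟩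
    refine ⟨_, ⟨C, rfl⟩, ?_⟩
    exact ((hg C).specializes (mem_irreducibleComponent (x := (⟨y, hy⟩ : Z)))).map continuous_subtype_val

/-- In a set of dimension at most one there are no two successive proper specialisations. -/
theorem no_chain [T0Space T] {Z : Set T} (hdim : topologicalKrullDim Z ≤ 1) {a b c : T} (ha : a ∈ Z)
    (hb : b ∈ Z) (hc : c ∈ Z) (hab : a ⤳ b) (hbc : b ⤳ c) (hab' : a ≠ b) (hbc' : b ≠ c) : False := by
  let cl : Z → IrreducibleCloseds Z := fun z =>
    ⟨closure {z}, isIrreducible_singleton.closure, isClosed_closure⟩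
  have hlt : ∀ x y : Z, (x : T) ⤳ (y : T) → (x : T) ≠ (y : T) → cl y < cl x := fun x y h h' => by
    have h1 : x ⤳ y := (Topology.IsInducing.subtypeVal.specializes_iff).1 h
    refine lt_of_le_not_ge ?_ fun hge => h' ?_
    · exact specializes_iff_closure_subset.1 h1
    · exact Inseparable.eq (h.antisymm ((Topology.IsInducing.subtypeVal.specializes_iff).2
        (specializes_iff_closure_subset.2 hge)))
  have h1 := hlt ⟨b, hb⟩ ⟨c, hc⟩ hbc hbc'
  have h2 := hlt ⟨a, ha⟩ ⟨b, hb⟩ hab hab'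
  let s₁ : LTSeries (IrreducibleCloseds Z) := RelSeries.singleton _ (cl ⟨c, hc⟩)
  let s₂ : LTSeries (IrreducibleCloseds Z) := s₁.snoc (cl ⟨b, hb⟩) h1
  let s₃ : LTSeries (IrreducibleCloseds Z) :=
    s₂.snoc (cl ⟨a, ha⟩) (show s₂.last < cl ⟨a, ha⟩ by simp only [s₂, RelSeries.last_snoc]; exact h2)
  have h4 : ((s₃.length : ℕ∞) : WithBot ℕ∞) ≤ 1 := (Order.LTSeries.length_le_krullDim s₃).trans hdim
  have h5 : s₃.length = 2 := rfl
  rw [h5] at h4
  exact absurd (WithBot.coe_le_coe.1 h4) (by decide)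

/-- A closed subset of the complement of an open around the generic points is finite. -/
theorem finite_diff [T0Space T] {Z : Set T} (hZ : IsClosed Z) (hdim : topologicalKrullDim Z ≤ 1)
    {S : Set T} (hSZ : S ⊆ Z) (hgen : ∀ y ∈ Z, ∃ η ∈ S, η ⤳ y) {U : Set T} (hU : IsOpen U) (hSU : S ⊆ U) :
    (Z \ U).Finite := by
  obtain ⟨S', hS', hS'Z, hgen'⟩ := exists_finite_generalizing (hZ.sdiff hU)
  refine hS'.subset fun y hy => ?_
  obtain ⟨η', hη', hsp⟩ := hgen' y hy
  rcases eq_or_ne η' y with rfl | hne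
  · exact hη'
  obtain ⟨η, hη, hsp'⟩ := hgen η' (hS'Z hη').1
  have hne' : η ≠ η' := fun h => (hS'Z hη').2 (h ▸ hSU hη)
  exact (no_chain hdim (hSZ hη) (hS'Z hη').1 hy.1 hsp' hsp hne' hne).elim

end Topology

section Proj

variable {R A : Type u} [CommRing R] [CommRing A] [Algebra R A] [IsNoetherianRing A]
  (𝒜 : ℕ → Submodule R A) [GradedAlgebra 𝒜]

/-- Finitely many points of `Proj` lie in one basic open. -/
theorem exists_basicOpen_of_finite {S : Set (Proj 𝒜)} (hS : S.Finite) :
    ∃ (d : ℕ) (f : A), 0 < d ∧ f ∈ 𝒜 d ∧ ∀ x ∈ S, x ∈ Proj.basicOpen 𝒜 f := by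
  classical
  obtain ⟨z, n, hn, hz, -, havoid⟩ := S15708.result 𝒜 (⊤ : Ideal A) (⊤ : HomogeneousIdeal 𝒜).isHomogeneous
    (hS.toFinset.image fun x => x.asHomogeneousIdeal.toIdeal) (fun p hp => by
      obtain ⟨x, -, rfl⟩ := Finset.mem_image.1 hp
      exact ⟨x.isPrime, x.not_irrelevant_le, fun h => x.isPrime.ne_top (top_le_iff.1 h)⟩)
  refine ⟨n, z, hn, hz, fun x hx => ?_⟩
  rw [Proj.mem_basicOpen]
  exact havoid _ (Finset.mem_image.2 ⟨x, hS.mem_toFinset.2 hx, rfl⟩)

/-- A module supported in dimension at most one has no cohomology from degree two on. -/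
theorem subsingleton_HH_of_support_dim_le_one [IsNoetherian (Proj 𝒜)] {M : (Proj 𝒜).Modules}
    (hM : Coh.IsCoh M) (hdim : topologicalKrullDim (CohB1.support M) ≤ 1)
    (hd : ∀ V W : (Proj 𝒜).Opens, IsAffineOpen V → IsAffineOpen W → IsAffineOpen (V ⊓ W))
    (q : ℕ) (hq : 2 ≤ q) : Subsingleton (Coh.HH (Proj 𝒜) M q) := by
  have hcl := QCoh.isClosed_support_of_ft hM.2
  obtain ⟨S, hS, hSZ, hgen⟩ := exists_finite_generalizing hcl
  obtain ⟨d, f, hd', hf, hfS⟩ := exists_basicOpen_of_finite 𝒜 hS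
  have hfin := finite_diff hcl hdim hSZ hgen (Proj.basicOpen 𝒜 f).isOpen hfS
  obtain ⟨e, g, he, hg, hgS⟩ := exists_basicOpen_of_finite 𝒜 hfin
  refine subsingleton_HH_of_cover_support hM.1 hcl hd 2 ![Proj.basicOpen 𝒜 f, Proj.basicOpen 𝒜 g]
    (fun i => ?_) (fun x hx => ?_) q hq (by omega)
  · fin_cases i
    exacts [Proj.isAffineOpen_basicOpen 𝒜 f hf hd', Proj.isAffineOpen_basicOpen 𝒜 g hg he]
  · by_cases hxf : x ∈ Proj.basicOpen 𝒜 f
    · exact Opens.mem_iSup.2 ⟨0, hxf⟩
    · exact Opens.mem_iSup.2 ⟨1, hgS x ⟨hx, hxf⟩⟩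

end Proj

end Groth.Agent.SupportVanish
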