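import Groth.Agent.Lib.PnDualMul
import Groth.Agent.PnCoh.TwistH0

/-!
Morphisms between twisting sheaves on projective space are multiplication by a Laurent polynomial.
-/

set_option linter.style.haveILetI false
set_option linter.unusedSectionVars false
set_option synthInstance.maxHeartbeats 400000
set_option maxHeartbeats 1600000

universe u

open CategoryTheory AlgebraicGeometry MvPolynomial Opposite TopologicalSpace
open Groth.Agent.PnCoh Groth.Agent.PnCoh.Finite

noncomputable section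

namespace Groth.Agent.PnDual

attribute [local instance] MvPolynomial.gradedAlgebra

variable {ι : Type} {R : Type u} [CommRing R] {a b : ℤ}

/-- The twisting sheaf. -/
abbrev O' (ι : Type) (R : Type u) [CommRing R] (d : ℤ) : (PS ι R).Modules :=
  Twist.twist (homogeneousSubmodule ι R) d

/-- Sections of the twisting sheaf over a monomial open. -/
abbrev SecM (R : Type u) [CommRing R] (d : ℤ) (g : ι →₀ ℕ) : Type u := Γ(O' ι R d, mOpen R g)

/-- Laurent polynomial of a section. -/
def secM (d : ℤ) (g : ι →₀ ℕ) (hg : g ≠ 0) (s : SecM R d g) : Laur ι R := secTw d g hg s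

theorem secM_injective (d : ℤ) (g : ι →₀ ℕ) (hg : g ≠ 0) :
    Function.Injective (secM (R := R) d g hg) := secTw_injective d g hg

theorem secM_res (d : ℤ) {g g' : ι →₀ ℕ} (h : ι →₀ ℕ) (hgh : g' = g + h) (hg : g ≠ 0)
    (hg' : g' ≠ 0) (j : mOpen R g' ⟶ mOpen R g) (s : SecM R d g) :
    secM d g' hg' ((O' ι R d).presheaf.map j.op s) = secM d g hg s :=
  secTw_res d h hgh hg hg' j s

/-- A function times the generator. -/
def fnGen (d : ℤ) (g : ι →₀ ℕ) (hg : g ≠ 0) (c : Γ(Proj (homogeneousSubmodule ι R), mOpen R g)) :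
    SecM R d g :=
  triv (mem_homogeneous_X (someIdx hg)) d (nonVan_mOpen (someIdx_mem hg)) c

/-- The generator over a monomial open. -/
def gen (d : ℤ) (g : ι →₀ ℕ) (hg : g ≠ 0) : SecM R d g := fnGen d g hg 1

theorem secM_fnGen (d : ℤ) (g : ι →₀ ℕ) (hg : g ≠ 0)
    (c : Γ(Proj (homogeneousSubmodule ι R), mOpen R g)) :
    secM d g hg (fnGen d g hg c) =
      AddMonoidAlgebra.single (Finsupp.single (someIdx hg) d) (1 : R) * secL g hg c :=
  secTw_triv d g hg c

theorem exists_fnGen_eq (d : ℤ) (g : ι →₀ ℕ) (hg : g ≠ 0) (s : SecM R d g) :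
    ∃ c, fnGen d g hg c = s := exists_triv_eq d g hg s

theorem secM_gen (d : ℤ) (g : ι →₀ ℕ) (hg : g ≠ 0) :
    secM (R := R) d g hg (gen d g hg) =
      AddMonoidAlgebra.single (Finsupp.single (someIdx hg) d) (1 : R) := by
  rw [gen, secM_fnGen, map_one, mul_one]

theorem fnGen_mul (d : ℤ) (g : ι →₀ ℕ) (hg : g ≠ 0)
    (c c' : Γ(Proj (homogeneousSubmodule ι R), mOpen R g)) :
    fnGen d g hg (c * c') = c • fnGen d g hg c' :=
  (triv (mem_homogeneous_X (someIdx hg)) d (nonVan_mOpen (someIdx_mem hg))).map_smul c c'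

theorem fnGen_eq_smul_gen (d : ℤ) (g : ι →₀ ℕ) (hg : g ≠ 0)
    (c : Γ(Proj (homogeneousSubmodule ι R), mOpen R g)) :
    fnGen d g hg c = c • gen d g hg := by
  conv_lhs => rw [← mul_one c]
  exact fnGen_mul d g hg c 1

theorem secM_smul (d : ℤ) (g : ι →₀ ℕ) (hg : g ≠ 0)
    (c : Γ(Proj (homogeneousSubmodule ι R), mOpen R g)) (s : SecM R d g) :
    secM d g hg (c • s) = secL g hg c * secM d g hg s := by
  obtain ⟨c', rfl⟩ := exists_fnGen_eq d g hg s
  rw [← fnGen_mul, secM_fnGen, secM_fnGen, map_mul, mul_left_comm]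

theorem single_neg_mul_single (i : ι) (d : ℤ) :
    (AddMonoidAlgebra.single (Finsupp.single i (-d)) (1 : R) *
      AddMonoidAlgebra.single (Finsupp.single i d) (1 : R) : Laur ι R) = 1 := by
  rw [AddMonoidAlgebra.single_mul_single, ← Finsupp.single_add, neg_add_cancel, Finsupp.single_zero,
    one_mul]
  rfl

/-- The multiplier of `φ` over one monomial open. -/
def symbAt (φ : O' ι R a ⟶ O' ι R b) (g : ι →₀ ℕ) (hg : g ≠ 0) : Laur ι R :=
  secM b g hg (φ.app (mOpen R g) (gen a g hg)) *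
    AddMonoidAlgebra.single (Finsupp.single (someIdx hg) (-a)) (1 : R)

theorem secM_app_symbAt (φ : O' ι R a ⟶ O' ι R b) (g : ι →₀ ℕ) (hg : g ≠ 0) (s : SecM R a g) :
    secM b g hg (φ.app (mOpen R g) s) = symbAt φ g hg * secM a g hg s := by
  obtain ⟨c, rfl⟩ := exists_fnGen_eq a g hg s
  rw [fnGen_eq_smul_gen, Scheme.Modules.Hom.app_smul, secM_smul, secM_smul, secM_gen, symbAt,
    mul_assoc, mul_left_comm (AddMonoidAlgebra.single (Finsupp.single (someIdx hg) (-a)) (1 : R)),
    single_neg_mul_single, mul_one, mul_comm]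

theorem symbAt_eq_add (φ : O' ι R a ⟶ O' ι R b) {g g' : ι →₀ ℕ} (h : ι →₀ ℕ) (hgh : g' = g + h)
    (hg : g ≠ 0) (hg' : g' ≠ 0) : symbAt φ g hg = symbAt φ g' hg' := by
  let j : mOpen R g' ⟶ mOpen R g := homOfLE (hgh ▸ (mOpen_add g h).trans_le inf_le_left)
  have h1 : secM b g' hg' (φ.app (mOpen R g') ((O' ι R a).presheaf.map j.op (gen a g hg))) =
      secM b g hg (φ.app (mOpen R g) (gen a g hg)) := by
    rw [QCoh.map_app_comm, secM_res b h hgh hg hg' j]
  rw [secM_app_symbAt, secM_app_symbAt, secM_res a h hgh hg hg' j, secM_gen] at h1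
  have hu : IsUnit (AddMonoidAlgebra.single (Finsupp.single (someIdx hg) a) (1 : R) : Laur ι R) :=
    IsUnit.of_mul_eq_one_right _ (single_neg_mul_single _ _)
  exact (hu.mul_right_cancel h1).symm

variable [Nonempty ι]

/-- The multiplier of `φ`. -/
def symb (φ : O' ι R a ⟶ O' ι R b) : Laur ι R :=
  symbAt φ (Finsupp.single (Classical.arbitrary ι) 1) (single_one_ne_zero _)

theorem symbAt_eq_symb (φ : O' ι R a ⟶ O' ι R b) (g : ι →₀ ℕ) (hg : g ≠ 0) :
    symbAt φ g hg = symb φ := by
  have hne : g + Finsupp.single (Classical.arbitrary ι) 1 ≠ (0 : ι →₀ ℕ) := fun h => by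
    have := DFunLike.congr_fun h (Classical.arbitrary ι)
    simp at this
  exact (symbAt_eq_add φ _ rfl hg hne).trans
    (symbAt_eq_add φ g (add_comm _ _) (single_one_ne_zero _) hne).symm

/-- A morphism multiplies by its symbol. -/
theorem secM_app (φ : O' ι R a ⟶ O' ι R b) (g : ι →₀ ℕ) (hg : g ≠ 0) (s : SecM R a g) :
    secM b g hg (φ.app (mOpen R g) s) = symb φ * secM a g hg s := by
  rw [secM_app_symbAt, symbAt_eq_symb]

/-- The same in terms of `secTw`. -/
theorem secTw_app (φ : O' ι R a ⟶ O' ι R b) (g : ι →₀ ℕ) (hg : g ≠ 0) (s : SecM R a g) :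
    secTw b g hg (φ.app (mOpen R g) s) = symb φ * secTw a g hg s :=
  secM_app φ g hg s

theorem isQCoh_O' (d : ℤ) : Coh.IsQCoh (O' ι R d) := isQCoh_twist_mvPolynomial ι R d

theorem iSup_D_X : ⨆ j : ULift.{u} ι, D (homogeneousSubmodule ι R) (X j.down : MvPolynomial ι R) = ⊤ := by
  refine top_le_iff.1 ((iSup_mOpen_single (ι := ι) (R := R)).ge.trans ?_)
  exact iSup_le fun j => le_iSup_of_le (ULift.up j) le_rfl

/-- A morphism is determined by its symbol. -/
theorem symb_injective : Function.Injective (symb : (O' ι R a ⟶ O' ι R b) → Laur ι R) := by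
  intro φ ψ h
  refine eq_of_app_eq_cover (f := fun j : ULift.{u} ι => (X j.down : MvPolynomial ι R)) (isQCoh_O' a)
    (fun j => mem_homogeneous_X j.down) iSup_D_X φ ψ fun j y => ?_
  refine secM_injective b (Finsupp.single j.down 1) (single_one_ne_zero _) ?_
  refine (secM_app φ _ (single_one_ne_zero _) y).trans ?_
  rw [h]
  exact (secM_app ψ _ (single_one_ne_zero _) y).symm

theorem mem_suppD_single (φ : O' ι R a ⟶ O' ι R b) (i : ι) :
    symb φ ∈ AddMonoidAlgebra.supported R R (suppD (b - a) ({i} : Set ι)) := by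
  classical
  let g : ι →₀ ℕ := Finsupp.single i 1
  have hg : g ≠ 0 := single_one_ne_zero i
  have hs : (g.support : Set ι) = {i} := by
    rw [Finsupp.support_single _ one_ne_zero, Finset.coe_singleton]
  have hi : someIdx hg = i := by
    have := someIdx_mem hg
    rw [Finsupp.support_single _ one_ne_zero, Finset.mem_singleton] at this
    exact this
  rw [← symbAt_eq_symb φ g hg, symbAt, hi, ← hs]
  rw [mul_comm]
  refine single_mul_mem_supported (fun x hx => ?_) (secTw_mem b g hg _ : secM b g hg _ ∈ _)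
  have := single_add_mem_suppD (g := g) (i := i)
    (by rw [Finsupp.support_single _ one_ne_zero, Finset.mem_singleton]) (-a) b hx
  rwa [show -a + b = b - a by ring] at this

theorem symb_supp (φ : O' ι R a ⟶ O' ι R b) (e : Expo ι) (he : (symb φ).coeff e ≠ 0) :
    e.sum (fun _ z => z) = b - a ∧ ∀ i j : ι, i ≠ j → 0 ≤ e j := by
  have key := fun i => AddMonoidAlgebra.mem_supported.1 (mem_suppD_single φ i)
    (Finsupp.mem_support_iff.2 he)
  refine ⟨(key (Classical.arbitrary ι)).1, fun i j hij => ?_⟩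
  by_contra hj
  exact hij ((key i).2 j (lt_of_not_ge hj)).symm

theorem symb_nonneg [Fintype ι] (φ : O' ι R a ⟶ O' ι R b) (h : 1 < Fintype.card ι ∨ a ≤ b)
    (e : Expo ι) (he : (symb φ).coeff e ≠ 0) (j : ι) : 0 ≤ e j := by
  obtain ⟨h1, h2⟩ := symb_supp φ e he
  by_cases hn : ∃ i, i ≠ j
  · obtain ⟨i, hi⟩ := hn
    exact h2 i j hi
  · push Not at hn
    have hcard : ¬ 1 < Fintype.card ι := by
      rw [Fintype.one_lt_card_iff]
      rintro ⟨x, y, hxy⟩
      exact hxy ((hn x).trans (hn y).symm)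
    rw [Finsupp.sum_fintype _ _ (fun _ => rfl), Fintype.sum_eq_single j fun x hx => absurd (hn x) hx] at h1
    rcases h with h | h
    · exact absurd h hcard
    · omega

theorem symb_mulHom {e : ℕ} {p : MvPolynomial ι R} (hp : p ∈ homogeneousSubmodule ι R e)
    (h : b = a + (e : ℤ)) : symb (mulHom hp h : O' ι R a ⟶ O' ι R b) = toLaur ι R p := by
  let g : ι →₀ ℕ := Finsupp.single (Classical.arbitrary ι) 1
  have hg : g ≠ 0 := single_one_ne_zero _
  show symbAt _ g hg = _
  obtain ⟨q, k, hr⟩ := exists_isRep a g hg (gen (R := R) a g hg)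
  have hr' : IsRep b g ((mulHom hp h : O' ι R a ⟶ O' ι R b).app (mOpen R g) (gen a g hg)) (q * p) k := by
    obtain ⟨⟨m, hm, hq⟩, hf⟩ := hr
    refine ⟨⟨m + e, by push_cast; omega, hq.mul hp⟩, fun x => ?_⟩
    refine (congrArg (· * fracOne x.1 p) (hf x)).trans ?_
    exact (Localization.mk_mul _ _ _ _).trans (congrArg (Localization.mk _) (mul_one _))
  rw [symbAt, secM, secTw_eq_of_isRep hg hr', map_mul]
  have hgen := secM_gen (R := R) a g hg
  rw [secM, secTw_eq_of_isRep hg hr] at hgen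
  rw [mul_comm (toLaur ι R q) (toLaur ι R p), mul_assoc, mul_assoc, ← mul_assoc (toLaur ι R q), hgen,
    mul_comm (AddMonoidAlgebra.single (Finsupp.single (someIdx hg) a) (1 : R)),
    single_neg_mul_single, mul_one]

end Groth.Agent.PnDual
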