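import Groth.Agent.Lib.RegDescent
import Groth.Agent.Lib.SupportVanish
import Groth.Agent.KFlatLib.Scheme.TensorStalk
import Mathlib.Algebra.Homology.ShortComplex.LeftHomology
import Mathlib.Algebra.Homology.ShortComplex.HomologicalComplex

/-!
Regularity along a complex whose homology lives in small dimension.
-/

set_option linter.style.haveILetI false
set_option linter.unusedSectionVars false
set_option backward.isDefEq.respectTransparency false
set_option backward.isDefEq.respectTransparency.types false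
set_option maxHeartbeats 1000000

universe u

open CategoryTheory CategoryTheory.Limits AlgebraicGeometry TopologicalSpace Opposite
open Groth.Agent.PnCoh.Finite

noncomputable section

namespace Groth.Agent.RegComplex

section Seq

variable {C : Type*} [Category C] [Abelian C] {A B D : C} (f : A ⟶ B) (g : B ⟶ D) (w : f ≫ g = 0)

theorem shortExact_image :
    (ShortComplex.mk (kernel.ι f) (Abelian.factorThruImage f)
      ((cancel_mono (Abelian.image.ι f)).1 (by simp))).ShortExact := by
  haveI : Epi (Abelian.factorThruImage f) := inferInstance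
  refine { exact := ShortComplex.exact_of_f_is_kernel _ ?_ }
  refine KernelFork.IsLimit.ofι _ _ (fun t ht => kernel.lift f t ?_) (fun t ht => kernel.lift_ι _ _ _)
    (fun t ht m hm => (cancel_mono (kernel.ι f)).1 (hm.trans (kernel.lift_ι _ _ _).symm))
  rw [← Abelian.image.fac f, reassoc_of% ht, zero_comp]

include w in
theorem image_ι_comp : Abelian.image.ι f ≫ g = 0 :=
  (cancel_epi (Abelian.factorThruImage f)).1 (by rw [← Category.assoc, Abelian.image.fac, w, comp_zero])

/-- The image inside the kernel. -/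
theorem exists_homology_seq :
    ∃ (H : C) (i : Abelian.image f ⟶ kernel g) (p : kernel g ⟶ H) (hip : i ≫ p = 0),
      (ShortComplex.mk i p hip).ShortExact ∧ Nonempty ((ShortComplex.mk f g w).homology ≅ H) := by
  let i : Abelian.image f ⟶ kernel g := kernel.lift g (Abelian.image.ι f) (image_ι_comp f g w)
  haveI : Mono i := mono_of_mono_fac (kernel.lift_ι _ _ _)
  refine ⟨cokernel i, i, cokernel.π i, cokernel.condition i,
    { exact := ShortComplex.exact_of_g_is_cokernel _ (cokernelIsCokernel i) }, ⟨?_⟩⟩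
  have hi : kernel.lift g f w = Abelian.factorThruImage f ≫ i := by
    apply (cancel_mono (kernel.ι g)).1
    rw [kernel.lift_ι, Category.assoc, kernel.lift_ι, Abelian.image.fac]
  exact (ShortComplex.LeftHomologyData.ofHasKernelOfHasCokernel (ShortComplex.mk f g w)).homologyIso ≪≫
    cokernelIsoOfEq hi ≪≫ cokernelEpiComp _ i

end Seq

section Twist

variable {R A : Type u} [CommRing R] [CommRing A] [Algebra R A] {𝒜 : ℕ → Submodule R A} [GradedAlgebra 𝒜]
  {κ : Type u} (g : κ → A) (hg : ∀ j, g j ∈ 𝒜 1) (hcov : ⨆ j, D 𝒜 (g j) = ⊤)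
  {S : ShortComplex (Proj 𝒜).Modules} (hS : S.ShortExact) (d : ℤ) (q : ℕ)

include hg hcov hS in
theorem subsingleton_tw_X₂ (h₁ : Subsingleton (Coh.HH (Proj 𝒜) ((twistF d).obj S.X₁) q))
    (h₃ : Subsingleton (Coh.HH (Proj 𝒜) ((twistF d).obj S.X₃) q)) :
    Subsingleton (Coh.HH (Proj 𝒜) ((twistF d).obj S.X₂) q) :=
  QCoh.subsingleton_HH_X₂ (RegDescent.twSeq_exact g hg hcov hS d) q h₁ h₃

include hg hcov hS in
theorem subsingleton_tw_X₃ (h₂ : Subsingleton (Coh.HH (Proj 𝒜) ((twistF d).obj S.X₂) q))
    (h₁ : Subsingleton (Coh.HH (Proj 𝒜) ((twistF d).obj S.X₁) (q + 1))) :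
    Subsingleton (Coh.HH (Proj 𝒜) ((twistF d).obj S.X₃) q) :=
  subsingleton_HH_X₃ (RegDescent.twSeq_exact g hg hcov hS d) q h₂ h₁

/-- Twisting does not enlarge the support. -/
theorem support_twistF_subset {X : Scheme.{u}} {M T : X.Modules} :
    CohB1.support ((DCoh.tensorBi.obj M).obj T) ⊆ CohB1.support M := by
  intro x hx
  by_contra h
  haveI hs : Subsingleton (M.presheaf.stalk x) := not_not.1 h
  haveI hT : Subsingleton (TensorProduct (X.presheaf.stalk x) (M.presheaf.stalk x) (T.presheaf.stalk x)) :=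
    subsingleton_of_forall_eq 0 fun t => by
      induction t using TensorProduct.induction_on with
      | zero => rfl
      | tmul a b => rw [Subsingleton.elim a 0, TensorProduct.zero_tmul]
      | add a b ha hb => rw [ha, hb, add_zero]
  exact hx (@Equiv.subsingleton _ _ (KFlatLib.stalkTensorIso x M T).symm.toLinearEquiv.toEquiv hT)

end Twist

open Groth.Agent.RegEpi Groth.Agent.ProjRegular

variable {k : Type u} [Field k] {n : ℕ}

local notation "PP" => Proj (CohB1.polyGrading n k)

theorem isCoh_image {A B : (Proj (CohB1.polyGrading n k)).Modules} (hA : Coh.IsCoh A) (hB : Coh.IsCoh B)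
    (f : A ⟶ B) : Coh.IsCoh (Abelian.image f) := by
  haveI hP : IsNoetherian (Proj (CohB1.polyGrading n k)) := Proj16.isNoetherian_proj _
  exact QCoh.isCoh_kernel hB (QCoh.isCoh_cokernel hA.1 hB f) (cokernel.π f)

theorem isCoh_homology {S : ShortComplex (Proj (CohB1.polyGrading n k)).Modules} (h₁ : Coh.IsCoh S.X₁)
    (h₂ : Coh.IsCoh S.X₂) (h₃ : Coh.IsCoh S.X₃) : Coh.IsCoh S.homology := by
  haveI hP : IsNoetherian (Proj (CohB1.polyGrading n k)) := Proj16.isNoetherian_proj _
  exact SheafHomX.isCoh_of_iso (ShortComplex.LeftHomologyData.ofHasKernelOfHasCokernel S).homologyIso.symm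
    (QCoh.isCoh_cokernel h₁.1 (QCoh.isCoh_kernel h₂ h₃ S.g) _)

theorem subsingleton_high {M : (Proj (CohB1.polyGrading n k)).Modules} (hM : Coh.IsCoh M) (d : ℤ) (q : ℕ)
    (hq : n < q) : Subsingleton (Coh.HH PP ((twF d).obj M) q) :=
  ProjRegular.subsingleton_HH_high (k := k) (n := n) hM d q hq

/-- Modules supported in dimension at most one. -/
theorem subsingleton_small {M : (Proj (CohB1.polyGrading n k)).Modules} (hM : Coh.IsCoh M)
    (hdim : topologicalKrullDim (CohB1.support M) ≤ 1) (d : ℤ) (q : ℕ) (hq : 2 ≤ q) :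
    Subsingleton (Coh.HH PP ((twF d).obj M) q) := by
  haveI hP : IsNoetherian (Proj (CohB1.polyGrading n k)) := Proj16.isNoetherian_proj _
  refine SupportVanish.subsingleton_HH_of_support_dim_le_one (CohB1.polyGrading n k)
    (ProjRegular.isCoh_twistBy hM d) ?_ (fun V W hV hW => IsAffineOpen.inf hV hW) q hq
  refine le_trans ?_ hdim
  exact Topology.IsInducing.topologicalKrullDim_le
    (f := Set.inclusion (support_twistF_subset (M := M) (T := Twist.twist (CohB1.polyGrading n k) d)))
    (Topology.IsEmbedding.inclusion _).isInducing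

variable (E : ChainComplex (Proj (CohB1.polyGrading n k)).Modules ℕ)

/-- Regularity of the images. -/
theorem subsingleton_image (t : ℕ) (hbdd : ∀ s : ℕ, t < s → IsZero (E.X s))
    (hcoh : ∀ s : ℕ, Coh.IsCoh (E.X s)) (d : ℤ)
    (hreg : ∀ (s i : ℕ), 1 ≤ i → Subsingleton (Coh.HH PP ((twF (d + s - i)).obj (E.X s)) i))
    (hsupp : ∀ i : ℕ, 0 < i → topologicalKrullDim (CohB1.support (E.homology i)) ≤ 1) :
    ∀ (r s : ℕ), t ≤ s + r → ∀ q : ℕ, 1 ≤ q →
      Subsingleton (Coh.HH PP ((twF (d + s + 1 - q)).obj (Abelian.image (E.d (s + 1) s))) q) := by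
  intro r
  induction r with
  | zero =>
    intro s hs q _
    have hz : IsZero (Abelian.image (E.d (s + 1) s)) :=
      IsZero.of_epi_eq_zero (Abelian.factorThruImage (E.d (s + 1) s)) ((hbdd (s + 1) (by omega)).eq_of_src _ _)
    exact subsingleton_HH_of_decomposition (ι := Fin 0) (fun i => i.elim0) (fun i => i.elim0)
      (fun i => i.elim0) (((twF (k := k) (n := n) (d + s + 1 - q)).map_isZero hz).eq_of_src _ _) q
      (fun i => i.elim0)
  | succ r ih =>
    intro s hs q hq
    refine subsingleton_tw_X₃ (coords k n) coords_mem coords_cover (shortExact_image (E.d (s + 1) s))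
      (d + s + 1 - q) q ?_ ?_
    · have h := hreg (s + 1) q hq
      rwa [show d + ((s + 1 : ℕ) : ℤ) - (q : ℤ) = d + s + 1 - q by push_cast; ring] at h
    · obtain ⟨H, i, p, hip, hex, ⟨e⟩⟩ :=
        exists_homology_seq (E.d (s + 1 + 1) (s + 1)) (E.d (s + 1) s) (E.d_comp_d _ _ _)
      have e' : E.homology (s + 1) ≅ H :=
        ShortComplex.homologyMapIso (E.isoSc' (s + 1 + 1) (s + 1) s (by simp) (by simp)) ≪≫ e
      refine subsingleton_tw_X₂ (coords k n) coords_mem coords_cover hex (d + s + 1 - q) (q + 1) ?_ ?_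
      · have h := ih (s + 1) (by omega) (q + 1) (by omega)
        rwa [show d + ((s + 1 : ℕ) : ℤ) + 1 - ((q + 1 : ℕ) : ℤ) = d + s + 1 - q by push_cast; ring] at h
      · have hH : Coh.IsCoh (E.homology (s + 1)) :=
          isCoh_homology (hcoh _) (hcoh _) (hcoh _)
        exact Groth.Agent.QCoh.subsingleton_HH_of_iso ((twF (d + s + 1 - q)).mapIso e') (q + 1)
          (subsingleton_small hH (hsupp (s + 1) (by omega)) _ (q + 1) (by omega))

theorem subsingleton_cokernel {A B : (Proj (CohB1.polyGrading n k)).Modules} (f : A ⟶ B) (d : ℤ) (q : ℕ)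
    (hB : Subsingleton (Coh.HH PP ((twF (d - q)).obj B) q))
    (hI : Subsingleton (Coh.HH PP ((twF (d - q)).obj (Abelian.image f)) (q + 1))) :
    Subsingleton (Coh.HH PP ((twF (d - q)).obj (cokernel f)) q) :=
  subsingleton_tw_X₃ (coords k n) coords_mem coords_cover
    (S := ShortComplex.mk (Abelian.image.ι f) (cokernel.π f) (kernel.condition _))
    { exact := ShortComplex.exact_of_f_is_kernel _ (kernelIsKernel (cokernel.π f)) } (d - q) q hB hI

end Groth.Agent.RegComplex
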