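import Groth.Agent.Lib.RegEpiGen
import Groth.Agent.Lib.ProjRegularPn
import Groth.Agent.Lib.PnDualExt
import Groth.Agent.SheafHomX.Coherent
import Groth.Agent.QCoh.Support
import Groth.Agent.QCoh.HHExact
import Groth.Agent.S0844

/-!
Linear first steps of resolutions of regular sheaves.
-/

set_option linter.style.haveILetI false
set_option linter.unusedSectionVars false
set_option backward.isDefEq.respectTransparency false
set_option backward.isDefEq.respectTransparency.types false
set_option maxHeartbeats 1000000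

universe u

open CategoryTheory CategoryTheory.Limits AlgebraicGeometry TopologicalSpace Opposite
open Groth.Agent.PnCoh.Finite Groth.Agent.ProjRegular

noncomputable section

namespace Groth.Agent.RegEpi

variable {k : Type u} [Field k] {n : ℕ}

local notation "Ptw" => Twist.twist (CohB1.polyGrading n k)

/-- Twisting, as a functor on projective space. -/
abbrev twF (d : ℤ) : (Proj (CohB1.polyGrading n k)).Modules ⥤ (Proj (CohB1.polyGrading n k)).Modules :=
  twistF (𝒜 := CohB1.polyGrading n k) d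

instance isEquivalence_twF (d : ℤ) : (twF (k := k) (n := n) d).IsEquivalence :=
  (PnDual.twistEquivalence (coords k n) coords_mem coords_cover d (-d) (add_neg_cancel d)).isEquivalence_functor

instance additive_twF (d : ℤ) : (twF (k := k) (n := n) d).Additive :=
  Functor.additive_of_preserves_binary_products _

theorem unitIso : Nonempty (Coh.structureModule (Proj (CohB1.polyGrading n k)) ≅ Ptw 0) :=
  ⟨@asIso _ _ _ _ _ (isIso_oneHom (coords k n) coords_mem coords_cover)⟩

/-- A twisted finite sum of twists. -/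
theorem twF_sigma_iso (b : ℕ) (e d : ℤ) :
    Nonempty ((twF d).obj (∐ fun _ : Fin b => Ptw e) ≅ ∐ fun _ : Fin b => Ptw (e + d)) := by
  obtain ⟨φ⟩ := twist_tensor_iso (coords k n) coords_mem coords_cover e d
  exact ⟨(PreservesCoproduct.iso (twF d) fun _ : Fin b => Ptw e) ≪≫ Sigma.mapIso fun _ => φ⟩

theorem twF_sigma_unit_iso (b : ℕ) (d : ℤ) :
    Nonempty ((twF d).obj (∐ fun _ : Fin b => Coh.structureModule (Proj (CohB1.polyGrading n k))) ≅
      ∐ fun _ : Fin b => Ptw d) := by
  obtain ⟨φ⟩ := unitIso (k := k) (n := n)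
  obtain ⟨ψ⟩ := twF_sigma_iso (k := k) (n := n) b 0 d
  exact ⟨(twF d).mapIso (Sigma.mapIso fun _ => φ) ≪≫ ψ ≪≫ Sigma.mapIso fun _ => eqToIso (by rw [zero_add])⟩

theorem twF_twF_iso (M : (Proj (CohB1.polyGrading n k)).Modules) (a b c : ℤ) (h : c = a + b) :
    Nonempty ((twF b).obj ((twF a).obj M) ≅ (twF c).obj M) := by
  obtain ⟨φ⟩ := twist_tensor_iso (coords k n) coords_mem coords_cover a b
  exact ⟨(PnDual.twistFCompIso a b c (φ ≪≫ eqToIso (by rw [h]))).app M⟩

theorem twF_zero_iso (M : (Proj (CohB1.polyGrading n k)).Modules) : Nonempty ((twF 0).obj M ≅ M) := by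
  obtain ⟨φ⟩ := unitIso (k := k) (n := n)
  exact ⟨(PnDual.twistFZeroIso φ).app M⟩

theorem isCoh_sigma_twist (b : ℕ) (e : ℤ) :
    Coh.IsCoh (∐ fun _ : Fin b => Ptw e) := by
  haveI hP : IsNoetherian (Proj (CohB1.polyGrading n k)) := Proj16.isNoetherian_proj _
  haveI := Abelian.hasFiniteBiproducts (C := (Proj (CohB1.polyGrading n k)).Modules)
  have h := QCoh.isCoh_biproduct (X := Proj (CohB1.polyGrading n k)) (fun _ : ULift.{u} (Fin b) => Ptw e)
    fun _ => CurveDeg.isCoh_of_isInvertible (isInvertible_twist (coords k n) coords_mem coords_cover e)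
  exact SheafHomX.isCoh_of_iso (biproduct.isoCoproduct _ ≪≫
    (Sigma.whiskerEquiv (f := fun _ : Fin b => Ptw e) (g := fun _ : ULift.{u} (Fin b) => Ptw e)
      Equiv.ulift.symm fun _ => Iso.refl _).symm) h

variable [(Proj (CohB1.polyGrading n k)).Over (Spec (CommRingCat.of k))]

theorem subsingleton_HH_sigma_twist (b : ℕ) (e : ℤ) (q : ℕ)
    (h₀ : ¬(q = 0 ∧ 0 ≤ e)) (hn : ¬(q = n ∧ e ≤ -((n : ℤ) + 1))) :
    Subsingleton (Coh.HH (Proj (CohB1.polyGrading n k)) (∐ fun _ : Fin b => Ptw e) q) :=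
  subsingleton_HH_sigma _ q fun _ => S0844.result k n e q h₀ hn

/-- The forward direction: the evaluation map of a `0`-regular sheaf has a `1`-regular kernel. -/
theorem exists_kernel_regular {G : (Proj (CohB1.polyGrading n k)).Modules} (hG : Coh.IsCoh G)
    (hR : Reg0 (𝒜 := CohB1.polyGrading n k) G)
    [Module.Finite k (Coh.HH (Proj (CohB1.polyGrading n k)) G 0)] :
    ∃ (b : ℕ) (ψ : (∐ fun _ : Fin b => Coh.structureModule (Proj (CohB1.polyGrading n k))) ⟶ G),
      Epi ψ ∧ ∀ i : ℕ, 1 ≤ i →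
        Subsingleton (Coh.HH (Proj (CohB1.polyGrading n k)) ((twF (1 - (i : ℤ))).obj (kernel ψ)) i) := by
  obtain ⟨b, ψ, hs, hg⟩ := exists_sigma_hom k G
  haveI : Epi ψ := hg (ProjRegular.isGloballyGenerated coords_mem coords_cover coords_noetherian
    (good_of_isCoh coords_mem hG) hR)
  refine ⟨b, ψ, inferInstance, fun i hi => ?_⟩
  let S : ShortComplex (Proj (CohB1.polyGrading n k)).Modules :=
    ShortComplex.mk (kernel.ι ψ) ψ (kernel.condition ψ)
  have hS : S.ShortExact :=
    { exact := ShortComplex.exact_of_f_is_kernel _ (kernelIsKernel ψ) }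
  rcases Nat.lt_or_ge i 2 with h2 | h2
  · obtain rfl : i = 1 := by omega
    obtain ⟨e0⟩ := twF_zero_iso (k := k) (n := n) (kernel ψ)
    rw [show (1 : ℤ) - (1 : ℕ) = 0 by norm_num]
    refine QCoh.subsingleton_HH_of_iso e0.symm 1 ?_
    refine subsingleton_of_forall_eq 0 fun x => ?_
    obtain ⟨φ⟩ := unitIso (k := k) (n := n)
    have h1 : Subsingleton (Coh.HH (Proj (CohB1.polyGrading n k))
        (∐ fun _ : Fin b => Coh.structureModule (Proj (CohB1.polyGrading n k))) 1) :=
      subsingleton_HH_sigma _ 1 fun _ =>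
        QCoh.subsingleton_HH_of_iso φ.symm 1 (S0844.result k n 0 1 (fun h => by omega) (fun h => by omega))
    obtain ⟨y, rfl⟩ := (PnDual.HHlin_f_eq_zero_iff (k := k) hS 0 x).1 (h1.elim _ _)
    obtain ⟨z, rfl⟩ := hs y
    exact LinearMap.mem_ker.1 (LinearMap.mem_ker.2 ((QCoh.Ab.connecting_eq_zero_iff
      (X := (Proj (CohB1.polyGrading n k)).toPresheafedSpace.carrier) (QCoh.toAb_shortExact hS) 0 _).2 ⟨z, rfl⟩))
  · have hS' := shortExact_twistBy (coords k n) coords_mem coords_cover (1 - (i : ℤ)) hS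
    obtain ⟨q, rfl⟩ : ∃ q, i = q + 1 := ⟨i - 1, by omega⟩
    refine subsingleton_of_forall_eq 0 fun x => ?_
    obtain ⟨e1⟩ := twF_sigma_unit_iso (k := k) (n := n) b (1 - ((q + 1 : ℕ) : ℤ))
    have h1 : Subsingleton (Coh.HH (Proj (CohB1.polyGrading n k)) ((twF (1 - ((q + 1 : ℕ) : ℤ))).obj S.X₂) (q + 1)) :=
      QCoh.subsingleton_HH_of_iso e1.symm (q + 1)
        (subsingleton_HH_sigma_twist b _ _ (fun h => by omega) (fun h => by omega))
    obtain ⟨y, rfl⟩ := (PnDual.HHlin_f_eq_zero_iff (k := k) hS' q x).1 (h1.elim _ _)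
    have h3 := hR q (by omega)
    have hy : y = 0 := by
      have : Subsingleton (Coh.HH (Proj (CohB1.polyGrading n k)) ((twF (1 - ((q + 1 : ℕ) : ℤ))).obj G) q) := by
        rw [show (1 : ℤ) - ((q + 1 : ℕ) : ℤ) = -(q : ℤ) by push_cast; ring]
        exact h3
      exact this.elim _ _
    rw [hy, map_zero]

/-- The backward direction. -/
theorem subsingleton_of_kernel_regular {F : (Proj (CohB1.polyGrading n k)).Modules} (hF : Coh.IsCoh F)
    {b : ℕ} {m : ℤ} (φ : (∐ fun _ : Fin b => Ptw (-m)) ⟶ F) [Epi φ] (i : ℕ) (hi : 1 ≤ i) (hin : i ≤ n)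
    (hK : ∀ q : ℕ, 1 ≤ q → q ≤ n →
      Subsingleton (Coh.HH (Proj (CohB1.polyGrading n k)) ((twF (m + 1 - (q : ℤ))).obj (kernel φ)) q)) :
    Subsingleton (Coh.HH (Proj (CohB1.polyGrading n k)) ((twF (m - (i : ℤ))).obj F) i) := by
  haveI hP : IsNoetherian (Proj (CohB1.polyGrading n k)) := Proj16.isNoetherian_proj _
  let S : ShortComplex (Proj (CohB1.polyGrading n k)).Modules :=
    ShortComplex.mk (kernel.ι φ) φ (kernel.condition φ)
  have hS : S.ShortExact :=
    { exact := ShortComplex.exact_of_f_is_kernel _ (kernelIsKernel φ) }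
  refine subsingleton_HH_X₃ (shortExact_twistBy (coords k n) coords_mem coords_cover (m - (i : ℤ)) hS) i ?_ ?_
  · obtain ⟨e⟩ := twF_sigma_iso (k := k) (n := n) b (-m) (m - (i : ℤ))
    exact QCoh.subsingleton_HH_of_iso e.symm i
      (subsingleton_HH_sigma_twist b _ _ (fun h => by omega) (fun h => by omega))
  · show Subsingleton (Coh.HH _ ((twF (m - (i : ℤ))).obj (kernel φ)) (i + 1))
    rcases Nat.lt_or_ge i n with h | h
    · rw [show m - (i : ℤ) = m + 1 - ((i + 1 : ℕ) : ℤ) by push_cast; ring]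
      exact hK (i + 1) (by omega) h
    · exact ProjRegular.subsingleton_HH_high (k := k) (n := n)
        (QCoh.isCoh_kernel (isCoh_sigma_twist b (-m)) hF φ) (m - (i : ℤ)) (i + 1) (by omega)

end Groth.Agent.RegEpi
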