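import Groth.Agent.BCCrit13.Colim
import Groth.Agent.S4329
import Groth.Agent.KFlatLib.Scheme.RpushCoprod
import Mathlib.CategoryTheory.Limits.Constructions.Filtered

/-!
# Direct images of direct sums on the small étale sites

For a quasi-compact quasi-separated morphism `f`, the functor `f_*` on abelian étale sheaves commutes
with direct sums, and `Rf_*` commutes with uniformly bounded below direct sums.
-/

set_option autoImplicit false
set_option linter.style.haveILetI false
set_option backward.isDefEq.respectTransparency false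
set_option backward.isDefEq.respectTransparency.types false
set_option maxHeartbeats 1000000

universe w v v' t t' u

open CategoryTheory CategoryTheory.Limits AlgebraicGeometry Opposite

attribute [local instance] HasDerivedCategory.standard

namespace Groth.Agent.PushSum12

section Generic

variable {C : Type t} [Category.{v} C] {D : Type t'} [Category.{v'} D]

open CoproductsFromFiniteFiltered in
/-- A functor preserving finite coproducts and filtered colimits preserves coproducts. -/
theorem preservesColimit_of_finite_filtered [HasFiniteCoproducts C] {α : Type w}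
    [HasColimitsOfShape (Discrete α) C] [HasColimitsOfShape (Finset (Discrete α)) C]
    (F : C ⥤ D) [PreservesFiniteCoproducts F] [PreservesColimitsOfShape (Finset (Discrete α)) F] (M : α → C) :
    PreservesColimit (Discrete.functor M) F := by
  classical
  have hL := isColimitOfPreserves F (isColimitFiniteSubproductsCocone M)
  have hS : ∀ S : Finset (Discrete α),
      IsColimit (Cofan.mk (F.obj (∐ fun x : S => M x.1.as)) fun x => F.map (Sigma.ι (fun x : S => M x.1.as) x)) :=
    fun S => (Cofan.isColimitMapCoconeEquiv F _ _) (isColimitOfPreserves F (coproductIsCoproduct _))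
  let d : ∀ (t : Cofan fun j => F.obj (M j)) (S : Finset (Discrete α)), F.obj (∐ fun x : S => M x.1.as) ⟶ t.pt :=
    fun t S => Cofan.IsColimit.desc (hS S) fun x => t.inj x.1.as
  have hd : ∀ (t : Cofan fun j => F.obj (M j)) (S : Finset (Discrete α)) (x : S),
      F.map (Sigma.ι (fun x : S => M x.1.as) x) ≫ d t S = t.inj x.1.as :=
    fun t S x => Cofan.IsColimit.fac (hS S) _ x
  let k : ∀ t : Cofan fun j => F.obj (M j), Cocone (liftToFinsetObj (Discrete.functor M) ⋙ F) := fun t =>
    { pt := t.pt
      ι := { app := d t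
             naturality := fun S T h => by
              refine (Cofan.IsColimit.hom_ext (hS S) _ _ fun x => ?_).trans (Category.comp_id _).symm
              refine ((F.map_comp_assoc _ _ _).symm.trans ?_).trans (hd t S x).symm
              have e : Sigma.ι (fun x : S => M x.1.as) x ≫ (liftToFinsetObj (Discrete.functor M)).map h =
                  Sigma.ι (fun x : T => M x.1.as) ⟨x.1, h.down.down x.2⟩ := Sigma.ι_desc _ _
              exact (congrArg (fun g => F.map g ≫ d t T) e).trans (hd t T _) } }
  have hι : ∀ (S : Finset (Discrete α)) (x : S),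
      Sigma.ι (fun x : S => M x.1.as) x ≫ (finiteSubcoproductsCocone M).ι.app S = Sigma.ι M x.1.as :=
    fun S x => Sigma.ι_desc _ _
  refine preservesColimit_of_preserves_colimit_cocone (coproductIsCoproduct M)
    ((Cofan.isColimitMapCoconeEquiv F _ _).symm ?_)
  refine Cofan.IsColimit.mk _ (fun t => hL.desc (k t)) (fun t j => ?_) (fun t m hm => hL.hom_ext fun S => ?_)
  · let x : ({⟨j⟩} : Finset (Discrete α)) := ⟨⟨j⟩, Finset.mem_singleton_self _⟩
    refine (congrArg (fun g => F.map g ≫ hL.desc (k t)) (hι _ x)).symm.trans ?_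
    refine (F.map_comp_assoc _ _ _).trans ?_
    exact (congrArg (F.map _ ≫ ·) (hL.fac (k t) _)).trans (hd t _ x)
  · refine ((Cofan.IsColimit.hom_ext (hS S) _ _ fun x => ?_)).trans (hL.fac (k t) S).symm
    refine ((F.map_comp_assoc _ _ _).symm.trans ?_).trans (hd t S x).symm
    exact (congrArg (fun g => F.map g ≫ m) (hι S x)).trans (hm x.1.as)

/-- Preservation of coproducts does not depend on the indexing type up to bijection. -/
theorem preservesColimit_of_equiv {ι : Type w} {α : Type u} (e : α ≃ ι) (F : C ⥤ D) (K : ι → C)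
    [PreservesColimit (Discrete.functor (K ∘ e)) F] : PreservesColimit (Discrete.functor K) F := by
  let E := Discrete.equivalence e
  haveI : PreservesColimit (E.functor ⋙ Discrete.functor K) F :=
    preservesColimit_of_iso_diagram (K₁ := Discrete.functor (K ∘ e)) F (Discrete.natIso fun _ => Iso.refl _)
  exact ⟨fun {c} hc => ⟨IsColimit.ofWhiskerEquivalence E
    (isColimitOfPreserves F (hc.whiskerEquivalence E))⟩⟩

end Generic

section Et

open Groth.Agent.EtFound Groth.Agent.TriCat Groth.Agent.BCCrit13

variable {X Y : Scheme.{u}}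

/-- A morphism of étale sheaves which is bijective on strict localizations is an isomorphism. -/
theorem isIso_of_geomPt {G H : EtCoh.Ab Y} (φ : G ⟶ H)
    (h : ∀ (y : Y) (R : Type u) [CommRing R] [IsLocalRing R] [Algebra (Y.presheaf.stalk y) R]
      [IsLocalHom (algebraMap (Y.presheaf.stalk y) R)] [Hensel.IsStrictHenselization (Y.presheaf.stalk y) R]
      [IsSepClosed (IsLocalRing.ResidueField R)], IsIso ((EtCoh.stalk (Hens2.geomPt Y y R)).map φ)) :
    IsIso φ := by
  haveI : Mono φ := Preadditive.mono_of_kernel_zero ((isZero_of_geomPt (kernel φ) fun y R _ _ _ _ _ _ => by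
    haveI := h y R
    exact (isZero_kernel_of_mono _).of_iso (PreservesKernel.iso _ φ)).eq_of_src _ _)
  haveI : Epi φ := Preadditive.epi_of_cokernel_zero ((isZero_of_geomPt (cokernel φ) fun y R _ _ _ _ _ _ => by
    haveI := h y R
    exact (isZero_cokernel_of_epi _).of_iso (PreservesCokernel.iso _ φ)).eq_of_tgt _ _)
  exact isIso_of_mono_of_epi φ

/-- Coproducts of acyclic sheaves are acyclic. -/
theorem isRightAcyclic_sigma (f : X ⟶ Y) [QuasiCompact f] [QuasiSeparated f] [EtCoh.BCCont f] {α : Type (u + 1)}
    (A : α → EtCoh.Ab X) (h : ∀ i, IsRightAcyclic (EtCoh.push f) (A i)) :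
    IsRightAcyclic (EtCoh.push f) (∐ A) := by
  classical
  haveI := push_preservesFiniteLimits f
  intro q hq
  refine IsZero.of_iso ?_ (((EtCoh.push f).rightDerived q).mapIso
    (CoproductsFromFiniteFiltered.liftToFinsetColimIso.app (Discrete.functor A)).symm)
  refine isRightAcyclic_colimit f _ (fun J p hp => ?_) q hq
  haveI : PreservesColimit (Discrete.functor fun x : { x // x ∈ J } => (Discrete.functor A).obj x.val)
      ((EtCoh.push f).rightDerived p) := inferInstance
  refine IsZero.of_iso ?_ (PreservesCoproduct.iso ((EtCoh.push f).rightDerived p) _)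
  exact (IsZero.iff_id_eq_zero _).2 (Sigma.hom_ext _ _ fun x => (h x.val.as p hp).eq_of_src _ _)

variable (f : X ⟶ Y) [QuasiCompact f] [QuasiSeparated f] [EtCoh.BCCont f]

/-- `f_*` commutes with filtered colimits. -/
theorem preservesColimitsOfShape_push (Λ : Type (u + 1)) [SmallCategory Λ] [IsFiltered Λ] :
    PreservesColimitsOfShape Λ (EtCoh.push f) := by
  haveI := push_preservesFiniteLimits f
  refine ⟨fun {D} => ?_⟩
  haveI : IsIso (colimit.post D (EtCoh.push f)) := by
    refine isIso_of_geomPt _ fun y R _ _ _ _ _ _ => ?_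
    obtain ⟨e⟩ := S6186.result f y R 0
    let σ := EtCoh.stalk (Hens2.geomPt Y y R)
    haveI : σ.IsLeftAdjoint := (Scheme.pointSmallEtale _).skyscraperSheafAdjunction.isLeftAdjoint
    let p := pullback.fst f (Hens2.specOf Y y R)
    haveI : CompactSpace ↥(pullback f (Hens2.specOf Y y R)) :=
      QuasiCompact.compactSpace_of_compactSpace (pullback.snd f (Hens2.specOf Y y R))
    haveI : QuasiSeparatedSpace ↥(pullback f (Hens2.specOf Y y R)) :=
      quasiSeparatedSpace_of_quasiSeparated (pullback.snd f (Hens2.specOf Y y R))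
    haveI : (EtCoh.pull p).IsLeftAdjoint := (EtCoh.pullPushAdj p).isLeftAdjoint
    haveI := EtLC12.QcqsAcyclic.preservesColimitsOfShape_HF (pullback f (Hens2.specOf Y y R)) 0 Λ
    haveI : PreservesColimitsOfShape Λ (EtCoh.push f ⋙ σ) :=
      preservesColimitsOfShape_of_natIso
        (e.symm ≪≫ Functor.isoWhiskerRight (EtCoh.push f).rightDerivedZeroIsoSelf σ)
    have h1 := isColimitOfPreserves σ (colimit.isColimit (D ⋙ EtCoh.push f))
    have h2 : IsColimit (σ.mapCocone ((EtCoh.push f).mapCocone (colimit.cocone D))) :=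
      isColimitOfPreserves (EtCoh.push f ⋙ σ) (colimit.isColimit D)
    have : σ.map (colimit.post D (EtCoh.push f)) = (h1.coconePointUniqueUpToIso h2).hom :=
      h1.hom_ext fun l => by
        rw [h1.comp_coconePointUniqueUpToIso_hom h2]
        exact (σ.map_comp _ _).symm.trans (congrArg σ.map (colimit.ι_post D (EtCoh.push f) l))
    rw [this]
    infer_instance
  exact preservesColimit_of_isIso_post _ _

/-- `f_*` commutes with coproducts. -/
theorem preservesColimitsOfShape_push_discrete (α : Type (u + 1)) :
    PreservesColimitsOfShape (Discrete α) (EtCoh.push f) := by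
  classical
  haveI := preservesColimitsOfShape_push f (Finset (Discrete α))
  haveI := push_preservesFiniteLimits f
  exact ⟨fun {K} =>
    haveI := preservesColimit_of_finite_filtered (EtCoh.push f) (K.obj ∘ Discrete.mk)
    preservesColimit_of_iso_diagram _ Discrete.natIsoFunctor.symm⟩

end Et

section Unit

open Groth.Agent.EtFound Groth.Agent.TriCat

variable {X Y : Scheme.{u}} (f : X ⟶ Y) [DCoh.HasRpushEt X f]

/-- The unit `Q(f_* F) ⟶ Rf_*(Q F)`, as a natural transformation of functors of complexes. -/
noncomputable def etUnit :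
    (EtCoh.push f).mapHomologicalComplex (ComplexShape.up ℤ) ⋙ DerivedCategory.Q ⟶
      DerivedCategory.Q ⋙ DCoh.RpushEt X f :=
  (Functor.isoWhiskerRight ((EtCoh.push f).mapHomotopyCategoryFactors
      (ComplexShape.up ℤ)) DerivedCategory.Qh ≪≫ Functor.associator _ _ _ ≪≫
    Functor.isoWhiskerLeft _ (DerivedCategory.quotientCompQhIso (EtCoh.Ab Y))).inv ≫
  (Functor.associator _ _ _).hom ≫
  Functor.whiskerLeft (HomotopyCategory.quotient (EtCoh.Ab X) (ComplexShape.up ℤ))
    ((DCoh.pushEtKh X f).totalRightDerivedUnit DerivedCategory.Qh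
      (HomotopyCategory.quasiIso (EtCoh.Ab X) (ComplexShape.up ℤ))) ≫
  (Functor.associator _ _ _).inv ≫
  Functor.whiskerRight (DerivedCategory.quotientCompQhIso (EtCoh.Ab X)).hom (DCoh.RpushEt X f)

theorem isIso_etUnit_of_kInjective (I : CochainComplex (EtCoh.Ab X) ℤ) [I.IsKInjective] :
    IsIso ((etUnit f).app I) := by
  haveI := S4329.Aux.isIso_unit f I
  simp only [etUnit, NatTrans.comp_app, Functor.associator_hom_app, Functor.associator_inv_app,
    Functor.whiskerLeft_app, Functor.whiskerRight_app]
  infer_instance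

/-- Bounded below complexes of acyclic sheaves compute `Rf_*`. -/
theorem isIso_etUnit_of_isStrictlyGE (F : CochainComplex (EtCoh.Ab X) ℤ) (a : ℤ) [F.IsStrictlyGE a]
    [EtCoh.BCCont f] (hac : ∀ n, IsRightAcyclic (EtCoh.push f) (F.X n)) :
    IsIso ((etUnit f).app F) := by
  haveI := push_preservesFiniteLimits f
  obtain ⟨I, s, hI, hinj, hm, hs⟩ := TriCat.exists_quasiIso_resolution (A := EtCoh.Ab X) Injective
    ⟨_, isZero_zero (EtCoh.Ab X), IsZero.injective (isZero_zero _)⟩
    (fun M => ⟨Injective.under M, Injective.ι M, inferInstance, inferInstance⟩) F a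
  haveI := hI
  haveI := hinj
  haveI := hs
  haveI : I.IsKInjective := CochainComplex.isKInjective_of_injective _ a
  haveI := TriCat.quasiIso_map_of_adapted
    (TriCat.isAdapted_isRightAcyclic (F := EtCoh.push f)) s hm a hac
    (fun n => TriCat.isRightAcyclic_of_injective _)
  let P := (EtCoh.push f).mapHomologicalComplex (ComplexShape.up ℤ)
  have h1 : IsIso (DerivedCategory.Q.map (P.map s)) := inferInstance
  have h2 : IsIso (DerivedCategory.Q.map s) := inferInstance
  have h3 := isIso_etUnit_of_kInjective f I
  have w := (etUnit f).naturality s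
  simp only [Functor.comp_map] at w
  have h4 : IsIso ((etUnit f).app F ≫ (DCoh.RpushEt X f).map (DerivedCategory.Q.map s)) := by
    rw [← w]
    exact IsIso.comp_isIso' h1 h3
  exact IsIso.of_isIso_comp_right _ ((DCoh.RpushEt X f).map (DerivedCategory.Q.map s))

variable [QuasiCompact f] [QuasiSeparated f]

/-- `Rf_*` commutes with uniformly bounded below coproducts. -/
theorem preservesColimit_RpushEt {α : Type (u + 1)} (C : α → DCoh.DEt X) (n : ℤ) (hC : ∀ i, (C i).IsGE n) :
    PreservesColimit (Discrete.functor C) (DCoh.RpushEt X f) := by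
  haveI : EtCoh.BCCont f := EtCoh.bcCont f
  haveI := preservesColimitsOfShape_push_discrete f α
  haveI : PreservesColimitsOfShape (Discrete α) ((EtCoh.push f).mapHomologicalComplex (ComplexShape.up ℤ)) :=
    ⟨fun {K} => ⟨fun {c} hc => ⟨HomologicalComplex.isColimitOfEval _ _ fun m =>
      isColimitOfPreserves (HomologicalComplex.eval (EtCoh.Ab X) (ComplexShape.up ℤ) m ⋙
        EtCoh.push f) hc⟩⟩⟩
  have hres : ∀ i, ∃ (K : CochainComplex (EtCoh.Ab X) ℤ), K.IsStrictlyGE n ∧ (∀ m, Injective (K.X m)) ∧
      Nonempty (DerivedCategory.Q.obj K ≅ C i) := fun i => by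
    haveI := hC i
    obtain ⟨L, hL, ⟨e⟩⟩ := DerivedCategory.exists_iso_Q_obj_of_isGE (C i) n
    haveI := hL
    obtain ⟨I, s, hI, hinj, -, hs⟩ := TriCat.exists_quasiIso_resolution (A := EtCoh.Ab X) Injective
      ⟨_, isZero_zero (EtCoh.Ab X), IsZero.injective (isZero_zero _)⟩
      (fun M => ⟨Injective.under M, Injective.ι M, inferInstance, inferInstance⟩) L n
    haveI := hs
    exact ⟨I, hI, hinj, ⟨(asIso (DerivedCategory.Q.map s)).symm ≪≫ e.symm⟩⟩
  choose K hKge hKinj eK using hres
  haveI := TriCat.hasColimitsOfShape_derivedCategory (A := EtCoh.Ab X) (J := α)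
  haveI := TriCat.hasColimitsOfShape_derivedCategory (A := EtCoh.Ab Y) (J := α)
  haveI h : IsIso (Sigma.desc fun j => (DCoh.RpushEt X f).map (Sigma.ι C j)) := by
    refine KFlatLib.isIso_sigmaDesc' (DCoh.RpushEt X f)
      ((EtCoh.push f).mapHomologicalComplex (ComplexShape.up ℤ)) (etUnit f) C K
      (fun i => (eK i).some) (fun i => ?_) ?_
    · haveI := hKge i
      haveI := hKinj i
      haveI : (K i).IsKInjective := CochainComplex.isKInjective_of_injective _ n
      exact isIso_etUnit_of_kInjective f (K i)
    · let e : ∀ m, ∐ (fun i => (K i).X m) ≅ (∐ K).X m := fun m =>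
        (PreservesCoproduct.iso (HomologicalComplex.eval (EtCoh.Ab X) (ComplexShape.up ℤ) m) K).symm
      haveI : CochainComplex.IsStrictlyGE (∐ K) n := (CochainComplex.isStrictlyGE_iff _ n).2 fun m hm => by
        refine IsZero.of_iso ?_ (e m).symm
        rw [IsZero.iff_id_eq_zero]
        exact Sigma.hom_ext _ _ fun i => by
          haveI := hKge i
          exact (CochainComplex.isZero_of_isStrictlyGE (K i) n m hm).eq_of_src _ _
      haveI := push_preservesFiniteLimits f
      refine isIso_etUnit_of_isStrictlyGE f (∐ K) n fun m q hq => ?_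
      haveI : ∀ i, Injective ((K i).X m) := fun i => hKinj i m
      exact (isRightAcyclic_sigma f (fun i => (K i).X m)
        (fun i => TriCat.isRightAcyclic_of_injective _) q hq).of_iso
        (((EtCoh.push f).rightDerived q).mapIso (e m).symm)
  haveI : IsIso (sigmaComparison (DCoh.RpushEt X f) C) := h
  exact PreservesCoproduct.of_iso_comparison _ _

end Unit

end Groth.Agent.PushSum12
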