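import Groth.Agent.FlatMisc.SteinUC
import Mathlib.AlgebraicGeometry.ZariskisMainTheorem

/-!
# Consequences of Zariski's main theorem for isolated points of fibres
-/

set_option autoImplicit false
set_option linter.style.haveILetI false
set_option backward.isDefEq.respectTransparency false
set_option backward.isDefEq.respectTransparency.types false

universe u

open CategoryTheory CategoryTheory.Limits AlgebraicGeometry TopologicalSpace Opposite

namespace Groth.Agent.Lib.ZMTIso

variable {X Y : Scheme.{u}} (f : X ⟶ Y)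

theorem isOpen_singleton_asFiber_iff (x : X) :
    IsOpen ({f.asFiber x} : Set (f.fiber (f x))) ↔
      IsOpen ({⟨x, Set.mem_singleton (f x)⟩} : Set ↥(f ⁻¹' {f x})) := by
  rw [← (f.fiberHomeo (f x)).isOpen_image, Set.image_singleton]
  simp [Scheme.Hom.asFiber]

theorem quasiFiniteAt_iff_isClopen [LocallyOfFiniteType f] (x : X) :
    f.QuasiFiniteAt x ↔ IsClopen ({⟨x, Set.mem_singleton (f x)⟩} : Set ↥(f ⁻¹' {f x})) := by
  refine ⟨fun h => ?_, fun h => Scheme.Hom.quasiFiniteAt_iff_isOpen_singleton_asFiber.mpr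
    ((isOpen_singleton_asFiber_iff f x).mpr h.isOpen)⟩
  have h2 := h.isClopen_singleton_asFiber
  refine ⟨?_, (isOpen_singleton_asFiber_iff f x).mp h2.isOpen⟩
  have h3 := (f.fiberHomeo (f x)).isClosed_image.mpr h2.isClosed
  rw [Set.image_singleton] at h3
  simpa [Scheme.Hom.asFiber] using h3

theorem quasiFiniteAt_of_preimage_singleton [IsProper f] [IsFinite f.fromNormalization] (x : X)
    (hx : f.toNormalization ⁻¹' {f.toNormalization x} = {x}) : f.QuasiFiniteAt x := by
  refine Scheme.Hom.quasiFiniteAt_iff_isOpen_singleton_asFiber.mpr ((isOpen_singleton_asFiber_iff f x).mpr ?_)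
  have hy : f.fromNormalization (f.toNormalization x) = f x :=
    congr($(f.toNormalization_fromNormalization).base x)
  haveI := isDiscrete_iff_discreteTopology.mp (f.fromNormalization.isDiscrete_preimage_singleton (f x))
  obtain ⟨W, hW, hWe⟩ := isOpen_induced_iff.mp
    (isOpen_discrete ({⟨f.toNormalization x, hy⟩} : Set ↥(f.fromNormalization ⁻¹' {f x})))
  refine isOpen_induced_iff.mpr ⟨f.toNormalization ⁻¹' W, hW.preimage f.toNormalization.continuous, ?_⟩
  ext ⟨z, hz⟩
  have hz' : f.toNormalization z ∈ f.fromNormalization ⁻¹' {f x} :=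
    (congr($(f.toNormalization_fromNormalization).base z)).trans hz
  have hiff := Set.ext_iff.mp hWe ⟨_, hz'⟩
  simp only [Set.mem_preimage, Set.mem_singleton_iff, Subtype.mk.injEq] at hiff ⊢
  rw [hiff]
  exact ⟨fun h => by
    have : z ∈ f.toNormalization ⁻¹' {f.toNormalization x} := h
    rwa [hx] at this, fun h => h ▸ rfl⟩

theorem preimage_toNormalization_singleton [LocallyOfFiniteType f] [IsSeparated f] [QuasiCompact f] {x : X}
    (hx : f.QuasiFiniteAt x) : f.toNormalization ⁻¹' {f.toNormalization x} = {x} := by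
  obtain ⟨U, hU, e⟩ := f.exists_isIso_morphismRestrict_toNormalization
  ext z
  refine ⟨fun hz => ?_, fun hz => hz ▸ rfl⟩
  have hxU : x ∈ f.toNormalization ⁻¹ᵁ U := by
    show x ∈ (f.toNormalization ⁻¹ᵁ U).1
    rw [e]; exact hx
  have hz' : f.toNormalization z = f.toNormalization x := hz
  have hzU : z ∈ f.toNormalization ⁻¹ᵁ U := by
    show f.toNormalization z ∈ U
    rw [hz']; exact hxU
  exact congrArg Subtype.val
    ((f.toNormalization ∣_ U).homeomorph.injective (a₁ := ⟨z, hzU⟩) (a₂ := ⟨x, hxU⟩) (by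
      apply U.ι.isOpenEmbedding.injective
      show ((f.toNormalization ∣_ U) ≫ U.ι).base _ = ((f.toNormalization ∣_ U) ≫ U.ι).base _
      rw [morphismRestrict_ι]
      exact hz'))

variable [QuasiCompact f] [QuasiSeparated f]

/-- If `O_Y → f_* O_X` is an isomorphism, the normalization of `Y` in `X` is `Y`. -/
theorem isIso_fromNormalization (hO : ∀ U : Y.Opens, Function.Bijective (f.app U)) : IsIso f.fromNormalization := by
  refine (IsZariskiLocalAtTarget.iff_of_iSup_eq_top (P := MorphismProperty.isomorphisms Scheme) _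
    (iSup_affineOpens_eq_top Y)).mpr fun V => ?_
  show IsIso (f.fromNormalization ∣_ V.1)
  haveI : IsAffine (V.1 : Scheme.{u}) := V.2
  haveI : IsAffine (f.fromNormalization ⁻¹ᵁ V.1 : Scheme.{u}) := V.2.preimage f.fromNormalization
  letI := (f.app V.1).hom.toAlgebra
  have hinj : Function.Injective (f.toNormalization.app (f.fromNormalization ⁻¹ᵁ V.1)) := by
    rw [f.toNormalization_app_preimage V]
    simp only [CommRingCat.hom_comp, RingHom.coe_comp]
    exact ((ConcreteCategory.bijective_of_isIso (X.presheaf.map (eqToHom _).op)).1.comp Subtype.val_injective).comp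
      (ConcreteCategory.bijective_of_isIso (f.normalizationObjIso V.2).hom).1
  have hbij : Function.Bijective (f.fromNormalization.app V.1) := by
    have e := Scheme.Hom.congr_app f.toNormalization_fromNormalization V.1
    rw [Scheme.Hom.comp_app] at e
    have h := (ConcreteCategory.bijective_of_isIso (X.presheaf.map (eqToHom
      (show (f.toNormalization ≫ f.fromNormalization) ⁻¹ᵁ V.1 = f ⁻¹ᵁ V.1 by
        rw [f.toNormalization_fromNormalization])).op)).comp (hO V.1)
    have h' : Function.Bijective (f.toNormalization.app (f.fromNormalization ⁻¹ᵁ V.1) ∘ f.fromNormalization.app V.1) := by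
      exact (funext fun a => congr($(e) a) : (f.toNormalization.app (f.fromNormalization ⁻¹ᵁ V.1) ∘
        f.fromNormalization.app V.1 : Γ(Y, V.1) → _) = _) ▸ h
    exact ⟨h'.1.of_comp, fun b => by
      obtain ⟨a, ha⟩ := h'.2 (f.toNormalization.app (f.fromNormalization ⁻¹ᵁ V.1) b)
      exact ⟨a, hinj ha⟩⟩
  haveI : IsIso (f.fromNormalization ∣_ V.1).appTop := by
    rw [Scheme.Hom.appTop, morphismRestrict_app]
    haveI : IsIso (f.fromNormalization.app (V.1.ι ''ᵁ ⊤)) := by
      rw [V.1.ι_image_top]; exact (ConcreteCategory.isIso_iff_bijective _).mpr hbij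
    exact @IsIso.comp_isIso _ _ _ _ _ _ _ inferInstance (Functor.map_isIso _ _)
  exact (HasAffineProperty.iff_of_isAffine (P := MorphismProperty.isomorphisms Scheme)).mpr ⟨inferInstance, inferInstance⟩

/-- The locus of `Y` over which a morphism with `f_* O_X = O_Y` is an isomorphism. -/
theorem exists_open [IsSeparated f] [LocallyOfFiniteType f] (hO : ∀ U : Y.Opens, Function.Bijective (f.app U)) :
    ∃ V : Y.Opens, IsIso (f ∣_ V) ∧ (∀ x, f x ∈ V ↔ f.QuasiFiniteAt x) ∧
      ∀ y : Y, y ∉ (V : Set Y) → ∀ x : ↥(f.fiber y), ¬ IsOpen ({x} : Set ↥(f.fiber y)) := by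
  haveI := isIso_fromNormalization f hO
  obtain ⟨U, hU, e⟩ := f.exists_isIso_morphismRestrict_toNormalization
  let ν := asIso f.fromNormalization
  let V : Y.Opens := ν.inv ⁻¹ᵁ U
  have hpre : f.fromNormalization ⁻¹ᵁ V = U := by
    show f.fromNormalization ⁻¹ᵁ (ν.inv ⁻¹ᵁ U) = U
    rw [← Scheme.Hom.comp_preimage, show f.fromNormalization ≫ ν.inv = 𝟙 _ from ν.hom_inv_id]
    rfl
  have hmem : ∀ x, f x ∈ V ↔ f.QuasiFiniteAt x := fun x => by
    have h1 : f x ∈ V ↔ f.toNormalization x ∈ f.fromNormalization ⁻¹ᵁ V := by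
      rw [show f x = f.fromNormalization (f.toNormalization x) from
        (congr($(f.toNormalization_fromNormalization).base x)).symm]
      rfl
    rw [h1, hpre]
    exact Set.ext_iff.mp e x
  refine ⟨V, ?_, hmem, fun y hy x hx => ?_⟩
  · have key : ∀ U' : f.normalization.Opens, U' = U → IsIso (f.toNormalization ∣_ U') := by
      rintro _ rfl; exact hU
    have h2 : IsIso ((f.toNormalization ≫ f.fromNormalization) ∣_ V) := by
      rw [morphismRestrict_comp]
      haveI := key _ hpre
      infer_instance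
    rwa [f.toNormalization_fromNormalization] at h2
  · obtain ⟨x', rfl⟩ : ∃ x', f.fiberι y x = x' := ⟨_, rfl⟩
    have hfx : f (f.fiberι y x) = y := by
      have : f.fiberι y x ∈ Set.range (f.fiberι y) := ⟨x, rfl⟩
      rwa [f.range_fiberι] at this
    generalize hx' : f.fiberι y x = z at hfx
    subst hfx
    have : f.asFiber z = x := (f.fiberι _).isEmbedding.injective ((f.fiberι_asFiber z).trans hx'.symm)
    exact hy ((hmem z).mpr (Scheme.Hom.quasiFiniteAt_iff_isOpen_singleton_asFiber.mpr (this ▸ hx)))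

end Groth.Agent.Lib.ZMTIso
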