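import Groth.Agent.Lib.PnChart
import Groth.Agent.Lib.AltGlue
import Groth.Agent.ProjUPX.Affine
import Mathlib.LinearAlgebra.Alternating.Curry

/-!
`O(-n-1)` is a top exterior power of the differentials of projective `n`-space.
-/

set_option autoImplicit false
set_option linter.style.haveILetI false
set_option linter.unusedSectionVars false
set_option backward.isDefEq.respectTransparency false
set_option backward.isDefEq.respectTransparency.types false
set_option maxHeartbeats 1000000

universe u

open CategoryTheory AlgebraicGeometry TopologicalSpace Opposite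
open Groth.Agent.AModX Groth.Agent.PnChart

noncomputable section

namespace Groth.Agent.TopFormsPn

attribute [local instance] MvPolynomial.gradedAlgebra

theorem det_eq_zero_of_kernel {A : Type*} [CommRing A] {m : ℕ} (M : Matrix (Fin m) (Fin m) A) (v : Fin m → A)
    (j : Fin m) (hv : v j = 1) (h : ∀ k, ∑ l, v l * M k l = 0) : M.det = 0 := by
  have h1 := Matrix.det_updateCol_sum M j v
  rw [hv, one_smul] at h1
  rw [← h1]
  refine Matrix.det_eq_zero_of_column_eq_zero j fun k => ?_
  rw [Matrix.updateCol_self]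
  exact h k

variable {A : Type*} [CommRing A] {m : ℕ}

/-- The alternating map `c ↦ det (t, c₁, …, c_m)`. -/
def detCons (t : Fin (m + 1) → A) : (Fin (m + 1) → A) [⋀^Fin m]→ₗ[A] A :=
  (Matrix.detRowAlternating : (Fin (m + 1) → A) [⋀^Fin (m + 1)]→ₗ[A] A).curryLeft t

theorem detCons_apply (t : Fin (m + 1) → A) (c : Fin m → Fin (m + 1) → A) :
    detCons t c = (Matrix.of (Matrix.vecCons t c)).det := rfl

theorem detCons_change (t t' v : Fin (m + 1) → A) (x : A) (j : Fin (m + 1)) (hv : v j = 1)
    (ht : ∑ l, v l * t' l = ∑ l, v l * (x • t) l) (c : Fin m → Fin (m + 1) → A)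
    (hc : ∀ k, ∑ l, v l * c k l = 0) :
    detCons t' (fun k => x • c k) = x ^ (m + 1) * detCons t c := by
  have h1 : detCons (t' - x • t) (fun k => x • c k) = 0 := by
    rw [detCons_apply]
    refine det_eq_zero_of_kernel _ v j hv fun k => ?_
    refine Fin.cases ?_ (fun k => ?_) k
    · show ∑ l, v l * (t' - x • t) l = 0
      simp only [Pi.sub_apply, mul_sub, Finset.sum_sub_distrib, ht, sub_self]
    · show ∑ l, v l * (x • c k) l = 0
      simp only [Pi.smul_apply, smul_eq_mul, mul_left_comm _ x]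
      rw [← Finset.mul_sum, hc, mul_zero]
  have h2 : detCons (t' - x • t) (fun k => x • c k) = detCons t' (fun k => x • c k) -
      detCons (x • t) (fun k => x • c k) := by
    simp only [detCons, map_sub, AlternatingMap.sub_apply]
  rw [h1] at h2
  rw [sub_eq_zero.1 h2.symm]
  rw [detCons_apply, detCons_apply]
  rw [show Matrix.of (Matrix.vecCons (x • t) fun k => x • c k) = x • Matrix.of (Matrix.vecCons t c) from ?_,
    Matrix.det_smul, Fintype.card_fin]
  ext k l
  refine Fin.cases ?_ (fun k => ?_) k <;> rfl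

variable (n : ℕ) (R : Type u) [CommRing R] [QuasiSeparated (CohB1.ProjSpace.toSpec n R)]

local notation "ℙ" => CohB1.ProjSpace n R
local notation "Ω" => Omega.sheaf (CohB1.ProjSpace.toSpec n R)
local notation "L" => Twist.twistProjSpace n R (-((n + 1 : ℕ) : ℤ))

/-- `c` gives coordinates of `e` in the `i`-th chart. -/
def IsCoord (i : Fin (n + 1)) {V : (ℙ).Opens} (h : V ≤ D n R i) (e : Γ(Ω, V)) (c : Fin (n + 1) → Γ(ℙ, V)) : Prop :=
  ∑ l, resR h (a n R i l) * c l = 0 ∧ e = ∑ l, c l • res Ω h (da n R i l)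

theorem res_da_self (i : Fin (n + 1)) {V : (ℙ).Opens} (h : V ≤ D n R i) : res Ω h (da n R i i) = 0 := by
  have h1 : da n R i i = 0 := by
    show OmegaSh.dSect _ _ (a n R i i) = 0
    rw [a_self]
    have h2 := OmegaSh.dSect_mul (CohB1.ProjSpace.toSpec n R) (D n R i) (1 : Γ(ℙ, D n R i)) 1
    rw [one_mul, one_smul] at h2
    exact left_eq_add.1 h2
  rw [h1, map_zero]

theorem sum_res_da (i : Fin (n + 1)) {V : (ℙ).Opens} (h : V ≤ D n R i) (c : Fin (n + 1) → Γ(ℙ, V)) :
    ∑ l, c l • res Ω h (da n R i l) = ∑ k : Fin n, c (i.succAbove k) • res Ω h (da n R i (i.succAbove k)) := by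
  rw [Fin.sum_univ_succAbove _ i, res_da_self, smul_zero, zero_add]

theorem existsUnique_coord (i : Fin (n + 1)) {V : (ℙ).Opens} (h : V ≤ D n R i) (e : Γ(Ω, V)) :
    ∃! c, IsCoord n R i h e c := by
  obtain ⟨b, hb⟩ := (isFrame_omega n R i V h).2 e
  refine ⟨i.insertNth (-∑ k, resR h (a n R i (i.succAbove k)) * b k) b, ⟨?_, ?_⟩, fun c hc => ?_⟩
  · rw [Fin.sum_univ_succAbove _ i, Fin.insertNth_apply_same, a_self, map_one, one_mul]
    simp only [Fin.insertNth_apply_succAbove]
    exact neg_add_cancel _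
  · rw [sum_res_da]
    simp only [Fin.insertNth_apply_succAbove]
    exact hb.symm
  · have hb' : (fun k => c (i.succAbove k)) = b := (isFrame_omega n R i V h).1
      (((sum_res_da n R i h c).symm.trans hc.2.symm).trans hb.symm)
    refine Fin.eq_insertNth_iff.2 ⟨?_, hb'⟩
    have h1 := hc.1
    rw [Fin.sum_univ_succAbove _ i, a_self, map_one, one_mul] at h1
    rw [← hb']
    exact eq_neg_of_add_eq_zero_left h1

/-- The coordinates. -/
def coord (i : Fin (n + 1)) {V : (ℙ).Opens} (h : V ≤ D n R i) :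
    Γ(Ω, V) →ₗ[Γ(ℙ, V)] (Fin (n + 1) → Γ(ℙ, V)) where
  toFun e := (existsUnique_coord n R i h e).choose
  map_add' e e' := ((existsUnique_coord n R i h (e + e')).choose_spec.2 _ ⟨by
      simp only [Pi.add_apply, mul_add, Finset.sum_add_distrib]
      rw [(existsUnique_coord n R i h e).choose_spec.1.1, (existsUnique_coord n R i h e').choose_spec.1.1, add_zero],
    by
      simp only [Pi.add_apply, add_smul, Finset.sum_add_distrib]
      rw [← (existsUnique_coord n R i h e).choose_spec.1.2, ← (existsUnique_coord n R i h e').choose_spec.1.2]⟩).symm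
  map_smul' r e := ((existsUnique_coord n R i h (r • e)).choose_spec.2 _ ⟨by
      simp only [RingHom.id_apply, Pi.smul_apply, smul_eq_mul, mul_left_comm _ r]
      rw [← Finset.mul_sum, (existsUnique_coord n R i h e).choose_spec.1.1, mul_zero],
    by
      simp only [RingHom.id_apply, Pi.smul_apply, smul_assoc]
      rw [← Finset.smul_sum, ← (existsUnique_coord n R i h e).choose_spec.1.2]⟩).symm

theorem coord_spec (i : Fin (n + 1)) {V : (ℙ).Opens} (h : V ≤ D n R i) (e : Γ(Ω, V)) :
    IsCoord n R i h e (coord n R i h e) :=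
  (existsUnique_coord n R i h e).choose_spec.1

theorem coord_eq (i : Fin (n + 1)) {V : (ℙ).Opens} (h : V ≤ D n R i) {e : Γ(Ω, V)} {c : Fin (n + 1) → Γ(ℙ, V)}
    (hc : IsCoord n R i h e c) : coord n R i h e = c :=
  ((existsUnique_coord n R i h e).choose_spec.2 c hc).symm

theorem coord_res (i : Fin (n + 1)) {V V' : (ℙ).Opens} (h : V ≤ D n R i) (j : V' ≤ V) (e : Γ(Ω, V)) :
    coord n R i (j.trans h) (res Ω j e) = fun l => resR j (coord n R i h e l) := by
  refine coord_eq n R i _ ⟨?_, ?_⟩
  · have h1 := congrArg (resR j) (coord_spec n R i h e).1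
    simp only [map_sum, map_mul, map_zero, resR_resR] at h1
    exact h1
  · have h1 := congrArg (res Ω j) (coord_spec n R i h e).2
    simp only [map_sum, res_smul, res_res] at h1
    exact h1

theorem coord_change (i j : Fin (n + 1)) {V : (ℙ).Opens} (hi : V ≤ D n R i) (hj : V ≤ D n R j) (e : Γ(Ω, V)) :
    coord n R j hj e = resR hi (a n R i j) • coord n R i hi e := by
  obtain ⟨h1, h2⟩ := coord_spec n R i hi e
  generalize coord n R i hi e = c at h1 h2 ⊢
  have hunit : IsUnit (resR hi (a n R i j)) := by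
    refine IsUnit.of_mul_eq_one (resR hj (a n R j i)) ?_
    rw [← a_rel n R i j i hi hj, a_self, map_one]
  have hker : ∑ l, resR hj (a n R j l) * c l = 0 := by
    refine hunit.mul_right_eq_zero.1 ?_
    rw [Finset.mul_sum, ← h1]
    exact Finset.sum_congr rfl fun l _ => by rw [a_rel n R i j l hi hj]; ring
  refine coord_eq n R j hj ⟨?_, ?_⟩
  · simp only [Pi.smul_apply, smul_eq_mul, mul_left_comm _ (resR hi (a n R i j))]
    rw [← Finset.mul_sum, hker, mul_zero]
  · have hd : ∀ l, res Ω hi (da n R i l) = resR hi (a n R i j) • res Ω hj (da n R j l) +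
        resR hj (a n R j l) • res Ω hi (da n R i j) := fun l => by
      have hm : ∀ (W : (ℙ).Opens) (hW : V ≤ W) (b : Γ(ℙ, W)),
          res Ω hW (OmegaSh.dSect (CohB1.ProjSpace.toSpec n R) W b) =
            OmegaSh.dSect (CohB1.ProjSpace.toSpec n R) V (resR hW b) := fun W hW b =>
        (OmegaSh.dSect_map (CohB1.ProjSpace.toSpec n R) hW b).symm
      rw [hm, hm, hm, ← OmegaSh.dSect_mul, ← a_rel n R i j l hi hj]
    rw [h2]
    rw [Finset.sum_congr rfl fun l _ => show c l • res Ω hi (da n R i l) =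
        (c l * resR hi (a n R i j)) • res Ω hj (da n R j l) + (c l * resR hj (a n R j l)) • res Ω hi (da n R i j) by
      rw [hd, smul_add, smul_smul, smul_smul], Finset.sum_add_distrib]
    rw [← Finset.sum_smul (f := fun l => c l * resR hj (a n R j l)),
      show (∑ l, c l * resR hj (a n R j l)) = 0 from
        (Finset.sum_congr rfl fun l _ => mul_comm _ _).trans hker, zero_smul, add_zero]
    exact Finset.sum_congr rfl fun l _ => by rw [Pi.smul_apply, smul_eq_mul, mul_comm]

/-- The top form on a chart. -/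
def α (i : Fin (n + 1)) (V : (ℙ).Opens) (h : V ≤ D n R i) : Γ(Ω, V) [⋀^Fin n]→ₗ[Γ(ℙ, V)] Γ(L, V) :=
  (LinearMap.toSpanSingleton Γ(ℙ, V) Γ(L, V) (res L h (tw n R _ i))).compAlternatingMap
    ((detCons (Pi.single i 1)).compLinearMap (coord n R i h))

theorem α_apply (i : Fin (n + 1)) (V : (ℙ).Opens) (h : V ≤ D n R i) (e : Fin n → Γ(Ω, V)) :
    α n R i V h e = detCons (Pi.single i 1) (fun k => coord n R i h (e k)) • res L h (tw n R _ i) := rfl

theorem α_res (i : Fin (n + 1)) (V V' : (ℙ).Opens) (h : V ≤ D n R i) (j : V' ≤ V) (e : Fin n → Γ(Ω, V)) :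
    res L j (α n R i V h e) = α n R i V' (j.trans h) (fun k => res Ω j (e k)) := by
  rw [α_apply, α_apply, res_smul, res_res]
  refine congrArg (· • res L _ _) ?_
  simp only [coord_res n R i h j, detCons_apply, RingHom.map_det]
  refine congrArg Matrix.det (Matrix.ext fun k l => ?_)
  refine Fin.cases ?_ (fun k => ?_) k
  · show resR j ((Pi.single i 1 : Fin (n + 1) → Γ(ℙ, V)) l) = (Pi.single i 1 : Fin (n + 1) → Γ(ℙ, V')) l
    rw [Pi.single_apply, Pi.single_apply]
    split <;> simp
  · rfl

theorem α_comp (i j : Fin (n + 1)) (V : (ℙ).Opens) (hi : V ≤ D n R i) (hj : V ≤ D n R j) (e : Fin n → Γ(Ω, V)) :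
    α n R i V hi e = α n R j V hj e := by
  rw [α_apply, α_apply, tw_rel n R _ (n + 1) rfl i j hi hj, smul_smul]
  refine congrArg (· • res L _ _) ?_
  simp only [coord_change n R i j hi hj]
  rw [detCons_change (Pi.single i 1) (Pi.single j 1) (fun l => resR hj (a n R j l)) (resR hi (a n R i j)) j
    (by rw [a_self, map_one]) ?_ (fun k => coord n R i hi (e k)) ?_, mul_comm]
  · simp only [Pi.smul_apply, smul_eq_mul, Pi.single_apply, mul_ite, mul_one, mul_zero, Finset.sum_ite_eq',
      Finset.mem_univ, if_true]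
    rw [a_self, map_one, mul_comm, ← a_rel n R i j i hi hj, a_self, map_one]
  · intro k
    have h1 := (coord_spec n R j hj (e k)).1
    rw [coord_change n R i j hi hj] at h1
    simp only [Pi.smul_apply, smul_eq_mul, mul_left_comm _ (resR hi (a n R i j))] at h1
    rw [← Finset.mul_sum] at h1
    have hunit : IsUnit (resR hi (a n R i j)) := by
      refine IsUnit.of_mul_eq_one (resR hj (a n R j i)) ?_
      rw [← a_rel n R i j i hi hj, a_self, map_one]
    exact hunit.mul_right_eq_zero.1 h1

theorem α_frame (i : Fin (n + 1)) {V : (ℙ).Opens} (h : V ≤ D n R i) :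
    ∃ u : Γ(ℙ, V), IsUnit u ∧
      α n R i V h (fun k => res Ω h (da n R i (i.succAbove k))) = u • res L h (tw n R _ i) := by
  classical
  refine ⟨_, ?_, α_apply n R i V h _⟩
  have hc : ∀ k, coord n R i h (res Ω h (da n R i (i.succAbove k))) =
      i.insertNth (-resR h (a n R i (i.succAbove k))) (Pi.single k 1) := fun k => by
    refine coord_eq n R i h ⟨?_, ?_⟩
    · rw [Fin.sum_univ_succAbove _ i, Fin.insertNth_apply_same, a_self, map_one, one_mul]
      simp [Pi.single_apply]
    · rw [sum_res_da]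
      simp [Pi.single_apply]
  simp only [hc, detCons_apply]
  rw [Matrix.det_succ_row_zero, Finset.sum_eq_single i]
  · rw [show (Matrix.of (Matrix.vecCons (Pi.single i 1 : Fin (n + 1) → Γ(ℙ, V)) fun k =>
        i.insertNth (-resR h (a n R i (i.succAbove k))) (Pi.single k 1))).submatrix Fin.succ i.succAbove = 1 from
      Matrix.ext fun k l => by simp [Matrix.one_apply, Pi.single_apply, eq_comm]]
    simp
    exact (isUnit_one.neg).pow _
  · intro j _ hj
    simp [hj]
  · simp

/-- `O(-n-1)` is a top exterior power of the differentials. -/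
theorem isExtPow_twist : ExtPow.IsExtPow n Ω L := by
  have hcov : ∀ x : ℙ, ∃ i : ULift.{u} (Fin (n + 1)), x ∈ D n R i.down := fun x =>
    (exists_mem_D n R x).elim fun i hi => ⟨⟨i⟩, hi⟩
  obtain ⟨μ, hμ, hα⟩ := AltGlue.exists_glue hcov (fun i V h => α n R i.down V h)
    (fun i => α_res n R i.down) (fun i j => α_comp n R i.down j.down)
  refine AltGlue.isExtPow_of μ hμ fun V hV => ?_
  have hL : Coh.IsQCoh L := ProjUPX.isQCoh_of_isInvertible (InvX.isInvertible_of_frames fun x => by
    obtain ⟨i, hi⟩ := exists_mem_D n R x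
    exact ⟨_, hi, _, isFrame_tw n R _ i⟩)
  have hloc : ∀ (i : Fin (n + 1)) (W : (ℙ).Opens), IsAffineOpen W → W ≤ D n R i →
      Function.Bijective (AltGlue.lift μ W) := by
    intro i W hW h
    have hfr : H23.Frame.IsFrame Ω (fun k => res Ω h (da n R i (i.succAbove k))) := by
      intro W' h'
      refine (congrArg Function.Bijective (funext fun c => Finset.sum_congr rfl fun k _ => ?_)).mp
        (isFrame_omega n R i W' (h'.trans h))
      exact congrArg (c k • ·) (res_res (M := Ω) h h' (da n R i (i.succAbove k))).symm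
    refine AltGlue.lift_bijective_of_basis μ W (SmoothAdapted.basisOfFrame hfr) ?_
    obtain ⟨v, hv, hv'⟩ := α_frame n R i h
    have h1 : μ W (fun k => SmoothAdapted.basisOfFrame hfr k) = v • res L h (tw n R _ i) :=
      (congrArg (μ W) (funext (SmoothAdapted.basisOfFrame_apply hfr))).trans ((hα ⟨i⟩ W h _).trans hv')
    have h2 := ((isFrame_tw n R (-((n + 1 : ℕ) : ℤ)) i).res h).isUnit_smul hv W le_rfl
    refine (congrArg Function.Bijective (funext fun r => congrArg (r • ·) ?_)).mp h2
    exact (res_self _).trans h1.symm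
  let s : Set Γ(ℙ, V) := {g | ∃ i, (ℙ).basicOpen g ≤ D n R i}
  refine AltGlue.lift_bijective μ hμ (OmegaUniv.isQCoh_omega _) hL hV s ?_ fun g => ?_
  · refine hV.self_le_iSup_basicOpen_iff.1 fun x hx => ?_
    obtain ⟨i, hi⟩ := exists_mem_D n R x
    obtain ⟨g, hg, hxg⟩ := hV.exists_basicOpen_le ⟨x, hi⟩ hx
    exact Opens.mem_iSup.2 ⟨⟨g, i, hg⟩, hxg⟩
  · obtain ⟨i, hi⟩ := g.2
    exact hloc i _ (hV.basicOpen g.1) hi

end Groth.Agent.TopFormsPn
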