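import Groth.Agent.Lib.AVVanish
import Groth.Agent.S15985
import Groth.Agent.CohPullX.Semicont
import Groth.Agent.CohBCX.Exact
import Groth.Agent.QCoh.FlatCoh
import Groth.Agent.QCoh.RpushModel
import Groth.Agent.KZ.LFRes
import Groth.Agent.KFlatLib.Scheme.AcyclicPush
import Mathlib.AlgebraicGeometry.AlgClosed.Basic
import Mathlib.AlgebraicGeometry.Group.Abelian

/-!
Translation invariant classes are differences of translates of a non-degenerate class.
-/

set_option autoImplicit false
set_option linter.style.haveILetI false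
set_option linter.unusedSectionVars false
set_option backward.isDefEq.respectTransparency false
set_option backward.isDefEq.respectTransparency.types false
set_option maxHeartbeats 1000000
set_option synthInstance.maxHeartbeats 400000

universe u

open CategoryTheory CategoryTheory.Limits MonoidalCategory CartesianMonoidalCategory MonObj AlgebraicGeometry TopologicalSpace Opposite
open scoped TensorProduct

noncomputable section

namespace Groth.Agent.AVPhiSurj

open Groth.Agent

/-- Cohomology of the pullback along an isomorphism. -/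
theorem subsingleton_HH_pullback {A B : Scheme.{u}} (j : A ≅ B) (M : B.Modules) (q : ℕ)
    (h : Subsingleton (Coh.HH B M q)) :
    Subsingleton (Coh.HH A ((Scheme.Modules.pullback j.hom).obj M) q) := by
  rcases q with _ | q
  · rw [AVVanish.subsingleton_HH_zero_iff] at h ⊢
    by_contra hne
    refine AVVanish.not_subsingleton_pullback j.inv j.hom j.hom_inv_id hne ?_
    exact (LerayLow.subsingleton_sections_congr ((Scheme.Modules.pullbackComp j.inv j.hom).app M ≪≫
      (Scheme.Modules.pullbackCongr j.inv_hom_id).app M ≪≫ (Scheme.Modules.pullbackId B).app M)).2 h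
  · exact H28.PnFlat.subsingleton_HH_pullback_of_iso j M q h

section Fibre

variable {k : Type u} [Field k] [IsAlgClosed k] {P S Z : Scheme.{u}} (f : P ⟶ S)
  (πS : S ⟶ Spec (CommRingCat.of k)) [LocallyOfFiniteType πS] (y : S) (hy : IsClosed ({y} : Set S))

include hy in
/-- The fibre over a closed point is the pullback along the rational point. -/
theorem fiberH_iff (p : Spec (CommRingCat.of k) ⟶ S) (hp : p ≫ πS = 𝟙 _)
    (hpy : p (IsLocalRing.closedPoint k) = y) (i : Z ⟶ P) (πZ : Z ⟶ Spec (CommRingCat.of k))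
    (h : IsPullback i πZ f p) (M : P.Modules) (q : ℕ) :
    Subsingleton (CohIII.fiberH f M y q) ↔
      Subsingleton (Coh.HH Z ((Scheme.Modules.pullback i).obj M) q) := by
  let r : Spec (CommRingCat.of k) ≅ Spec (S.residueField y) :=
    (Scheme.Spec.mapIso (residueFieldIsoBase πS y hy).op)
  have hr : r.hom ≫ S.fromSpecResidueField y = p :=
    ext_of_apply_closedPoint_eq πS (pointOfClosedPoint_comp πS y hy) hp
      ((pointOfClosedPoint_apply πS y hy _).trans hpy.symm)
  have h' : IsPullback i (πZ ≫ r.hom) f (S.fromSpecResidueField y) :=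
    h.of_iso (Iso.refl _) (Iso.refl _) r (Iso.refl _) (by simp) (by simp) (by simp) (by simp [hr])
  let e : Z ≅ f.fiber y := h'.isoPullback
  have hei : e.hom ≫ f.fiberι y = i := h'.isoPullback_hom_fst
  refine ⟨fun hs => ?_, fun hs => ?_⟩
  · exact QCoh.subsingleton_HH_of_iso ((Scheme.Modules.pullbackComp e.hom (f.fiberι y)).app M ≪≫
      (Scheme.Modules.pullbackCongr hei).app M) _ (subsingleton_HH_pullback e _ q hs)
  · exact QCoh.subsingleton_HH_of_iso ((Scheme.Modules.pullbackComp e.inv i).app M ≪≫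
      (Scheme.Modules.pullbackCongr (show e.inv ≫ i = f.fiberι y by
        rw [← hei, Iso.inv_hom_id_assoc])).app M) _ (subsingleton_HH_pullback e.symm _ q hs)

end Fibre

section Push

variable {P S : Scheme.{u}} {f : P ⟶ S} [IsProper f] [LocallyOfFinitePresentation f]
  [HasInjectiveResolutions P.Modules] {M : P.Modules} (hfp : CohB1.IsFP M) (hfl : FlatMod.IsFlatOver f M)

include hfp hfl in
/-- Vanishing at the closed points outside a closed set. -/
theorem subsingleton_fiberH_of_closedPoints [JacobsonSpace S] (K : Set S) (hK : IsClosed K) (q : ℕ)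
    (h : ∀ y : S, IsClosed ({y} : Set S) → y ∉ K → Subsingleton (CohIII.fiberH f M y q))
    (y : S) (hy : y ∉ K) : Subsingleton (CohIII.fiberH f M y q) := by
  let O : Set S := {z | Subsingleton (CohIII.fiberH f M z q)}
  have hO : IsOpen O := isOpen_iff_forall_mem_open.2 fun z hz => by
    obtain ⟨U, hzU, hU⟩ := CohPullX.exists_subsingleton_fiberH_nhd hfp hfl z q hz
    exact ⟨U, hU, U.2, hzU⟩
  by_contra hne
  have h1 : Oᶜ ∩ closedPoints S ⊆ K := fun z hz => by
    by_contra hzK
    exact hz.1 (h z hz.2 hzK)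
  have h2 : closure (Oᶜ ∩ closedPoints S) ⊆ K := closure_minimal h1 hK
  rw [JacobsonSpace.closure_inter_closedPoints_eq_closure hO.isClosed_compl.isLocallyClosed] at h2
  exact hy (h2 (subset_closure hne))

/-- A quasi-coherent module supported on finitely many closed points without global sections. -/
theorem isZero_of_finite {N : S.Modules} (hN : Coh.IsQCoh N) {K : Set S} (hKf : K.Finite)
    (hKc : ∀ z ∈ K, IsClosed ({z} : Set S))
    (h : ∀ x ∉ K, ∃ W : S.Opens, x ∈ W ∧ IsZero (N.restrict W.ι)) (hg : Subsingleton Γ(N, ⊤)) :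
    IsZero N := by
  have hcl : ∀ T : Set S, T ⊆ K → IsClosed T := fun T hT => by
    rw [← Set.biUnion_of_singleton T]
    exact (hKf.subset hT).isClosed_biUnion fun z hz => hKc z (hT hz)
  let U : S.Opens := ⟨Kᶜ, (hcl K le_rfl).isOpen_compl⟩
  have hU : ∀ W : S.Opens, W ≤ U → Subsingleton Γ(N, W) := fun W hW =>
    H28.PnFlat.subsingleton_of_isZero_restrict (CohBCX.isZero_restrict_of_local W fun x hx => h x (hW hx))
  have hloc : ∀ x : S, ∃ W : S.Opens, x ∈ W ∧ IsAffineOpen W ∧ ∀ z ∈ W, z ∈ K → z = x := fun x => by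
    obtain ⟨_, ⟨W, hW, rfl⟩, hxW, hWle⟩ := S.isBasis_affineOpens.exists_subset_of_mem_open
      (show x ∈ (K \ {x})ᶜ from fun hx => hx.2 rfl) (hcl (K \ {x}) Set.sdiff_subset).isOpen_compl
    exact ⟨W, hxW, hW, fun z hz hzK => by_contra fun hzx => hWle hz ⟨hzK, hzx⟩⟩
  choose W hxW hWa hWK using hloc
  refine QCoh.isZero_of_cover hN W hWa (fun x => ⟨x, hxW x⟩) fun x => ?_
  by_cases hx : x ∈ K
  · refine subsingleton_of_forall_eq 0 fun s => ?_
    let V : S.Opens := ⟨({x} : Set S)ᶜ, (hKc x hx).isOpen_compl⟩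
    have htop : (⊤ : S.Opens) = W x ⊔ V := (top_unique fun z _ => by
      by_cases hz : z = x
      · exact Or.inl (hz ▸ hxW x)
      · exact Or.inr hz).symm
    haveI := hU (W x ⊓ V) fun z hz hzK => hz.2 (hWK x z hz.1 hzK)
    obtain ⟨c, hc, -⟩ := QCoh.exists_glue_sup (G := N) htop le_top le_top s 0 (Subsingleton.elim _ _)
    rw [← hc, hg.elim c 0]
    exact map_zero _
  · exact hU _ fun z hz hzK => hx (hWK x z hz hzK ▸ hzK)

/-- If all direct images vanish, so does all cohomology. -/
theorem subsingleton_HH_of_Rpush (h : ∀ n, IsZero ((Coh.Rpush f n).obj M)) :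
    ∀ i, Subsingleton (Coh.HH P M i) := by
  haveI := SpObjSS.enoughInjectives_of_hasInjectiveResolutions (C := P.Modules)
  haveI := QCoh.preservesFiniteLimits_push f
  have h0 : IsZero ((Scheme.Modules.pushforward f).obj M) :=
    (h 0).of_iso ((Scheme.Modules.pushforward f).rightDerivedZeroIsoSelf.app M).symm
  rintro (_ | q)
  · exact (AVVanish.subsingleton_HH_zero_iff M).2
      (AVVanish.subsingleton_sections_of_isZero (M := (Scheme.Modules.pushforward f).obj M) h0)
  · exact (LerayLow.subsingleton_iff f (AVVanish.isFlasqueMod_of_isZero h0) q fun n _ => h (n + 1)).2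
      (AVVanish.subsingleton_sections_of_isZero (h (q + 1)))

include hfp hfl in
/-- A module without cohomology, acyclic on the fibres outside finitely many closed points. -/
theorem isZero_Rpush (hcoh : ∀ i, Subsingleton (Coh.HH P M i)) {K : Set S} (hKf : K.Finite)
    (hKc : ∀ z ∈ K, IsClosed ({z} : Set S))
    (hfib : ∀ y ∉ K, ∀ n, Subsingleton (CohIII.fiberH f M y n)) (n : ℕ) :
    IsZero ((Coh.Rpush f n).obj M) := by
  haveI := SpObjSS.enoughInjectives_of_hasInjectiveResolutions (C := P.Modules)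
  haveI := QCoh.preservesFiniteLimits_push f
  induction n using Nat.strong_induction_on with
  | _ n ih =>
  refine isZero_of_finite (QCoh.isQCoh_Rpush f (QCoh.isQCoh_of_isFP hfp) n) hKf hKc (fun x hx => ?_) ?_
  · obtain ⟨W, hxW, -, -, hW⟩ := CohPullX.exists_vanish_nhd hfp hfl x n (hfib x hx n)
    exact ⟨W, hxW, hW⟩
  rcases n with _ | q
  · exact (LerayLow.subsingleton_sections_congr ((Scheme.Modules.pushforward f).rightDerivedZeroIsoSelf.app M)).2
      ((AVVanish.subsingleton_HH_zero_iff M).1 (hcoh 0))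
  · exact (LerayLow.subsingleton_iff f (AVVanish.isFlasqueMod_of_isZero ((ih 0 (by omega)).of_iso
      ((Scheme.Modules.pushforward f).rightDerivedZeroIsoSelf.app M).symm)) q
      fun m hm => ih (m + 1) (by omega)).1 (hcoh (q + 1))

/-- Vanishing direct images leave no cohomology over affine opens. -/
theorem subsingleton_HH_overOpen {L : P.Modules} (hL : Coh.IsQCoh L)
    (h : ∀ n, IsZero ((Coh.Rpush f n).obj L)) (V : S.Opens) (hV : IsAffineOpen V) (n : ℕ) :
    Subsingleton (Coh.HH ((f ⁻¹ᵁ V : P.Opens) : Scheme.{u}) ((Scheme.Modules.pullback (f ⁻¹ᵁ V).ι).obj L) n) := by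
  obtain ⟨e⟩ := QCoh.nonempty_sections_HH (f := f) (M := L) hL hV n
  haveI : Subsingleton Γ((Coh.Rpush f n).obj L, V) :=
    H28.PnFlat.subsingleton_of_isZero_restrict ((Scheme.Modules.restrictFunctor (Scheme.Opens.ι V)).map_isZero (h n))
  exact QCoh.subsingleton_HH_of_iso ((Scheme.Modules.restrictFunctorIsoPullback (f ⁻¹ᵁ V).ι).app L) _
    e.symm.toEquiv.subsingleton

/-- Vanishing direct images leave no cohomology on the fibres over rational points. -/
theorem subsingleton_HH_fibre [Flat f] [IsLocallyNoetherian P] {L : P.Modules} (hL : PicF.IsInvertible L)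
    (h : ∀ n, IsZero ((Coh.Rpush f n).obj L)) {k : Type u} [Field k] {Z : Scheme.{u}}
    (p : Spec (CommRingCat.of k) ⟶ S) (i : Z ⟶ P) (πZ : Z ⟶ Spec (CommRingCat.of k))
    (hi : IsPullback i πZ f p) (q : ℕ) :
    Subsingleton (Coh.HH Z ((Scheme.Modules.pullback i).obj L) q) := by
  obtain ⟨V, hV, hyV⟩ : ∃ V : S.Opens, IsAffineOpen V ∧ p (IsLocalRing.closedPoint k) ∈ V := by
    obtain ⟨_, ⟨V, hV, rfl⟩, hyV, -⟩ := S.isBasis_affineOpens.exists_subset_of_mem_open
      (Set.mem_univ (p (IsLocalRing.closedPoint k))) isOpen_univ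
    exact ⟨V, hV, hyV⟩
  have hrange : Set.range p ⊆ Set.range hV.fromSpec := by
    rw [hV.range_fromSpec]
    rintro _ ⟨x, rfl⟩
    rwa [Subsingleton.elim x (IsLocalRing.closedPoint k)]
  let r : Spec (CommRingCat.of k) ⟶ Spec Γ(S, V) := IsOpenImmersion.lift hV.fromSpec p hrange
  have hr : r ≫ hV.fromSpec = p := IsOpenImmersion.lift_fac _ _ _
  have hsq := QCoh.isPullback_overSpec (f := f) hV
  let g : Z ⟶ ((f ⁻¹ᵁ V : P.Opens) : Scheme.{u}) :=
    hsq.lift i (πZ ≫ r) (by rw [Category.assoc, hr, hi.w])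
  have hgι : g ≫ (f ⁻¹ᵁ V).ι = i := hsq.lift_fst _ _ _
  have hgπ : g ≫ QCoh.overSpec f hV = πZ ≫ r := hsq.lift_snd _ _ _
  have hsq' : IsPullback g πZ (QCoh.overSpec f hV) r :=
    IsPullback.of_right (by rw [hgι, hr]; exact hi) hgπ hsq
  letI : (((f ⁻¹ᵁ V : P.Opens) : Scheme.{u})).Over (Spec (CommRingCat.of Γ(S, V))) := ⟨QCoh.overSpec f hV⟩
  letI : Z.Over (Spec (CommRingCat.of k)) := ⟨πZ⟩
  letI : Algebra Γ(S, V) k := (Spec.preimage r).hom.toAlgebra
  haveI : CompactSpace ((f ⁻¹ᵁ V : P.Opens) : Scheme.{u}) :=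
    isCompact_iff_compactSpace.1 (f.isCompact_preimage hV.isCompact)
  haveI : IsSeparated (f ∣_ V) := IsZariskiLocalAtTarget.restrict (P := @IsSeparated) (f := f) inferInstance V
  haveI : IsSeparated (QCoh.overSpec f hV) := by unfold QCoh.overSpec; infer_instance
  haveI : ((f ⁻¹ᵁ V : P.Opens) : Scheme.{u}).IsSeparated := ⟨by
    rw [← Limits.terminal.comp_from (QCoh.overSpec f hV)]
    infer_instance⟩
  haveI : Flat (f ∣_ V) := IsZariskiLocalAtTarget.restrict (P := @Flat) (f := f) inferInstance V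
  haveI : Flat (QCoh.overSpec f hV) := by unfold QCoh.overSpec; infer_instance
  let N := (Scheme.Modules.pullback (f ⁻¹ᵁ V).ι).obj L
  have hN : PicF.IsInvertible N := PicClLib.isInvertible_pullback _ hL
  haveI : IsLocallyNoetherian ((f ⁻¹ᵁ V : P.Opens) : Scheme.{u}) :=
    isLocallyNoetherian_of_isOpenImmersion (f ⁻¹ᵁ V).ι
  have hHH := subsingleton_HH_overOpen (CurveDeg.isCoh_of_isInvertible hL).1 h V hV
  have hmap : Spec.map (CommRingCat.ofHom (algebraMap Γ(S, V) k)) = r := Spec.map_preimage r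
  obtain ⟨e⟩ := QCoh.nonempty_HH_bc_of_flat (A := Γ(S, V)) (CurveDeg.isCoh_of_isInvertible hN).1
    (H23.Seesaw.isFlatOver_of_isInvertible (QCoh.overSpec f hV) hN)
    (fun n => haveI := hHH n; inferInstance) (B := k) g (by rw [hmap]; exact hsq') q
  haveI := hHH q
  haveI : Subsingleton (Coh.HH _ N q ⊗[Γ(S, V)] k) := subsingleton_of_forall_eq 0 fun t => by
    induction t using TensorProduct.induction_on with
    | zero => rfl
    | tmul a b => rw [Subsingleton.elim a 0, TensorProduct.zero_tmul]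
    | add a b ha hb => rw [ha, hb, add_zero]
  exact QCoh.subsingleton_HH_of_iso ((Scheme.Modules.pullbackComp g (f ⁻¹ᵁ V).ι).app L ≪≫
    (Scheme.Modules.pullbackCongr hgι).app L) _ e.toEquiv.subsingleton

end Push

section AV

open Groth.Agent.H23
open scoped Groth.Agent.H23.PicMul

variable {k : Type u} [Field k] [IsAlgClosed k] {A : Over (Spec (CommRingCat.of k))} [GrpObj A] [IsProper A.hom]
  [GeometricallyIntegral A.hom]

local notation3 "pt₀" => 𝟙_ (Over (Spec (CommRingCat.of k)))

theorem isPullback_lift_snd (b : pt₀ ⟶ A) :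
    IsPullback (lift (𝟙 A) (toUnit A ≫ b)).left A.hom (snd A A).left b.left := by
  have hb : b.left ≫ A.hom = 𝟙 _ := Over.w b
  have h1 : (lift (𝟙 A) (toUnit A ≫ b)).left ≫ (fst A A).left = 𝟙 A.left := by
    rw [← Over.comp_left, lift_fst]; rfl
  have h2 : (lift (𝟙 A) (toUnit A ≫ b)).left ≫ (snd A A).left = A.hom ≫ b.left := by
    rw [← Over.comp_left, lift_snd, Over.comp_left, Over.toUnit_left]
  refine IsPullback.of_right ?_ h2 (IsPullback.of_hasPullback A.hom A.hom)
  show IsPullback (_ ≫ (fst A A).left) _ _ _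
  rw [h1, hb]
  exact IsPullback.id_horiz A.hom

theorem isPullback_lift_fst (a : pt₀ ⟶ A) :
    IsPullback (lift (toUnit A ≫ a) (𝟙 A)).left A.hom (fst A A).left a.left := by
  have hb : a.left ≫ A.hom = 𝟙 _ := Over.w a
  have h1 : (lift (toUnit A ≫ a) (𝟙 A)).left ≫ (snd A A).left = 𝟙 A.left := by
    rw [← Over.comp_left, lift_snd]; rfl
  have h2 : (lift (toUnit A ≫ a) (𝟙 A)).left ≫ (fst A A).left = A.hom ≫ a.left := by
    rw [← Over.comp_left, lift_fst, Over.comp_left, Over.toUnit_left]
  refine IsPullback.of_right ?_ h2 (IsPullback.of_hasPullback A.hom A.hom).flip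
  show IsPullback (_ ≫ (snd A A).left) _ _ _
  rw [h1, hb]
  exact IsPullback.id_horiz A.hom

theorem exists_pt {y : A.left} (hy : IsClosed ({y} : Set A.left)) :
    ∃ a : pt₀ ⟶ A, a.left (IsLocalRing.closedPoint k) = y :=
  ⟨Over.homMk (pointOfClosedPoint A.hom y hy) (pointOfClosedPoint_comp A.hom y hy),
    pointOfClosedPoint_apply A.hom y hy _⟩

theorem isClosed_pt (a : pt₀ ⟶ A) : IsClosed ({a.left (IsLocalRing.closedPoint k)} : Set A.left) :=
  (pointEquivClosedPoint A.hom ⟨a.left, Over.w a⟩).2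

variable {L M : A.left.Modules} (hL : PicF.IsInvertible L) (hM : PicF.IsInvertible M)

open AVCube

/-- The algebra of the translated combination. -/
theorem comb_algebra {G : Type u} [CommGroup G] {x f g fg fb gb mf mg : G}
    (h : x * f * g = fg * fb * gb) :
    x * fg⁻¹ * (mf * mg)⁻¹ = (fb * f⁻¹ * mf⁻¹) * (gb * g⁻¹ * mg⁻¹) := by
  have hx : x = fg * fb * gb * g⁻¹ * f⁻¹ := by rw [← h]; simp
  subst hx
  apply Additive.ofMul.injective
  simp only [ofMul_mul, ofMul_inv]
  abel

/-- The same, without twist. -/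
theorem comb_algebra' {G : Type u} [CommGroup G] {x f g fg fb gb : G}
    (h : x * f * g = fg * fb * gb) : x * fg⁻¹ = (fb * f⁻¹) * (gb * g⁻¹) := by
  simpa using comb_algebra (mf := 1) (mg := 1) h

include hL hM in

/-- A class killed by no translation of a non-degenerate class is a translate. -/
theorem exists_translate
    (hfin : Set.Finite {a : pt₀ ⟶ A |
      Nonempty ((Scheme.Modules.pullback (𝟙 A * (toUnit A ≫ a)).left).obj L ≅ L)})
    (hM0 : ∀ a : pt₀ ⟶ A,
      Nonempty ((Scheme.Modules.pullback (𝟙 A * (toUnit A ≫ a)).left).obj M ≅ M)) :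
    ∃ x : pt₀ ⟶ A,
      Nonempty (CohB1.tensorMod M L ≅ (Scheme.Modules.pullback (𝟙 A * (toUnit A ≫ x)).left).obj L) := by
  by_contra hne
  push_neg at hne
  haveI : IsCommMonObj A := isCommMonObj_of_isProper_of_geometricallyIntegral A
  haveI : IsIntegral A.left := GeometricallyIntegral.isIntegral_of_subsingleton A.hom
  haveI : IsLocallyNoetherian A.left := LocallyOfFiniteType.isLocallyNoetherian A.hom
  haveI : JacobsonSpace A.left := LocallyOfFiniteType.jacobsonSpace A.hom
  haveI : IsProper (A ⊗ A).hom := inferInstanceAs (IsProper (pullback.fst A.hom A.hom ≫ A.hom))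
  haveI : IsLocallyNoetherian (A ⊗ A).left := LocallyOfFiniteType.isLocallyNoetherian (A ⊗ A).hom
  haveI : HasInjectiveResolutions A.left.Modules := KFlatLib.hasInjectiveResolutions_modules
  haveI : HasInjectiveResolutions (A ⊗ A).left.Modules := KFlatLib.hasInjectiveResolutions_modules
  haveI : Flat A.hom := inferInstance
  haveI : LocallyOfFinitePresentation A.hom :=
    AlgStLib.locallyOfFinitePresentation_of_isLocallyNoetherian A.hom inferInstance
  haveI : IsProper (fst A A).left := inferInstanceAs (IsProper (pullback.fst A.hom A.hom))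
  haveI : IsProper (snd A A).left := inferInstanceAs (IsProper (pullback.snd A.hom A.hom))
  haveI : LocallyOfFinitePresentation (fst A A).left :=
    inferInstanceAs (LocallyOfFinitePresentation (pullback.fst A.hom A.hom))
  haveI : LocallyOfFinitePresentation (snd A A).left :=
    inferInstanceAs (LocallyOfFinitePresentation (pullback.snd A.hom A.hom))
  haveI : Flat (fst A A).left := inferInstanceAs (Flat (pullback.fst A.hom A.hom))
  haveI : Flat (snd A A).left := inferInstanceAs (Flat (pullback.snd A.hom A.hom))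
  have hMinv : ∀ a, pc hM (𝟙 A * (toUnit A ≫ a)) = pc hM (𝟙 A) := fun a => Units.ext (by
    rw [val_pc, val_pc_id]; exact (PicGrp.cl_eq_cl_iff _ _).2 (hM0 a))
  -- the pullbacks of the correspondence
  obtain ⟨D₁, hD₁, e₁⟩ := inv_pc hL (fst A A)
  obtain ⟨D₂, hD₂, e₂⟩ := inv_pc hM (fst A A)
  obtain ⟨D₃, hD₃, e₃⟩ := inv_pc hL (snd A A)
  let F := CohB1.tensorMod (CohB1.tensorMod (CohB1.tensorMod
    ((Scheme.Modules.pullback (fst A A * snd A A).left).obj L) D₁) D₂) D₃
  have hF : PicF.IsInvertible F := PicMul.isInvertible_tensor (PicMul.isInvertible_tensor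
    (PicMul.isInvertible_tensor (PicClLib.isInvertible_pullback _ hL) hD₁) hD₂) hD₃
  have hslice : ∀ {T : Over (Spec (CommRingCat.of k))} (φ : T ⟶ A ⊗ A),
      PicF.cl ((Scheme.Modules.pullback φ.left).obj F) =
        ((pc hL ((φ ≫ fst A A) * (φ ≫ snd A A)) * (pc hL (φ ≫ fst A A))⁻¹ *
          (pc hM (φ ≫ fst A A))⁻¹ * (pc hL (φ ≫ snd A A))⁻¹ : (PicF.Cl T.left)ˣ) : PicF.Cl T.left) := by
    intro T φ
    show PicF.pullCl φ.left (PicF.cl F) = _
    have eF : PicF.cl F = ((pc hL (fst A A * snd A A) * (pc hL (fst A A))⁻¹ * (pc hM (fst A A))⁻¹ *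
        (pc hL (snd A A))⁻¹ : (PicF.Cl (A ⊗ A).left)ˣ) : PicF.Cl (A ⊗ A).left) := by
      simp only [F, PicMul.cl_tensor, Units.val_mul, e₁, e₂, e₃, val_pc]
    rw [eF, ← MonObj.comp_mul, ← pull_pc hL φ, ← pull_pc hL φ (fst A A), ← pull_pc hM φ (fst A A),
      ← pull_pc hL φ (snd A A), ← map_inv, ← map_inv, ← map_inv, ← map_mul, ← map_mul, ← map_mul]
    rfl
  -- the slices over the second factor
  have hb : ∀ (b : pt₀ ⟶ A) (n : ℕ),
      Subsingleton (Coh.HH A.left ((Scheme.Modules.pullback (lift (𝟙 A) (toUnit A ≫ b)).left).obj F) n) := by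
    intro b
    let N := (Scheme.Modules.pullback (lift (𝟙 A) (toUnit A ≫ b)).left).obj F
    let u : ∀ {T : Over (Spec (CommRingCat.of k))}, (T ⟶ A) → (PicF.Cl T.left)ˣ := fun {T} g =>
      pc hL (g * (toUnit T ≫ b)) * (pc hL g)⁻¹ * (pc hM g)⁻¹
    have eN : ∀ {T : Over (Spec (CommRingCat.of k))} (g : T ⟶ A),
        PicF.pullCl g.left (PicF.cl N) = (u g : PicF.Cl T.left) := by
      intro T g
      show PicF.pullCl g.left (PicF.cl ((Scheme.Modules.pullback _).obj F)) = _
      rw [hslice]
      show ((Units.map (PicMul.pullHom g.left : PicF.Cl A.left →* PicF.Cl T.left) _ : (PicF.Cl T.left)ˣ) :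
        PicF.Cl T.left) = _
      simp only [map_mul, map_inv, pull_pc, lift_fst, lift_snd, MonObj.comp_mul, Category.comp_id,
        comp_toUnit_assoc, pc_const, inv_one, _root_.mul_one]
      rfl
    have hadd : ∀ {T : Over (Spec (CommRingCat.of k))} (f g : T ⟶ A), u (f * g) = u f * u g := by
      intro T f g
      have h1 := cube_rel hL f g (toUnit T ≫ b)
      rw [pc_const, _root_.mul_one] at h1
      have h2 := add_of_invariant hM hMinv f g
      simp only [u, h2]
      exact comb_algebra h1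
    refine AVVanish.subsingleton_HH (PicClLib.isInvertible_pullback _ hF) ?_ ?_
    · rw [eN, eN, eN, show μ[A] = fst A A * snd A A by rw [Hom.mul_def, lift_fst_snd, Category.id_comp],
        hadd, Units.val_mul]
    · intro ht
      have h1 : (u (𝟙 A) : PicF.Cl A.left) = 1 := by
        rw [← eN, Over.id_left, PicClLib.pullCl_id]
        exact (PicGrp.cl_eq_cl_iff _ _).2 ht
      have h2 : pc hL (𝟙 A * (toUnit A ≫ b)) = pc hM (𝟙 A) * pc hL (𝟙 A) := by
        have h3 : u (𝟙 A) = 1 := Units.ext h1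
        simp only [u] at h3
        rw [mul_inv_eq_one, mul_inv_eq_iff_eq_mul] at h3
        exact h3
      refine (hne b).false (Nonempty.some ((PicGrp.cl_eq_cl_iff _ _).1 ?_))
      rw [PicMul.cl_tensor, ← val_pc hL, h2, Units.val_mul, val_pc_id, val_pc_id]
  -- no cohomology on the product
  have hfp : CohB1.IsFP F := KZ.LFRes.isFP_of_isCoh (CurveDeg.isCoh_of_isInvertible hF)
  have hfl₁ : FlatMod.IsFlatOver (fst A A).left F := H23.Seesaw.isFlatOver_of_isInvertible _ hF
  have hfl₂ : FlatMod.IsFlatOver (snd A A).left F := H23.Seesaw.isFlatOver_of_isInvertible _ hF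
  haveI : Coh.IsQCoh F := QCoh.isQCoh_of_isFP hfp
  have hcoh : ∀ n, Subsingleton (Coh.HH (A ⊗ A).left F n) := by
    refine subsingleton_HH_of_Rpush (f := (snd A A).left) fun n => S15985.result _ F hfp hfl₂ n fun y => ?_
    refine subsingleton_fiberH_of_closedPoints hfp hfl₂ ∅ isClosed_empty n (fun y hy _ => ?_) y (Set.notMem_empty y)
    obtain ⟨b, hby⟩ := exists_pt hy
    exact (fiberH_iff _ A.hom y hy b.left (Over.w b) hby _ _ (isPullback_lift_snd b) F n).2 (hb b n)
  -- the slices over the first factor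
  let KL : Set A.left := (fun a : pt₀ ⟶ A => a.left (IsLocalRing.closedPoint k)) '' {a : pt₀ ⟶ A |
      Nonempty ((Scheme.Modules.pullback (𝟙 A * (toUnit A ≫ a)).left).obj L ≅ L)}
  have hKc : ∀ z ∈ KL, IsClosed ({z} : Set A.left) := by rintro _ ⟨a, -, rfl⟩; exact isClosed_pt a
  have ha : ∀ a : pt₀ ⟶ A, PicF.cl ((Scheme.Modules.pullback (lift (toUnit A ≫ a) (𝟙 A)).left).obj F) =
      ((pc hL (𝟙 A * (toUnit A ≫ a)) * (pc hL (𝟙 A))⁻¹ : (PicF.Cl A.left)ˣ) : PicF.Cl A.left) := fun a => by
    rw [hslice]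
    simp only [lift_fst, lift_snd, pc_const, inv_one, _root_.mul_one]
    rw [mul_comm (toUnit A ≫ a)]
  have hfib : ∀ y ∉ KL, ∀ n, Subsingleton (CohIII.fiberH (fst A A).left F y n) := fun y hy n => by
    refine subsingleton_fiberH_of_closedPoints hfp hfl₁ KL (Set.biUnion_of_singleton KL ▸
      (hfin.image _).isClosed_biUnion hKc)
      n (fun y hyc hyK => ?_) y hy
    obtain ⟨a, hay⟩ := exists_pt hyc
    refine (fiberH_iff _ A.hom y hyc a.left (Over.w a) hay _ _ (isPullback_lift_fst a) F n).2 ?_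
    let u : ∀ {T : Over (Spec (CommRingCat.of k))}, (T ⟶ A) → (PicF.Cl T.left)ˣ := fun {T} g =>
      pc hL (g * (toUnit T ≫ a)) * (pc hL g)⁻¹
    have eN : ∀ {T : Over (Spec (CommRingCat.of k))} (g : T ⟶ A), PicF.pullCl g.left
        (PicF.cl ((Scheme.Modules.pullback (lift (toUnit A ≫ a) (𝟙 A)).left).obj F)) =
          (u g : PicF.Cl T.left) := by
      intro T g
      rw [ha]
      show ((Units.map (PicMul.pullHom g.left : PicF.Cl A.left →* PicF.Cl T.left) _ : (PicF.Cl T.left)ˣ) :
        PicF.Cl T.left) = _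
      simp only [map_mul, map_inv, pull_pc, MonObj.comp_mul, Category.comp_id, comp_toUnit_assoc]
      rfl
    have hadd : ∀ {T : Over (Spec (CommRingCat.of k))} (f g : T ⟶ A), u (f * g) = u f * u g := by
      intro T f g
      have h1 := cube_rel hL f g (toUnit T ≫ a)
      rw [pc_const, _root_.mul_one] at h1
      exact comb_algebra' h1
    refine AVVanish.subsingleton_HH (PicClLib.isInvertible_pullback _ hF) ?_ ?_ n
    · rw [eN, eN, eN, show μ[A] = fst A A * snd A A by rw [Hom.mul_def, lift_fst_snd, Category.id_comp],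
        hadd, Units.val_mul]
    · intro ht
      refine hyK ⟨a, (PicGrp.cl_eq_cl_iff _ _).1 ?_, hay⟩
      have h3 : pc hL (𝟙 A * (toUnit A ≫ a)) * (pc hL (𝟙 A))⁻¹ = 1 := Units.ext (by
        rw [← ha]; exact (PicGrp.cl_eq_cl_iff _ _).2 ht)
      rw [← val_pc hL, mul_inv_eq_one.1 h3, val_pc_id]
  have hR := isZero_Rpush hfp hfl₁ hcoh (hfin.image _) hKc hfib
  -- the slice at the origin is trivial
  obtain ⟨φ⟩ : TrivBasic.Triv ((Scheme.Modules.pullback (lift (toUnit A ≫ η[A]) (𝟙 A)).left).obj F) := by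
    refine (PicGrp.cl_eq_cl_iff _ _).1 ?_
    rw [ha, show (toUnit A ≫ η[A]) = 1 from Hom.one_def.symm, _root_.mul_one, mul_inv_cancel]
    rfl
  have h0 := subsingleton_HH_fibre (f := (fst A A).left) hF hR η[A].left _ _ (isPullback_lift_fst η[A]) 0
  have hO : Subsingleton Γ(Coh.structureModule A.left, ⊤) :=
    (LerayLow.subsingleton_sections_congr φ).1 ((AVVanish.subsingleton_HH_zero_iff _).1 h0)
  haveI : Subsingleton Γ(A.left, ⊤) := hO
  exact one_ne_zero (Subsingleton.elim (1 : Γ(A.left, ⊤)) 0)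

end AV

end Groth.Agent.AVPhiSurj
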