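import Groth.Agent.Lib.AVSeesaw
import Groth.Agent.Lib.AVPhiSurj
import Groth.Agent.SeesawX.Glue
import Groth.Agent.SeesawX.Crit
import Groth.Agent.H23.KLBasic
import Groth.Agent.GrpSchLib.MonoSubgroup
import Groth.Agent.S12002

/-!
The group K(L) of an ample invertible module on an abelian variety over an algebraically closed field.
-/

set_option autoImplicit false
set_option linter.style.haveILetI false
set_option linter.unusedSectionVars false
set_option backward.isDefEq.respectTransparency false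
set_option backward.isDefEq.respectTransparency.types false
set_option maxHeartbeats 800000
set_option synthInstance.maxHeartbeats 400000

universe u

open CategoryTheory CategoryTheory.Limits MonoidalCategory CartesianMonoidalCategory MonObj AlgebraicGeometry TopologicalSpace

noncomputable section

namespace Groth.Agent.AVKLExist

open Groth.Agent Groth.Agent.H23 Groth.Agent.AVCube
open scoped Groth.Agent.H23.PicMul

variable {k : Type u} [Field k]

local notation3 "pt₀" => 𝟙_ (Over (Spec (CommRingCat.of k)))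

variable {A : Over (Spec (CommRingCat.of k))} [GrpObj A] [IsProper A.hom] [GeometricallyIntegral A.hom]
  {L : A.left.Modules} (hL : PicF.IsInvertible L)

/-- The class of the Mumford module along a point. -/
def mum {T : Over (Spec (CommRingCat.of k))} (z : T ⟶ A) : (PicF.Cl (A ⊗ T).left)ˣ :=
  pc hL (fst A T * (snd A T ≫ z)) * (pc hL (fst A T))⁻¹ * (pc hL (snd A T ≫ z))⁻¹

theorem map_mum {T T' : Over (Spec (CommRingCat.of k))} (g : T' ⟶ T) (z : T ⟶ A) :
    Units.map (PicMul.pullHom (A ◁ g).left : PicF.Cl (A ⊗ T).left →* PicF.Cl (A ⊗ T').left) (mum hL z) =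
      mum hL (g ≫ z) := by
  simp only [mum, map_mul, map_inv, pull_pc, MonObj.comp_mul, whiskerLeft_fst, whiskerLeft_snd_assoc]

/-- The Mumford module is trivial along a point when its class comes from the base. -/
theorem mumford_iff_mum {T : Over (Spec (CommRingCat.of k))} (z : T ⟶ A) :
    ThetaGrp.IsMumfordTriv A L z ↔ ∃ M : T.left.Modules, PicF.IsInvertible M ∧
      PicF.pullCl (snd A T).left (PicF.cl M) = (mum hL z : PicF.Cl (A ⊗ T).left) := by
  refine exists_congr fun M => and_congr_right fun hM => ?_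
  have hμ : (A ◁ z) ≫ μ[A] = fst A T * (snd A T ≫ z) := by
    rw [Hom.mul_def]
    congr 1
  let cM := (PicMul.isUnit_of_isInvertibleCl
    (PicClLib.isInvertibleCl_pullCl (snd A T).left ⟨M, rfl, hM⟩)).unit
  have hcM : (cM : PicF.Cl (A ⊗ T).left) = PicF.pullCl (snd A T).left (PicF.cl M) := rfl
  unfold AgPol.IsLambdaSheaf
  rw [← PicGrp.cl_eq_cl_iff, PicMul.cl_tensor, PicMul.cl_tensor, hμ]
  show PicF.pullCl (snd A T).left (PicF.cl M) * (pc hL (fst A T) : PicF.Cl (A ⊗ T).left) *
    (pc hL (snd A T ≫ z) : PicF.Cl (A ⊗ T).left) = (pc hL (fst A T * (snd A T ≫ z)) : PicF.Cl (A ⊗ T).left) ↔ _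
  rw [← hcM, ← Units.val_mul, ← Units.val_mul, ← Units.ext_iff, ← Units.ext_iff, mum,
    eq_mul_inv_iff_mul_eq, eq_mul_inv_iff_mul_eq, _root_.mul_right_comm]

/-- An invertible module is finite locally free. -/
theorem isFinLocFree_of_isInvertible {X : Scheme.{u}} {M : X.Modules} (hM : PicF.IsInvertible M) :
    FlatMod.IsFinLocFree M := fun x => (SeesawX.isFinLocFreeOfRank_one hM x).elim fun U h => ⟨U, 1, h⟩

include hL in
/-- The locus over which the Mumford module comes from the base. -/
theorem exists_locus : ∃ (K : Over (Spec (CommRingCat.of k))) (i : K ⟶ A), IsImmersion i.left ∧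
    ∀ (T : Over (Spec (CommRingCat.of k))) (z : T ⟶ A),
      ThetaGrp.IsMumfordTriv A L z ↔ ∃ y : T ⟶ K, y ≫ i = z := by
  obtain ⟨D1, hD1, e1⟩ := inv_pc hL (fst A A)
  obtain ⟨D2, hD2, e2⟩ := inv_pc hL (snd A A)
  let E := CohB1.tensorMod (CohB1.tensorMod ((Scheme.Modules.pullback (fst A A * snd A A).left).obj L) D1) D2
  have hE : PicF.IsInvertible E := PicMul.isInvertible_tensor
    (PicMul.isInvertible_tensor (PicClLib.isInvertible_pullback _ hL) hD1) hD2
  have eE : PicF.cl E = (mum hL (𝟙 A) : PicF.Cl (A ⊗ A).left) := by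
    simp only [E, mum, PicMul.cl_tensor, Units.val_mul, e1, e2, val_pc, Category.comp_id]
  haveI : IsProper (snd A A).left := inferInstanceAs (IsProper (pullback.snd A.hom A.hom))
  haveI : Flat (snd A A).left := inferInstanceAs (Flat (pullback.snd A.hom A.hom))
  haveI : GeometricallyIntegral (snd A A).left := inferInstanceAs (GeometricallyIntegral (pullback.snd A.hom A.hom))
  haveI : GeometricallyConnected (snd A A).left := CubeAb.geometricallyConnected_of_integral _
  haveI : LocallyOfFinitePresentation A.hom :=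
    AlgStLib.locallyOfFinitePresentation_of_isLocallyNoetherian A.hom inferInstance
  haveI : LocallyOfFinitePresentation (snd A A).left :=
    inferInstanceAs (LocallyOfFinitePresentation (pullback.snd A.hom A.hom))
  obtain ⟨Z, ζ, hζ, -, -, huniv⟩ := SeesawX.exists_seesaw_finLocFree (f := (snd A A).left)
    (isFinLocFree_of_isInvertible hE)
  let K : Over (Spec (CommRingCat.of k)) := Over.mk (ζ ≫ A.hom)
  refine ⟨K, Over.homMk ζ, hζ, fun T z => ?_⟩
  have hsq : IsPullback (A ◁ z).left (snd A T).left (snd A A).left z.left := by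
    refine IsPullback.of_right ?_ (by rw [← Over.comp_left, whiskerLeft_snd]; rfl)
      (IsPullback.of_hasPullback A.hom A.hom)
    show IsPullback ((A ◁ z).left ≫ (fst A A).left) _ A.hom _
    rw [← Over.comp_left, whiskerLeft_fst, Over.w z]
    exact IsPullback.of_hasPullback A.hom T.hom
  have hcl : PicF.cl ((Scheme.Modules.pullback (A ◁ z).left).obj E) = (mum hL z : PicF.Cl (A ⊗ T).left) := by
    have h := congrArg Units.val (map_mum hL z (𝟙 A))
    rw [Category.comp_id] at h
    rw [← h]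
    show PicF.pullCl (A ◁ z).left (PicF.cl E) = _
    rw [eE]
    rfl
  rw [mumford_iff_mum hL z]
  trans ∃ l : T.left ⟶ Z, l ≫ ζ = z.left
  · rw [huniv z.left (snd A T).left (A ◁ z).left hsq]
    refine exists_congr fun M => ⟨fun ⟨hM, h⟩ => ⟨isFinLocFree_of_isInvertible hM,
      (PicGrp.cl_eq_cl_iff _ _).1 (hcl.trans h.symm)⟩, fun ⟨hM, ⟨e⟩⟩ => ⟨?_, ?_⟩⟩
    · let s := (lift (1 : T ⟶ A) (𝟙 T)).left
      have hs : s ≫ (snd A T).left = 𝟙 _ := by rw [← Over.comp_left, lift_snd]; rfl
      exact PicMul.isInvertible_of_iso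
        ((Scheme.Modules.pullback s).mapIso e ≪≫ (Scheme.Modules.pullbackComp _ _).app M ≪≫
          (Scheme.Modules.pullbackCongr hs).app M ≪≫ (Scheme.Modules.pullbackId _).app M)
        (PicClLib.isInvertible_pullback _ (PicClLib.isInvertible_pullback _ hE))
    · exact ((PicGrp.cl_eq_cl_iff _ _).2 ⟨e⟩).symm.trans hcl
  · exact ⟨fun ⟨l, hl⟩ => ⟨Over.homMk l (by
      show l ≫ ζ ≫ A.hom = T.hom
      rw [← Category.assoc, hl, Over.w z]), Over.OverMorphism.ext hl⟩,
      fun ⟨y, hy⟩ => ⟨y.left, congrArg (fun m : T ⟶ A => m.left) hy⟩⟩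

variable [IsAlgClosed k]

include hL in
/-- A rational point over which the Mumford module comes from the base fixes the module. -/
theorem fixed_of_triv {a : pt₀ ⟶ A} (h : ThetaGrp.IsMumfordTriv A L a) :
    Nonempty ((Scheme.Modules.pullback ((𝟙 A * (toUnit A ≫ a))).left).obj L ≅ L) := by
  obtain ⟨M, hM, hMe⟩ := (mumford_iff_mum hL a).1 h
  haveI : Subsingleton ↥(pt₀).left := inferInstanceAs (Subsingleton (PrimeSpectrum k))
  haveI : Nonempty ↥(pt₀).left := inferInstanceAs (Nonempty (PrimeSpectrum k))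
  rw [KLBasic.trivial_of_subsingleton hM, PicMul.pullCl_one] at hMe
  have h1 : mum hL a = 1 := Units.ext hMe.symm
  have h2 := congrArg (Units.map (PicMul.pullHom (lift (𝟙 A) (toUnit A)).left :
    PicF.Cl (A ⊗ pt₀).left →* PicF.Cl A.left)) h1
  simp only [mum, map_mul, map_inv, map_one, pull_pc, MonObj.comp_mul, lift_fst, lift_snd_assoc, pc_const,
    inv_one, _root_.mul_one, mul_inv_eq_one] at h2
  refine (PicGrp.cl_eq_cl_iff _ _).1 ?_
  rw [← val_pc hL, h2, val_pc_id]

include hL in
/-- K(L) of an ample module exists and is finite. -/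
theorem exists_KL (hamp : CohB1.IsAmple L) :
    ∃ (K : Over (Spec (CommRingCat.of k))) (i : K ⟶ A), ThetaGrp.IsKL A L i ∧ IsFinite K.hom ∧
      Finite ↥K.left := by
  obtain ⟨K, i, hi, hu⟩ := exists_locus hL
  haveI := hi
  haveI : IsLocallyNoetherian A.left := LocallyOfFiniteType.isLocallyNoetherian A.hom
  haveI : JacobsonSpace A.left := LocallyOfFiniteType.jacobsonSpace A.hom
  let p : (pt₀ ⟶ A) → A.left := fun a => a.left (IsLocalRing.closedPoint k)
  let S := Set.range i.left
  have hS : IsLocallyClosed S := i.left.isLocallyClosed_range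
  have hfin : (S ∩ closedPoints A.left).Finite := by
    refine ((S12002.result k A L hamp).image p).subset ?_
    rintro y ⟨hyS, hy⟩
    obtain ⟨a, ha⟩ := AVPhiSurj.exists_pt (mem_closedPoints_iff.1 hy)
    refine ⟨a, fixed_of_triv hL ((hu _ a).2 ?_), ha⟩
    obtain ⟨l, hl⟩ := (SeesawX.mem_range_iff_factor i.left (p a)).1 (show p a ∈ S by show a.left _ ∈ S; rw [ha]; exact hyS)
    let φ := Scheme.descResidueField (Scheme.stalkClosedPointTo a.left)
    have hd : Spec.map φ ≫ A.left.fromSpecResidueField (p a) = a.left :=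
      Scheme.descResidueField_stalkClosedPointTo_fromSpecResidueField k _ a.left
    refine ⟨Over.homMk (Spec.map φ ≫ l) ?_, Over.OverMorphism.ext ?_⟩
    · rw [← Over.w i, Category.assoc, reassoc_of% hl, ← Category.assoc, hd, Over.w a]
    · show (Spec.map φ ≫ l) ≫ i.left = a.left
      rw [Category.assoc, hl, hd]
  have hcl : IsClosed (S ∩ closedPoints A.left) := by
    rw [← Set.biUnion_of_singleton (S ∩ closedPoints A.left)]
    exact hfin.isClosed_biUnion fun y hy => mem_closedPoints_iff.1 hy.2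
  have hSeq : S = S ∩ closedPoints A.left := by
    refine subset_antisymm (fun y hy => ?_) Set.inter_subset_left
    have h := JacobsonSpace.closure_inter_closedPoints_eq_closure (X := A.left) hS
    rw [hcl.closure_eq] at h
    rw [h]
    exact subset_closure hy
  have hclS : IsClosed S := hSeq ▸ hcl
  haveI hcim : IsClosedImmersion i.left := IsClosedImmersion.of_isPreimmersion i.left hclS
  haveI : Finite ↥K.left := by
    haveI : Finite ↥S := by rw [hSeq]; exact hfin.to_subtype
    exact Finite.of_injective (Set.rangeFactorization i.left)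
      (Set.rangeFactorization_injective.2 i.left.injective)
  haveI : IsProper K.hom := by rw [← Over.w i]; infer_instance
  haveI : LocallyQuasiFinite K.hom := LocallyQuasiFinite.of_finite_preimage_singleton K.hom fun _ => Set.toFinite _
  exact ⟨K, i, ⟨hcim, hu⟩, IsFinite.of_isProper_of_locallyQuasiFinite K.hom, inferInstance⟩

include hL in
/-- K(L) is a subgroup. -/
theorem exists_grpObj_KL {K : Over (Spec (CommRingCat.of k))} {i : K ⟶ A} (hK : ThetaGrp.IsKL A L i) :
    ∃ str : GrpObj K, @IsMonHom _ _ _ K A str.toMonObj _ i := by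
  haveI := hK.closed
  haveI : Mono i := Over.mono_of_mono_left i
  have hEq : ∀ {T : Over (Spec (CommRingCat.of k))} (x : T ⟶ A), (∃ y : T ⟶ K, y ≫ i = x) ↔
      ∃ c : PicF.Cl T.left, PicF.IsInvertibleCl c ∧ KLBasic.Eq L T x c := fun x =>
    (hK.univ _ x).symm.trans (KLBasic.mumford_iff hL x)
  haveI : Subsingleton ↥(Spec (CommRingCat.of k)) := inferInstanceAs (Subsingleton (PrimeSpectrum k))
  haveI : Nonempty ↥(Spec (CommRingCat.of k)) := inferInstanceAs (Nonempty (PrimeSpectrum k))
  obtain ⟨η', he⟩ := (hEq (η[A])).2 ⟨1, ⟨_, rfl, PicLoc.isInvertible_structureModule _⟩, by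
    have h1 : (1 : pt₀ ⟶ A) = η[A] := by rw [Hom.one_def, toUnit_unique (toUnit pt₀) (𝟙 _), Category.id_comp]
    rw [← h1]
    exact KLBasic.eq_one _⟩
  obtain ⟨c₁, hc₁, h₁⟩ := (hEq (fst K K ≫ i)).1 ⟨fst K K, rfl⟩
  obtain ⟨c₂, hc₂, h₂⟩ := (hEq (snd K K ≫ i)).1 ⟨snd K K, rfl⟩
  obtain ⟨μ', hm⟩ := (hEq ((fst K K ≫ i) * (snd K K ≫ i))).2
    ⟨_, PicMul.isInvertibleCl_mul hc₁ hc₂, KLBasic.eq_mul h₁ h₂⟩
  obtain ⟨c₀, hc₀, h₀⟩ := (hEq i).1 ⟨𝟙 K, Category.id_comp i⟩
  obtain ⟨⟨d, hd⟩, hcd⟩ := PicMul.exists_inv ⟨c₀, hc₀⟩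
  obtain ⟨ι', hv⟩ := (hEq i⁻¹).2 ⟨d, hd, KLBasic.eq_inv h₀ ((mul_comm _ _).trans hcd)⟩
  exact GrpSchLib.exists_grpObj_of_mono i η' he μ' hm ι' hv

end Groth.Agent.AVKLExist
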