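import Groth.Agent.Lib.ExtShCodim
import Groth.Agent.FibDim.Minimal
import Groth.Agent.S2768

/-!
Smooth schemes over a field are equidimensional; the dimension of the support at a stalk.
-/

set_option linter.style.haveILetI false
set_option linter.unusedSectionVars false
set_option backward.isDefEq.respectTransparency false
set_option backward.isDefEq.respectTransparency.types false
set_option maxHeartbeats 1000000

universe u

open CategoryTheory CategoryTheory.Limits AlgebraicGeometry TopologicalSpace Opposite

noncomputable section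

namespace Groth.Agent.SmoothEquidim

variable {k : Type u} [Field k] {X : Scheme.{u}} (f : X ⟶ Spec (CommRingCat.of k)) (n : ℕ)
  [SmoothOfRelativeDimension n f]

include f n in
theorem locallyOfFiniteType : LocallyOfFiniteType f := by
  haveI : Smooth f := SmoothOfRelativeDimension.smooth n f
  infer_instance

include f in
/-- All components of a smooth scheme of relative dimension `n` have dimension `n`. -/
theorem dim_component (Z : Set ↥X) (hZ : Z ∈ irreducibleComponents ↥X) :
    topologicalKrullDim ↥Z = (n : WithBot ℕ∞) := by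
  haveI := locallyOfFiniteType f n
  obtain ⟨η, rfl, hmax⟩ := VarDim.exists_generic_of_component hZ
  rw [VarDim.topologicalKrullDim_closure_singleton f η]
  have h1 := FibDim.fibreDimAt_eq_rd f (z := η) fun w hw _ => hmax w hw
  rw [S2768.result n f η] at h1
  have h2 : FibDim.rd f η = n := by exact_mod_cast h1.symm
  have h3 : (VarDim.deg f η : Cardinal) = FibDim.rd f η := by
    rw [FibDim.rd_eq_rdeg, ← VarDim.tdeg_eq_rdeg f η, ← VarDim.deg_eq_tdeg f η]
  have h4 : VarDim.deg f η = n := by rw [← h2]; exact_mod_cast h3
  rw [h4]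
  rfl

include f in
/-- The local ring at a closed point of a smooth scheme of relative dimension `n` has dimension `n`. -/
theorem dim_stalk (x : X) (hx : IsClosed ({x} : Set X)) :
    ringKrullDim (X.presheaf.stalk x) = (n : WithBot ℕ∞) := by
  haveI := locallyOfFiniteType f n
  exact le_antisymm ((SchTop.ringKrullDim_stalk_le x).trans (ExtShCodim.topologicalKrullDim_le f n (dim_component f n)))
    (ExtShCodim.le_ringKrullDim_stalk f n (dim_component f n) x hx)

omit [SmoothOfRelativeDimension n f] in
/-- The support dimension of a stalk is at most the dimension of the support. -/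
theorem supportDim_stalk_le [IsLocallyNoetherian X] {F : X.Modules} (hF : Coh.IsCoh F) (x : X) :
    Module.supportDim (X.presheaf.stalk x) (F.presheaf.stalk x) ≤ topologicalKrullDim ↥(CohB1.support F) := by
  haveI := QCoh.finite_stalk_of_isFT hF.1 hF.2 x
  let R := X.presheaf.stalk x
  let I := Module.annihilator R (F.presheaf.stalk x)
  obtain ⟨V, hV, hxV⟩ := ExtShLocal.exists_affine x
  letI := QCoh.stalkAlg (X := X) hxV
  letI := QCoh.stalkModule F hxV
  haveI := QCoh.isScalarTower_stalk F hxV
  haveI := QCoh.isLocalization_stalk' hV hxV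
  haveI := QCoh.isLocalizedModule_germLin hF.1 hV hxV
  have hmem : ∀ q : PrimeSpectrum R, I ≤ q.asIdeal → X.fromSpecStalk x q ∈ CohB1.support F := by
    intro q hq
    rw [← hV.fromSpecStalk_eq_fromSpecStalk hxV]
    show hV.fromSpec (PrimeSpectrum.comap (X.presheaf.germ V x hxV).hom q) ∈ CohB1.support F
    obtain ⟨y, hy, hyp⟩ := QCoh.exists_point hV (PrimeSpectrum.comap (X.presheaf.germ V x hxV).hom q)
    rw [← hyp, hV.fromSpec_primeIdealOf ⟨y, hy⟩]
    have hsupp : q ∈ Module.support R (F.presheaf.stalk x) := Module.mem_support_iff_of_finite.2 hq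
    obtain ⟨z, hz⟩ := Module.mem_support_iff_exists_annihilator.1 hsupp
    obtain ⟨⟨m, s⟩, hm⟩ := IsLocalizedModule.surj (hV.primeIdealOf ⟨x, hxV⟩).asIdeal.primeCompl
      (QCoh.germLin F hxV) z
    refine (QCoh.mem_support_iff hF.1 hV hy).2 ⟨m, fun g hg h0 => ?_⟩
    rw [QCoh.mem_basicOpen_iff_notMem hV hy, hyp] at hg
    apply hg
    show X.presheaf.germ V x hxV g ∈ q.asIdeal
    apply hz
    rw [Submodule.mem_annihilator_span_singleton]
    have hu : IsUnit (algebraMap Γ(X, V) R s) := IsLocalization.map_units R s
    apply hu.smul_left_cancel.1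
    rw [smul_zero, smul_comm, algebraMap_smul]
    refine Eq.trans (congrArg (X.presheaf.germ V x hxV g • ·) hm) ?_
    show algebraMap Γ(X, V) R g • QCoh.germLin F hxV m = 0
    rw [algebraMap_smul, ← map_smul, h0, map_zero]
  rw [Module.supportDim_eq_ringKrullDim_quotient_annihilator, ← PrimeSpectrum.topologicalKrullDim_eq_ringKrullDim]
  let j : PrimeSpectrum (R ⧸ I) → ↥X := fun p => X.fromSpecStalk x (PrimeSpectrum.comap (Ideal.Quotient.mk I) p)
  have hj : Topology.IsInducing j :=
    ((X.fromSpecStalk x).isEmbedding.isInducing).comp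
      (PrimeSpectrum.isClosedEmbedding_comap_of_surjective _ (Ideal.Quotient.mk I) Ideal.Quotient.mk_surjective).isEmbedding.isInducing
  have hjm : ∀ p, j p ∈ CohB1.support F := fun p => hmem _ fun a ha => by
    show Ideal.Quotient.mk I a ∈ p.asIdeal
    rw [Ideal.Quotient.eq_zero_iff_mem.2 ha]
    exact p.asIdeal.zero_mem
  exact (hj.codRestrict hjm).topologicalKrullDim_le

end Groth.Agent.SmoothEquidim
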