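import Groth.Agent.Lib.EulerFlatPull
import Groth.Agent.Pic13Lib.IntNum
import Groth.Agent.S0017
import Groth.Agent.ZClosLib.CohDescent
import Groth.Agent.QCoh.RpushProper
import Groth.Agent.AlgStLib.Noetherian
import Groth.Prelude.Def_Mor2

/-!
Euler characteristics are multiplicative in finite étale morphisms of constant degree.
-/

set_option autoImplicit false
set_option linter.style.haveILetI false
set_option linter.unusedSectionVars false
set_option backward.isDefEq.respectTransparency false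
set_option backward.isDefEq.respectTransparency.types false
set_option maxHeartbeats 1600000
set_option synthInstance.maxHeartbeats 200000

universe u

open CategoryTheory CategoryTheory.Limits AlgebraicGeometry TopologicalSpace Opposite

noncomputable section

namespace Groth.Agent.EulerEtale

open Groth.Agent Groth.Agent.Snapper

variable (k : Type u) [Field k]

section Tensor

variable {X : Scheme.{u}} [X.Over (Spec (CommRingCat.of k))]
  [IsProper (X ↘ Spec (CommRingCat.of k))]

theorem euler_map {A B : X.Modules} (hA : Coh.IsCoh A) (hB : Coh.IsCoh B) (φ : A ⟶ B) :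
    Curv2.euler k X A + Curv2.euler k X (cokernel φ) = Curv2.euler k X B + Curv2.euler k X (kernel φ) := by
  haveI := CurveCohLib.isNoetherian_of_proper (k := k) (X := X)
  have hK := QCoh.isCoh_kernel hA hB φ
  have hC := QCoh.isCoh_cokernel hA.1 hB φ
  have hI : Coh.IsCoh (Abelian.image φ) :=
    QCoh.isCoh_of_epi (Abelian.factorThruImage φ) hA (QCoh.isQCoh_kernel hB.1 hC.1 _)
  have h1 := Euler.euler_add k (S := ShortComplex.mk (kernel.ι φ) (Abelian.factorThruImage φ)
      ((cancel_mono (Abelian.image.ι φ)).1 (by rw [Category.assoc, Abelian.image.fac, kernel.condition, zero_comp])))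
    { exact := ShortComplex.exact_of_f_is_kernel _ (KernelFork.IsLimit.ofι' _ _ fun {T} t ht =>
        ⟨kernel.lift φ t (by rw [← Abelian.image.fac φ, reassoc_of% ht, zero_comp]), kernel.lift_ι _ _ _⟩)
      mono_f := inferInstance
      epi_g := inferInstance } hK hA hI
  have h2 := Euler.euler_add k (S := ShortComplex.mk (Abelian.image.ι φ) (cokernel.π φ) (kernel.condition _))
    { exact := ShortComplex.exact_of_f_is_kernel _ (kernelIsKernel (cokernel.π φ))
      mono_f := inferInstance
      epi_g := inferInstance } hI hB hC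
  dsimp only at h1 h2
  rw [h1, h2]
  abel

theorem euler_of_support_eq_empty {M : X.Modules} (hs : CohB1.support M = ∅) : Curv2.euler k X M = 0 := by
  have hz : IsZero M := CurveCohLib.isZero_of_subsingleton_stalks fun x =>
    not_not.1 fun hx => (hs ▸ hx : x ∈ (∅ : Set X))
  rw [Euler.euler_eq_sum k M 0 fun i _ => Euler.subsingleton_HH_of_isZero hz i]
  simp

theorem euler_eq_of_isoOn {U : X.Opens} {A B : X.Modules} (hA : Coh.IsCoh A) (hB : Coh.IsCoh B)
    (φ : A ⟶ B) (hφ : IsoOn U φ) (hAU : CohB1.support A ⊆ (U : Set X))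
    (hBU : CohB1.support B ⊆ (U : Set X)) : Curv2.euler k X A = Curv2.euler k X B := by
  haveI := CurveCohLib.isNoetherian_of_proper (k := k) (X := X)
  obtain ⟨hk, hc⟩ := support_subset_compl hφ
  obtain ⟨hk', hc'⟩ := support_sub_of_map hA hB φ
  have h := euler_map k hA hB φ
  rwa [euler_of_support_eq_empty k (Set.eq_empty_of_forall_notMem fun x hx => hc hx (hBU (hc' hx))),
    euler_of_support_eq_empty k (Set.eq_empty_of_forall_notMem fun x hx => hk hx (hAU (hk' hx))),
    add_zero, add_zero] at h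

variable {E : X.Modules} {d : ℕ}

/-- The Euler characteristic of `E ⊗ F` is `d` times that of `F` as soon as this holds for `F = E ⊗ M`. -/
theorem euler_tensor (hE : FlatMod.IsFinLocFreeOfRank d E) (hd : 0 < d)
    (hTT : ∀ M : X.Modules, Coh.IsCoh M →
      Curv2.euler k X (CohB1.tensorMod E (CohB1.tensorMod E M)) = d * Curv2.euler k X (CohB1.tensorMod E M))
    {F : X.Modules} (hF : Coh.IsCoh F) :
    Curv2.euler k X (CohB1.tensorMod E F) = d * Curv2.euler k X F := by
  haveI := CurveCohLib.isNoetherian_of_proper (k := k) (X := X)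
  have hEf : FlatMod.IsFinLocFree E := fun x => let ⟨U, hx, e⟩ := hE x; ⟨U, d, hx, e⟩
  have hEc : Coh.IsCoh E := CurveDeg.isCoh_of_isFinLocFree hEf
  suffices h : ∀ C : Closeds X, ∀ M : X.Modules, Coh.IsCoh M → CohB1.support M ⊆ C →
      EulerFlatPull.defect k E d M = 0 from
    sub_eq_zero.1 (h ⊤ F hF fun x _ => trivial)
  intro C
  induction C using WellFoundedLT.induction with
  | ind C IH =>
  intro M hM hMC
  rcases Set.eq_empty_or_nonempty (C : Set X) with h0 | hne
  · exact EulerFlatPull.defect_zero k hEf hM (Set.subset_empty_iff.1 (h0 ▸ hMC))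
  by_cases hirr : IsIrreducible (C : Set X)
  · obtain ⟨η, hη⟩ := QuasiSober.sober hirr C.isClosed
    obtain ⟨U, hηU, ⟨e⟩⟩ := hE η
    have IH' : ∀ N : X.Modules, Coh.IsCoh N → CohB1.support N ⊆ (C : Set X) \ U →
        EulerFlatPull.defect k E d N = 0 :=
      fun N hN hNs => IH ⟨_, C.isClosed.sdiff U.2⟩ (lt_of_le_of_ne (Set.sdiff_subset : (C : Set X) \ U ⊆ C)
        fun h => ((congrArg (SetLike.coe : Closeds X → Set X) h).ge hη.mem : η ∈ (C : Set X) \ U).2 hηU) N hN hNs
    let O := FlatMod.freeMod X d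
    have hOc : Coh.IsCoh O := CurveDeg.isCoh_of_isFinLocFree (EulerFlatPull.isFinLocFree_freeMod d)
    let Q := (Scheme.Modules.pushforward U.ι).obj (E.restrict U.ι)
    have hQ : Coh.IsQCoh Q := QCoh.isQCoh_pushforward U.ι (QCoh.isQCoh_restrict U.ι hEc.1)
    let γ := (Scheme.Modules.pushforward U.ι).mapIso (QCoh.freeModRestrict U.ι d ≪≫ e.symm)
    have hψ : IsoOn U (resMap U O ≫ γ.hom) := fun x hx => by
      haveI := isoOn_resMap U O x hx
      rw [Functor.map_comp]
      infer_instance
    obtain ⟨K, I, a, b, c, hK, hI, ha, hb, hc⟩ := exists_link hEc hOc hQ (resMap U E) _ (isoOn_resMap U E) hψ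
    let T := AmpleVan.tw M
    have hsupp : ∀ A, CohB1.support (T.obj A) ⊆ C := fun A => fun x hx => hMC (CurveTensor.support_tensor_subset hx)
    have hcoh : ∀ {A}, Coh.IsCoh A → Coh.IsCoh (T.obj A) := fun h => AmpleVan.isCoh_tensor h hM
    have e1 := EulerFlatPull.defect_eq_of_isoOn k (d := d) hEf IH' (hcoh hK) (hcoh hEc) (hsupp _) (hsupp _) _ (ha.tensor M)
    have e2 := EulerFlatPull.defect_eq_of_isoOn k (d := d) hEf IH' (hcoh hK) (hcoh hI) (hsupp _) (hsupp _) _ (hb.tensor M)
    have e3 := EulerFlatPull.defect_eq_of_isoOn k (d := d) hEf IH' (hcoh hOc) (hcoh hI) (hsupp _) (hsupp _) _ (hc.tensor M)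
    have hO1 : Curv2.euler k X (T.obj O) = d * Curv2.euler k X M := by
      rw [EulerFlatPull.euler_map_freeMod k T fun A hA => AmpleVan.isCoh_tensor (CurveDeg.isCoh_of_isFinLocFree hA) hM]
      exact congrArg _ (Euler.euler_congr k (CurveTensor.structureTensorIso M))
    have hO2 : Curv2.euler k X (CohB1.tensorMod E (T.obj O)) = d * Curv2.euler k X (CohB1.tensorMod E M) := by
      refine (EulerFlatPull.euler_map_freeMod k (T ⋙ DCoh.tensorBi.obj E) (fun A hA => CurveTensor.isCoh_tensor hEf
        (AmpleVan.isCoh_tensor (CurveDeg.isCoh_of_isFinLocFree hA) hM)) d).trans ?_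
      exact congrArg _ (Euler.euler_congr k ((DCoh.tensorBi.obj E).mapIso (CurveTensor.structureTensorIso M)))
    have h : EulerFlatPull.defect k E d (T.obj O) = EulerFlatPull.defect k E d (T.obj E) := by rw [e3, ← e2, e1]
    simp only [EulerFlatPull.defect] at h ⊢
    rw [hO1, hO2, show T.obj E = CohB1.tensorMod E M from rfl, hTT M hM] at h
    have h2 : (d : ℤ) * (Curv2.euler k X (CohB1.tensorMod E M) - d * Curv2.euler k X M) = 0 := by
      linear_combination h
    rcases mul_eq_zero.1 h2 with h3 | h3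
    · exact absurd h3 (by exact_mod_cast hd.ne')
    · exact h3
  · obtain ⟨A, B, hA, hB, hsub, hnA, hnB⟩ : ∃ A B : Set X, IsClosed A ∧ IsClosed B ∧
        (C : Set X) ⊆ A ∪ B ∧ ¬ (C : Set X) ⊆ A ∧ ¬ (C : Set X) ⊆ B := by
      by_contra! hno
      exact hirr ⟨hne, isPreirreducible_iff_isClosed_union_isClosed.2 fun A B hA hB hs =>
        or_iff_not_imp_left.2 fun hA' => hno A B hA hB hs hA'⟩
    let C₁ : Closeds X := ⟨(C : Set X) ∩ A, C.isClosed.inter hA⟩
    let C₂ : Closeds X := ⟨(C : Set X) ∩ B, C.isClosed.inter hB⟩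
    have h1 : C₁ < C := lt_of_le_of_ne (Set.inter_subset_left : (C : Set X) ∩ A ⊆ C)
      fun h => hnA (Set.inter_eq_left.1 (congrArg (SetLike.coe) h))
    have h2 : C₂ < C := lt_of_le_of_ne (Set.inter_subset_left : (C : Set X) ∩ B ⊆ C)
      fun h => hnB (Set.inter_eq_left.1 (congrArg (SetLike.coe) h))
    let U : X.Opens := ⟨(C₂ : Set X)ᶜ, C₂.isClosed.isOpen_compl⟩
    let φ := resMap U M
    have hQ : Coh.IsQCoh ((Scheme.Modules.pushforward U.ι).obj (M.restrict U.ι)) :=
      QCoh.isQCoh_pushforward U.ι (QCoh.isQCoh_restrict U.ι hM.1)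
    have hco := QCoh.isQCoh_cokernel hM.1 hQ φ
    have hI : Coh.IsCoh (Abelian.image φ) :=
      QCoh.isCoh_of_epi (Abelian.factorThruImage φ) hM (QCoh.isQCoh_kernel hQ hco _)
    have hK : Coh.IsCoh (kernel φ) := QCoh.isCoh_of_mono (kernel.ι φ) hM (QCoh.isQCoh_kernel hM.1 hQ φ)
    have e := EulerFlatPull.defect_add k (d := d) hEf
      (S := ShortComplex.mk (kernel.ι φ) (Abelian.factorThruImage φ)
        ((cancel_mono (Abelian.image.ι φ)).1 (by rw [Category.assoc, Abelian.image.fac, kernel.condition, zero_comp])))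
      { exact := ShortComplex.exact_of_f_is_kernel _ (KernelFork.IsLimit.ofι' _ _ fun {T} t ht =>
          ⟨kernel.lift φ t (by rw [← Abelian.image.fac φ, reassoc_of% ht, zero_comp]), kernel.lift_ι _ _ _⟩)
        mono_f := inferInstance
        epi_g := inferInstance } hK hM hI
    dsimp only at e
    rw [e, IH C₂ h2 _ hK fun x hx => not_not.1 fun hx2 =>
      (support_subset_compl (isoOn_resMap U M)).1 hx (show x ∈ U from hx2), zero_add]
    refine IH C₁ h1 _ hI fun x hx => ?_
    by_contra hx1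
    have hP := QCoh.mem_support_of_mono hI.1 hQ (Abelian.image.ι φ) hx
    refine notMem_support_push (W := ⟨(C₁ : Set X)ᶜ, C₁.isClosed.isOpen_compl⟩) hx1 ?_ hP
    refine Set.disjoint_left.2 fun y hy hyM => ?_
    rcases hsub (hMC hyM) with h | h
    · exact hy.1 ⟨hMC hyM, h⟩
    · exact hy.2 ⟨hMC hyM, h⟩

end Tensor

section Iso

theorem euler_restrict_iso {U X : Scheme.{u}} [U.Over (Spec (CommRingCat.of k))]
    [IsProper (U ↘ Spec (CommRingCat.of k))]
    [X.Over (Spec (CommRingCat.of k))] [IsProper (X ↘ Spec (CommRingCat.of k))] (g : U ⟶ X) [IsIso g]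
    (hg : g ≫ (X ↘ Spec (CommRingCat.of k)) = U ↘ Spec (CommRingCat.of k)) {H : X.Modules}
    (hH : Coh.IsQCoh H) :
    Curv2.euler k U ((Scheme.Modules.pullback g).obj H) = Curv2.euler k X H := by
  rw [← Euler.euler_congr k ((Scheme.Modules.restrictFunctorIsoPullback g).app H)]
  rw [← Pic13Lib.euler_push g hg (QCoh.isQCoh_restrict g hH)]
  haveI : IsIso ((Scheme.Modules.restrictAdjunction g).unit.app H) := by
    refine Scheme.Modules.Hom.isIso_iff_isIso_app.2 fun W => ?_
    rw [Scheme.Modules.restrictAdjunction_unit_app_app]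
    have e : g ''ᵁ (g ⁻¹ᵁ W) = W := by
      rw [g.image_preimage_eq_opensRange_inf, Scheme.Hom.opensRange_of_isIso, top_inf_eq]
    haveI : IsIso (homOfLE e.le) := ⟨homOfLE e.ge, rfl, rfl⟩
    infer_instance
  exact (Euler.euler_congr k (asIso ((Scheme.Modules.restrictAdjunction g).unit.app H))).symm

end Iso

section Clopen

variable {W : Scheme.{u}} [W.Over (Spec (CommRingCat.of k))] [IsProper (W ↘ Spec (CommRingCat.of k))]

theorem isClosedImmersion_ι {U : W.Opens} (hU : IsClosed (U : Set W)) : IsClosedImmersion U.ι :=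
  .of_isPreimmersion U.ι (by rw [U.range_ι]; exact hU)

theorem support_push_subset {U : W.Opens} (hU : IsClosed (U : Set W)) (G : W.Modules) :
    CohB1.support ((Scheme.Modules.pushforward U.ι).obj (G.restrict U.ι)) ⊆ (U : Set W) := fun x hx => by
  by_contra hxU
  exact notMem_support_push (W := ⟨(U : Set W)ᶜ, hU.isOpen_compl⟩) hxU
    (Set.disjoint_left.2 fun y hy => absurd hy.2 hy.1) hx

include k in
theorem isCoh_push_restrict {U : W.Opens} (hU : IsClosed (U : Set W)) {G : W.Modules} (hG : Coh.IsCoh G) :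
    Coh.IsCoh ((Scheme.Modules.pushforward U.ι).obj (G.restrict U.ι)) := by
  haveI := CurveCohLib.isNoetherian_of_proper (k := k) (X := W)
  haveI := isClosedImmersion_ι hU
  haveI : IsLocallyNoetherian (U : Scheme.{u}) := LocallyOfFiniteType.isLocallyNoetherian U.ι
  exact QCoh.isCoh_push U.ι (QCoh.isCoh_restrict_open hG)

/-- The Euler characteristic is additive over a decomposition into two clopen subschemes. -/
theorem euler_clopen {U V : W.Opens} (hVU : (V : Set W) = (U : Set W)ᶜ) {G : W.Modules} (hG : Coh.IsCoh G) :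
    Curv2.euler k W G =
      Curv2.euler k W ((Scheme.Modules.pushforward U.ι).obj (G.restrict U.ι)) +
        Curv2.euler k W ((Scheme.Modules.pushforward V.ι).obj (G.restrict V.ι)) := by
  haveI := CurveCohLib.isNoetherian_of_proper (k := k) (X := W)
  have hV : IsClosed (V : Set W) := hVU ▸ U.2.isClosed_compl
  have hU : IsClosed (U : Set W) := by
    have := V.2.isClosed_compl; rwa [show V.carrier = (U : Set W)ᶜ from hVU, compl_compl] at this
  have hPU := isCoh_push_restrict k hU hG
  have hPV := isCoh_push_restrict k hV hG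
  let b := resMap V G
  have hb := isoOn_resMap V G
  obtain ⟨hk, hc⟩ := support_subset_compl hb
  obtain ⟨hk', hc'⟩ := support_sub_of_map hG hPV b
  have hcoker : CohB1.support (cokernel b) = ∅ :=
    Set.eq_empty_of_forall_notMem fun x hx => hc hx (support_push_subset hV G (hc' hx))
  have h := euler_map k hG hPV b
  rw [euler_of_support_eq_empty k hcoker, add_zero] at h
  rw [h, add_comm]
  congr 1
  have hKU : CohB1.support (kernel b) ⊆ (U : Set W) := fun x hx => by
    have := hk hx; rwa [hVU, compl_compl] at this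
  refine euler_eq_of_isoOn k (QCoh.isCoh_kernel hG hPV b) hPU (kernel.ι b ≫ resMap U G) ?_ hKU
    (support_push_subset hU G)
  intro x hx
  let F := DerSch.stalkFunctor W x
  have hzero : IsZero (F.obj ((Scheme.Modules.pushforward V.ι).obj (G.restrict V.ι))) :=
    Snapper.notMem_support_iff.1 fun h' => (hVU.le (support_push_subset hV G h')) hx
  let S := ShortComplex.mk (kernel.ι b) (Abelian.factorThruImage b)
      ((cancel_mono (Abelian.image.ι b)).1 (by rw [Category.assoc, Abelian.image.fac, kernel.condition, zero_comp]))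
  have hS : S.ShortExact :=
    { exact := ShortComplex.exact_of_f_is_kernel _ (KernelFork.IsLimit.ofι' _ _ fun {T} t ht =>
        ⟨kernel.lift b t (by rw [← Abelian.image.fac b, reassoc_of% ht, zero_comp]), kernel.lift_ι _ _ _⟩)
      mono_f := inferInstance
      epi_g := inferInstance }
  have hSF := hS.map_of_exact F
  have hI0 : F.map (Abelian.factorThruImage b) = 0 := by
    haveI : Mono (F.map (Abelian.image.ι b)) := inferInstance
    refine (cancel_mono (F.map (Abelian.image.ι b))).1 ?_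
    exact hzero.eq_of_tgt _ _
  haveI : Mono (F.map (kernel.ι b)) := hSF.mono_f
  haveI : Epi (F.map (kernel.ι b)) := hSF.exact.epi_f hI0
  haveI : IsIso (F.map (kernel.ι b)) := isIso_of_mono_of_epi _
  haveI := isoOn_resMap U G x hx
  show IsIso (F.map (kernel.ι b ≫ resMap U G))
  rw [Functor.map_comp]
  infer_instance

/-- The same with cohomology computed on the two pieces. -/
theorem euler_clopen' {U V : W.Opens} (hVU : (V : Set W) = (U : Set W)ᶜ) {G : W.Modules} (hG : Coh.IsCoh G) :
    letI : (U : Scheme.{u}).Over (Spec (CommRingCat.of k)) := ⟨U.ι ≫ (W ↘ Spec (CommRingCat.of k))⟩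
    letI : (V : Scheme.{u}).Over (Spec (CommRingCat.of k)) := ⟨V.ι ≫ (W ↘ Spec (CommRingCat.of k))⟩
    Curv2.euler k W G =
      Curv2.euler k U ((Scheme.Modules.pullback U.ι).obj G) +
        Curv2.euler k V ((Scheme.Modules.pullback V.ι).obj G) := by
  letI : (U : Scheme.{u}).Over (Spec (CommRingCat.of k)) := ⟨U.ι ≫ (W ↘ Spec (CommRingCat.of k))⟩
  letI : (V : Scheme.{u}).Over (Spec (CommRingCat.of k)) := ⟨V.ι ≫ (W ↘ Spec (CommRingCat.of k))⟩
  haveI := CurveCohLib.isNoetherian_of_proper (k := k) (X := W)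
  have hV : IsClosed (V : Set W) := hVU ▸ U.2.isClosed_compl
  have hU : IsClosed (U : Set W) := by
    have := V.2.isClosed_compl; rwa [show V.carrier = (U : Set W)ᶜ from hVU, compl_compl] at this
  haveI := isClosedImmersion_ι hU
  haveI := isClosedImmersion_ι hV
  haveI : IsProper ((U : Scheme.{u}) ↘ Spec (CommRingCat.of k)) :=
    inferInstanceAs (IsProper (U.ι ≫ (W ↘ Spec (CommRingCat.of k))))
  haveI : IsProper ((V : Scheme.{u}) ↘ Spec (CommRingCat.of k)) :=
    inferInstanceAs (IsProper (V.ι ≫ (W ↘ Spec (CommRingCat.of k))))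
  refine (euler_clopen k hVU hG).trans (congrArg₂ (· + ·) ?_ ?_)
  · exact (Pic13Lib.euler_push U.ι rfl (QCoh.isQCoh_restrict U.ι hG.1)).trans
      (Euler.euler_congr k ((Scheme.Modules.restrictFunctorIsoPullback U.ι).app G))
  · exact (Pic13Lib.euler_push V.ι rfl (QCoh.isQCoh_restrict V.ι hG.1)).trans
      (Euler.euler_congr k ((Scheme.Modules.restrictFunctorIsoPullback V.ι).app G))

end Clopen

section Rank

/-- Ranks add over a decomposition of the source into two clopen subschemes. -/
theorem finrank_clopen {W X : Scheme.{u}} (p : W ⟶ X) [IsFinite p] [Flat p] {U V : W.Opens}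
    (hVU : (V : Set W) = (U : Set W)ᶜ) (x : X) :
    p.finrank x = (U.ι ≫ p).finrank x + (V.ι ≫ p).finrank x := by
  have hV : IsClosed (V : Set W) := hVU ▸ U.2.isClosed_compl
  have hU : IsClosed (U : Set W) := by
    have := V.2.isClosed_compl; rwa [show V.carrier = (U : Set W)ᶜ from hVU, compl_compl] at this
  haveI := isClosedImmersion_ι hU
  haveI := isClosedImmersion_ι hV
  obtain ⟨_, ⟨O, hO, rfl⟩, hx, -⟩ :=
    X.isBasis_affineOpens.exists_subset_of_mem_open (Set.mem_univ x) isOpen_univ
  replace hO : IsAffineOpen O := hO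
  replace hx : x ∈ O := hx
  letI := H23.CoverPush.alg p O
  letI := H23.CoverPush.alg (U.ι ≫ p) O
  letI := H23.CoverPush.alg (V.ι ≫ p) O
  rw [H23.CoverPush.finrank_eq p hO hx, H23.CoverPush.finrank_eq (U.ι ≫ p) hO hx,
    H23.CoverPush.finrank_eq (V.ι ≫ p) hO hx]
  have fin : ∀ {Z : Scheme.{u}} (q : Z ⟶ X) [IsFinite q] [Flat q],
      letI := H23.CoverPush.alg q O
      Module.Finite Γ(X, O) Γ(Z, q ⁻¹ᵁ O) ∧ Module.Flat Γ(X, O) Γ(Z, q ⁻¹ᵁ O) := fun q _ _ => by
    letI := H23.CoverPush.alg q O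
    have h := H23.CoverPush.isPullback_fromSpec q hO
    haveI : IsFinite (Spec.map (q.app O)) := MorphismProperty.of_isPullback h.flip inferInstance
    haveI : Flat (Spec.map (q.app O)) := MorphismProperty.of_isPullback h.flip inferInstance
    exact ⟨(IsFinite.SpecMap_iff (q.app O)).mp inferInstance,
      Flat.SpecMap_iff.mp (inferInstanceAs (Flat (Spec.map (q.app O))))⟩
  haveI := (fin p).1; haveI := (fin p).2
  haveI := (fin (U.ι ≫ p)).1; haveI := (fin (U.ι ≫ p)).2
  haveI := (fin (V.ι ≫ p)).1; haveI := (fin (V.ι ≫ p)).2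
  let ψ : Γ(W, p ⁻¹ᵁ O) →ₗ[Γ(X, O)] Γ(U, (U.ι ≫ p) ⁻¹ᵁ O) × Γ(V, (V.ι ≫ p) ⁻¹ᵁ O) :=
    { toFun := fun z => (U.ι.app (p ⁻¹ᵁ O) z, V.ι.app (p ⁻¹ᵁ O) z)
      map_add' := fun a b => Prod.ext (map_add _ _ _) (map_add _ _ _)
      map_smul' := fun r z => Prod.ext
        (by
          exact map_mul (U.ι.app (p ⁻¹ᵁ O)).hom (p.app O r) z)
        (by
          exact map_mul (V.ι.app (p ⁻¹ᵁ O)).hom (p.app O r) z) }
  have hres : ∀ (T : W.Opens) (P : W.Opens), ∃ e : Γ(T, T.ι ⁻¹ᵁ P) ≅ Γ(W, P ⊓ T),
      ∀ z : Γ(W, P), e.hom (T.ι.app P z) = W.presheaf.map (homOfLE inf_le_left).op z := fun T P => by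
    have h : T.ι ''ᵁ (T.ι ⁻¹ᵁ P) = P ⊓ T := by
      rw [T.ι.image_preimage_eq_opensRange_inf, Scheme.Opens.opensRange_ι, inf_comm]
    refine ⟨(T.ι.appIso _).symm ≪≫ W.presheaf.mapIso (eqToIso h.symm).op, fun z => ?_⟩
    rw [Scheme.Opens.ι_appIso, Scheme.Opens.ι_app]
    exact QCoh.map_map (M := Coh.structureModule W) _ _ (show Γ(Coh.structureModule W, P) from z)
  obtain ⟨eU, heU⟩ := hres U (p ⁻¹ᵁ O)
  obtain ⟨eV, heV⟩ := hres V (p ⁻¹ᵁ O)
  have hψ : Function.Bijective ψ := by
    constructor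
    · intro a b hab
      refine W.sheaf.eq_of_locally_eq₂ (homOfLE inf_le_left) (homOfLE inf_le_left)
        (show p ⁻¹ᵁ O ≤ (p ⁻¹ᵁ O ⊓ U) ⊔ (p ⁻¹ᵁ O ⊓ V) from fun w hw => ?_) a b ?_ ?_
      · by_cases hwU : w ∈ U
        · exact Or.inl ⟨hw, hwU⟩
        · exact Or.inr ⟨hw, hVU.ge hwU⟩
      · exact (heU a).symm.trans ((congrArg eU.hom (congrArg Prod.fst hab)).trans (heU b))
      · exact (heV a).symm.trans ((congrArg eV.hom (congrArg Prod.snd hab)).trans (heV b))
    · rintro ⟨a, b⟩
      let T : Bool → W.Opens := fun i => if i then p ⁻¹ᵁ O ⊓ U else p ⁻¹ᵁ O ⊓ V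
      let sf : ∀ i, Γ(W, T i) := fun i => match i with
        | true => eU.hom a
        | false => eV.hom b
      obtain ⟨z, hz, -⟩ := W.sheaf.existsUnique_gluing' T (p ⁻¹ᵁ O)
        (fun i => homOfLE (by cases i <;> exact inf_le_left))
        (fun w hw => by
          by_cases hwU : w ∈ U
          · exact Opens.mem_iSup.2 ⟨true, ⟨hw, hwU⟩⟩
          · exact Opens.mem_iSup.2 ⟨false, ⟨hw, hVU.ge hwU⟩⟩) sf (fun i j => by
          rcases i with _ | _ <;> rcases j with _ | _
          · rfl
          · refine TopCat.Presheaf.section_ext W.sheaf _ _ _ fun w hw => absurd hw.2.2 (hVU.le hw.1.2)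
          · refine TopCat.Presheaf.section_ext W.sheaf _ _ _ fun w hw => absurd hw.1.2 (hVU.le hw.2.2)
          · rfl)
      refine ⟨z, Prod.ext ?_ ?_⟩
      · exact ((ConcreteCategory.bijective_of_isIso eU.hom).1 ((heU z).trans (hz true)))
      · exact ((ConcreteCategory.bijective_of_isIso eV.hom).1 ((heV z).trans (hz false)))
  rw [Module.rankAtStalk_eq_of_equiv (LinearEquiv.ofBijective ψ hψ), Module.rankAtStalk_prod]
  rfl

end Rank

section Main

variable {k}

theorem euler_push_pull {X Y : Scheme.{u}} [X.Over (Spec (CommRingCat.of k))]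
    [Y.Over (Spec (CommRingCat.of k))] [IsProper (Y ↘ Spec (CommRingCat.of k))] (f : X ⟶ Y)
    (hf : f ≫ (Y ↘ Spec (CommRingCat.of k)) = X ↘ Spec (CommRingCat.of k))
    [IsFinite f] [Flat f] [LocallyOfFinitePresentation f] {d : ℕ} (hd : ∀ y, f.finrank y = d)
    {F : Y.Modules} (hF : Coh.IsQCoh F) :
    Curv2.euler k Y (CohB1.tensorMod ((Scheme.Modules.pushforward f).obj (Coh.structureModule X)) F) =
      Curv2.euler k X ((Scheme.Modules.pullback f).obj F) := by
  have hE : FlatMod.IsFinLocFreeOfRank d ((Scheme.Modules.pushforward f).obj (Coh.structureModule X)) :=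
    H23.CoverPush.isFinLocFreeOfRank_push_of_isCover f ⟨⟨inferInstance, inferInstance, inferInstance⟩, hd⟩
  have hEf : FlatMod.IsFinLocFree ((Scheme.Modules.pushforward f).obj (Coh.structureModule X)) :=
    fun x => let ⟨U, hx, e⟩ := hE x; ⟨U, d, hx, e⟩
  obtain ⟨p⟩ := KFlatLib.nonempty_push_pull_iso f (QCoh.isFlat_and_isFP_iff.2 hEf).1 hF
  haveI : IsProper (X ↘ Spec (CommRingCat.of k)) := hf ▸ inferInstance
  exact (Euler.euler_congr k p).trans (Pic13Lib.euler_push f hf (QCoh.isQCoh_pullback f hF))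

/-- `χ(f^*F) = d χ(F)` for a finite étale morphism of degree `d`. -/
theorem euler_pullback : ∀ (d : ℕ) (X Y : Scheme.{u}) [X.Over (Spec (CommRingCat.of k))]
    [Y.Over (Spec (CommRingCat.of k))] [IsProper (Y ↘ Spec (CommRingCat.of k))] (f : X ⟶ Y)
    [IsFinite f] [Etale f], f ≫ (Y ↘ Spec (CommRingCat.of k)) = X ↘ Spec (CommRingCat.of k) →
    (∀ y, f.finrank y = d) → ∀ F : Y.Modules, Coh.IsCoh F →
    Curv2.euler k X ((Scheme.Modules.pullback f).obj F) = d * Curv2.euler k Y F := by
  intro d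
  induction d with
  | zero =>
    intro X Y _ _ _ f _ _ hf hd F hF
    haveI := CurveCohLib.isNoetherian_of_proper (k := k) (X := Y)
    haveI : IsEmpty X := ⟨fun x => absurd (hd (f x) ▸ f.one_le_finrank_map x) (by omega)⟩
    haveI : IsProper (X ↘ Spec (CommRingCat.of k)) := hf ▸ inferInstance
    rw [euler_of_support_eq_empty k (Set.eq_empty_of_forall_notMem fun x _ => isEmptyElim x)]
    simp
  | succ d IH =>
    intro X Y _ _ _ f _ _ hf hd F hF
    haveI := CurveCohLib.isNoetherian_of_proper (k := k) (X := Y)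
    haveI : IsProper (X ↘ Spec (CommRingCat.of k)) := hf ▸ inferInstance
    haveI := CurveCohLib.isNoetherian_of_proper (k := k) (X := X)
    haveI : IsLocallyNoetherian X := inferInstance
    let E := (Scheme.Modules.pushforward f).obj (Coh.structureModule X)
    have hE : FlatMod.IsFinLocFreeOfRank (d + 1) E :=
      H23.CoverPush.isFinLocFreeOfRank_push_of_isCover f ⟨⟨inferInstance, inferInstance, inferInstance⟩, hd⟩
    have hEf : FlatMod.IsFinLocFree E := fun x => let ⟨U, hx, e⟩ := hE x; ⟨U, d + 1, hx, e⟩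
    -- the self fibre product
    let W := pullback f f
    let p : W ⟶ X := pullback.fst f f
    let q : W ⟶ X := pullback.snd f f
    letI : W.Over (Spec (CommRingCat.of k)) := ⟨p ≫ (X ↘ Spec (CommRingCat.of k))⟩
    haveI : IsProper (W ↘ Spec (CommRingCat.of k)) :=
      inferInstanceAs (IsProper (p ≫ (X ↘ Spec (CommRingCat.of k))))
    haveI := CurveCohLib.isNoetherian_of_proper (k := k) (X := W)
    have hq : q ≫ (X ↘ Spec (CommRingCat.of k)) = W ↘ Spec (CommRingCat.of k) := by
      show _ = p ≫ _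
      rw [← hf, ← Category.assoc, ← Category.assoc, pullback.condition]
    have hp : ∀ x, p.finrank x = d + 1 := fun x => (Scheme.Hom.finrank_pullback_fst f f x).trans (hd _)
    let s : X ⟶ W := pullback.diagonal f
    haveI : IsOpenImmersion s := inferInstanceAs (IsOpenImmersion (pullback.diagonal f))
    let U : W.Opens := s.opensRange
    have hU : IsClosed (U : Set W) := s.isClosedEmbedding.isClosed_range
    let V : W.Opens := ⟨(U : Set W)ᶜ, hU.isOpen_compl⟩
    have hVU : (V : Set W) = (U : Set W)ᶜ := rfl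
    have hUp : s.isoOpensRange.hom ≫ U.ι ≫ p = 𝟙 X := by
      rw [← Category.assoc, s.isoOpensRange_hom_ι]
      exact pullback.diagonal_fst f
    haveI hUiso : IsIso (U.ι ≫ p) := by
      have e : U.ι ≫ p = s.isoOpensRange.inv := (Iso.eq_inv_comp _).2 hUp |>.trans (Category.comp_id _)
      rw [e]; infer_instance
    letI : (U : Scheme.{u}).Over (Spec (CommRingCat.of k)) := ⟨U.ι ≫ (W ↘ Spec (CommRingCat.of k))⟩
    letI : (V : Scheme.{u}).Over (Spec (CommRingCat.of k)) := ⟨V.ι ≫ (W ↘ Spec (CommRingCat.of k))⟩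
    haveI := isClosedImmersion_ι hU
    haveI := isClosedImmersion_ι (U := V) U.2.isClosed_compl
    haveI : IsProper ((U : Scheme.{u}) ↘ Spec (CommRingCat.of k)) :=
      inferInstanceAs (IsProper (U.ι ≫ (W ↘ Spec (CommRingCat.of k))))
    have hV : ∀ x, (V.ι ≫ p).finrank x = d := fun x => by
      have h := finrank_clopen p hVU x
      haveI : IsFinite (U.ι ≫ p) := inferInstance
      rw [hp x, (Scheme.Hom.isIso_iff_finrank_eq (U.ι ≫ p)).1 hUiso] at h
      simp only [Pi.one_apply] at h
      omega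
    -- the pullback to the fibre product
    have hW : ∀ H : X.Modules, Coh.IsCoh H →
        Curv2.euler k W ((Scheme.Modules.pullback p).obj H) = (d + 1 : ℕ) * Curv2.euler k X H := by
      intro H hH
      haveI : IsLocallyNoetherian W := inferInstance
      rw [euler_clopen' k hVU (ZClosLib.isCoh_pullback p hH),
        Euler.euler_congr k (show (Scheme.Modules.pullback U.ι).obj ((Scheme.Modules.pullback p).obj H) ≅ (Scheme.Modules.pullback (U.ι ≫ p)).obj H from (Scheme.Modules.pullbackComp U.ι p).app H),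
        euler_restrict_iso k (U.ι ≫ p) (Category.assoc _ _ _) hH.1]
      haveI : IsProper ((V : Scheme.{u}) ↘ Spec (CommRingCat.of k)) :=
        inferInstanceAs (IsProper (V.ι ≫ (W ↘ Spec (CommRingCat.of k))))
      rw [Euler.euler_congr k (show (Scheme.Modules.pullback V.ι).obj ((Scheme.Modules.pullback p).obj H) ≅ (Scheme.Modules.pullback (V.ι ≫ p)).obj H from (Scheme.Modules.pullbackComp V.ι p).app H),
        IH V X (V.ι ≫ p) (Category.assoc _ _ _) hV H hH]
      push_cast
      ring
    have hXY : ∀ G : Y.Modules, Coh.IsQCoh G →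
        Curv2.euler k Y (CohB1.tensorMod E G) = Curv2.euler k X ((Scheme.Modules.pullback f).obj G) :=
      fun G hG => euler_push_pull f hf hd hG
    rw [← hXY F hF.1]
    refine euler_tensor k hE d.succ_pos (fun M hM => ?_) hF
    have hH := ZClosLib.isCoh_pullback f hM
    haveI : Coh.IsQCoh ((Scheme.Modules.pullback f).obj M) := hH.1
    obtain ⟨e₁⟩ := KFlatLib.nonempty_push_pull_iso f (QCoh.isFlat_and_isFP_iff.2 hEf).1 hM.1
    obtain ⟨e₂⟩ := S0017.result f f p q (IsPullback.of_hasPullback f f) ((Scheme.Modules.pullback f).obj M)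
    rw [hXY (CohB1.tensorMod E M) (CurveTensor.isCoh_tensor hEf hM).1,
      Euler.euler_congr k (show (Scheme.Modules.pullback f).obj (CohB1.tensorMod E M) ≅ _ from
        (Scheme.Modules.pullback f).mapIso e₁ ≪≫ e₂), hXY M hM.1]
    exact (Pic13Lib.euler_push q hq (QCoh.isQCoh_pullback p hH.1)).trans (hW _ hH)

end Main

end Groth.Agent.EulerEtale
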