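import Groth.Agent.Lib.CurveBundle
import Groth.Agent.Lib.CurveVanish
import Groth.Agent.KFlatLib.Perfect.Spread
import Groth.Agent.QCoh.Qcqs

/-!
Degrees of coherent subsheaves of vector bundles on curves: saturation and maximal slopes.
-/

set_option linter.style.haveILetI false
set_option linter.unusedSectionVars false
set_option backward.isDefEq.respectTransparency false
set_option backward.isDefEq.respectTransparency.types false

universe u

open CategoryTheory CategoryTheory.Limits AlgebraicGeometry TopologicalSpace Opposite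

namespace Groth.Agent.CurveSlope

open Groth.Agent.CurveBundle

variable {X : Scheme.{u}}

theorem shortExact_kernel_of_epi {A B : X.Modules} (g : A ⟶ B) [Epi g] :
    (ShortComplex.mk (kernel.ι g) g (kernel.condition g)).ShortExact :=
  { exact := ShortComplex.exact_of_f_is_kernel _ (kernelIsKernel g) }

theorem shortExact_cokernel_of_mono {A B : X.Modules} (f : A ⟶ B) [Mono f] :
    (ShortComplex.mk f (cokernel.π f) (cokernel.condition f)).ShortExact :=
  { exact := ShortComplex.exact_of_g_is_cokernel _ (cokernelIsCokernel f) }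

/-- Factorisation through the coimage. -/
theorem exists_factor [IsLocallyNoetherian X] {E F : X.Modules} (hE : Coh.IsCoh E) (hF : Coh.IsCoh F)
    (f : E ⟶ F) :
    ∃ (I : X.Modules) (π : E ⟶ I) (j : I ⟶ F), Mono j ∧ π ≫ j = f ∧ Coh.IsCoh (kernel f) ∧
      Coh.IsCoh I ∧ Epi π ∧ ∃ w : kernel.ι f ≫ π = 0,
        (ShortComplex.mk (kernel.ι f) π w).ShortExact :=
  ⟨Abelian.coimage f, Abelian.coimage.π f, Abelian.factorThruCoimage f, inferInstance,
    Abelian.coimage.fac f, QCoh.isCoh_kernel hE hF f,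
    QCoh.isCoh_cokernel (QCoh.isCoh_kernel hE hF f).1 hE (kernel.ι f), inferInstance,
    cokernel.condition _,
    { exact := ShortComplex.exact_of_g_is_cokernel _ (cokernelIsCokernel _) }⟩

variable [IsIntegral X]

theorem rk_congr {M N : X.Modules} (e : M ≅ N) : rk M = rk N :=
  ((DerSch.stalkFunctor X (genericPoint X)).mapIso e).toLinearEquiv.finrank_eq

variable (k : Type u) [Field k] [X.Over (Spec (CommRingCat.of k))]

/-- The degree, with the generic rank. -/
noncomputable def dg (M : X.Modules) : ℤ :=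
  Curv2.euler k X M - (rk M : ℤ) * Curv2.euler k X (Coh.structureModule X)

theorem deg_eq_dg {M : X.Modules} {r : ℕ} (h : FlatMod.IsFinLocFreeOfRank r M) :
    Curv2.deg k X M r = dg k M := by
  unfold Curv2.deg dg
  rw [rk_eq h]

variable [IsProper (X ↘ Spec (CommRingCat.of k))]

include k in
theorem isLocallyNoetherian' : IsLocallyNoetherian X :=
  LocallyOfFiniteType.isLocallyNoetherian (X ↘ Spec (CommRingCat.of k))

theorem dg_congr {M N : X.Modules} (e : M ≅ N) : dg k M = dg k N := by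
  unfold dg
  rw [rk_congr e, Euler.euler_congr k e]

include k in
theorem rk_add_coh {A B C : X.Modules} (f : A ⟶ B) (g : B ⟶ C) (w : f ≫ g = 0)
    (hS : (ShortComplex.mk f g w).ShortExact) (hB : Coh.IsCoh B) : rk B = rk A + rk C := by
  haveI := isLocallyNoetherian' k (X := X)
  exact rk_add' f g w hS (finite_stalk_of_coh hB _)

theorem dg_add {A B C : X.Modules} (f : A ⟶ B) (g : B ⟶ C) (w : f ≫ g = 0)
    (hS : (ShortComplex.mk f g w).ShortExact)
    (hA : Coh.IsCoh A) (hB : Coh.IsCoh B) (hC : Coh.IsCoh C) :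
    dg k B = dg k A + dg k C := by
  unfold dg
  rw [euler_add' k f g w hS hA hB hC, rk_add_coh k f g w hS hB]
  push_cast
  ring

theorem euler_eq_zero_of_isZero {M : X.Modules} (h : IsZero M) : Curv2.euler k X M = 0 := by
  rw [Euler.euler_eq_sum k M 0 fun i _ => Euler.subsingleton_HH_of_isZero h i, Finset.sum_range_zero]

theorem rk_eq_zero_of_isZero {M : X.Modules} (h : IsZero M) : rk M = 0 := by
  letI := (isField_stalk_generic (X := X)).toField
  haveI : Subsingleton (M.presheaf.stalk (genericPoint X)) :=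
    ModuleCat.subsingleton_of_isZero (Functor.map_isZero (DerSch.stalkFunctor X (genericPoint X)) h)
  exact Module.finrank_zero_of_subsingleton

theorem dg_eq_zero_of_isZero {M : X.Modules} (h : IsZero M) : dg k M = 0 := by
  simp [dg, rk_eq_zero_of_isZero h, euler_eq_zero_of_isZero k h]

theorem euler_le_h0 (hdim : topologicalKrullDim X ≤ 1) {M : X.Modules} (hM : Coh.IsCoh M) :
    Curv2.euler k X M ≤ Module.finrank k (Coh.HH X M 0) := by
  rw [Euler.euler_eq_sum k M 2 fun i hi => by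
    obtain ⟨n, rfl⟩ := Nat.exists_eq_add_of_le hi
    rw [add_comm]
    exact CurveVanish.subsingleton_HH_curve k hdim hM.1 n]
  rw [Finset.sum_range_succ, Finset.sum_range_one]
  simp

variable [Smooth (X ↘ Spec (CommRingCat.of k))]

/-- A coherent sheaf that is not locally free has a quotient of the same rank and smaller degree. -/
theorem exists_quot_dg_lt (hdim : topologicalKrullDim X ≤ 1) {Q : X.Modules} (hQ : Coh.IsCoh Q)
    (h : ¬ FlatMod.IsFinLocFree Q) :
    ∃ (Q' : X.Modules) (q : Q ⟶ Q'), Epi q ∧ Coh.IsCoh Q' ∧ rk Q' = rk Q ∧ dg k Q' < dg k Q := by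
  haveI := CurveCohLib.isNoetherian_of_proper (k := k) (X := X)
  haveI : X.IsSeparated := ⟨by
    rw [← terminal.comp_from (X ↘ Spec (CommRingCat.of k))]
    infer_instance⟩
  obtain ⟨x, hx⟩ : ∃ x : X, ¬ Module.Free (X.presheaf.stalk x) (Q.presheaf.stalk x) := by
    by_contra hc
    push Not at hc
    exact h (QCoh.isFinLocFree_iff.2 ⟨QCoh.isCoh_iff_isFP.1 hQ, hc⟩)
  haveI := isPrincipalIdealRing_stalk k hdim x
  haveI := finite_stalk_of_coh hQ x
  obtain ⟨a, m, ha, hm, ham⟩ : ∃ (a : X.presheaf.stalk x) (m : Q.presheaf.stalk x),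
      a ≠ 0 ∧ m ≠ 0 ∧ a • m = 0 := by
    by_contra hc
    push Not at hc
    haveI : Module.IsTorsionFree (X.presheaf.stalk x) (Q.presheaf.stalk x) :=
      Module.isTorsionFree_iff_smul_eq_zero.2 fun a m h0 => by
        by_contra h'
        rw [not_or] at h'
        exact hc a m h'.1 h'.2 h0
    exact hx Module.free_of_finite_type_torsion_free'
  obtain ⟨U, hxU, a₀, rfl⟩ := X.presheaf.exists_germ_eq (x := x) a
  obtain ⟨V₀, hxV₀, m₀, rfl⟩ := TopCat.Presheaf.exists_germ_eq Q.presheaf m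
  let a₁ := X.presheaf.map (homOfLE (inf_le_left : U ⊓ V₀ ≤ U)).op a₀
  let m₁ := Q.presheaf.map (homOfLE (inf_le_right : U ⊓ V₀ ≤ V₀)).op m₀
  have hxW : x ∈ U ⊓ V₀ := ⟨hxU, hxV₀⟩
  have h0 : Q.presheaf.germ (U ⊓ V₀) x hxW (a₁ • m₁) = Q.presheaf.germ (U ⊓ V₀) x hxW 0 := by
    rw [QCoh.germ_smul', X.presheaf.germ_res_apply, Q.presheaf.germ_res_apply, ham, map_zero]
  obtain ⟨V₁, hxV₁, i, j, h1⟩ := Q.presheaf.germ_eq x hxW hxW _ _ h0
  rw [map_zero] at h1
  obtain ⟨_, ⟨V, hV, rfl⟩, hxV, hle⟩ := X.isBasis_affineOpens.exists_subset_of_mem_open hxV₁ V₁.2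
  have hVW : V ≤ U ⊓ V₀ := fun z hz => i.le (hle hz)
  let a₂ := X.presheaf.map (homOfLE hVW).op a₁
  let m₂ := Q.presheaf.map (homOfLE hVW).op m₁
  have h2 : a₂ • m₂ = 0 := by
    rw [← QCoh.map_smul']
    have := congrArg (Q.presheaf.map (homOfLE hle : V ⟶ V₁).op) h1
    rw [map_zero, QCoh.map_map] at this
    exact this
  have ha₂ : a₂ ≠ 0 := fun hz => ha (by
    have := congrArg (X.presheaf.germ V x hxV) hz
    rwa [X.presheaf.germ_res_apply, X.presheaf.germ_res_apply, map_zero] at this)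
  have hW : IsAffineOpen (X.basicOpen a₂) := hV.basicOpen a₂
  have hWne : X.basicOpen a₂ ≠ ⊥ := fun hb => ha₂ ((basicOpen_eq_bot_iff a₂).1 hb)
  haveI hWn : Nonempty (X.basicOpen a₂ : Set X) := by
    by_contra hc
    exact hWne (Opens.ext (Set.not_nonempty_iff_eq_empty.1 fun ⟨z, hz⟩ => hc ⟨⟨z, hz⟩⟩))
  have hηW : genericPoint X ∈ X.basicOpen a₂ :=
    ((genericPoint_spec X).specializes (Set.mem_univ hWn.some.1)).mem_open
      (X.basicOpen a₂).2 hWn.some.2
  have hres : Q.presheaf.map (homOfLE (X.basicOpen_le a₂)).op m₂ = 0 := by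
    have h3 := congrArg (Q.presheaf.map (homOfLE (X.basicOpen_le a₂)).op) h2
    rw [QCoh.map_smul', map_zero] at h3
    have hu : IsUnit (X.presheaf.map (homOfLE (X.basicOpen_le a₂)).op a₂ : Γ(X, X.basicOpen a₂)) :=
      RingedSpace.isUnit_res_basicOpen X.toRingedSpace a₂
    exact hu.smul_eq_zero.1 h3
  haveI : IsAffine (X.basicOpen a₂).toScheme := hW
  haveI : IsAffineHom ((X.basicOpen a₂).ι ≫ terminal.from X) := isAffineHom_of_isAffine _
  haveI : IsAffineHom (X.basicOpen a₂).ι := IsAffineHom.of_comp (X.basicOpen a₂).ι (terminal.from X)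
  let φ := KFlatLib.unitW (X.basicOpen a₂) Q
  have hφm : φ.app V m₂ = 0 := by
    rw [Scheme.Modules.restrictAdjunction_unit_app_app]
    have hi : (X.basicOpen a₂).ι ''ᵁ ((X.basicOpen a₂).ι ⁻¹ᵁ V) ≤ X.basicOpen a₂ := by
      rintro _ ⟨z, -, rfl⟩
      exact z.2
    refine Eq.trans ?_ ((congrArg (Q.presheaf.map (homOfLE hi).op) hres).trans (map_zero _))
    rw [QCoh.map_map]
    rfl
  have hK : Coh.IsQCoh (kernel φ) := QCoh.isQCoh_kernel hQ.1
    (QCoh.isQCoh_pushforward _ (QCoh.isQCoh_restrict _ hQ.1)) φ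
  have hKc : Coh.IsCoh (kernel φ) := QCoh.isCoh_of_mono (kernel.ι φ) hQ hK
  have hKη : rk (kernel φ) = 0 := by
    letI := (isField_stalk_generic (X := X)).toField
    haveI := KFlatLib.isIso_stalk_unitW hηW Q
    haveI : Subsingleton ((kernel φ).presheaf.stalk (genericPoint X)) :=
      ModuleCat.subsingleton_of_isZero
        ((isZero_kernel_of_mono ((DerSch.stalkFunctor X (genericPoint X)).map φ)).of_iso
          (PreservesKernel.iso (DerSch.stalkFunctor X (genericPoint X)) φ))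
    exact Module.finrank_zero_of_subsingleton
  have hKne : ¬ IsZero (kernel φ) := fun hz => by
    haveI : Mono φ := Preadditive.mono_of_isZero_kernel φ hz
    refine hm (stalkMap_injective φ x ?_)
    rw [map_zero]
    refine Eq.trans ?_ (map_zero (((Scheme.Modules.pushforward (X.basicOpen a₂).ι).obj
      (Q.restrict (X.basicOpen a₂).ι)).presheaf.germ V x hxV).hom)
    rw [← hφm]
    refine Eq.trans (congrArg _ ?_) (TopCat.Presheaf.stalkFunctor_map_germ_apply V x hxV φ.mapPresheaf m₂)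
    rw [Q.presheaf.germ_res_apply, Q.presheaf.germ_res_apply]
  have hgood := Euler.good_of_dim_le_zero k hKc
    (CurveDeg.topologicalKrullDim_le_zero_of_ne_univ hdim (QCoh.isClosed_support_of_isFT hKc.1 hKc.2)
      (support_ne_univ_of_rk hKc hKη))
  obtain ⟨hnn, hz⟩ := Euler.euler_nonneg_of_good k hKc hgood
  have hC : Coh.IsCoh (cokernel (kernel.ι φ)) := QCoh.isCoh_cokernel hKc.1 hQ _
  refine ⟨cokernel (kernel.ι φ), cokernel.π _, inferInstance, hC, ?_, ?_⟩
  · have := rk_add_coh k _ _ _ (shortExact_cokernel_of_mono (kernel.ι φ)) hQ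
    omega
  · have h4 := dg_add k _ _ _ (shortExact_cokernel_of_mono (kernel.ι φ)) hKc hQ hC
    have h5 : 0 < dg k (kernel φ) := by
      unfold dg
      rw [hKη, Nat.cast_zero, zero_mul, sub_zero]
      exact lt_of_le_of_ne hnn fun he => hKne (hz he.symm)
    omega

/-- The quotient by a subsheaf of maximal degree in its rank is locally free. -/
theorem isFinLocFree_of_max (hdim : topologicalKrullDim X ≤ 1) {I F Q : X.Modules} (j : I ⟶ F)
    (p : F ⟶ Q) (w : j ≫ p = 0) (hS : (ShortComplex.mk j p w).ShortExact)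
    (hI : Coh.IsCoh I) (hF : FlatMod.IsFinLocFree F) (hQ : Coh.IsCoh Q)
    (hmax : ∀ (G : X.Modules) (g : G ⟶ F), Mono g → FlatMod.IsFinLocFree G → rk G = rk I →
      dg k G ≤ dg k I) : FlatMod.IsFinLocFree Q := by
  haveI := isLocallyNoetherian' k (X := X)
  have hFc := CurveDeg.isCoh_of_isFinLocFree hF
  by_contra hne
  obtain ⟨Q', q, hq, hQ', hrk, hdg⟩ := exists_quot_dg_lt k hdim hQ hne
  haveI : Epi p := hS.epi_g
  haveI := hq
  haveI : Epi (p ≫ q) := epi_comp p q
  have hK := QCoh.isCoh_kernel hFc hQ' (p ≫ q)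
  have h1 := rk_add_coh k _ _ _ (shortExact_kernel_of_epi (p ≫ q)) hFc
  have h2 := rk_add_coh k j p w hS hFc
  have h3 := dg_add k _ _ _ (shortExact_kernel_of_epi (p ≫ q)) hK hFc hQ'
  have h4 := dg_add k j p w hS hI hFc hQ
  have h5 := hmax _ (kernel.ι (p ≫ q)) inferInstance
    (isFinLocFree_of_mono k hdim hK (kernel.ι (p ≫ q)) hF) (by omega)
  omega

/-- The preimage of a subsheaf of a quotient. -/
theorem exists_preimage (hdim : topologicalKrullDim X ≤ 1) {I F Q : X.Modules} (j : I ⟶ F)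
    (p : F ⟶ Q) (w : j ≫ p = 0) (hS : (ShortComplex.mk j p w).ShortExact)
    (hI : Coh.IsCoh I) (hF : FlatMod.IsFinLocFree F) (hQ : Coh.IsCoh Q)
    {G : X.Modules} (g : G ⟶ Q) [Mono g] (hG : Coh.IsCoh G) :
    ∃ (P : X.Modules) (i : P ⟶ F), Mono i ∧ FlatMod.IsFinLocFree P ∧
      rk P = rk I + rk G ∧ dg k P = dg k I + dg k G := by
  haveI := isLocallyNoetherian' k (X := X)
  have hFc := CurveDeg.isCoh_of_isFinLocFree hF
  haveI : Epi p := hS.epi_g
  haveI : Epi (p ≫ cokernel.π g) := epi_comp _ _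
  have hC : Coh.IsCoh (cokernel g) := QCoh.isCoh_cokernel hG.1 hQ g
  have hK := QCoh.isCoh_kernel hFc hC (p ≫ cokernel.π g)
  have h1 := rk_add_coh k _ _ _ (shortExact_kernel_of_epi (p ≫ cokernel.π g)) hFc
  have h2 := rk_add_coh k j p w hS hFc
  have h3 := dg_add k _ _ _ (shortExact_kernel_of_epi (p ≫ cokernel.π g)) hK hFc hC
  have h4 := dg_add k j p w hS hI hFc hQ
  have h5 := rk_add_coh k _ _ _ (shortExact_cokernel_of_mono g) hQ
  have h6 := dg_add k _ _ _ (shortExact_cokernel_of_mono g) hG hQ hC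
  exact ⟨_, kernel.ι (p ≫ cokernel.π g), inferInstance, isFinLocFree_of_mono k hdim hK (kernel.ι (p ≫ cokernel.π g)) hF,
    by omega, by omega⟩

/-- Semistability, for all coherent subsheaves. -/
theorem dg_mul_le_of_ss (hdim : topologicalKrullDim X ≤ 1) {E : X.Modules} {r : ℕ}
    (hE : FlatMod.IsFinLocFreeOfRank r E)
    (hss : ∀ (F : X.Modules) (r' : ℕ) (i : F ⟶ E), Mono i → 0 < r' → FlatMod.IsFinLocFreeOfRank r' F →
      Curv2.deg k X F r' * (r : ℤ) ≤ Curv2.deg k X E r * (r' : ℤ))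
    {F : X.Modules} (i : F ⟶ E) [Mono i] (hF : Coh.IsCoh F) :
    dg k F * (r : ℤ) ≤ dg k E * (rk F : ℤ) := by
  haveI := isLocallyNoetherian' k (X := X)
  have hEf : FlatMod.IsFinLocFree E := fun x => let ⟨U, hx, e⟩ := hE x; ⟨U, r, hx, e⟩
  have hFf := isFinLocFree_of_mono k hdim hF i hEf
  rcases Nat.eq_zero_or_pos (rk F) with h | h
  · rw [h, dg_eq_zero_of_isZero k (isZero_of_rk_zero hFf h)]
    simp
  · have := hss F (rk F) i inferInstance h (isFinLocFreeOfRank_rk hFf)
    rwa [deg_eq_dg k hE, deg_eq_dg k (isFinLocFreeOfRank_rk hFf)] at this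

end Groth.Agent.CurveSlope
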