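import Groth.Agent.S13313
import Groth.Agent.S9711
import Groth.Agent.S15539
import Groth.Agent.H28.DetExt
import Groth.Agent.H28.LineTwist
import Groth.Agent.GrpOmega.Section
import Groth.Agent.KExact.DiagCodim
import Groth.Prelude.Def_Canon

/-!
Canonical sheaves do not depend on the factorisation.
-/

set_option autoImplicit false
set_option backward.isDefEq.respectTransparency false
set_option backward.isDefEq.respectTransparency.types false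
set_option maxHeartbeats 1000000
universe u

open CategoryTheory CategoryTheory.Limits AlgebraicGeometry TopologicalSpace

namespace Groth.Agent.CanonVia

open Groth.Agent Groth.Agent.H23 Groth.Agent.H28
open scoped Groth.Agent.H23.PicMul

theorem rank_of_iso {X : Scheme.{u}} {E E' : X.Modules} (e : E ≅ E') {r : ℕ}
    (h : FlatMod.IsFinLocFreeOfRank r E) : FlatMod.IsFinLocFreeOfRank r E' := fun x => by
  obtain ⟨U, hx, ⟨f⟩⟩ := h x
  exact ⟨U, hx, ⟨(Scheme.Modules.restrictFunctor U.ι).mapIso e.symm ≪≫ f⟩⟩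

theorem rank_conormal {X Z : Scheme.{u}} [IsLocallyNoetherian Z] (i : X ⟶ Z) [QuasiCompact i] (c : ℕ)
    (hi : RegImm.IsRegularImmersionOfCodim .regular c i) :
    FlatMod.IsFinLocFreeOfRank c (Omega.conormal i) := by
  haveI : IsImmersion i := hi.1
  let W : Z.Opens := i.coborderRange
  haveI := S13313.isClosedImmersion_restrict i W le_rfl
  haveI : IsIso (i ⁻¹ᵁ W).ι := by
    have hW : i ⁻¹ᵁ W = ⊤ := top_le_iff.1 fun x _ => subset_coborder (Set.mem_range_self x)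
    rw [hW]
    exact inferInstanceAs (IsIso X.topIso.hom)
  obtain ⟨φ, hφ, -⟩ := S9371.result (i ∣_ W) i W.ι (i ⁻¹ᵁ W).ι (morphismRestrict_ι i W).symm
  haveI : IsIso φ := (S9372.result (i ∣_ W) i W.ι (i ⁻¹ᵁ W).ι
    (isPullback_morphismRestrict i W) φ hφ).2 inferInstance
  exact rank_of_iso
    ((Scheme.Modules.pullback (inv (i ⁻¹ᵁ W).ι)).mapIso (asIso φ).symm ≪≫
      (Scheme.Modules.pullbackComp _ _).app _ ≪≫
      (Scheme.Modules.pullbackCongr (IsIso.inv_hom_id (i ⁻¹ᵁ W).ι)).app _ ≪≫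
      (Scheme.Modules.pullbackId X).app _)
    (LineTwist.rank_pull (inv (i ⁻¹ᵁ W).ι) (S13313.rank_conormal_restrict i c hi W))

/-- The determinant of the conormal sheaf of a lift along a smooth morphism. -/
theorem det_side {X W Z : Scheme.{u}} [IsLocallyNoetherian W] (p : W ⟶ Z) (i : X ⟶ W) (j : X ⟶ Z)
    [IsImmersion i] [IsImmersion j] [QuasiCompact i] [QuasiCompact j] (hij : i ≫ p = j) {c n : ℕ}
    [SmoothOfRelativeDimension n p] [QuasiSeparated p]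
    (hc : FlatMod.IsFinLocFreeOfRank c (Omega.conormal j)) (DC : X.Modules)
    (hDC : ExtPow.IsExtPow c (Omega.conormal j) DC) (D : W.Modules) (hD : ExtPow.IsExtPow n (Omega.sheaf p) D) :
    FlatMod.IsFinLocFreeOfRank (c + n) (Omega.conormal i) ∧
      Nonempty (CohB1.tensorMod DC ((Scheme.Modules.pullback i).obj D) ≅ ExtBase.L (Omega.conormal i) (c + n)) := by
  haveI : Smooth p := SmoothOfRelativeDimension.smooth n p
  obtain ⟨ψ, hψ, -⟩ := S9371.result i j p (𝟙 X) (by rw [Category.id_comp, hij])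
  obtain ⟨φ, hφ⟩ := GrpOmega.exists_conormalDiff p i (Omega.sheaf p) (OmegaSh.dOmega p)
  obtain ⟨w, hS⟩ := S9711.result p i j hij (Omega.sheaf p) (OmegaSh.dOmega p) (OmegaUniv.isUniversal_dOmega p)
    ψ hψ φ hφ
  have h₁ : FlatMod.IsFinLocFreeOfRank c ((Scheme.Modules.pullback (𝟙 X)).obj (Omega.conormal j)) :=
    LineTwist.rank_pull _ hc
  have h₃ : FlatMod.IsFinLocFreeOfRank n ((Scheme.Modules.pullback i).obj (Omega.sheaf p)) :=
    LineTwist.rank_pull _ (KExact.DiagCodim.rank_omega p n)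
  refine ⟨KvbModel.rank_of_frameAt fun x => KvbModel.frameAt_ses hS (KvbModel.frameAt_of_rank h₁ x)
    (KvbModel.frameAt_of_rank h₃ x), ?_⟩
  obtain ⟨e⟩ := DetExt.det_mul hS h₁ h₃
  obtain ⟨e₁⟩ := ExtSh.nonempty_iso_L (KvbModel.lf_of_rank h₁)
    (Synt29.ExtPowPull.isExtPow_of_iso ((Scheme.Modules.pullbackId X).app (Omega.conormal j)).symm hDC)
  obtain ⟨e₃⟩ := ExtSh.nonempty_iso_L (KvbModel.lf_of_rank h₃)
    (Synt29.ExtPowPull.isExtPow_pullback i (OmegaUniv.isQCoh_omega p) hD)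
  refine PicMul.cl_eq_iff.1 ?_
  rw [← PicMul.cl_eq_iff.2 ⟨e⟩, PicMul.cl_tensor, PicMul.cl_tensor, PicMul.cl_eq_iff.2 ⟨e₁⟩, PicMul.cl_eq_iff.2 ⟨e₃⟩]

/-- Two factorisations with locally free conormal sheaves give the same canonical sheaf. -/
theorem iso_of_via {X Y Z₁ Z₂ : Scheme.{u}} [IsLocallyNoetherian Y] {f : X ⟶ Y}
    (i₁ : X ⟶ Z₁) (g₁ : Z₁ ⟶ Y) (i₂ : X ⟶ Z₂) (g₂ : Z₂ ⟶ Y)
    [IsImmersion i₁] [IsImmersion i₂] [QuasiCompact i₁] [QuasiCompact i₂] [QuasiSeparated g₁] [QuasiSeparated g₂]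
    (h₁ : i₁ ≫ g₁ = f) (h₂ : i₂ ≫ g₂ = f) (c₁ n₁ c₂ n₂ : ℕ)
    (hr₁ : FlatMod.IsFinLocFreeOfRank c₁ (Omega.conormal i₁)) (hg₁ : SmoothOfRelativeDimension n₁ g₁)
    (hr₂ : FlatMod.IsFinLocFreeOfRank c₂ (Omega.conormal i₂)) (hg₂ : SmoothOfRelativeDimension n₂ g₂)
    (ω₁ ω₂ : X.Modules) (hω₁ : Canon.IsCanonicalVia i₁ g₁ c₁ n₁ ω₁) (hω₂ : Canon.IsCanonicalVia i₂ g₂ c₂ n₂ ω₂) :
    Nonempty (ω₁ ≅ ω₂) := by
  rcases isEmpty_or_nonempty X with hE | hne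
  · haveI := hE
    have hz : ∀ M : X.Modules, IsZero M := fun M => by
      rw [IsZero.iff_id_eq_zero]
      refine QCoh.hom_eq_zero_of_affine (𝟙 M) fun V _ s => ?_
      exact AModX.eq_of_locally _ _ fun x _ => (IsEmpty.false x).elim
    exact ⟨(hz _).iso (hz _)⟩
  haveI := hg₁
  haveI := hg₂
  haveI : Smooth g₁ := SmoothOfRelativeDimension.smooth n₁ g₁
  haveI : Smooth g₂ := SmoothOfRelativeDimension.smooth n₂ g₂
  haveI : IsLocallyNoetherian Z₁ := LocallyOfFiniteType.isLocallyNoetherian g₁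
  haveI : IsLocallyNoetherian Z₂ := LocallyOfFiniteType.isLocallyNoetherian g₂
  obtain ⟨DC₁, DΩ₁, hDC₁, hDΩ₁, ⟨eω₁⟩⟩ := hω₁
  obtain ⟨DC₂, DΩ₂, hDC₂, hDΩ₂, ⟨eω₂⟩⟩ := hω₂
  let p₁ := pullback.fst g₁ g₂
  let p₂ := pullback.snd g₁ g₂
  haveI : SmoothOfRelativeDimension n₂ p₁ := haveI := smoothOfRelativeDimension_isStableUnderBaseChange n₂; MorphismProperty.pullback_fst _ _ hg₂
  haveI : SmoothOfRelativeDimension n₁ p₂ := haveI := smoothOfRelativeDimension_isStableUnderBaseChange n₁; MorphismProperty.pullback_snd _ _ hg₁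
  haveI : Smooth p₁ := SmoothOfRelativeDimension.smooth n₂ p₁
  haveI : IsLocallyNoetherian (pullback g₁ g₂) := LocallyOfFiniteType.isLocallyNoetherian p₁
  let i : X ⟶ pullback g₁ g₂ := pullback.lift i₁ i₂ (h₁.trans h₂.symm)
  have hip₁ : i ≫ p₁ = i₁ := pullback.lift_fst _ _ _
  have hip₂ : i ≫ p₂ = i₂ := pullback.lift_snd _ _ _
  haveI : IsImmersion (i ≫ p₁) := by rw [hip₁]; infer_instance
  haveI : IsImmersion i := IsImmersion.of_comp i p₁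
  haveI : QuasiCompact (i ≫ p₁) := by rw [hip₁]; infer_instance
  haveI : QuasiCompact i := QuasiCompact.of_comp i p₁
  have hΩ₂ := S15539.result Z₂ Y (pullback g₁ g₂) Z₁ g₂ p₁ p₂ g₁ (IsPullback.of_hasPullback g₁ g₂).flip n₂ DΩ₂ hDΩ₂
  have hΩ₁ := S15539.result Z₁ Y (pullback g₁ g₂) Z₂ g₁ p₂ p₁ g₂ (IsPullback.of_hasPullback g₁ g₂) n₁ DΩ₁ hDΩ₁
  obtain ⟨hR, ⟨a⟩⟩ := det_side p₁ i i₁ hip₁ hr₁ DC₁ hDC₁ _ hΩ₂
  obtain ⟨hR', ⟨b⟩⟩ := det_side p₂ i i₂ hip₂ hr₂ DC₂ hDC₂ _ hΩ₁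
  obtain ⟨x⟩ := hne
  have hn : c₁ + n₂ = c₂ + n₁ :=
    KvbModel.frameAt_unique (KvbModel.frameAt_of_rank hR x) (KvbModel.frameAt_of_rank hR' x)
  have hinv : ∀ {c : ℕ} {Z : Scheme.{u}} {j : X ⟶ Z} {D : X.Modules},
      FlatMod.IsFinLocFreeOfRank c (Omega.conormal j) → ExtPow.IsExtPow c (Omega.conormal j) D →
      IsUnit (PicF.cl D) := fun h hD => by
    obtain ⟨e⟩ := ExtSh.nonempty_iso_L (KvbModel.lf_of_rank h) hD
    exact PicMul.isUnit_cl (PicMul.isInvertible_of_iso e (PBCores.isInvertible_iff_rank.2 (PBCores.rank_top h)))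
  have hB₂ : PicF.cl ((Scheme.Modules.pullback i).obj ((Scheme.Modules.pullback p₂).obj DΩ₂)) =
      PicF.cl ω₂ * PicF.cl DC₂ := by
    rw [← PicMul.cl_tensor]
    exact PicMul.cl_eq_iff.2 ⟨(Scheme.Modules.pullbackComp _ _).app _ ≪≫
      (Scheme.Modules.pullbackCongr hip₂).app _ ≪≫ eω₂.symm⟩
  have hB₁ : PicF.cl ((Scheme.Modules.pullback i).obj ((Scheme.Modules.pullback p₁).obj DΩ₁)) =
      PicF.cl ω₁ * PicF.cl DC₁ := by
    rw [← PicMul.cl_tensor]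
    exact PicMul.cl_eq_iff.2 ⟨(Scheme.Modules.pullbackComp _ _).app _ ≪≫
      (Scheme.Modules.pullbackCongr hip₁).app _ ≪≫ eω₁.symm⟩
  refine PicMul.cl_eq_iff.1 (((hinv hr₁ hDC₁).mul (hinv hr₂ hDC₂)).mul_left_inj.1 ?_)
  calc PicF.cl ω₁ * (PicF.cl DC₁ * PicF.cl DC₂)
      = PicF.cl DC₂ * PicF.cl ((Scheme.Modules.pullback i).obj ((Scheme.Modules.pullback p₁).obj DΩ₁)) := by
        rw [hB₁]; ac_rfl
    _ = PicF.cl DC₁ * PicF.cl ((Scheme.Modules.pullback i).obj ((Scheme.Modules.pullback p₂).obj DΩ₂)) := by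
        rw [← PicMul.cl_tensor, ← PicMul.cl_tensor, PicMul.cl_eq_iff.2 ⟨a⟩, PicMul.cl_eq_iff.2 ⟨b⟩, hn]
    _ = PicF.cl ω₂ * (PicF.cl DC₁ * PicF.cl DC₂) := by
        rw [hB₂]; ac_rfl

end Groth.Agent.CanonVia
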