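import Groth.Agent.Lib.PnDualCoh
import Groth.Agent.QcqsColim.FTSub

/-!
Serre duality in top degree for quasi-coherent modules on projective space.
-/

set_option linter.style.haveILetI false
set_option linter.unusedSectionVars false
set_option backward.isDefEq.respectTransparency false
set_option maxHeartbeats 1000000

universe u

open CategoryTheory CategoryTheory.Limits AlgebraicGeometry TopologicalSpace Opposite Abelian
open Groth.Agent.QCoh Groth.Agent.QcqsColim

noncomputable section

namespace Groth.Agent.PnDual

variable {R : Type u} [CommRing R] {X : Scheme.{u}} [X.Over (Spec (CommRingCat.of R))]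

/-- The submodules of finite type, as modules. -/
def modDiagram (F : X.Modules) : FTIndex F ⥤ X.Modules where
  obj N := N.1.toModules
  map {a b} h := incl (leOfHom h)
  map_id a := rfl
  map_comp {a b c} h h' := rfl

/-- The map to the module. -/
def modCocone (F : X.Modules) : Cocone (modDiagram F) where
  pt := F
  ι :=
    { app := fun N => N.1.ι
      naturality := fun a b h => (incl_ι (leOfHom h)).trans (Category.comp_id _).symm }

/-- A quasi-coherent module is the colimit of its submodules of finite type. -/
theorem nonempty_isColimit_modCocone [CompactSpace X] [QuasiSeparatedSpace X] {F : X.Modules}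
    (hF : Coh.IsQCoh F) : Nonempty (IsColimit (modCocone F)) := by
  haveI := isIso_desc hF
  haveI : PreservesColimitsOfShape (FTIndex F) (KFlatLib.toAb X) := inferInstance
  haveI : ReflectsColimit (modDiagram F) (KFlatLib.toAb X) :=
    reflectsColimit_of_reflectsIsomorphisms _ _
  haveI : IsIso ((colimit.isColimit (ftDiagram F)).desc (ftCocone F)) :=
    inferInstanceAs (IsIso (colimit.desc (ftDiagram F) (ftCocone F)))
  exact ⟨isColimitOfReflects (KFlatLib.toAb X)
    (IsColimit.ofPointIso (r := colimit.cocone (ftDiagram F)) (t := ftCocone F) (colimit.isColimit (ftDiagram F)))⟩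

/-- Bijectivity of the duality map passes from submodules of finite type to the module. -/
theorem bijective_of_ftSub [CompactSpace X] [QuasiSeparatedSpace X] {ω : X.Modules} {q : ℕ}
    {t : Coh.HH X ω q →ₗ[R] R} {F : X.Modules} (hF : Coh.IsQCoh F)
    (h : ∀ N : SubMod F, FTOn N ⊤ → Function.Bijective (Canon.dualityMap R X q ω t N.toModules)) :
    Function.Bijective (Canon.dualityMap R X q ω t F) := by
  obtain ⟨hc⟩ := nonempty_isColimit_modCocone hF
  haveI := isIso_desc hF
  haveI : CompactSpace (TopCat.of X) := inferInstanceAs (CompactSpace X)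
  refine ⟨fun φ ψ e => hc.hom_ext fun N => (h N.1 N.2).1 (LinearMap.ext fun x => ?_), fun f => ?_⟩
  · show Canon.dualityMap R X q ω t N.1.toModules (N.1.ι ≫ φ) x =
      Canon.dualityMap R X q ω t N.1.toModules (N.1.ι ≫ ψ) x
    rw [dualityMap_comp, dualityMap_comp, e]
  · choose φ hφ using fun N : FTIndex F => (h N.1 N.2).2 (f ∘ₗ Canon.HHlin R N.1.ι q)
    have hnat : ∀ (a b : FTIndex F) (i : a ⟶ b), incl (leOfHom i) ≫ φ b = φ a := fun a b i =>
      (h a.1 a.2).1 (LinearMap.ext fun x => by
        rw [dualityMap_comp, hφ, hφ, LinearMap.comp_apply, LinearMap.comp_apply, HHlin_comp, incl_ι])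
    let c : Cocone (modDiagram F) :=
      { pt := ω, ι := { app := φ, naturality := fun a b i => (hnat a b i).trans (Category.comp_id _).symm } }
    refine ⟨hc.desc c, LinearMap.ext fun x => ?_⟩
    obtain ⟨N, y, hy⟩ := exists_stage (T := TopCat.of X) (ftDiagram F) q
      (x.comp (Ext.mk₀ (inv (colimit.desc (ftDiagram F) (ftCocone F)))) (add_zero q))
    have hx : Canon.HHlin R N.1.ι q y = x := by
      show y.comp (Ext.mk₀ ((QCoh.toAbFunctor X).map N.1.ι)) (add_zero q) = x
      have h1 : (QCoh.toAbFunctor X).map N.1.ι =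
          colimit.ι (ftDiagram F) N ≫ colimit.desc (ftDiagram F) (ftCocone F) :=
        (colimit.ι_desc (ftCocone F) N).symm
      rw [h1, ← Ext.mk₀_comp_mk₀, ← Ext.comp_assoc_of_second_deg_zero, hy,
        Ext.comp_assoc_of_second_deg_zero, Ext.mk₀_comp_mk₀, IsIso.inv_hom_id]
      exact Ext.comp_mk₀_id _
    rw [← hx, ← dualityMap_comp, show N.1.ι ≫ hc.desc c = φ N from hc.fac c N, hφ, LinearMap.comp_apply]

/-- Serre duality in top degree for quasi-coherent modules on projective space. -/
theorem bijective_dualityMap_qcoh {m : ℕ} [IsNoetherianRing R] {b : ℤ} (hb : b = -((m : ℤ) + 1))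
    (t : HTw m R b ≃ₗ[R] R) {F : (CohB1.ProjSpace m R).Modules} (hF : Coh.IsQCoh F) :
    Function.Bijective (Canon.dualityMap R (CohB1.ProjSpace m R) m
      (Twist.twistProjSpace m R b) t.toLinearMap F) := by
  haveI hN : IsNoetherian (CohB1.ProjSpace m R) :=
    (Proj16.isNoetherian_proj _ : IsNoetherian (Proj (CohB1.polyGrading m R)))
  exact bijective_of_ftSub hF fun N hN =>
    bijective_dualityMap_coh hb t ⟨isQCoh_of_ftOn hF hN, isFT_of_ftOn hF hN⟩

end Groth.Agent.PnDual
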