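import Groth.Agent.RelQR16.Scheme
import Groth.Agent.RegConormal.Free
import Groth.Agent.RegConormal.Basic
import Groth.Agent.H28.PBSect
import Groth.Agent.KRegLib.Kinds
import Groth.Prelude.Def_Canon

/-!
Conormal sheaves of base changes of relatively regular immersions of constant codimension.
-/

set_option autoImplicit false
set_option backward.isDefEq.respectTransparency false
set_option backward.isDefEq.respectTransparency.types false
set_option linter.style.haveILetI false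
set_option maxHeartbeats 1000000
universe u

open CategoryTheory CategoryTheory.Limits AlgebraicGeometry TopologicalSpace

namespace Groth.Agent.CanonBC

open Groth.Agent

theorem ker_stalk {Z P : Scheme.{u}} (i : Z ⟶ P) (z : Z) (U : P.affineOpens) (hzU : i z ∈ U.1)
    (hcl : IsClosedImmersion (i ∣_ U.1)) (rs : List Γ(P, U.1))
    (hker : RingHom.ker (i.app U.1).hom = Ideal.ofList rs) :
    RingHom.ker (i.stalkMap z).hom =
      Ideal.span (Set.range fun k => P.presheaf.germ U.1 (i z) hzU (rs.get k)) := by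
  obtain ⟨hV, hs⟩ := Groth.Agent.Synt29.surjective_app_of_isClosedImmersion_restrict i U.1 U.2
  let φ : Γ(P, U.1) →+* Γ(Z, i ⁻¹ᵁ U.1) := (i.app U.1).hom
  letI : Algebra Γ(P, U.1) (P.presheaf.stalk (i z)) := (P.presheaf.germ U.1 (i z) hzU).hom.toAlgebra
  letI : Algebra Γ(Z, i ⁻¹ᵁ U.1) (Z.presheaf.stalk z) := (Z.presheaf.germ (i ⁻¹ᵁ U.1) z hzU).hom.toAlgebra
  haveI hX : IsLocalization.AtPrime (P.presheaf.stalk (i z)) (U.2.primeIdealOf ⟨i z, hzU⟩).asIdeal :=
    U.2.isLocalization_stalk ⟨i z, hzU⟩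
  haveI hZ : IsLocalization.AtPrime (Z.presheaf.stalk z) (hV.primeIdealOf ⟨z, hzU⟩).asIdeal :=
    hV.isLocalization_stalk ⟨z, hzU⟩
  have hc := congrArg PrimeSpectrum.asIdeal
    (IsAffineOpen.comap_primeIdealOf_appLE (f := i) U.1 U.2 (i ⁻¹ᵁ U.1) hV le_rfl hzU)
  have he : (i.appLE U.1 (i ⁻¹ᵁ U.1) le_rfl).hom = φ := by simp only [φ, Scheme.Hom.app_eq_appLE]
  have hcomap : (U.2.primeIdealOf ⟨i z, hzU⟩).asIdeal = (hV.primeIdealOf ⟨z, hzU⟩).asIdeal.comap φ := by
    rw [← hc, PrimeSpectrum.comap_asIdeal, he]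
  let ψ : P.presheaf.stalk (i z) →+* Z.presheaf.stalk z := (i.stalkMap z).hom
  have hf : ∀ a : Γ(P, U.1), ψ (algebraMap _ _ a) = algebraMap _ _ (φ a) := fun a =>
    Scheme.Hom.germ_stalkMap_apply i U.1 z hzU a
  have hM : Submonoid.map φ (U.2.primeIdealOf ⟨i z, hzU⟩).asIdeal.primeCompl =
      (hV.primeIdealOf ⟨z, hzU⟩).asIdeal.primeCompl := by
    ext b
    constructor
    · rintro ⟨a, ha, rfl⟩ hb
      exact ha (by rw [hcomap]; exact hb)
    · intro hb
      obtain ⟨a, rfl⟩ := hs b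
      exact ⟨a, fun h => hb (by rw [hcomap] at h; exact h), rfl⟩
  have hfm : ψ = IsLocalization.map (Z.presheaf.stalk z) φ
      (show (U.2.primeIdealOf ⟨i z, hzU⟩).asIdeal.primeCompl ≤
        (hV.primeIdealOf ⟨z, hzU⟩).asIdeal.primeCompl.comap φ from
        Submonoid.map_le_iff_le_comap.1 hM.le) := by
    refine IsLocalization.ringHom_ext (U.2.primeIdealOf ⟨i z, hzU⟩).asIdeal.primeCompl (RingHom.ext fun a => ?_)
    rw [RingHom.comp_apply, RingHom.comp_apply, hf, IsLocalization.map_eq]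
  have hker' : RingHom.ker ψ = (RingHom.ker φ).map (algebraMap Γ(P, U.1) (P.presheaf.stalk (i z))) := by
    rw [hfm]
    exact IsLocalization.ker_map (Z.presheaf.stalk z) φ hM
  show RingHom.ker ψ = _
  rw [hker', show RingHom.ker φ = Ideal.ofList rs from hker,
    show Ideal.ofList rs = Ideal.span (Set.range rs.get) from congrArg Ideal.span (Set.range_list_get rs).symm,
    Ideal.map_span, ← Set.range_comp]
  rfl

/-- An `H_1`-regular immersion of codimension `d` has conormal sheaf locally free of rank `d`. -/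
theorem rank_conormal {Z P : Scheme.{u}} (i : Z ⟶ P) [IsImmersion i] [QuasiCompact i] (d : ℕ)
    (hi : RegImm.IsRegularImmersionOfCodim .h1 d i) :
    FlatMod.IsFinLocFreeOfRank d (Omega.conormal i) := fun z => by
  obtain ⟨⟨U, hU⟩, hzU, hcl, rs, rfl, h1, hker⟩ := hi.2 z
  obtain ⟨g, hg⟩ := RegConormal.exists_freeIso_conormal i ⟨U, hU⟩ hcl rs hker fun y hy a ha l => by
    letI : Algebra Γ(P, U) (P.presheaf.stalk (i y)) := (P.presheaf.germ U (i y) hy).hom.toAlgebra
    haveI : IsLocalization.AtPrime (P.presheaf.stalk (i y)) (hU.primeIdealOf ⟨i y, hy⟩).asIdeal :=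
      hU.isLocalization_stalk ⟨i y, hy⟩
    have hf := RegConormal.isH1Regular_localization (B := P.presheaf.stalk (i y))
      (hU.primeIdealOf ⟨i y, hy⟩).asIdeal.primeCompl rs.get h1
    rw [ker_stalk i y ⟨U, hU⟩ hy hcl rs hker] at ha ⊢
    exact RegConormal.coeff_mem_of_h1 _ hf a ha l
  exact ⟨i ⁻¹ᵁ U, hzU, ⟨(asIso g).symm ≪≫ QCoh.freeModRestrict _ _⟩⟩

theorem exists_chart {Z X S : Scheme.{u}} (f : X ⟶ S) (i : Z ⟶ X) {c : ℕ}
    (hi : RegImm.IsRegularImmersionOfCodim .regular c i) (hflat : Flat (i ≫ f)) (z : Z) :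
    ∃ (V : S.Opens) (_ : IsAffineOpen V) (U : X.Opens) (_ : IsAffineOpen U) (e : U ≤ f ⁻¹ᵁ V) (rs : List Γ(X, U)),
      rs.length = c ∧ i z ∈ U ∧ IsClosedImmersion (i ∣_ U) ∧ RelQR16.SeqQ .h1 rs.get ∧
      RingHom.ker (i.app U).hom = Ideal.ofList rs ∧
      ((Ideal.Quotient.mk (Ideal.ofList rs)).comp (f.appLE V U e).hom).Flat := by
  obtain ⟨⟨U₀, hU₀⟩, hzU, hci, rs, hlen, hrs, hker⟩ := hi.2 z
  obtain ⟨V, hV, hzV, -⟩ := exists_isAffineOpen_mem_and_subset (X := S) (x := f (i z)) (U := ⊤) trivial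
  obtain ⟨r, hr, hzr⟩ := hU₀.exists_basicOpen_le (V := f ⁻¹ᵁ V) ⟨i z, hzV⟩ hzU
  haveI : IsClosedImmersion (i ∣_ X.basicOpen r) := RelQR16.restrict_of_le i (X.basicOpen_le r)
  letI := (X.presheaf.map (homOfLE (X.basicOpen_le r)).op).hom.toAlgebra
  haveI : IsLocalization.Away r Γ(X, X.basicOpen r) := hU₀.isLocalization_basicOpen r
  haveI : Module.Flat Γ(X, U₀) Γ(X, X.basicOpen r) := IsLocalization.flat _ (Submonoid.powers r)
  have hker' : RingHom.ker (i.app (X.basicOpen r)).hom =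
      Ideal.ofList (rs.map (algebraMap Γ(X, U₀) Γ(X, X.basicOpen r))) := by
    rw [RelQR16.ker_basicOpen i hU₀ r, hker, ← Ideal.map_ofList]
    rfl
  refine ⟨V, hV, X.basicOpen r, hU₀.basicOpen r, hr, rs.map (algebraMap Γ(X, U₀) Γ(X, X.basicOpen r)), (by rw [List.length_map, hlen]), hzr, ‹_›,
    (RelQR16.seqQ_map_iff _ rs).2 (RelQR16.seqQ_flat (RelQR16.seqQ_of_seq (Or.inl rfl) rs (KRegLib.seq_of_isRegular .h1 rs hrs))), hker', ?_⟩
  have h := RelQR16.flat_quot_chart f i hflat (hU₀.basicOpen r) hV hr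
  rwa [hker'] at h

/-- Base change of a regular immersion of codimension `c` with source flat over the base. -/
theorem baseChange {Z X S S' T : Scheme.{u}} (f : X ⟶ S) (i : Z ⟶ X) {c : ℕ}
    (hi : RegImm.IsRegularImmersionOfCodim .regular c i) (hflat : Flat (i ≫ f)) (g : S' ⟶ S)
    (p : T ⟶ Z) (j : T ⟶ pullback f g) (hsq : IsPullback p j i (pullback.fst f g)) :
    RegImm.IsRegularImmersionOfCodim .h1 c j := by
  refine ⟨MorphismProperty.of_isPullback (P := @IsImmersion) hsq hi.1, fun z' => ?_⟩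
  obtain ⟨V, hV, U, hU, e, rs, hlen, hzU, hci, hseq, hker, hfl⟩ :=
    exists_chart f i hi hflat (p z')
  have hx1 : pullback.fst f g (j z') ∈ U := by
    rw [show pullback.fst f g (j z') = i (p z') from
      (congrArg (fun φ : T ⟶ X => φ z') hsq.w).symm]
    exact hzU
  obtain ⟨V', hV', hxV', hV'le⟩ := exists_isAffineOpen_mem_and_subset (X := S')
    (x := pullback.snd f g (j z')) (U := g ⁻¹ᵁ V) (by
      show g (pullback.snd f g _) ∈ V
      rw [← Scheme.Hom.comp_apply, ← pullback.condition, Scheme.Hom.comp_apply]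
      exact e hx1)
  replace hV'le : V' ≤ g ⁻¹ᵁ V := hV'le
  let W := pullback.fst f g ⁻¹ᵁ U ⊓ pullback.snd f g ⁻¹ᵁ V'
  haveI := isIso_pushoutSection_of_isAffineOpen (IsPullback.of_hasPullback f g) hV'le e (UY := W) rfl hV hV' hU
  have hW : IsAffineOpen W := by
    have : IsAffine _ := hV
    have : IsAffine _ := hV'
    have : IsAffine _ := hU
    exact .of_isIso (Scheme.Hom.isPullback_resLE (IsPullback.of_hasPullback f g) hV'le e (UY := W) rfl).isoPullback.hom
  have sqR := (isIso_pushoutSection_iff (IsPullback.of_hasPullback f g) hV'le e (UY := W) rfl).1 ‹_›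
  letI : Algebra Γ(S, V) Γ(X, U) := (f.appLE V U e).hom.toAlgebra
  letI : Algebra Γ(S, V) Γ(S', V') := (g.appLE V V' hV'le).hom.toAlgebra
  letI : Algebra Γ(X, U) Γ(pullback f g, W) := ((pullback.fst f g).appLE U W inf_le_left).hom.toAlgebra
  letI : Algebra Γ(S', V') Γ(pullback f g, W) := ((pullback.snd f g).appLE V' W inf_le_right).hom.toAlgebra
  letI : Algebra Γ(S, V) Γ(pullback f g, W) :=
    (f.appLE V U e ≫ (pullback.fst f g).appLE U W inf_le_left).hom.toAlgebra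
  haveI : IsScalarTower Γ(S, V) Γ(X, U) Γ(pullback f g, W) := IsScalarTower.of_algebraMap_eq fun _ => rfl
  haveI : IsScalarTower Γ(S, V) Γ(S', V') Γ(pullback f g, W) := IsScalarTower.of_algebraMap_eq fun r =>
    congrArg (fun k => k.hom r) sqR.w
  haveI : Algebra.IsPushout Γ(S, V) Γ(S', V') Γ(X, U) Γ(pullback f g, W) :=
    CommRingCat.isPushout_iff_isPushout.1 sqR.flip
  haveI : Module.Flat Γ(S, V) (Γ(X, U) ⧸ Ideal.span (Set.range rs.get)) := by
    rw [RelQR16.span_range_get]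
    exact RingHom.flat_algebraMap_iff.1 hfl
  have hWle : W ≤ pullback.fst f g ⁻¹ᵁ U := inf_le_left
  obtain ⟨hUY, hUs⟩ := RelQR16.surjective_app i U hU
  have hUY' : j ⁻¹ᵁ W =
      p ⁻¹ᵁ (i ⁻¹ᵁ U) ⊓ j ⁻¹ᵁ W := by
    refine (inf_eq_right.2 fun y hy => ?_).symm
    show i (p y) ∈ U
    rw [show i (p y) = pullback.fst f g (j y) from
      congrArg (fun φ : T ⟶ X => φ y) hsq.w]
    exact hWle hy
  have hpo := (isIso_pushoutSection_iff hsq hWle le_rfl hUY').1
    (isIso_pushoutSection_of_isAffineOpen hsq hWle le_rfl hUY' hU hW hUY)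
  have hs : Function.Surjective (i.appLE U (i ⁻¹ᵁ U) le_rfl) := by
    rw [← Scheme.Hom.app_eq_appLE]
    exact hUs
  have hk' := RelQR16.ker_of_isPushout hpo hs
  rw [← Scheme.Hom.app_eq_appLE, ← Scheme.Hom.app_eq_appLE] at hk'
  refine ⟨⟨W, hW⟩, ⟨hx1, hxV'⟩, ?_, rs.map (algebraMap Γ(X, U) Γ(pullback f g, W)), (by rw [List.length_map, hlen]),
    RelQR16.seq_of_seqQ _ ((RelQR16.seqQ_map_iff _ rs).2 (RelQR16.seqQ_pushout Γ(S, V) Γ(X, U) Γ(S', V') Γ(pullback f g, W) hseq)), ?_⟩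
  · have h2 := Scheme.Hom.isPullback_resLE hsq hWle le_rfl hUY'
    have h3 : IsClosedImmersion (i.resLE U (i ⁻¹ᵁ U) le_rfl) := by
      rw [Scheme.Hom.resLE_eq_morphismRestrict]
      exact hci
    rw [← Scheme.Hom.resLE_eq_morphismRestrict]
    exact MorphismProperty.of_isPullback (P := @IsClosedImmersion) h2 h3
  · rw [← Ideal.map_ofList]
    exact hk'.trans (by rw [hker]; rfl)

end Groth.Agent.CanonBC
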