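import Groth.Agent.Lib.DegPullFinite
import Groth.Agent.GenusLe.Birat
import Groth.Agent.Snapper.IsoOn

/-!
Degrees do not change under birational pullback.
-/

set_option autoImplicit false
set_option linter.style.haveILetI false
set_option linter.unusedSectionVars false
set_option backward.isDefEq.respectTransparency false
set_option backward.isDefEq.respectTransparency.types false
set_option maxHeartbeats 800000

universe u

open CategoryTheory CategoryTheory.Limits AlgebraicGeometry TopologicalSpace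

noncomputable section

namespace Groth.Agent.DegBirat

variable {X : Scheme.{u}}

/-- A map bijective on the sections over the opens inside `U` is an isomorphism on the stalks there. -/
theorem isoOn_of_bijective {U : X.Opens} {A B : X.Modules} (φ : A ⟶ B)
    (h : ∀ W : X.Opens, W ≤ U → Function.Bijective (φ.app W)) : Snapper.IsoOn U φ := fun x hx => by
  have key : Function.Bijective ((DerSch.stalkFunctor X x).map φ) := by
    constructor
    · intro a b hab
      obtain ⟨V, hxV, s, rfl⟩ := TopCat.Presheaf.exists_germ_eq A.presheaf a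
      obtain ⟨V', hxV', t, rfl⟩ := TopCat.Presheaf.exists_germ_eq A.presheaf b
      have h1 : B.presheaf.germ V x hxV (φ.app V s) = B.presheaf.germ V' x hxV' (φ.app V' t) :=
        (TopCat.Presheaf.stalkFunctor_map_germ_apply V x hxV ((Scheme.Modules.toPresheaf X).map φ) s).symm.trans
          (hab.trans (TopCat.Presheaf.stalkFunctor_map_germ_apply V' x hxV'
            ((Scheme.Modules.toPresheaf X).map φ) t))
      obtain ⟨W, hxW, i, j, hW⟩ := B.presheaf.germ_eq (U := V) (V := V') x hxV hxV' _ _ h1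
      let W' : X.Opens := W ⊓ U
      refine A.presheaf.germ_ext W' ⟨hxW, hx⟩ (homOfLE (inf_le_left.trans i.le)) (homOfLE (inf_le_left.trans j.le)) ?_
      refine (h W' inf_le_right).1 ?_
      have h2 := congrArg (AModX.res B (inf_le_left : W' ≤ W)) hW
      refine (AModX.app_res φ _ s).trans (Eq.trans ?_ (AModX.app_res φ _ t).symm)
      refine Eq.trans ?_ (h2.trans (AModX.res_res _ _ _))
      exact (AModX.res_res _ _ _).symm
    · intro b
      obtain ⟨V, hxV, t, rfl⟩ := TopCat.Presheaf.exists_germ_eq B.presheaf b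
      obtain ⟨s, hs⟩ := (h (V ⊓ U) inf_le_right).2 (AModX.res B inf_le_left t)
      refine ⟨A.presheaf.germ (V ⊓ U) x ⟨hxV, hx⟩ s, ?_⟩
      refine (TopCat.Presheaf.stalkFunctor_map_germ_apply (V ⊓ U) x ⟨hxV, hx⟩
        ((Scheme.Modules.toPresheaf X).map φ) s).trans ?_
      exact (congrArg (B.presheaf.germ (V ⊓ U) x ⟨hxV, hx⟩) hs).trans (InvX.germ_res' _ _ t)
  exact (ConcreteCategory.isIso_iff_bijective _).2 key

variable {Y : Scheme.{u}}

theorem isoOn_unit (f : Y ⟶ X) (U : X.Opens) [IsIso (f ∣_ U)] : Snapper.IsoOn U (ClSub.unitToPush f) := by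
  refine isoOn_of_bijective _ fun W hW => ?_
  obtain ⟨W', rfl⟩ : ∃ W' : U.toScheme.Opens, U.ι ''ᵁ W' = W := ⟨U.ι ⁻¹ᵁ W, by
    rw [U.ι.image_preimage_eq_opensRange_inf, Scheme.Opens.opensRange_ι, inf_eq_right.2 hW]⟩
  have h1 : IsIso ((f ∣_ U).app W') := inferInstance
  rw [morphismRestrict_app] at h1
  haveI : IsIso (f.app (U.ι ''ᵁ W')) := IsIso.of_isIso_comp_right _ (Y.presheaf.map (eqToHom (image_morphismRestrict_preimage f U W')).op)
  exact ConcreteCategory.bijective_of_isIso (f.app (U.ι ''ᵁ W'))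

variable (k : Type u) [Field k] [X.Over (Spec (CommRingCat.of k))] [IsProper (X ↘ Spec (CommRingCat.of k))]

/-- A map which is an isomorphism away from finitely many closed points. -/
theorem euler_tensor_of_map {E : X.Modules} {n : ℕ} (hE : FlatMod.IsFinLocFreeOfRank n E) {A B : X.Modules}
    (hA : Coh.IsCoh A) (hB : Coh.IsCoh B) (φ : A ⟶ B)
    (hk : ∀ x ∈ CohB1.support (kernel φ), IsClosed ({x} : Set X))
    (hc : ∀ x ∈ CohB1.support (cokernel φ), IsClosed ({x} : Set X)) :
    Curv2.euler k X ((DCoh.tensorBi.obj E).obj B) - n * Curv2.euler k X B =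
      Curv2.euler k X ((DCoh.tensorBi.obj E).obj A) - n * Curv2.euler k X A := by
  haveI := CurveCohLib.isNoetherian_of_proper (k := k) (X := X)
  have hEf : FlatMod.IsFinLocFree E := fun y => let ⟨W, hy, he⟩ := hE y; ⟨W, n, hy, he⟩
  let Φ : X.Modules → ℤ := fun M => Curv2.euler k X ((DCoh.tensorBi.obj E).obj M) - n * Curv2.euler k X M
  have hadd : ∀ {S : ShortComplex X.Modules}, S.ShortExact → Coh.IsCoh S.X₁ → Coh.IsCoh S.X₂ → Coh.IsCoh S.X₃ →
      Φ S.X₂ = Φ S.X₁ + Φ S.X₃ := fun {S} hS a b c => by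
    have e1 := CurveCohLib.euler_additive (k := k) hS a b c
    have e2 := CurveCohLib.euler_additive (k := k) (CurveTensor.shortExact_tensor hEf S.f S.g S.zero hS)
      (CurveTensor.isCoh_tensor hEf a) (CurveTensor.isCoh_tensor hEf b) (CurveTensor.isCoh_tensor hEf c)
    dsimp only [Φ] at e2 ⊢
    rw [e1, e2]
    ring
  have hK := QCoh.isCoh_kernel hA hB φ
  have hC := QCoh.isCoh_cokernel hA.1 hB φ
  have hI : Coh.IsCoh (Abelian.image φ) :=
    QCoh.isCoh_of_epi (Abelian.factorThruImage φ) hA (QCoh.isQCoh_kernel hB.1 hC.1 _)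
  have h1 := hadd (S := ShortComplex.mk (kernel.ι φ) (Abelian.factorThruImage φ)
      ((cancel_mono (Abelian.image.ι φ)).1 (by rw [Category.assoc, Abelian.image.fac, kernel.condition, zero_comp])))
    { exact := ShortComplex.exact_of_f_is_kernel _ (KernelFork.IsLimit.ofι' _ _ fun {T} t ht =>
        ⟨kernel.lift φ t (by rw [← Abelian.image.fac φ, reassoc_of% ht, zero_comp]), kernel.lift_ι _ _ _⟩)
      mono_f := inferInstance
      epi_g := inferInstance } hK hA hI
  have h2 := hadd (S := ShortComplex.mk (Abelian.image.ι φ) (cokernel.π φ) (kernel.condition _))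
    { exact := ShortComplex.exact_of_f_is_kernel _ (kernelIsKernel (cokernel.π φ))
      mono_f := inferInstance
      epi_g := inferInstance } hI hB hC
  have z1 : Φ (kernel φ) = 0 := sub_eq_zero.2 (CurveTensor.euler_tensor_torsion k hE hK hk)
  have z2 : Φ (cokernel φ) = 0 := sub_eq_zero.2 (CurveTensor.euler_tensor_torsion k hE hC hc)
  dsimp only at h1 h2
  show Φ B = Φ A
  linarith

variable [Y.Over (Spec (CommRingCat.of k))] [IsProper (Y ↘ Spec (CommRingCat.of k))]

theorem deg_pullback (hdim : topologicalKrullDim X ≤ 1) (f : Y ⟶ X)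
    (hf : f ≫ (X ↘ Spec (CommRingCat.of k)) = Y ↘ Spec (CommRingCat.of k))
    (U : X.Opens) (hU : Dense (U : Set X)) (hU' : Dense ((f ⁻¹ᵁ U : Y.Opens) : Set Y)) [IsIso (f ∣_ U)]
    {n : ℕ} {E : X.Modules} (hE : FlatMod.IsFinLocFreeOfRank n E) :
    Curv2.deg k Y ((Scheme.Modules.pullback f).obj E) n = Curv2.deg k X E n := by
  haveI := CurveCohLib.isNoetherian_of_proper (k := k) (X := X)
  haveI := CurveCohLib.isNoetherian_of_proper (k := k) (X := Y)
  haveI : IsProper (f ≫ (X ↘ Spec (CommRingCat.of k))) := hf ▸ inferInstance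
  haveI : IsProper f := IsProper.of_comp f (X ↘ Spec (CommRingCat.of k))
  haveI := GenusLe.isFinite_of_dense k hdim f hf U hU hU'
  have he : ∀ M : Y.Modules, Coh.IsQCoh M →
      Curv2.euler k Y M = Curv2.euler k X ((Scheme.Modules.pushforward f).obj M) := fun M hM =>
    finsum_congr fun i => by
      obtain ⟨e⟩ := PnCoh.exists_linearEquiv_push k f hf hM i
      rw [e.finrank_eq]
  have hEf : FlatMod.IsFinLocFree E := fun y => let ⟨W, hy, he⟩ := hE y; ⟨W, n, hy, he⟩
  obtain ⟨ψ₀⟩ := S0927.result f (Coh.structureModule Y) E hEf 0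
  let ψ := (Scheme.Modules.pushforward f).rightDerivedZeroIsoSelf
  let a : (DCoh.tensorBi.obj E).obj ((Scheme.Modules.pushforward f).obj (Coh.structureModule Y)) ≅
      (Scheme.Modules.pushforward f).obj ((Scheme.Modules.pullback f).obj E) :=
    (DCoh.tensorBi.obj E).mapIso (ψ.app (Coh.structureModule Y)).symm ≪≫ ψ₀ ≪≫ ψ.app _ ≪≫
      (Scheme.Modules.pushforward f).mapIso (KFlatLib.tensorUnitIso ((Scheme.Modules.pullback f).obj E))
  have hc : Coh.IsCoh ((Scheme.Modules.pushforward f).obj (Coh.structureModule Y)) :=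
    QCoh.isCoh_pushforward_finite f QCoh.isCoh_structureModule'
  have hpull : Coh.IsQCoh ((Scheme.Modules.pullback f).obj E) :=
    QCoh.isQCoh_pullback f (QCoh.isQCoh_of_isFinLocFree hEf)
  have hs := Snapper.support_subset_compl (isoOn_unit f U)
  have key := euler_tensor_of_map k hE QCoh.isCoh_structureModule' hc (ClSub.unitToPush f)
    (fun x hx => GenusLe.isClosed_of_notMem_dense hdim hU (hs.1 hx))
    (fun x hx => GenusLe.isClosed_of_notMem_dense hdim hU (hs.2 hx))
  rw [CurveCohLib.euler_congr a, ← he _ hpull, ← he _ QCoh.isQCoh_structureModule,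
    CurveCohLib.euler_congr (k := k) (CurveTensor.commIso E (Coh.structureModule X) ≪≫ CurveTensor.structureTensorIso E)] at key
  exact key

end Groth.Agent.DegBirat
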