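import Groth.Agent.Lib.TopInt
import Groth.Agent.Nakai.Section
import Groth.Agent.H23.PeriodicRat
import Groth.Agent.Lib.CurveAmple

/-!
Positivity of the intersection form on an effective class and powers of an ample class.
-/

set_option autoImplicit false
set_option linter.style.haveILetI false
set_option linter.unusedSectionVars false
set_option backward.isDefEq.respectTransparency false
set_option backward.isDefEq.respectTransparency.types false
set_option maxHeartbeats 1000000

universe u

open CategoryTheory CategoryTheory.Limits AlgebraicGeometry TopologicalSpace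
open Groth.Agent.H23 Groth.Agent.H23.PicMul Groth.Agent.H23.TrivBasic
open Groth.Agent.H23.IntNumCycle (alt)

noncomputable section

namespace Groth.Agent.TopInt

attribute [local instance] PicMul.clMonoid

variable {X : Scheme.{u}} (k : Type u) [Field k] [X.Over (Spec (CommRingCat.of k))]
  [IsProper (X ↘ Spec (CommRingCat.of k))]

/-- Positivity of an ample class on a closure. -/
theorem alt_closure_pos {ξ : X} {r : ℕ} (hξ : SnapLead.δ k ξ = (r : ℤ)) {L : X.Modules} (hL : CohB1.IsAmple L) :
    0 < (-1 : ℤ) ^ r * alt k r (fun _ => L) (Cyc.closureStructureSheaf ξ) := by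
  haveI := CurveCohLib.isNoetherian_of_proper (k := k) (X := X)
  have hsupp : topologicalKrullDim ((IntMult.ptIdeal ξ).support : Set X) = r := by
    rw [IntMult.ptIdeal, Scheme.IdealSheafData.coe_support_vanishingIdeal]
    exact (IntAlt.delta_eq_iff k _ r).2 hξ
  haveI : IsIntegral (IntMult.ptIdeal ξ).subscheme := QCoh.isIntegral_closure_point ξ
  have hcl : Cyc.CohLe (SnapLead.δ k) r (ClSub.quotMod (IntMult.ptIdeal ξ)) :=
    SnapLead.cohLe_of_dim k (ParShLib.isCoh_quotMod _) ((IntCoeff.dim_support_quotMod_le _).trans hsupp.le)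
  have hlt : topologicalKrullDim ↥(CohB1.support (ClSub.quotMod (IntMult.ptIdeal ξ))) <
      ((r + 1 : ℕ) : WithBot ℕ∞) :=
    SnapLead.dim_support_lt k (d := r + 1) (by simpa using hcl)
  obtain ⟨Q, hQd, hQn⟩ := Snapper.isMPolyLt_of_dim_lt k (L := fun _ : Fin r => L) (fun _ => hL.1) (r + 1)
    ⟨_, QCoh.isClosed_support_of_isFT hcl.1.1 hcl.1.2⟩ hlt _ hcl.1 subset_rfl
  have h1 := Nakai.coeff_pos hL (IntMult.ptIdeal ξ) r hsupp Q hQn
  have e1 := IntAlt.coeff_closure k hξ (fun _ => hL.1) Q hQn
  have h2 : (0 : ℚ) < (((-1 : ℤ) ^ r * alt k r (fun _ => L) (Cyc.closureStructureSheaf ξ) : ℤ) : ℚ) := by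
    rw [← e1]
    exact h1
  exact_mod_cast h2

/-- A point outside the locus of a section carries the cokernel. -/
theorem mem_support_cokernel {L : X.Modules} (hL : PicF.IsInvertible L) (s : Γ(L, ⊤)) {x : X}
    (hx : x ∉ locus s) : x ∈ CohB1.support (cokernel (InvX.ofSect s)) := by
  intro hsub
  obtain ⟨U, hxU, e, he⟩ := InvX.exists_frame hL x
  obtain ⟨g, hg⟩ := he.exists_coord le_rfl (AModX.res L (le_top : U ≤ ⊤) s)
  rw [AModX.res_self] at hg
  let f := InvX.ofSect s
  let S := ShortComplex.mk f (cokernel.π f) (cokernel.condition f)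
  have hS : S.Exact := ShortComplex.exact_of_g_is_cokernel _ (cokernelIsCokernel f)
  have hex := (ShortComplex.moduleCat_exact_iff _).1 (hS.map (DerSch.stalkFunctor X x))
  haveI : Subsingleton ((cokernel f).presheaf.stalk x) := hsub
  obtain ⟨b, hb⟩ := hex (L.presheaf.germ U x hxU e)
    (Subsingleton.elim (α := ((cokernel f).presheaf.stalk x)) _ _)
  obtain ⟨W, hxW, r, rfl⟩ := TopCat.Presheaf.exists_germ_eq (Coh.structureModule X).presheaf (x := x) b
  let V := W ⊓ U
  have hxV : x ∈ V := ⟨hxW, hxU⟩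
  have h1 : LocFinCoprod.stk f x ((Coh.structureModule X).presheaf.germ W x hxW r) = L.presheaf.germ U x hxU e := hb
  rw [LocFinCoprod.stk_germ, InvX.app_eq_smul, InvX.one_ofSect, ← InvX.germ_res' (inf_le_left : V ≤ W) hxV,
    AModX.res_smul, AModX.res_res, ← AModX.res_res (le_top : U ≤ ⊤) (inf_le_right : V ≤ U), hg, AModX.res_smul,
    smul_smul, QCoh.germ_smul', InvX.germ_res' (inf_le_right : V ≤ U)] at h1
  have h2 := (he.germ_bijective hxU).1 (h1.trans (one_smul _ _).symm)
  have h3 : IsUnit (X.presheaf.germ V x hxV (AModX.resR (inf_le_right : V ≤ U) g)) :=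
    IsUnit.of_mul_eq_one_right _ (by rw [← map_mul]; exact h2)
  rw [InvX.germ_resR'] at h3
  exact hx ((locus_eq_basicOpen he hg).ge ((Scheme.mem_basicOpen _ _ _ hxU).2 h3)).1

theorem form_cons_pow {r : ℕ} (hg : topologicalKrullDim X ≤ (r + 1 : ℕ)) (a : inv X) (n : ℕ) (c : Fin r → inv X) :
    form k (r + 1) (Fin.cons (a ^ n) c) = n * form k (r + 1) (Fin.cons a c) := by
  let φ : Additive (inv X) →+ ℤ :=
    AddMonoidHom.mk' (fun y => form k (r + 1) (Fin.cons y.toMul c)) fun x y => form_cons_mul k hg x.toMul y.toMul c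
  exact ((map_nsmul φ n (Additive.ofMul a)).trans (nsmul_eq_mul _ _))

/-- An effective class which is not trivial is positive against powers of an ample class. -/
theorem form_cons_pos [IsIntegral X] {r : ℕ} (hg : topologicalKrullDim X = (r + 1 : ℕ)) {L : X.Modules}
    (hL : CohB1.IsAmple L) (c : inv X) {Lc : X.Modules}
    (hc : PicF.cl Lc = ((c : (PicF.Cl X)ˣ) : PicF.Cl X)) (hLc : PicF.IsInvertible Lc) {t : Γ(Lc, ⊤)} (ht : t ≠ 0)
    (hv : ∃ x, x ∉ locus t) : 0 < form k (r + 1) (Fin.cons c fun _ => mk hL.1) := by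
  classical
  haveI := CurveCohLib.isNoetherian_of_proper (k := k) (X := X)
  let f := InvX.ofSect t
  haveI := CurveAmple.mono_ofSect hLc ht
  let S := ShortComplex.mk f (cokernel.π f) (cokernel.condition f)
  have hS : S.ShortExact := .mk' (ShortComplex.exact_of_g_is_cokernel _ (cokernelIsCokernel f)) inferInstance inferInstance
  have hOc : Coh.IsCoh (Coh.structureModule X) := QCoh.isCoh_structureModule'
  have hLcc := AmpleVan.isCoh_invertible hLc
  have hQc : Coh.IsCoh (cokernel f) := QCoh.isCoh_cokernel hOc.1 hLcc f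
  have hgen : genericPoint X ∈ locus t := by
    obtain ⟨z, hz⟩ := (Opens.ne_bot_iff_nonempty _).1 (locus_ne_bot hLc ht)
    exact (genericPoint_specializes z).mem_open (locus t).isOpen hz
  have hQ : Cyc.CohLe (SnapLead.δ k) r (cokernel f) := by
    refine ⟨hQc, fun x hx => ?_⟩
    have hxl : x ∉ locus t := CurveAmple.support_cokernel_subset t (not_subsingleton_iff_nontrivial.2 hx)
    have h := (SnapLead.isDimFun k (genericPoint X) x (genericPoint_specializes x) (fun e => hxl (e ▸ hgen))).1
    rw [delta_generic k hg] at h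
    push_cast at h
    omega
  obtain ⟨η, hη, hηd⟩ := Nakai.exists_divisor_component (X ↘ Spec (CommRingCat.of k)) hLc ht hv
  have hηr : SnapLead.δ k η = (r : ℤ) := by
    refine (IntAlt.delta_eq_iff k η r).1 ?_
    have h1 := VarDim.topologicalKrullDim_eq_deg_genericPoint (X ↘ Spec (CommRingCat.of k))
    rw [hg] at h1
    have h2 : VarDim.deg (X ↘ Spec (CommRingCat.of k)) (genericPoint X) = r + 1 := by exact_mod_cast h1.symm
    rw [VarDim.topologicalKrullDim_closure_singleton (X ↘ Spec (CommRingCat.of k)),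
      show VarDim.deg (X ↘ Spec (CommRingCat.of k)) η = r by omega]
    rfl
  have hne : Cyc.sheafFun (SnapLead.δ k) r (cokernel f) η ≠ 0 :=
    (PeriodicRat.nontrivial_iff_sheafFun (SnapLead.isDimFun k) hQ).2
      ⟨hηr, not_subsingleton_iff_nontrivial.1 (mem_support_cokernel hLc t hη)⟩
  let M : Fin r → X.Modules := fun _ => L
  have hM : ∀ i, PicF.IsInvertible (M i) := fun _ => hL.1
  have hfin := IntAlt.finite_sheafFun k hQ
  have hpos : 0 < (-1 : ℤ) ^ r * alt k r M (cokernel f) := by
    have hs : ∀ ξ ∈ hfin.toFinset, SnapLead.δ k ξ = (r : ℤ) := fun ξ hξ =>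
      (CycleClassK.nontrivial_of_sheafFun (hfin.mem_toFinset.1 hξ)).1
    rw [IntAlt.alt_eq_sum_closure k hM hQ hfin.toFinset hs fun ξ h => hfin.mem_toFinset.2 h, Finset.mul_sum]
    refine Finset.sum_pos (fun ξ hξ => ?_) ⟨η, hfin.mem_toFinset.2 hne⟩
    rw [← mul_left_comm]
    exact mul_pos ((CycleClassK.sheafFun_nonneg _ _ _ _).lt_of_ne (hfin.mem_toFinset.1 hξ).symm)
      (alt_closure_pos k (hs ξ hξ) hL)
  have hadd := IntNumCycle.alt_add k r M hM hS hOc hLcc hQc
  have hOL : alt k r M (CohB1.tensorMod (Coh.structureModule X) Lc) = alt k r M Lc := by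
    rw [IntAlt.alt_eq_sum, IntAlt.alt_eq_sum, cl_tensor, ← PicMul.one_def, one_mul]
  rw [form_eq k _ (L := Fin.cons Lc M) (fun i => by
      induction i using Fin.cases with
      | zero => simpa using hc
      | succ j => simp [M, val_mk]), IntAlt.alt_succ]
  simp only [Fin.cons_zero, Fin.cons_succ]
  rw [hOL, hadd, pow_succ]
  linarith

end Groth.Agent.TopInt
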