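import Groth.Agent.Lib.CurveSpecial
/-!
Tensoring commutes with multiplication by global functions.
-/

set_option linter.style.haveILetI false
set_option backward.isDefEq.respectTransparency false
set_option backward.isDefEq.respectTransparency.types false
universe u
open CategoryTheory CategoryTheory.Limits AlgebraicGeometry TopologicalSpace Opposite MonoidalCategory

namespace Groth.Agent.CurveLinear

variable {X : Scheme.{u}}

theorem shP_map_eq_smul (P : CohB1.PMod X) (r : Coh.Γtop X) (h : P ⟶ P)
    (hh : ∀ (U : (X.Opens)ᵒᵖ) (s : P.obj U), h.app U s = KFlatLib.sm (Coh.resTop X U r) s) :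
    DCoh.shP.map h = Formal.smulModΓ (DCoh.shP.obj P) r := by
  refine ((PresheafOfModules.sheafificationAdjunction (𝟙 X.ringCatSheaf.obj)).homEquiv _ _).injective ?_
  rw [Adjunction.homEquiv_unit, Adjunction.homEquiv_unit]
  refine ((KFlatLib.unitShP_naturality h).symm.trans ?_)
  refine PresheafOfModules.hom_ext fun U => ?_
  ext s
  show (KFlatLib.unitShP P).app U (h.app U s) = _
  rw [hh, KFlatLib.app_sm]
  rfl

theorem tensor_map_smul (L T : X.Modules) (r : Coh.Γtop X) :
    (DCoh.tensorBi.obj L).map (Formal.smulModΓ T r) =
      Formal.smulModΓ ((DCoh.tensorBi.obj L).obj T) r := by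
  refine shP_map_eq_smul (DCoh.toP.obj L ⊗ DCoh.toP.obj T) r _ fun U s => ?_
  induction s using TensorProduct.induction_on with
  | zero => exact (map_zero _).trans (smul_zero _).symm
  | tmul a b => exact (KFlatLib.tm_smul (P := DCoh.toP.obj L) (Q := DCoh.toP.obj T) _ a b).symm
  | add a b ha hb => exact (map_add _ a b).trans ((congrArg₂ (· + ·) ha hb).trans (smul_add _ a b).symm)

end Groth.Agent.CurveLinear
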