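import Groth.Agent.Lib.PnDualPairing
import Groth.Agent.S0844
import Groth.Agent.S0845
import Groth.Agent.QCoh.Ab.LerayNat
import Groth.Prelude.Def_Canon

/-!
Serre duality on projective space for twisting sheaves.
-/

set_option linter.style.haveILetI false
set_option linter.unusedSectionVars false
set_option synthInstance.maxHeartbeats 400000
set_option maxHeartbeats 1600000

universe u

open CategoryTheory CategoryTheory.Limits AlgebraicGeometry MvPolynomial Opposite TopologicalSpace
open Groth.Agent.QCoh.Ab Groth.Agent.PnCoh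

noncomputable section

namespace Groth.Agent.PnDual

attribute [local instance] MvPolynomial.gradedAlgebra

variable {m : ℕ} {R : Type u} [CommRing R]

/-- Cohomology of a twisting sheaf. -/
abbrev HTw (m : ℕ) (R : Type u) [CommRing R] (d : ℤ) : Type u :=
  Coh.HH (CohB1.ProjSpace m R) (Twist.twistProjSpace m R d) m

/-- Functoriality. -/
def hMap {a b : ℤ} (φ : Twist.twistProjSpace m R a ⟶ Twist.twistProjSpace m R b) :
    HTw m R a →ₗ[R] HTw m R b :=
  Canon.HHlin R φ m

/-- The coefficient of `x^a`. -/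
def coeffAt (k : ℕ) (a : Fin (m + 1) →₀ ℕ) : homogeneousSubmodule (Fin (m + 1)) R k →ₗ[R] R :=
  (MvPolynomial.lcoeff R a).comp (homogeneousSubmodule (Fin (m + 1)) R k).subtype

/-- The comparison with polynomials and the pairing formula. -/
theorem exists_equiv (k : ℕ) :
    ∃ (E : HTw m R (deg m k) ≃ₗ[R] homogeneousSubmodule (Fin (m + 1)) R k)
      (t : HTw m R (deg m 0) ≃+ R) (_ : ∀ (r : R) x, t (r • x) = r * t x),
      ∀ (φ : Twist.twistProjSpace m R (deg m k) ⟶ Twist.twistProjSpace m R (deg m 0)) (x),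
        t (hMap φ x) =
          ∑ a ∈ expSet m k, (symb (ι := Fin (m + 1)) φ).coeff (castExpo (Fin (m + 1)) a) * coeffAt k a (E x) := by
  obtain ⟨e, he⟩ := Groth.Agent.QCoh.Ab.exists_natural_equiv (X := (PS (Fin (m + 1)) R).toPresheafedSpace.carrier)
    (U := stdU (Fin (m + 1)) R) iSup_stdU (QCoh.stdCovers_sectionClass isAffineOpen_tuple)
    (fun I hI _ _ _ V _ => @Groth.Agent.QCoh.Ab.acyclic_of_injective _ I hI _ V) m
  obtain ⟨ek, hek⟩ := exists_homology_equiv (R := R) (m := m) (k := k)
  obtain ⟨e0, he0⟩ := exists_homology_equiv (R := R) (m := m) (k := 0)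
  have hq : ∀ j : ℕ, (QCoh.stdCovers (PS (Fin (m + 1)) R)).Acyclic
      (QCoh.abSheaf (Twist.twist (homogeneousSubmodule (Fin (m + 1)) R) (deg m j))) := fun j =>
    QCoh.stdCovers_acyclic (isQCoh_twist_mvPolynomial (Fin (m + 1)) R (deg m j))
  have hsmul : ∀ (j : ℕ) (ej : ((topK R m j).homology m : AddCommGrpCat.{u}) ≃+
        homogeneousSubmodule (Fin (m + 1)) R j)
      (_ : ∀ x, ej ((topK R m j).homologyπ m x) = botHom x) (r : R) (x : HTw m R (deg m j)),
      ej ((e _ (hq j)).symm (r • x)) = r • ej ((e _ (hq j)).symm x) := fun j ej hj r x => by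
    rw [← homology_equiv_smul ej hj r ((e _ (hq j)).symm x)]
    refine congrArg ej ((e _ (hq j)).symm_apply_eq.2 ?_)
    refine Eq.trans ?_ (he _ _ (hq j) (hq j)
      (Coh.smulAb (Twist.twist (homogeneousSubmodule (Fin (m + 1)) R) (deg m j))
        (constTop (Fin (m + 1)) r)) ((e _ (hq j)).symm x)).symm
    exact congrArg _ ((e _ (hq j)).apply_symm_apply x).symm
  let E : HTw m R (deg m k) ≃ₗ[R] homogeneousSubmodule (Fin (m + 1)) R k :=
    { (e _ (hq k)).symm.trans ek with map_smul' := fun r x => hsmul k ek hek r x }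
  let c0 : homogeneousSubmodule (Fin (m + 1)) R 0 ≃+ R :=
    AddEquiv.ofBijective (coeffAt (R := R) 0 0).toAddMonoidHom
      ⟨fun p q h => Subtype.ext (MvPolynomial.ext _ _ fun b => by
        by_cases hb : b = 0
        · subst hb; exact h
        · have hd : b.degree ≠ 0 := fun h0 => hb ((Finsupp.degree_eq_zero_iff b).1 h0)
          rw [IsHomogeneous.coeff_eq_zero p.2 hd, IsHomogeneous.coeff_eq_zero q.2 hd]),
      fun r => ⟨⟨C r, isHomogeneous_C _ r⟩, coeff_zero_C r⟩⟩
  refine ⟨E, ((e _ (hq 0)).symm.trans e0).trans c0, fun r x => ?_, fun φ x => ?_⟩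
  · show coeffAt 0 0 (e0 ((e _ (hq 0)).symm (r • x))) = r * coeffAt 0 0 (e0 ((e _ (hq 0)).symm x))
    rw [hsmul 0 e0 he0 r x, map_smul, smul_eq_mul]
  · show coeffAt 0 0 (e0 ((e _ (hq 0)).symm (hMap φ x))) = _
    have h1 : (e _ (hq 0)).symm (hMap φ x) =
        HomologicalComplex.homologyMap (natCxMap _ (presHom (m := m) (R := R) φ)) m
          ((e _ (hq k)).symm x) := by
      refine (e _ (hq 0)).symm_apply_eq.2 ?_
      refine Eq.trans ?_ (he _ _ (hq k) (hq 0)
        ((SheafOfModules.toSheaf (PS (Fin (m + 1)) R).ringCatSheaf).map φ) _).symm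
      exact congrArg _ ((e _ (hq k)).apply_symm_apply x).symm
    rw [h1]
    exact homology_pairing φ ek hek e0 he0 _

/-- Bijectivity of the duality map for a nonnegative degree. -/
theorem bijective_dualityMap_nat (k : ℕ) (t : HTw m R (deg m 0) ≃ₗ[R] R) :
    Function.Bijective (Canon.dualityMap R (CohB1.ProjSpace m R) m
      (Twist.twistProjSpace m R (deg m 0)) t.toLinearMap (Twist.twistProjSpace m R (deg m k))) := by
  classical
  obtain ⟨E, t', ht', hP⟩ := exists_equiv (m := m) (R := R) k
  let mon : (a : Fin (m + 1) →₀ ℕ) → a ∈ expSet m k → homogeneousSubmodule (Fin (m + 1)) R k :=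
    fun a ha => ⟨monomial a 1, isHomogeneous_monomial _ ((mem_expSet a).1 ha)⟩
  have hval : ∀ (φ : Twist.twistProjSpace m R (deg m k) ⟶ Twist.twistProjSpace m R (deg m 0))
      (a : Fin (m + 1) →₀ ℕ) (ha : a ∈ expSet m k),
      t' (hMap φ (E.symm (mon a ha))) = (symb (ι := Fin (m + 1)) φ).coeff (castExpo (Fin (m + 1)) a) :=
    fun φ a ha => by
      rw [hP, E.apply_symm_apply, Finset.sum_eq_single a]
      · show _ * coeff a (monomial a (1 : R)) = _
        rw [coeff_monomial, if_pos rfl, mul_one]
      · intro b _ hb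
        show _ * coeff b (monomial a (1 : R)) = _
        rw [coeff_monomial, if_neg (Ne.symm hb), mul_zero]
      · exact fun h => absurd ha h
  refine ⟨fun φ ψ h => ?_, fun f => ?_⟩
  · refine symb_injective (ι := Fin (m + 1)) ?_
    rw [symb_eq_sum φ, symb_eq_sum ψ]
    refine Finset.sum_congr rfl fun a ha => ?_
    rw [← hval φ a ha, ← hval ψ a ha]
    exact congrArg (fun z => AddMonoidAlgebra.single _ (t' z))
      (t.injective (LinearMap.congr_fun h (E.symm (mon a ha))))
  · let c : (Fin (m + 1) →₀ ℕ) → R := fun a =>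
      if ha : a ∈ expSet m k then t' (t.symm (f (E.symm (mon a ha)))) else 0
    let p : MvPolynomial (Fin (m + 1)) R := ∑ a ∈ expSet m k, monomial a (c a)
    have hp : p ∈ homogeneousSubmodule (Fin (m + 1)) R k :=
      Submodule.sum_mem _ fun a ha => isHomogeneous_monomial _ ((mem_expSet a).1 ha)
    have hdeg : deg m 0 = deg m k + (k : ℤ) := by simp only [deg]; omega
    let φ : Twist.twistProjSpace m R (deg m k) ⟶ Twist.twistProjSpace m R (deg m 0) := mulHom hp hdeg
    refine ⟨φ, LinearMap.ext fun x => ?_⟩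
    have hs : ∀ a ∈ expSet m k, (symb (ι := Fin (m + 1)) φ).coeff (castExpo (Fin (m + 1)) a) = c a := by
      intro a ha
      rw [symb_mulHom hp hdeg, map_sum, AddMonoidAlgebra.coeff_sum, Finsupp.finsetSum_apply,
        Finset.sum_eq_single a]
      · rw [toLaur_monomial, AddMonoidAlgebra.coeff_single, Finsupp.single_eq_same]
      · intro b _ hb
        rw [toLaur_monomial, AddMonoidAlgebra.coeff_single, Finsupp.single_eq_of_ne]
        exact fun e => hb (castExpo_injective e.symm)
      · exact fun h => absurd ha h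
    -- the two functionals agree after composing with `t.symm` and `t'`
    have hlin : ∀ y : homogeneousSubmodule (Fin (m + 1)) R k,
        t' (t.symm (f (E.symm y))) = ∑ a ∈ expSet m k, c a * coeffAt k a y := by
      let T : homogeneousSubmodule (Fin (m + 1)) R k →ₗ[R] R :=
        { toFun := fun y => t' (t.symm (f (E.symm y)))
          map_add' := fun y z => by rw [map_add, map_add, map_add, map_add]
          map_smul' := fun r y => by
            rw [map_smul, map_smul, map_smul, ht', RingHom.id_apply, smul_eq_mul] }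
      intro y
      have hy : y = ∑ a ∈ (expSet m k).attach, coeffAt k a.1 y • mon a.1 a.2 := by
        refine Subtype.ext (MvPolynomial.ext _ _ fun b => ?_)
        rw [AddSubmonoidClass.coe_finsetSum, coeff_sum]
        by_cases hb : b ∈ expSet m k
        · rw [Finset.sum_eq_single ⟨b, hb⟩]
          · rw [Submodule.coe_smul, coeff_smul, coeff_monomial, if_pos rfl, smul_eq_mul, mul_one]
            rfl
          · intro a _ ha
            rw [Submodule.coe_smul, coeff_smul, coeff_monomial,
              if_neg (fun e => ha (Subtype.ext e)), smul_zero]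
          · exact fun h => absurd (Finset.mem_attach _ _) h
        · rw [IsHomogeneous.coeff_eq_zero y.2 (fun h => hb ((mem_expSet b).2 h)),
            Finset.sum_eq_zero fun a _ => ?_]
          rw [Submodule.coe_smul, coeff_smul, coeff_monomial,
            if_neg (fun e => hb (by rw [← e]; exact a.2)), smul_zero]
      show T y = _
      conv_lhs => rw [hy]
      rw [map_sum, ← Finset.sum_attach (expSet m k) (fun a => c a * coeffAt k a y)]
      refine Finset.sum_congr rfl fun a _ => ?_
      rw [map_smul, smul_eq_mul, mul_comm]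
      refine congrArg (· * _) ?_
      show t' (t.symm (f (E.symm (mon a.1 a.2)))) = c a.1
      simp only [c, dif_pos a.2]
    refine t.symm.injective (t'.injective ?_)
    show t' (t.symm (t (hMap φ x))) = t' (t.symm (f x))
    rw [t.symm_apply_apply, hP, ← E.symm_apply_apply x, hlin, E.symm_apply_apply]
    exact Finset.sum_congr rfl fun a ha => by rw [hs a ha]

/-- On the projective space of dimension zero, twisting sheaves are isomorphic. -/
theorem isIso_mulHom_zero {e : ℕ} {a b : ℤ} (h : b = a + (e : ℤ)) :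
    IsIso (mulHom (𝒜 := homogeneousSubmodule (Fin 1) R) (a := (X 0 : MvPolynomial (Fin 1) R) ^ e)
      (by simpa using (isHomogeneous_X R (0 : Fin 1)).pow e) h) := by
  have hp : ((X 0 : MvPolynomial (Fin 1) R) ^ e) ∈ homogeneousSubmodule (Fin 1) R e := by
    simpa using (isHomogeneous_X R (0 : Fin 1)).pow e
  let φ : O' (Fin 1) R a ⟶ O' (Fin 1) R b := mulHom hp h
  show IsIso φ
  let g : Fin 1 →₀ ℕ := Finsupp.single 0 1
  have hg : g ≠ 0 := single_one_ne_zero _
  have hsy : symb φ = AddMonoidAlgebra.single (Finsupp.single (0 : Fin 1) (e : ℤ)) 1 := by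
    rw [symb_mulHom hp h, map_pow, X, toLaur_monomial, AddMonoidAlgebra.single_pow, one_pow]
    congr 1
    ext
    simp [castExpo_apply]
  have hu : IsUnit (symb φ) := by
    rw [hsy]; exact IsUnit.of_mul_eq_one_right _ (single_neg_mul_single _ _)
  have hinj : Function.Injective (φ.app (mOpen R g)) := fun s s' hs => by
    refine secM_injective a g hg (hu.mul_left_cancel ?_)
    rw [← secM_app, ← secM_app, hs]
  have hsurj : Function.Surjective (φ.app (mOpen R g)) := fun y => by
    have hsupp : AddMonoidAlgebra.single (Finsupp.single (0 : Fin 1) (-(e : ℤ))) (1 : R) * secM b g hg y ∈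
        AddMonoidAlgebra.supported R R (suppD a (g.support : Set (Fin 1))) := by
      refine single_mul_mem_supported (fun x hx => ?_) (secTw_mem b g hg y)
      have hmem : (0 : Fin 1) ∈ g.support := by simp [g]
      have := single_add_mem_suppD hmem (-(e : ℤ)) b hx
      rwa [show -(e : ℤ) + b = a by omega] at this
    obtain ⟨s, hs⟩ := exists_secTw_eq a g hg hsupp
    refine ⟨s, secM_injective b g hg ?_⟩
    refine (secM_app φ g hg s).trans ?_
    rw [hsy]
    refine (congrArg (_ * ·) hs).trans ?_
    rw [← mul_assoc, mul_comm (AddMonoidAlgebra.single _ _), single_neg_mul_single, one_mul]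
  let f' : ULift.{u} (Fin 1) → MvPolynomial (Fin 1) R := fun j => X j.down
  have hf' : ∀ j, f' j ∈ homogeneousSubmodule (Fin 1) R 1 := fun j => mem_homogeneous_X j.down
  have hD : ∀ j : ULift.{u} (Fin 1), Finite.D (homogeneousSubmodule (Fin 1) R) (f' j) = mOpen R g := by
    intro j
    obtain ⟨j⟩ := j
    obtain rfl : j = 0 := Subsingleton.elim _ _
    rfl
  haveI : Epi φ := ⟨fun {Z} p q hpq => by
    refine Finite.eq_of_app_eq_cover (f := f') (isQCoh_O' b) hf' iSup_D_X p q fun j y => ?_
    revert y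
    rw [hD j]
    intro y
    obtain ⟨s, rfl⟩ := hsurj y
    exact congrArg (fun χ : O' (Fin 1) R a ⟶ Z => χ.app (mOpen R g) s) hpq⟩
  haveI : Mono φ := by
    refine Preadditive.mono_of_kernel_zero ?_
    refine Finite.eq_of_app_eq_cover (f := f') (QCoh.isQCoh_kernel (isQCoh_O' a) (isQCoh_O' b) φ) hf'
      iSup_D_X (kernel.ι φ) 0 fun j y => ?_
    revert y
    rw [hD j]
    intro y
    refine hinj ?_
    refine (congrArg (fun χ : kernel φ ⟶ O' (Fin 1) R b => χ.app (mOpen R g) y)
      (kernel.condition φ)).trans ?_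
    exact (map_zero (φ.app (mOpen R g)).hom).symm
  exact isIso_of_mono_of_epi φ

theorem HHlin_comp {X : Scheme.{u}} [X.Over (Spec (CommRingCat.of R))] {F G K : X.Modules}
    (φ : F ⟶ G) (ψ : G ⟶ K) (q : ℕ) (x : Coh.HH X F q) :
    Canon.HHlin R ψ q (Canon.HHlin R φ q x) = Canon.HHlin R (φ ≫ ψ) q x :=
  Finite.map_map (Y := X.toPresheafedSpace.carrier)
    ((SheafOfModules.toSheaf X.ringCatSheaf).map_comp φ ψ).symm q x

theorem HHlin_id {X : Scheme.{u}} [X.Over (Spec (CommRingCat.of R))] (F : X.Modules) (q : ℕ)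
    (x : Coh.HH X F q) : Canon.HHlin R (𝟙 F) q x = x := by
  show Sheaf.H.map ((SheafOfModules.toSheaf X.ringCatSheaf).map (𝟙 F)) q x = x
  erw [CategoryTheory.Functor.map_id]
  exact Sheaf.H.map_id_apply x

/-- The duality map commutes with isomorphisms of the first argument. -/
theorem bijective_dualityMap_of_iso {X : Scheme.{u}} [X.Over (Spec (CommRingCat.of R))] {F F' ω : X.Modules}
    (e : F ≅ F') (q : ℕ) (t : Coh.HH X ω q →ₗ[R] R)
    (h : Function.Bijective (Canon.dualityMap R X q ω t F)) :
    Function.Bijective (Canon.dualityMap R X q ω t F') := by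
  have hinv : ∀ y, Canon.HHlin R e.hom q (Canon.HHlin R e.inv q y) = y := fun y => by
    rw [HHlin_comp, e.inv_hom_id, HHlin_id]
  have key : ∀ (φ : F' ⟶ ω) y, Canon.dualityMap R X q ω t F' φ y =
      Canon.dualityMap R X q ω t F (e.hom ≫ φ) (Canon.HHlin R e.inv q y) := fun φ y => by
    show t (Canon.HHlin R φ q y) = t (Canon.HHlin R (e.hom ≫ φ) q (Canon.HHlin R e.inv q y))
    rw [HHlin_comp, e.inv_hom_id_assoc]
  refine ⟨fun φ ψ hφψ => ?_, fun f => ?_⟩
  · refine (cancel_epi e.hom).1 (h.1 (LinearMap.ext fun x => ?_))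
    have hx : Canon.HHlin R e.inv q (Canon.HHlin R e.hom q x) = x := by
      rw [HHlin_comp, e.hom_inv_id, HHlin_id]
    rw [← hx, ← key, ← key, hφψ]
  · obtain ⟨φ, hφ⟩ := h.2 (f ∘ₗ Canon.HHlin R e.hom q)
    refine ⟨e.inv ≫ φ, LinearMap.ext fun y => ?_⟩
    rw [key, e.hom_inv_id_assoc, hφ, LinearMap.comp_apply, hinv]

/-- Serre duality for all twisting sheaves. -/
theorem bijective_dualityMap_twist (t : HTw m R (deg m 0) ≃ₗ[R] R) (d : ℤ) :
    Function.Bijective (Canon.dualityMap R (CohB1.ProjSpace m R) m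
      (Twist.twistProjSpace m R (deg m 0)) t.toLinearMap (Twist.twistProjSpace m R d)) := by
  by_cases hd : d ≤ deg m 0
  · obtain ⟨k, rfl⟩ : ∃ k : ℕ, d = deg m k :=
      ⟨(deg m 0 - d).toNat, by simp only [deg] at hd ⊢; omega⟩
    exact bijective_dualityMap_nat k t
  rcases Nat.eq_zero_or_pos m with rfl | hm
  · obtain ⟨e, he⟩ : ∃ e : ℕ, d = deg 0 0 + (e : ℤ) := ⟨(d - deg 0 0).toNat, by omega⟩
    let φ : Twist.twistProjSpace 0 R (deg 0 0) ⟶ Twist.twistProjSpace 0 R d :=
      mulHom (𝒜 := homogeneousSubmodule (Fin 1) R)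
        (a := (X 0 : MvPolynomial (Fin 1) R) ^ e) (by simpa using (isHomogeneous_X R (0 : Fin 1)).pow e) he
    haveI : IsIso φ := isIso_mulHom_zero he
    exact bijective_dualityMap_of_iso (asIso φ) 0 t.toLinearMap (bijective_dualityMap_nat 0 t)
  · haveI : Subsingleton (Coh.HH (CohB1.ProjSpace m R) (Twist.twistProjSpace m R d) m) :=
      S0844.result R m d m (fun h => by omega) (fun h => hd (by simp only [deg]; omega))
    have hzero : ∀ φ : Twist.twistProjSpace m R d ⟶ Twist.twistProjSpace m R (deg m 0),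
        symb (ι := Fin (m + 1)) φ = 0 := by
      intro φ
      ext e
      by_contra he
      have h1 := symb_nonneg (ι := Fin (m + 1)) φ
        (Or.inl (by rw [Fintype.card_fin]; omega)) e he
      have h2 := (symb_supp (ι := Fin (m + 1)) φ e he).1
      rw [Finsupp.sum_fintype _ _ (fun _ => rfl)] at h2
      have h3 : 0 ≤ ∑ j, e j := Finset.sum_nonneg fun j _ => h1 j
      omega
    exact ⟨fun φ ψ _ => symb_injective (ι := Fin (m + 1)) ((hzero φ).trans (hzero ψ).symm),
      fun f => ⟨0, LinearMap.ext fun x => by rw [Subsingleton.elim x 0, map_zero, map_zero]⟩⟩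

/-- The trace. -/
theorem exists_trace : Nonempty (HTw m R (deg m 0) ≃ₗ[R] R) := by
  obtain ⟨-, t, ht, -⟩ := exists_equiv (m := m) (R := R) 0
  exact ⟨{ t with map_smul' := fun r x => ht r x }⟩

/-- Serre duality for twisting sheaves, with any index. -/
theorem bijective_dualityMap_twist' {b : ℤ} (hb : b = -((m : ℤ) + 1)) (t : HTw m R b ≃ₗ[R] R) (d : ℤ) :
    Function.Bijective (Canon.dualityMap R (CohB1.ProjSpace m R) m
      (Twist.twistProjSpace m R b) t.toLinearMap (Twist.twistProjSpace m R d)) := by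
  obtain rfl : b = deg m 0 := by simp only [deg]; omega
  exact bijective_dualityMap_twist t d

/-- The trace, with any index. -/
theorem exists_trace' {b : ℤ} (hb : b = -((m : ℤ) + 1)) : Nonempty (HTw m R b ≃ₗ[R] R) := by
  obtain rfl : b = deg m 0 := by simp only [deg]; omega
  exact exists_trace

end Groth.Agent.PnDual
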