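import Groth.Agent.Lib.RegDescentBase
import Groth.Agent.Lib.RegEpiPn
import Groth.Agent.Lib.PnDualTwist
import Groth.Agent.PnCoh.Finite.SerreVanishing

/-!
Vanishing of the cohomology of a module on projective space whose quotient by a twist is regular.
-/

set_option linter.style.haveILetI false
set_option linter.unusedSectionVars false
set_option backward.isDefEq.respectTransparency false
set_option backward.isDefEq.respectTransparency.types false
set_option maxHeartbeats 1000000

universe u

open CategoryTheory CategoryTheory.Limits AlgebraicGeometry TopologicalSpace Opposite MonoidalCategory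
open CategoryTheory.Abelian
open Groth.Agent.PnCoh Groth.Agent.PnCoh.Finite Groth.Agent.KFlatLib

noncomputable section

namespace Groth.Agent.RegDescent

variable {k : Type u} [Field k] {n : ℕ} [(Proj (CohB1.polyGrading n k)).Over (Spec (CommRingCat.of k))]

open Groth.Agent.RegEpi Groth.Agent.ProjRegular

/-- Serre vanishing on projective space. -/
theorem exists_vanishing_twF {F : (Proj (CohB1.polyGrading n k)).Modules} (hF : Coh.IsCoh F)
    (i : ℕ) (hi : 0 < i) :
    ∃ d₀ : ℤ, ∀ d, d₀ ≤ d → Subsingleton (Coh.HH (Proj (CohB1.polyGrading n k)) ((twF d).obj F) i) := by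
  refine exists_vanishing coords_mem coords_cover coords_noetherian (n + 1) ?_ ?_ F
    (good_of_isCoh coords_mem hF) i hi
  · intro M hM j hj
    exact QCoh.HH_subsingleton_of_cover (X := Proj (CohB1.polyGrading n k)) (n + 1)
      (fun j => D (CohB1.polyGrading n k) (coords k n (ULift.up j)))
      (fun j => isAffineOpen_D coords_mem _)
      (top_le_iff.1 (coords_cover.ge.trans (iSup_le fun j => le_iSup_of_le j.down le_rfl)))
      (fun V W hV hW => IsAffineOpen.inf hV hW) hM j (by omega)
  · exact fun j hj => ⟨-(n : ℤ), fun d hd => S0844.result k n d j (fun h => by omega) (fun h => by omega)⟩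

theorem arith_step {a b c : ℕ} {t : ℕ} (hb : b ≤ c - t) (ha : a < b) : a ≤ c - (t + 1) := by omega

theorem arith_zero {a b c : ℕ} {t : ℕ} (hb : b ≤ c - t) (ha : a ≤ b) (h0 : b = 0) : a ≤ c - (t + 1) := by omega

theorem arith_final {a b : ℕ} {t j m : ℤ} (h : (a : ℤ) ≤ (b : ℤ)) (ht : t = j - (m - 1)) (hj : m - 1 + (b : ℤ) ≤ j) :
    (b : ℤ) ≤ t := by omega

theorem arith_vanish {a b t : ℕ} (h : a ≤ b - t) (hb : b ≤ t) : a = 0 := by omega

/-- The first step of the regularity descent: a short exact sequence `F(-1) → F → G` with `G` regular. -/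
structure Setup (F G : (Proj (CohB1.polyGrading n k)).Modules) (m : ℤ) where
  ι : (twF (-1)).obj F ⟶ F
  π : F ⟶ G
  w : ι ≫ π = 0
  exact : (ShortComplex.mk ι π w).ShortExact
  cohF : Coh.IsCoh F
  cohG : Coh.IsCoh G
  reg : Curv2.IsMRegular k n G m
  finH1 : ∀ j : ℤ, Module.Finite k (Coh.HH (Proj (CohB1.polyGrading n k)) ((twF j).obj F) 1)

variable {F G : (Proj (CohB1.polyGrading n k)).Modules} {m : ℤ} (T : Setup F G m)

/-- The twisted sequence. -/
def seq (j : ℤ) : ShortComplex (Proj (CohB1.polyGrading n k)).Modules :=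
  twSeq (ShortComplex.mk T.ι T.π T.w) j

theorem seq_exact (j : ℤ) : (seq T j).ShortExact :=
  twSeq_exact (coords k n) coords_mem coords_cover T.exact j

theorem seq_X₁ (j : ℤ) : Nonempty ((seq T j).X₁ ≅ (twF (j - 1)).obj F) :=
  twF_twF_iso F (-1) j (j - 1) (by ring)

include T in
/-- Vanishing for the quotient. -/
theorem subsingleton_G (j : ℤ) (q : ℕ) (hq : 1 ≤ q) (hj : m - q ≤ j) :
    Subsingleton (Coh.HH (Proj (CohB1.polyGrading n k)) ((twF j).obj G) q) := by
  rcases le_or_gt q n with hqn | hqn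
  · obtain ⟨e, he⟩ : ∃ e : ℕ, (e : ℤ) = j + q - m := ⟨(j + q - m).toNat, Int.toNat_of_nonneg (by omega)⟩
    have h := isMRegular_add T.cohG T.reg e q hq hqn
    rwa [show m + (e : ℤ) - (q : ℤ) = j by omega] at h
  · exact ProjRegular.subsingleton_HH_high (k := k) (n := n) T.cohG j q hqn

include T in
/-- Higher cohomology vanishes. -/
theorem subsingleton_high (i : ℕ) (hi : 2 ≤ i) (j : ℤ) (hj : m - i ≤ j) :
    Subsingleton (Coh.HH (Proj (CohB1.polyGrading n k)) ((twF j).obj F) i) := by
  obtain ⟨q, rfl⟩ : ∃ q, i = q + 1 := ⟨i - 1, by omega⟩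
  obtain ⟨d₀, hd₀⟩ := exists_vanishing_twF (k := k) T.cohF (q + 1) (by omega)
  have hstep : ∀ (t : ℕ) (j : ℤ), m - (q + 1 : ℕ) ≤ j → d₀ ≤ j + t →
      Subsingleton (Coh.HH (Proj (CohB1.polyGrading n k)) ((twF j).obj F) (q + 1)) := by
    intro t
    induction t with
    | zero => intro j _ h; exact hd₀ j (by simpa using h)
    | succ t ih =>
      intro j hj h
      have h₂ : Subsingleton (Coh.HH (Proj (CohB1.polyGrading n k)) (seq T (j + 1)).X₂ (q + 1)) :=
        ih (j + 1) (by omega) (by push_cast at h; omega)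
      have hinj := HHlin_f_succ_injective (k := k) (seq_exact T (j + 1)) q
        (subsingleton_G T (j + 1) q (by omega) (by omega))
      haveI := h₂
      obtain ⟨e⟩ := seq_X₁ T (j + 1)
      have h₁ : Subsingleton (Coh.HH (Proj (CohB1.polyGrading n k)) ((twF (j + 1 - 1)).obj F) (q + 1)) :=
        QCoh.subsingleton_HH_of_iso e (q + 1) hinj.subsingleton
      rwa [show j + 1 - 1 = j by ring] at h₁
  exact hstep (d₀ - j).toNat j hj (by omega)

/-- The dimension of the first cohomology group of a twist. -/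
def h1 (F : (Proj (CohB1.polyGrading n k)).Modules) (j : ℤ) : ℕ :=
  Module.finrank k (Coh.HH (Proj (CohB1.polyGrading n k)) ((twF j).obj F) 1)


include T in
theorem finrank_seq_X₁ (j : ℤ) :
    Module.finrank k (Coh.HH (Proj (CohB1.polyGrading n k)) (seq T j).X₁ 1) = h1 (k := k) F (j - 1) := by
  obtain ⟨e⟩ := seq_X₁ T j
  exact (HHequiv (k := k) e 1).finrank_eq

include T in
theorem f_one_surjective (j : ℤ) (hj : m - 1 ≤ j) :
    Function.Surjective (Canon.HHlin k (seq T j).f 1) :=
  HHlin_f_surjective (k := k) (seq_exact T j) 1 (subsingleton_G T j 1 le_rfl (by omega))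

include T in
theorem finite_seq_X₁ (j : ℤ) :
    Module.Finite k (Coh.HH (Proj (CohB1.polyGrading n k)) (seq T j).X₁ 1) := by
  obtain ⟨e⟩ := seq_X₁ T j
  haveI := T.finH1 (j - 1)
  exact Module.Finite.equiv (HHequiv (k := k) e 1).symm

include T in
theorem h1_le (j : ℤ) (hj : m - 1 ≤ j) : h1 (k := k) F j ≤ h1 (k := k) F (j - 1) := by
  haveI := finite_seq_X₁ T j
  rw [← finrank_seq_X₁ T j]
  exact LinearMap.finrank_le_finrank_of_surjective (f_one_surjective T j hj)

include T in
theorem surjective_succ (j : ℤ) (hj : m ≤ j) (h : Function.Surjective (((twistF j).map T.π).app ⊤)) :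
    Function.Surjective (((twistF (j + 1)).map T.π).app ⊤) := by
  obtain ⟨e, he⟩ : ∃ e : ℕ, (e : ℤ) = j - m := ⟨(j - m).toNat, Int.toNat_of_nonneg (by omega)⟩
  have hR := reg0_of_isMRegular T.cohG (isMRegular_add T.cohG T.reg e)
  rw [show m + (e : ℤ) = j by omega] at hR
  exact surjective_twistF_succ (coords k n) coords_mem coords_cover T.π j
    (tensors_eq_top coords_mem coords_cover hR 1 1 (by norm_num)) h

include T in
theorem h1_eq_of_surjective (j : ℤ) (hj : m - 1 ≤ j) (h : Function.Surjective (((twistF j).map T.π).app ⊤)) :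
    h1 (k := k) F j = h1 (k := k) F (j - 1) := by
  rw [← finrank_seq_X₁ T j]
  exact (LinearEquiv.ofBijective (Canon.HHlin k (seq T j).f 1)
    ⟨HHlin_f_one_injective (k := k) (seq_exact T j) h, f_one_surjective T j hj⟩).finrank_eq.symm

include T in
theorem surjective_of_h1_eq (j : ℤ) (hj : m - 1 ≤ j) (h : h1 (k := k) F j = h1 (k := k) F (j - 1)) :
    Function.Surjective (((twistF j).map T.π).app ⊤) := by
  haveI := finite_seq_X₁ T j
  haveI := T.finH1 j
  refine g_app_surjective_of_injective (k := k) (seq_exact T j) ?_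
  exact (LinearMap.injective_iff_surjective_of_finrank_eq_finrank
    ((finrank_seq_X₁ T j).trans h.symm)).2 (f_one_surjective T j hj)

include T in
/-- The first cohomology strictly decreases until it vanishes. -/
theorem h1_lt (j : ℤ) (hj : m ≤ j) (hpos : h1 (k := k) F (j - 1) ≠ 0) :
    h1 (k := k) F j < h1 (k := k) F (j - 1) := by
  refine lt_of_le_of_ne (h1_le T j (by omega)) fun heq => hpos ?_
  have hs : ∀ t : ℕ, Function.Surjective (((twistF (j + t)).map T.π).app ⊤) := by
    intro t
    induction t with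
    | zero => rw [show j + ((0 : ℕ) : ℤ) = j by simp]; exact surjective_of_h1_eq T j (by omega) heq
    | succ t ih =>
      rw [show j + ((t + 1 : ℕ) : ℤ) = j + t + 1 by push_cast; ring]
      exact surjective_succ T (j + t) (by omega) ih
  have hconst : ∀ t : ℕ, h1 (k := k) F (j - 1 + t) = h1 (k := k) F (j - 1) := by
    intro t
    induction t with
    | zero => simp
    | succ t ih =>
      have h2 := h1_eq_of_surjective T (j + t) (by omega) (hs t)
      rw [show j - 1 + ((t + 1 : ℕ) : ℤ) = j + t by push_cast; ring, h2,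
        show j + (t : ℤ) - 1 = j - 1 + t by ring]
      exact ih
  obtain ⟨d₀, hd₀⟩ := exists_vanishing_twF (k := k) T.cohF 1 (by omega)
  haveI := hd₀ (j - 1 + ((d₀ - (j - 1)).toNat : ℤ)) (by omega)
  rw [← hconst (d₀ - (j - 1)).toNat]
  exact Module.finrank_zero_of_subsingleton

include T in
theorem h1_bound (t : ℕ) : h1 (k := k) F (m - 1 + t) ≤ h1 (k := k) F (m - 1) - t := by
  induction t with
  | zero => simp
  | succ t ih =>
    have e : m + (t : ℤ) - 1 = m - 1 + t := by ring
    rw [show m - 1 + ((t + 1 : ℕ) : ℤ) = m + t by push_cast; ring]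
    rcases Nat.eq_zero_or_pos (h1 (k := k) F (m + t - 1)) with h0 | h0
    · have h2 := h1_le T (m + t) (le_trans (sub_le_self m zero_le_one) (le_add_of_nonneg_right (Int.natCast_nonneg t)))
      rw [e] at h2 h0
      exact arith_zero ih h2 h0
    · have h2 := h1_lt T (m + t) (le_add_of_nonneg_right (Int.natCast_nonneg t)) h0.ne'
      rw [e] at h2
      exact arith_step ih h2

include T in
theorem subsingleton_one (j : ℤ) (hj : m - 1 + (h1 (k := k) F (m - 1) : ℤ) ≤ j) :
    Subsingleton (Coh.HH (Proj (CohB1.polyGrading n k)) ((twF j).obj F) 1) := by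
  have hnn : (0 : ℤ) ≤ j - (m - 1) := le_sub_left_of_add_le
    (le_trans (add_le_add (le_refl (m - 1)) (Int.natCast_nonneg (h1 (k := k) F (m - 1)))) hj)
  obtain ⟨t, ht⟩ : ∃ t : ℕ, (t : ℤ) = j - (m - 1) := ⟨(j - (m - 1)).toNat, Int.toNat_of_nonneg hnn⟩
  have h := h1_bound T t
  rw [show m - 1 + (t : ℤ) = j by rw [ht]; ring] at h
  have hb : h1 (k := k) F (m - 1) ≤ t := Int.ofNat_le.1 (le_of_le_of_eq (le_sub_left_of_add_le hj) ht.symm)
  haveI := T.finH1 j
  exact Module.finrank_zero_iff.1 (arith_vanish h hb)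

end Groth.Agent.RegDescent
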