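import Groth.Agent.H23.IntNumCycle
import Groth.Agent.Lib.IntCoeff
import Groth.Agent.Nakai.SemiAmple

/-!
Leading terms of Euler characteristics of twists: only the components of top dimension count.
-/

set_option autoImplicit false
set_option linter.style.haveILetI false
set_option linter.unusedSectionVars false
set_option backward.isDefEq.respectTransparency false
set_option backward.isDefEq.respectTransparency.types false
set_option maxHeartbeats 1000000

universe u

open CategoryTheory AlgebraicGeometry TopologicalSpace Groth.Agent.H23 Groth.Agent.H23.PicMul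

noncomputable section

namespace Groth.Agent.SnapLead

attribute [local instance] PicMul.clMonoid

variable (k : Type u) [Field k] {X : Scheme.{u}} [X.Over (Spec (CommRingCat.of k))]
  [IsProper (X ↘ Spec (CommRingCat.of k))] {r : ℕ}

/-- Functions agreeing with a polynomial of degree below `d`. -/
def polyLt (r d : ℕ) : AddSubgroup ((Fin r → ℕ) → ℚ) where
  carrier := {f | Snapper.IsMPolyLt d f}
  zero_mem' := ⟨0, Snapper.degLt_zero d, fun n => by simp⟩
  add_mem' := fun hf hg => hf.add hg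
  neg_mem' := fun {f} ⟨Q, hQ, hQn⟩ => ⟨-Q, hQ.neg, fun n => by simp [hQn n]⟩

/-- The dimension function. -/
def δ : X → ℤ := fun x => (FibDim.rd (X ↘ Spec (CommRingCat.of k)) x : ℤ)

theorem isDimFun : Cyc.IsDimFun X (δ k) :=
  CycLib.isDimFun_of_deltaCompat (X ↘ Spec (CommRingCat.of k)) (CycLib.isSetup_spec_field k)
    (CycLib.deltaCompat_rd (X ↘ Spec (CommRingCat.of k)))

theorem dim_closure (x : X) :
    topologicalKrullDim ↥(closure ({x} : Set X)) = ((FibDim.rd (X ↘ Spec (CommRingCat.of k)) x : ℕ∞) : WithBot ℕ∞) := by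
  haveI := FibDim.subsingleton_spec_field k
  exact FibDim.topologicalKrullDim_closure (X ↘ Spec (CommRingCat.of k)) x

theorem cohLe_of_dim {F : X.Modules} (hF : Coh.IsCoh F) {d : ℕ}
    (hd : topologicalKrullDim ↥(CohB1.support F) ≤ d) : Cyc.CohLe (δ k) d F := by
  refine ⟨hF, fun x hx => ?_⟩
  have hxs : x ∈ CohB1.support F := not_subsingleton_iff_nontrivial.2 hx
  have hcl : IsClosed (CohB1.support F) := QCoh.isClosed_support_of_isFT hF.1 hF.2
  have h1 : topologicalKrullDim ↥(closure ({x} : Set X)) ≤ (d : WithBot ℕ∞) :=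
    (TopDim.dim_le_dim_of_subset (hcl.closure_subset_iff.2 (Set.singleton_subset_iff.2 hxs))).trans hd
  rw [dim_closure k] at h1
  show (FibDim.rd (X ↘ Spec (CommRingCat.of k)) x : ℤ) ≤ d
  exact_mod_cast h1

theorem dim_support_lt {F : X.Modules} {d : ℕ} (hF : Cyc.CohLe (δ k) ((d : ℤ) - 1) F) :
    topologicalKrullDim ↥(CohB1.support F) < (d : WithBot ℕ∞) := by
  have hcl : IsClosed (CohB1.support F) := QCoh.isClosed_support_of_isFT hF.1.1 hF.1.2
  haveI := FibDim.subsingleton_spec_field k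
  cases d with
  | zero =>
    have : IsEmpty ↥(CohB1.support F) := ⟨fun x => by
      have := hF.2 x.1 (not_subsingleton_iff_nontrivial.1 x.2)
      simp only [δ] at this
      omega⟩
    haveI : IsEmpty (IrreducibleCloseds ↥(CohB1.support F)) :=
      ⟨fun Z => Z.isIrreducible.nonempty.elim fun x _ => this.elim x⟩
    rw [show topologicalKrullDim ↥(CohB1.support F) = ⊥ from Order.krullDim_eq_bot]
    exact WithBot.bot_lt_coe _
  | succ d =>
    refine lt_of_le_of_lt (b := (d : WithBot ℕ∞)) ?_ (by exact_mod_cast Nat.lt_succ_self d)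
    rw [VarDim.topologicalKrullDim_set_eq_iSup_deg (X ↘ Spec (CommRingCat.of k)) hcl]
    refine iSup_le fun z => ?_
    have h1 := hF.2 z.1 (not_subsingleton_iff_nontrivial.1 z.2)
    have h2 := dim_closure k z.1
    rw [VarDim.topologicalKrullDim_closure_singleton (X ↘ Spec (CommRingCat.of k))] at h2
    rw [h2]
    simp only [δ] at h1
    exact WithBot.coe_le_coe.2 (ENat.natCast_le_natCast.2 (by omega))

variable {k}

/-- The term of a point. -/
def term (L : Fin r → X.Modules) (ξ : X) : (Fin r → ℕ) → ℚ := fun n =>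
  (@Curv2.euler k _
    (Scheme.IdealSheafData.vanishingIdeal (⟨closure ({ξ} : Set X), isClosed_closure⟩ : Closeds X)).subscheme
    ⟨(Scheme.IdealSheafData.vanishingIdeal (⟨closure ({ξ} : Set X), isClosed_closure⟩ : Closeds X)).subschemeι ≫ (X ↘ (Spec (CommRingCat.of k)))⟩
    (Curv2.tensorPows
      (Coh.structureModule (Scheme.IdealSheafData.vanishingIdeal (⟨closure ({ξ} : Set X), isClosed_closure⟩ : Closeds X)).subscheme)
      r (fun i => (Scheme.Modules.pullback
        (Scheme.IdealSheafData.vanishingIdeal (⟨closure ({ξ} : Set X), isClosed_closure⟩ : Closeds X)).subschemeι).obj (L i)) n) : ℚ)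

variable (k)

theorem pullCl_prod {Y : Scheme.{u}} (f : Y ⟶ X) {d : ℕ} (c : Fin d → PicF.Cl X) (n : Fin d → ℕ) :
    PicF.pullCl f (∏ i, c i ^ n i) = ∏ i, PicF.pullCl f (c i) ^ n i := by
  induction d with
  | zero => simpa using PicMul.pullCl_one f
  | succ d ih =>
    rw [Fin.prod_univ_castSucc, Fin.prod_univ_castSucc, PicMul.pullCl_mul, PicMul.pullCl_pow, ih]

/-- The twists of the structure sheaf of the closure of a point. -/
theorem χs_closure {L : Fin r → X.Modules} (hL : ∀ i, PicF.IsInvertible (L i)) (ξ : X) (n : Fin r → ℕ) :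
    Snapper.χs k L (Cyc.closureStructureSheaf ξ) n = term (k := k) L ξ n := by
  haveI := CurveCohLib.isNoetherian_of_proper (k := k) (X := X)
  let Z := Scheme.IdealSheafData.vanishingIdeal (⟨closure ({ξ} : Set X), isClosed_closure⟩ : Closeds X)
  let i := Z.subschemeι
  letI : Z.subscheme.Over (Spec (CommRingCat.of k)) := ⟨i ≫ (X ↘ (Spec (CommRingCat.of k)))⟩
  obtain ⟨e⟩ := DivisorExt.nonempty_quotMod_iso i
  rw [Scheme.IdealSheafData.ker_subschemeι] at e
  let M := Curv2.tensorPows (Coh.structureModule X) r L n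
  have hM : PicF.IsInvertible M := isInvertible_tensorPows hL n
  show (Curv2.euler k X (Curv2.tensorPows (Cyc.closureStructureSheaf ξ) r L n) : ℚ) = _
  obtain ⟨e1⟩ := cl_eq_iff.1 (show PicF.cl (Curv2.tensorPows (Cyc.closureStructureSheaf ξ) r L n) =
      PicF.cl (CohB1.tensorMod (ClSub.quotMod Z) (CohB1.tensorPow M 1)) by
    rw [IntCoeff.cl_tensorPows, cl_tensor, cl_tensorPow, pow_one, IntCoeff.cl_tensorPows, ← PicMul.one_def, one_mul]
    congr 1)
  obtain ⟨e2⟩ := cl_eq_iff.1 (show PicF.cl (CohB1.tensorPow ((Scheme.Modules.pullback i).obj M) 1) =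
      PicF.cl (Curv2.tensorPows (Coh.structureModule Z.subscheme) r (fun j => (Scheme.Modules.pullback i).obj (L j)) n) by
    rw [cl_tensorPow, pow_one, IntCoeff.cl_tensorPows, ← PicMul.one_def, one_mul]
    show PicF.pullCl i (PicF.cl M) = _
    rw [IntCoeff.cl_tensorPows, ← PicMul.one_def, one_mul, pullCl_prod]
    rfl)
  rw [CurveCohLib.euler_congr (k := k) e1]
  refine (Nakai.chi_eq k hM Z 1).trans ?_
  haveI : IsProper (Z.subscheme ↘ Spec (CommRingCat.of k)) :=
    inferInstanceAs (IsProper (i ≫ (X ↘ Spec (CommRingCat.of k))))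
  exact congrArg Int.cast (CurveCohLib.euler_congr (k := k) e2)
where
  isInvertible_tensorPows : ∀ {d : ℕ} {L : Fin d → X.Modules}, (∀ i, PicF.IsInvertible (L i)) → ∀ n : Fin d → ℕ,
      PicF.IsInvertible (Curv2.tensorPows (Coh.structureModule X) d L n)
    | 0, _, _, _ => InvX.isInvertible_structureModule
    | d + 1, L, hL, n => PicMul.isInvertible_tensor (isInvertible_tensorPows (fun i => hL _) _)
        (InvX.isInvertible_tensorPow (hL (Fin.last d)) (n (Fin.last d)))

theorem cohLe_closure [IsLocallyNoetherian X] {d : ℕ} {ξ : X} (h : δ k ξ = d) :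
    Cyc.CohLe (δ k) d (Cyc.closureStructureSheaf ξ) :=
  ⟨SkyPoint.isCoh_closure _, fun x hx => by
    rcases eq_or_ne ξ x with rfl | hne
    · exact h.le
    · exact ((CycLib.delta_lt (isDimFun k) (SkyPoint.specializes_of_nontrivial_closure hx) hne).trans_le h.le).le⟩

theorem sheafFun_closure [IsLocallyNoetherian X] {d : ℕ} {ξ : X} (h : δ k ξ = d) [DecidableEq X] :
    Cyc.sheafFun (δ k) d (Cyc.closureStructureSheaf ξ) = fun x => if x = ξ then 1 else 0 := by
  funext x
  unfold Cyc.sheafFun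
  by_cases hx : x = ξ
  · subst hx
    rw [if_pos h, if_pos rfl, SkyPoint.length_closure_self]
    rfl
  · rw [if_neg hx]
    split_ifs with hd
    · haveI : Subsingleton ((Cyc.closureStructureSheaf ξ).presheaf.stalk x) := by
        by_contra hn
        have h1 := CycLib.delta_lt (isDimFun k)
          (SkyPoint.specializes_of_nontrivial_closure (not_subsingleton_iff_nontrivial.1 hn)) (Ne.symm hx)
        omega
      simp
    · rfl

/-- Euler characteristics of twists modulo lower degree. -/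
theorem main {F : X.Modules} (hF : Coh.IsCoh F) {d : ℕ} (hd : topologicalKrullDim ↥(CohB1.support F) ≤ d)
    {L : Fin r → X.Modules} (hL : ∀ i, PicF.IsInvertible (L i)) :
    Snapper.IsMPolyLt d (fun n => Snapper.χs k L F n -
      ∑ᶠ ξ : X, (if topologicalKrullDim (closure ({ξ} : Set X)) = (d : WithBot ℕ∞) then
        ((Module.length (X.presheaf.stalk ξ) (F.presheaf.stalk ξ)).toNat : ℚ) * term (k := k) L ξ n else 0)) := by
  classical
  haveI := CurveCohLib.isNoetherian_of_proper (k := k) (X := X)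
  let P := polyLt r d
  let G := ((Fin r → ℕ) → ℚ) ⧸ P
  let ψ₀ : X.Modules → G := fun M => QuotientAddGroup.mk (Snapper.χs k L M)
  obtain ⟨f, hf⟩ := KZ.exists_liftSub (Cyc.CohLe (δ k) d) ψ₀ fun S hS a b c => by
    show QuotientAddGroup.mk (Snapper.χs k L S.X₂) = _
    rw [Snapper.χs_add k hL hS a.1 b.1 c.1]
    rfl
  have hlow : ∀ M, Cyc.CohLe (δ k) ((d : ℤ) - 1) M → ψ₀ M = 0 := fun M hM => by
    refine (QuotientAddGroup.eq_zero_iff _).2 ?_
    exact Snapper.isMPolyLt_of_dim_lt k hL d ⟨_, QCoh.isClosed_support_of_isFT hM.1.1 hM.1.2⟩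
      (dim_support_lt k hM) M hM.1 subset_rfl
  let Φ : Cyc.K0CohQuot (δ k) (d : ℤ) ((d : ℤ) - 1) →+ G :=
    QuotientAddGroup.lift _ f ((AddSubgroup.closure_le _).2 (by
      rintro _ ⟨M, hM, rfl⟩
      show f _ = 0
      rw [hf M (CycleClassK.cohLe_mono (by omega) hM), hlow M hM]))
  have hΦ : ∀ M, Cyc.CohLe (δ k) d M → Φ (Cyc.toK0CohQuot (δ k) d ((d : ℤ) - 1) M) = ψ₀ M := hf
  obtain ⟨ψ, hψ⟩ := CycleClassK.exists_psi (isDimFun k (X := X)) (d : ℤ)
  have hFle := cohLe_of_dim k hF hd
  have hfin : (Function.support (Cyc.sheafFun (δ k) d F)).Finite := by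
    choose U hxU hU using CycleClassK.lfPts_sheafFun (isDimFun k) hFle
    haveI : CompactSpace X := QuasiCompact.compactSpace_of_compactSpace (X ↘ Spec (CommRingCat.of k))
    obtain ⟨t, ht⟩ := isCompact_univ.elim_finite_subcover (fun x => (U x : Set X)) (fun x => (U x).isOpen)
      fun x _ => Set.mem_iUnion.2 ⟨x, hxU x⟩
    refine (t.finite_toSet.biUnion fun x _ => hU x).subset fun y hy => ?_
    obtain ⟨x, hxt, hyx⟩ := Set.mem_iUnion₂.1 (ht (Set.mem_univ y))
    exact Set.mem_iUnion₂.2 ⟨x, hxt, hy, hyx⟩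
  let S := hfin.toFinset
  have hS : ∀ ξ ∈ S, δ k ξ = d := fun ξ hξ => by
    have h := hfin.mem_toFinset.1 hξ
    by_contra hne
    exact h (by simp [Cyc.sheafFun, hne])
  have hK : Cyc.toK0CohQuot (δ k) (d : ℤ) ((d : ℤ) - 1) F =
      ∑ ξ ∈ S, Cyc.sheafFun (δ k) d F ξ • Cyc.toK0CohQuot (δ k) (d : ℤ) ((d : ℤ) - 1) (Cyc.closureStructureSheaf ξ) := by
    refine CycleClassK.psi_injective (isDimFun k) hψ ?_
    rw [hψ F hFle, map_sum]
    funext x
    rw [Finset.sum_apply, Finset.sum_congr rfl fun ξ hξ => by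
      rw [map_zsmul, hψ _ (cohLe_closure k (hS ξ hξ)), sheafFun_closure k (hS ξ hξ)]]
    simp only [Pi.smul_apply, smul_eq_mul, mul_ite, mul_one, mul_zero, Finset.sum_ite_eq]
    split_ifs with hx
    · rfl
    · by_contra hne
      exact hx (hfin.mem_toFinset.2 hne)
  have h := congrArg Φ hK
  rw [hΦ F hFle, map_sum, Finset.sum_congr rfl fun ξ hξ => by
    rw [map_zsmul, hΦ _ (cohLe_closure k (hS ξ hξ))]] at h
  have h' : (QuotientAddGroup.mk' P) (Snapper.χs k L F) =
      (QuotientAddGroup.mk' P) (∑ ξ ∈ S, Cyc.sheafFun (δ k) d F ξ • Snapper.χs k L (Cyc.closureStructureSheaf ξ)) := by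
    rw [map_sum, Finset.sum_congr rfl fun ξ _ => map_zsmul (QuotientAddGroup.mk' P) (Cyc.sheafFun (δ k) d F ξ) (Snapper.χs k L (Cyc.closureStructureSheaf ξ))]
    exact h
  have h2 := (QuotientAddGroup.eq.1 h'.symm)
  refine Snapper.IsMPolyLt.congr h2 fun n => ?_
  simp only [Pi.add_apply, Pi.neg_apply, Finset.sum_apply, Pi.smul_apply]
  rw [finsum_eq_sum_of_support_subset _ (s := S) ?_, sub_eq_neg_add]
  · congr 2
    refine Finset.sum_congr rfl fun ξ hξ => ?_
    rw [if_pos (by rw [dim_closure k]; have := hS ξ hξ; simp only [δ] at this; exact_mod_cast this),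
      χs_closure k hL, zsmul_eq_mul, Cyc.sheafFun, if_pos (hS ξ hξ)]
    push_cast
    rfl
  · intro ξ hξ
    simp only [Function.mem_support, ne_eq, ite_eq_right_iff, not_forall] at hξ
    obtain ⟨hdim, hne⟩ := hξ
    refine hfin.mem_toFinset.2 ?_
    rw [dim_closure k] at hdim
    have hdd : δ k ξ = d := by simp only [δ]; exact_mod_cast hdim
    simp only [Function.mem_support, Cyc.sheafFun, hdd, if_true, ne_eq, Nat.cast_eq_zero]
    intro h0
    exact hne (by simp [h0])

end Groth.Agent.SnapLead
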