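import Groth.Agent.KExact.TorBCGlobal
import Groth.Agent.Lib.DerivedNat
import Groth.Agent.KFlatLib.Scheme.RpushUnbounded
import Groth.Agent.KFlatLib.Scheme.TorAmpPush
import Groth.Agent.ProjUPX.Affine

/-!
Base change for derived direct images as an isomorphism of functors on objects with quasi-coherent
cohomology sheaves.
-/

set_option autoImplicit false
set_option linter.style.haveILetI false
set_option maxHeartbeats 800000

universe u

open CategoryTheory CategoryTheory.Limits AlgebraicGeometry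

attribute [local instance] HasDerivedCategory.standard

namespace Groth.Agent.Lib.DerivedBC

open KFlatLib

variable {X S X' S' : Scheme.{u}} {f : X ⟶ S} {g : S' ⟶ S} {f' : X' ⟶ S'} {g' : X' ⟶ X}

section

variable [DCoh.HasRpush f] [DCoh.HasRpush f'] [DCoh.HasRpush g] [DCoh.HasRpush g'] [DCoh.HasLpull g]
  [DCoh.HasLpull g']

/-- The base change morphism is natural. -/
theorem baseChangeApp_naturality (adjg : DCoh.Lpull g ⊣ DCoh.Rpush g) (adjg' : DCoh.Lpull g' ⊣ DCoh.Rpush g')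
    (e : DCoh.Rpush g' ⋙ DCoh.Rpush f ≅ DCoh.Rpush f' ⋙ DCoh.Rpush g) {E₁ E₂ : DCoh.D X} (i : E₁ ⟶ E₂) :
    (DCoh.Lpull g).map ((DCoh.Rpush f).map i) ≫ DCoh.baseChangeApp adjg adjg' e E₂ =
      DCoh.baseChangeApp adjg adjg' e E₁ ≫ (DCoh.Rpush f').map ((DCoh.Lpull g').map i) := by
  symm
  dsimp only [DCoh.baseChangeApp]
  rw [← Adjunction.homEquiv_naturality_right_symm, ← Adjunction.homEquiv_naturality_left_symm]
  refine congrArg _ ?_
  rw [Category.assoc]
  erw [← e.hom.naturality ((DCoh.Lpull g').map i)]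
  rw [← Category.assoc, ← Category.assoc]
  refine congrArg (· ≫ e.hom.app ((DCoh.Lpull g').obj E₂)) ?_
  erw [← Functor.map_comp, ← Functor.map_comp]
  exact congrArg _ (adjg'.unit.naturality i).symm

end

/-- Tor independent base change, naturally. -/
theorem nonempty_baseChange (h : IsPullback g' f' f g) [QuasiCompact f] [QuasiSeparated f]
    (htor : KExact.TorBCGen.TorIndepG f g) [DCoh.HasRpush f] [DCoh.HasLpull g] [DCoh.HasRpush f'] [DCoh.HasLpull g'] :
    Nonempty (ObjectProperty.ι (DCoh.IsQCohD (X := X)) ⋙ DCoh.Rpush f ⋙ DCoh.Lpull g ≅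
      ObjectProperty.ι (DCoh.IsQCohD (X := X)) ⋙ DCoh.Lpull g' ⋙ DCoh.Rpush f') := by
  haveI := hasRpush_scheme g
  haveI := hasRpush_scheme g'
  obtain ⟨A⟩ := nonempty_lpull_rpush_adj g
  obtain ⟨A'⟩ := nonempty_lpull_rpush_adj g'
  obtain ⟨e, -, he⟩ := KExact.TorBCGen.exists_isIso_baseChangeApp h htor A A'
  exact ⟨NatIso.ofComponents (fun E => @asIso _ _ _ _ (DCoh.baseChangeApp A A' e E.obj) (he E.obj E.property))
    fun φ => baseChangeApp_naturality A A' e φ.hom⟩

/-- Base change of a flat morphism along an arbitrary one, naturally. -/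
theorem nonempty_baseChange_of_flat (h : IsPullback g' f' f g) [QuasiCompact f] [QuasiSeparated f] [Flat f]
    [DCoh.HasRpush f] [DCoh.HasLpull g] [DCoh.HasRpush f'] [DCoh.HasLpull g'] :
    Nonempty (ObjectProperty.ι (DCoh.IsQCohD (X := X)) ⋙ DCoh.Rpush f ⋙ DCoh.Lpull g ≅
      ObjectProperty.ι (DCoh.IsQCohD (X := X)) ⋙ DCoh.Lpull g' ⋙ DCoh.Rpush f') :=
  nonempty_baseChange h (KExact.TorBCGen.torIndepG_of_flat f g)

/-- Base change along a flat morphism, naturally. -/
theorem nonempty_baseChange_of_flat_right (h : IsPullback g' f' f g) [QuasiCompact f] [QuasiSeparated f] [Flat g]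
    [DCoh.HasRpush f] [DCoh.HasLpull g] [DCoh.HasRpush f'] [DCoh.HasLpull g'] :
    Nonempty (ObjectProperty.ι (DCoh.IsQCohD (X := X)) ⋙ DCoh.Rpush f ⋙ DCoh.Lpull g ≅
      ObjectProperty.ι (DCoh.IsQCohD (X := X)) ⋙ DCoh.Lpull g' ⋙ DCoh.Rpush f') :=
  nonempty_baseChange h (KExact.TorBCGen.torIndepG_of_flat_right f g)

/-- Tensoring with a quasi-coherent module preserves quasi-coherence of cohomology. -/
theorem isQCohD_ltensorMod {M : X.Modules} (hM : Coh.IsQCoh M) [DCoh.HasLTensorMod M] {E : DCoh.D X}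
    (hE : DCoh.IsQCohD E) : DCoh.IsQCohD ((DCoh.LTensorMod M).obj E) := by
  haveI := hasLTensorCx ((HomologicalComplex.single X.Modules (ComplexShape.up ℤ) 0).obj M)
  obtain ⟨c⟩ := nonempty_ltensorMod_ltensorCx M E
  exact isQCohD_of_iso c.symm (isQCohD_ltensor ((HomologicalComplex.single X.Modules (ComplexShape.up ℤ) 0).obj M)
    (isQCohD_of_iso ((DerivedCategory.singleFunctorIsoCompQ X.Modules 0).app M) (isQCohD_inD_of_isQCoh hM)) hE)

theorem isQCohD_ltensorMod_of_invertible {M : X.Modules} (hM : PicF.IsInvertible M) [DCoh.HasLTensorMod M]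
    {E : DCoh.D X} (hE : DCoh.IsQCohD E) : DCoh.IsQCohD ((DCoh.LTensorMod M).obj E) :=
  isQCohD_ltensorMod (ProjUPX.isQCoh_of_isInvertible hM) hE

/-- Whiskering on the left with a functor preserving quasi-coherence of cohomology. -/
noncomputable def whiskerQ {C : Type*} [Category C] {Y : Scheme.{u}} (F : DCoh.D X ⥤ DCoh.D Y)
    (hF : ∀ E, DCoh.IsQCohD E → DCoh.IsQCohD (F.obj E)) {H H' : DCoh.D Y ⥤ C}
    (e : ObjectProperty.ι (DCoh.IsQCohD (X := Y)) ⋙ H ≅ ObjectProperty.ι (DCoh.IsQCohD (X := Y)) ⋙ H') :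
    ObjectProperty.ι (DCoh.IsQCohD (X := X)) ⋙ F ⋙ H ≅ ObjectProperty.ι (DCoh.IsQCohD (X := X)) ⋙ F ⋙ H' :=
  Functor.isoWhiskerLeft (ObjectProperty.lift (DCoh.IsQCohD (X := Y))
    (ObjectProperty.ι (DCoh.IsQCohD (X := X)) ⋙ F) fun E => hF E.obj E.property) e

end Groth.Agent.Lib.DerivedBC
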