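import Groth.Agent.Lib.SyzygyGen
import Groth.Agent.Lib.RegDescent

/-!
Resolutions of coherent modules on projective space by sums of twists, of bounded length.
-/

set_option linter.style.haveILetI false
set_option linter.unusedSectionVars false
set_option backward.isDefEq.respectTransparency false
set_option backward.isDefEq.respectTransparency.types false
set_option maxHeartbeats 1000000

universe u

open CategoryTheory CategoryTheory.Limits AlgebraicGeometry TopologicalSpace Opposite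
open Groth.Agent.PnCoh.Finite Groth.Agent.ProjRegular Groth.Agent.RegEpi

noncomputable section

namespace Groth.Agent.Syzygy

section Replace

variable {C : Type*} [Category C] [HasZeroMorphisms C]

/-- Replacing the first term of a short exact sequence. -/
theorem shortExact_replace {S : ShortComplex C} (h : S.ShortExact) {K : C} (e : K ≅ S.X₁) :
    (ShortComplex.mk (e.hom ≫ S.f) S.g (by rw [Category.assoc, S.zero, comp_zero])).ShortExact :=
  ShortComplex.shortExact_of_iso (ShortComplex.isoMk (S₂ := ShortComplex.mk (e.hom ≫ S.f) S.g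
    (by rw [Category.assoc, S.zero, comp_zero])) e.symm (Iso.refl _) (Iso.refl _) (by simp) (by simp)) h

end Replace

section Kernel

/-- The kernel of a map injective on sections has no sections. -/
theorem subsingleton_HH_zero_X₁ {k : Type u} [Field k] {X : Scheme.{u}} [X.Over (Spec (CommRingCat.of k))]
    {S : ShortComplex X.Modules} (hS : S.ShortExact) (h : Function.Injective (Canon.HHlin k S.g 0)) :
    Subsingleton (Coh.HH X S.X₁ 0) := by
  refine subsingleton_of_forall_eq 0 fun x => PnDual.HHlin_f_injective (k := k) hS ?_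
  apply h
  rw [map_zero, map_zero, PnDual.HHlin_comp, S.zero]
  show Sheaf.H.map ((QCoh.toAbFunctor X).map 0) 0 x = 0
  rw [Functor.map_zero]
  show ((Sheaf.functorH _ 0).map 0).hom x = 0
  rw [Functor.map_zero]
  rfl

/-- Vanishing for the first term from the connecting map. -/
theorem subsingleton_HH_succ_X₁ {k : Type u} [Field k] {X : Scheme.{u}} [X.Over (Spec (CommRingCat.of k))]
    {S : ShortComplex X.Modules} (hS : S.ShortExact) (q : ℕ) (h₂ : Subsingleton (Coh.HH X S.X₂ (q + 1)))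
    (h₃ : Subsingleton (Coh.HH X S.X₃ q)) : Subsingleton (Coh.HH X S.X₁ (q + 1)) := by
  refine subsingleton_of_forall_eq 0 fun x => ?_
  obtain ⟨y, rfl⟩ := (PnDual.HHlin_f_eq_zero_iff (k := k) hS q x).1 (h₂.elim _ _)
  rw [h₃.elim y 0, map_zero]

/-- Vanishing for a twisted kernel. -/
theorem subsingleton_HH_twist_kernel {k : Type u} [Field k] {R A : Type u} [CommRing R] [CommRing A] [Algebra R A]
    {𝒜 : ℕ → Submodule R A} [GradedAlgebra 𝒜] {κ : Type u} [(Proj 𝒜).Over (Spec (CommRingCat.of k))]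
    (g : κ → A) (hg : ∀ j, g j ∈ 𝒜 1) (hcov : ⨆ j, D 𝒜 (g j) = ⊤) {M G : (Proj 𝒜).Modules} (ψ : M ⟶ G)
    [Epi ψ] (d : ℤ) (q : ℕ) (h₂ : Subsingleton (Coh.HH (Proj 𝒜) ((twistF d).obj M) (q + 1)))
    (h₃ : Subsingleton (Coh.HH (Proj 𝒜) ((twistF d).obj G) q)) :
    Subsingleton (Coh.HH (Proj 𝒜) ((twistF d).obj (kernel ψ)) (q + 1)) :=
  subsingleton_HH_succ_X₁ (k := k) (RegDescent.twSeq_exact g hg hcov
    (S := ShortComplex.mk (kernel.ι ψ) ψ (kernel.condition ψ))
    { exact := ShortComplex.exact_of_f_is_kernel _ (kernelIsKernel ψ) } d) q h₂ h₃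

end Kernel

variable (k : Type u) [Field k] (n : ℕ) [(Proj (CohB1.polyGrading n k)).Over (Spec (CommRingCat.of k))]

local notation "PP" => Proj (CohB1.polyGrading n k)
local notation "OP" => Coh.structureModule (Proj (CohB1.polyGrading n k))

/-- Finiteness of sections and connectedness. -/
structure Hyp : Prop where
  fin : ∀ M : (Proj (CohB1.polyGrading n k)).Modules, Coh.IsCoh M →
    Module.Finite k (Coh.HH (Proj (CohB1.polyGrading n k)) M 0)
  one : Module.finrank k (Coh.HH (Proj (CohB1.polyGrading n k))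
    (Coh.structureModule (Proj (CohB1.polyGrading n k))) 0) = 1

/-- The state after `s` steps of the linear resolution, normalised in degree zero. -/
structure St (s : ℕ) where
  G : (Proj (CohB1.polyGrading n k)).Modules
  coh : Coh.IsCoh G
  reg : ∀ i : ℕ, 1 ≤ i → Subsingleton (Coh.HH (Proj (CohB1.polyGrading n k)) ((twF (-(i : ℤ))).obj G) i)
  low : ∀ q : ℕ, q < s →
    Subsingleton (Coh.HH (Proj (CohB1.polyGrading n k)) ((twF (-((q : ℤ) + 1))).obj G) q)

variable {k n}

theorem subsingleton_HH_sigma_O (b : ℕ) (i : ℕ) (d : ℤ) (hi : 1 ≤ i) (hd : -(n : ℤ) ≤ d) :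
    Subsingleton (Coh.HH PP ((twF d).obj (∐ fun _ : Fin b => OP)) i) := by
  obtain ⟨e⟩ := twF_sigma_unit_iso (k := k) (n := n) b d
  exact QCoh.subsingleton_HH_of_iso e.symm i
    (subsingleton_HH_sigma_twist b _ _ (fun h => by omega) (fun h => by omega))

theorem subsingleton_high' {M : (Proj (CohB1.polyGrading n k)).Modules} (hM : Coh.IsCoh M) (d : ℤ) (q : ℕ)
    (hq : n < q) : Subsingleton (Coh.HH PP ((twF d).obj M) q) :=
  ProjRegular.subsingleton_HH_high (k := k) (n := n) hM d q hq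

theorem isCoh_sigma_O (b : ℕ) : Coh.IsCoh (∐ fun _ : Fin b => OP) := by
  obtain ⟨φ⟩ := unitIso (k := k) (n := n)
  exact SheafHomX.isCoh_of_iso (Sigma.mapIso fun _ => φ.symm) (isCoh_sigma_twist b 0)

/-- One step. -/
theorem exists_step (H : Hyp k n) {s : ℕ} (T : St k n s) :
    ∃ (T' : St k n (s + 1)) (ι : (twF (-1)).obj T'.G ⟶ ∐ fun _ : Fin (Module.finrank k (Coh.HH PP T.G 0)) => OP)
      (ψ : (∐ fun _ : Fin (Module.finrank k (Coh.HH PP T.G 0)) => OP) ⟶ T.G) (w : ι ≫ ψ = 0),
      (ShortComplex.mk ι ψ w).ShortExact := by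
  haveI hP : IsNoetherian (Proj (CohB1.polyGrading n k)) := Proj16.isNoetherian_proj _
  haveI : IsLocallyNoetherian (Proj (CohB1.polyGrading n k)) := hP.toIsLocallyNoetherian
  haveI := H.fin T.G T.coh
  obtain ⟨b, ψ, hψ, hg, rfl⟩ := exists_sigma_hom_bijective H.one T.G
  haveI : Epi ψ := hg (ProjRegular.isGloballyGenerated coords_mem coords_cover coords_noetherian
    (good_of_isCoh coords_mem T.coh) T.reg)
  have hK : Coh.IsCoh (kernel ψ) := QCoh.isCoh_kernel (isCoh_sigma_O _) T.coh ψ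
  let S : ShortComplex (Proj (CohB1.polyGrading n k)).Modules :=
    ShortComplex.mk (kernel.ι ψ) ψ (kernel.condition ψ)
  have hS : S.ShortExact :=
    { exact := ShortComplex.exact_of_f_is_kernel _ (kernelIsKernel ψ) }
  have hG : Coh.IsCoh ((twF 1).obj (kernel ψ)) := ProjRegular.isCoh_twistBy hK 1
  have hlow : ∀ q : ℕ, q < s + 1 → Subsingleton (Coh.HH PP ((twF (-(q : ℤ))).obj (kernel ψ)) q) := by
    intro q hq
    rcases q with _ | q
    · obtain ⟨e0⟩ := twF_zero_iso (k := k) (n := n) (kernel ψ)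
      simp only [Nat.cast_zero, neg_zero]
      exact QCoh.subsingleton_HH_of_iso e0.symm 0 (subsingleton_HH_zero_X₁ (k := k) hS hψ.1)
    · have hd : -((q + 1 : ℕ) : ℤ) = -((q : ℤ) + 1) := by push_cast; ring
      refine subsingleton_HH_twist_kernel (k := k) (coords k n) coords_mem coords_cover ψ
        (-((q + 1 : ℕ) : ℤ)) q ?_ ?_
      · rcases le_or_gt (q + 1) n with h | h
        · exact subsingleton_HH_sigma_O _ (q + 1) _ (by omega) (by omega)
        · exact subsingleton_high' (isCoh_sigma_O _) _ (q + 1) h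
      · rw [hd]
        exact T.low q (by omega)
  have hreg : ∀ i : ℕ, 1 ≤ i → Subsingleton (Coh.HH PP ((twF (1 - (i : ℤ))).obj (kernel ψ)) i) := by
    intro i hi
    rcases Nat.lt_or_ge i 2 with h2 | h2
    · obtain rfl : i = 1 := by omega
      obtain ⟨e0⟩ := twF_zero_iso (k := k) (n := n) (kernel ψ)
      rw [show (1 : ℤ) - (1 : ℕ) = 0 by norm_num]
      refine QCoh.subsingleton_HH_of_iso e0.symm 1 ?_
      refine subsingleton_of_forall_eq 0 fun x => ?_
      have h1 : Subsingleton (Coh.HH PP (∐ fun _ : Fin (Module.finrank k (Coh.HH PP T.G 0)) => OP) 1) := by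
        obtain ⟨e0'⟩ := twF_zero_iso (k := k) (n := n) (∐ fun _ : Fin (Module.finrank k (Coh.HH PP T.G 0)) => OP)
        exact QCoh.subsingleton_HH_of_iso e0' 1 (subsingleton_HH_sigma_O _ 1 0 le_rfl (by omega))
      obtain ⟨y, rfl⟩ := (PnDual.HHlin_f_eq_zero_iff (k := k) hS 0 x).1 (h1.elim _ _)
      obtain ⟨z, rfl⟩ := hψ.2 y
      exact LinearMap.mem_ker.1 (LinearMap.mem_ker.2 ((QCoh.Ab.connecting_eq_zero_iff
        (X := (Proj (CohB1.polyGrading n k)).toPresheafedSpace.carrier) (QCoh.toAb_shortExact hS) 0 _).2 ⟨z, rfl⟩))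
    · obtain ⟨q, rfl⟩ : ∃ q, i = q + 1 := ⟨i - 1, by omega⟩
      rcases le_or_gt (q + 1) n with hn | hn
      · refine subsingleton_HH_twist_kernel (k := k) (coords k n) coords_mem coords_cover ψ
          (1 - ((q + 1 : ℕ) : ℤ)) q (subsingleton_HH_sigma_O _ (q + 1) _ (by omega) (by omega)) ?_
        rw [show (1 : ℤ) - ((q + 1 : ℕ) : ℤ) = -(q : ℤ) by push_cast; ring]
        exact T.reg q (by omega)
      · exact subsingleton_high' hK _ (q + 1) hn
  let T' : St k n (s + 1) :=
    { G := (twF 1).obj (kernel ψ)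
      coh := hG
      reg := fun i hi => by
        obtain ⟨e⟩ := twF_twF_iso (kernel ψ) 1 (-(i : ℤ)) (1 - (i : ℤ)) (by ring)
        exact QCoh.subsingleton_HH_of_iso e.symm i (hreg i hi)
      low := fun q hq => by
        obtain ⟨e⟩ := twF_twF_iso (kernel ψ) 1 (-((q : ℤ) + 1)) (-(q : ℤ)) (by ring)
        exact QCoh.subsingleton_HH_of_iso e.symm q (hlow q hq) }
  obtain ⟨e1⟩ := twF_twF_iso (kernel ψ) 1 (-1) 0 (by norm_num)
  obtain ⟨e2⟩ := twF_zero_iso (k := k) (n := n) (kernel ψ)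
  exact ⟨T', (e1 ≪≫ e2).hom ≫ S.f, ψ, _, shortExact_replace hS (e1 ≪≫ e2)⟩

/-- After more steps than the dimension nothing is left. -/
theorem isZero_St (H : Hyp k n) {s : ℕ} (T : St k n s) (hs : n + 1 ≤ s) :
    Module.finrank k (Coh.HH PP T.G 0) = 0 := by
  haveI hP : IsNoetherian (Proj (CohB1.polyGrading n k)) := Proj16.isNoetherian_proj _
  have hc : Coh.IsCoh ((twF (-1)).obj T.G) := ProjRegular.isCoh_twistBy T.coh (-1)
  have h0 : Subsingleton (Coh.HH PP ((twF (-1)).obj T.G) 0) := by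
    have h := T.low 0 (by omega)
    simpa using h
  haveI := H.fin _ hc
  obtain ⟨b, ψ, -, hg, hb⟩ := exists_sigma_hom_bijective H.one ((twF (-1)).obj T.G)
  have hR : Reg0 (𝒜 := CohB1.polyGrading n k) ((twF (-1)).obj T.G) := fun q hq => by
    obtain ⟨e⟩ := twF_twF_iso T.G (-1) (-(q : ℤ)) (-((q : ℤ) + 1)) (by ring)
    refine QCoh.subsingleton_HH_of_iso e.symm q ?_
    rcases le_or_gt q n with h | h
    · exact T.low q (by omega)
    · exact subsingleton_high' T.coh _ q h
  haveI : Epi ψ := hg (ProjRegular.isGloballyGenerated coords_mem coords_cover coords_noetherian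
    (good_of_isCoh coords_mem hc) hR)
  rw [Module.finrank_zero_of_subsingleton] at hb
  subst hb
  have hz : IsZero ((twF (-1)).obj T.G) := by
    refine IsZero.of_epi_eq_zero ψ ?_
    exact Sigma.hom_ext _ _ fun i => i.elim0
  have hzero : IsZero T.G := by
    obtain ⟨e1⟩ := twF_twF_iso T.G (-1) 1 0 (by norm_num)
    obtain ⟨e2⟩ := twF_zero_iso (k := k) (n := n) T.G
    exact IsZero.of_iso ((twF 1).map_isZero hz) (e1 ≪≫ e2).symm
  haveI := H.fin T.G T.coh
  let e := LinearEquiv.ofBijective _ (evalOneLin_bijective k T.G)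
  haveI : Subsingleton (OP ⟶ T.G) := ⟨fun a b => hzero.eq_of_tgt a b⟩
  rw [← e.finrank_eq]
  exact Module.finrank_zero_of_subsingleton

/-- A resolution of bounded length by sums of twists. -/
theorem exists_resolution (H : Hyp k n) {F : (Proj (CohB1.polyGrading n k)).Modules} (hF : Coh.IsCoh F)
    (m : ℤ) (hm : ∀ i : ℕ, 1 ≤ i → Subsingleton (Coh.HH PP ((twF (m - (i : ℤ))).obj F) i)) :
    ∃ (C : ChainComplex (Proj (CohB1.polyGrading n k)).Modules ℕ) (π : C.X 0 ⟶ F) (w : C.d 1 0 ≫ π = 0),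
      (∀ i : ℕ, n < i → IsZero (C.X i)) ∧
      (∀ i : ℕ, ∃ (b : ℕ), Nonempty (C.X i ≅ ∐ fun _ : Fin b => Twist.twist (CohB1.polyGrading n k) (-(m + i)))) ∧
      (∀ i : ℕ, 1 ≤ i → IsZero (C.homology i)) ∧ Epi π ∧ (ShortComplex.mk (C.d 1 0) π w).Exact := by
  classical
  let T0 : St k n 0 :=
    { G := (twF m).obj F
      coh := ProjRegular.isCoh_twistBy hF m
      reg := fun i hi => by
        obtain ⟨e⟩ := twF_twF_iso F m (-(i : ℤ)) (m - (i : ℤ)) (by ring)
        exact QCoh.subsingleton_HH_of_iso e.symm i (hm i hi)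
      low := fun q hq => absurd hq (Nat.not_lt_zero q) }
  choose next ι ψ w hex using fun (s : ℕ) (T : St k n s) => exists_step H T
  let T : ∀ s, St k n s := fun s => Nat.rec (motive := fun s => St k n s) T0 next s
  let b : ℕ → ℕ := fun s => Module.finrank k (Coh.HH PP (T s).G 0)
  let X : ℕ → (Proj (CohB1.polyGrading n k)).Modules := fun s => (twF (-(m + s))).obj (∐ fun _ : Fin (b s) => OP)
  let K : ℕ → (Proj (CohB1.polyGrading n k)).Modules := fun s => (twF (-(m + s))).obj (T s).G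
  have hK : ∀ s : ℕ, Nonempty (K (s + 1) ≅ (twF (-(m + s))).obj ((twF (-1)).obj (T (s + 1)).G)) := fun s => by
    obtain ⟨e⟩ := twF_twF_iso (T (s + 1)).G (-1) (-(m + s)) (-(m + ((s + 1 : ℕ) : ℤ))) (by push_cast; ring)
    exact ⟨e.symm⟩
  let Sq : ℕ → ShortComplex (Proj (CohB1.polyGrading n k)).Modules := fun s =>
    RegDescent.twSeq (ShortComplex.mk (ι s (T s)) (ψ s (T s)) (w s (T s))) (-(m + s))
  have hSq : ∀ s, (Sq s).ShortExact := fun s =>
    RegDescent.twSeq_exact (coords k n) coords_mem coords_cover (hex s (T s)) (-(m + s))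
  have hex' : ∀ s, (ShortComplex.mk ((hK s).some.hom ≫ (Sq s).f) (Sq s).g
      (by rw [Category.assoc, (Sq s).zero, comp_zero]) :
      ShortComplex (Proj (CohB1.polyGrading n k)).Modules).ShortExact :=
    fun s => shortExact_replace (hSq s) (hK s).some
  obtain ⟨e⟩ : Nonempty (K 0 ≅ F) := by
    obtain ⟨e1⟩ := twF_twF_iso F m (-(m + ((0 : ℕ) : ℤ))) 0 (by simp)
    obtain ⟨e2⟩ := twF_zero_iso (k := k) (n := n) F
    exact ⟨e1 ≪≫ e2⟩
  obtain ⟨D, π, wπ, hX, hH, hπ, hπex⟩ := exists_glue X K (fun s => (Sq s).g)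
    (fun s => (hK s).some.hom ≫ (Sq s).f) _ hex' e
  refine ⟨D, π, wπ, fun i hi => ?_, fun i => ?_, hH, hπ, hπex⟩
  · rw [hX]
    obtain ⟨e⟩ := twF_sigma_unit_iso (k := k) (n := n) (b i) (-(m + i))
    refine IsZero.of_iso ?_ e
    have hb : b i = 0 := isZero_St H (T i) (by omega)
    refine (IsZero.iff_id_eq_zero _).2 (Sigma.hom_ext _ _ fun a => ?_)
    exact Fin.elim0 (hb ▸ a)
  · rw [hX]
    exact ⟨b i, twF_sigma_unit_iso (k := k) (n := n) (b i) (-(m + i))⟩

end Groth.Agent.Syzygy
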