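import Groth.Agent.Lib.PnNegVanBase
import Groth.Agent.Lib.AffineHomExt
import Groth.Agent.Lib.RegDescent
import Groth.Agent.Lib.HorrocksPn
import Groth.Agent.Lib.PnDualCoh
import Groth.Agent.S0843
import Groth.Agent.Lib.SyzygyPn
import Groth.Agent.Lib.TwistSumInv
import Groth.Agent.SheafHomX.Main
import Mathlib.LinearAlgebra.Dual.Lemmas
import Mathlib.Order.Filter.AtTopBot.Basic

/-!
Vanishing of cohomology of very negative twists on projective space, read on the affine charts.
-/

set_option linter.style.haveILetI false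
set_option linter.unusedSectionVars false
set_option backward.isDefEq.respectTransparency false
set_option backward.isDefEq.respectTransparency.types false
set_option maxHeartbeats 1000000

universe u

open CategoryTheory CategoryTheory.Limits AlgebraicGeometry TopologicalSpace Opposite
open CategoryTheory.Abelian Filter
open Groth.Agent.PnCoh.Finite Groth.Agent.ProjRegular Groth.Agent.RegEpi Groth.Agent.SheafHomX

noncomputable section

namespace Groth.Agent.PnNegVan

variable {k : Type u} [Field k] {n : ℕ}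

local notation "PP" => Proj (CohB1.polyGrading n k)
local notation "OP" => Coh.structureModule (Proj (CohB1.polyGrading n k))
local notation "Ptw" => Twist.twist (CohB1.polyGrading n k)

local instance projOver : (Proj (CohB1.polyGrading n k)).Over (Spec (CommRingCat.of k)) :=
  inferInstanceAs ((CohB1.ProjSpace n k).Over (Spec (CommRingCat.of k)))

theorem bijective_duality {M : (Proj (CohB1.polyGrading n k)).Modules} (hM : Coh.IsCoh M) :
    ∃ t : Coh.HH PP (Ptw (-((n : ℤ) + 1))) n →ₗ[k] k,
      Function.Bijective (Canon.dualityMap k PP n (Ptw (-((n : ℤ) + 1))) t M) ∧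
      ∀ M' : (Proj (CohB1.polyGrading n k)).Modules, Coh.IsCoh M' →
        Function.Bijective (Canon.dualityMap k PP n (Ptw (-((n : ℤ) + 1))) t M') := by
  obtain ⟨t⟩ := PnDual.exists_trace' (R := k) (m := n) (b := -((n : ℤ) + 1)) rfl
  exact ⟨t.toLinearMap, PnDual.bijective_dualityMap_coh (R := k) (m := n) rfl t hM,
    fun M' hM' => PnDual.bijective_dualityMap_coh (R := k) (m := n) rfl t hM'⟩

/-- Duality: restriction of morphisms into a twist is onto iff top cohomology injects. -/
theorem surjective_iff_injective {M M' : (Proj (CohB1.polyGrading n k)).Modules} (hM : Coh.IsCoh M)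
    (hM' : Coh.IsCoh M') (g : M ⟶ M') (d e : ℤ) (he : d + e = -((n : ℤ) + 1)) :
    (Function.Surjective fun φ : M' ⟶ Ptw d => g ≫ φ) ↔
      Function.Injective (Canon.HHlin k ((twF e).map g) n) := by
  obtain ⟨t, hb, hb'⟩ := bijective_duality (Horrocks.isCoh_twF hM e)
  have hbM' := hb' _ (Horrocks.isCoh_twF hM' e)
  obtain ⟨w⟩ := twist_tensor_iso (coords k n) coords_mem coords_cover d e
  let ω' : (twF e).obj (Ptw d) ≅ Ptw (-((n : ℤ) + 1)) := w ≪≫ eqToIso (by rw [he])
  rw [← LinearMap.dualMap_surjective_iff]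
  have hnat : ∀ φ : (twF e).obj M' ⟶ Ptw (-((n : ℤ) + 1)),
      (Canon.HHlin k ((twF e).map g) n).dualMap (Canon.dualityMap k PP n _ t _ φ) =
        Canon.dualityMap k PP n _ t _ ((twF e).map g ≫ φ) := fun φ =>
    LinearMap.ext fun x => (PnDual.dualityMap_comp ((twF e).map g) φ x).symm
  constructor
  · intro h ψ
    obtain ⟨χ, rfl⟩ := hb.2 ψ
    obtain ⟨χ', hχ'⟩ := (twF (k := k) (n := n) e).map_surjective (χ ≫ ω'.inv)
    obtain ⟨φ, hφ⟩ := h χ'
    refine ⟨Canon.dualityMap k PP n _ t _ ((twF e).map φ ≫ ω'.hom), ?_⟩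
    rw [hnat, ← Category.assoc, ← Functor.map_comp, show g ≫ φ = χ' from hφ, hχ', Category.assoc,
      ω'.inv_hom_id, Category.comp_id]
  · intro h χ
    obtain ⟨ψ, hψ⟩ := h (Canon.dualityMap k PP n _ t _ ((twF e).map χ ≫ ω'.hom))
    obtain ⟨φ', rfl⟩ := hbM'.2 ψ
    rw [hnat] at hψ
    have h2 := hb.1 hψ
    obtain ⟨φ, hφ⟩ := (twF (k := k) (n := n) e).map_surjective (φ' ≫ ω'.inv)
    refine ⟨φ, (twF (k := k) (n := n) e).map_injective ?_⟩
    rw [Functor.map_comp, hφ, ← Category.assoc, h2, Category.assoc, ω'.hom_inv_id, Category.comp_id]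

section Cohomology

theorem eq_zero_of_subsingleton {X : Scheme.{u}} [X.Over (Spec (CommRingCat.of k))]
    {S : ShortComplex X.Modules} (hS : S.ShortExact) (q : ℕ) (h₂ : Subsingleton (Coh.HH X S.X₂ q)) :
    Subsingleton (Coh.HH X S.X₃ q) ↔ Function.Injective (Canon.HHlin k S.f (q + 1)) := by
  refine ⟨fun h => RegDescent.HHlin_f_succ_injective hS q h, fun h => ?_⟩
  refine subsingleton_of_forall_eq 0 fun y => ?_
  have h1 : Canon.HHlin k S.f (q + 1) (deltaLin k hS q y) = 0 :=
    (PnDual.HHlin_f_eq_zero_iff (k := k) hS q _).2 ⟨y, rfl⟩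
  have h2 : deltaLin k hS q y = 0 := h (h1.trans (map_zero _).symm)
  obtain ⟨z, hz⟩ := (QCoh.Ab.connecting_eq_zero_iff (X := X.toPresheafedSpace.carrier)
    (QCoh.toAb_shortExact hS) q y).1 h2
  rw [← hz]
  exact (congrArg _ (h₂.elim z 0)).trans (map_zero _)

theorem subsingleton_twist_X₃_iff {R A : Type u} [CommRing R] [CommRing A] [Algebra R A]
    {𝒜 : ℕ → Submodule R A} [GradedAlgebra 𝒜] {κ : Type u} [(Proj 𝒜).Over (Spec (CommRingCat.of k))]
    (g : κ → A) (hg : ∀ j, g j ∈ 𝒜 1) (hcov : ⨆ j, D 𝒜 (g j) = ⊤) {S : ShortComplex (Proj 𝒜).Modules}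
    (hS : S.ShortExact) (e : ℤ) (q : ℕ) (h₂ : Subsingleton (Coh.HH (Proj 𝒜) ((twistF e).obj S.X₂) q)) :
    Subsingleton (Coh.HH (Proj 𝒜) ((twistF e).obj S.X₃) q) ↔
      Function.Injective (Canon.HHlin k ((twistF e).map S.f) (q + 1)) :=
  eq_zero_of_subsingleton (RegDescent.twSeq_exact g hg hcov hS e) q h₂

end Cohomology

/-- Cohomology in a degree vanishes on all very negative twists. -/
def NegVan (i : ℕ) (M : (Proj (CohB1.polyGrading n k)).Modules) : Prop :=
  ∀ᶠ e : ℤ in atBot, Subsingleton (Coh.HH PP ((twF e).obj M) i)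

/-- The sections on the charts have no `Ext` into the ring in a degree. -/
def ExtVan (j : ℕ) (M : (Proj (CohB1.polyGrading n k)).Modules) : Prop :=
  ∀ c, Subsingleton (Ext.{u} (secMod k c M) (ModuleCat.of (chartRing k n c) (chartRing k n c)) j)

/-- Injectivity on top cohomology of very negative twists is read on the charts. -/
theorem eventually_injective_iff {M M' : (Proj (CohB1.polyGrading n k)).Modules} (hM : Coh.IsCoh M)
    (hM' : Coh.IsCoh M') (g : M ⟶ M')
    (hrev : ∀ᶠ d : ℤ in atTop, Epi ((homMap g).app (Ptw d)) →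
      Function.Surjective fun φ : M' ⟶ Ptw d => g ≫ φ) :
    (∀ᶠ e : ℤ in atBot, Function.Injective (Canon.HHlin k ((twF e).map g) n)) ↔
      ∀ c, Function.Surjective
        (fun φ : secMod k c M' ⟶ ModuleCat.of (chartRing k n c) (chartRing k n c) =>
          (moduleSpecΓFunctor (R := chartRing k n c)).map ((Scheme.Modules.restrictFunctor (chart k n c)).map g) ≫ φ) := by
  have h1 := eventually_epi_of_surjective hM g
  constructor
  · intro h
    obtain ⟨e₀, he₀⟩ := eventually_atBot.1 h
    obtain ⟨d₀, hd₀⟩ := eventually_atTop.1 h1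
    have hd := hd₀ (max d₀ (-((n : ℤ) + 1) - e₀)) (le_max_left _ _)
      ((surjective_iff_injective hM hM' g _ (-((n : ℤ) + 1) - max d₀ (-((n : ℤ) + 1) - e₀)) (by ring)).2
        (he₀ _ (by omega)))
    exact (epi_homMap_iff hM hM' g _).1 hd
  · intro h
    obtain ⟨d₀, hd₀⟩ := eventually_atTop.1 hrev
    refine eventually_atBot.2 ⟨-((n : ℤ) + 1) - d₀, fun e he => ?_⟩
    exact (surjective_iff_injective hM hM' g (-((n : ℤ) + 1) - e) e (by ring)).1
      (hd₀ _ (by omega) ((epi_homMap_iff hM hM' g _).2 h))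

/-- The top degree. -/
theorem negVan_top_iff {M : (Proj (CohB1.polyGrading n k)).Modules} (hM : Coh.IsCoh M) :
    NegVan n M ↔ ExtVan 0 M := by
  have hrev : ∀ᶠ d : ℤ in atTop, Epi ((homMap (0 : M ⟶ M)).app (Ptw d)) →
      Function.Surjective fun φ : M ⟶ Ptw d => (0 : M ⟶ M) ≫ φ := by
    refine Eventually.of_forall fun d he ψ => ⟨0, ?_⟩
    haveI := he
    obtain ⟨a, rfl⟩ := (ev M (Ptw d)).surjective ψ
    have hz : (homMap (0 : M ⟶ M)).app (Ptw d) = 0 := by
      apply ((adj M).homEquiv _ _).symm.injective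
      rw [← Category.id_comp ((homMap (0 : M ⟶ M)).app (Ptw d)), homEquiv_homMap]
      haveI : (ten M).Additive := (adj M).left_adjoint_additive
      simp only [Functor.map_zero, zero_app, zero_comp]
      exact (((adj M).homEquiv _ _).symm_apply_eq.2 (((adj M).homAddEquiv _ _).map_zero).symm).symm
    have : a = 0 := by
      have hid : (𝟙 ((hom M).obj (Ptw d))) = 0 := by
        apply (cancel_epi ((homMap (0 : M ⟶ M)).app (Ptw d))).1
        rw [hz, zero_comp, zero_comp]
      rw [← Category.comp_id a, hid, comp_zero]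
    simp [this]
  have key := eventually_injective_iff hM hM (0 : M ⟶ M) hrev
  have h0 : ∀ e : ℤ, Function.Injective (Canon.HHlin k ((twF e).map (0 : M ⟶ M)) n) ↔
      Subsingleton (Coh.HH PP ((twF e).obj M) n) := fun e => by
    rw [Functor.map_zero]
    refine ⟨fun h => ⟨fun x y => h ?_⟩, fun h x y _ => h.elim x y⟩
    rw [TwistSum.HHlin_zero', TwistSum.HHlin_zero']
  refine Iff.trans (eventually_congr (Eventually.of_forall fun e => (h0 e).symm)) (key.trans ?_)
  refine forall_congr' fun c => ?_
  haveI : (Scheme.Modules.restrictFunctor (chart k n c)).Additive :=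
    Functor.additive_of_preserves_binary_products _
  haveI : (moduleSpecΓFunctor (R := chartRing k n c)).Additive :=
    (tilde.adjunction (R := chartRing k n c)).right_adjoint_additive
  simp only [Functor.map_zero, zero_comp]
  refine ⟨fun h => ⟨fun x y => ?_⟩, fun h ψ => ⟨0, ((Ext.mk₀_bijective _ _).1 (h.elim _ _))⟩⟩
  obtain ⟨x, rfl⟩ := (Ext.mk₀_bijective _ _).2 x
  obtain ⟨y, rfl⟩ := (Ext.mk₀_bijective _ _).2 y
  obtain ⟨_, rfl⟩ := h x
  obtain ⟨_, rfl⟩ := h y
  rfl

/-- A presentation by a sum of twists. -/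
theorem exists_presentation {M : (Proj (CohB1.polyGrading n k)).Modules} (hM : Coh.IsCoh M) :
    ∃ S : ShortComplex (Proj (CohB1.polyGrading n k)).Modules, S.ShortExact ∧ S.X₃ = M ∧ Coh.IsCoh S.X₁ ∧
      Coh.IsCoh S.X₂ ∧ (∀ q, q < n → NegVan q S.X₂) ∧ ∀ c, Projective (secMod k c S.X₂) := by
  haveI hP : IsNoetherian (Proj (CohB1.polyGrading n k)) := Proj16.isNoetherian_proj _
  haveI : IsLocallyNoetherian (Proj (CohB1.polyGrading n k)) := hP.toIsLocallyNoetherian
  obtain ⟨m, hm⟩ := eventually_atTop.1 (eventually_generated hM)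
  haveI : Module.Finite k (Coh.HH PP ((twF m).obj M) 0) :=
    projSpace_finite_HH n k _ (Horrocks.isCoh_twF hM m) 0
  obtain ⟨b, ψ, -, hg⟩ := exists_sigma_hom k ((twF m).obj M)
  haveI : Epi ψ := hg (hm m le_rfl)
  obtain ⟨w1⟩ := twF_twF_iso M m (-m) 0 (by ring)
  obtain ⟨w2⟩ := twF_zero_iso (k := k) (n := n) M
  obtain ⟨w3⟩ := twF_sigma_unit_iso (k := k) (n := n) b (-m)
  haveI : Epi ((twF (k := k) (n := n) (-m)).map ψ) := inferInstance
  let φ : (∐ fun _ : Fin b => Ptw (-m)) ⟶ M := w3.inv ≫ (twF (-m)).map ψ ≫ (w1 ≪≫ w2).hom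
  haveI : Epi φ := inferInstance
  refine ⟨ShortComplex.mk (kernel.ι φ) φ (kernel.condition φ),
    { exact := ShortComplex.exact_of_f_is_kernel _ (kernelIsKernel φ) }, rfl,
    QCoh.isCoh_kernel (isCoh_sigma_twist b (-m)) hM φ, isCoh_sigma_twist b (-m), fun q hq => ?_, fun c => ?_⟩
  · refine eventually_atBot.2 ⟨m - 1, fun e he => ?_⟩
    obtain ⟨w⟩ := twF_sigma_iso (k := k) (n := n) b (-m) e
    exact QCoh.subsingleton_HH_of_iso w.symm q
      (subsingleton_HH_sigma_twist b _ q (fun h => by omega) (fun h => by omega))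
  · obtain ⟨t⟩ := nonempty_twist_chart (k := k) c (-m)
    haveI := AffineHomExt.projective_gamma_free (R := chartRing k n c) (ULift.{u} (Fin b))
    exact Projective.of_iso ((moduleSpecΓFunctor (R := chartRing k n c)).mapIso
      ((Sigma.whiskerEquiv (f := fun _ : ULift.{u} (Fin b) => Coh.structureModule (Spec (chartRing k n c)))
          (g := fun _ : Fin b => (Scheme.Modules.restrictFunctor (chart k n c)).obj (Ptw (-m)))
          Equiv.ulift fun _ => t) ≪≫
        (PreservesCoproduct.iso (Scheme.Modules.restrictFunctor (chart k n c)) fun _ : Fin b => Ptw (-m)).symm))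
      this

/-- One step of dimension shifting on the side of cohomology. -/
theorem negVan_succ_iff {S : ShortComplex (Proj (CohB1.polyGrading n k)).Modules} (hS : S.ShortExact)
    (hv : ∀ q, q < n → NegVan q S.X₂) (i : ℕ) (hi : i + 1 < n) :
    NegVan i S.X₃ ↔ NegVan (i + 1) S.X₁ := by
  refine eventually_congr ?_
  filter_upwards [hv i (by omega), hv (i + 1) hi] with e h₁ h₂
  rw [subsingleton_twist_X₃_iff (k := k) (coords k n) coords_mem coords_cover hS e i h₁]
  exact ⟨fun h => h.subsingleton, fun h x y _ => h.elim x y⟩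

/-- The key equivalence. -/
theorem negVan_iff (j : ℕ) : ∀ (i : ℕ), i + j = n → ∀ {M : (Proj (CohB1.polyGrading n k)).Modules},
    Coh.IsCoh M → (NegVan i M ↔ ExtVan j M) := by
  induction j with
  | zero =>
    intro i hi M hM
    obtain rfl : i = n := by omega
    exact negVan_top_iff hM
  | succ j ih =>
    intro i hi M hM
    obtain ⟨S, hS, rfl, hK, hP, hv, hproj⟩ := exists_presentation hM
    have hse : ∀ c, ∃ T : ShortComplex (ModuleCat.{u} (chartRing k n c)),
        T.ShortExact ∧ ∃ (_ : Projective T.X₂), T.X₁ = secMod k c S.X₁ ∧ T.X₃ = secMod k c S.X₃ ∧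
          (Subsingleton (Ext.{u} T.X₃ (ModuleCat.of (chartRing k n c) (chartRing k n c)) 1) ↔
            Function.Surjective
              (fun φ : secMod k c S.X₂ ⟶ ModuleCat.of (chartRing k n c) (chartRing k n c) =>
                (moduleSpecΓFunctor (R := chartRing k n c)).map
                  ((Scheme.Modules.restrictFunctor (chart k n c)).map S.f) ≫ φ)) := by
      intro c
      haveI : (Scheme.Modules.restrictFunctor (chart k n c)).Additive :=
        Functor.additive_of_preserves_binary_products _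
      haveI := PreservesFiniteLimits.preservesFiniteLimits (F := Scheme.Modules.restrictFunctor (chart k n c))
      obtain ⟨w, hT⟩ := AffineHomExt.gamma_shortExact
        (hS.map_of_exact (Scheme.Modules.restrictFunctor (chart k n c))) (QCoh.isQCoh_restrict _ hK.1)
      haveI := hproj c
      exact ⟨_, hT, hproj c, rfl, rfl, @AffineHomExt.subsingleton_ext_one_iff _ _ _ hT _ (hproj c)⟩
    rcases j with _ | j
    · obtain rfl : i + 1 = n := by omega
      have key := eventually_injective_iff hK hP S.f (eventually_surjective_of_epi hS hM)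
      refine Iff.trans ?_ (key.trans ?_)
      · refine eventually_congr ?_
        filter_upwards [hv i (by omega)] with e he
        exact subsingleton_twist_X₃_iff (k := k) (coords k (i + 1)) coords_mem coords_cover hS e i he
      · refine forall_congr' fun c => ?_
        obtain ⟨T, -, -, -, h3, h⟩ := hse c
        rw [← h, h3]
    · rw [negVan_succ_iff hS hv i (by omega), ih (i + 1) (by omega) hK]
      refine forall_congr' fun c => ?_
      obtain ⟨T, hT, hp, h1, h3, -⟩ := hse c
      haveI := hp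
      rw [← h1, ← h3]
      exact AffineHomExt.subsingleton_ext_iff_succ hT _ j

end Groth.Agent.PnNegVan
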