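import Groth.Agent.Lib.ExtShCoh
import Groth.Agent.Lib.PnNegVan
import Groth.Agent.Lib.ExtClosed
import Groth.Agent.Lib.PnDualSheafHom
import Groth.Agent.ModTensor.SheafHom
import Groth.Agent.PnCoh.PushNat
import Mathlib.CategoryTheory.Abelian.Injective.Ext

/-!
Global `Ext` is the sections of the local `Ext` when the local ones have no higher cohomology.
-/

set_option linter.style.haveILetI false
set_option linter.unusedSectionVars false
set_option backward.isDefEq.respectTransparency false
set_option backward.isDefEq.respectTransparency.types false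
set_option maxHeartbeats 1000000

universe u w v u₁

open CategoryTheory CategoryTheory.Limits AlgebraicGeometry TopologicalSpace Opposite
open CategoryTheory.Abelian

noncomputable section

namespace Groth.Agent.ExtGlobal

open Groth.Agent.SheafHomX Groth.Agent.KFlatLib

variable {X : Scheme.{u}}

/-- No higher cohomology. -/
def Acyclic (M : X.Modules) : Prop := ∀ p : ℕ, Subsingleton (Coh.HH X M (p + 1))

theorem acyclic_of_isZero {M : X.Modules} (h : IsZero M) : Acyclic M := fun p =>
  subsingleton_of_forall_eq 0 fun x => by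
    have hid : 𝟙 (Coh.toAb M) = 0 := (Functor.map_isZero (QCoh.toAbFunctor X) h).eq_of_src _ _
    rw [← Ext.comp_mk₀_id x, hid, Ext.mk₀_zero, Ext.comp_zero]

theorem subsingleton_H_X₃ {Y : TopCat.{u}} {T : ShortComplex (CohTop.Ab Y)} (hT : T.ShortExact) (n : ℕ)
    (h₂ : Subsingleton (CohTop.H T.X₂ n)) (h₁ : Subsingleton (CohTop.H T.X₁ (n + 1))) :
    Subsingleton (CohTop.H T.X₃ n) := by
  refine subsingleton_of_forall_eq 0 fun x => ?_
  obtain ⟨y, rfl⟩ := Ext.covariant_sequence_exact₃ _ hT x rfl (h₁.elim _ _)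
  rw [h₂.elim y 0]
  exact Ext.zero_comp _ _ _ _ _

theorem Acyclic.X₂ {S : ShortComplex X.Modules} (hS : S.ShortExact) (h₁ : Acyclic S.X₁) (h₃ : Acyclic S.X₃) :
    Acyclic S.X₂ := fun p => QCoh.subsingleton_HH_X₂ hS _ (h₁ p) (h₃ p)

theorem Acyclic.X₃ {S : ShortComplex X.Modules} (hS : S.ShortExact) (h₁ : Acyclic S.X₁) (h₂ : Acyclic S.X₂) :
    Acyclic S.X₃ := fun p => subsingleton_H_X₃ (Y := X.toPresheafedSpace.carrier)
      (T := S.map (QCoh.toAbFunctor X)) (QCoh.toAb_shortExact hS) (p + 1) (h₂ p) (h₁ (p + 1))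

/-- The internal hom into an injective has no higher cohomology. -/
theorem acyclic_hom_injective (F I : X.Modules) [ModSite.HasSheafHom (O := X.sheaf) F] [Injective I] :
    Acyclic ((hom F).obj I) := by
  haveI : Injective (C := ModSite.Mod X.sheaf) I := inferInstanceAs (Injective I)
  let σ : ModSite.sheafHom (O := X.sheaf) F ≅ hom F :=
    (ModSite.sheafHomAdj (O := X.sheaf) F).rightAdjointUniq (adj F)
  have h := ModTensor.isTotallyAcyclic_sheafHom_injective (O := X.sheaf) F I
  intro p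
  refine QCoh.subsingleton_HH_of_iso (σ.app I) (p + 1) ?_
  refine subsingleton_of_forall_eq 0 fun x => ?_
  have h1 : (Ext.mk₀ (SiteBase.constIsoFreeSh (Opens.grothendieckTopology X)).inv).comp x (zero_add (p + 1)) = 0 :=
    (h ((presheafToSheaf (Opens.grothendieckTopology X) (Type u)).obj ((Functor.const _).obj PUnit.{u + 1})) p).elim _ _
  have := congrArg (fun e => (Ext.mk₀ (SiteBase.constIsoFreeSh (Opens.grothendieckTopology X)).hom).comp e
    (zero_add (p + 1))) h1
  rw [Ext.mk₀_comp_mk₀_assoc, Iso.hom_inv_id, Ext.mk₀_id_comp, Ext.comp_zero] at this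
  exact this

section Complex

variable (C : CochainComplex X.Modules ℕ) (hC : ∀ q, Acyclic (C.X q))

/-- The boundaries. -/
abbrev bd (q : ℕ) : X.Modules := kernel (C.homologyπ q)

/-- Onto the boundaries. -/
def toBd (p q : ℕ) : C.X p ⟶ bd C q := kernel.lift _ (C.toCycles p q) (C.toCycles_comp_homologyπ p q)

theorem toBd_ι (p q : ℕ) : toBd C p q ≫ kernel.ι (C.homologyπ q) = C.toCycles p q := kernel.lift_ι _ _ _

theorem shortExact_cycles (q : ℕ) :
    (ShortComplex.mk (kernel.ι (C.homologyπ q)) (C.homologyπ q) (kernel.condition _)).ShortExact :=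
  { exact := ShortComplex.exact_of_f_is_kernel _ (kernelIsKernel _) }

theorem shortExact_bd (q : ℕ) :
    ∃ w, (ShortComplex.mk (C.iCycles q) (toBd C q (q + 1)) w).ShortExact := by
  have w : C.iCycles q ≫ toBd C q (q + 1) = 0 := by
    rw [← cancel_mono (kernel.ι (C.homologyπ (q + 1))), Category.assoc, toBd_ι, zero_comp,
      ← cancel_mono (C.iCycles (q + 1)), Category.assoc, C.toCycles_i, C.iCycles_d, zero_comp]
  refine ⟨w, ?_⟩
  haveI : Epi (ShortComplex.mk (C.iCycles q) (toBd C q (q + 1)) w).g := by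
    have hx : (ShortComplex.mk (C.toCycles q (q + 1)) (C.homologyπ (q + 1))
        (C.toCycles_comp_homologyπ _ _)).Exact :=
      ShortComplex.exact_of_g_is_cokernel _ (C.homologyIsCokernel q (q + 1) (by simp))
    exact (ShortComplex.exact_iff_epi_kernel_lift _).1 hx
  refine { exact := ShortComplex.exact_of_f_is_kernel _ (KernelFork.IsLimit.ofι' _ w fun {Z} a ha => ?_) }
  refine ⟨C.liftCycles a (q + 1) (by simp) ?_, C.liftCycles_i _ _ _ _⟩
  have h1 := congrArg (· ≫ kernel.ι (C.homologyπ (q + 1)) ≫ C.iCycles (q + 1)) ha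
  simp only [zero_comp, Category.assoc] at h1
  rw [← h1, ← Category.assoc (toBd C q (q + 1)), toBd_ι, C.toCycles_i]

include hC in
theorem acyclic_parts : ∀ q : ℕ, (∀ q' ≤ q, Acyclic (C.homology q')) →
    Acyclic (bd C q) ∧ Acyclic (C.cycles q) := by
  intro q
  induction q with
  | zero =>
    intro h
    haveI : IsIso (C.homologyπ 0) := C.isIso_homologyπ _ 0 rfl (C.shape _ _ (by simp))
    have hb : Acyclic (bd C 0) := acyclic_of_isZero (isZero_kernel_of_mono _)
    exact ⟨hb, Acyclic.X₂ (shortExact_cycles C 0) hb (h 0 le_rfl)⟩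
  | succ q ih =>
    intro h
    obtain ⟨w, hw⟩ := shortExact_bd C q
    have hb : Acyclic (bd C (q + 1)) :=
      Acyclic.X₃ hw (ih fun q' hq' => h q' (by omega)).2 (hC q)
    exact ⟨hb, Acyclic.X₂ (shortExact_cycles C (q + 1)) hb (h _ le_rfl)⟩

include hC in
theorem exists_lift (q : ℕ) (h : ∀ q' ≤ q, Acyclic (C.homology q'))
    (φ : Coh.structureModule X ⟶ C.homology q) :
    ∃ a : Coh.structureModule X ⟶ C.cycles q, a ≫ C.homologyπ q = φ :=
  PnNegVan.surjective_sections_of_epi (C.homologyπ q) ((acyclic_parts C hC q h).1 0) φ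

include hC in
theorem exists_of_comp_eq_zero (q : ℕ) (h : ∀ q' ≤ q, Acyclic (C.homology q'))
    (a : Coh.structureModule X ⟶ C.cycles q) (ha : a ≫ C.homologyπ q = 0) :
    ∃ b : Coh.structureModule X ⟶ C.X (q - 1), b ≫ C.toCycles (q - 1) q = a := by
  rcases q with _ | q
  · haveI : IsIso (C.homologyπ 0) := C.isIso_homologyπ _ 0 rfl (C.shape _ _ (by simp))
    refine ⟨0, ?_⟩
    rw [zero_comp]
    exact ((cancel_mono (C.homologyπ 0)).1 (ha.trans zero_comp.symm)).symm
  obtain ⟨w, hw⟩ := shortExact_bd C q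
  haveI := hw.epi_g
  haveI : Subsingleton (Coh.HH X (kernel (toBd C q (q + 1))) 1) :=
    QCoh.subsingleton_HH_of_iso (IsLimit.conePointUniqueUpToIso hw.fIsKernel (kernelIsKernel _)) 1
      ((acyclic_parts C hC q fun q' hq' => h q' (by omega)).2 0)
  obtain ⟨b, hb⟩ := PnNegVan.surjective_sections_of_epi (toBd C q (q + 1)) inferInstance (kernel.lift _ a ha)
  refine ⟨b, ?_⟩
  show b ≫ C.toCycles q (q + 1) = a
  rw [← toBd_ι, ← Category.assoc, show b ≫ toBd C q (q + 1) = kernel.lift _ a ha from hb, kernel.lift_ι]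

end Complex

section Sections

theorem ev_naturality (F : X.Modules) {N N' : X.Modules} (g : N ⟶ N')
    (a : Coh.structureModule X ⟶ (hom F).obj N) : ev F N' (a ≫ (hom F).map g) = ev F N a ≫ g := by
  show (tenUnitIso F).inv ≫ ((adj F).homEquiv _ _).symm (a ≫ (hom F).map g) =
    ((tenUnitIso F).inv ≫ ((adj F).homEquiv _ _).symm a) ≫ g
  rw [(adj F).homEquiv_naturality_right_symm, Category.assoc]

/-- Maps out of the structure sheaf are cohomology in degree zero. -/
def secEquiv (M : X.Modules) : (Coh.structureModule X ⟶ M) ≃+ Coh.HH X M 0 :=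
  (AddEquiv.ofBijective
    (AddMonoidHom.mk' (fun φ : Coh.structureModule X ⟶ M => SiteBase.oneHom X.ringCatSheaf ≫
        (SheafOfModules.toSheaf X.ringCatSheaf).map φ)
      (fun _ _ => by rw [Functor.map_add, Preadditive.comp_add]))
    (SiteBase.oneHom_comp_bijective (R := X.ringCatSheaf) M)).trans Ext.addEquiv₀.symm

theorem secEquiv_apply (M : X.Modules) (φ : Coh.structureModule X ⟶ M) :
    secEquiv M φ = Ext.mk₀ (SiteBase.oneHom X.ringCatSheaf ≫ (SheafOfModules.toSheaf X.ringCatSheaf).map φ) :=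
  rfl

theorem secEquiv_comp {M M' : X.Modules} (g : M ⟶ M') (φ : Coh.structureModule X ⟶ M) :
    secEquiv M' (φ ≫ g) = Sheaf.H.map ((SheafOfModules.toSheaf X.ringCatSheaf).map g) 0 (secEquiv M φ) := by
  rw [secEquiv_apply, secEquiv_apply, Functor.map_comp, ← Category.assoc]
  exact (Ext.mk₀_comp_mk₀ _ _).symm

end Sections

variable {A : Type u} [CommRing A] [X.Over (Spec (CommRingCat.of A))] [HasExt.{u} X.Modules]

/-- Global `Ext` is the sections of local `Ext` when these have no higher cohomology up to the degree. -/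
theorem nonempty_ext_equiv (F L : X.Modules) [ModSite.HasSheafHom (O := X.sheaf) F]
    [HasInjectiveResolutions (ModSite.Mod X.sheaf)] (i : ℕ)
    (h : ∀ q ≤ i, Acyclic ((ModSite.extSh (O := X.sheaf) F q).obj L)) :
    Nonempty (Ext.{u} F L i ≃ₗ[A] Coh.HH X ((ModSite.extSh (O := X.sheaf) F i).obj L) 0) := by
  haveI : HasInjectiveResolutions X.Modules := inferInstanceAs (HasInjectiveResolutions (ModSite.Mod X.sheaf))
  let I : InjectiveResolution L := InjectiveResolution.of _
  let C := ExtShShift.cx I F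
  have hC : ∀ q, Acyclic (C.X q) := fun q =>
    haveI := I.injective q; acyclic_hom_injective F (I.cocomplex.X q)
  have hH : ∀ q ≤ i, Acyclic (C.homology q) := fun q hq p => by
    obtain ⟨a⟩ := ExtShShift.nonempty_extSh_iso I F q
    exact QCoh.subsingleton_HH_of_iso a (p + 1) (h q hq p)
  -- cocycles
  let Z : AddSubgroup (F ⟶ I.cocomplex.X i) :=
    (AddMonoidHom.mk' (fun f : F ⟶ I.cocomplex.X i => f ≫ I.cocomplex.d i (i + 1))
      fun _ _ => Preadditive.add_comp _ _ _ _ _ _).ker
  have hd : ∀ f : Z, (ev F _).symm (f : F ⟶ I.cocomplex.X i) ≫ C.d i (i + 1) = 0 := fun f => by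
    apply (ev F _).injective
    rw [map_zero]
    refine (ev_naturality F _ _).trans ?_
    rw [AddEquiv.apply_symm_apply]
    exact f.2
  let lc : Z → (Coh.structureModule X ⟶ C.cycles i) := fun f =>
    C.liftCycles ((ev F _).symm (f : F ⟶ I.cocomplex.X i)) (i + 1) (by simp) (hd f)
  have hlc : ∀ f, lc f ≫ C.iCycles i = (ev F _).symm (f : F ⟶ I.cocomplex.X i) := fun f => C.liftCycles_i _ _ _ _
  let toExt : Z →+ Ext.{u} F L i := AddMonoidHom.mk' (fun f => I.extMk f.1 (i + 1) rfl f.2)
    fun f g => (I.add_extMk _ _ _ _ _ _).symm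
  let toHom : Z →+ (Coh.structureModule X ⟶ C.homology i) := AddMonoidHom.mk'
    (fun f => lc f ≫ C.homologyπ i) fun f g => by
      rw [← Preadditive.add_comp]
      congr 1
      rw [← cancel_mono (C.iCycles i), Preadditive.add_comp, hlc, hlc, hlc]
      exact map_add _ _ _
  have hs1 : Function.Surjective toExt := fun x => by
    obtain ⟨f, hf, rfl⟩ := I.extMk_surjective x (i + 1) rfl
    exact ⟨⟨f, hf⟩, rfl⟩
  have hs2 : Function.Surjective toHom := fun φ => by
    obtain ⟨a, rfl⟩ := exists_lift C hC i hH φ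
    have hf : ev F _ (a ≫ C.iCycles i) ≫ I.cocomplex.d i (i + 1) = 0 := by
      rw [← ev_naturality, Category.assoc,
        show C.iCycles i ≫ (hom F).map (I.cocomplex.d i (i + 1)) = 0 from C.iCycles_d i (i + 1), comp_zero, map_zero]
    refine ⟨⟨_, hf⟩, ?_⟩
    show lc _ ≫ C.homologyπ i = a ≫ C.homologyπ i
    congr 1
    rw [← cancel_mono (C.iCycles i), hlc]
    exact (ev F _).symm_apply_apply _
  have hker : ∀ f, toExt f = 0 ↔ toHom f = 0 := fun f => by
    refine (ExtClosed.extMk_eq_zero_iff I i f.1 f.2).trans ⟨?_, ?_⟩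
    · rintro ⟨g, hg⟩
      show lc f ≫ C.homologyπ i = 0
      have h1 : lc f = (ev F _).symm g ≫ C.toCycles (i - 1) i := by
        rw [← cancel_mono (C.iCycles i), hlc, Category.assoc, C.toCycles_i, ← hg]
        apply (ev F _).injective
        rw [AddEquiv.apply_symm_apply]
        refine Eq.symm ((ev_naturality F _ _).trans ?_)
        rw [AddEquiv.apply_symm_apply]
      rw [h1, Category.assoc, C.toCycles_comp_homologyπ, comp_zero]
    · intro h0
      obtain ⟨b, hb⟩ := exists_of_comp_eq_zero C hC i hH (lc f) h0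
      refine ⟨ev F _ b, ?_⟩
      rw [← ev_naturality, show b ≫ (hom F).map (I.cocomplex.d (i - 1) i) = lc f ≫ C.iCycles i by
        rw [← hb, Category.assoc, C.toCycles_i]; rfl, hlc, AddEquiv.apply_symm_apply]
  obtain ⟨e, he⟩ := PnCoh.exists_equiv_of_surjective toExt toHom hs1 hs2 hker
  obtain ⟨a⟩ := ExtShShift.nonempty_extSh_iso I F i
  let e' : Ext.{u} F L i ≃+ Coh.HH X ((ModSite.extSh (O := X.sheaf) F i).obj L) 0 :=
    e.trans (({ toEquiv := (Iso.homToEquiv a.symm)
                map_add' := fun x y => Preadditive.add_comp _ _ _ _ _ _ } :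
      (Coh.structureModule X ⟶ C.homology i) ≃+ (Coh.structureModule X ⟶ _)).trans (secEquiv _))
  refine ⟨{ e' with map_smul' := fun c x => ?_ }⟩
  obtain ⟨f, rfl⟩ := hs1 x
  let sZ : Z := ⟨Formal.smulMod A F c ≫ f.1, by
    show (Formal.smulMod A F c ≫ f.1) ≫ I.cocomplex.d i (i + 1) = 0
    rw [Category.assoc, show f.1 ≫ I.cocomplex.d i (i + 1) = 0 from f.2, comp_zero]⟩
  have hx : c • toExt f = toExt sZ := by
    show c • I.extMk f.1 (i + 1) rfl f.2 = I.extMk (Formal.smulMod A F c ≫ f.1) (i + 1) rfl sZ.2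
    rw [← I.mk₀_comp_extMk f.1 (i + 1) rfl f.2, ← KLin.smul_id, Ext.mk₀_smul, Ext.smul_comp, Ext.mk₀_id_comp]
  have hT : toHom sZ = toHom f ≫ Formal.smulMod A (C.homology i) c := by
    show lc sZ ≫ C.homologyπ i = (lc f ≫ C.homologyπ i) ≫ _
    rw [Category.assoc, show C.homologyπ i ≫ Formal.smulMod A (C.homology i) c =
        Formal.smulMod A (C.cycles i) c ≫ C.homologyπ i from KLin.comp_smulModΓ _ _, ← Category.assoc]
    congr 1
    rw [← cancel_mono (C.iCycles i), hlc, Category.assoc, show Formal.smulMod A (C.cycles i) c ≫ C.iCycles i =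
        C.iCycles i ≫ Formal.smulMod A (C.X i) c from (KLin.comp_smulModΓ _ _).symm, ← Category.assoc, hlc]
    apply (ev F _).injective
    rw [AddEquiv.apply_symm_apply, show Formal.smulMod A (C.X i) c = (hom F).map (Formal.smulMod A (I.cocomplex.X i) c)
      from (SheafHomX.hom_map_smulMod F _ c).symm, ev_naturality, AddEquiv.apply_symm_apply]
    exact (KLin.comp_smulModΓ _ _).symm
  show e' (c • toExt f) = c • e' (toExt f)
  rw [hx]
  show secEquiv _ (e (toExt sZ) ≫ a.inv) = c • secEquiv _ (e (toExt f) ≫ a.inv)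
  rw [he, he, hT, Category.assoc, show Formal.smulMod A (C.homology i) c ≫ a.inv = a.inv ≫ Formal.smulMod A _ c
    from (KLin.comp_smulModΓ _ _).symm, ← Category.assoc, secEquiv_comp]
  rfl

end Groth.Agent.ExtGlobal
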