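import Groth.Agent.Lib.LerayLow
import Groth.Agent.QCoh.RpushModel

/-!
The lowest nonzero higher direct image computes cohomology, linearly.
-/

set_option autoImplicit false
set_option linter.style.haveILetI false
set_option linter.unusedSectionVars false
set_option backward.isDefEq.respectTransparency false
set_option backward.isDefEq.respectTransparency.types false
set_option maxHeartbeats 1000000

universe u

open CategoryTheory CategoryTheory.Limits AlgebraicGeometry TopologicalSpace Opposite

noncomputable section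

namespace Groth.Agent.LerayEdgeLin

open Groth.Agent Groth.Agent.QCoh

variable {X Y : Scheme.{u}}

/-- Global sections of a cokernel between flasque ends. -/
theorem cokernel_sections {A C B : Y.Modules} (k : A ⟶ C) [Mono k] (α : C ⟶ B) (hk : k ≫ α = 0)
    (hex : (ShortComplex.mk k α hk).Exact) (hA : IsFlasqueMod A) (hC : IsFlasqueMod C) :
    Function.Surjective ((cokernel.π α).app ⊤) ∧
      ∀ b, (cokernel.π α).app ⊤ b = 0 → ∃ a, α.app ⊤ a = b := by
  obtain ⟨j, hj, hjm⟩ : ∃ j : cokernel k ⟶ B, cokernel.π k ≫ j = α ∧ Mono j :=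
    ⟨_, cokernel.π_desc k α hk, (ShortComplex.exact_iff_mono_cokernel_desc _).1 hex⟩
  haveI := hjm
  have hS₁ : (ShortComplex.mk k (cokernel.π k) (cokernel.condition _)).ShortExact :=
    { exact := ShortComplex.exact_of_g_is_cokernel _ (cokernelIsCokernel _) }
  have hS₂ : (ShortComplex.mk j (cokernel.π j) (cokernel.condition _)).ShortExact :=
    { exact := ShortComplex.exact_of_g_is_cokernel _ (cokernelIsCokernel _) }
  have hflI : IsFlasqueMod (cokernel k) := isFlasqueMod_X₃ hS₁ hA hC
  have hg₁ : Function.Surjective ((cokernel.π k).app ⊤) := fun t =>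
    haveI := hA
    SiteBase.surjective_sections_of_HU_one (toAb_shortExact hS₁) ⊤
      (SiteBase.subsingleton_HU_of_isFlasque (X := Y.toPresheafedSpace.carrier) (abSheaf A) ⊤ 0) t
  have hg₂ : Function.Surjective ((cokernel.π j).app ⊤) := fun t =>
    haveI := hflI
    SiteBase.surjective_sections_of_HU_one (toAb_shortExact hS₂) ⊤
      (SiteBase.subsingleton_HU_of_isFlasque (X := Y.toPresheafedSpace.carrier) (abSheaf (cokernel k)) ⊤ 0) t
  let e : cokernel α ≅ cokernel j := (cokernelIsoOfEq hj).symm ≪≫ cokernelEpiComp (cokernel.π k) j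
  have he : cokernel.π α ≫ e.hom = cokernel.π j := by simp [e]
  have hja : ∀ a, j.app ⊤ ((cokernel.π k).app ⊤ a) = α.app ⊤ a := fun a =>
    congr($(congrArg (fun m : C ⟶ B => m.app ⊤) hj) a)
  have hbij : Function.Bijective (e.hom.app ⊤) := ConcreteCategory.bijective_of_isIso (e.hom.app ⊤)
  have hea : ∀ b, e.hom.app ⊤ ((cokernel.π α).app ⊤ b) = (cokernel.π j).app ⊤ b := fun b =>
    congr($(congrArg (fun m : B ⟶ cokernel j => m.app ⊤) he) b)
  refine ⟨fun t => ?_, fun b hb => ?_⟩
  · obtain ⟨b, hb⟩ := hg₂ (e.hom.app ⊤ t)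
    exact ⟨b, hbij.1 ((hea b).trans hb)⟩
  · obtain ⟨c, hc⟩ := exists_app_f_eq hS₂ ⊤ b
      ((hea b).symm.trans ((congrArg (e.hom.app ⊤) hb).trans (map_zero _)))
    obtain ⟨a, rfl⟩ := hg₁ c
    exact ⟨a, (hja a).symm.trans hc⟩

variable (f : X ⟶ Y) [HasInjectiveResolutions X.Modules] {M : X.Modules}

/-- Below `p` no direct images: `H^p` is the global sections of `R^p f_*`. -/
theorem nonempty_sections_HH (p : ℕ) (hlow : ∀ n < p, IsZero ((Coh.Rpush f n).obj M)) :
    letI := modHH f.appTop.hom M p
    Nonempty (Γ((Coh.Rpush f p).obj M, ⊤) ≃ₗ[Γ(Y, ⊤)] Coh.HH X M p) := by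
  haveI := SpObjSS.enoughInjectives_of_hasInjectiveResolutions (C := X.Modules)
  haveI := QCoh.preservesFiniteLimits_push f
  let := secModule f.appTop.hom (godQ M p) ⊤
  let := modHH f.appTop.hom M p
  obtain ⟨a, ha, hker⟩ := exists_classMap f.appTop.hom M p
  let θ : Γ((Scheme.Modules.pushforward f).obj (godQ M p), ⊤) →ₗ[Γ(Y, ⊤)] Coh.HH X M p :=
    { toFun := fun z => a (show Γ(godQ M p, ⊤) from z)
      map_add' := fun z w => map_add a _ _
      map_smul' := fun r z => by
        refine Eq.trans (congrArg a ?_) (map_smul a r (show Γ(godQ M p, ⊤) from z))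
        show (show Γ(X, ⊤) from (f.app ⊤).hom r) • (show Γ(godQ M p, ⊤) from z) =
          (X.presheaf.map (homOfLE (le_top : (⊤ : X.Opens) ≤ ⊤)).op).hom (f.appTop.hom r) •
            (show Γ(godQ M p, ⊤) from z)
        rw [show (homOfLE (le_top : (⊤ : X.Opens) ≤ ⊤)).op = 𝟙 (op (⊤ : X.Opens)) from rfl, X.presheaf.map_id]
        rfl }
  cases p with
  | zero =>
    let e := (Scheme.Modules.pushforward f).rightDerivedZeroIsoSelf.app M
    refine ⟨(LinearEquiv.ofBijective (appLin e.hom ⊤)
      (ConcreteCategory.bijective_of_isIso (e.hom.app ⊤))).trans (LinearEquiv.ofBijective θ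
        ⟨(injective_iff_map_eq_zero θ).2 fun z hz => ?_, ha⟩)⟩
    exact (Submodule.mem_bot (R := Γ(X, ⊤)) (M := Γ(godQ M 0, ⊤))).1 ((hker _).1 hz)
  | succ q =>
    have hM0 : IsZero ((Scheme.Modules.pushforward f).obj M) :=
      (hlow 0 q.succ_pos).of_iso ((Scheme.Modules.pushforward f).rightDerivedZeroIsoSelf.app M).symm
    have h0 : IsFlasqueMod ((Scheme.Modules.pushforward f).obj M) :=
      { epi := fun {U V} _ => by
          refine (AddCommGrpCat.epi_iff_surjective _).2 fun t => ⟨0, ?_⟩
          have e : ∀ x : Γ((Scheme.Modules.pushforward f).obj M, V.unop), x = 0 := fun x =>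
            congr(($((IsZero.iff_id_eq_zero _).1 hM0)).app V.unop x)
          exact (e _).trans (e t).symm }
    obtain ⟨e⟩ := nonempty_Rpush_iso f M q
    haveI : Mono ((Scheme.Modules.pushforward f).map (toGod (godQ M q))) :=
      (Scheme.Modules.pushforward f).map_mono _
    let α := (Scheme.Modules.pushforward f).map (godπ M q)
    obtain ⟨hsurj, hrange⟩ := cokernel_sections ((Scheme.Modules.pushforward f).map (toGod (godQ M q))) α
      (by rw [← (Scheme.Modules.pushforward f).map_comp, toGod_godπ, (Scheme.Modules.pushforward f).map_zero])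
      ((godSES_shortExact M q).exact.map_of_mono_of_preservesKernel (Scheme.Modules.pushforward f)
        (inferInstanceAs (Mono (toGod (godQ M q)))) inferInstance)
      (LerayLow.isFlasqueMod_push_godQ f h0 q fun n hn => hlow (n + 1) (by omega))
      (LerayLow.isFlasqueMod_push f (isFlasqueMod_God _))
    obtain ⟨l⟩ := nonempty_linearEquiv_of_surjective (appLin (cokernel.π α) ⊤) θ hsurj ha fun z => by
      refine Iff.trans ?_ (hker _).symm
      constructor
      · intro hz
        obtain ⟨b, hb⟩ := hrange z hz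
        exact ⟨b, hb⟩
      · rintro ⟨b, hb⟩
        have h := cokernel_π_app_app (α := α) (U := (⊤ : Y.Opens)) b
        rw [show α.app ⊤ b = z from hb] at h
        exact h
    exact ⟨(LinearEquiv.ofBijective (appLin e.hom ⊤) (ConcreteCategory.bijective_of_isIso (e.hom.app ⊤))).trans l⟩

end Groth.Agent.LerayEdgeLin
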