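import Groth.Agent.Lib.AVPoincareCoh
import Groth.Agent.Lib.LerayEdgeLin
import Groth.Agent.InvX.Tensor

/-!
Cohomology of the Poincaré module.
-/

set_option autoImplicit false
set_option linter.style.haveILetI false
set_option linter.unusedSectionVars false
set_option backward.isDefEq.respectTransparency false
set_option backward.isDefEq.respectTransparency.types false
set_option maxHeartbeats 1000000
set_option synthInstance.maxHeartbeats 400000

universe u

open CategoryTheory CategoryTheory.Limits MonoidalCategory CartesianMonoidalCategory MonObj AlgebraicGeometry TopologicalSpace Opposite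

noncomputable section

namespace Groth.Agent.AVPoincare

open Groth.Agent Groth.Agent.QCoh Groth.Agent.H23 Groth.Agent.AVPair Groth.Agent.AVDual
open scoped Groth.Agent.H23.PicMul

section Sheaf

variable {S : Scheme.{u}} {N : S.Modules}

/-- Sections around a covering pair, one member without sections. -/
theorem bijective_rs_of_cover {V W : S.Opens} (hcov : (⊤ : S.Opens) = V ⊔ W)
    (hW : ∀ U : S.Opens, U ≤ W → Subsingleton Γ(N, U)) :
    Function.Bijective (rs N (le_top : V ≤ ⊤)) := by
  refine ⟨fun a b h => ?_, fun a => ?_⟩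
  · refine (QCoh.abSheaf N).eq_of_locally_eq' (fun i : Bool => cond i V W) ⊤ (fun i => homOfLE le_top) ?_ a b ?_
    · rw [hcov]
      exact sup_le (le_iSup (fun i : Bool => cond i V W) true) (le_iSup (fun i : Bool => cond i V W) false)
    · rintro (_ | _)
      · exact (hW W le_rfl).elim _ _
      · exact h
  · haveI := hW (V ⊓ W) inf_le_right
    obtain ⟨c, hc, -⟩ := exists_glue_sup (G := N) hcov (le_top : V ≤ ⊤) le_top a 0 (Subsingleton.elim _ _)
    exact ⟨c, hc⟩

end Sheaf

variable {k : Type u} [Field k]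

local notation3 "pt₀" => 𝟙_ (Over (Spec (CommRingCat.of k)))

variable {A At : Over (Spec (CommRingCat.of k))} [GrpObj A] [IsProper A.hom] [GeometricallyIntegral A.hom]
  [GrpObj At] [IsProper At.hom] [GeometricallyIntegral At.hom] [Smooth At.hom]
  {φ : ∀ T : Over (Spec (CommRingCat.of k)), PicF.Cl (PicF.XT A.hom T) → (T ⟶ At)}
  (hφ : AbDual.IsDualAV Scheme.fppfPrecoverage A At φ)
  {P : (A ⊗ At).left.Modules} (hP : PicF.IsInvertible P) (hξ : AbDual.IsPoincareCl A At φ (PicF.cl P))
  (hs : Sep (PicF.cl P : PicF.Cl (A ⊗ At).left))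
  [HasInjectiveResolutions (A ⊗ At).left.Modules] {g : ℕ} (hgA : topologicalKrullDim ↥A.left = g)
  (hgQ : topologicalKrullDim ↥At.left = g)

theorem dim_eq {g : ℕ} {φ : ∀ T : Over (Spec (CommRingCat.of k)), PicF.Cl (PicF.XT A.hom T) → (T ⟶ At)}
    (hφ : AbDual.IsDualAV Scheme.fppfPrecoverage A At φ) (hgA : topologicalKrullDim ↥A.left = g) :
    topologicalKrullDim ↥At.left = g := by
  obtain ⟨g', hg'⟩ := AVTors.exists_dimNat At
  rw [hg', AVDeg.dim_dual hφ hgA hg']

theorem isClosed_origin : IsClosed ({η[At].left (IsLocalRing.closedPoint k)} : Set At.left) := by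
  haveI : IsClosedImmersion (η[At].left ≫ At.hom) := by
    rw [Over.w η[At]]; exact inferInstanceAs (IsClosedImmersion (𝟙 _))
  haveI : IsClosedImmersion η[At].left := IsClosedImmersion.of_comp η[At].left At.hom
  convert η[At].left.isClosedEmbedding.isClosed_range using 1
  refine Set.eq_of_subset_of_subset (Set.singleton_subset_iff.2 ⟨_, rfl⟩) ?_
  rintro _ ⟨z, rfl⟩
  exact congrArg η[At].left (@Subsingleton.elim _ (inferInstanceAs (Subsingleton (PrimeSpectrum k))) z _)

include hP hs

theorem subsingleton_off_origin_of_sep (p : ℕ) (U : At.left.Opens)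
    (hU : η[At].left (IsLocalRing.closedPoint k) ∉ U) :
    Subsingleton Γ((Coh.Rpush (snd A At).left p).obj P, U) :=
  H28.PnFlat.subsingleton_of_isZero_restrict (CohBCX.isZero_restrict_of_local _ fun _ hy =>
    exists_isZero_Rpush_nhd hP (hs) (fun he => hU (he ▸ hy)) p)

include hgA hgQ in
theorem isZero_Rpush_of_sep {p : ℕ} (hp : p ≠ g) : IsZero ((Coh.Rpush (snd A At).left p).obj P) := by
  haveI : IsProper (snd A At).left := inferInstanceAs (IsProper (pullback.snd A.hom At.hom))
  haveI : IsProper (A ⊗ At).hom := inferInstanceAs (IsProper (pullback.fst A.hom At.hom ≫ A.hom))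
  haveI : IsLocallyNoetherian (A ⊗ At).left := LocallyOfFiniteType.isLocallyNoetherian (A ⊗ At).hom
  refine QCoh.isZero_of_cover (QCoh.isQCoh_Rpush (snd A At).left (CurveDeg.isCoh_of_isInvertible hP).1 p)
    (fun U : At.left.affineOpens => U.1) (fun U => U.2) (fun x => ?_) fun U => ?_
  · obtain ⟨_, ⟨U, hU, rfl⟩, hx, -⟩ :=
      At.left.isBasis_affineOpens.exists_subset_of_mem_open (Set.mem_univ x) isOpen_univ
    exact ⟨⟨U, hU⟩, hx⟩
  · by_cases ho : η[At].left (IsLocalRing.closedPoint k) ∈ U.1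
    · obtain ⟨ψ, -, -, -, -, h, -⟩ := exists_origin_data hP (hs) hgA hgQ U.2 ho
      exact h p hp
    · exact subsingleton_off_origin_of_sep hP hs p _ ho

include hgA hgQ in
/-- No cohomology outside degree `g`. -/
theorem subsingleton_HH_of_ne_of_sep {p : ℕ} (hp : p ≠ g) : Subsingleton (Coh.HH (A ⊗ At).left P p) :=
  AVIndex.subsingleton_HH_of_flasque_Rpush (snd A At).left (M := P)
    (fun n => AVIndex.isFlasqueMod_of_finite_support (Set.finite_singleton (η[At].left (IsLocalRing.closedPoint k)))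
      (fun z hz => by rw [Set.mem_singleton_iff.1 hz]; exact isClosed_origin)
      fun x hx => exists_isZero_Rpush_nhd hP (hs) (fun he => hx he) n)
    p (isZero_Rpush_of_sep hP hs hgA hgQ hp)

include hgA hgQ in
/-- One dimensional in degree `g`. -/
theorem finrank_HH_of_sep :
    @Module.finrank k (Coh.HH (A ⊗ At).left P g) _ _
      (@Coh.moduleOver k _ (A ⊗ At).left ⟨(fst A At).left ≫ A.hom⟩ P g) = 1 := by
  let f := (snd A At).left
  haveI : IsProper f := inferInstanceAs (IsProper (pullback.snd A.hom At.hom))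
  let o := η[At].left (IsLocalRing.closedPoint k)
  obtain ⟨_, ⟨V, hV, rfl⟩, ho, -⟩ :=
    At.left.isBasis_affineOpens.exists_subset_of_mem_open (Set.mem_univ o) isOpen_univ
  obtain ⟨ψ, -, -, -, hc, -, hkill, z₀, hz0, hgen⟩ := exists_origin_data hP (hs) hgA hgQ hV ho
  let N := (Coh.Rpush f g).obj P
  let W : At.left.Opens := ⟨({o} : Set At.left)ᶜ, isClosed_origin.isOpen_compl⟩
  have hcov : (⊤ : At.left.Opens) = V ⊔ W := (top_unique fun z _ => by
    by_cases hz : z = o
    · exact Or.inl (hz ▸ ho)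
    · exact Or.inr hz).symm
  have hbij := bijective_rs_of_cover (N := N) hcov fun U hU =>
    subsingleton_off_origin_of_sep hP hs g U fun h => hU h rfl
  obtain ⟨z₁, hz₁⟩ := hbij.2 z₀
  obtain ⟨e⟩ := LerayEdgeLin.nonempty_sections_HH f (M := P) g
    fun n hn => isZero_Rpush_of_sep hP hs hgA hgQ (Nat.ne_of_lt hn)
  let ρk : k →+* Γ(At.left, ⊤) := Coh.toGlobal (A := k) At.hom
  letI : Module Γ(At.left, ⊤) (Coh.HH (A ⊗ At).left P g) := modHH f.appTop.hom P g
  letI : (A ⊗ At).left.Over (Spec (CommRingCat.of k)) := ⟨(fst A At).left ≫ A.hom⟩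
  have hsmul : ∀ (a : k) (x : Coh.HH (A ⊗ At).left P g), a • x = ρk a • x := fun a x => by
    show Coh.toGlobal (A := k) ((fst A At).left ≫ A.hom) a • x = f.appTop.hom (Coh.toGlobal (A := k) At.hom a) • x
    congr 1
    rw [show (fst A At).left ≫ A.hom = f ≫ At.hom from pullback.condition]
    rfl
  refine finrank_eq_one (e z₁) (fun h => hz0 ?_) fun w => ?_
  · rw [← hz₁, (map_eq_zero_iff e e.injective).1 h]
    exact map_zero _
  · obtain ⟨a, ha⟩ := hgen (rs N (le_top : V ≤ ⊤) (e.symm w))
    refine ⟨ψ a, ?_⟩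
    rw [hsmul, ← map_smul, ← LinearEquiv.eq_symm_apply]
    refine hbij.1 ?_
    rw [rs_smul, hz₁, ha]
    change rf At.left (le_top : V ≤ ⊤) (ρk (ψ a)) • z₀ = a • z₀
    have h0 : ψ (a - (At.left.presheaf.map (homOfLE (le_top : V ≤ ⊤)).op).hom (ρk (ψ a))) = 0 := by
      rw [map_sub, sub_eq_zero]
      exact (hc _).symm
    have := hkill _ h0 z₀
    rw [sub_smul, sub_eq_zero] at this
    exact this.symm

include hgA hgQ in
/-- The top direct image is the skyscraper at the origin. -/
theorem nonempty_skyscraper_of_sep :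
    Nonempty ((Coh.Rpush (snd A At).left g).obj P ≅
      (Coh.push η[At].left).obj (Coh.structureModule (Spec (CommRingCat.of k)))) := by
  let f := (snd A At).left
  haveI : IsProper f := inferInstanceAs (IsProper (pullback.snd A.hom At.hom))
  haveI : IsProper (A ⊗ At).hom := inferInstanceAs (IsProper (pullback.fst A.hom At.hom ≫ A.hom))
  haveI : IsLocallyNoetherian (A ⊗ At).left := LocallyOfFiniteType.isLocallyNoetherian (A ⊗ At).hom
  let o := η[At].left (IsLocalRing.closedPoint k)
  let N := (Coh.Rpush f g).obj P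
  have hN : Coh.IsQCoh N := QCoh.isQCoh_Rpush f (CurveDeg.isCoh_of_isInvertible hP).1 g
  let S₀ := Spec (CommRingCat.of k)
  let e : Spec (CommRingCat.of k) ⟶ At.left := η[At].left
  haveI : Subsingleton ↥S₀ := inferInstanceAs (Subsingleton (PrimeSpectrum k))
  let G := (Scheme.Modules.pullback e).obj N
  have hU : IsAffineOpen (⊤ : S₀.Opens) := isAffineOpen_top _
  -- sections of the fibre
  have hsec : ∀ (V : At.left.Opens), IsAffineOpen V → o ∈ V → ∀ (hle : (⊤ : S₀.Opens) ≤ e ⁻¹ᵁ V),
      Function.Bijective (pullSec e N hle) ∧ ∃ s : Γ(G, ⊤), s ≠ 0 ∧ ∀ t, ∃ a : Γ(S₀, ⊤), t = a • s := by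
    intro V hV ho hle
    obtain ⟨ψ, hψ, hψs, -, hc, -, hkill, z₀, hz0, hgen⟩ := exists_origin_data hP (hs) hgA hgQ hV ho
    have happ : (e.appLE V ⊤ hle).hom = (Scheme.ΓSpecIso (CommRingCat.of k)).inv.hom.comp ψ := by
      have h2 : Spec.map (e.appLE V ⊤ hle) =
          Spec.map (CommRingCat.ofHom ψ ≫ (Scheme.ΓSpecIso (CommRingCat.of k)).inv) := by
        rw [← cancel_mono hV.fromSpec, hV.SpecMap_appLE_fromSpec e hU hle,
          IsAffineOpen.fromSpec_top, Spec.map_comp, Category.assoc, hψ, Scheme.isoSpec_Spec_inv]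
      rw [Spec.map_injective h2]
      rfl
    let T := Γ(S₀, ⊤)
    letI : Algebra Γ(At.left, V) T := (e.appLE V ⊤ hle).hom.toAlgebra
    letI : Module Γ(At.left, V) Γ(G, ⊤) := Module.compHom _ (e.appLE V ⊤ hle).hom
    haveI : IsScalarTower Γ(At.left, V) T Γ(G, ⊤) := .of_algebraMap_smul fun _ _ => rfl
    let l : Γ(N, V) →ₗ[Γ(At.left, V)] Γ(G, ⊤) :=
      { toFun := pullSec e N hle
        map_add' := pullSec_add e N hle
        map_smul' := pullSec_smul e N hle }
    have hb : IsBaseChange T l := QCoh.isBaseChange_pullback hV e hU hN hle (fun _ => rfl) l fun _ => rfl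
    have hsur : Function.Surjective (e.appLE V ⊤ hle).hom := by
      rw [happ]
      exact (Scheme.ΓSpecIso (CommRingCat.of k)).symm.commRingCatIsoToRingEquiv.surjective.comp hψs
    -- the module is already a `T`-module
    let σ : T →+* Γ(At.left, V) := ((At.left.presheaf.map (homOfLE (le_top : V ≤ ⊤)).op).hom.comp
      (Coh.toGlobal (A := k) At.hom)).comp (Scheme.ΓSpecIso (CommRingCat.of k)).hom.hom
    letI : Module T Γ(N, V) := Module.compHom _ σ
    haveI : IsScalarTower Γ(At.left, V) T Γ(N, V) := .of_algebraMap_smul fun a z => by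
      show σ ((e.appLE V ⊤ hle).hom a) • z = a • z
      have h0 : ψ (σ ((e.appLE V ⊤ hle).hom a) - a) = 0 := by
        rw [map_sub, happ, sub_eq_zero]
        refine (hc _).trans ?_
        exact congr(($((Scheme.ΓSpecIso (CommRingCat.of k)).inv_hom_id)).hom (ψ a))
      have := hkill _ h0 z
      rwa [sub_smul, sub_eq_zero] at this
    obtain ⟨r, hr⟩ : ∃ r : Γ(G, ⊤) →ₗ[T] Γ(N, V), ∀ z, r (l z) = z :=
      ⟨hb.lift LinearMap.id, fun z => hb.lift_eq LinearMap.id z⟩
    have hbij : Function.Bijective l := by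
      refine ⟨Function.LeftInverse.injective hr, fun t => ?_⟩
      refine hb.inductionOn t _ ⟨0, map_zero l⟩ (fun z => ⟨z, rfl⟩) (fun c t ⟨z, hz⟩ => ?_)
        (fun s t ⟨z, hz⟩ ⟨z', hz'⟩ => ⟨z + z', by rw [map_add, hz, hz']⟩)
      obtain ⟨b, rfl⟩ := hsur c
      exact ⟨b • z, by rw [map_smul, hz]; rfl⟩
    refine ⟨hbij, l z₀, fun h => hz0 (hbij.1 (h.trans (map_zero l).symm)), fun t => ?_⟩
    obtain ⟨z, rfl⟩ := hbij.2 t
    obtain ⟨a, rfl⟩ := hgen z
    exact ⟨e.appLE V ⊤ hle a, l.map_smul a z₀⟩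
  -- the unit is an isomorphism
  haveI : IsIso ((Scheme.Modules.pullbackPushforwardAdjunction e).unit.app N) := by
    refine QCoh.isIso_of_isBasis _ At.left.isBasis_affineOpens fun V hV => ?_
    by_cases ho : o ∈ V
    · have hle : (⊤ : S₀.Opens) ≤ e ⁻¹ᵁ V := fun s _ => by
        show e s ∈ V
        rw [Subsingleton.elim s (IsLocalRing.closedPoint k)]
        exact ho
      have he : e ⁻¹ᵁ V = ⊤ := top_unique hle
      have h := (hsec V hV ho hle).1
      refine ⟨fun a b hab => h.1 ?_, fun y => ?_⟩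
      · exact congrArg (G.presheaf.map (homOfLE hle).op) hab
      · obtain ⟨z, hz⟩ := h.2 (rs G hle (show Γ(G, e ⁻¹ᵁ V) from y))
        refine ⟨z, ?_⟩
        have hinj : Function.Injective (rs G hle) := by
          intro a b hab
          have := congrArg (rs G (le_top : e ⁻¹ᵁ V ≤ ⊤)) hab
          rwa [rs_rs, rs_rs, rs_self, rs_self] at this
        exact hinj hz
    · haveI : Subsingleton Γ(N, V) := subsingleton_off_origin_of_sep hP hs g V ho
      haveI : Subsingleton Γ((Scheme.Modules.pushforward e).obj G, V) := by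
        have he : e ⁻¹ᵁ V = ⊥ := le_bot_iff.1 fun s hs => ho (by
          have hs' : e s ∈ V := hs
          rwa [Subsingleton.elim s (IsLocalRing.closedPoint k)] at hs')
        show Subsingleton Γ(G, e ⁻¹ᵁ V)
        rw [he]
        exact ⟨fun a b => (QCoh.abSheaf G).eq_of_locally_eq' (fun i : PEmpty.{1} => i.elim) ⊥ (fun i => i.elim)
          bot_le a b fun i => i.elim⟩
      exact ⟨fun a b _ => @Subsingleton.elim Γ(N, V) _ a b,
        fun y => ⟨0, @Subsingleton.elim Γ((Scheme.Modules.pushforward e).obj G, V) _ _ y⟩⟩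
  -- the fibre is the structure module
  obtain ⟨_, ⟨V, hV, rfl⟩, ho, -⟩ :=
    At.left.isBasis_affineOpens.exists_subset_of_mem_open (Set.mem_univ o) isOpen_univ
  obtain ⟨-, s, hs0, hs⟩ := hsec V hV ho fun x _ => by
    show e x ∈ V
    rw [Subsingleton.elim x (IsLocalRing.closedPoint k)]
    exact ho
  haveI : IsIso (InvX.ofSect s) := by
    refine QCoh.isIso_of_isBasis _ (B := {⊤, ⊥}) ?_ ?_
    · refine Opens.isBasis_iff_nbhd.2 fun {U x} hx => ⟨⊤, Or.inl rfl, trivial, fun y _ => ?_⟩
      rw [Subsingleton.elim y x]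
      exact hx
    · rintro U (rfl | rfl)
      · have happ : ∀ a : Γ(S₀, ⊤), (InvX.ofSect s).app ⊤ a = a • s := fun a => by
          have h1 := Scheme.Modules.Hom.app_smul (InvX.ofSect s) a (show Γ(Coh.structureModule S₀, ⊤) from (1 : Γ(S₀, ⊤)))
          rw [show (InvX.ofSect s).app ⊤ (show Γ(Coh.structureModule S₀, ⊤) from (1 : Γ(S₀, ⊤))) = s from
            InvX.one_ofSect s] at h1
          refine Eq.trans (congrArg ((InvX.ofSect s).app ⊤) ?_) h1
          exact (_root_.mul_one a).symm
        refine ⟨fun a b hab => ?_, fun t => ?_⟩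
        · let a' : Γ(S₀, ⊤) := a
          let b' : Γ(S₀, ⊤) := b
          have h1 : a' • s = b' • s := (happ a').symm.trans (hab.trans (happ b'))
          by_contra hne
          obtain ⟨c, hc⟩ := (Scheme.ΓSpecIso (CommRingCat.of k)).symm.commRingCatIsoToRingEquiv.surjective (a' - b')
          have hc0 : (c : k) ≠ 0 := fun h => hne (sub_eq_zero.1 (by rw [← hc, h]; exact map_zero _) : a' = b')
          have hu : IsUnit (a' - b') := hc ▸ (IsUnit.mk0 _ hc0).map _
          exact hs0 (hu.smul_eq_zero.1 (by rw [sub_smul, h1, sub_self]))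
        · obtain ⟨a, rfl⟩ := hs t
          exact ⟨a, happ a⟩
      · have hb : ∀ M : S₀.Modules, Subsingleton Γ(M, ⊥) := fun M =>
          ⟨fun a b => (QCoh.abSheaf M).eq_of_locally_eq' (fun i : PEmpty.{1} => i.elim) ⊥ (fun i => i.elim)
            bot_le a b fun i => i.elim⟩
        haveI := hb (Coh.structureModule S₀)
        haveI := hb G
        exact ⟨fun a b _ => Subsingleton.elim a b, fun y => ⟨0, Subsingleton.elim _ y⟩⟩
  exact ⟨asIso ((Scheme.Modules.pullbackPushforwardAdjunction e).unit.app N) ≪≫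
    (Scheme.Modules.pushforward e).mapIso (asIso (InvX.ofSect s)).symm⟩

omit hs
include hφ hξ

theorem subsingleton_off_origin (p : ℕ) (U : At.left.Opens)
    (hU : η[At].left (IsLocalRing.closedPoint k) ∉ U) :
    Subsingleton Γ((Coh.Rpush (snd A At).left p).obj P, U) :=
  subsingleton_off_origin_of_sep hP (sep_of_dual hφ hξ) p U hU

include hgA in
theorem isZero_Rpush {p : ℕ} (hp : p ≠ g) : IsZero ((Coh.Rpush (snd A At).left p).obj P) :=
  isZero_Rpush_of_sep hP (sep_of_dual hφ hξ) hgA (dim_eq hφ hgA) hp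

include hgA in
/-- No cohomology outside degree `g`. -/
theorem subsingleton_HH_of_ne {p : ℕ} (hp : p ≠ g) : Subsingleton (Coh.HH (A ⊗ At).left P p) :=
  subsingleton_HH_of_ne_of_sep hP (sep_of_dual hφ hξ) hgA (dim_eq hφ hgA) hp

include hgA in
/-- One dimensional in degree `g`. -/
theorem finrank_HH :
    @Module.finrank k (Coh.HH (A ⊗ At).left P g) _ _
      (@Coh.moduleOver k _ (A ⊗ At).left ⟨(fst A At).left ≫ A.hom⟩ P g) = 1 :=
  finrank_HH_of_sep hP (sep_of_dual hφ hξ) hgA (dim_eq hφ hgA)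

include hgA in
/-- The top direct image is the skyscraper at the origin. -/
theorem nonempty_skyscraper :
    Nonempty ((Coh.Rpush (snd A At).left g).obj P ≅
      (Coh.push η[At].left).obj (Coh.structureModule (Spec (CommRingCat.of k)))) :=
  nonempty_skyscraper_of_sep hP (sep_of_dual hφ hξ) hgA (dim_eq hφ hgA)

end Groth.Agent.AVPoincare
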