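import Groth.Agent.Lib.AVKunneth
import Groth.Agent.Lib.AVPoincareGlobal
import Groth.Agent.Lib.AVEuler
import Groth.Agent.Lib.AVEulerHomog
import Groth.Agent.Lib.AVLambda
import Groth.Agent.Lib.CurveTensor
import Groth.Agent.QCoh.RpushProper
import Groth.Agent.QCoh.AnnIdeal
import Groth.Agent.ZClosLib.CohDescent

/-!
The square of the Euler characteristic of a non-degenerate invertible module is the degree of its polarisation map,
given a Poincaré class.
-/

set_option autoImplicit false
set_option linter.style.haveILetI false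
set_option linter.unusedSectionVars false
set_option backward.isDefEq.respectTransparency false
set_option backward.isDefEq.respectTransparency.types false
set_option maxHeartbeats 1000000
set_option synthInstance.maxHeartbeats 400000

universe u

open CategoryTheory CategoryTheory.Limits MonoidalCategory CartesianMonoidalCategory MonObj AlgebraicGeometry TopologicalSpace Opposite

noncomputable section

namespace Groth.Agent.AVRiemannRoch

open Groth.Agent Groth.Agent.H23 Groth.Agent.AVCube Groth.Agent.AVPair Groth.Agent.AVDual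
open scoped Groth.Agent.H23.PicMul

variable {k : Type u} [Field k]

local notation3 "pt₀" => 𝟙_ (Over (Spec (CommRingCat.of k)))

variable {A At : Over (Spec (CommRingCat.of k))} [GrpObj A] [IsProper A.hom] [GeometricallyIntegral A.hom]
  [GrpObj At] [IsProper At.hom] [GeometricallyIntegral At.hom] [Smooth At.hom]

theorem isPullback_whisker (f : A ⟶ At) :
    IsPullback (A ◁ f).left (snd A A).left (snd A At).left f.left := by
  refine IsPullback.of_right ?_ (by rw [← Over.comp_left, whiskerLeft_snd]; rfl) (IsPullback.of_hasPullback A.hom At.hom)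
  show IsPullback ((A ◁ f).left ≫ (fst A At).left) _ A.hom _
  rw [← Over.comp_left, whiskerLeft_fst, Over.w f]
  exact IsPullback.of_hasPullback A.hom A.hom

theorem pc_one {L : A.left.Modules} (hL : PicF.IsInvertible L) (T : Over (Spec (CommRingCat.of k))) :
    pc hL (1 : T ⟶ A) = 1 :=
  Units.ext (by rw [val_pc', Hom.one_def]; exact CubeAb.F_const ⟨L, rfl, hL⟩ η[A])

/-- Finite closed sets with discrete topology consist of closed points. -/
theorem isClosed_singleton_of_mem {X : Type*} [TopologicalSpace X] {C : Set X} (hC : IsClosed C) (hd : IsDiscrete C)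
    {x : X} (hx : x ∈ C) : IsClosed ({x} : Set X) := by
  haveI := isDiscrete_iff_discreteTopology.1 hd
  simpa using hC.isClosedEmbedding_subtypeVal.isClosedMap _ (isClosed_discrete ({⟨x, hx⟩} : Set C))

variable {φ : ∀ T : Over (Spec (CommRingCat.of k)), PicF.Cl (PicF.XT A.hom T) → (T ⟶ At)}
  (hφ : AbDual.IsDualAV Scheme.fppfPrecoverage A At φ)
  {P : (A ⊗ At).left.Modules} (hP : PicF.IsInvertible P) (hξ : AbDual.IsPoincareCl A At φ (PicF.cl P))
  (hs : AVPoincare.Sep (PicF.cl P : PicF.Cl (A ⊗ At).left))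
  {g : ℕ} (hg : topologicalKrullDim ↥A.left = g) (hgQ : topologicalKrullDim ↥At.left = g)
  (f : A ⟶ At) [IsFinite f.left] [Flat f.left] {d : ℕ} (hd : ∀ y : ↥At.left, Scheme.Hom.finrank f.left y = d)

include hP hs hg hgQ hd

/-- The Euler characteristic of the pulled back Poincaré module. -/
theorem euler_pullback_poincare_of_sep :
    @Curv2.euler k _ (A ⊗ A).left ⟨(A ⊗ A).hom⟩ ((Scheme.Modules.pullback (A ◁ f).left).obj P) =
      (d : ℤ) * (-1) ^ g := by
  haveI : HasInjectiveResolutions (A ⊗ At).left.Modules := KFlatLib.hasInjectiveResolutions_modules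
  haveI : IsProper (A ⊗ A).hom := inferInstanceAs (IsProper (pullback.fst A.hom A.hom ≫ A.hom))
  haveI : GeometricallyIntegral (A ⊗ A).hom := MaxAbelian.geometricallyIntegral_tensor A A
  haveI : IsProper (A ⊗ At).hom := inferInstanceAs (IsProper (pullback.fst A.hom At.hom ≫ A.hom))
  haveI : GeometricallyIntegral (A ⊗ At).hom := MaxAbelian.geometricallyIntegral_tensor A At
  have hsq := (isPullback_whisker f).flip
  haveI : IsFinite (A ◁ f).left := MorphismProperty.of_isPullback hsq ‹IsFinite f.left›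
  haveI : Flat (A ◁ f).left := MorphismProperty.of_isPullback hsq ‹Flat f.left›
  haveI : IsLocallyNoetherian (A ⊗ At).left := LocallyOfFiniteType.isLocallyNoetherian (A ⊗ At).hom
  rw [AVEuler.euler_pullback (A ◁ f) d
    (fun y => (Scheme.Hom.finrank_of_isPullback _ _ _ _ hsq y).trans (hd _)) (CurveDeg.isCoh_of_isInvertible hP)]
  congr 1
  letI : (A ⊗ At).left.Over (Spec (CommRingCat.of k)) := ⟨(A ⊗ At).hom⟩
  unfold Curv2.euler
  rw [finsum_eq_single _ g fun n hn => by
    haveI := AVPoincare.subsingleton_HH_of_ne_of_sep hP hs hg hgQ hn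
    rw [Module.finrank_zero_of_subsingleton]; simp]
  rw [show Module.finrank k (Coh.HH (A ⊗ At).left P g) = 1 from AVPoincare.finrank_HH_of_sep hP hs hg hgQ]
  simp

/-- Twisting the pulled back Poincaré module from the second factor leaves the Euler characteristic. -/
theorem euler_twist_of_sep {E : A.left.Modules} (hE : PicF.IsInvertible E) :
    @Curv2.euler k _ (A ⊗ A).left ⟨(A ⊗ A).hom⟩ (CohB1.tensorMod ((Scheme.Modules.pullback (snd A A).left).obj E)
        ((Scheme.Modules.pullback (A ◁ f).left).obj P)) =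
      @Curv2.euler k _ (A ⊗ A).left ⟨(A ⊗ A).hom⟩ ((Scheme.Modules.pullback (A ◁ f).left).obj P) := by
  haveI : HasInjectiveResolutions (A ⊗ At).left.Modules := KFlatLib.hasInjectiveResolutions_modules
  haveI : HasInjectiveResolutions (A ⊗ A).left.Modules := KFlatLib.hasInjectiveResolutions_modules
  haveI : IsProper (A ⊗ A).hom := inferInstanceAs (IsProper (pullback.fst A.hom A.hom ≫ A.hom))
  haveI : IsProper (A ⊗ At).hom := inferInstanceAs (IsProper (pullback.fst A.hom At.hom ≫ A.hom))
  haveI : IsProper (snd A At).left := inferInstanceAs (IsProper (pullback.snd A.hom At.hom))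
  haveI : IsLocallyNoetherian At.left := LocallyOfFiniteType.isLocallyNoetherian At.hom
  haveI : IsLocallyNoetherian A.left := LocallyOfFiniteType.isLocallyNoetherian A.hom
  haveI : IsLocallyNoetherian (A ⊗ A).left := LocallyOfFiniteType.isLocallyNoetherian (A ⊗ A).hom
  haveI : IsLocallyNoetherian (A ⊗ At).left := LocallyOfFiniteType.isLocallyNoetherian (A ⊗ At).hom
  letI : A.left.Over (Spec (CommRingCat.of k)) := ⟨A.hom⟩
  letI : (A ⊗ A).left.Over (Spec (CommRingCat.of k)) := ⟨(A ⊗ A).hom⟩
  haveI : IsProper (A.left ↘ Spec (CommRingCat.of k)) := inferInstanceAs (IsProper A.hom)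
  haveI : IsProper ((A ⊗ A).left ↘ Spec (CommRingCat.of k)) := inferInstanceAs (IsProper (A ⊗ A).hom)
  haveI : Coh.IsQCoh P := (CurveDeg.isCoh_of_isInvertible hP).1
  let Λ := (Scheme.Modules.pullback (A ◁ f).left).obj P
  have hΛ : PicF.IsInvertible Λ := PicClLib.isInvertible_pullback _ hP
  have hE' : FlatMod.IsFinLocFree E := H23.PullPush.isFinLocFree_of_isInvertible hE
  have hR : ∀ n, Nonempty ((Scheme.Modules.pullback f.left).obj ((Coh.Rpush (snd A At).left n).obj P) ≅
      (Coh.Rpush (snd A A).left n).obj Λ) := fun n => S0033.result _ _ _ _ (isPullback_whisker f) P n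
  have hz : ∀ n, n ≠ g → IsZero ((Coh.Rpush (snd A A).left n).obj Λ) := fun n hn => by
    haveI : (Scheme.Modules.pullback f.left).Additive :=
      haveI := (Scheme.Modules.pullbackPushforwardAdjunction f.left).isLeftAdjoint
      Functor.additive_of_preserves_binary_products _
    exact (Functor.map_isZero _ (AVPoincare.isZero_Rpush_of_sep hP hs hg hgQ hn)).of_iso (hR n).some.symm
  let R := (Coh.Rpush (snd A At).left g).obj P
  have hRc : Coh.IsCoh R := QCoh.isCoh_Rpush_of_finiteness (snd A At).left (CurveDeg.isCoh_of_isInvertible hP) g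
    fun B _ _ Y _ _ N hN n => S0002.result B Y N hN n
  let N := (Scheme.Modules.pullback f.left).obj R
  have hNc : Coh.IsCoh N := ZClosLib.isCoh_pullback f.left hRc
  have hclosed : ∀ x ∈ CohB1.support N, IsClosed ({x} : Set A.left) := fun x hx => by
    rw [QCoh.support_pullback f.left hRc.1 hRc.2] at hx
    have hxo : f.left x = η[At].left (IsLocalRing.closedPoint k) := by
      by_contra hne
      refine hx (subsingleton_of_forall_eq 0 fun t => ?_)
      obtain ⟨U, hxU, s, rfl⟩ := TopCat.Presheaf.exists_germ_eq R.presheaf t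
      let W : At.left.Opens := ⟨({η[At].left (IsLocalRing.closedPoint k)} : Set At.left)ᶜ,
        AVPoincare.isClosed_origin.isOpen_compl⟩
      haveI := AVPoincare.subsingleton_off_origin_of_sep hP hs g (U ⊓ W) fun h => h.2 rfl
      rw [← TopCat.Presheaf.germ_res_apply R.presheaf (homOfLE (inf_le_left : U ⊓ W ≤ U)) (f.left x) ⟨hxU, hne⟩ s]
      rw [Subsingleton.elim (R.presheaf.map (homOfLE (inf_le_left : U ⊓ W ≤ U)).op s) 0, map_zero]
    exact isClosed_singleton_of_mem (AVPoincare.isClosed_origin.preimage f.left.continuous)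
      (f.left.isDiscrete_preimage_singleton _) hxo
  have hΛ' : PicF.IsInvertible (CohB1.tensorMod ((Scheme.Modules.pullback (snd A A).left).obj E) Λ) :=
    PicMul.isInvertible_tensor (PicClLib.isInvertible_pullback _ hE) hΛ
  rw [EulerOneDeg.euler_eq k (snd A A).left (Over.w (snd A A)) (CurveDeg.isCoh_of_isInvertible hΛ) g hz,
    EulerOneDeg.euler_eq k (snd A A).left (Over.w (snd A A)) (CurveDeg.isCoh_of_isInvertible hΛ') g fun n hn =>
      (Functor.map_isZero ((DCoh.tensorBi (X := A.left)).obj E) (hz n hn)).of_iso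
        (S0927.result (snd A A).left Λ E hE' n).some.symm,
    ← CurveCohLib.euler_congr (S0927.result (snd A A).left Λ E hE' g).some,
    ← CurveCohLib.euler_congr (hR g).some,
    show Curv2.euler k A.left (CohB1.tensorMod E ((Coh.Rpush (snd A A).left g).obj Λ)) =
        Curv2.euler k A.left ((Scheme.Modules.pullback f.left).obj R) from
      (CurveCohLib.euler_congr (((DCoh.tensorBi (X := A.left)).obj E).mapIso (hR g).some.symm)).trans
        ((CurveTensor.euler_tensor_torsion k (SeesawX.isFinLocFreeOfRank_one hE) hNc hclosed).trans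
          (by rw [Nat.cast_one, _root_.one_mul]))]

variable [IsAlgClosed k] [SmoothOfRelativeDimension g A.hom] {L : A.left.Modules} (hL : PicF.IsInvertible L)

include hL in
/-- The square of the Euler characteristic is the degree, for a separating class pulling back to the Mumford class. -/
theorem euler_sq_of_sep (hc : pl (A ◁ f) (PicF.cl P) =
      ((pc hL (fst A A * snd A A) * (pc hL (fst A A))⁻¹ * (pc hL (snd A A))⁻¹ :
    (PicF.Cl (A ⊗ A).left)ˣ) : PicF.Cl (A ⊗ A).left))
    {i : ℕ} (hi : ∀ j, j ≠ i → Subsingleton (Coh.HH A.left L j)) :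
    @Curv2.euler k _ A.left ⟨A.hom⟩ L ^ 2 = (d : ℤ) := by
  haveI : IsCommMonObj A := isCommMonObj_of_isProper_of_geometricallyIntegral A
  let Λ := (Scheme.Modules.pullback (A ◁ f).left).obj P
  have eΛ : PicF.cl Λ = ((pc hL (fst A A * snd A A) * (pc hL (fst A A))⁻¹ * (pc hL (snd A A))⁻¹ :
      (PicF.Cl (A ⊗ A).left)ˣ) : PicF.Cl (A ⊗ A).left) := hc
  obtain ⟨D, hD, eD⟩ := inv_pc hL (𝟙 A)
  let sh : A ⊗ A ≅ A ⊗ A :=
    { hom := lift (fst A A * snd A A) (fst A A)
      inv := lift (snd A A) ((snd A A)⁻¹ * fst A A)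
      hom_inv_id := by
        apply CartesianMonoidalCategory.hom_ext
        · simp
        · rw [Category.assoc, lift_snd, MonObj.comp_mul, GrpObj.comp_inv, lift_snd, lift_fst,
            inv_mul_cancel_left, Category.id_comp]
      inv_hom_id := by
        apply CartesianMonoidalCategory.hom_ext
        · rw [Category.assoc, lift_fst, MonObj.comp_mul, lift_snd, lift_fst, mul_inv_cancel_left, Category.id_comp]
        · simp }
  let B := CohB1.tensorMod ((Scheme.Modules.pullback (snd A A).left).obj D)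
    ((Scheme.Modules.pullback (fst A A).left).obj L)
  have hB : Nonempty ((Scheme.Modules.pullback sh.hom.left).obj B ≅
      CohB1.tensorMod ((Scheme.Modules.pullback (snd A A).left).obj L) Λ) := by
    refine (PicGrp.cl_eq_cl_iff _ _).1 ?_
    show PicMul.pullHom sh.hom.left (PicF.cl B) = _
    rw [PicMul.cl_tensor, PicMul.cl_tensor, eΛ, show PicF.cl ((Scheme.Modules.pullback (snd A A).left).obj D) =
      PicMul.pullHom (snd A A).left (PicF.cl D) from rfl, eD, ← val_pc hL, ← val_pc hL, ← Units.val_mul]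
    show ((Units.map (PicMul.pullHom sh.hom.left : _ →* _) (Units.map (PicMul.pullHom (snd A A).left : _ →* _)
      (pc hL (𝟙 A))⁻¹ * pc hL (fst A A)) : (PicF.Cl (A ⊗ A).left)ˣ) : PicF.Cl (A ⊗ A).left) = _
    refine congrArg Units.val ?_
    simp only [map_mul, map_inv, pull_pc, Category.comp_id, sh, lift_fst, lift_snd]
    rw [mul_comm (pc hL (snd A A)), inv_mul_cancel_right, mul_comm]
  have h1 := euler_twist_of_sep hP hs hg hgQ f hd hL
  rw [euler_pullback_poincare_of_sep hP hs hg hgQ f hd] at h1
  let shl : (A ⊗ A).left ≅ (A ⊗ A).left := (Over.forget _).mapIso sh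
  have hB' : PicF.IsInvertible B :=
    PicMul.isInvertible_tensor (PicClLib.isInvertible_pullback _ hD) (PicClLib.isInvertible_pullback _ hL)
  letI : (A ⊗ A).left.Over (Spec (CommRingCat.of k)) := ⟨(A ⊗ A).hom⟩
  haveI : IsProper (A ⊗ A).hom := inferInstanceAs (IsProper (pullback.fst A.hom A.hom ≫ A.hom))
  haveI : GeometricallyIntegral (A ⊗ A).hom := MaxAbelian.geometricallyIntegral_tensor A A
  haveI : IsLocallyNoetherian (A ⊗ A).left := LocallyOfFiniteType.isLocallyNoetherian (A ⊗ A).hom
  haveI : IsIso sh.hom.left := inferInstanceAs (IsIso shl.hom)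
  have h2 := AVEuler.euler_pullback sh.hom 1
    (fun y => congrFun (Scheme.Hom.finrank_eq_one_of_isIso _) y) (CurveDeg.isCoh_of_isInvertible hB')
  rw [CurveCohLib.euler_congr hB.some, h1, Nat.cast_one, _root_.one_mul,
    AVKunneth.euler_box hL hD hi] at h2
  have h3 : @Curv2.euler k _ A.left ⟨A.hom⟩ D = (-1) ^ g * @Curv2.euler k _ A.left ⟨A.hom⟩ L :=
    AVEulerHomog.euler_inverse g hg hL hD (by rw [eD, ← val_pc_id hL]; exact Units.mul_inv _)
  rw [h3] at h2
  have h4 : ((-1 : ℤ) ^ g) * (-1) ^ g = 1 := by rw [← mul_pow]; norm_num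
  linear_combination (-1 : ℤ) ^ g * (-h2) + ((d : ℤ) - @Curv2.euler k _ A.left ⟨A.hom⟩ L ^ 2) * h4

omit hs hgQ
include hφ hξ

variable {c : PicF.Cl (A ⊗ A).left}
  (hc : c = ((pc hL (fst A A * snd A A) * (pc hL (fst A A))⁻¹ * (pc hL (snd A A))⁻¹ :
    (PicF.Cl (A ⊗ A).left)ˣ) : PicF.Cl (A ⊗ A).left))
  (hc0 : PZ A A c) (hf : φ A c = f)

include hc hc0 hf in
theorem cl_eq : c = pl (A ◁ f) (PicF.cl P) := by
  haveI : IsIntegral A.left := GeometricallyIntegral.isIntegral_of_subsingleton A.hom
  refine eq_of_phi hφ hc0 (pz_pl f hξ.1) ?_ (1 : A ⟶ A) ?_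
  · rw [phi_pl hφ f hξ.1, hξ.2.1, Category.comp_id, hf]
  · have h1 : pl (lift (1 : A ⟶ A) (𝟙 A)) (pl (A ◁ f) (PicF.cl P)) = 1 := by
      rw [pl_pl, lift_whiskerLeft, Category.id_comp,
        show lift (1 : A ⟶ A) f = f ≫ lift (1 : At ⟶ A) (𝟙 At) by
          rw [comp_lift, MonObj.comp_one, Category.comp_id], ← pl_pl, (poincare_axes hφ hξ).1, map_one]
    rw [h1, hc]
    show ((Units.map (PicMul.pullHom (lift (1 : A ⟶ A) (𝟙 A)).left : PicF.Cl (A ⊗ A).left →* PicF.Cl A.left) _ :
      (PicF.Cl A.left)ˣ) : PicF.Cl A.left) = _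
    simp only [map_mul, map_inv, pull_pc, MonObj.comp_mul, lift_fst, lift_snd, _root_.one_mul, pc_one,
      inv_one, _root_.mul_one, mul_inv_cancel, Units.val_one]

include hc hc0 hf in
/-- The square of the Euler characteristic is the degree. -/
theorem euler_sq {i : ℕ} (hi : ∀ j, j ≠ i → Subsingleton (Coh.HH A.left L j)) :
    @Curv2.euler k _ A.left ⟨A.hom⟩ L ^ 2 = (d : ℤ) := by
  exact euler_sq_of_sep hP (AVPoincare.sep_of_dual hφ hξ) hg (AVPoincare.dim_eq hφ hg) f hd hL
    ((cl_eq hφ hP hξ hg f hd hL hc hc0 hf).symm.trans hc) hi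

end Groth.Agent.AVRiemannRoch
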