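import Groth.Agent.Lib.AVPoincareExist
import Groth.Agent.Lib.AVRiemannRoch
import Groth.Agent.Lib.AVIndex
import Groth.Agent.CurveFin.RelDim

/-!
Non-degenerate invertible modules: index and Riemann–Roch for a given dual.
-/

set_option autoImplicit false
set_option linter.style.haveILetI false
set_option linter.unusedSectionVars false
set_option backward.isDefEq.respectTransparency false
set_option backward.isDefEq.respectTransparency.types false
set_option maxHeartbeats 1000000
set_option synthInstance.maxHeartbeats 400000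

universe u

open CategoryTheory CategoryTheory.Limits MonoidalCategory CartesianMonoidalCategory MonObj AlgebraicGeometry TopologicalSpace Opposite

noncomputable section

namespace Groth.Agent.AVNondeg

open Groth.Agent Groth.Agent.H23 Groth.Agent.AVCube Groth.Agent.AVPair Groth.Agent.AVDual
open scoped Groth.Agent.H23.PicMul

variable {k : Type u} [Field k] {A : Over (Spec (CommRingCat.of k))} [GrpObj A]

local notation3 "pt₀" => 𝟙_ (Over (Spec (CommRingCat.of k)))

variable {L : A.left.Modules} (hL : PicF.IsInvertible L)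

/-- The class of the Mumford module. -/
theorem cl_mumford {L' : A.left.Modules} (hL' : Nonempty (CohB1.tensorMod L L' ≅ Coh.structureModule A.left))
    {Λ : (PicF.XT A.hom A).Modules}
    (hΛ : Nonempty (Λ ≅ CohB1.tensorMod (CohB1.tensorMod ((Scheme.Modules.pullback μ[A].left).obj L)
      ((Scheme.Modules.pullback (fst A A).left).obj L')) ((Scheme.Modules.pullback (snd A A).left).obj L'))) :
    (PicF.cl Λ : PicF.Cl (A ⊗ A).left) = ((pc hL (fst A A * snd A A) * (pc hL (fst A A))⁻¹ * (pc hL (snd A A))⁻¹ :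
      (PicF.Cl (A ⊗ A).left)ˣ) : PicF.Cl (A ⊗ A).left) := by
  have e : ∀ (f : A ⊗ A ⟶ A), PicF.cl ((Scheme.Modules.pullback f.left).obj L') =
      (((pc hL f)⁻¹ : (PicF.Cl (A ⊗ A).left)ˣ) : PicF.Cl (A ⊗ A).left) := fun f =>
    left_inv_eq_right_inv (a := PicF.pullCl f.left (PicF.cl L))
      (by
        show PicF.pullCl f.left (PicF.cl L') * _ = 1
        rw [← PicMul.pullCl_mul, mul_comm, ← PicMul.cl_tensor, (PicGrp.cl_eq_cl_iff _ _).2 hL']
        exact PicMul.pullCl_one _)
      (by rw [← val_pc' hL]; exact Units.mul_inv _)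
  refine ((PicGrp.cl_eq_cl_iff _ _).2 hΛ).trans ?_
  rw [PicMul.cl_tensor, PicMul.cl_tensor, e, e,
    show (μ[A] : A ⊗ A ⟶ A) = fst A A * snd A A by rw [Hom.mul_def, lift_fst_snd, Category.id_comp]]
  rfl

variable [IsProper A.hom] [GeometricallyIntegral A.hom] {At : Over (Spec (CommRingCat.of k))} [GrpObj At]
  {φ : ∀ T : Over (Spec (CommRingCat.of k)), PicF.Cl (PicF.XT A.hom T) → (T ⟶ At)}
  (hφ : AbDual.IsDualAV Scheme.fppfPrecoverage A At φ)
  {c : PicF.Cl (A ⊗ A).left}
  (hc : c = ((pc hL (fst A A * snd A A) * (pc hL (fst A A))⁻¹ * (pc hL (snd A A))⁻¹ :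
    (PicF.Cl (A ⊗ A).left)ˣ) : PicF.Cl (A ⊗ A).left))
  (hc0 : PZ A A c)

include hφ hc hc0 in
/-- The stabiliser lies in the kernel of the polarisation map. -/
theorem comp_eq_one {a : pt₀ ⟶ A}
    (h : Nonempty ((Scheme.Modules.pullback (𝟙 A * (toUnit A ≫ a)).left).obj L ≅ L)) : a ≫ φ A c = 1 := by
  haveI : Subsingleton (Spec (CommRingCat.of k)) := inferInstanceAs (Subsingleton (PrimeSpectrum k))
  haveI : Nonempty (Spec (CommRingCat.of k)) := inferInstanceAs (Nonempty (PrimeSpectrum k))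
  have h1 : pl (lift (fst A pt₀) (snd A pt₀ ≫ a)) c = 1 := by
    rw [hc]
    show ((Units.map (PicMul.pullHom (lift (fst A pt₀) (snd A pt₀ ≫ a)).left :
      PicF.Cl (A ⊗ A).left →* PicF.Cl (A ⊗ pt₀).left) _ : (PicF.Cl (A ⊗ pt₀).left)ˣ) : PicF.Cl (A ⊗ pt₀).left) = _
    simp only [map_mul, map_inv, pull_pc, MonObj.comp_mul, lift_fst, lift_snd]
    have e1 : pc hL (fst A pt₀ * snd A pt₀ ≫ a) = pc hL (fst A pt₀) := by
      have e0 : pc hL (𝟙 A * (toUnit A ≫ a)) = pc hL (𝟙 A) := Units.ext (by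
        rw [val_pc, val_pc_id]; exact (PicGrp.cl_eq_cl_iff _ _).2 h)
      have := congrArg (Units.map (PicMul.pullHom (fst A pt₀).left : _ →* _)) e0
      rwa [pull_pc, pull_pc, MonObj.comp_mul, Category.comp_id, ← Category.assoc, comp_toUnit,
        toUnit_unique (toUnit (A ⊗ pt₀)) (snd A pt₀)] at this
    have e2 : pc hL (snd A pt₀ ≫ a) = 1 := by
      rw [← toUnit_unique (toUnit (A ⊗ pt₀)) (snd A pt₀)]
      exact Units.ext (AVPair.pl_const (T' := A ⊗ pt₀) ⟨L, rfl, hL⟩ a)
    rw [e1, e2, inv_one, _root_.mul_one, mul_inv_cancel, Units.val_one]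
  have h2 := hφ.relPic.natural _ _ a c hc0
  rw [← h2, show PicF.pullCl (PicF.XTmap A.hom a) c = 1 from ?_]
  · exact AbDualBase.phi_one hφ _
  · rw [PicZeroPrim.xtMap_eq]
    refine Eq.trans ?_ h1
    show PicF.pullCl (A ◁ a).left c = PicF.pullCl _ c
    congr 2

variable [IsAlgClosed k] [IsProper At.hom]

include hφ hc hc0 in
/-- The stabiliser of a non-degenerate module is finite. -/
theorem finite_stabilizer (hf : IsFinite (φ A c).left) :
    Set.Finite {a : pt₀ ⟶ A | Nonempty ((Scheme.Modules.pullback (𝟙 A * (toUnit A ≫ a)).left).obj L ≅ L)} := by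
  let o : At.left := η[At].left (IsLocalRing.closedPoint k)
  let p : (pt₀ ⟶ A) → A.left := fun a => a.left (IsLocalRing.closedPoint k)
  have hinj : Function.Injective p := fun a b e => Over.OverMorphism.ext (congrArg Subtype.val
    ((pointEquivClosedPoint A.hom).injective (a₁ := ⟨a.left, Over.w a⟩) (a₂ := ⟨b.left, Over.w b⟩) (Subtype.ext e)))
  haveI := hf
  refine Set.Finite.of_finite_image (f := p) ?_ hinj.injOn
  refine ((φ A c).left.finite_preimage_singleton o).subset ?_
  rintro _ ⟨a, ha, rfl⟩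
  show (a ≫ φ A c).left (IsLocalRing.closedPoint k) = o
  rw [comp_eq_one hL hφ hc hc0 ha]
  rw [Hom.one_def, toUnit_unique (toUnit pt₀) (𝟙 pt₀), Category.id_comp]

include hφ hc hc0 in
/-- **Index and Riemann–Roch** for a non-degenerate module. -/
theorem riemann_roch [Smooth A.hom] [GeometricallyIntegral At.hom] [Smooth At.hom] {g : ℕ}
    (hg : topologicalKrullDim ↥A.left = g) {f : A ⟶ At} (hf : φ A c = f) [IsFinite f.left] [Flat f.left]
    {d : ℕ} (hd : ∀ y : ↥At.left, Scheme.Hom.finrank f.left y = d) :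
    @Curv2.euler k _ A.left ⟨A.hom⟩ L ^ 2 = (d : ℤ) ∧
      ∃ i : ℕ, i ≤ g ∧ (∀ j : ℕ, j ≠ i → Subsingleton (Coh.HH A.left L j)) ∧
        @Module.finrank k (Coh.HH A.left L i) _ _ (@Coh.moduleOver k _ A.left ⟨A.hom⟩ L i) ^ 2 = d := by
  haveI : IsIntegral A.left := GeometricallyIntegral.isIntegral_of_subsingleton A.hom
  haveI : SmoothOfRelativeDimension g A.hom := CurveFin.smoothOfRelativeDimension_of_dim A.hom hg
  haveI : GeometricallyConnected A.hom := CubeAb.geometricallyConnected_of_integral A.hom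
  obtain ⟨P, hP, hξ⟩ := AVPoincareExist.exists_poincare hφ
  have hfin := finite_stabilizer hL hφ hc hc0 (hf ▸ ‹IsFinite f.left›)
  obtain ⟨i, hig, hi, -⟩ := AVIndex.exists_index g hg hL hfin
  have h1 := AVRiemannRoch.euler_sq hφ hP hξ hg f hd hL hc hc0 hf hi
  refine ⟨h1, i, hig, hi, ?_⟩
  letI : A.left.Over (Spec (CommRingCat.of k)) := ⟨A.hom⟩
  have h2 : Curv2.euler k A.left L = (-1) ^ i * (Module.finrank k (Coh.HH A.left L i) : ℤ) := by
    unfold Curv2.euler
    rw [finsum_eq_single _ i fun n hn => by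
      haveI := hi n hn
      rw [Module.finrank_zero_of_subsingleton]; simp]
  rw [h2, mul_pow, ← pow_mul, mul_comm i 2, pow_mul, neg_one_sq, one_pow, _root_.one_mul] at h1
  exact_mod_cast h1

end Groth.Agent.AVNondeg
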