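import Groth.Agent.Lib.AVSepClassify
import Groth.Agent.Lib.AVRiemannRoch
import Groth.Agent.Lib.AVIndexStable
import Groth.Agent.Lib.AVNondeg
import Groth.Agent.Lib.AVDualBC
import Groth.Agent.S7815
import Groth.Agent.EtFound.Descent

/-!
The rank of `K(L)` for a non-degenerate invertible module on an abelian variety is the square of the Euler
characteristic.
-/

set_option autoImplicit false
set_option linter.style.haveILetI false
set_option linter.unusedSectionVars false
set_option backward.isDefEq.respectTransparency false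
set_option backward.isDefEq.respectTransparency.types false
set_option maxHeartbeats 1000000
set_option synthInstance.maxHeartbeats 400000

universe u

open CategoryTheory CategoryTheory.Limits MonoidalCategory CartesianMonoidalCategory MonObj AlgebraicGeometry TopologicalSpace

noncomputable section

namespace Groth.Agent.AVKLRank

open Groth.Agent Groth.Agent.H23 Groth.Agent.AVPair Groth.Agent.AVDual Groth.Agent.AVCube Groth.Agent.AVKLExist
open scoped Groth.Agent.H23.PicMul

section Closed

variable {k : Type u} [Field k] [IsAlgClosed k]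

local notation3 "pt₀" => 𝟙_ (Over (Spec (CommRingCat.of k)))

variable {A : Over (Spec (CommRingCat.of k))} [GrpObj A] [IsProper A.hom] [GeometricallyIntegral A.hom]
  {L : A.left.Modules} (hL : PicF.IsInvertible L)

include hL in
/-- A point fixing the class of the module has trivial Mumford class. -/
theorem mum_eq_one_of_fixed {a : pt₀ ⟶ A}
    (h : Nonempty ((Scheme.Modules.pullback ((𝟙 A * (toUnit A ≫ a))).left).obj L ≅ L)) : mum hL a = 1 := by
  let s : A ⟶ A ⊗ pt₀ := lift (𝟙 A) (toUnit A)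
  have hs : fst A pt₀ ≫ s = 𝟙 _ := by
    apply CartesianMonoidalCategory.hom_ext
    · simp [s]
    · exact toUnit_unique _ _
  have hinj : Function.Injective (Units.map (PicMul.pullHom s.left : PicF.Cl (A ⊗ pt₀).left →* PicF.Cl A.left)) := by
    refine Function.LeftInverse.injective (g := Units.map (PicMul.pullHom (fst A pt₀).left)) fun c => Units.ext ?_
    show pl (fst A pt₀) (pl s (c : PicF.Cl (A ⊗ pt₀).left)) = _
    rw [pl_pl, hs, pl_id]
  refine hinj ?_
  rw [map_one]
  simp only [mum, s, map_mul, map_inv, pull_pc, MonObj.comp_mul, lift_fst, lift_snd_assoc, pc_const,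
    inv_one, _root_.mul_one, mul_inv_eq_one]
  exact Units.ext (by rw [val_pc, val_pc_id]; exact (PicGrp.cl_eq_cl_iff _ _).2 h)

include hL in
/-- The stabiliser is made of the rational points of `K(L)`. -/
theorem finite_stab_of_isFinite {K : Over (Spec (CommRingCat.of k))} {i : K ⟶ A} (hK : ThetaGrp.IsKL A L i)
    [IsFinite K.hom] :
    Set.Finite {a : pt₀ ⟶ A | Nonempty ((Scheme.Modules.pullback (𝟙 A * (toUnit A ≫ a)).left).obj L ≅ L)} := by
  haveI : Finite ↥K.left := by
    haveI := (Scheme.Hom.finite_preimage_singleton K.hom (IsLocalRing.closedPoint k)).to_subtype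
    exact Finite.of_injective (fun x : K.left => (⟨x, Subsingleton.elim (α := PrimeSpectrum k) _ _⟩ :
      (K.hom ⁻¹' {IsLocalRing.closedPoint k}))) fun x y e => congrArg Subtype.val e
  let p : (pt₀ ⟶ A) → A.left := fun a => a.left (IsLocalRing.closedPoint k)
  have hinj : Function.Injective p := fun a b e => Over.OverMorphism.ext (congrArg Subtype.val
    ((pointEquivClosedPoint A.hom).injective (a₁ := ⟨a.left, Over.w a⟩) (a₂ := ⟨b.left, Over.w b⟩) (Subtype.ext e)))
  refine Set.Finite.of_finite_image (f := p) ((Set.finite_range i.left).subset ?_) hinj.injOn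
  rintro _ ⟨a, ha, rfl⟩
  obtain ⟨y, rfl⟩ := (hK.univ _ a).1 ((mumford_iff_mum hL a).2 ⟨_, PicLoc.isInvertible_structureModule _, by
    rw [mum_eq_one_of_fixed hL ha]
    exact (PicMul.pullCl_one _).trans rfl⟩)
  exact ⟨y.left (IsLocalRing.closedPoint k), rfl⟩

include hL in
/-- With finitely many translations fixing the module, `K(L)` is finite of rank `χ(L)²`. -/
theorem rank_of_finite_stab {K : Over (Spec (CommRingCat.of k))} {i : K ⟶ A} (hK : ThetaGrp.IsKL A L i)
    (hfin : Set.Finite {a : pt₀ ⟶ A | Nonempty ((Scheme.Modules.pullback (𝟙 A * (toUnit A ≫ a)).left).obj L ≅ L)}) :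
    IsFinite K.hom ∧ ∀ s : ↥(Spec (CommRingCat.of k)),
      (Scheme.Hom.finrank K.hom s : ℤ) = @Curv2.euler k _ A.left ⟨A.hom⟩ L ^ 2 := by
  haveI : IsIntegral A.left := GeometricallyIntegral.isIntegral_of_subsingleton A.hom
  haveI : Smooth A.hom := S7795.result A
  haveI : GeometricallyConnected A.hom := CubeAb.geometricallyConnected_of_integral A.hom
  haveI : IsCommMonObj A := isCommMonObj_of_isProper_of_geometricallyIntegral A
  obtain ⟨L₀, hamp⟩ := AVProj.exists_isAmple (X := A)
  obtain ⟨Q, grp, q, _, P, hQp, hQgi, hQsm, hqf, hqfl, hqs, hdim, hP, hqP, hsep⟩ :=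
    AVDualExist.exists_dual hamp.1 hamp
  letI := grp
  haveI : GeometricallyConnected Q.hom := CubeAb.geometricallyConnected_of_integral Q.hom
  haveI : IsIntegral Q.left := GeometricallyIntegral.isIntegral_of_subsingleton Q.hom
  haveI : IsCommMonObj Q := isCommMonObj_of_isProper_of_geometricallyIntegral Q
  -- the classifying homomorphism
  have hmum : ∀ {T : Over (Spec (CommRingCat.of k))} (x : T ⟶ A),
      pl (A ◁ x) (mum hL (𝟙 A) : PicF.Cl (A ⊗ A).left) = (mum hL x : PicF.Cl (A ⊗ T).left) := by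
    intro T x
    have h := congrArg Units.val (map_mum hL x (𝟙 A))
    rw [Category.comp_id] at h
    exact h
  obtain ⟨f, hf⟩ : ∃ f : A ⟶ Q, pl (A ◁ f) (PicF.cl P) = (mum hL (𝟙 A) : PicF.Cl (A ⊗ A).left) := by
    refine AVSepClassify.exists_classify hP hsep ?_ (congrArg Units.val (AVDualExist.mum_left hL (𝟙 A))) fun t => ?_
    · obtain ⟨D1, hD1, e1⟩ := inv_pc hL (fst A A)
      obtain ⟨D2, hD2, e2⟩ := inv_pc hL (snd A A ≫ 𝟙 A)
      rw [mum, Units.val_mul, Units.val_mul, ← e1, ← e2]
      exact PicMul.isInvertibleCl_mul (PicMul.isInvertibleCl_mul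
        (PicClLib.isInvertibleCl_pullCl _ ⟨L, rfl, hL⟩) ⟨D1, rfl, hD1⟩) ⟨D2, rfl, hD2⟩
    · let s : A ⟶ A ⊗ pt₀ := lift (𝟙 A) (toUnit A)
      have hs : fst A pt₀ ≫ s = 𝟙 _ := by
        apply CartesianMonoidalCategory.hom_ext
        · simp [s]
        · exact toUnit_unique _ _
      have hsinj : Function.Injective (pl s) := Function.LeftInverse.injective (g := pl (fst A pt₀)) fun c => by
        rw [pl_pl, hs, pl_id]
      have hmod : PicF.IsInvertible ((Scheme.Modules.pullback ((𝟙 A * (toUnit A ≫ t))).left).obj L) :=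
        PicClLib.isInvertible_pullback _ hL
      obtain ⟨D, hD, eD⟩ := inv_pc hL (𝟙 A)
      let M := CohB1.tensorMod ((Scheme.Modules.pullback ((𝟙 A * (toUnit A ≫ t))).left).obj L) D
      have hM : PicF.IsInvertible M := PicMul.isInvertible_tensor hmod hD
      have eM : PicF.cl M = ((pc hL (𝟙 A * (toUnit A ≫ t)) * (pc hL (𝟙 A))⁻¹ : (PicF.Cl A.left)ˣ) : PicF.Cl A.left) := by
        rw [PicMul.cl_tensor, eD, Units.val_mul, val_pc]
      obtain ⟨x, ⟨ex⟩⟩ := AVPhiApp.exists_translate_ample hamp hM fun a => by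
        refine (PicGrp.cl_eq_cl_iff _ _).1 ?_
        show PicMul.pullHom _ (PicF.cl M) = PicF.cl M
        rw [eM]
        refine congrArg Units.val (show Units.map (PicMul.pullHom _ : _ →* _) _ = _ from ?_)
        simp only [map_mul, map_inv, pull_pc, MonObj.comp_mul, Category.comp_id, ← Category.assoc, comp_toUnit]
        have h := cube_rel hL (𝟙 A) (toUnit A ≫ a) (toUnit A ≫ t)
        simp only [← MonObj.comp_mul, pc_const, _root_.mul_one, _root_.one_mul] at h
        rw [mul_inv_eq_iff_eq_mul, _root_.mul_assoc (pc hL _), mul_comm (pc hL (𝟙 A))⁻¹, ← _root_.mul_assoc,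
          eq_mul_inv_iff_mul_eq, mul_comm (pc hL (𝟙 A * toUnit A ≫ t)), ← h, mul_right_comm (𝟙 A)]
      refine ⟨x ≫ q, hsinj ?_⟩
      rw [hmum, MonoidalCategory.whiskerLeft_comp, ← pl_pl (A ◁ x), show pl (A ◁ q) (PicF.cl P) =
        (mum hamp.1 (𝟙 A) : PicF.Cl (A ⊗ A).left) from hqP]
      have hx := congrArg Units.val (map_mum hamp.1 x (𝟙 A))
      rw [Category.comp_id] at hx
      rw [show pl (A ◁ x) (mum hamp.1 (𝟙 A) : PicF.Cl (A ⊗ A).left) = _ from hx]
      have e' := (PicGrp.cl_eq_cl_iff _ _).2 ⟨ex⟩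
      rw [PicMul.cl_tensor, ← val_pc hamp.1, ← val_pc_id hamp.1, eM, ← Units.val_mul, ← Units.ext_iff] at e'
      refine congrArg Units.val (show Units.map (PicMul.pullHom s.left : _ →* _) (mum hL t) =
        Units.map (PicMul.pullHom s.left : _ →* _) (mum hamp.1 x) from ?_)
      simp only [mum, s, map_mul, map_inv, pull_pc, MonObj.comp_mul, lift_fst, lift_snd_assoc, pc_const, inv_one,
        _root_.mul_one]
      exact eq_mul_inv_iff_mul_eq.2 e'
  have hfone : ∀ {T : Over (Spec (CommRingCat.of k))} (x : T ⟶ A),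
      x ≫ f = 1 ↔ mum hL x = 1 := by
    intro T x
    have h1 : pl (A ◁ (x ≫ f)) (PicF.cl P) = (mum hL x : PicF.Cl (A ⊗ T).left) := by
      rw [MonoidalCategory.whiskerLeft_comp, ← pl_pl (A ◁ x), hf, hmum]
    constructor
    · intro hx
      refine Units.ext ?_
      rw [← h1, hx, show A ◁ (1 : T ⟶ Q) = fst A T ≫ lift (𝟙 A) (1 : A ⟶ Q) by
        apply CartesianMonoidalCategory.hom_ext <;> simp, ← pl_pl, hsep.right, map_one]
      rfl
    · exact fun hx => hsep.sep _ (by rw [h1, hx]; rfl)
  have hKiff : ∀ {T : Over (Spec (CommRingCat.of k))} (x : T ⟶ A),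
      (∃ y : T ⟶ K, y ≫ i = x) ↔ x ≫ f = 1 := fun x =>
    (hK.univ _ x).symm.trans ⟨fun h => (hfone x).2 (AVDualExist.mum_eq_one hL h),
      fun h => (mumford_iff_mum hL x).2 ⟨_, PicLoc.isInvertible_structureModule _, by
        rw [(hfone x).1 h]; exact (PicMul.pullCl_one _).trans rfl⟩⟩
  haveI : IsMonHom f := AVDegPoly.isMonHom_of_one f (by
    have h : mum hL (1 : pt₀ ⟶ A) = 1 := by
      have h2 := AVDualExist.mum_mul hL (1 : pt₀ ⟶ A) 1
      rw [_root_.one_mul] at h2
      exact mul_eq_left.1 h2.symm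
    simpa [Hom.one_def, toUnit_unique (toUnit pt₀) (𝟙 _)] using (hfone (1 : pt₀ ⟶ A)).2 h)
  -- the kernel
  haveI := hK.closed
  haveI : Mono i := Over.mono_of_mono_left i
  haveI : IsProper K.hom := by rw [← Over.w i]; infer_instance
  have hker : IsPullback i.left K.hom f.left η[Q].left := by
    have hw : i ≫ f = toUnit K ≫ η[Q] := ((hKiff i).1 ⟨𝟙 K, Category.id_comp i⟩).trans Hom.one_def
    have hex : ∀ s : Limits.PullbackCone f η[Q], ∃ y : s.pt ⟶ K, y ≫ i = s.fst := fun s =>
      (hKiff s.fst).2 (by rw [s.condition, Hom.one_def, toUnit_unique s.snd (toUnit _)])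
    have hsq : IsPullback i (toUnit K) f η[Q] := IsPullback.of_isLimit' ⟨hw⟩
      (Limits.PullbackCone.IsLimit.mk _ (fun s => (hex s).choose) (fun s => (hex s).choose_spec)
        (fun s => toUnit_unique _ _) (fun s m hm _ => (cancel_mono i).1 (hm.trans (hex s).choose_spec.symm)))
    exact hsq.map (Over.forget _)
  have hpre : (f.left ⁻¹' {η[Q].left (IsLocalRing.closedPoint k)}).Finite := by
    have hsub : closedPoints A.left ∩ f.left ⁻¹' {η[Q].left (IsLocalRing.closedPoint k)} ⊆
        (fun a : pt₀ ⟶ A => a.left (IsLocalRing.closedPoint k)) ''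
          {a | Nonempty ((Scheme.Modules.pullback (𝟙 A * (toUnit A ≫ a)).left).obj L ≅ L)} := by
      rintro y ⟨hy, hy'⟩
      obtain ⟨a, rfl⟩ := AVPhiSurj.exists_pt (mem_closedPoints_iff.1 hy)
      refine ⟨a, fixed_of_triv hL ((hK.univ _ a).2 ((hKiff a).2 ?_)), rfl⟩
      refine Over.OverMorphism.ext (congrArg Subtype.val ((pointEquivClosedPoint Q.hom).injective
        (a₁ := ⟨(a ≫ f).left, Over.w (a ≫ f)⟩) (a₂ := ⟨(1 : pt₀ ⟶ Q).left, Over.w (1 : pt₀ ⟶ Q)⟩) (Subtype.ext ?_)))
      rw [Hom.one_def, toUnit_unique (toUnit pt₀) (𝟙 _), Category.id_comp]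
      exact hy'
    have hcl : IsClosed (f.left ⁻¹' {η[Q].left (IsLocalRing.closedPoint k)}) :=
      AVPoincare.isClosed_origin.preimage f.left.continuous
    haveI : JacobsonSpace A.left := LocallyOfFiniteType.jacobsonSpace A.hom
    have hcfin := (hfin.image fun a : pt₀ ⟶ A => a.left (IsLocalRing.closedPoint k)).subset
      (show closedPoints A.left ∩ f.left ⁻¹' {η[Q].left (IsLocalRing.closedPoint k)} ⊆ _ from hsub)
    refine hcfin.subset fun y hy => ?_
    have h := closure_mono (Set.inter_comm _ _ |>.subset) (JacobsonSpace.closure_inter_closedPoints_eq_closure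
      (X := A.left) hcl.isLocallyClosed ▸ subset_closure hy)
    rwa [closure_eq_iff_isClosed.2] at h
    rw [← Set.biUnion_of_singleton (closedPoints A.left ∩ _)]
    exact hcfin.isClosed_biUnion fun y hy => mem_closedPoints_iff.1 hy.1
  haveI : IsProper f.left := by
    haveI : IsProper (f.left ≫ Q.hom) := by rw [Over.w f]; infer_instance
    exact IsProper.of_comp f.left Q.hom
  haveI : LocallyQuasiFinite f.left := GrpSchLib.HomFinite.locallyQuasiFinite_of_finite_preimage f hpre
  haveI : IsFinite f.left := IsFinite.of_isProper_of_locallyQuasiFinite f.left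
  haveI : Surjective f.left := H23.Isogeny.surjective_of_isFinite A.hom Q.hom f.left (Over.w f) hdim.symm
  haveI : Flat f.left := ((S7815.result A Q f).2 fun s => ⟨inferInstance, inferInstance⟩).1
  haveI : LocallyOfFinitePresentation f.left :=
    haveI : IsLocallyNoetherian Q.left := LocallyOfFiniteType.isLocallyNoetherian Q.hom
    AlgStLib.locallyOfFinitePresentation_of_isLocallyNoetherian f.left inferInstance
  refine ⟨MorphismProperty.of_isPullback hker ‹IsFinite f.left›, fun s => ?_⟩
  obtain ⟨d, -, hd⟩ := AVIndexStable.exists_degree f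
  rw [Scheme.Hom.finrank_of_isPullback i.left K.hom f.left η[Q].left hker s, hd]
  obtain ⟨g, hg⟩ := AVTors.exists_dimNat A
  haveI : SmoothOfRelativeDimension g A.hom := CurveFin.smoothOfRelativeDimension_of_dim A.hom hg
  obtain ⟨c, -, hc, -⟩ := AVIndex.exists_index g hg hL hfin
  refine (AVRiemannRoch.euler_sq_of_sep hP hsep hg (hdim.trans hg) f hd hL ?_ hc).symm
  rw [hf, mum, Category.comp_id]

end Closed

section BaseChange

variable {k Ω : Type u} [Field k] [Field Ω] (σ : Spec (CommRingCat.of Ω) ⟶ Spec (CommRingCat.of k))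
variable {A : Over (Spec (CommRingCat.of k))} [GrpObj A] [IsProper A.hom] [GeometricallyIntegral A.hom]
  {L : A.left.Modules} (hL : PicF.IsInvertible L)

include hL in
/-- `K(L)` commutes with extension of the base field. -/
theorem isKL_bc {K : Over (Spec (CommRingCat.of k))} {i : K ⟶ A} (hK : ThetaGrp.IsKL A L i) :
    ThetaGrp.IsKL (Red.bc σ A) ((Scheme.Modules.pullback (pullback.fst A.hom σ)).obj L) ((Over.pullback σ).map i) := by
  let B := Red.bc σ A
  haveI : IsProper B.hom := inferInstanceAs (IsProper (pullback.snd A.hom σ))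
  haveI : GeometricallyIntegral B.hom := inferInstanceAs (GeometricallyIntegral (pullback.snd A.hom σ))
  let p : B.left ⟶ A.left := pullback.fst A.hom σ
  have hB : PicF.IsInvertible ((Scheme.Modules.pullback p).obj L) := PicClLib.isInvertible_pullback _ hL
  haveI := hK.closed
  have hl : ((Over.pullback σ).map i).left ≫ pullback.snd A.hom σ = pullback.snd K.hom σ :=
    Over.w ((Over.pullback σ).map i)
  have hsq : IsPullback ((Over.pullback σ).map i).left (pullback.fst K.hom σ) (pullback.fst A.hom σ) i.left := by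
    refine IsPullback.of_right ?_ (by simp [Over.pullback]) (IsPullback.of_hasPullback A.hom σ).flip
    rw [hl, Over.w i]
    exact (IsPullback.of_hasPullback K.hom σ).flip
  refine ⟨MorphismProperty.of_isPullback hsq.flip ‹IsClosedImmersion i.left›, fun T z => ?_⟩
  obtain ⟨x, rfl⟩ := AVDualBC.up_surjective z
  let e : (B ⊗ T).left ≅ (A ⊗ AVDualBC.dn σ T).left := AgPol.bcXTIso σ A T
  have efst : e.hom ≫ (fst A (AVDualBC.dn σ T)).left = (fst B T).left ≫ p :=
    pullbackLeftPullbackSndIso_hom_fst A.hom σ T.hom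
  have esnd : e.hom ≫ (snd A (AVDualBC.dn σ T)).left = (snd B T).left :=
    pullbackLeftPullbackSndIso_hom_snd A.hom σ T.hom
  let d : AVDualBC.dn σ (B ⊗ T) ⟶ A ⊗ AVDualBC.dn σ T := Over.homMk e.hom (by
    show e.hom ≫ (A ⊗ AVDualBC.dn σ T).hom = (B ⊗ T).hom ≫ σ
    rw [← Over.w (snd A (AVDualBC.dn σ T)), reassoc_of% esnd]
    show (snd B T).left ≫ T.hom ≫ σ = _
    rw [← Category.assoc, Over.w (snd B T)])
  have h1 : AVDualBC.up (f := σ) (d ≫ fst A (AVDualBC.dn σ T)) = fst B T :=
    Over.OverMorphism.ext (pullback.hom_ext (by rw [AVDualBC.up_fst]; exact efst)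
      ((Over.w (AVDualBC.up (f := σ) (d ≫ fst A (AVDualBC.dn σ T)))).trans (Over.w (fst B T)).symm))
  have h2 : AVDualBC.up (f := σ) (d ≫ snd A (AVDualBC.dn σ T) ≫ x) = snd B T ≫ AVDualBC.up x := by
    have h : d ≫ snd A (AVDualBC.dn σ T) ≫ x = AVDualBC.dnMap σ (snd B T) ≫ x := by
      rw [← Category.assoc]
      exact congrArg (· ≫ x) (Over.OverMorphism.ext esnd)
    rw [h, AVDualBC.up_pre]
  have key : ∀ (y : AVDualBC.dn σ (B ⊗ T) ⟶ A),
      (pc hB (AVDualBC.up y) : PicF.Cl (B ⊗ T).left) = PicF.pullCl y.left (PicF.cl L) := by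
    intro y
    rw [val_pc]
    show PicF.pullCl (AVDualBC.up y).left (PicF.pullCl p (PicF.cl L)) = _
    rw [PicClLib.pullCl_comp, AVDualBC.up_fst]
  have hmum : (mum hB (AVDualBC.up x) : PicF.Cl (B ⊗ T).left) =
      PicF.pullCl e.hom (mum hL x : PicF.Cl (A ⊗ AVDualBC.dn σ T).left) := by
    let φ : PicF.Cl (A ⊗ AVDualBC.dn σ T).left →* PicF.Cl (B ⊗ T).left := PicMul.pullHom e.hom
    refine congrArg Units.val (show mum hB (AVDualBC.up x) = Units.map φ (mum hL x) from ?_)
    have hφ : ∀ y : A ⊗ AVDualBC.dn σ T ⟶ A, Units.map φ (pc hL y) = pc hB (AVDualBC.up (d ≫ y)) := fun y =>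
      Units.ext (by
        rw [key]
        show PicF.pullCl e.hom (pc hL y : PicF.Cl (A ⊗ AVDualBC.dn σ T).left) = PicF.pullCl (e.hom ≫ y.left) _
        rw [val_pc, ← PicClLib.pullCl_comp]
        rfl)
    simp only [mum, map_mul, map_inv, hφ, MonObj.comp_mul, AVDualBC.up_mul, h1, h2]
  have hiff : ThetaGrp.IsMumfordTriv B ((Scheme.Modules.pullback p).obj L) (AVDualBC.up x) ↔
      ThetaGrp.IsMumfordTriv A L x := by
    rw [mumford_iff_mum hB, mumford_iff_mum hL]
    refine exists_congr fun M => and_congr_right fun _ => ?_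
    rw [hmum, show (snd B T).left = e.hom ≫ (snd A (AVDualBC.dn σ T)).left from esnd.symm,
      ← PicClLib.pullCl_comp]
    refine ⟨fun h => ?_, fun h => congrArg (PicF.pullCl e.hom) h⟩
    have h' := congrArg (PicF.pullCl e.inv) h
    simpa only [PicClLib.pullCl_comp, Category.assoc, Category.id_comp, Iso.inv_hom_id_assoc, Iso.inv_hom_id, PicClLib.pullCl_id] using h'
  rw [hiff, hK.univ]
  constructor
  · rintro ⟨y, rfl⟩
    exact ⟨AVDualBC.up y, (AVDualBC.up_comp y i).symm⟩
  · rintro ⟨y, hy⟩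
    obtain ⟨y', rfl⟩ := AVDualBC.up_surjective y
    exact ⟨y', AVDualBC.up_injective ((AVDualBC.up_comp y' i).trans hy)⟩

end BaseChange

section AnyField

variable {k : Type u} [Field k] {A : Over (Spec (CommRingCat.of k))} [GrpObj A] [IsProper A.hom]
  [GeometricallyIntegral A.hom] {L : A.left.Modules} (hL : PicF.IsInvertible L)
  {K : Over (Spec (CommRingCat.of k))} {i : K ⟶ A}

include hL in
/-- `K(L)` is finite exactly when `χ(L) ≠ 0`, and then its rank is `χ(L)²`. -/
theorem rank_of (hK : ThetaGrp.IsKL A L i) (h : IsFinite K.hom ∨ @Curv2.euler k _ A.left ⟨A.hom⟩ L ≠ 0) :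
    IsFinite K.hom ∧ ∀ s : ↥(Spec (CommRingCat.of k)),
      (Scheme.Hom.finrank K.hom s : ℤ) = @Curv2.euler k _ A.left ⟨A.hom⟩ L ^ 2 := by
  let Ω := AlgebraicClosure k
  let σ : Spec (CommRingCat.of Ω) ⟶ Spec (CommRingCat.of k) := Spec.map (CommRingCat.ofHom (algebraMap k Ω))
  let B := Red.bc σ A
  haveI : IsProper B.hom := inferInstanceAs (IsProper (pullback.snd A.hom σ))
  haveI : GeometricallyIntegral B.hom := inferInstanceAs (GeometricallyIntegral (pullback.snd A.hom σ))
  have hB : PicF.IsInvertible ((Scheme.Modules.pullback (pullback.fst A.hom σ)).obj L : B.left.Modules) :=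
    PicClLib.isInvertible_pullback _ hL
  have hKB := isKL_bc σ hL hK
  have hsq : IsPullback (pullback.fst K.hom σ) (Red.bc σ K).hom K.hom σ := IsPullback.of_hasPullback K.hom σ
  have hmain : IsFinite (Red.bc σ K).hom ∧ ∀ s : ↥(Spec (CommRingCat.of Ω)),
      (Scheme.Hom.finrank (Red.bc σ K).hom s : ℤ) = @Curv2.euler k _ A.left ⟨A.hom⟩ L ^ 2 := by
    rw [← AVIndexStable.euler_bc Ω (AVIndexStable.isCoh hL)]
    rcases h with hf | hne
    · haveI : IsFinite (Red.bc σ K).hom := MorphismProperty.of_isPullback hsq hf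
      exact rank_of_finite_stab hB hKB (finite_stab_of_isFinite hB hKB)
    · rw [← AVIndexStable.euler_bc Ω (AVIndexStable.isCoh hL)] at hne
      exact rank_of_finite_stab hB hKB (AVIndexStable.finite_stab hB hne)
  haveI hσ : Surjective σ := ⟨fun x => ⟨IsLocalRing.closedPoint Ω, Subsingleton.elim (α := PrimeSpectrum k) _ _⟩⟩
  haveI : Flat σ := by
    show Flat (Spec.map _)
    rw [HasRingHomProperty.Spec_iff (P := @Flat)]
    exact RingHom.flat_algebraMap_iff.2 inferInstance
  haveI : MorphismProperty.DescendsAlong @IsFinite (@Surjective ⊓ @Flat ⊓ @QuasiCompact : MorphismProperty Scheme.{u}) :=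
    EtFound.fpqc_isFinite
  haveI hfin : IsFinite K.hom := MorphismProperty.of_isPullback_of_descendsAlong (P := @IsFinite) hsq.flip
    (show (@Surjective ⊓ @Flat ⊓ @QuasiCompact : MorphismProperty Scheme.{u}) σ from
      ⟨⟨inferInstance, inferInstance⟩, inferInstance⟩) hmain.1
  refine ⟨hfin, fun s => ?_⟩
  haveI : IsLocallyNoetherian (Spec (CommRingCat.of k)) := inferInstance
  haveI : LocallyOfFinitePresentation K.hom :=
    AlgStLib.locallyOfFinitePresentation_of_isLocallyNoetherian K.hom inferInstance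
  haveI : Flat K.hom := inferInstance
  rw [Subsingleton.elim (α := PrimeSpectrum k) s (σ (IsLocalRing.closedPoint Ω)),
    ← Scheme.Hom.finrank_of_isPullback _ _ _ _ hsq (IsLocalRing.closedPoint Ω)]
  exact hmain.2 _

end AnyField

end Groth.Agent.AVKLRank
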