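import Groth.Agent.Lib.AVDeg
import Groth.Agent.GrpSchLib.HomFlat

/-!
The map to the bidual is an isomorphism.
-/

set_option linter.style.haveILetI false
set_option linter.unusedSectionVars false
set_option backward.isDefEq.respectTransparency false
set_option backward.isDefEq.respectTransparency.types false
set_option maxHeartbeats 1000000
set_option synthInstance.maxHeartbeats 400000

universe u

open CategoryTheory CategoryTheory.Limits MonoidalCategory CartesianMonoidalCategory MonObj AlgebraicGeometry TopologicalSpace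

noncomputable section

namespace Groth.Agent.AVBidual

open Groth.Agent.H23 Groth.Agent.AVPair Groth.Agent.AVLambda
open scoped CategoryTheory.Obj
attribute [local instance] PicMul.clMonoid

section Field

variable {k : Type u} [Field k] [IsAlgClosed k] {X Xt Xtt : Over (Spec (CommRingCat.of k))}
  [GrpObj X] [IsCommMonObj X] [IsProper X.hom] [GeometricallyIntegral X.hom]
  [GrpObj Xt] [IsCommMonObj Xt] [IsProper Xt.hom] [GeometricallyIntegral Xt.hom]
  {φX : AgPol.DualMap X Xt} (hX : AbDual.IsDualAV Scheme.fppfPrecoverage X Xt φX)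
include hX

/-- The homomorphism of an ample module is an isogeny. -/
theorem isogeny_lam {L : X.left.Modules} (hL : CohB1.IsAmple L) :
    IsFinite (lam φX hL.1).left ∧ Flat (lam φX hL.1).left ∧ Surjective (lam φX hL.1).left := by
  haveI := isMonHom_lam hL.1 hX
  haveI : IsIntegral X.left := GeometricallyIntegral.isIntegral_of_subsingleton X.hom
  haveI : IsIntegral Xt.left := GeometricallyIntegral.isIntegral_of_subsingleton Xt.hom
  haveI : IsProper (lam φX hL.1).left := by
    haveI : IsProper ((lam φX hL.1).left ≫ Xt.hom) := by rw [Over.w]; infer_instance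
    exact IsProper.of_comp (lam φX hL.1).left Xt.hom
  haveI hfin : IsFinite (lam φX hL.1).left := by
    obtain ⟨g, hg⟩ := AVTors.exists_dimNat X
    rcases g with _ | r
    · have h : ∀ x : X.left, x = genericPoint X.left := fun x => by
        have hd := VarDim.topologicalKrullDim_eq_deg_genericPoint X.hom
        rw [hg] at hd
        have h0 : VarDim.deg X.hom (genericPoint X.left) = 0 := by exact_mod_cast hd.symm
        exact (VarDim.eq_of_specializes_of_deg_le X.hom (genericPoint_specializes x) (by omega)).symm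
      haveI : Subsingleton X.left := ⟨fun a b => (h a).trans (h b).symm⟩
      haveI : LocallyQuasiFinite (lam φX hL.1).left :=
        LocallyQuasiFinite.of_finite_preimage_singleton _ fun _ => Set.toFinite _
      exact IsFinite.of_isProper_of_locallyQuasiFinite (lam φX hL.1).left
    · obtain ⟨-, ψ, n, -, hn, h, -⟩ := exists_qinv_lam hX hL hg
      haveI : IsSeparated ψ.left := by
        haveI : IsSeparated (ψ.left ≫ X.hom) := by rw [Over.w ψ]; infer_instance
        exact IsSeparated.of_comp ψ.left X.hom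
      haveI : IsFinite ((lam φX hL.1).left ≫ ψ.left) := by
        rw [← Over.comp_left, h, ← zpow_natCast]
        exact (AVDegLib.zpow_props (A := X) (n : ℤ) (by exact_mod_cast hn.ne')).1
      exact IsFinite.of_comp (lam φX hL.1).left ψ.left
  haveI := (AVTorsChar.surjective_of_isFinite hX (lam φX hL.1)).1
  exact ⟨hfin, GrpSchLib.flat_of_surjective_hom _, inferInstance⟩

variable [GrpObj Xtt] [IsCommMonObj Xtt] [IsProper Xtt.hom] [GeometricallyIntegral Xtt.hom]
  {φXt : AgPol.DualMap Xt Xtt} (hXt : AbDual.IsDualAV Scheme.fppfPrecoverage Xt Xtt φXt)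
include hXt

theorem isIso_toBidual {ξ : PicF.Cl (X ⊗ Xt).left} (hξ : AbDual.IsPoincareCl X Xt φX ξ)
    (hξ' : AVDual.PZ Xt X (pl (lift (snd Xt X) (fst Xt X)) ξ)) (κ : X ⟶ Xtt) [IsMonHom κ]
    (hκ : κ = φXt X (pl (lift (snd Xt X) (fst Xt X)) ξ)) : IsIso κ := by
  obtain ⟨L, hL⟩ := AVProj.exists_isAmple (X := X)
  haveI : Smooth X.hom := S7795.result X
  haveI : Smooth Xt.hom := S7795.result Xt
  haveI : Smooth Xtt.hom := S7795.result Xtt
  haveI : GeometricallyConnected X.hom := H23.CubeAb.geometricallyConnected_of_integral X.hom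
  haveI : GeometricallyConnected Xt.hom := H23.CubeAb.geometricallyConnected_of_integral Xt.hom
  haveI : GeometricallyConnected Xtt.hom := H23.CubeAb.geometricallyConnected_of_integral Xtt.hom
  haveI : IsIntegral X.left := GeometricallyIntegral.isIntegral_of_subsingleton X.hom
  haveI : IsIntegral Xt.left := GeometricallyIntegral.isIntegral_of_subsingleton Xt.hom
  haveI : IsIntegral Xtt.left := GeometricallyIntegral.isIntegral_of_subsingleton Xtt.hom
  haveI : IsLocallyNoetherian Xt.left := LocallyOfFiniteType.isLocallyNoetherian Xt.hom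
  haveI : IsLocallyNoetherian Xtt.left := LocallyOfFiniteType.isLocallyNoetherian Xtt.hom
  obtain ⟨hlf, hlfl, hls⟩ := isogeny_lam hX hL
  haveI := hlf; haveI := hlfl; haveI := hls
  set l := lam φX hL.1 with hl
  haveI : IsMonHom l := isMonHom_lam hL.1 hX
  obtain ⟨lt, hlt⟩ := AVDeg.exists_transpose hX hXt l
  haveI := AVDeg.isMonHom_transpose hX hXt hlt
  have hcomp : κ ≫ lt = l := by
    have hbase : pl (X ◁ l) ξ = base hL.1 := by
      refine AVDual.eq_of_phi hX (AVDual.pz_pl l hξ.1) (pz_base hL.1) ?_ 1 ?_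
      · rw [AVDual.phi_pl hX l hξ.1, hξ.2.1, Category.comp_id]
      · have h1 := congrArg (pl l) (AVDual.poincare_axes hX hξ).1
        rw [pl_pl, map_one, comp_lift, MonObj.comp_one, Category.comp_id] at h1
        rw [base_axis, pl_pl, lift_whiskerLeft, Category.id_comp, h1]
    rw [hκ, ← hlt _ _ hξ']
    refine congrArg (φX X) ?_
    show pl (l ▷ X) (pl (lift (snd Xt X) (fst Xt X)) ξ) = base hL.1
    rw [pl_pl, show (l ▷ X) ≫ lift (snd Xt X) (fst Xt X) = lift (snd X X) (fst X X) ≫ (X ◁ l) by
      apply CartesianMonoidalCategory.hom_ext <;> simp, ← pl_pl, hbase, val_polar, lift_fst, lift_snd,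
      AVDegPoly.polar_comm hL.1 (snd X X)]
  let y₀ : Xt.left := η[Xt].left (IsLocalRing.closedPoint k)
  have hd : ∀ y, Scheme.Hom.finrank l.left y = Scheme.Hom.finrank l.left y₀ := fun y =>
    l.left.isLocallyConstant_finrank.apply_eq_of_preconnectedSpace _ _
  obtain ⟨htf, htfl, hts, htd⟩ := AVDeg.degree_eq hX hXt hlt hd
  haveI := htf; haveI := htfl; haveI := hts
  haveI : IsFinite (κ.left ≫ lt.left) := by rw [← Over.comp_left, hcomp]; exact hlf
  haveI : IsFinite κ.left := IsFinite.of_comp κ.left lt.left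
  haveI : Surjective κ.left := by
    obtain ⟨r, hr⟩ := AVTors.exists_dimNat X
    obtain ⟨r', hr'⟩ := AVTors.exists_dimNat Xt
    obtain ⟨r'', hr''⟩ := AVTors.exists_dimNat Xtt
    refine H23.Isogeny.surjective_of_isFinite X.hom Xtt.hom κ.left (Over.w κ) ?_
    rw [hr, hr'', AVDeg.dim_dual hXt hr' hr'', AVDeg.dim_dual hX hr hr']
  haveI : Flat κ.left := GrpSchLib.flat_of_surjective_hom κ
  haveI : IsIso κ.left := by
    refine (Scheme.Hom.isIso_iff_finrank_eq κ.left).2 (funext fun z => ?_)
    have h := AVTors.finrank_comp_eq κ lt z y₀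
    rw [hcomp, htd y₀] at h
    have h1 : 1 ≤ Scheme.Hom.finrank l.left y₀ :=
      ((Scheme.Hom.one_le_finrank_iff_surjective (f := l.left)).2 inferInstance) y₀
    exact (Nat.eq_of_mul_eq_mul_right h1 ((_root_.one_mul _).trans h)).symm
  exact Over.isoMk (asIso κ.left) (Over.w κ) |>.isIso_hom

end Field

section BC

variable {S S' : Scheme.{u}} (f : S' ⟶ S) {A B At : Over S} [GrpObj At] {φ : AgPol.DualMap A At}

/-- The projection from the base change. -/
noncomputable abbrev pr (B : Over S) : AVDualBC.dn f (Red.bc f B) ⟶ B :=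
  Over.homMk (pullback.fst B.hom f) pullback.condition

/-- The class on the base change. -/
noncomputable abbrev bcCl (ξ : PicF.Cl (PicF.XT A.hom B)) : PicF.Cl (PicF.XT (Red.bc f A).hom (Red.bc f B)) :=
  PicF.pullCl (AgPol.bcXTIso f A (Red.bc f B)).hom (PicF.pullCl (PicF.XTmap A.hom (pr f B)) ξ)

theorem pz_bcCl {ξ : PicF.Cl (PicF.XT A.hom B)} (h : AbDual.IsPicZeroCl A.hom B ξ) :
    AbDual.IsPicZeroCl (Red.bc f A).hom (Red.bc f B) (bcCl f ξ) :=
  AVDualBC.pz_hom (AbDualBase.pz_xtMap _ h)

theorem bcDual_bcCl (hφ : AbDual.IsDualAV Scheme.fppfPrecoverage A At φ) {ξ : PicF.Cl (PicF.XT A.hom B)}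
    (h : AbDual.IsPicZeroCl A.hom B ξ) :
    AgPol.bcDual f A At φ (Red.bc f B) (bcCl f ξ) = (Over.pullback f).map (φ B ξ) := by
  rw [AVDualBC.bcDual_eq, PicClLib.pullCl_comp (AgPol.bcXTIso f A (Red.bc f B)).inv, Iso.inv_hom_id,
    PicClLib.pullCl_id, hφ.relPic.natural _ _ (pr f B) _ h]
  refine Over.OverMorphism.ext (pullback.hom_ext ?_ ?_)
  · rw [AVDualBC.up_fst]
    simp [Over.pullback]
  · exact (Over.w (AVDualBC.up _)).trans (Over.w ((Over.pullback f).map (φ B ξ))).symm

theorem bcCl_swap (ξ : PicF.Cl (PicF.XT A.hom B)) :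
    PicF.pullCl (pullbackSymmetry (Red.bc f B).hom (Red.bc f A).hom).hom (bcCl f ξ) =
      bcCl f (PicF.pullCl (pullbackSymmetry B.hom A.hom).hom ξ) := by
  simp only [bcCl, PicClLib.pullCl_comp]
  refine congrArg (PicF.pullCl · ξ) (pullback.hom_ext ?_ ?_)
  · simp [AgPol.bcXTIso, PicF.XTmap, Over.pullback]
  · simp [AgPol.bcXTIso, PicF.XTmap, Over.pullback]

theorem isPoincareCl_bcCl [GrpObj A] (hφ : AbDual.IsDualAV Scheme.fppfPrecoverage A At φ) {ξ : PicF.Cl (PicF.XT A.hom At)}
    (h : AbDual.IsPoincareCl A At φ ξ) :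
    AbDual.IsPoincareCl (Red.bc f A) (Red.bc f At) (AgPol.bcDual f A At φ) (bcCl f ξ) := by
  refine ⟨pz_bcCl f h.1, by rw [bcDual_bcCl f hφ h.1, h.2.1, CategoryTheory.Functor.map_id], ?_⟩
  have e : PicF.pullCl (PicF.secT (Red.bc f A).hom η[Red.bc f A].left (Over.w η[Red.bc f A]) (Red.bc f At)) (bcCl f ξ) =
      PicF.pullCl (pullback.fst At.hom f) (PicF.pullCl (PicF.secT A.hom η[A].left (Over.w η[A]) At) ξ) := by
    simp only [bcCl, PicClLib.pullCl_comp]
    refine congrArg (PicF.pullCl · ξ) (pullback.hom_ext ?_ ?_)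
    · simp [AgPol.bcXTIso, PicF.XTmap, PicF.secT, Functor.obj.η_def, pullback.condition_assoc, Over.ε_pullback_left]
    · simp [AgPol.bcXTIso, PicF.XTmap, PicF.secT]
      exact Category.id_comp _
  show _ = PicF.cl _
  rw [e, show PicF.pullCl (PicF.secT A.hom η[A].left (Over.w η[A]) At) ξ = 1 from h.2.2]
  exact PicMul.pullCl_one _

end BC

end Groth.Agent.AVBidual
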