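import Groth.Agent.GrpSchLib.DualPairing
import Mathlib.Algebra.Algebra.Epi
import Mathlib.LinearAlgebra.TensorProduct.Basis

/-!
A nondegenerate biadditive pairing of two finite group schemes gives a surjection from the dual algebra.
-/

set_option linter.style.haveILetI false
set_option linter.unusedSectionVars false
set_option maxHeartbeats 800000
set_option synthInstance.maxHeartbeats 100000

universe u

open TensorProduct
open Algebra.TensorProduct (includeLeft includeRight)

namespace Groth.Agent.AVCartPair

open CartDual (D)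

variable {k : Type u} [Field k] {A B : Type u} [CommRing A] [HopfAlgebra k A] [FiniteDimensional k A]
  [CommRing B] [HopfAlgebra k B] [FiniteDimensional k B]

section Slice

variable {M N : Type u} [AddCommGroup M] [Module k M] [AddCommGroup N] [Module k N]

/-- Pairing the left factor with a linear form. -/
noncomputable def slice (f : M →ₗ[k] k) : M ⊗[k] N →ₗ[k] N :=
  (TensorProduct.lid k N).toLinearMap ∘ₗ f.rTensor N

@[simp] theorem slice_tmul (f : M →ₗ[k] k) (m : M) (n : N) : slice f (m ⊗ₜ[k] n) = f m • n := by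
  simp [slice]

theorem slice_ext {y y' : M ⊗[k] N} (h : ∀ f : M →ₗ[k] k, slice f y = slice f y') : y = y' := by
  refine (TensorProduct.equivFinsuppOfBasisLeft (Module.Free.chooseBasis k M)).injective (Finsupp.ext fun i => ?_)
  rw [TensorProduct.equivFinsuppOfBasisLeft_apply, TensorProduct.equivFinsuppOfBasisLeft_apply]
  exact h _

end Slice

variable (x : A ⊗[k] B)

/-- The map from the dual algebra. -/
noncomputable def Ψ : D k A →ₗ[k] B where
  toFun f := slice f.ofConv x
  map_add' f g := by simp [slice]
  map_smul' r f := by simp [slice]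

theorem Ψ_apply (f : D k A) : Ψ x f = slice f.ofConv x := rfl

/-- The biadditivity and nondegeneracy of a pairing. -/
structure IsPairing : Prop where
  comul_left : Algebra.TensorProduct.map (Bialgebra.comulAlgHom k A) (AlgHom.id k B) x =
    Algebra.TensorProduct.map (includeLeft : A →ₐ[k] A ⊗[k] A) (AlgHom.id k B) x *
      Algebra.TensorProduct.map (includeRight : A →ₐ[k] A ⊗[k] A) (AlgHom.id k B) x
  comul_right : Algebra.TensorProduct.map (AlgHom.id k A) (Bialgebra.comulAlgHom k B) x =
    Algebra.TensorProduct.map (AlgHom.id k A) (includeLeft : B →ₐ[k] B ⊗[k] B) x *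
      Algebra.TensorProduct.map (AlgHom.id k A) (includeRight : B →ₐ[k] B ⊗[k] B) x
  counit_left : slice (Coalgebra.counit (R := k) (A := A)) x = 1
  counit_right : Algebra.TensorProduct.map (AlgHom.id k A) (Bialgebra.counitAlgHom k B) x = 1
  inj : ∀ (R : Type u) [CommRing R] [Algebra k R] (a b : B →ₐ[k] R),
    Algebra.TensorProduct.map (AlgHom.id k A) a x = Algebra.TensorProduct.map (AlgHom.id k A) b x → a = b

variable {x}

theorem slice_map {A' B' : Type u} [CommRing A'] [Algebra k A'] [CommRing B'] [Algebra k B'] (f : A' →ₗ[k] k)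
    (p : A →ₐ[k] A') (q : B →ₐ[k] B') (y : A ⊗[k] B) :
    slice f (Algebra.TensorProduct.map p q y) = q (slice (f ∘ₗ p.toLinearMap) y) := by
  induction y using TensorProduct.induction_on with
  | zero => simp
  | tmul a b => simp [map_smul]
  | add y y' h h' => simp only [map_add, h, h']

variable (h : IsPairing x)
include h

theorem Ψ_one : Ψ x 1 = 1 := by
  have e : ((1 : D k A)).ofConv = (Coalgebra.counit (R := k) : A →ₗ[k] k) := LinearMap.ext fun a => by simp
  rw [Ψ_apply, e, h.counit_left]

theorem Ψ_mul (f g : D k A) : Ψ x (f * g) = Ψ x f * Ψ x g := by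
  have e : (f * g).ofConv = (CartDual.ev₂ k A (f ⊗ₜ g) : A ⊗[k] A →ₗ[k] k) ∘ₗ (Bialgebra.comulAlgHom k A).toLinearMap :=
    LinearMap.ext fun a => GrpSchLib.convMul_eq_ev₂ f g a
  rw [Ψ_apply, e, Ψ_apply, Ψ_apply]
  have h1 := congrArg (slice (CartDual.ev₂ k A (f ⊗ₜ g) : A ⊗[k] A →ₗ[k] k)) h.comul_left
  rw [slice_map, AlgHom.id_apply] at h1
  rw [h1]
  have key : ∀ y z : A ⊗[k] B, slice (CartDual.ev₂ k A (f ⊗ₜ g) : A ⊗[k] A →ₗ[k] k)
      (Algebra.TensorProduct.map (includeLeft : A →ₐ[k] A ⊗[k] A) (AlgHom.id k B) y *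
        Algebra.TensorProduct.map (includeRight : A →ₐ[k] A ⊗[k] A) (AlgHom.id k B) z) =
        slice f.ofConv y * slice g.ofConv z := by
    intro y z
    induction y using TensorProduct.induction_on with
    | zero => simp
    | add y y' hy hy' => simp only [map_add, add_mul, hy, hy']
    | tmul a b =>
      induction z using TensorProduct.induction_on with
      | zero => simp
      | add z z' hz hz' => simp only [map_add, mul_add, hz, hz']
      | tmul c d => simp [CartDual.coe_apply, smul_smul, Algebra.mul_smul_comm, mul_comm]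
  exact key x x

theorem counit_Ψ (f : D k A) : Coalgebra.counit (R := k) (Ψ x f) = f 1 := by
  have h1 := congrArg (slice f.ofConv) h.counit_right
  rw [slice_map, show f.ofConv ∘ₗ (AlgHom.id k A).toLinearMap = f.ofConv from rfl] at h1
  rw [Ψ_apply]
  refine h1.trans ?_
  simp [Algebra.TensorProduct.one_def, CartDual.coe_apply]

theorem comul_Ψ (f : D k A) :
    Coalgebra.comul (R := k) (Ψ x f) = TensorProduct.map (Ψ x) (Ψ x) (Coalgebra.comul (R := k) f) := by
  have h1 := congrArg (slice f.ofConv) h.comul_right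
  rw [slice_map, show f.ofConv ∘ₗ (AlgHom.id k A).toLinearMap = f.ofConv from rfl] at h1
  rw [Ψ_apply]
  refine h1.trans ?_
  let t : A ⊗[k] B → A ⊗[k] B → (A ⊗[k] A) ⊗[k] (B ⊗[k] B) := fun y z =>
    TensorProduct.tensorTensorTensorComm k A B A B (y ⊗ₜ z)
  have k1 : ∀ y z, slice f.ofConv (Algebra.TensorProduct.map (AlgHom.id k A) (includeLeft : B →ₐ[k] B ⊗[k] B) y *
      Algebra.TensorProduct.map (AlgHom.id k A) (includeRight : B →ₐ[k] B ⊗[k] B) z) =
      slice (f.ofConv ∘ₗ LinearMap.mul' k A) (t y z) := by
    intro y z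
    induction y using TensorProduct.induction_on with
    | zero => simp [t]
    | add y y' hy hy' => simp only [t, map_add, add_mul, TensorProduct.add_tmul] at hy hy' ⊢; rw [hy, hy']
    | tmul a b =>
      induction z using TensorProduct.induction_on with
      | zero => simp [t]
      | add z z' hz hz' => simp only [t, map_add, mul_add, TensorProduct.tmul_add] at hz hz' ⊢; rw [hz, hz']
      | tmul c d => simp [t]
  have k2 : ∀ (u v : D k A) (y z : A ⊗[k] B),
      slice (CartDual.ev₂ k A (u ⊗ₜ v) : A ⊗[k] A →ₗ[k] k) (t y z) = slice u.ofConv y ⊗ₜ slice v.ofConv z := by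
    intro u v y z
    induction y using TensorProduct.induction_on with
    | zero => simp [t]
    | add y y' hy hy' => simp only [t, map_add, TensorProduct.add_tmul] at hy hy' ⊢; rw [hy, hy']
    | tmul a b =>
      induction z using TensorProduct.induction_on with
      | zero => simp [t]
      | add z z' hz hz' => simp only [t, map_add, TensorProduct.tmul_add] at hz hz' ⊢; rw [hz, hz']
      | tmul c d => simp [t, CartDual.coe_apply, TensorProduct.smul_tmul, TensorProduct.tmul_smul, smul_smul, mul_comm]
  have k3 : ∀ z : D k A ⊗[k] D k A,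
      TensorProduct.map (Ψ x) (Ψ x) z = slice (CartDual.ev₂ k A z : A ⊗[k] A →ₗ[k] k) (t x x) := by
    intro z
    induction z using TensorProduct.induction_on with
    | zero => simp [slice]
    | add z z' hz hz' => simp only [map_add, hz, hz']; simp [slice]
    | tmul u v => rw [TensorProduct.map_tmul, k2]; rfl
  rw [k1, k3, CartDual.comul_def, CartDual.ev₂_comul]

/-- The pairing as a map of bialgebras. -/
noncomputable def Ψb : D k A →ₐc[k] B :=
  BialgHom.ofAlgHom (AlgHom.ofLinearMap (Ψ x) (Ψ_one h) (Ψ_mul h))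
    (AlgHom.ext fun f => counit_Ψ h f)
    (AlgHom.ext fun f => (comul_Ψ h f).symm)

theorem Ψb_apply (f : D k A) : Ψb h f = Ψ x f := rfl

theorem surjective_Ψb : Function.Surjective (Ψb h) := by
  let φ : D k A →ₐ[k] B := AlgHom.ofLinearMap (Ψ x) (Ψ_one h) (Ψ_mul h)
  let S : Subalgebra k B := φ.range
  haveI : Module.Finite S B := Module.Finite.of_restrictScalars_finite k S B
  let a : B →ₐ[k] B ⊗[S] B := (includeLeft : B →ₐ[S] B ⊗[S] B).restrictScalars k
  let b : B →ₐ[k] B ⊗[S] B := (includeRight : B →ₐ[S] B ⊗[S] B).restrictScalars k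
  have hab : a = b := h.inj _ a b (slice_ext fun f => by
    rw [slice_map, slice_map]
    have hs : slice (f ∘ₗ (AlgHom.id k A).toLinearMap) x ∈ S := ⟨WithConv.toConv f, rfl⟩
    exact ((includeLeft : B →ₐ[S] B ⊗[S] B).commutes ⟨_, hs⟩).trans
      ((includeRight : B →ₐ[S] B ⊗[S] B).commutes ⟨_, hs⟩).symm)
  have hsurj := (Algebra.isEpi_iff_surjective_algebraMap_of_finite (R := S) (A := B)).1
    ((Algebra.isEpi_iff_forall_one_tmul_eq S B).2 fun r => (AlgHom.congr_fun hab r).symm)
  intro r
  obtain ⟨⟨_, f, rfl⟩, hf⟩ := hsurj r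
  exact ⟨f, hf⟩

/-- The dimension of the second algebra is at most that of the first. -/
theorem finrank_le : Module.finrank k B ≤ Module.finrank k A := by
  refine (LinearMap.finrank_le_finrank_of_surjective (f := ((Ψb h : D k A →ₐc[k] B) : D k A →ₗ[k] B))
    (surjective_Ψb h)).trans_eq ?_
  rw [(CartDual.toDual k A).finrank_eq, Subspace.dual_finrank_eq]

/-- With equal dimensions the pairing identifies the algebra with the dual algebra. -/
theorem nonempty_equiv (hd : Module.finrank k A ≤ Module.finrank k B) : Nonempty (B ≃ₐc[k] D k A) := by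
  refine ⟨(BialgEquiv.ofBijective (Ψb h) ⟨?_, surjective_Ψb h⟩).symm⟩
  have e : Module.finrank k (D k A) = Module.finrank k B := le_antisymm
    ((CartDual.toDual k A).finrank_eq.trans_le (Subspace.dual_finrank_eq.trans_le hd))
    (LinearMap.finrank_le_finrank_of_surjective (f := ((Ψb h : D k A →ₐc[k] B) : D k A →ₗ[k] B)) (surjective_Ψb h))
  exact (LinearMap.injective_iff_surjective_of_finrank_eq_finrank e
    (f := ((Ψb h : D k A →ₐc[k] B) : D k A →ₗ[k] B))).2 (surjective_Ψb h)

end Groth.Agent.AVCartPair
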