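import Groth.Agent.Lib.AVFirstOrder
import Groth.Agent.S1488

/-!
The universal property of a separating class on arbitrary families.
-/

set_option autoImplicit false
set_option linter.style.haveILetI false
set_option linter.unusedSectionVars false
set_option maxHeartbeats 1000000
set_option synthInstance.maxHeartbeats 400000
set_option backward.isDefEq.respectTransparency false
set_option backward.isDefEq.respectTransparency.types false

universe u

open CategoryTheory CategoryTheory.Limits AlgebraicGeometry MonoidalCategory CartesianMonoidalCategory MonObj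
  TopologicalSpace

noncomputable section

namespace Groth.Agent.AVClassify

open Groth.Agent Groth.Agent.H23 Groth.Agent.PicTangent Groth.Agent.AVPair
open scoped Groth.Agent.H23.PicMul

variable {k : Type u} [Field k] {A : Over (Spec (CommRingCat.of k))} [GrpObj A] [IsProper A.hom]
  [GeometricallyIntegral A.hom]

/-- The locus where a rigidified class over any base is trivial, as a finitely presented immersion. -/
theorem exists_locus {B : Over (Spec (CommRingCat.of k))} {e : PicF.Cl (A ⊗ B).left}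
    (he : PicF.IsInvertibleCl e) (he0 : pl (lift (1 : B ⟶ A) (𝟙 B)) e = 1) :
    ∃ (K : Over (Spec (CommRingCat.of k))) (i : K ⟶ B), Mono i ∧ LocallyOfFinitePresentation i.left ∧
      ∀ (T : Over (Spec (CommRingCat.of k))) (z : T ⟶ B), pl (A ◁ z) e = 1 ↔ ∃ y : T ⟶ K, y ≫ i = z := by
  obtain ⟨E, rfl, hE⟩ := he
  haveI : IsProper (snd A B).left := inferInstanceAs (IsProper (pullback.snd A.hom B.hom))
  haveI : Flat (snd A B).left := inferInstanceAs (Flat (pullback.snd A.hom B.hom))
  haveI : GeometricallyIntegral (snd A B).left := inferInstanceAs (GeometricallyIntegral (pullback.snd A.hom B.hom))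
  haveI : GeometricallyConnected (snd A B).left := CubeAb.geometricallyConnected_of_integral _
  haveI : Smooth A.hom := S7795.result A
  haveI : Smooth (snd A B).left := inferInstanceAs (Smooth (pullback.snd A.hom B.hom))
  haveI : GeometricallyReduced (snd A B).left := H23.RigidGamma.geometricallyReduced_of_smooth _
  haveI : LocallyOfFinitePresentation (snd A B).left := inferInstance
  obtain ⟨Z, ζ, hζ, hζp, -, huniv⟩ := SeesawX.exists_seesaw_finLocFree (f := (snd A B).left)
    (AVKLExist.isFinLocFree_of_isInvertible hE)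
  let K : Over (Spec (CommRingCat.of k)) := Over.mk (ζ ≫ B.hom)
  let i : K ⟶ B := Over.homMk ζ
  haveI := hζ
  haveI : Mono i.left := inferInstanceAs (Mono ζ)
  refine ⟨K, i, Over.mono_of_mono_left i, hζp, fun T z => ?_⟩
  have hfac : pl (A ◁ z) (PicF.cl E) = 1 ↔ ∃ l : T.left ⟶ Z, l ≫ ζ = z.left := by
    rw [huniv z.left (snd A T).left (A ◁ z).left (AVSepClassify.isPullback_whisker z)]
    constructor
    · intro h
      refine ⟨Coh.structureModule T.left,
        AVKLExist.isFinLocFree_of_isInvertible (PicLoc.isInvertible_structureModule _),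
        (PicGrp.cl_eq_cl_iff _ _).1 (h.trans ?_)⟩
      exact (PicMul.pullCl_one _).symm
    · rintro ⟨M, -, ⟨e'⟩⟩
      have h1 : pl (A ◁ z) (PicF.cl E) = PicF.pullCl (snd A T).left (PicF.cl M) := (PicGrp.cl_eq_cl_iff _ _).2 ⟨e'⟩
      have h2 := congrArg (pl (lift (1 : T ⟶ A) (𝟙 T))) h1
      rw [pl_pl, lift_whiskerLeft, Category.id_comp,
        show lift (1 : T ⟶ A) z = z ≫ lift (1 : B ⟶ A) (𝟙 B) by rw [comp_lift, MonObj.comp_one, Category.comp_id],
        ← pl_pl, he0, map_one] at h2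
      change 1 = pl _ (pl (snd A T) (PicF.cl M)) at h2
      rw [pl_pl, lift_snd, pl_id] at h2
      rw [h1, ← h2]
      exact PicMul.pullCl_one _
  exact hfac.trans ⟨fun ⟨l, hl⟩ => ⟨Over.homMk l (by
      show l ≫ ζ ≫ B.hom = T.hom
      rw [← Category.assoc, hl, Over.w z]), Over.OverMorphism.ext hl⟩,
      fun ⟨y, hy⟩ => ⟨y.left, congrArg (fun m : T ⟶ B => m.left) hy⟩⟩

variable {Q : Over (Spec (CommRingCat.of k))} [GrpObj Q] [IsProper Q.hom] [GeometricallyIntegral Q.hom]
  [Smooth Q.hom] [IsAlgClosed k] {g : ℕ} (hA : topologicalKrullDim ↥A.left = g)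
  (hQ : topologicalKrullDim ↥Q.left = g)
  {P : (A ⊗ Q).left.Modules} (hP : PicF.IsInvertible P) (hs : AVPoincare.Sep (PicF.cl P : PicF.Cl (A ⊗ Q).left))

include hP hs in
/-- Slices along products of points multiply. -/
theorem pl_mul {T : Over (Spec (CommRingCat.of k))} (a b : T ⟶ Q) :
    pl (A ◁ (a * b)) (PicF.cl P) = pl (A ◁ a) (PicF.cl P) * pl (A ◁ b) (PicF.cl P) := by
  haveI : IsIntegral Q.left := GeometricallyIntegral.isIntegral_of_subsingleton Q.hom
  have e : ∀ t : T ⟶ Q, A ◁ t = lift (fst A T) (snd A T ≫ t) := fun t => by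
    apply CartesianMonoidalCategory.hom_ext <;> simp
  rw [e, e, e, MonObj.comp_mul, add_right ⟨P, rfl, hP⟩ hs.left hs.right]

include hA hQ hP hs in
/-- **The universal property of a separating class.** -/
theorem exists_classify {T : Over (Spec (CommRingCat.of k))} {c : PicF.Cl (A ⊗ T).left}
    (hc : PicF.IsInvertibleCl c) (hc0 : pl (lift (1 : T ⟶ A) (𝟙 T)) c = 1)
    (hpts : ∀ t : T.left, ∃ (S : Over (Spec (CommRingCat.of k))) (z : S ⟶ T) (w : S ⟶ Q),
      pl (A ◁ z) c = pl (A ◁ w) (PicF.cl P) ∧ t ∈ Set.range z.left) :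
    ∃ f : T ⟶ Q, pl (A ◁ f) (PicF.cl P) = c := by
  obtain ⟨D, hD, hPD⟩ := exists_inv (isInv_pl (A ◁ snd T Q) (c := PicF.cl P) ⟨P, rfl, hP⟩)
  have hD1 : pl (lift (1 : T ⊗ Q ⟶ A) (𝟙 (T ⊗ Q))) D = 1 := by
    have h := congrArg (pl (lift (1 : T ⊗ Q ⟶ A) (𝟙 (T ⊗ Q)))) hPD
    rw [map_mul, map_one, pl_pl, lift_whiskerLeft, Category.id_comp,
      show lift (1 : T ⊗ Q ⟶ A) (snd T Q) = snd T Q ≫ lift (1 : Q ⟶ A) (𝟙 Q) by
        rw [comp_lift, MonObj.comp_one, Category.comp_id], ← pl_pl, hs.left, map_one, _root_.one_mul] at h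
    exact h
  obtain ⟨K, i, hi, hip, hu⟩ := exists_locus (B := T ⊗ Q) (e := pl (A ◁ fst T Q) c * D)
    (PicMul.isInvertibleCl_mul (isInv_pl _ hc) hD)
    (by rw [map_mul, hD1, _root_.mul_one, pl_pl, lift_whiskerLeft, Category.id_comp,
      show lift (1 : T ⊗ Q ⟶ A) (fst T Q) = fst T Q ≫ lift (1 : T ⟶ A) (𝟙 T) by
        rw [comp_lift, MonObj.comp_one, Category.comp_id], ← pl_pl, hc0, map_one])
  have hiff : ∀ (S : Over (Spec (CommRingCat.of k))) (a : S ⟶ T) (w : S ⟶ Q),
      pl (A ◁ a) c = pl (A ◁ w) (PicF.cl P) ↔ ∃ y : S ⟶ K, y ≫ i = lift a w := by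
    intro S a w
    rw [← hu S (lift a w), map_mul, pl_pl, ← MonoidalCategory.whiskerLeft_comp, lift_fst]
    have h := congrArg (pl (A ◁ lift a w)) hPD
    rw [map_mul, map_one, pl_pl, ← MonoidalCategory.whiskerLeft_comp, lift_snd] at h
    exact ⟨fun e => by rw [e, h], fun e => eq_of_mul_inv h e⟩
  let π : K ⟶ T := i ≫ fst T Q
  have hcond : pl (A ◁ π) c = pl (A ◁ (i ≫ snd T Q)) (PicF.cl P) :=
    (hiff K π (i ≫ snd T Q)).2 ⟨𝟙 K, by
      apply CartesianMonoidalCategory.hom_ext <;> simp [π]⟩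
  haveI hπm : Mono π := by
    refine ⟨fun {S} a b hab => ?_⟩
    rw [← cancel_mono i]
    refine CartesianMonoidalCategory.hom_ext _ _ (by simpa [π] using hab) (AVSepClassify.eq_of_slice hP hs ?_)
    have ha := congrArg (pl (A ◁ a)) hcond
    have hb := congrArg (pl (A ◁ b)) hcond
    rw [pl_pl, pl_pl, ← MonoidalCategory.whiskerLeft_comp, ← MonoidalCategory.whiskerLeft_comp] at ha hb
    rw [Category.assoc, Category.assoc, ← ha, ← hb, hab]
  haveI : Mono π.left := Over.mono_left_of_mono π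
  haveI : LocallyOfFinitePresentation Q.hom := inferInstance
  haveI : LocallyOfFinitePresentation (fst T Q).left :=
    inferInstanceAs (LocallyOfFinitePresentation (pullback.fst T.hom Q.hom))
  haveI hπp : LocallyOfFinitePresentation π.left := by
    show LocallyOfFinitePresentation (i.left ≫ (fst T Q).left)
    infer_instance
  haveI hsm : Smooth π.left := by
    refine (S1488.result π.left).2 ⟨hπp, fun R _ I hI a b hab => ?_⟩
    letI : Algebra k R := (Spec.preimage (b ≫ T.hom)).hom.toAlgebra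
    have halg : Spec.map (CommRingCat.ofHom (algebraMap k R)) = b ≫ T.hom := Spec.map_preimage _
    let π₀ : R →ₐ[k] R ⧸ I := Ideal.Quotient.mkₐ k I
    let b' : PicTangent.T (k := k) R ⟶ T := Over.homMk b halg.symm
    have hker : ∀ x, π₀ x = 0 → x ∈ I := fun x hx => Ideal.Quotient.eq_zero_iff_mem.1 hx
    have hsq : ∀ x y, π₀ x = 0 → π₀ y = 0 → x * y = 0 := fun x y hx hy => by
      have h := Ideal.mul_mem_mul (hker x hx) (hker y hy)
      rwa [← pow_two, hI, Ideal.mem_bot] at h
    let a' : PicTangent.T (k := k) (R ⧸ I) ⟶ K := Over.homMk a (by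
      show a ≫ K.hom = Spec.map (CommRingCat.ofHom (algebraMap k (R ⧸ I)))
      rw [← Over.w π, ← Category.assoc, ← hab, Category.assoc, ← halg, ← Spec.map_comp]
      rfl)
    have hab' : Tmap π₀ ≫ b' = a' ≫ π := Over.OverMorphism.ext hab
    obtain ⟨l₀, hl1, hl2⟩ := ((S1488.result Q.hom).1 inferInstance).2 R I hI (a' ≫ i ≫ snd T Q).left (b ≫ T.hom)
      (by rw [← halg, Over.w (a' ≫ i ≫ snd T Q), ← Spec.map_comp]; rfl)
    let w₀ : PicTangent.T (k := k) R ⟶ Q := Over.homMk l₀ (hl2.trans halg.symm)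
    have hw₀ : Tmap π₀ ≫ w₀ = a' ≫ i ≫ snd T Q := Over.OverMorphism.ext hl1
    obtain ⟨E, hE, hPE⟩ := exists_inv (isInv_pl (A ◁ w₀) (c := PicF.cl P) ⟨P, rfl, hP⟩)
    have htriv : pl (A ◁ Tmap π₀) (pl (A ◁ b') c * E) = 1 := by
      have h := congrArg (pl (A ◁ Tmap π₀)) hPE
      rw [map_mul, map_one, pl_pl, ← MonoidalCategory.whiskerLeft_comp, hw₀] at h
      rw [map_mul, pl_pl, ← MonoidalCategory.whiskerLeft_comp, hab', MonoidalCategory.whiskerLeft_comp, ← pl_pl,
        hcond, pl_pl, ← MonoidalCategory.whiskerLeft_comp, h]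
    obtain ⟨w₁, hw₁⟩ := AVFirstOrder.exists_point hA hQ hP hs π₀ Ideal.Quotient.mk_surjective hsq
      (PicMul.isInvertibleCl_mul (isInv_pl _ hc) hE) htriv
    obtain ⟨y, hy⟩ := (hiff _ b' (w₁ * w₀)).1 (by
      rw [pl_mul hP hs, hw₁, _root_.mul_assoc, mul_comm E, hPE, _root_.mul_one])
    have hyπ : y ≫ π = b' := by
      show y ≫ i ≫ fst T Q = b'
      rw [reassoc_of% hy, lift_fst]
    have hya : Tmap π₀ ≫ y = a' := by
      rw [← cancel_mono π, Category.assoc, hyπ, hab']
    exact ⟨y.left, congrArg CommaMorphism.left hya, congrArg CommaMorphism.left hyπ⟩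
  haveI : IsOpenImmersion π.left := IsOpenImmersion.of_flat_of_mono π.left
  haveI : Surjective π.left := by
    refine ⟨fun t => ?_⟩
    obtain ⟨S, z, w, hw, s, hst⟩ := hpts t
    obtain ⟨y, hy⟩ := (hiff S z w).1 hw
    refine ⟨y.left s, ?_⟩
    have h2 : y ≫ π = z := by
      show y ≫ i ≫ fst T Q = z
      rw [reassoc_of% hy, lift_fst]
    rw [← hst, ← h2]
    rfl
  haveI : IsIso π.left := by
    haveI : Epi π.left.base := (TopCat.epi_iff_surjective _).2 π.left.surjective
    exact IsOpenImmersion.isIso π.left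
  haveI : IsIso ((Over.forget (Spec (CommRingCat.of k))).map π) := inferInstanceAs (IsIso π.left)
  haveI : IsIso π := isIso_of_reflects_iso π (Over.forget _)
  refine ⟨inv π ≫ i ≫ snd T Q, ?_⟩
  have h := congrArg (pl (A ◁ inv π)) hcond
  rw [pl_pl, pl_pl, ← MonoidalCategory.whiskerLeft_comp, ← MonoidalCategory.whiskerLeft_comp,
    IsIso.inv_hom_id, MonoidalCategory.whiskerLeft_id, pl_id] at h
  exact h.symm

end Groth.Agent.AVClassify
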