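import Groth.Agent.Lib.AVDualStructClosed
import Groth.Agent.EtFound.Descent
import Groth.Agent.FibDim.BaseField

/-!
Any dual of an abelian variety over a field is an abelian variety of the same dimension.
-/

set_option autoImplicit false
set_option linter.style.haveILetI false
set_option linter.unusedSectionVars false
set_option maxHeartbeats 1000000
set_option synthInstance.maxHeartbeats 400000
set_option backward.isDefEq.respectTransparency false
set_option backward.isDefEq.respectTransparency.types false

universe u

open CategoryTheory CategoryTheory.Limits AlgebraicGeometry MonoidalCategory CartesianMonoidalCategory MonObj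
  TopologicalSpace
open scoped CategoryTheory.Obj

noncomputable section

namespace Groth.Agent.AVDualStruct

open Groth.Agent.H23

variable {k : Type u} [Field k] {A At : Over (Spec (CommRingCat.of k))} [GrpObj A] [IsProper A.hom]
  [GeometricallyIntegral A.hom] [GrpObj At] {φ : AgPol.DualMap A At}

/-- **A dual of an abelian variety is an abelian variety of the same dimension.** -/
theorem struct (hφ : AbDual.IsDualAV Scheme.fppfPrecoverage A At φ) {g : ℕ}
    (hA : topologicalKrullDim ↥A.left = g) :
    IsProper At.hom ∧ Smooth At.hom ∧ GeometricallyIntegral At.hom ∧ topologicalKrullDim ↥At.left = g := by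
  let K := AlgebraicClosure k
  let s : Spec (CommRingCat.of K) ⟶ Spec (CommRingCat.of k) := Spec.map (CommRingCat.ofHom (algebraMap k K))
  haveI : IsProper (Red.bc s A).hom := inferInstanceAs (IsProper (pullback.snd A.hom s))
  haveI : GeometricallyIntegral (Red.bc s A).hom := inferInstanceAs (GeometricallyIntegral (pullback.snd A.hom s))
  have hA' : topologicalKrullDim ↥(Red.bc s A).left = g := by
    rw [← hA]
    exact FibDim.topologicalKrullDim_baseChange (IsPullback.of_hasPullback A.hom s)
  obtain ⟨hp, hsm, hgi, hd⟩ := struct_of_isAlgClosed (AVDualBC.isDualAV (f := s) hφ) hA'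
  have hs : (@Surjective ⊓ @Flat ⊓ @QuasiCompact : MorphismProperty Scheme.{u}) s :=
    ⟨⟨⟨fun _ => ⟨IsLocalRing.closedPoint K, @Subsingleton.elim (PrimeSpectrum k) inferInstance _ _⟩⟩,
      inferInstance⟩, inferInstance⟩
  have hsq : IsPullback (pullback.snd At.hom s) (pullback.fst At.hom s) s At.hom :=
    (IsPullback.of_hasPullback At.hom s).flip
  haveI := EtFound.fpqc_isProper.{u}
  haveI hp' : IsProper At.hom :=
    MorphismProperty.of_isPullback_of_descendsAlong (P := @IsProper) hsq hs hp
  haveI hs' : Smooth At.hom :=
    MorphismProperty.of_isPullback_of_descendsAlong (P := @Smooth) hsq hs hsm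
  haveI : ConnectedSpace At.left := by
    haveI : IsProper (Red.bc s At).hom := hp
    haveI : GeometricallyIntegral (Red.bc s At).hom := hgi
    haveI : IsIntegral (pullback At.hom s) := GeometricallyIntegral.isIntegral_of_subsingleton (Red.bc s At).hom
    haveI : Surjective s := hs.1.1
    haveI : Surjective (pullback.fst At.hom s) := inferInstance
    exact (pullback.fst At.hom s).surjective.connectedSpace (pullback.fst At.hom s).continuous
  haveI hgi' : GeometricallyIntegral At.hom := by
    haveI : GeometricallyReduced At.hom := RigidGamma.geometricallyReduced_of_smooth At.hom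
    exact MaxAbelian.geometricallyIntegral_of_connected At
  refine ⟨hp', hs', hgi', ?_⟩
  rw [← hd]
  exact (FibDim.topologicalKrullDim_baseChange (IsPullback.of_hasPullback At.hom s)).symm

end Groth.Agent.AVDualStruct
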