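import Groth.Agent.Lib.ThetaLift

/-!
Commutator functions of related points along a homomorphism.
-/

set_option autoImplicit false
set_option linter.style.haveILetI false
set_option linter.unusedSectionVars false
set_option backward.isDefEq.respectTransparency false
set_option backward.isDefEq.respectTransparency.types false

universe u

open CategoryTheory CategoryTheory.Limits MonoidalCategory CartesianMonoidalCategory MonObj AlgebraicGeometry TopologicalSpace
open Pseudofunctor Bicategory

noncomputable section

namespace Groth.Agent.ThetaRel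

open Groth.Agent Groth.Agent.H23 ThetaGrp ThetaPts ThetaScalar ThetaLift

variable {k : Type u} [Field k] {A B : Over (Spec (CommRingCat.of k))} [GrpObj A] [GrpObj B] [IsCommMonObj A]
  [IsCommMonObj B] [IsProper A.hom] [IsProper B.hom] [GeometricallyIntegral A.hom] [GeometricallyIntegral B.hom]
  (f : A ⟶ B) [IsMonHom f] {L : A.left.Modules} {M : B.left.Modules} (hL : PicF.IsInvertible L)
  (hM : PicF.IsInvertible M) (e : L ≅ (Scheme.Modules.pullback f.left).obj M)

include hL hM

theorem rel_sc {T : Over (Spec (CommRingCat.of k))} (c : Γ(T.left, ⊤)ˣ) :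
    Rel f e (sc hL c : thetaPts A L T) (sc hM c) := by
  show scEnd (c : Γ(T.left, ⊤)) ≫ funMap f e T = funMap f e T ≫ scEnd (c : Γ(T.left, ⊤))
  rw [scEnd, scEnd, ThetaCo.smul_comp, ThetaCo.comp_smul _ _ (𝟙 _) (isInvertible_fiber T hM), Category.id_comp,
    Category.comp_id]
  congr 1
  show _ = ((funMap f e T).base ≫ (snd B T).left).appTop _
  rw [funMap_base, ← Over.comp_left, whiskerRight_snd]

omit hL hM in
theorem pt_eq_of_rel {T : Over (Spec (CommRingCat.of k))} {α : thetaPts A L T} {β : thetaPts B M T} {x : T ⟶ A}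
    (hx : IsOverPt α x) (h : Rel f e α β) : pt β = x ≫ f := by
  have e₁ := congrArg (fun φ => φ.base) h
  have e' : transl A x ≫ (f ▷ T) = (f ▷ T) ≫ transl B (pt β) := Over.OverMorphism.ext (by
    rw [Over.comp_left, Over.comp_left, ← hx, ← isOverPt_pt β, ← funMap_base f e T]
    exact e₁)
  have e2 := congrArg (fun φ => lift (1 : T ⟶ A) (𝟙 T) ≫ φ ≫ fst B T) e'
  simp [MonObj.comp_mul, MonObj.mul_comp, MonObj.one_comp] at e2
  exact e2.symm

/-- Related points have equal commutator functions. -/
theorem cm_rel {T : Over (Spec (CommRingCat.of k))} {α α' : thetaPts A L T} {β β' : thetaPts B M T}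
    {x x' : T ⟶ A} (hx : IsOverPt α x) (hx' : IsOverPt α' x') (h : Rel f e α β) (h' : Rel f e α' β') :
    cm hL α α' = cm hM β β' := by
  have hl : IsOverPt (α * α') (x * x') := by
    have := isOverPt_mul hx hx'
    rwa [_root_.mul_comm x'] at this
  have hr : IsOverPt (α' * α) (x * x') := isOverPt_mul hx' hx
  have hs : IsOverPt (sc hL (cm hM β β') * (α' * α)) (x * x') := by
    have := isOverPt_mul (isOverPt_sc hL (cm hM β β') (T := T)) hr
    rwa [_root_.mul_one] at this
  have hrel1 := rel_mul f e h h'
  have hrel2 : Rel f e (sc hL (cm hM β β') * (α' * α)) (β * β') := by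
    have := rel_mul f e (rel_sc f hL hM e (cm hM β β')) (rel_mul f e h' h)
    rwa [← sc_cm hM, inv_mul_cancel_right] at this
  have hb : IsOverPt (β * β') ((x * x') ≫ f) := by
    have h1 : pt β = x ≫ f := pt_eq_of_rel f e hx h
    have h2 : pt β' = x' ≫ f := pt_eq_of_rel f e hx' h'
    have := isOverPt_mul (isOverPt_pt β) (isOverPt_pt β')
    rwa [h1, h2, ← MonObj.mul_comp, _root_.mul_comm x'] at this
  have huq := (existsUnique_rel f e hb).unique ⟨hl, hrel1⟩ ⟨hs, hrel2⟩
  refine sc_injective hL T ?_
  rw [← sc_cm, huq, mul_inv_cancel_right]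

end Groth.Agent.ThetaRel
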