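import Groth.Agent.Lib.AVIndexStable

/-!
The index is constant along a segment on which the Hilbert polynomial has no root.
-/

set_option autoImplicit false
set_option linter.style.haveILetI false
set_option linter.unusedSectionVars false
set_option backward.isDefEq.respectTransparency false
set_option backward.isDefEq.respectTransparency.types false
set_option maxHeartbeats 1000000
set_option synthInstance.maxHeartbeats 400000

universe u

open CategoryTheory CategoryTheory.Limits MonoidalCategory CartesianMonoidalCategory MonObj AlgebraicGeometry TopologicalSpace Opposite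

noncomputable section

namespace Groth.Agent.AVIndexSegment

open Groth.Agent Groth.Agent.H23 Groth.Agent.AVIndexStable
open scoped Groth.Agent.H23.PicMul

variable {k : Type u} [Field k] {A : Over (Spec (CommRingCat.of k))} [GrpObj A] [IsProper A.hom]
  [GeometricallyIntegral A.hom] {L H : A.left.Modules} (hL : PicF.IsInvertible L) (hH : PicF.IsInvertible H)

/-- The module `L^a ⊗ H^b`. -/
abbrev two (L H : A.left.Modules) (a b : ℕ) : A.left.Modules :=
  CohB1.tensorMod (CohB1.tensorPow L a) (CohB1.tensorPow H b)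

/-- The Euler characteristic of `L^a ⊗ H^b`. -/
def χ₂ (L H : A.left.Modules) (a b : ℕ) : ℤ := @Curv2.euler k _ A.left ⟨A.hom⟩ (two L H a b)

theorem χ₂_eq (a b : ℕ) : χ₂ L H a b = AVEulerHomog.χ (PicF.cl L ^ a * PicF.cl H ^ b) := by
  rw [← PicMul.cl_tensorPow, ← PicMul.cl_tensorPow, ← PicMul.cl_tensor]
  rfl

/-- Evaluating a substitution. -/
theorem eval_aeval (v : Fin 2 → Polynomial ℚ) (t : ℚ) (Q : MvPolynomial (Fin 2) ℚ) :
    (MvPolynomial.aeval v Q).eval t = MvPolynomial.eval (fun i => (v i).eval t) Q := by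
  induction Q using MvPolynomial.induction_on <;> simp [*]

include hL hH

/-- The two-variable values are those of the homogenised Hilbert polynomial. -/
theorem χ₂_eq_eval {g : ℕ} (hg : topologicalKrullDim ↥A.left = g) (Φ : Polynomial ℚ)
    (hΦ : ∀ n : ℕ, Φ.eval (n : ℚ) = (@Curv2.euler k _ A.left ⟨A.hom⟩ (CohB1.tensorMod L (CohB1.tensorPow H n)) : ℚ))
    {a : ℕ} (ha : 0 < a) (b : ℕ) : (χ₂ L H a b : ℚ) = (a : ℚ) ^ g * Φ.eval ((b : ℚ) / a) := by
  obtain ⟨Q, -, hQ⟩ := AVEulerHomog.exists_poly g hg hL hH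
  let S : Polynomial ℚ := MvPolynomial.aeval ![1, Polynomial.X] Q
  have hS : ∀ t : ℚ, S.eval t = MvPolynomial.eval ![1, t] Q := fun t => by
    refine (eval_aeval _ t Q).trans (congrArg (fun v => MvPolynomial.eval v Q) (funext fun i => ?_))
    fin_cases i <;> simp
  have hSΦ : S = Φ := Polynomial.eq_of_infinite_eval_eq _ _ ((Set.infinite_range_of_injective
    (Nat.cast_injective (R := ℚ))).mono (by
      rintro _ ⟨n, rfl⟩
      show S.eval (n : ℚ) = Φ.eval (n : ℚ)
      have h := hQ 1 n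
      rw [pow_one, Nat.cast_one] at h
      rw [hS, ← h, hΦ, ← PicMul.cl_tensorPow, ← PicMul.cl_tensor]
      rfl))
  let R : Polynomial ℚ := MvPolynomial.aeval ![Polynomial.C (a : ℚ) * Polynomial.X,
    Polynomial.C (b : ℚ) * Polynomial.X] Q
  have hR : ∀ t : ℚ, R.eval t = MvPolynomial.eval ![(a : ℚ) * t, (b : ℚ) * t] Q := fun t => by
    refine (eval_aeval _ t Q).trans (congrArg (fun v => MvPolynomial.eval v Q) (funext fun i => ?_))
    fin_cases i <;> simp
  have hR' : R = Polynomial.C (χ₂ L H a b : ℚ) * Polynomial.X ^ g := Polynomial.eq_of_infinite_eval_eq _ _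
    ((Set.infinite_range_of_injective (Nat.cast_injective (R := ℚ))).mono (by
      rintro _ ⟨n, rfl⟩
      show R.eval (n : ℚ) = (Polynomial.C (χ₂ L H a b : ℚ) * Polynomial.X ^ g).eval (n : ℚ)
      have h := hQ (a * n) (b * n)
      rw [pow_mul, pow_mul, ← mul_pow, ← PicMul.cl_tensorPow, ← PicMul.cl_tensorPow, ← PicMul.cl_tensor,
        AVEulerHomog.euler_pow g hg (PicMul.isInvertible_tensor (PicMul.isInvertible_tensorPow hL a)
          (PicMul.isInvertible_tensorPow hH b)) n] at h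
      push_cast at h
      rw [hR, ← h, Polynomial.eval_mul, Polynomial.eval_C, Polynomial.eval_pow, Polynomial.eval_X, mul_comm]
      rfl))
  have h := congrArg (fun P : Polynomial ℚ => P.eval ((a : ℚ)⁻¹)) hR'
  simp only [hR, Polynomial.eval_mul, Polynomial.eval_C, Polynomial.eval_pow, Polynomial.eval_X] at h
  have ha' : (a : ℚ) ≠ 0 := by exact_mod_cast ha.ne'
  rw [mul_inv_cancel₀ ha', ← div_eq_mul_inv, ← hS, hSΦ, inv_pow] at h
  rw [h]
  field_simp

theorem hgt_two (j a b : ℕ) :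
    @CohGrowth.hgt k _ A.left ⟨A.hom⟩ 2 ![L, H] j (Coh.structureModule A.left) ![a, b] = h A (two L H a b) j :=
  h_congr (A := A) ((PicGrp.cl_eq_cl_iff _ _).1 (by
    rw [AVEulerHomog.cl_tensorPows, Fin.prod_univ_two, PicMul.cl_tensor, PicMul.cl_tensorPow, PicMul.cl_tensorPow]
    rfl)).some j

omit hL hH in
/-- The growth comparison along a segment. -/
theorem le_of_growth {C D g n b x : ℕ} (hn : 0 < n) (hb : b ≤ n) (hD : n ^ g ≤ D * x)
    (hx : x ≤ C * CohGrowth.w g (n + b)) : n ≤ D * C * 3 ^ g := by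
  have h0 : n ^ g ≤ D * (C * CohGrowth.w g (n + b)) := hD.trans (Nat.mul_le_mul_left D hx)
  rcases g with _ | e
  · simp [CohGrowth.w] at h0
  · rw [CohGrowth.w_succ] at h0
    have h1 : (n + b + 1) ^ e ≤ 3 ^ e * n ^ e := by
      rw [← Nat.mul_pow]
      exact Nat.pow_le_pow_left (by omega) _
    have h2 : n ^ e * n ≤ n ^ e * (D * C * 3 ^ e) := by
      calc n ^ e * n = n ^ (e + 1) := (pow_succ n e).symm
        _ ≤ D * (C * (n + b + 1) ^ e) := h0
        _ ≤ D * (C * (3 ^ e * n ^ e)) := Nat.mul_le_mul_left _ (Nat.mul_le_mul_left _ h1)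
        _ = n ^ e * (D * C * 3 ^ e) := by ring
    refine (Nat.le_of_mul_le_mul_left h2 (pow_pos hn e)).trans ?_
    exact Nat.mul_le_mul_left _ (Nat.pow_le_pow_right (by norm_num) (Nat.le_succ e))

/-- **Without roots on `[0, 1]` the index of `L ⊗ H` is that of `L`.** -/
theorem eq_of_no_root {M : A.left.Modules} (e : M ≅ CohB1.tensorMod L H) {i i' : ℕ} (hi : Conc A L i)
    (hi' : Conc A M i') (Φ : Polynomial ℚ)
    (hΦ : ∀ n : ℕ, Φ.eval (n : ℚ) = (@Curv2.euler k _ A.left ⟨A.hom⟩ (CohB1.tensorMod L (CohB1.tensorPow H n)) : ℚ))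
    (hroot : ∀ t : ℝ, 0 ≤ t → t ≤ 1 → (Φ.map (algebraMap ℚ ℝ)).eval t ≠ 0) : i = i' := by
  haveI : IsIntegral A.left := GeometricallyIntegral.isIntegral_of_subsingleton A.hom
  letI : A.left.Over (Spec (CommRingCat.of k)) := ⟨A.hom⟩
  haveI : IsProper (A.left ↘ Spec (CommRingCat.of k)) := inferInstanceAs (IsProper A.hom)
  haveI := CurveCohLib.isNoetherian_of_proper (k := k) (X := A.left)
  obtain ⟨g, hg⟩ := AVTors.exists_dimNat A
  let P := Φ.map (algebraMap ℚ ℝ)
  obtain ⟨t₀, ht₀, hmin⟩ := (isCompact_Icc (a := (0 : ℝ)) (b := 1)).exists_isMinOn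
    (Set.nonempty_Icc.2 zero_le_one) (f := fun t => |P.eval t|) (by fun_prop)
  have hc : 0 < |P.eval t₀| := abs_pos.2 (hroot t₀ ht₀.1 ht₀.2)
  obtain ⟨D, hD⟩ := exists_nat_ge (|P.eval t₀|)⁻¹
  have hbound : ∀ a b : ℕ, 0 < a → b ≤ a → a ^ g ≤ D * (χ₂ L H a b).natAbs := fun a b ha hb => by
    have hq : ((χ₂ L H a b : ℤ) : ℝ) = (a : ℝ) ^ g * P.eval ((b : ℝ) / a) := by
      have := congrArg (algebraMap ℚ ℝ) (χ₂_eq_eval hL hH hg Φ hΦ ha b)
      rw [map_intCast, map_mul, map_pow, map_natCast] at this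
      rw [this, ← Polynomial.eval_map_apply, map_div₀, map_natCast, map_natCast]
    have hm : |P.eval t₀| ≤ |P.eval ((b : ℝ) / a)| := hmin ⟨by positivity,
      div_le_one_of_le₀ (by exact_mod_cast hb) (by positivity)⟩
    have h1 : (1 : ℝ) ≤ D * |P.eval ((b : ℝ) / a)| := by
      calc (1 : ℝ) = (|P.eval t₀|)⁻¹ * |P.eval t₀| := (inv_mul_cancel₀ hc.ne').symm
        _ ≤ D * |P.eval ((b : ℝ) / a)| := mul_le_mul hD hm hc.le (Nat.cast_nonneg D)
    have h2 : ((a ^ g : ℕ) : ℝ) ≤ ((D * (χ₂ L H a b).natAbs : ℕ) : ℝ) := by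
      push_cast
      rw [Nat.cast_natAbs, Int.cast_abs, hq, abs_mul, abs_pow, Nat.abs_cast]
      calc (a : ℝ) ^ g = (a : ℝ) ^ g * 1 := (_root_.mul_one _).symm
        _ ≤ (a : ℝ) ^ g * (D * |P.eval ((b : ℝ) / a)|) := mul_le_mul_of_nonneg_left h1 (by positivity)
        _ = _ := by ring
    exact_mod_cast h2
  have hinv : ∀ a b, PicF.IsInvertible (two L H a b) := fun a b =>
    PicMul.isInvertible_tensor (PicMul.isInvertible_tensorPow hL a) (PicMul.isInvertible_tensorPow hH b)
  have hconc : ∀ a b : ℕ, 0 < a → b ≤ a → ∃ j, j ≤ g ∧ Conc A (two L H a b) j ∧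
      h A (two L H a b) j = (χ₂ L H a b).natAbs := fun a b ha hb => by
    have hne : χ₂ L H a b ≠ 0 := fun h0 => by
      have := hbound a b ha hb
      rw [h0, Int.natAbs_zero, mul_zero] at this
      exact (pow_pos ha g).ne' (Nat.le_zero.1 this)
    obtain ⟨j, hj⟩ := exists_conc (hinv a b) hne
    exact ⟨j, by_contra fun hlt => hj.2 (h_eq_zero_of_gt hg (hinv a b) (not_le.1 hlt)), hj, hj.natAbs_euler.symm⟩
  choose C hC using fun j => CohGrowth.isBdd_dist_update k (L := ![L, H])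
    (fun l => by fin_cases l <;> assumption) hg.le
    (M := Coh.structureModule A.left) QCoh.isCoh_structureModule' 1 j
  let C₀ := ∑ j ∈ Finset.range (g + 1), C j
  let n := D * C₀ * 3 ^ g + 1
  obtain ⟨i₀, hi₀⟩ : ∃ j, ∀ b, b ≤ n → Conc A (two L H n b) j := by
    obtain ⟨j, -, hj, -⟩ := hconc n 0 (Nat.succ_pos _) (Nat.zero_le _)
    refine ⟨j, fun b => ?_⟩
    induction b with
    | zero => exact fun _ => hj
    | succ b ih =>
      intro hb
      obtain ⟨j₁, -, hj₁, -⟩ := hconc n (b + 1) (Nat.succ_pos _) hb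
      obtain ⟨j₀, hj₀g, hj₀, hval⟩ := hconc n b (Nat.succ_pos _) (by omega)
      obtain rfl : j₀ = j := hj₀.unique (ih (by omega))
      by_cases he : j₁ = j₀
      · exact he ▸ hj₁
      exfalso
      have hu : Function.update ![n, b] (1 : Fin 2) (b + 1) = ![n, b + 1] := by
        funext l
        fin_cases l <;> simp
      have hb' : Nat.dist (h A (two L H n (b + 1)) j₀) (h A (two L H n b) j₀) ≤ C j₀ * CohGrowth.w g (n + b) := by
        have h1 := hC j₀ ![n, b]
        simp only [Matrix.cons_val_one, Matrix.cons_val_zero, Fin.sum_univ_two] at h1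
        rw [hu, hgt_two hL hH, hgt_two hL hH] at h1
        exact h1
      rw [hj₁.1 j₀ (Ne.symm he), Nat.dist_zero_left, hval] at hb'
      have h1 := le_of_growth (Nat.succ_pos _) (by omega : b ≤ n) (hbound n b (Nat.succ_pos _) (by omega)) hb'
      have h2 : C j₀ ≤ C₀ :=
        Finset.single_le_sum (f := C) (fun j _ => Nat.zero_le _) (Finset.mem_range.2 (by omega))
      have h3 : D * C j₀ * 3 ^ g ≤ D * C₀ * 3 ^ g := Nat.mul_le_mul_right _ (Nat.mul_le_mul_left _ h2)
      omega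
  have eL : Nonempty (CohB1.tensorPow L n ≅ two L H n 0) :=
    (PicGrp.cl_eq_cl_iff _ _).1 (by simp only [PicMul.cl_tensor, PicMul.cl_tensorPow, pow_zero, _root_.mul_one])
  have hM : PicF.IsInvertible M := PicMul.isInvertible_of_iso e.symm (PicMul.isInvertible_tensor hL hH)
  have eM : Nonempty (CohB1.tensorPow M n ≅ two L H n n) :=
    (PicGrp.cl_eq_cl_iff _ _).1 (by
      simp only [PicMul.cl_tensor, PicMul.cl_tensorPow, (PicGrp.cl_eq_cl_iff _ _).2 ⟨e⟩, mul_pow])
  exact (((conc_pow hL hi (Nat.succ_pos _)).congr eL.some).unique (hi₀ 0 (Nat.zero_le _))).trans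
    (((conc_pow hM hi' (Nat.succ_pos _)).congr eM.some).unique (hi₀ n le_rfl)).symm

end Groth.Agent.AVIndexSegment
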