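import Groth.Agent.Lib.AVKLRank
import Groth.Agent.Lib.AVIndexSegment
import Groth.Agent.Lib.AVRelAmple
import Groth.Agent.H23.RedSub
import Groth.Agent.H23.TopDim
import Groth.Agent.FibDim.BaseField
import Groth.Agent.AmpleX.Rel
import Groth.Agent.H28.KvbModel
import Groth.Agent.ConsPropLib.FibreLocFree
import Groth.Agent.Lib.AVHilbert
import Groth.Agent.CurveCohLib.SubBundle
import Groth.Agent.Lib.CurveAmple
import Groth.Agent.AmpleX.Locus

/-!
The dimension of `K(L)` is the multiplicity of the root `0` of the Hilbert polynomial of `L`.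
-/

set_option autoImplicit false
set_option linter.style.haveILetI false
set_option linter.unusedSectionVars false
set_option backward.isDefEq.respectTransparency false
set_option backward.isDefEq.respectTransparency.types false
set_option maxHeartbeats 1000000
set_option synthInstance.maxHeartbeats 400000

universe u

open CategoryTheory CategoryTheory.Limits MonoidalCategory CartesianMonoidalCategory MonObj AlgebraicGeometry TopologicalSpace

noncomputable section

namespace Groth.Agent.AVKLDim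

open Groth.Agent Groth.Agent.H23 Groth.Agent.AVPair Groth.Agent.AVDual Groth.Agent.AVCube
open scoped Groth.Agent.H23.PicMul

section Poly

open Polynomial Filter Topology

/-- A polynomial whose homogenisation grows like `s a^c` has root multiplicity `g - c` at zero. -/
theorem rootMultiplicity_eq {Φ : ℚ[X]} {g c : ℕ} (hcg : c ≤ g) {s : ℚ} (hs : s ≠ 0) (C : ℚ)
    (h : ∀ a : ℕ, 0 < a → |(a : ℚ) ^ g * Φ.eval ((a : ℚ)⁻¹) - s * (a : ℚ) ^ c| * a ≤ C * (a : ℚ) ^ c) :
    Φ.rootMultiplicity 0 = g - c := by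
  have hlim : Tendsto (fun a : ℕ => (a : ℚ) ^ (g - c) * Φ.eval ((a : ℚ)⁻¹)) atTop (𝓝 s) := by
    refine tendsto_iff_norm_sub_tendsto_zero.2 ?_
    have h0 : Tendsto (fun a : ℕ => (C : ℝ) * (a : ℝ)⁻¹) atTop (𝓝 0) := by
      simpa using (tendsto_inv_atTop_nhds_zero_nat (𝕜 := ℝ)).const_mul (C : ℝ)
    refine squeeze_zero' (Eventually.of_forall fun a => norm_nonneg _) ?_ h0
    filter_upwards [eventually_gt_atTop 0] with a ha
    have hp : (0 : ℚ) < (a : ℚ) ^ c := by positivity
    have h1 : |(a : ℚ) ^ (g - c) * Φ.eval ((a : ℚ)⁻¹) - s| ≤ C * (a : ℚ)⁻¹ := by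
      rw [← div_eq_mul_inv, le_div_iff₀ (by exact_mod_cast ha)]
      refine le_of_mul_le_mul_right ?_ hp
      calc |(a : ℚ) ^ (g - c) * Φ.eval ((a : ℚ)⁻¹) - s| * (a : ℚ) * (a : ℚ) ^ c
          = |(a : ℚ) ^ g * Φ.eval ((a : ℚ)⁻¹) - s * (a : ℚ) ^ c| * a := by
            rw [mul_right_comm, ← abs_of_pos hp, ← abs_mul, abs_of_pos hp, sub_mul, mul_right_comm _ _ ((a : ℚ) ^ c),
              ← pow_add, Nat.sub_add_cancel hcg]
        _ ≤ _ := h a ha
    rw [← Rat.norm_cast_real, Real.norm_eq_abs]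
    have h2 : ((|(a : ℚ) ^ (g - c) * Φ.eval ((a : ℚ)⁻¹) - s| : ℚ) : ℝ) ≤ ((C * (a : ℚ)⁻¹ : ℚ) : ℝ) :=
      Rat.cast_le.2 h1
    push_cast at h2 ⊢
    exact h2
  have hΦ : Φ ≠ 0 := by
    rintro rfl
    simp only [eval_zero, mul_zero] at hlim
    exact hs (tendsto_nhds_unique hlim tendsto_const_nhds)
  obtain ⟨Ψ, hΨ, hdvd⟩ := Φ.exists_eq_pow_rootMultiplicity_mul_and_not_dvd hΦ 0
  rw [map_zero, sub_zero] at hΨ hdvd
  have hΨ0 : Ψ.eval 0 ≠ 0 := fun e => hdvd (by
    simpa using (dvd_iff_isRoot (p := Ψ) (a := 0)).2 e)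
  set e := Φ.rootMultiplicity 0
  have hinv : Tendsto (fun a : ℕ => ((a : ℚ)⁻¹)) atTop (𝓝 0) := tendsto_inv_atTop_nhds_zero_nat
  have hΨlim : Tendsto (fun a : ℕ => Ψ.eval ((a : ℚ)⁻¹)) atTop (𝓝 (Ψ.eval 0)) :=
    (Ψ.continuous.tendsto 0).comp hinv
  by_contra hne
  rcases lt_or_gt_of_ne hne with hlt | hgt
  · obtain ⟨m, hm⟩ : ∃ m, g - c = e + (m + 1) := ⟨g - c - e - 1, by omega⟩
    have h0 : Tendsto (fun a : ℕ => ((a : ℚ) ^ (g - c) * Φ.eval ((a : ℚ)⁻¹)) * ((a : ℚ)⁻¹) ^ (m + 1)) atTop
        (𝓝 0) := by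
      simpa using hlim.mul (hinv.pow (m + 1))
    refine hΨ0 (tendsto_nhds_unique hΨlim (h0.congr' ?_))
    filter_upwards [eventually_gt_atTop 0] with a ha
    have ha' : (a : ℚ) ≠ 0 := by exact_mod_cast ha.ne'
    rw [hΨ, eval_mul, eval_pow, eval_X, hm, pow_add, inv_pow, inv_pow]
    field_simp
  · obtain ⟨m, hm⟩ : ∃ m, e = g - c + (m + 1) := ⟨e - (g - c) - 1, by omega⟩
    have h0 : Tendsto (fun a : ℕ => ((a : ℚ)⁻¹) ^ (m + 1) * Ψ.eval ((a : ℚ)⁻¹)) atTop (𝓝 0) := by
      simpa using (hinv.pow (m + 1)).mul hΨlim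
    refine hs (tendsto_nhds_unique hlim (h0.congr' ?_))
    filter_upwards [eventually_gt_atTop 0] with a ha
    have ha' : (a : ℚ) ≠ 0 := by exact_mod_cast ha.ne'
    rw [hΨ, eval_mul, eval_pow, eval_X, hm, pow_add ((a : ℚ)⁻¹) (g - c), _root_.mul_assoc (_ ^ (g - c)),
      ← _root_.mul_assoc ((a : ℚ) ^ (g - c)), ← mul_pow, mul_inv_cancel₀ ha', one_pow, _root_.one_mul]

end Poly

section Decomp

variable {k : Type u} [Field k] {A : Over (Spec (CommRingCat.of k))} [GrpObj A] [IsProper A.hom]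
  [GeometricallyIntegral A.hom]

local notation3 "pt₀" => 𝟙_ (Over (Spec (CommRingCat.of k)))

/-- An abelian subvariety has a complement, up to isogeny. -/
theorem exists_complement [IsAlgClosed k] {B : Over (Spec (CommRingCat.of k))} [GrpObj B] [IsProper B.hom]
    [GeometricallyIntegral B.hom] (j : B ⟶ A) [IsMonHom j] [IsClosedImmersion j.left] :
    ∃ (C : Over (Spec (CommRingCat.of k))) (_ : GrpObj C) (em : C ⟶ A) (r : A ⟶ B) (q : A ⟶ C) (n : ℕ),
      IsMonHom em ∧ IsClosedImmersion em.left ∧ IsProper C.hom ∧ GeometricallyIntegral C.hom ∧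
      IsMonHom r ∧ IsMonHom q ∧ 0 < n ∧ j ≫ r = 𝟙 B ^ n ∧ em ≫ r = 1 ∧ j ≫ q = 1 ∧ em ≫ q = 𝟙 C ^ n ∧
      (r ≫ j) * (q ≫ em) = 𝟙 A ^ n := by
  haveI : IsIntegral A.left := GeometricallyIntegral.isIntegral_of_subsingleton A.hom
  haveI : IsCommMonObj A := isCommMonObj_of_isProper_of_geometricallyIntegral A
  haveI : IsCommMonObj B := isCommMonObj_of_isProper_of_geometricallyIntegral B
  haveI : JacobsonSpace (Spec (CommRingCat.of k)) := inferInstanceAs (JacobsonSpace (PrimeSpectrum k))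
  obtain ⟨r, n, _, hn, hjr⟩ := AVPoincare.exists_retraction j
  let h : A ⟶ A := 𝟙 A ^ n * (r ≫ j)⁻¹
  have hone : η[A] ≫ h = η[A] := by
    show η[A] ≫ (𝟙 A ^ n * (r ≫ j)⁻¹) = η[A]
    rw [MonObj.comp_mul, GrpObj.comp_inv, MonObj.comp_pow, Category.comp_id, IsMonHom.one_hom (r ≫ j),
      show η[A] = (1 : pt₀ ⟶ A) by rw [Hom.one_def, toUnit_unique (toUnit (𝟙_ _)) (𝟙 _), Category.id_comp],
      one_pow, inv_one, _root_.mul_one]
  haveI hh : IsMonHom h := AVDegPoly.isMonHom_of_one h hone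
  obtain ⟨C, hC, em, hem, hemc, hCp, hCg, hrange⟩ := MaxAbelian.exists_image' h (by
      rintro _ ⟨x, rfl⟩
      exact ⟨η[A].left x, congrArg (fun φ : pt₀ ⟶ A => φ.left x) hone⟩)
    (by
      have e : (fst A A ≫ h) * (snd A A ≫ h) = μ[A] ≫ h := by
        rw [IsMonHom.mul_hom h, Hom.mul_def]
        exact congrArg (· ≫ μ[A]) (by ext <;> simp)
      rw [e]
      rintro _ ⟨x, rfl⟩
      exact ⟨_, rfl⟩)
    (by
      rw [show h⁻¹ = (𝟙 A)⁻¹ ≫ h by rw [GrpObj.inv_comp, Category.id_comp]]
      rintro _ ⟨x, rfl⟩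
      exact ⟨_, rfl⟩)
  letI := hC
  haveI : IsCommMonObj C := isCommMonObj_of_isProper_of_geometricallyIntegral C
  haveI : Mono em := (Over.forget _).mono_of_mono_map (inferInstanceAs (Mono em.left))
  haveI : Mono j := (Over.forget _).mono_of_mono_map (inferInstanceAs (Mono j.left))
  obtain ⟨q₀, hq₀⟩ := RedSub.exists_lift_closed h.left em.left hrange.ge
  let q : A ⟶ C := Over.homMk q₀ (by rw [← Over.w em, reassoc_of% hq₀, Over.w h])
  have hq : q ≫ em = h := Over.OverMorphism.ext hq₀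
  haveI : IsMonHom q := AVDegPoly.isMonHom_of_one q (by
    rw [← cancel_mono em, Category.assoc, hq, hone, IsMonHom.one_hom em])
  have hjh : j ≫ h = 1 := by
    show j ≫ (𝟙 A ^ n * (r ≫ j)⁻¹) = 1
    rw [MonObj.comp_mul, GrpObj.comp_inv, MonObj.comp_pow, Category.comp_id, reassoc_of% hjr, MonObj.pow_comp,
      Category.id_comp, mul_inv_cancel]
  have hhr : h ≫ r = 1 := by
    show (𝟙 A ^ n * (r ≫ j)⁻¹) ≫ r = 1
    rw [MonObj.mul_comp, MonObj.pow_comp, GrpObj.inv_comp, Category.id_comp, Category.assoc, hjr, MonObj.comp_pow,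
      Category.comp_id, mul_inv_cancel]
  haveI : IsDominant q.left := by
    refine ⟨Function.Surjective.denseRange fun c => ?_⟩
    obtain ⟨x, hx⟩ := hrange.subset ⟨c, rfl⟩
    exact ⟨x, em.left.isClosedEmbedding.injective ((congrArg (fun φ : A ⟶ A => φ.left x) hq).trans hx)⟩
  have hemr : em ≫ r = 1 := by
    haveI : IsIntegral C.left := GeometricallyIntegral.isIntegral_of_subsingleton C.hom
    refine Over.OverMorphism.ext (ext_of_isDominant_of_isSeparated B.hom
      ((Over.w _).trans (Over.w _).symm) q.left ?_)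
    rw [← Over.comp_left, ← Over.comp_left, reassoc_of% hq, hhr, MonObj.comp_one]
  refine ⟨C, hC, em, r, q, n, hem, hemc, hCp, hCg, ‹_›, ‹_›, hn, hjr, hemr, ?_, ?_, ?_⟩
  · rw [← cancel_mono em, Category.assoc, hq, hjh, MonObj.one_comp]
  · rw [← cancel_mono em, Category.assoc, hq]
    show em ≫ (𝟙 A ^ n * (r ≫ j)⁻¹) = _
    rw [MonObj.comp_mul, GrpObj.comp_inv, MonObj.comp_pow, Category.comp_id, reassoc_of% hemr, MonObj.one_comp,
      inv_one, _root_.mul_one, MonObj.pow_comp, Category.id_comp]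
  · rw [hq]
    show r ≫ j * (𝟙 A ^ n * (r ≫ j)⁻¹) = _
    rw [mul_left_comm, mul_inv_cancel, _root_.mul_one]

end Decomp

section Split

variable {k : Type u} [Field k]

local notation3 "pt₀" => 𝟙_ (Over (Spec (CommRingCat.of k)))

/-- Closed immersions preserve the dimension of points. -/
theorem deg_closed {X Y : Over (Spec (CommRingCat.of k))} [LocallyOfFiniteType X.hom] [LocallyOfFiniteType Y.hom]
    (j : X ⟶ Y) [IsClosedImmersion j.left] (x : X.left) :
    VarDim.deg Y.hom (j.left x) = VarDim.deg X.hom x := by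
  have h := VarDim.fdeg_eq_rdeg j.left Y.hom x
  rw [VarDim.rdeg_preimmersion] at h
  rw [VarDim.deg_eq_add j.left Y.hom (Over.w j) x, show VarDim.fdeg j.left x = 0 by exact_mod_cast h, add_zero]

/-- Covering the image by translates of a variety bounds the dimension. -/
theorem dim_le_of_cover {X Y W : Over (Spec (CommRingCat.of k))} [LocallyOfFiniteType X.hom]
    [LocallyOfFiniteType Y.hom] [LocallyOfFiniteType W.hom] (i : W ⟶ Y) [IsClosedImmersion i.left]
    (h : ∀ w : W.left, ∃ (φ : X ⟶ Y) (_ : IsClosedImmersion φ.left) (x : X.left), φ.left x = i.left w) :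
    topologicalKrullDim ↥W.left ≤ topologicalKrullDim ↥X.left := by
  rw [VarDim.topologicalKrullDim_eq_iSup_deg W.hom, VarDim.topologicalKrullDim_eq_iSup_deg X.hom]
  refine iSup_le fun w => ?_
  obtain ⟨φ, _, x, hx⟩ := h w
  refine le_iSup_of_le x (le_of_eq ?_)
  rw [← deg_closed i w, ← deg_closed φ x, hx]

theorem dim_le_of_closed {X Y : Over (Spec (CommRingCat.of k))} [LocallyOfFiniteType X.hom] [LocallyOfFiniteType Y.hom]
    (j : X ⟶ Y) [IsClosedImmersion j.left] : topologicalKrullDim ↥X.left ≤ topologicalKrullDim ↥Y.left :=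
  j.left.isClosedEmbedding.isInducing.topologicalKrullDim_le

variable [IsAlgClosed k] {A : Over (Spec (CommRingCat.of k))} [GrpObj A] [IsProper A.hom]
  [GeometricallyIntegral A.hom] {L : A.left.Modules} (hL : PicF.IsInvertible L)

include hL

/-- An abelian subvariety of largest dimension among those fixing the class. -/
theorem exists_max : ∃ (B : Over (Spec (CommRingCat.of k))) (_ : GrpObj B) (j : B ⟶ A) (_ : IsMonHom j)
    (_ : IsClosedImmersion j.left) (_ : IsProper B.hom) (_ : GeometricallyIntegral B.hom),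
    (∀ b : pt₀ ⟶ B, AVDegenerate.transHom hL (b ≫ j) = 1) ∧
      ∀ (B' : Over (Spec (CommRingCat.of k))) (_ : GrpObj B') (j' : B' ⟶ A) (_ : IsMonHom j')
        (_ : IsClosedImmersion j'.left) (_ : IsProper B'.hom) (_ : GeometricallyIntegral B'.hom),
        (∀ b : pt₀ ⟶ B', AVDegenerate.transHom hL (b ≫ j') = 1) →
        topologicalKrullDim ↥B'.left ≤ topologicalKrullDim ↥B.left := by
  classical
  obtain ⟨g, hg⟩ := AVTors.exists_dimNat A
  let P : ℕ → Prop := fun d => ∃ (B : Over (Spec (CommRingCat.of k))) (_ : GrpObj B) (j : B ⟶ A) (_ : IsMonHom j)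
    (_ : IsClosedImmersion j.left) (_ : IsProper B.hom) (_ : GeometricallyIntegral B.hom),
    (∀ b : pt₀ ⟶ B, AVDegenerate.transHom hL (b ≫ j) = 1) ∧ topologicalKrullDim ↥B.left = d
  have bound : ∀ d, P d → d ≤ g := by
    rintro d ⟨B, _, j, _, _, _, _, -, hd⟩
    have h := dim_le_of_closed j
    rw [hd, hg] at h
    exact_mod_cast h
  have hex : ∃ d, P d := by
    haveI : IsProper (pt₀).hom := inferInstanceAs (IsProper (𝟙 (Spec (CommRingCat.of k))))
    haveI : GeometricallyIntegral (pt₀).hom := by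
      show GeometricallyIntegral (𝟙 (Spec (CommRingCat.of k)))
      refine MaxAbelian.geometricallyIntegral_of_pullback _ fun K _ x => ?_
      exact isIntegral_of_isOpenImmersion (pullback.snd (𝟙 _) x)
    haveI : IsClosedImmersion (η[A]).left :=
      isClosedImmersion_of_comp_eq_id (Y := Spec (CommRingCat.of k)) A.hom η[A].left (Over.w η[A])
    obtain ⟨d, hd⟩ := AVTors.exists_dimNat pt₀
    refine ⟨d, pt₀, inferInstance, η[A], inferInstance, ‹_›, ‹_›, ‹_›, fun b => ?_, hd⟩
    rw [show b ≫ η[A] = (1 : pt₀ ⟶ A) by rw [MonObj.one_eq_one, MonObj.comp_one], map_one]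
  obtain ⟨d, hd⟩ := hex
  obtain ⟨B, _, j, _, _, _, _, hB, hBd⟩ := Nat.findGreatest_spec (P := P) (bound d hd) hd
  refine ⟨B, inferInstance, j, inferInstance, inferInstance, inferInstance, inferInstance, hB, ?_⟩
  intro B' _ j' _ _ _ _ hB'
  obtain ⟨d', hd'⟩ := AVTors.exists_dimNat B'
  have hP : P d' := ⟨B', ‹_›, j', ‹_›, ‹_›, ‹_›, ‹_›, hB', hd'⟩
  rw [hd', hBd]
  exact_mod_cast Nat.le_findGreatest (bound d' hP) hP

/-- The largest abelian subvariety fixing the class, its complement, and non-degeneracy on the complement. -/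
theorem exists_split : ∃ (B C : Over (Spec (CommRingCat.of k))) (_ : GrpObj B) (_ : GrpObj C) (j : B ⟶ A) (em : C ⟶ A)
    (r : A ⟶ B) (q : A ⟶ C) (n : ℕ), IsProper B.hom ∧ GeometricallyIntegral B.hom ∧ IsProper C.hom ∧
      GeometricallyIntegral C.hom ∧ IsMonHom j ∧ IsClosedImmersion j.left ∧ IsMonHom em ∧ IsClosedImmersion em.left ∧
      IsMonHom r ∧ IsMonHom q ∧ 0 < n ∧ j ≫ r = 𝟙 B ^ n ∧ em ≫ r = 1 ∧ j ≫ q = 1 ∧ em ≫ q = 𝟙 C ^ n ∧
      (r ≫ j) * (q ≫ em) = 𝟙 A ^ n ∧
      (∀ b : pt₀ ⟶ B, pc hL (𝟙 A * (toUnit A ≫ b ≫ j)) = pc hL (𝟙 A)) ∧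
      Set.Finite {c : pt₀ ⟶ C | pc (PicClLib.isInvertible_pullback em.left hL) (𝟙 C * (toUnit C ≫ c)) =
        pc (PicClLib.isInvertible_pullback em.left hL) (𝟙 C)} := by
  haveI : IsIntegral A.left := GeometricallyIntegral.isIntegral_of_subsingleton A.hom
  haveI : IsCommMonObj A := isCommMonObj_of_isProper_of_geometricallyIntegral A
  obtain ⟨B, _, j, _, _, _, _, hB, hmax⟩ := exists_max hL
  obtain ⟨C, _, em, r, q, n, _, _, _, _, _, _, hn, hjr, hemr, hjq, hemq, hrq⟩ := exists_complement j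
  haveI : IsCommMonObj B := isCommMonObj_of_isProper_of_geometricallyIntegral B
  haveI : IsCommMonObj C := isCommMonObj_of_isProper_of_geometricallyIntegral C
  have hinv : ∀ b : pt₀ ⟶ B, pc hL (𝟙 A * (toUnit A ≫ b ≫ j)) = pc hL (𝟙 A) := fun b =>
    (AVDegenerate.transHom_eq_one_iff hL _).1 (hB b)
  refine ⟨B, C, inferInstance, inferInstance, j, em, r, q, n, ‹_›, ‹_›, ‹_›, ‹_›, ‹_›, ‹_›, ‹_›, ‹_›, ‹_›, ‹_›,
    hn, hjr, hemr, hjq, hemq, hrq, hinv, ?_⟩
  let hM := PicClLib.isInvertible_pullback em.left hL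
  have hMpc : ∀ {T : Over (Spec (CommRingCat.of k))} (x : T ⟶ C), pc hM x = pc hL (x ≫ em) := fun x => Units.ext (by
    rw [val_pc, val_pc]
    show PicF.pullCl x.left (PicF.pullCl em.left (PicF.cl L)) = _
    rw [PicClLib.pullCl_comp]
    rfl)
  by_contra hinf
  obtain ⟨B', _, j', _, _, _, _, hnt, hinv'⟩ :=
    AVDegenerate.exists_sub_of_infinite hM (Set.not_finite.1 hinf)
  haveI : IsCommMonObj B' := isCommMonObj_of_isProper_of_geometricallyIntegral B'
  haveI : IsIntegral B'.left := GeometricallyIntegral.isIntegral_of_subsingleton B'.hom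
  have hpow : ∀ b : pt₀ ⟶ B', AVDegenerate.transHom hL (b ≫ j' ≫ em) ^ n = 1 := by
    intro b
    let a : pt₀ ⟶ A := b ≫ j' ≫ em
    let D : (A ⟶ A) →* (PicF.Cl A.left)ˣ := MonoidHom.mk'
      (fun x => pc hL (x * (toUnit A ≫ a)) / pc hL x) fun x y => by
        have h := cube_rel hL x y (toUnit A ≫ a)
        simp only [AVCube.pc_const, _root_.mul_one] at h
        rw [div_mul_div_comm, div_eq_div_iff_mul_eq_mul, ← _root_.mul_assoc, h]
        refine Additive.ofMul.injective ?_
        simp only [ofMul_mul]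
        abel
    have h1 : D (𝟙 A) = AVDegenerate.transHom hL a := rfl
    have h2 : D (𝟙 A ^ n) = 1 := by
      show pc hL (𝟙 A ^ n * (toUnit A ≫ a)) / pc hL (𝟙 A ^ n) = 1
      have add := fun x : A ⟶ A => AVDegenerate.add_of_invariant hL j hinv x r
      rw [div_eq_one, ← hrq, mul_comm (r ≫ j), mul_right_comm (q ≫ em), add, add,
        show q ≫ em * (toUnit A ≫ a) = (q * (toUnit A ≫ b ≫ j')) ≫ em by
          rw [MonObj.mul_comp]; simp only [Category.assoc, a],
        ← hMpc, ← hMpc]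
      congr 1
      have h := congrArg (Units.map (PicMul.pullHom q.left : PicF.Cl C.left →* PicF.Cl A.left)) (hinv' b)
      rwa [pull_pc, pull_pc, MonObj.comp_mul, Category.comp_id, comp_toUnit_assoc] at h
    rw [← h1, ← map_pow, h2]
  have hdiv : ∀ b : pt₀ ⟶ B', ∃ b' : pt₀ ⟶ B', b' ^ n = b := fun b => by
    haveI := AVMulN.surjective_pow (A := B') n hn
    obtain ⟨b', hb'⟩ := AVDegenerate.exists_lift_image (𝟙 B' ^ n) b (((𝟙 B' ^ n : B' ⟶ B').left.surjective.range_eq).symm ▸ Set.mem_univ _)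
    exact ⟨b', by rw [← hb', MonObj.comp_pow, Category.comp_id]⟩
  have hB' : ∀ b : pt₀ ⟶ B', AVDegenerate.transHom hL (b ≫ j' ≫ em) = 1 := fun b => by
    obtain ⟨b', rfl⟩ := hdiv b
    rw [MonObj.pow_comp, map_pow, hpow]
  haveI : IsProper (B ⊗ B').hom := inferInstanceAs (IsProper (pullback.fst B.hom B'.hom ≫ B.hom))
  haveI := MaxAbelian.geometricallyIntegral_tensor B B'
  let ψ : B ⊗ B' ⟶ A := (fst B B' ≫ j) * (snd B B' ≫ j' ≫ em)
  have hψ : ∀ p : pt₀ ⟶ B ⊗ B', AVDegenerate.transHom hL (p ≫ ψ) = 1 := fun p => by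
    rw [MonObj.comp_mul, map_mul, ← Category.assoc p, ← Category.assoc p, hB, hB', _root_.one_mul]
  have hl : lift (𝟙 B) (1 : B ⟶ B') ≫ ψ = j := by
    simp only [ψ, MonObj.comp_mul, lift_fst_assoc, lift_snd_assoc, Category.id_comp, MonObj.one_comp,
      _root_.mul_one]
  obtain ⟨B₂, _, j₂, _, _, _, _, hsub, hB₂⟩ := AVDegenerate.exists_abelian_sub (AVDegenerate.transHom hL) ψ
    (by
      rw [show η[A] = η[B] ≫ lift (𝟙 B) (1 : B ⟶ B') ≫ ψ by rw [hl, IsMonHom.one_hom j]]
      exact ⟨_, rfl⟩) hψ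
  have hle := hmax B₂ inferInstance j₂ inferInstance inferInstance inferInstance inferInstance hB₂
  haveI : IsIntegral B.left := GeometricallyIntegral.isIntegral_of_subsingleton B.hom
  haveI : IsIntegral B₂.left := GeometricallyIntegral.isIntegral_of_subsingleton B₂.hom
  rw [VarDim.topologicalKrullDim_eq_deg_genericPoint B.hom,
    VarDim.topologicalKrullDim_eq_deg_genericPoint B₂.hom] at hle
  obtain ⟨w, hw⟩ : j.left (genericPoint B.left) ∈ Set.range j₂.left := hsub
    ⟨(lift (𝟙 B) (1 : B ⟶ B')).left (genericPoint B.left),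
      congrArg (fun φ : B ⟶ A => φ.left (genericPoint B.left)) hl⟩
  have hwdeg : VarDim.deg B₂.hom w = VarDim.deg B.hom (genericPoint B.left) := by
    rw [← deg_closed j₂, hw, deg_closed j]
  have hgen := VarDim.eq_of_specializes_of_deg_le B₂.hom (genericPoint_specializes w)
    (hwdeg.symm ▸ by exact_mod_cast hle)
  have hrange : Set.range ψ.left ⊆ Set.range j.left := hsub.trans (by
    rintro _ ⟨z, rfl⟩
    refine ((genericPoint_specializes z).map j₂.left.continuous).mem_closed j.left.isClosedEmbedding.isClosed_range ?_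
    rw [hgen, hw]
    exact ⟨_, rfl⟩)
  have htors : ∀ b : pt₀ ⟶ B', b ^ n = 1 := fun b => by
    obtain ⟨b₁, hb₁⟩ := AVDegenerate.exists_lift_image j (b ≫ j' ≫ em) (hrange (by
      rw [show b ≫ j' ≫ em = lift (1 : pt₀ ⟶ B) b ≫ ψ by
        simp only [ψ, MonObj.comp_mul, lift_fst_assoc, lift_snd_assoc, MonObj.one_comp, _root_.one_mul]]
      exact ⟨_, rfl⟩))
    have h := congrArg (· ≫ r) hb₁
    simp only [Category.assoc, hjr, hemr, MonObj.comp_one, MonObj.comp_pow, Category.comp_id] at h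
    haveI : Mono j' := (Over.forget _).mono_of_mono_map (inferInstanceAs (Mono j'.left))
    haveI : Mono em := (Over.forget _).mono_of_mono_map (inferInstanceAs (Mono em.left))
    rw [← cancel_mono (j' ≫ em), MonObj.pow_comp, ← hb₁, ← MonObj.pow_comp, h, MonObj.one_comp, MonObj.one_comp]
  haveI : JacobsonSpace (Spec (CommRingCat.of k)) := inferInstanceAs (JacobsonSpace (PrimeSpectrum k))
  haveI : JacobsonSpace B'.left := LocallyOfFiniteType.jacobsonSpace B'.hom
  let o : pt₀ ⟶ B' := 1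
  have hsub' : closedPoints B'.left ⊆ {o.left (IsLocalRing.closedPoint k)} := fun y hy => by
    obtain ⟨b, rfl⟩ := AVPhiSurj.exists_pt hy
    obtain ⟨b', rfl⟩ := hdiv b
    rw [htors b']
    exact rfl
  have huniv := closure_minimal hsub' (AVPhiSurj.isClosed_pt o)
  rw [closure_closedPoints] at huniv
  exact not_subsingleton B'.left ⟨fun x y => (huniv trivial).trans (huniv trivial).symm⟩

end Split

section Dim

open AVKLExist

variable {k : Type u} [Field k] [IsAlgClosed k] {A : Over (Spec (CommRingCat.of k))} [GrpObj A] [IsProper A.hom]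
  [GeometricallyIntegral A.hom] {L : A.left.Modules} (hL : PicF.IsInvertible L)

local notation3 "pt₀" => 𝟙_ (Over (Spec (CommRingCat.of k)))

include hL

/-- A rational point of `K(L)` fixes the class. -/
theorem fixed_of_mumfordTriv {a : pt₀ ⟶ A} (h : ThetaGrp.IsMumfordTriv A L a) :
    pc hL (𝟙 A * (toUnit A ≫ a)) = pc hL (𝟙 A) := by
  obtain ⟨M, hM, hMa⟩ := (mumford_iff_mum hL a).1 h
  have hM1 : PicF.cl M = 1 := by
    have := pl_const (T' := pt₀) ⟨M, rfl, hM⟩ (𝟙 pt₀)
    rwa [show toUnit pt₀ ≫ 𝟙 pt₀ = 𝟙 pt₀ from toUnit_unique _ _, pl_id] at this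
  rw [hM1] at hMa
  have hm : mum hL a = 1 := Units.ext (hMa.symm.trans (map_one (PicMul.pullHom (snd A pt₀).left)))
  have := congrArg (Units.map (PicMul.pullHom (lift (𝟙 A) (toUnit A)).left :
    PicF.Cl (A ⊗ pt₀).left →* PicF.Cl A.left)) hm
  simp only [mum, map_mul, map_inv, map_one, pull_pc, MonObj.comp_mul, lift_fst, lift_snd_assoc, pc_const, inv_one,
    _root_.mul_one, mul_inv_eq_one] at this
  exact this

/-- The dimension of `K(L)` is that of the largest abelian subvariety fixing the class. -/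
theorem dim_eq {B C : Over (Spec (CommRingCat.of k))} [GrpObj B] [GrpObj C] [IsProper B.hom]
    [GeometricallyIntegral B.hom] [IsProper C.hom] [GeometricallyIntegral C.hom] (j : B ⟶ A) [IsMonHom j]
    [IsClosedImmersion j.left] (em : C ⟶ A) [IsMonHom em] (r : A ⟶ B) (q : A ⟶ C) [IsMonHom r] [IsMonHom q] {n : ℕ}
    (hn : 0 < n) (hrq : (r ≫ j) * (q ≫ em) = 𝟙 A ^ n) (hjq : j ≫ q = 1)
    (hinv : ∀ b : pt₀ ⟶ B, pc hL (𝟙 A * (toUnit A ≫ b ≫ j)) = pc hL (𝟙 A))
    (hfin : Set.Finite {c : pt₀ ⟶ C | pc (PicClLib.isInvertible_pullback em.left hL) (𝟙 C * (toUnit C ≫ c)) =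
      pc (PicClLib.isInvertible_pullback em.left hL) (𝟙 C)})
    {K : Over (Spec (CommRingCat.of k))} {i : K ⟶ A} (hK : ThetaGrp.IsKL A L i) :
    topologicalKrullDim ↥K.left = topologicalKrullDim ↥B.left := by
  classical
  haveI : IsIntegral A.left := GeometricallyIntegral.isIntegral_of_subsingleton A.hom
  haveI : IsCommMonObj A := isCommMonObj_of_isProper_of_geometricallyIntegral A
  haveI : IsCommMonObj B := isCommMonObj_of_isProper_of_geometricallyIntegral B
  haveI : IsCommMonObj C := isCommMonObj_of_isProper_of_geometricallyIntegral C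
  haveI := hK.closed
  haveI : IsProper K.hom := by rw [← Over.w i]; infer_instance
  refine le_antisymm ?_ ?_
  swap
  · obtain ⟨y, hy⟩ := (hK.univ _ j).1 ((mumford_iff_mum hL j).2 ⟨_, PicLoc.isInvertible_structureModule _, by
      rw [show mum hL j = 1 by
        rw [mum, AVDegenerate.add_of_invariant hL j hinv, mul_inv_cancel_comm, mul_inv_cancel]]
      exact (PicMul.pullCl_one _).trans rfl⟩)
    haveI : IsClosedImmersion y.left := by
      haveI : IsClosedImmersion (y.left ≫ i.left) := by rw [← Over.comp_left, hy]; infer_instance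
      exact IsClosedImmersion.of_comp y.left i.left
    exact dim_le_of_closed y
  let hM := PicClLib.isInvertible_pullback em.left hL
  have hMpc : ∀ {T : Over (Spec (CommRingCat.of k))} (x : T ⟶ C), pc hM x = pc hL (x ≫ em) := fun x => Units.ext (by
    rw [val_pc, val_pc]
    show PicF.pullCl x.left (PicF.pullCl em.left (PicF.cl L)) = _
    rw [PicClLib.pullCl_comp]
    rfl)
  let τ := AVDegenerate.transHom hL
  have hτj : ∀ b : pt₀ ⟶ B, τ (b ≫ j) = 1 := fun b => (AVDegenerate.transHom_eq_one_iff hL _).2 (hinv b)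
  have hrq' : ∀ a : pt₀ ⟶ A, (a ≫ r ≫ j) * (a ≫ q ≫ em) = a ^ n := fun a => by
    rw [← MonObj.comp_mul, hrq, MonObj.comp_pow, Category.comp_id]
  let S := {c : pt₀ ⟶ C | pc hM (𝟙 C * (toUnit C ≫ c)) = pc hM (𝟙 C)}
  have hS : ∀ a : pt₀ ⟶ A, τ a = 1 → a ≫ q ∈ S := by
    intro a ha
    have h1 : τ (a ≫ q ≫ em) = 1 := by
      have h := congrArg τ (hrq' a)
      rwa [map_mul, map_pow, ha, one_pow, ← Category.assoc a r j, hτj, _root_.one_mul] at h
    have h2 := congrArg (Units.map (PicMul.pullHom em.left : PicF.Cl A.left →* PicF.Cl C.left))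
      ((AVDegenerate.transHom_eq_one_iff hL _).1 h1)
    simp only [pull_pc, MonObj.comp_mul, Category.comp_id, comp_toUnit_assoc] at h2
    show pc hM _ = pc hM _
    rw [hMpc, hMpc, MonObj.mul_comp, Category.id_comp, Category.assoc, Category.assoc]
    exact h2
  let rep : (pt₀ ⟶ C) → (pt₀ ⟶ A) := fun c => if h : ∃ a : pt₀ ⟶ A, a ≫ q = c then h.choose else 1
  obtain ⟨g, hg⟩ := AVTors.exists_dimNat A
  haveI : Finite {t : pt₀ ⟶ A | t ^ n = 1} := (AVTors.card_torsPts_le hg n hn).1
  let U : Set (pt₀ ⟶ A) := Set.image2 (· * ·) (rep '' S) {t : pt₀ ⟶ A | t ^ n = 1}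
  have hU : U.Finite := (hfin.image rep).image2 _ (Set.toFinite _)
  let φ : (pt₀ ⟶ A) → (B ⟶ A) := fun u => j ≫ (AVEuler.tr u).hom
  haveI hφ : ∀ u, IsClosedImmersion (φ u).left := fun u => by
    haveI : IsIso (AVEuler.tr u).hom.left := ((Over.forget _).mapIso (AVEuler.tr u)).isIso_hom
    show IsClosedImmersion (j.left ≫ (AVEuler.tr u).hom.left)
    infer_instance
  have hdecomp : ∀ a : pt₀ ⟶ A, τ a = 1 → ∃ u ∈ U, ∃ b : pt₀ ⟶ B, b ≫ φ u = a := by
    intro a ha
    let a₀ := rep (a ≫ q)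
    have ha₀ : a₀ ≫ q = a ≫ q := by
      have h : ∃ x : pt₀ ⟶ A, x ≫ q = a ≫ q := ⟨a, rfl⟩
      show (dite _ _ _ : pt₀ ⟶ A) ≫ q = _
      rw [dif_pos h]
      exact h.choose_spec
    let d := a * a₀⁻¹
    have hd : d ^ n = d ≫ r ≫ j := by
      rw [← hrq' d, ← Category.assoc d q em,
        show d ≫ q = 1 by rw [MonObj.mul_comp, GrpObj.inv_comp, ha₀, mul_inv_cancel],
        MonObj.one_comp, _root_.mul_one]
    haveI := AVMulN.surjective_pow (A := B) n hn
    obtain ⟨b, hb⟩ := AVDegenerate.exists_lift_image (𝟙 B ^ n) (d ≫ r)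
      (((𝟙 B ^ n : B ⟶ B).left.surjective.range_eq).symm ▸ Set.mem_univ _)
    rw [MonObj.comp_pow, Category.comp_id] at hb
    refine ⟨a₀ * (d * (b ≫ j)⁻¹), Set.mem_image2_of_mem ⟨_, hS a ha, rfl⟩ ?_, b, ?_⟩
    · show (d * (b ≫ j)⁻¹) ^ n = 1
      rw [mul_pow, inv_pow, ← MonObj.pow_comp, hb, hd, Category.assoc, mul_inv_cancel]
    · show b ≫ j ≫ (𝟙 A * (toUnit A ≫ _)) = a
      rw [MonObj.comp_mul, Category.comp_id, MonObj.comp_mul, comp_toUnit_assoc, comp_toUnit_assoc,
        toUnit_unique (toUnit pt₀) (𝟙 _), Category.id_comp]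
      show b ≫ j * (a₀ * (a * a₀⁻¹ * (b ≫ j)⁻¹)) = a
      refine Additive.ofMul.injective ?_
      simp only [ofMul_mul, ofMul_inv]
      abel
  have hcover : Set.range i.left ⊆ ⋃ u ∈ U, Set.range (φ u).left := by
    haveI : JacobsonSpace (Spec (CommRingCat.of k)) := inferInstanceAs (JacobsonSpace (PrimeSpectrum k))
    haveI : JacobsonSpace A.left := LocallyOfFiniteType.jacobsonSpace A.hom
    have hW : IsClosed (⋃ u ∈ U, Set.range (φ u).left) :=
      hU.isClosed_biUnion fun u _ => (φ u).left.isClosedEmbedding.isClosed_range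
    by_contra hne
    obtain ⟨x, hx, hxc⟩ := nonempty_inter_closedPoints (Set.sdiff_nonempty.2 hne)
      (i.left.isClosedEmbedding.isClosed_range.isLocallyClosed.inter hW.isOpen_compl.isLocallyClosed)
    obtain ⟨a, rfl⟩ := AVPhiSurj.exists_pt hxc
    obtain ⟨y, rfl⟩ := AVDegenerate.exists_lift_image i a hx.1
    obtain ⟨u, hu, b, hb⟩ := hdecomp _ ((AVDegenerate.transHom_eq_one_iff hL _).2
      (fixed_of_mumfordTriv hL ((hK.univ _ _).2 ⟨y, rfl⟩)))
    exact hx.2 (Set.mem_biUnion hu ⟨b.left (IsLocalRing.closedPoint k),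
      congrArg (fun f : pt₀ ⟶ A => f.left (IsLocalRing.closedPoint k)) hb⟩)
  refine dim_le_of_cover i fun w => ?_
  obtain ⟨u, -, x, hx⟩ := Set.mem_iUnion₂.1 (hcover ⟨w, rfl⟩)
  exact ⟨φ u, hφ u, x, hx⟩

end Dim

section Growth

open AVIndexStable

variable {k : Type u} [Field k] {C : Over (Spec (CommRingCat.of k))} [GrpObj C] [IsProper C.hom]
  [GeometricallyIntegral C.hom]

/-- The twists of a locally free module have the growth of the rank times the twists. -/
theorem euler_growth {c : ℕ} (hc : topologicalKrullDim ↥C.left = c) {M : C.left.Modules}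
    (hM : PicF.IsInvertible M) {E : C.left.Modules} {d : ℕ} (hE : FlatMod.IsFinLocFreeOfRank d E) :
    ∃ D : ℚ, ∀ a : ℕ, 0 < a →
      |(@Curv2.euler k _ C.left ⟨C.hom⟩ (CohB1.tensorMod E (CohB1.tensorPow M a)) : ℚ) -
        (d : ℚ) * (@Curv2.euler k _ C.left ⟨C.hom⟩ M : ℚ) * (a : ℚ) ^ c| * a ≤ D * (a : ℚ) ^ c := by
  classical
  letI : C.left.Over (Spec (CommRingCat.of k)) := ⟨C.hom⟩
  haveI : IsProper (C.left ↘ Spec (CommRingCat.of k)) := inferInstanceAs (IsProper C.hom)
  haveI : IsIntegral C.left := GeometricallyIntegral.isIntegral_of_subsingleton C.hom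
  haveI : IsLocallyNoetherian C.left := LocallyOfFiniteType.isLocallyNoetherian C.hom
  haveI := CurveCohLib.isNoetherian_of_proper (k := k) (X := C.left)
  obtain ⟨N, hN⟩ := Euler.exists_bound (X := C.left) k
  choose Cj hCj using fun j => CohGrowth.isBdd_dist_free k (L := fun _ : Fin 1 => M) (fun _ => hM) hc.le hE j
  have hEf : FlatMod.IsFinLocFree E := fun x => let ⟨U, hx, e⟩ := hE x; ⟨U, d, hx, e⟩
  refine ⟨((∑ j ∈ Finset.range N, Cj j) * 2 ^ c : ℕ), fun a ha => ?_⟩
  let P := CohB1.tensorPow M a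
  have hP : PicF.IsInvertible P := PicMul.isInvertible_tensorPow hM a
  let F := CohB1.tensorMod E P
  have hF : Coh.IsCoh F := CurveTensor.isCoh_tensor hEf (isCoh hP)
  haveI := AmpleVan.isEquivalence_tw hP
  haveI : (AmpleVan.tw P).Additive := Functor.additive_of_preserves_binary_products _
  have hfree : ∀ j, h C (CohB1.tensorMod (FlatMod.freeMod C.left d) P) j = d * h C P j := fun j => by
    haveI : Module.Finite k (Coh.HH C.left ((AmpleVan.tw P).obj (Coh.structureModule C.left)) j) :=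
      S0002.result k C.left _ (AmpleVan.isCoh_tensor QCoh.isCoh_structureModule' (isCoh hP)) j
    exact (CohGrowth.finrank_HH_map_free k (AmpleVan.tw P) d j).trans
      (congrArg (d * ·) (h_congr (A := C) (CurveTensor.structureTensorIso P) j))
  have hdist : ∀ j, Nat.dist (h C F j) (d * h C P j) ≤ Cj j * CohGrowth.w c a := fun j => by
    have h1 := hCj j (fun _ => a)
    rw [Finset.sum_const, Finset.card_univ, Fintype.card_fin, one_smul] at h1
    rw [← hfree]
    exact h1
  have hsum : ∀ {G : C.left.Modules}, Coh.IsCoh G →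
      Curv2.euler k C.left G = ∑ j ∈ Finset.range N, (-1 : ℤ) ^ j * (h C G j : ℤ) := fun {G} hG =>
    Euler.euler_eq_sum k G N fun p hp => hN G hG.1 p hp
  have hpow : Curv2.euler k C.left P = (a : ℤ) ^ c * Curv2.euler k C.left M := by
    have h1 := AVEulerHomog.euler_pow c hc hM a
    rw [← PicMul.cl_tensorPow] at h1
    exact h1
  have hnat : (|Curv2.euler k C.left F - (d : ℤ) * Curv2.euler k C.left M * (a : ℤ) ^ c| * a : ℤ) ≤
      (((∑ j ∈ Finset.range N, Cj j) * 2 ^ c : ℕ) : ℤ) * (a : ℤ) ^ c := by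
    have h1 : |Curv2.euler k C.left F - (d : ℤ) * Curv2.euler k C.left M * (a : ℤ) ^ c| ≤
        ((∑ j ∈ Finset.range N, Cj j * CohGrowth.w c a : ℕ) : ℤ) := by
      rw [_root_.mul_assoc, mul_comm (Curv2.euler k C.left M), ← hpow, hsum hF, hsum (isCoh hP), Finset.mul_sum,
        ← Finset.sum_sub_distrib, Nat.cast_sum]
      refine (Finset.abs_sum_le_sum_abs _ _).trans (Finset.sum_le_sum fun j _ => ?_)
      rw [mul_left_comm (d : ℤ), ← mul_sub, abs_mul, abs_pow, abs_neg, abs_one, one_pow, _root_.one_mul]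
      have h2 := hdist j
      unfold Nat.dist at h2
      rw [abs_le]
      constructor <;> · push_cast; omega
    refine (mul_le_mul_of_nonneg_right h1 (Int.natCast_nonneg a)).trans ?_
    have h2 : (∑ j ∈ Finset.range N, Cj j * CohGrowth.w c a) * a ≤
        (∑ j ∈ Finset.range N, Cj j) * 2 ^ c * a ^ c := by
      rw [← Finset.sum_mul, _root_.mul_assoc, _root_.mul_assoc, mul_comm (CohGrowth.w c a) a, ← mul_pow]
      exact Nat.mul_le_mul_left _ ((CohGrowth.mul_w_le c a).trans (Nat.pow_le_pow_left (by omega) c))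
    exact_mod_cast h2
  exact_mod_cast hnat

end Growth

section Mult0

open AVIndexStable

variable {k : Type u} [Field k] {A : Over (Spec (CommRingCat.of k))} [GrpObj A] [IsProper A.hom]
  [GeometricallyIntegral A.hom]

/-- An ample module has non-zero Euler characteristic. -/
theorem euler_ne_zero_of_isAmple {H : A.left.Modules} (hH : CohB1.IsAmple H) :
    @Curv2.euler k _ A.left ⟨A.hom⟩ H ≠ 0 := by
  letI : A.left.Over (Spec (CommRingCat.of k)) := ⟨A.hom⟩
  haveI : IsProper (A.left ↘ Spec (CommRingCat.of k)) := inferInstanceAs (IsProper A.hom)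
  haveI : IsIntegral A.left := GeometricallyIntegral.isIntegral_of_subsingleton A.hom
  haveI : IsLocallyNoetherian A.left := LocallyOfFiniteType.isLocallyNoetherian A.hom
  obtain ⟨g, hg⟩ := AVTors.exists_dimNat A
  intro h0
  obtain ⟨x⟩ := (inferInstance : Nonempty A.left)
  obtain ⟨m, s, hx, -⟩ := hH.2.2 x
  let N := CohB1.tensorPow H (m + 1)
  have hN : PicF.IsInvertible N := PicMul.isInvertible_tensorPow hH.1 (m + 1)
  have hs : InvX.one s ≠ 0 := fun e => by
    rw [AmpleX.genLocus_eq_locus, e, show (0 : Γ(N, ⊤)) = (0 : Γ(A.left, ⊤)) • (0 : Γ(N, ⊤)) from (zero_smul _ _).symm,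
      AmpleX.locus_smul hN, Scheme.basicOpen_zero] at hx
    exact hx.2
  haveI := CurveAmple.nontrivial_h0 hs
  haveI : Module.Finite k (Coh.HH A.left N 0) := S0002.result k A.left _ (CurveDeg.isCoh_of_isInvertible hN) 0
  have hpos : 0 < Module.finrank k (Coh.HH A.left N 0) := Module.finrank_pos
  have h1 := AVHilbert.finrank_HH_zero_tensorPow g hg hH (Nat.succ_pos m)
  have h2 := AVHilbert.euler_eq_finrank hH
  rw [h0] at h2
  have h3 : Module.finrank k (Coh.HH A.left H 0) = 0 := by exact_mod_cast h2.symm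
  rw [h3, Nat.mul_zero] at h1
  exact hpos.ne' h1

end Mult0

section Mult

open AVIndexStable AVIndexSegment

variable {k : Type u} [Field k] [IsAlgClosed k] {A : Over (Spec (CommRingCat.of k))} [GrpObj A] [IsProper A.hom]
  [GeometricallyIntegral A.hom] {L H : A.left.Modules} (hL : PicF.IsInvertible L) (hamp : CohB1.IsAmple H)

local notation3 "pt₀" => 𝟙_ (Over (Spec (CommRingCat.of k)))

include hL hamp

/-- Over an algebraically closed field the dimension of `K(L)` is the root multiplicity. -/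
theorem krullDim_eq_closed {K : Over (Spec (CommRingCat.of k))} {i : K ⟶ A} (hK : ThetaGrp.IsKL A L i)
    (Φ : Polynomial ℚ)
    (hΦ : ∀ n : ℕ, Φ.eval (n : ℚ) = (@Curv2.euler k _ A.left ⟨A.hom⟩ (CohB1.tensorMod L (CohB1.tensorPow H n)) : ℚ)) :
    topologicalKrullDim ↥K.left = ((Φ.rootMultiplicity 0 : ℕ) : WithBot ℕ∞) := by
  classical
  haveI : IsIntegral A.left := GeometricallyIntegral.isIntegral_of_subsingleton A.hom
  haveI : IsCommMonObj A := isCommMonObj_of_isProper_of_geometricallyIntegral A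
  obtain ⟨B, C, _, _, j, em, r, q, n, _, _, _, _, _, _, _, _, _, _, hn, hjr, hemr, hjq, hemq, hrq, hinv, hfin⟩ :=
    exists_split hL
  rw [dim_eq hL j em r q hn hrq hjq hinv hfin hK]
  obtain ⟨db, hdb⟩ := AVTors.exists_dimNat B
  obtain ⟨c, hc⟩ := AVTors.exists_dimNat C
  obtain ⟨g, hg⟩ := AVTors.exists_dimNat A
  haveI : IsCommMonObj B := isCommMonObj_of_isProper_of_geometricallyIntegral B
  haveI : IsCommMonObj C := isCommMonObj_of_isProper_of_geometricallyIntegral C
  haveI : IsIntegral B.left := GeometricallyIntegral.isIntegral_of_subsingleton B.hom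
  haveI : IsIntegral C.left := GeometricallyIntegral.isIntegral_of_subsingleton C.hom
  haveI : IsProper (B ⊗ C).hom := inferInstanceAs (IsProper (pullback.fst B.hom C.hom ≫ B.hom))
  haveI := MaxAbelian.geometricallyIntegral_tensor B C
  let X := B ⊗ C
  haveI : IsIntegral X.left := GeometricallyIntegral.isIntegral_of_subsingleton X.hom
  haveI : IsCommMonObj X := isCommMonObj_of_isProper_of_geometricallyIntegral X
  -- the isogeny
  let p1 : X ⟶ B := fst B C
  let p2 : X ⟶ C := snd B C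
  let f : X ⟶ A := (p2 ≫ em) * (p1 ≫ j)
  let g' : A ⟶ X := lift r q
  have hgf : g' ≫ f = 𝟙 A ^ n := by
    rw [← hrq, MonObj.comp_mul, mul_comm]
    simp only [g', p1, p2, lift_fst_assoc, lift_snd_assoc]
  have hfg : f ≫ g' = 𝟙 X ^ n := by
    apply CartesianMonoidalCategory.hom_ext
    · simp only [g', Category.assoc, lift_fst, f, MonObj.mul_comp, hjr, hemr, MonObj.comp_one, MonObj.comp_pow,
        MonObj.pow_comp, Category.comp_id, Category.id_comp, _root_.one_mul, p1]
    · simp only [g', Category.assoc, lift_snd, f, MonObj.mul_comp, hjq, hemq, MonObj.comp_one, MonObj.comp_pow,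
        MonObj.pow_comp, Category.comp_id, Category.id_comp, _root_.mul_one, p2]
  haveI hfh : IsMonHom f := AVDegPoly.isMonHom_of_one f (by
    rw [MonObj.comp_mul, IsMonHom.one_hom (p2 ≫ em), IsMonHom.one_hom (p1 ≫ j), show η[A] = (1 : pt₀ ⟶ A) by rw [Hom.one_def, toUnit_unique (toUnit (𝟙_ _)) (𝟙 _), Category.id_comp], _root_.one_mul])
  haveI : IsFinite (f.left ≫ g'.left) := by
    rw [← Over.comp_left, hfg]
    exact AVMulN.isFinite_pow (A := X) n hn
  haveI : IsSeparated g'.left := by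
    haveI : IsSeparated (g'.left ≫ X.hom) := by rw [Over.w]; infer_instance
    exact IsSeparated.of_comp g'.left X.hom
  haveI : IsFinite f.left := IsFinite.of_comp f.left g'.left
  haveI : Surjective f.left := by
    haveI : Surjective (g'.left ≫ f.left) := by
      rw [← Over.comp_left, hgf]
      exact AVMulN.surjective_pow (A := A) n hn
    exact Surjective.of_comp g'.left f.left
  have hXA : topologicalKrullDim ↥X.left = topologicalKrullDim ↥A.left := by
    haveI : IsLocallyNoetherian A.left := LocallyOfFiniteType.isLocallyNoetherian A.hom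
    have h3 := VarDim.deg_eq_add f.left A.hom (Over.w f) (genericPoint X.left)
    rw [H23.Isogeny.fdeg_eq_zero_of_finite f.left, add_zero] at h3
    have hgen : f.left (genericPoint X.left) = genericPoint A.left :=
      ((genericPoint_spec X.left).image f.left.continuous).eq (by
        convert genericPoint_spec A.left using 1
        rw [Set.image_univ, f.left.surjective.range_eq, closure_univ])
    rw [hgen] at h3
    rw [VarDim.topologicalKrullDim_eq_deg_genericPoint X.hom, VarDim.topologicalKrullDim_eq_deg_genericPoint A.hom, h3]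
  haveI : Flat f.left := (S19572.result k X A f hXA).2
  obtain ⟨δ, hδ0, hδ⟩ := AVIndexStable.exists_degree f
  have hgd : g = db + c := by
    have h := FibDim.topologicalKrullDim_pullback (f := B.hom) (g := C.hom)
    rw [hdb, hc, show topologicalKrullDim ↥(pullback B.hom C.hom) = topologicalKrullDim ↥A.left from hXA, hg] at h
    exact_mod_cast h
  -- the degenerate part
  let hM := PicClLib.isInvertible_pullback em.left hL
  let M := (Scheme.Modules.pullback em.left).obj L
  let P := (Scheme.Modules.pullback (p1 ≫ j).left).obj L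
  have hP : PicF.IsInvertible P := PicClLib.isInvertible_pullback _ hL
  have hPpc : ∀ {T : Over (Spec (CommRingCat.of k))} (x : T ⟶ X), pc hP x = pc hL (x ≫ p1 ≫ j) := fun x =>
    Units.ext (by
      rw [val_pc, val_pc]
      show PicF.pullCl x.left (PicF.pullCl (p1 ≫ j).left (PicF.cl L)) = _
      rw [PicClLib.pullCl_comp]
      rfl)
  let H' := (Scheme.Modules.pullback f.left).obj H
  haveI : CompactSpace X.left := QuasiCompact.compactSpace_of_compactSpace X.hom
  have hH' : CohB1.IsAmple H' := AmpleVan.FiniteSurj.isAmple_pullback_of_isAffineHom f.left hamp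
  have hclf : PicF.cl ((Scheme.Modules.pullback f.left).obj L) =
      PicMul.pullHom p2.left (PicF.cl M) * PicF.cl P := by
    show PicF.pullCl f.left (PicF.cl L) = PicF.pullCl p2.left (PicF.pullCl em.left (PicF.cl L)) * _
    rw [PicClLib.pullCl_comp, ← val_pc hL]
    show (pc hL ((p2 ≫ em) * (p1 ≫ j)) : PicF.Cl X.left) = _
    rw [AVDegenerate.add_of_invariant hL j hinv, Units.val_mul, val_pc, val_pc]
    rfl
  -- the direct image
  let E := (Coh.Rpush p2.left 0).obj H'
  haveI : HasInjectiveResolutions X.left.Modules := KFlatLib.hasInjectiveResolutions_modules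
  let Bc := Red.bc C.hom B
  haveI : IsProper Bc.hom := inferInstanceAs (IsProper (pullback.snd B.hom C.hom))
  haveI : Smooth B.hom := S7795.result B
  haveI : GeometricallyConnected B.hom := CubeAb.geometricallyConnected_of_integral B.hom
  haveI : Smooth Bc.hom := inferInstanceAs (Smooth (pullback.snd B.hom C.hom))
  haveI : GeometricallyConnected Bc.hom := inferInstanceAs (GeometricallyConnected (pullback.snd B.hom C.hom))
  haveI : IsLocallyNoetherian C.left := LocallyOfFiniteType.isLocallyNoetherian C.hom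
  haveI : IsProper p2.left := inferInstanceAs (IsProper (pullback.snd B.hom C.hom))
  have hrel : RelAmple.IsRelAmple p2.left H' := AmpleX.isRelAmple_of_ampleOn fun x =>
    ⟨⊤, X.left, 𝟙 _, inferInstance, trivial, fun y _ => ⟨y, rfl⟩,
      AmpleX.isAmple_of_iso (Scheme.Modules.restrictFunctorId.app H').symm hH'⟩
  have hz : ∀ m, m ≠ 0 → IsZero ((Coh.Rpush p2.left m).obj H') := fun m hm =>
    AVRelAmple.isZero_Rpush Bc hH'.1 hrel m (Nat.pos_of_ne_zero hm)
  have hEf : FlatMod.IsFinLocFree E := by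
    haveI := SpObjSS.enoughInjectives_of_hasInjectiveResolutions (C := X.left.Modules)
    haveI := QCoh.preservesFiniteLimits_push p2.left
    exact (ConsPropLib.isFinLocFree_iso ((Scheme.Modules.pushforward p2.left).rightDerivedZeroIsoSelf.app H')).2
      (AVRelAmple.isFinLocFree_push Bc hH'.1 hrel)
  haveI : ConnectedSpace C.left := inferInstance
  obtain ⟨d, hEd⟩ := H28.KvbModel.exists_rank hEf
  obtain ⟨D, hD⟩ := euler_growth hc hM hEd
  -- the values
  letI : X.left.Over (Spec (CommRingCat.of k)) := ⟨X.hom⟩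
  letI : C.left.Over (Spec (CommRingCat.of k)) := ⟨C.hom⟩
  haveI : IsProper (X.left ↘ Spec (CommRingCat.of k)) := inferInstanceAs (IsProper X.hom)
  haveI : IsProper (C.left ↘ Spec (CommRingCat.of k)) := inferInstanceAs (IsProper C.hom)
  haveI : IsLocallyNoetherian X.left := LocallyOfFiniteType.isLocallyNoetherian X.hom
  have hpush : ∀ a : ℕ, Curv2.euler k X.left
      (CohB1.tensorMod ((Scheme.Modules.pullback p2.left).obj (CohB1.tensorPow M a)) H') =
      Curv2.euler k C.left (CohB1.tensorMod E (CohB1.tensorPow M a)) := fun a => by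
    let Pa := CohB1.tensorPow M a
    have hPa : PicF.IsInvertible Pa := PicMul.isInvertible_tensorPow hM a
    have hPf : FlatMod.IsFinLocFree Pa := H23.PullPush.isFinLocFree_of_isInvertible hPa
    have hR : ∀ m, Nonempty (CohB1.tensorMod Pa ((Coh.Rpush p2.left m).obj H') ≅
        (Coh.Rpush p2.left m).obj (CohB1.tensorMod ((Scheme.Modules.pullback p2.left).obj Pa) H')) := fun m =>
      S0927.result p2.left H' Pa hPf m
    rw [EulerOneDeg.euler_eq k p2.left (Over.w p2) (CurveDeg.isCoh_of_isInvertible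
      (PicMul.isInvertible_tensor (PicClLib.isInvertible_pullback _ hPa) hH'.1)) 0 fun m hm =>
        (((DCoh.tensorBi (X := C.left)).obj Pa).map_isZero (hz m hm)).of_iso (hR m).some.symm,
      pow_zero, _root_.one_mul]
    exact CurveCohLib.euler_congr ((hR 0).some.symm ≪≫ CurveTensor.commIso Pa E)
  have hval : ∀ a : ℕ, (δ : ℤ) * χ₂ L H a 1 =
      Curv2.euler k C.left (CohB1.tensorMod E (CohB1.tensorPow M a)) := fun a => by
    rw [← hpush a]
    have hF : Coh.IsCoh (two L H a 1) := isCoh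
      (PicMul.isInvertible_tensor (PicMul.isInvertible_tensorPow hL a) (PicMul.isInvertible_tensorPow hamp.1 1))
    refine (AVEuler.euler_pullback f δ hδ hF).symm.trans ?_
    let Qa := CohB1.tensorMod ((Scheme.Modules.pullback p2.left).obj (CohB1.tensorPow M a)) H'
    have hQa : PicF.IsInvertible Qa := PicMul.isInvertible_tensor
      (PicClLib.isInvertible_pullback _ (PicMul.isInvertible_tensorPow hM a)) hH'.1
    let Ra := CohB1.tensorPow P a
    have hRa : PicF.IsInvertible Ra := PicMul.isInvertible_tensorPow hP a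
    have hRpc : ∀ x : X ⟶ X, pc hRa x = pc hP x ^ a := fun x => Units.ext (by
      rw [Units.val_pow_eq_pow_val, val_pc, val_pc]
      show PicMul.pullHom x.left (PicF.cl Ra) = PicMul.pullHom x.left (PicF.cl P) ^ a
      rw [PicMul.cl_tensorPow, map_pow])
    have hR2 : pc hRa (𝟙 X ^ (2 : ℤ)) = pc hRa (𝟙 X) ^ 2 := by
      rw [hRpc, hRpc, ← pow_mul, mul_comm a 2, pow_mul]
      congr 1
      rw [hPpc, hPpc, zpow_two, MonObj.mul_comp, Category.id_comp,
        AVDegenerate.add_of_invariant hL j hinv (p1 ≫ j) p1, sq]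
    have h := AVDegenerate.euler_twist g (hXA.trans hg) hQa hRa hR2
    have e : PicF.cl ((Scheme.Modules.pullback f.left).obj (two L H a 1)) = PicF.cl Qa * PicF.cl Ra := by
      show PicMul.pullHom f.left (PicF.cl (two L H a 1)) = _
      rw [PicMul.cl_tensor, PicMul.cl_tensorPow, PicMul.cl_tensorPow, map_mul, map_pow, map_pow, pow_one,
        show PicMul.pullHom f.left (PicF.cl L) = _ from hclf, PicMul.cl_tensor, PicMul.cl_tensorPow,
        show PicF.cl ((Scheme.Modules.pullback p2.left).obj (CohB1.tensorPow M a)) =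
          PicMul.pullHom p2.left (PicF.cl (CohB1.tensorPow M a)) from rfl, PicMul.cl_tensorPow, map_pow, mul_pow,
        mul_right_comm]
      rfl
    rw [← SurfPairing.χ_cl, ← SurfPairing.χ_cl, e]
    exact h
  -- non-degeneracy
  have hne : Curv2.euler k C.left M ≠ 0 := by
    obtain ⟨i₀, hi₀⟩ := AVIndexStable.exists_conc_of_finite_stab hM (hfin.subset fun a ha => Units.ext (by
      rw [val_pc, val_pc_id]
      exact (PicGrp.cl_eq_cl_iff _ _).2 ha))
    exact hi₀.euler_ne_zero
  have hd0 : (d : ℤ) ≠ 0 := by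
    intro h0
    obtain rfl : d = 0 := by exact_mod_cast h0
    have h := hpush 0
    have hz' : IsZero E := Groth.Agent.CurveCohLib.isZero_of_isFinLocFreeOfRank_zero hEd
    have h1 : Curv2.euler k C.left (CohB1.tensorMod E (CohB1.tensorPow M 0)) = 0 := by
      have hzT : IsZero (CohB1.tensorMod E (CohB1.tensorPow M 0)) := by
        refine IsZero.of_iso ?_ (CurveTensor.commIso E (CohB1.tensorPow M 0))
        exact ((DCoh.tensorBi (X := C.left)).obj (CohB1.tensorPow M 0)).map_isZero hz'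
      unfold Curv2.euler
      refine finsum_eq_zero_of_forall_eq_zero fun m => ?_
      haveI := Euler.subsingleton_HH_of_isZero hzT m
      rw [Module.finrank_zero_of_subsingleton]
      simp
    rw [h1, ← SurfPairing.χ_cl, PicMul.cl_tensor,
      show PicF.cl ((Scheme.Modules.pullback p2.left).obj (CohB1.tensorPow M 0)) =
        PicMul.pullHom p2.left (PicF.cl (CohB1.tensorPow M 0)) from rfl,
      PicMul.cl_tensorPow, pow_zero, map_one, _root_.one_mul] at h
    exact euler_ne_zero_of_isAmple hH' ((SurfPairing.χ_cl k H').symm.trans h)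
  have hs : ((d : ℤ) * Curv2.euler k C.left M : ℚ) / δ ≠ 0 := by
    refine div_ne_zero (mul_ne_zero (by exact_mod_cast hd0) (by exact_mod_cast hne)) ?_
    exact_mod_cast hδ0.ne'
  rw [rootMultiplicity_eq (Φ := Φ) (g := g) (c := c) (by omega) hs (D / δ) fun a ha => ?_, hdb,
    show g - c = db by omega]
  · have h1 := hD a ha
    have h2 := χ₂_eq_eval hL hamp.1 hg Φ hΦ ha 1
    rw [Nat.cast_one, one_div] at h2
    rw [← h2]
    have h3 : (δ : ℚ) * (χ₂ L H a 1 : ℚ) = (Curv2.euler k C.left (CohB1.tensorMod E (CohB1.tensorPow M a)) : ℚ) := by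
      exact_mod_cast congrArg (fun z : ℤ => (z : ℚ)) (hval a)
    have hδq : (0 : ℚ) < δ := by exact_mod_cast hδ0
    calc _ = |(δ : ℚ) * (χ₂ L H a 1 : ℚ) - (d : ℚ) * (Curv2.euler k C.left M : ℚ) * (a : ℚ) ^ c| * a / δ := by
          rw [eq_div_iff hδq.ne', mul_right_comm]
          congr 1
          rw [← abs_of_pos hδq, ← abs_mul, abs_of_pos hδq]
          congr 1
          push_cast
          field_simp
      _ ≤ D * (a : ℚ) ^ c / δ := by
          rw [h3]
          exact (div_le_div_iff_of_pos_right hδq).2 h1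
      _ = _ := mul_div_right_comm _ _ _

end Mult

section AnyField

open AVIndexStable

variable {k : Type u} [Field k] {A : Over (Spec (CommRingCat.of k))} [GrpObj A] [IsProper A.hom]
  [GeometricallyIntegral A.hom] {L H : A.left.Modules} (hL : PicF.IsInvertible L) (hamp : CohB1.IsAmple H)

include hL hamp

/-- The dimension of `K(L)` is the multiplicity of the root `0` of the Hilbert polynomial. -/
theorem krullDim_eq {K : Over (Spec (CommRingCat.of k))} {i : K ⟶ A} (hK : ThetaGrp.IsKL A L i)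
    (Φ : Polynomial ℚ)
    (hΦ : ∀ n : ℕ, Φ.eval (n : ℚ) = (@Curv2.euler k _ A.left ⟨A.hom⟩ (CohB1.tensorMod L (CohB1.tensorPow H n)) : ℚ)) :
    topologicalKrullDim ↥K.left = ((Φ.rootMultiplicity 0 : ℕ) : WithBot ℕ∞) := by
  let Ω := AlgebraicClosure k
  let σ : Spec (CommRingCat.of Ω) ⟶ Spec (CommRingCat.of k) := Spec.map (CommRingCat.ofHom (algebraMap k Ω))
  let B := Red.bc σ A
  haveI : IsProper B.hom := inferInstanceAs (IsProper (pullback.snd A.hom σ))
  haveI : GeometricallyIntegral B.hom := inferInstanceAs (GeometricallyIntegral (pullback.snd A.hom σ))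
  haveI : CompactSpace B.left := QuasiCompact.compactSpace_of_compactSpace B.hom
  let p : B.left ⟶ A.left := pullback.fst A.hom σ
  haveI : IsAffineHom p := MorphismProperty.pullback_fst (P := @IsAffineHom) A.hom σ inferInstance
  haveI : IsIntegral A.left := GeometricallyIntegral.isIntegral_of_subsingleton A.hom
  haveI := hK.closed
  haveI : IsProper K.hom := by rw [← Over.w i]; infer_instance
  haveI : IsProper (Red.bc σ K).hom := inferInstanceAs (IsProper (pullback.snd K.hom σ))
  haveI : Subsingleton ↥(Spec (CommRingCat.of k)) := inferInstanceAs (Subsingleton (PrimeSpectrum k))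
  haveI : Subsingleton ↥(Spec (CommRingCat.of Ω)) := inferInstanceAs (Subsingleton (PrimeSpectrum Ω))
  haveI : Nonempty ↥(Spec (CommRingCat.of Ω)) := ⟨IsLocalRing.closedPoint Ω⟩
  have hsq : IsPullback (pullback.fst K.hom σ) (Red.bc σ K).hom K.hom σ := IsPullback.of_hasPullback K.hom σ
  rw [← FibDim.topologicalKrullDim_baseChange hsq]
  refine krullDim_eq_closed (A := B) (PicClLib.isInvertible_pullback p hL)
    (AmpleVan.FiniteSurj.isAmple_pullback_of_isAffineHom p hamp) (AVKLRank.isKL_bc σ hL hK) Φ fun n => ?_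
  rw [hΦ, ← euler_bc Ω (isCoh (PicMul.isInvertible_tensor hL (PicMul.isInvertible_tensorPow hamp.1 n)))]
  letI : B.left.Over (Spec (CommRingCat.of Ω)) := ⟨B.hom⟩
  haveI : IsProper (B.left ↘ Spec (CommRingCat.of Ω)) := inferInstanceAs (IsProper B.hom)
  congr 1
  exact CurveCohLib.euler_congr ((PicGrp.cl_eq_cl_iff _ _).1 (by
    show PicMul.pullHom p (PicF.cl _) = _
    rw [PicMul.cl_tensor, PicMul.cl_tensorPow, PicMul.cl_tensor, PicMul.cl_tensorPow, map_mul, map_pow]
    rfl)).some

end AnyField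

end Groth.Agent.AVKLDim
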