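import Groth.Agent.H28.KvbPull
import Groth.Agent.H28.KvbAmple
import Groth.Agent.H28.PBField
import Groth.Agent.H28.PullVB
import Groth.Agent.H28.HRR
import Groth.Agent.S3796
import Groth.Agent.S8668
import Groth.Agent.S8671
import Groth.Agent.S9750
import Groth.Agent.S4373
import Groth.Agent.H23.PicInv
import Groth.Agent.Synt29.OmegaExists
import Groth.Agent.S7858
import Groth.Agent.S7795
import Groth.Agent.OmegaUniv.Universal
import Groth.Agent.Lib.AVHodge
import Groth.Agent.Lib.AVEulerHomog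
import Groth.Agent.Lib.AVKLDim
import Groth.Agent.Lib.IntAlt
import Groth.Agent.CurveFin.RelDim
import Groth.Agent.CurvLocusLib.LocP
import Groth.Agent.Pic13Lib.SectBound
import Groth.Agent.Pic13Lib.AlgEqEuler
import Groth.Agent.AmpleVan.Components
import Groth.Agent.H23.PnChart
import Groth.Agent.LefPenLib.Nondeg
import Groth.Agent.GenusOneSS.Free
import Mathlib.Algebra.Group.ForwardDiff

/-! Abelian varieties in projective space: the conormal bundle and its alternating sums. -/

set_option autoImplicit false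
set_option linter.style.haveILetI false
set_option linter.unusedSectionVars false
set_option backward.isDefEq.respectTransparency false
set_option backward.isDefEq.respectTransparency.types false

universe u

open CategoryTheory CategoryTheory.Limits AlgebraicGeometry MonoidalCategory CartesianMonoidalCategory MonObj
attribute [local instance] HasDerivedCategory.standard

noncomputable section

namespace Groth.Agent.AVEmbed

open Groth.Agent Finset

section Comb

/-- The alternating sum of shifted powers. -/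
def altSum (N m : ℕ) (a : ℤ) : ℤ := ∑ j ∈ range (N + 1), (-1 : ℤ) ^ j * N.choose j * (a + j) ^ m

theorem altSum_eq (N m : ℕ) (a : ℤ) :
    altSum N m a = (-1) ^ N * ((fwdDiff (1 : ℤ))^[N] (fun r : ℤ => r ^ m) a) := by
  rw [fwdDiff_iter_eq_sum_shift, Finset.mul_sum]
  refine sum_congr rfl fun j hj => ?_
  have hj' : j ≤ N := Nat.lt_succ_iff.1 (mem_range.1 hj)
  have h : (-1 : ℤ) ^ N * (-1) ^ (N - j) = (-1) ^ j := by
    rw [← pow_add, show N + (N - j) = j + 2 * (N - j) by omega, pow_add, pow_mul]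
    simp
  simp only [smul_eq_mul, nsmul_eq_mul]
  rw [← h]
  ring

theorem altSum_eq_zero {N m : ℕ} (h : m < N) (a : ℤ) : altSum N m a = 0 := by
  rw [altSum_eq, fwdDiff_iter_pow_eq_zero_of_lt h]
  simp

theorem altSum_self_ne_zero (N : ℕ) (a : ℤ) : altSum N N a ≠ 0 := by
  rw [altSum_eq, fwdDiff_iter_eq_factorial]
  simp [Nat.factorial_ne_zero]

/-- A polynomial identity in `t` with a factor `(1 + t) ^ G` kills alternating power sums of order below `G`. -/
theorem alt_sum_conv (r G m : ℕ) (hm : m < G) (q : ℕ → ℤ) :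
    ∑ k ∈ range (r + G + 1), (-1 : ℤ) ^ k * (k : ℤ) ^ m *
      (∑ i ∈ (range (r + 1)).filter (· ≤ k), q i * (G.choose (k - i) : ℤ)) = 0 := by
  simp only [Finset.mul_sum, Finset.sum_filter, mul_ite, mul_zero]
  rw [Finset.sum_comm]
  refine sum_eq_zero fun i hi => ?_
  have hi' : i ≤ r := Nat.lt_succ_iff.1 (mem_range.1 hi)
  have : ∑ k ∈ range (r + G + 1), (if i ≤ k then (-1 : ℤ) ^ k * (k : ℤ) ^ m * (q i * (G.choose (k - i) : ℤ)) else 0) =
      (-1) ^ i * q i * altSum G m i := by
    rw [← Finset.sum_filter, altSum, Finset.mul_sum]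
    refine (Finset.sum_bij_ne_zero (fun j _ _ => i + j) (fun j hj _ => ?_) (fun j _ _ j' _ _ h => by simpa using h)
      (fun k hk hk0 => ?_) fun j _ _ => ?_).symm
    · have := mem_range.1 hj
      exact mem_filter.2 ⟨mem_range.2 (by omega), Nat.le_add_right _ _⟩
    · obtain ⟨hk1, hk2⟩ := mem_filter.1 hk
      have hc : k - i ≤ G := by
        by_contra hc
        exact hk0 (by rw [Nat.choose_eq_zero_of_lt (by omega)]; simp)
      refine ⟨k - i, mem_range.2 (by omega), ?_, by omega⟩
      intro h0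
      apply hk0
      rw [show (-1 : ℤ) ^ k = (-1) ^ i * (-1) ^ (k - i) by rw [← pow_add]; congr 1; omega,
        show (k : ℤ) = (i : ℤ) + ((k - i : ℕ) : ℤ) by omega, ← h0]
      ring
    · rw [Nat.add_sub_cancel_left, pow_add]
      push_cast
      ring
  rw [this, altSum_eq_zero hm, mul_zero]

end Comb

section Lam

variable {K : Type*} [CommRing K] [LambdaRing.LambdaOps K] (P : LambdaRing.PosStructure K)

include P in
theorem lam_natCast (a j : ℕ) : LambdaRing.LambdaOps.lam j (a : K) = (a.choose j : K) := by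
  induction a generalizing j with
  | zero =>
    have h1 : (1 : K) = ((1 : ℕ) : K) := Nat.cast_one.symm
    induction j using Nat.strong_induction_on with
    | _ j ih =>
      rcases j with _ | j
      · rw [LambdaRing.LambdaOps.lam_zero]; simp
      · have h := LambdaRing.LambdaOps.lam_add (j + 1) ((0 : ℕ) : K) ((0 : ℕ) : K)
        rw [show ((0 : ℕ) : K) + ((0 : ℕ) : K) = ((0 : ℕ) : K) by simp] at h
        rw [Finset.sum_range_succ, Finset.sum_range_succ'] at h
        have hz : ∑ i ∈ range j, LambdaRing.LambdaOps.lam (i + 1) ((0 : ℕ) : K) *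
            LambdaRing.LambdaOps.lam (j + 1 - (i + 1)) ((0 : ℕ) : K) = 0 :=
          sum_eq_zero fun i hi => by
            rw [ih (i + 1) (by have := mem_range.1 hi; omega)]
            simp
        rw [hz, Nat.sub_self, Nat.sub_zero, LambdaRing.LambdaOps.lam_zero, zero_add, _root_.one_mul, _root_.mul_one, left_eq_add] at h
        rw [Nat.choose_zero_succ, Nat.cast_zero]
        simpa using h
  | succ a ih =>
    have h1 : ∀ i, 1 < i → LambdaRing.LambdaOps.lam i (1 : K) = 0 := fun i hi =>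
      P.lam_eq_zero 1 (by simpa using P.natCast_mem 1 Nat.one_pos) i (by rw [_root_.map_one]; exact_mod_cast hi)
    rw [Nat.cast_succ, add_comm, LambdaRing.LambdaOps.lam_add]
    rcases j with _ | j
    · simp [LambdaRing.LambdaOps.lam_zero]
    · rw [sum_range_succ', sum_range_succ', sum_eq_zero fun i _ => by rw [h1 _ (by omega), zero_mul]]
      simp only [LambdaRing.LambdaOps.lam_zero, LambdaRing.LambdaOps.lam_one, zero_add, _root_.one_mul, Nat.sub_zero, ih]
      rw [Nat.choose_succ_succ, Nat.cast_add, Nat.succ_sub_one, add_comm]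

include P in
theorem lam_nsmul_line (y : K) (hy : P.IsLine y) (a j : ℕ) :
    LambdaRing.LambdaOps.lam j ((a : K) * y) = (a.choose j : K) * y ^ j := by
  induction a generalizing j with
  | zero =>
    rw [Nat.cast_zero, zero_mul, ← Nat.cast_zero, lam_natCast P]
    rcases j with _ | j <;> simp
  | succ a ih =>
    have h1 : ∀ i, 1 < i → LambdaRing.LambdaOps.lam i y = 0 := fun i hi =>
      P.lam_eq_zero y hy.1 i (by rw [hy.2]; exact_mod_cast hi)
    rw [Nat.cast_succ, add_mul, _root_.one_mul, add_comm, LambdaRing.LambdaOps.lam_add]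
    rcases j with _ | j
    · simp [LambdaRing.LambdaOps.lam_zero]
    · rw [sum_range_succ', sum_range_succ', sum_eq_zero fun i _ => by rw [h1 _ (by omega), zero_mul]]
      simp only [LambdaRing.LambdaOps.lam_zero, LambdaRing.LambdaOps.lam_one, zero_add, _root_.one_mul, Nat.sub_zero, ih]
      rw [Nat.choose_succ_succ, Nat.cast_add, Nat.succ_sub_one, add_comm]
      ring

end Lam

theorem kcl_iso {X : Scheme.{u}} {A B : X.Modules} (e : A ≅ B) (hA : FlatMod.IsFinLocFree A) :
    KRR.cl X A = KRR.cl X B := H28.KvbLam.cl_iso e hA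

theorem kcl_isZero {X : Scheme.{u}} {A : X.Modules} (h : IsZero A) : KRR.cl X A = 0 := KZ.clSub_isZero _ h

theorem kcl_free {X : Scheme.{u}} (n : ℕ) : KRR.cl X (FlatMod.freeMod X n) = n • KRR.cl X (Coh.structureModule X) :=
  H28.KvbAmple.cl_free n

section Geom

variable {k : Type u} [Field k] {X : Over (Spec (CommRingCat.of k))} [GrpObj X] [IsProper X.hom]
  [GeometricallyIntegral X.hom]

/-- The Euler characteristic of the powers of the inverse of an ample module. -/
theorem euler_inverse_ne_zero {g : ℕ} (hg : topologicalKrullDim ↥X.left = g) {L M : X.left.Modules}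
    (hL : CohB1.IsAmple L) (hLi : PicF.IsInvertible L) (hMi : PicF.IsInvertible M)
    (e : Nonempty (CohB1.tensorMod L M ≅ Coh.structureModule X.left)) :
    @Curv2.euler k _ X.left ⟨X.hom⟩ M ≠ 0 := by
  intro h0
  letI : X.left.Over (Spec (CommRingCat.of k)) := ⟨X.hom⟩
  haveI : IsProper (X.left ↘ Spec (CommRingCat.of k)) := inferInstanceAs (IsProper X.hom)
  haveI := CurveCohLib.isNoetherian_of_proper (k := k) (X := X.left)
  open scoped Groth.Agent.H23.PicMul in
  have h := S7858.result k X g hg L M hLi e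
  have hz : @FGA.intNum k _ X.left ⟨X.hom⟩ g g (fun _ : Fin g => M) (Coh.structureModule X.left) = 0 := by
    refine Finset.sum_eq_zero fun I _ => ?_
    have hc : PicF.cl (CohB1.tensorMod (FGA.tensorList ((I.sort (· ≤ ·)).map fun _ : Fin g => M))
        (Coh.structureModule X.left)) = PicF.cl M ^ I.card := by
      rw [H23.PicMul.cl_tensor, IntAlt.cl_tensorList, ← H23.PicMul.one_def, _root_.mul_one]
      simp
    have hE : Coh.IsQCoh (CohB1.tensorMod (FGA.tensorList ((I.sort (· ≤ ·)).map fun _ : Fin g => M))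
        (Coh.structureModule X.left)) := by
      obtain ⟨i⟩ := H23.PicMul.cl_eq_iff.1 (hc.trans (H23.PicMul.cl_tensorPow M I.card).symm)
      haveI := (CurveDeg.isCoh_of_isInvertible (H23.PicMul.isInvertible_tensorPow hMi I.card)).1
      exact (QCoh.isQCoh_iff_iso i).2 this
    rw [Pic13Lib.eulerCharLE_eq hg.le hE, ← SurfPairing.χ_cl, hc]
    have := AVEulerHomog.euler_pow g hg hMi I.card
    rw [show AVEulerHomog.χ (PicF.cl M) = 0 from h0, mul_zero] at this
    exact mul_eq_zero_of_right _ this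
  rw [hz] at h
  exact AVKLDim.euler_ne_zero_of_isAmple hL
    ((mul_eq_zero.1 h).resolve_left (by exact_mod_cast Nat.factorial_ne_zero g))

open H28.KvbLam in
/-- For an abelian variety in projective space: the alternating sums of the conormal bundle. -/
theorem exists_conv {g : ℕ} (hg : topologicalKrullDim ↥X.left = g) {n : ℕ}
    (f : X.left ⟶ CohB1.ProjSpace n k) [IsClosedImmersion f] (hf : f ≫ CohB1.ProjSpace.toSpec n k = X.hom) :
    ∃ (c : ℤ) (r : ℕ) (q : ℕ → ℤ), c ≠ 0 ∧ r + g = n ∧
      ∀ j : ℕ, ((n + 1).choose j : ℤ) * ((j : ℤ) ^ g * c) =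
        ∑ i ∈ (range (r + 1)).filter (· ≤ j), q i * ((g + 1).choose (j - i) : ℤ) := by
  letI : X.left.Over (Spec (CommRingCat.of k)) := ⟨X.hom⟩
  haveI : IsProper (X.left ↘ Spec (CommRingCat.of k)) := inferInstanceAs (IsProper X.hom)
  haveI : IsIntegral X.left := GeometricallyIntegral.isIntegral_of_subsingleton X.hom
  haveI : AlgebraicGeometry.IsNoetherian X.left := CurveCohLib.isNoetherian_of_proper (k := k) (X := X.left)
  haveI : Smooth X.hom := S7795.result X
  haveI : SmoothOfRelativeDimension g X.hom := CurveFin.smoothOfRelativeDimension_of_dim X.hom hg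
  let Pn := CohB1.ProjSpace n k
  let π : Pn ⟶ Spec (CommRingCat.of k) := CohB1.ProjSpace.toSpec n k
  haveI : Smooth π := LefPenLib.smooth_toSpec n k
  haveI : IsProper π := PnCoh.Chow.isProper_toSpec n k
  haveI : IsIntegral Pn := H23.PnChart.isIntegral_projSpace n k
  letI : Pn.Over (Spec (CommRingCat.of k)) := ⟨π⟩
  haveI : IsProper (Pn ↘ Spec (CommRingCat.of k)) := inferInstanceAs (IsProper π)
  haveI : AlgebraicGeometry.IsNoetherian Pn := CurveCohLib.isNoetherian_of_proper (k := k) (X := Pn)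
  obtain ⟨KX, _, _, PX, φX, hKX⟩ := S3796.result X.left
  obtain ⟨KP, _, _, PP, φP, hKP⟩ := S3796.result Pn
  obtain ⟨G, hG, -⟩ := H28.PullVB.existsUnique_isPull f φX φP hKP.bijective
  obtain ⟨q₀, hq⟩ := H28.PBField.exists_isProjBundle n k
  obtain ⟨ΩP, dP, hdP⟩ := Synt29.OmegaExists.exists_isUniversal π
  have hSpec : CohB1.IsAmple (Coh.structureModule (Spec (CommRingCat.of k))) :=
    S4373.result _ _ CurveDeg.isInvertible_structureModule
  obtain ⟨eΩ⟩ := S8671.result (Coh.structureModule (Spec (CommRingCat.of k))) hSpec n π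
    (Twist.twistProjSpace n k 1) q₀ hq ΩP dP hdP
  let O1 := Twist.twistProjSpace n k 1
  have hO1 : PicF.IsInvertible O1 := fun x =>
    let ⟨U, hx, ⟨i⟩⟩ := hq.1 x
    ⟨U, hx, ⟨i ≪≫ coproductUniqueIso fun _ : Fin 1 => Coh.structureModule (U : Scheme.{u})⟩⟩
  have hlO1 : FlatMod.IsFinLocFree O1 := H23.PullPush.isFinLocFree_of_isInvertible hO1
  have hlΩ : FlatMod.IsFinLocFree ΩP := S5018.result π ((S1488.result π).1 inferInstance).2 ΩP dP hdP
  let F := (Scheme.Modules.pullback π).obj (FlatMod.freeMod (Spec (CommRingCat.of k)) (n + 1))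
  have hlF : FlatMod.IsFinLocFree F := H28.KvbPull.lf_pull π (H28.KvbAmple.lf_free _)
  haveI : Epi q₀ := hq.2
  have hlker : FlatMod.IsFinLocFree (kernel q₀) := KFlatLib.isFinLocFree_kernel q₀ hlF hlO1
  have hS : (ShortComplex.mk (kernel.ι q₀) q₀ (kernel.condition q₀)).ShortExact :=
    ShortComplex.ShortExact.mk' (ShortComplex.exact_of_f_is_kernel _ (kernelIsKernel q₀)) inferInstance inferInstance
  have hclF : φP (KRR.cl Pn F) = ((n + 1 : ℕ) : KP) := by
    obtain ⟨gπ, hgπ⟩ := H28.PullVB.exists_pullHom π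
    have hfree : KRR.cl (Spec (CommRingCat.of k)) (FlatMod.freeMod (Spec (CommRingCat.of k)) (n + 1)) =
        (n + 1) • KRR.cl _ (Coh.structureModule _) := H28.KvbAmple.cl_free (n + 1)
    have hu : KRR.cl Pn ((Scheme.Modules.pullback π).obj (Coh.structureModule _)) = KRR.cl Pn (Coh.structureModule Pn) :=
      cl_iso (H28.KvbPull.unitIso π) (H28.KvbPull.lf_pull π lf_O)
    rw [← hgπ _ (H28.KvbAmple.lf_free _), hfree, map_nsmul, hgπ _ lf_O, map_nsmul, hu, hKP.map_one, nsmul_one]
  have hP1 : φP (KRR.cl Pn ΩP) * φP (KRR.cl Pn O1) + φP (KRR.cl Pn O1) = ((n + 1 : ℕ) : KP) := by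
    rw [hKP.map_mul _ _ hlΩ hlO1, kcl_iso eΩ (lf_tens hlΩ hlO1), ← hclF, ← map_add]
    exact congrArg φP (KZ.clSub_ses (KRR.vbP Pn) hS hlker hlF hlO1).symm
  let L := (Scheme.Modules.pullback f).obj O1
  have hL : PicF.IsInvertible L := PicClLib.isInvertible_pullback _ hO1
  have hLamp : CohB1.IsAmple L := AmpleVan.FiniteSurj.isAmple_pullback_of_isAffineHom f Pic13Lib.NumTriv.isAmple_twistProjSpace_one
  obtain ⟨M, hM, ⟨eM⟩⟩ := H23.PicInv.exists_inverse hL
  let Ωf := (Scheme.Modules.pullback f).obj ΩP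
  let x : KX := φX (KRR.cl X.left L)
  let y : KX := φX (KRR.cl X.left M)
  let a : KX := φX (KRR.cl X.left Ωf)
  have hlL := H23.PullPush.isFinLocFree_of_isInvertible hL
  have hlM := H23.PullPush.isFinLocFree_of_isInvertible hM
  have hxy : x * y = 1 := by
    rw [hKX.map_mul _ _ hlL hlM, ← hKX.map_one]
    exact congrArg φX (kcl_iso eM (lf_tens hlL hlM))
  have hX1 : a * x + x = ((n + 1 : ℕ) : KX) := by
    have h := congrArg G hP1
    rw [map_add, H28.KvbPull.map_mul hKX hKP hG, hG _ hlΩ, hG _ hlO1] at h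
    rw [show a * x + x = G ((n + 1 : ℕ) : KP) from h]
    exact _root_.map_natCast (H28.KvbPull.ringHom hKX hKP hG) (n + 1)
  have ha : a = ((n + 1 : ℕ) : KX) * y - 1 := by
    rw [← hX1]
    linear_combination (-(a + 1)) * hxy
  haveI : QuasiSeparated X.hom := inferInstance
  let ΩX := Omega.sheaf X.hom
  have hdX : OmegaSh.IsUniversal (OmegaSh.dOmega X.hom) := OmegaUniv.isUniversal_dOmega X.hom
  obtain ⟨eX⟩ := AVHodge.nonempty_omega_free (A := X) g
  obtain ⟨-, hNlf, hIlf, -, hvirt⟩ := S8668.result X.hom (CurvLocusLib.isKoszulAt_of_smooth X.hom) π f hf X.hom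
    (𝟙 X.left) (Category.id_comp _) ΩP dP hdP ΩX (OmegaSh.dOmega X.hom) hdX
  let N := Omega.conormal f
  let ν : KX := φX (KRR.cl X.left N)
  have hν : ν = ((n + 1 : ℕ) : KX) * y - ((g + 1 : ℕ) : KX) := by
    rw [show KRR.cl X.left (Omega.conormal (𝟙 X.left)) = 0 from KZ.clSub_isZero _ (S9750.isZero_conormal_of_isIso (𝟙 X.left)),
      sub_zero] at hvirt
    have h := congrArg φX hvirt
    rw [map_sub, kcl_iso (B := FlatMod.freeMod X.left g) ((Scheme.Modules.pullback (𝟙 X.left)).mapIso eX ≪≫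
      (Scheme.Modules.pullbackId X.left).app _) hIlf, kcl_free, map_nsmul, hKX.map_one, nsmul_one] at h
    have h' : ν = a - (g : KX) := by linear_combination -h
    rw [h', ha]
    push_cast
    ring
  obtain ⟨r, hNr⟩ := H28.KvbModel.exists_rank hNlf
  have hr : r + g = n := by
    have h := congrArg PX.aug hν
    have hy : PX.aug y = 1 := by exact_mod_cast hKX.aug_cl 1 M (InvEnd.isFinLocFreeOfRank_one hM)
    rw [hKX.aug_cl r N hNr, map_sub, _root_.map_mul, hy, _root_.map_natCast, _root_.map_natCast] at h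
    omega
  have hyl : PX.IsLine y :=
    ⟨(hKX.mem_pos_iff y).2 ⟨1, M, le_rfl, InvEnd.isFinLocFreeOfRank_one hM, rfl⟩,
      by exact_mod_cast hKX.aug_cl 1 M (InvEnd.isFinLocFreeOfRank_one hM)⟩
  have hvan : ∀ i, r < i → LambdaRing.LambdaOps.lam i ν = 0 := fun i hi => by
    rcases Nat.eq_zero_or_pos r with hr0 | hr0
    · subst hr0
      have hgn : g = n := by omega
      rw [hKX.map_lam i N _ hNlf (H28.ExtSh.isFinLocFree_L i hNlf) (H28.ExtSh.isExtPow_L i hNlf),
        kcl_isZero (H28.KvbModel.isZero_L hNr hi), map_zero]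
    · refine PX.lam_eq_zero ν ((hKX.mem_pos_iff ν).2 ⟨r, N, hr0, hNr, rfl⟩) i ?_
      rw [hKX.aug_cl r N hNr]
      exact_mod_cast hi
  obtain ⟨χ₀, hχ₀⟩ := H28.HRR.exists_chi k X.left (KRR.vbP X.left) fun E hE => H28.PushLocFree.isCoh_of_isFinLocFree hE
  let χ : KX →+ ℤ := χ₀.comp (AddEquiv.ofBijective φX hKX.bijective).symm.toAddMonoidHom
  have hχ : ∀ E, FlatMod.IsFinLocFree E → χ (φX (KRR.cl X.left E)) = Curv2.euler k X.left E := fun E hE => by
    show χ₀ ((AddEquiv.ofBijective φX hKX.bijective).symm (AddEquiv.ofBijective φX hKX.bijective (KRR.cl X.left E))) = _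
    rw [AddEquiv.symm_apply_apply]
    exact hχ₀ E hE
  have hpow : ∀ m : ℕ, χ (y ^ m) = (m : ℤ) ^ g * Curv2.euler k X.left M := fun m => by
    have hm : ∀ m : ℕ, y ^ m = φX (KRR.cl X.left (CohB1.tensorPow M m)) := fun m => by
      induction m with
      | zero => rw [pow_zero, ← hKX.map_one]; rfl
      | succ m ih =>
        rw [pow_succ, ih, hKX.map_mul _ _ (H23.PullPush.isFinLocFree_of_isInvertible (H23.PicMul.isInvertible_tensorPow hM m)) hlM]
        rfl
    rw [hm, hχ _ (H23.PullPush.isFinLocFree_of_isInvertible (H23.PicMul.isInvertible_tensorPow hM m))]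
    have h := AVEulerHomog.euler_pow g hg hM m
    rw [← H23.PicMul.cl_tensorPow] at h
    exact h
  refine ⟨Curv2.euler k X.left M, r, fun i => χ (LambdaRing.LambdaOps.lam i ν),
    euler_inverse_ne_zero hg hLamp hL hM ⟨eM⟩, hr, fun j => ?_⟩
  have h := congrArg (LambdaRing.LambdaOps.lam j) (show ((n + 1 : ℕ) : KX) * y = ν + ((g + 1 : ℕ) : KX) by rw [hν]; ring)
  rw [lam_nsmul_line PX y hyl, LambdaRing.LambdaOps.lam_add] at h
  have h' := congrArg χ h
  rw [← nsmul_eq_mul, map_nsmul, hpow, map_sum, nsmul_eq_mul] at h'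
  rw [h']
  have hterm : ∀ i ∈ range (j + 1), χ (LambdaRing.LambdaOps.lam i ν * LambdaRing.LambdaOps.lam (j - i) ((g + 1 : ℕ) : KX)) =
      χ (LambdaRing.LambdaOps.lam i ν) * ((g + 1).choose (j - i) : ℤ) := fun i _ => by
    rw [lam_natCast PX, mul_comm, ← nsmul_eq_mul, map_nsmul, nsmul_eq_mul, mul_comm]
  rw [sum_congr rfl hterm]
  refine (sum_subset (fun i hi => ?_) (fun i hi hi' => ?_)).symm
  · obtain ⟨-, hi2⟩ := mem_filter.1 hi
    exact mem_range.2 (Nat.lt_succ_of_le hi2)
  · have hri : r < i := by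
      by_contra hc
      exact hi' (mem_filter.2 ⟨mem_range.2 (by omega), Nat.lt_succ_iff.1 (mem_range.1 hi)⟩)
    rw [hvan i hri, map_zero, zero_mul]

/-- An abelian variety of dimension `g` does not embed in projective space of dimension below `2g`. -/
theorem two_mul_dim_le {g : ℕ} (hg : topologicalKrullDim ↥X.left = g) {n : ℕ}
    (f : X.left ⟶ CohB1.ProjSpace n k) [IsClosedImmersion f] (hf : f ≫ CohB1.ProjSpace.toSpec n k = X.hom) :
    2 * g ≤ n := by
  obtain ⟨c, r, q, hc, hr, hq⟩ := exists_conv hg f hf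
  by_contra hn
  obtain ⟨m, hm⟩ : ∃ m, m + g = n + 1 := ⟨n + 1 - g, by omega⟩
  have h := alt_sum_conv r (g + 1) m (by omega) q
  simp only [← hq] at h
  rw [show r + (g + 1) + 1 = n + 1 + 1 by omega] at h
  refine altSum_self_ne_zero (n + 1) 0 ((mul_eq_zero.1 (?_ : c * altSum (n + 1) (n + 1) 0 = 0)).resolve_left hc)
  refine Eq.trans ?_ h
  rw [altSum, Finset.mul_sum]
  refine sum_congr rfl fun j _ => ?_
  rw [zero_add, ← hm, pow_add]
  ring

end Geom

end Groth.Agent.AVEmbed
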