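import Groth.Agent.Lib.AVDualExist
import Groth.Agent.Lib.AVPicZero

/-!
The universal property of a separating class for reduced families: a rigidified family all of whose members
are slices of the separating class comes from a unique morphism.
-/

set_option autoImplicit false
set_option linter.style.haveILetI false
set_option linter.unusedSectionVars false
set_option backward.isDefEq.respectTransparency false
set_option backward.isDefEq.respectTransparency.types false
set_option maxHeartbeats 800000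

universe u

open CategoryTheory CategoryTheory.Limits MonoidalCategory CartesianMonoidalCategory MonObj AlgebraicGeometry TopologicalSpace

noncomputable section

namespace Groth.Agent.AVSepClassify

open Groth.Agent Groth.Agent.H23 Groth.Agent.AVPair Groth.Agent.AVDual
open scoped Groth.Agent.H23.PicMul

variable {k : Type u} [Field k]

local notation3 "pt₀" => 𝟙_ (Over (Spec (CommRingCat.of k)))

variable {A : Over (Spec (CommRingCat.of k))} [GrpObj A] [IsProper A.hom] [GeometricallyIntegral A.hom]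

theorem isPullback_whisker {B T : Over (Spec (CommRingCat.of k))} (z : T ⟶ B) :
    IsPullback (A ◁ z).left (snd A T).left (snd A B).left z.left := by
  refine IsPullback.of_right ?_ (by rw [← Over.comp_left, whiskerLeft_snd]; rfl)
    (IsPullback.of_hasPullback A.hom B.hom)
  show IsPullback ((A ◁ z).left ≫ (fst A B).left) _ A.hom _
  rw [← Over.comp_left, whiskerLeft_fst, Over.w z]
  exact IsPullback.of_hasPullback A.hom T.hom

/-- The locus where a rigidified class is trivial is a closed subscheme. -/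
theorem exists_closed_locus {B : Over (Spec (CommRingCat.of k))} [LocallyOfFiniteType B.hom]
    {e : PicF.Cl (A ⊗ B).left} (he : PicF.IsInvertibleCl e) (he0 : pl (lift (1 : B ⟶ A) (𝟙 B)) e = 1) :
    ∃ (K : Over (Spec (CommRingCat.of k))) (i : K ⟶ B), IsClosedImmersion i.left ∧
      ∀ (T : Over (Spec (CommRingCat.of k))) (z : T ⟶ B), pl (A ◁ z) e = 1 ↔ ∃ y : T ⟶ K, y ≫ i = z := by
  obtain ⟨E, rfl, hE⟩ := he
  haveI : IsLocallyNoetherian B.left := LocallyOfFiniteType.isLocallyNoetherian B.hom
  haveI : IsProper (snd A B).left := inferInstanceAs (IsProper (pullback.snd A.hom B.hom))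
  haveI : Flat (snd A B).left := inferInstanceAs (Flat (pullback.snd A.hom B.hom))
  haveI : GeometricallyIntegral (snd A B).left := inferInstanceAs (GeometricallyIntegral (pullback.snd A.hom B.hom))
  haveI : GeometricallyConnected (snd A B).left := CubeAb.geometricallyConnected_of_integral _
  haveI : LocallyOfFinitePresentation A.hom :=
    AlgStLib.locallyOfFinitePresentation_of_isLocallyNoetherian A.hom inferInstance
  haveI : LocallyOfFinitePresentation (snd A B).left :=
    inferInstanceAs (LocallyOfFinitePresentation (pullback.snd A.hom B.hom))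
  obtain ⟨Z, ζ, hζ, -, -, huniv⟩ := SeesawX.exists_seesaw_finLocFree (f := (snd A B).left)
    (AVKLExist.isFinLocFree_of_isInvertible hE)
  let K : Over (Spec (CommRingCat.of k)) := Over.mk (ζ ≫ B.hom)
  have hfac : ∀ (T : Over (Spec (CommRingCat.of k))) (z : T ⟶ B),
      pl (A ◁ z) (PicF.cl E) = 1 ↔ ∃ l : T.left ⟶ Z, l ≫ ζ = z.left := by
    intro T z
    rw [huniv z.left (snd A T).left (A ◁ z).left (isPullback_whisker z)]
    constructor
    · intro h
      refine ⟨Coh.structureModule T.left,
        AVKLExist.isFinLocFree_of_isInvertible (PicLoc.isInvertible_structureModule _),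
        (PicGrp.cl_eq_cl_iff _ _).1 (h.trans ?_)⟩
      exact (PicMul.pullCl_one _).symm
    · rintro ⟨M, -, ⟨e'⟩⟩
      have h1 : pl (A ◁ z) (PicF.cl E) = PicF.pullCl (snd A T).left (PicF.cl M) := (PicGrp.cl_eq_cl_iff _ _).2 ⟨e'⟩
      have h2 := congrArg (pl (lift (1 : T ⟶ A) (𝟙 T))) h1
      rw [pl_pl, lift_whiskerLeft, Category.id_comp,
        show lift (1 : T ⟶ A) z = z ≫ lift (1 : B ⟶ A) (𝟙 B) by rw [comp_lift, MonObj.comp_one, Category.comp_id],
        ← pl_pl, he0, map_one] at h2
      change 1 = pl _ (pl (snd A T) (PicF.cl M)) at h2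
      rw [pl_pl, lift_snd, pl_id] at h2
      rw [h1, ← h2]
      exact PicMul.pullCl_one _
  have hrange : Set.range ζ = {w | SeesawGlobal.FieldTriv (snd A B).left E w} := by
    ext w
    rw [SeesawX.mem_range_iff_factor ζ w]
    refine Iff.trans ?_ (SeesawGlobal.fieldTriv_iff_residueField (f := (snd A B).left) (L := E) w).symm
    let T : Over (Spec (CommRingCat.of k)) := Over.mk (B.left.fromSpecResidueField w ≫ B.hom)
    let z : T ⟶ B := Over.homMk (B.left.fromSpecResidueField w)
    refine (hfac T z).symm.trans ?_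
    have hsq := isPullback_whisker (A := A) z
    let c := hsq.isoPullback
    constructor
    · intro h
      refine SeesawGlobal.triv_of_factor (b := (A ◁ z).left) c.inv (hsq.isoPullback_inv_fst) ?_
      exact (PicGrp.cl_eq_cl_iff _ _).1 h
    · intro h
      exact (PicGrp.cl_eq_cl_iff _ _).2 (SeesawGlobal.triv_of_factor c.hom (hsq.isoPullback_hom_fst) h)
  haveI := hζ
  haveI : IsClosedImmersion ζ := IsClosedImmersion.of_isPreimmersion ζ
    (hrange ▸ SeesawGlobal.isClosed_fieldTriv _ hE)
  refine ⟨K, Over.homMk ζ, inferInstanceAs (IsClosedImmersion ζ), fun T z => (hfac T z).trans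
    ⟨fun ⟨l, hl⟩ => ⟨Over.homMk l (by
      show l ≫ ζ ≫ B.hom = T.hom
      rw [← Category.assoc, hl, Over.w z]), Over.OverMorphism.ext hl⟩,
      fun ⟨y, hy⟩ => ⟨y.left, congrArg (fun m : T ⟶ B => m.left) hy⟩⟩⟩

variable {Q : Over (Spec (CommRingCat.of k))} [GrpObj Q] [IsProper Q.hom] [GeometricallyIntegral Q.hom]
  {P : (A ⊗ Q).left.Modules} (hP : PicF.IsInvertible P) (hs : AVPoincare.Sep (PicF.cl P : PicF.Cl (A ⊗ Q).left))

include hP hs

/-- Points with equal slices of a separating class are equal. -/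
theorem eq_of_slice {T : Over (Spec (CommRingCat.of k))} {s s' : T ⟶ Q}
    (h : pl (A ◁ s) (PicF.cl P) = pl (A ◁ s') (PicF.cl P)) : s = s' := by
  haveI : IsIntegral Q.left := GeometricallyIntegral.isIntegral_of_subsingleton Q.hom
  refine mul_inv_eq_one.1 (hs.sep _ ?_)
  have e : ∀ t : T ⟶ Q, A ◁ t = lift (fst A T) (snd A T ≫ t) := fun t => by
    apply CartesianMonoidalCategory.hom_ext <;> simp
  have hu : PicF.IsInvertibleCl (pl (A ◁ s') (PicF.cl P)) := isInv_pl _ ⟨P, rfl, hP⟩
  have h1 : pl (A ◁ s) (PicF.cl P) = pl (A ◁ (s * s'⁻¹)) (PicF.cl P) * pl (A ◁ s') (PicF.cl P) := by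
    rw [e, e, e, ← add_right ⟨P, rfl, hP⟩ hs.left hs.right, ← MonObj.comp_mul, inv_mul_cancel_right]
  rw [h] at h1
  exact ((PicMul.isUnit_of_isInvertibleCl hu).mul_eq_right.1 h1.symm)

/-- **The universal property of a separating class on reduced families.** -/
theorem exists_classify [IsAlgClosed k] {T : Over (Spec (CommRingCat.of k))} [LocallyOfFiniteType T.hom]
    [IsReduced T.left] {c : PicF.Cl (A ⊗ T).left} (hc : PicF.IsInvertibleCl c)
    (hc0 : pl (lift (1 : T ⟶ A) (𝟙 T)) c = 1)
    (hpts : ∀ t : pt₀ ⟶ T, ∃ w : pt₀ ⟶ Q, pl (A ◁ t) c = pl (A ◁ w) (PicF.cl P)) :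
    ∃ f : T ⟶ Q, pl (A ◁ f) (PicF.cl P) = c := by
  obtain ⟨D, hD, hPD⟩ := exists_inv (isInv_pl (A ◁ snd T Q) (c := PicF.cl P) ⟨P, rfl, hP⟩)
  haveI : LocallyOfFiniteType (T ⊗ Q).hom :=
    inferInstanceAs (LocallyOfFiniteType (pullback.fst T.hom Q.hom ≫ T.hom))
  have hD1 : pl (lift (1 : T ⊗ Q ⟶ A) (𝟙 (T ⊗ Q))) D = 1 := by
    have h := congrArg (pl (lift (1 : T ⊗ Q ⟶ A) (𝟙 (T ⊗ Q)))) hPD
    rw [map_mul, map_one, pl_pl, lift_whiskerLeft, Category.id_comp,
      show lift (1 : T ⊗ Q ⟶ A) (snd T Q) = snd T Q ≫ lift (1 : Q ⟶ A) (𝟙 Q) by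
        rw [comp_lift, MonObj.comp_one, Category.comp_id], ← pl_pl, hs.left, map_one, _root_.one_mul] at h
    exact h
  obtain ⟨K, i, hi, hu⟩ := exists_closed_locus (B := T ⊗ Q) (e := pl (A ◁ fst T Q) c * D)
    (PicMul.isInvertibleCl_mul (isInv_pl _ hc) hD)
    (by rw [map_mul, hD1, _root_.mul_one, pl_pl, lift_whiskerLeft, Category.id_comp,
      show lift (1 : T ⊗ Q ⟶ A) (fst T Q) = fst T Q ≫ lift (1 : T ⟶ A) (𝟙 T) by
        rw [comp_lift, MonObj.comp_one, Category.comp_id], ← pl_pl, hc0, map_one])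
  have hiff : ∀ (S : Over (Spec (CommRingCat.of k))) (a : S ⟶ T) (w : S ⟶ Q),
      pl (A ◁ a) c = pl (A ◁ w) (PicF.cl P) ↔ ∃ y : S ⟶ K, y ≫ i = lift a w := by
    intro S a w
    rw [← hu S (lift a w), map_mul, pl_pl, ← MonoidalCategory.whiskerLeft_comp, lift_fst]
    have h := congrArg (pl (A ◁ lift a w)) hPD
    rw [map_mul, map_one, pl_pl, ← MonoidalCategory.whiskerLeft_comp, lift_snd] at h
    exact ⟨fun e => by rw [e, h], fun e => eq_of_mul_inv h e⟩
  haveI := hi
  let π : K ⟶ T := i ≫ fst T Q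
  have hcond : pl (A ◁ π) c = pl (A ◁ (i ≫ snd T Q)) (PicF.cl P) :=
    (hiff K π (i ≫ snd T Q)).2 ⟨𝟙 K, by
      apply CartesianMonoidalCategory.hom_ext <;> simp [π]⟩
  haveI : IsProper (fst T Q).left := inferInstanceAs (IsProper (pullback.fst T.hom Q.hom))
  haveI hπp : IsProper π.left := by
    show IsProper (i.left ≫ (fst T Q).left)
    infer_instance
  haveI hπm : Mono π := by
    haveI : Mono i := Over.mono_of_mono_left i
    refine ⟨fun {S} a b hab => ?_⟩
    rw [← cancel_mono i]
    refine CartesianMonoidalCategory.hom_ext _ _ (by simpa [π] using hab) (eq_of_slice hP hs ?_)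
    have ha := congrArg (pl (A ◁ a)) hcond
    have hb := congrArg (pl (A ◁ b)) hcond
    rw [pl_pl, pl_pl, ← MonoidalCategory.whiskerLeft_comp, ← MonoidalCategory.whiskerLeft_comp] at ha hb
    rw [Category.assoc, Category.assoc, ← ha, ← hb, hab]
  haveI : Mono π.left := Over.mono_left_of_mono π
  haveI : IsClosedImmersion π.left := by
    exact (IsClosedImmersion.iff_isProper_and_mono π.left).2 ⟨inferInstance, inferInstance⟩
  haveI : Surjective π.left := by
    refine ⟨fun t => ?_⟩
    haveI : JacobsonSpace T.left := LocallyOfFiniteType.jacobsonSpace T.hom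
    have hsub : closedPoints T.left ⊆ Set.range π.left := by
      intro y hy
      let a : pt₀ ⟶ T := Over.homMk (pointOfClosedPoint T.hom y (mem_closedPoints_iff.1 hy))
        (pointOfClosedPoint_comp T.hom y _)
      have ha : a.left (IsLocalRing.closedPoint k) = y :=
        pointOfClosedPoint_apply T.hom y (mem_closedPoints_iff.1 hy) _
      obtain ⟨w, hw⟩ := hpts a
      obtain ⟨l, hl⟩ := (hiff pt₀ a w).1 hw
      refine ⟨l.left (IsLocalRing.closedPoint k), ?_⟩
      have h2 : l ≫ π = a := by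
        show l ≫ i ≫ fst T Q = a
        rw [reassoc_of% hl, lift_fst]
      rw [← ha, ← h2]
      rfl
    have h := closure_minimal hsub π.left.isClosedEmbedding.isClosed_range
    rw [closure_closedPoints] at h
    exact h trivial
  haveI : IsIso π.left := isIso_of_isClosedImmersion_of_surjective π.left
  haveI : IsIso ((Over.forget (Spec (CommRingCat.of k))).map π) := inferInstanceAs (IsIso π.left)
  haveI : IsIso π := isIso_of_reflects_iso π (Over.forget _)
  refine ⟨inv π ≫ i ≫ snd T Q, ?_⟩
  have h := congrArg (pl (A ◁ inv π)) hcond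
  rw [pl_pl, pl_pl, ← MonoidalCategory.whiskerLeft_comp, ← MonoidalCategory.whiskerLeft_comp,
    IsIso.inv_hom_id, MonoidalCategory.whiskerLeft_id, pl_id] at h
  exact h.symm

end Groth.Agent.AVSepClassify
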