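import Groth.Agent.Lib.AVSqZero
import Groth.Agent.PicTangent.Main
import Groth.Agent.Lib.AVSepClassify
import Groth.Agent.S7822

/-!
The first order neighbourhood of the origin of the target of a separating class is the universal deformation of
the trivial class.
-/

set_option autoImplicit false
set_option linter.style.haveILetI false
set_option linter.unusedSectionVars false
set_option maxHeartbeats 1000000
set_option synthInstance.maxHeartbeats 400000
set_option backward.isDefEq.respectTransparency false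
set_option backward.isDefEq.respectTransparency.types false

universe u

open CategoryTheory CategoryTheory.Limits AlgebraicGeometry MonoidalCategory CartesianMonoidalCategory MonObj
  TopologicalSpace TensorProduct Opposite

noncomputable section

namespace Groth.Agent.AVFirstOrder

open Groth.Agent Groth.Agent.H23 Groth.Agent.PicTangent Groth.Agent.AVPair
open scoped Groth.Agent.H23.PicMul

variable {k : Type u} [Field k] {A Q : Over (Spec (CommRingCat.of k))}
  {R R₀ : Type u} [CommRing R] [Algebra k R] [CommRing R₀] [Algebra k R₀]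

section Deriv

variable {O : Type u} [CommRing O] [Algebra k O] (res : O →ₐ[k] k) {V : Type u} [AddCommGroup V] [Module k V]
  [Module kᵐᵒᵖ V] [IsCentralScalar k V] (L : O →ₗ[k] V)

/-- The homomorphism of a derivation at a rational point. -/
def ofDeriv (h1 : L 1 = 0) (h2 : ∀ a b, L (a * b) = res a • L b + res b • L a) : O →ₐ[k] TrivSqZeroExt k V :=
  AlgHom.ofLinearMap
    ((TrivSqZeroExt.inlAlgHom k k V).toLinearMap ∘ₗ res.toLinearMap + (TrivSqZeroExt.inrHom k V) ∘ₗ L)
    (by refine TrivSqZeroExt.ext ?_ ?_ <;> simp [h1])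
    (fun a b => by refine TrivSqZeroExt.ext ?_ ?_ <;> simp [h2])

theorem ofDeriv_fst (h1 : L 1 = 0) (h2 : ∀ a b, L (a * b) = res a • L b + res b • L a) (a : O) :
    (ofDeriv res L h1 h2 a).fst = res a := by simp [ofDeriv]

theorem ofDeriv_snd (h1 : L 1 = 0) (h2 : ∀ a b, L (a * b) = res a • L b + res b • L a) (a : O) :
    (ofDeriv res L h1 h2 a).snd = L a := by simp [ofDeriv]

end Deriv

theorem Q_eq (φ : R →ₐ[k] R₀) : PicTangent.Q A φ = A ◁ Tmap φ :=
  MonoidalCategory.id_tensorHom A (Tmap φ)

variable [GrpObj A] [IsProper A.hom] [GeometricallyIntegral A.hom] [GrpObj Q] [IsProper Q.hom]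
  [GeometricallyIntegral Q.hom] [Smooth Q.hom]

theorem whisker_one (T : Over (Spec (CommRingCat.of k))) {c : PicF.Cl (A ⊗ Q).left}
    (hs : AVPoincare.Sep c) : pl (A ◁ (1 : T ⟶ Q)) c = 1 := by
  rw [show A ◁ (1 : T ⟶ Q) = fst A T ≫ lift (𝟙 A) (1 : A ⟶ Q) by
    apply CartesianMonoidalCategory.hom_ext <;> simp, ← pl_pl, hs.right, map_one]

variable {g : ℕ} (hA : topologicalKrullDim ↥A.left = g) (hQ : topologicalKrullDim ↥Q.left = g)

include hQ in
/-- The first order neighbourhood of the origin. -/
theorem exists_nbhd : ∃ u₀ : T (k := k) (TrivSqZeroExt k (Fin g → k)) ⟶ Q,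
    Tmap (TrivSqZeroExt.fstHom k k (Fin g → k)) ≫ u₀ = 1 ∧
      ∀ ψ : (Fin g → k) →ₗ[k] k, Tmap (chi ψ) ≫ u₀ = (1 : T (k := k) (DualNumber k) ⟶ Q) → ψ = 0 := by
  classical
  let o := η[Q].left (IsLocalRing.closedPoint k)
  letI := stalkAlgebra Q o
  let O := Q.left.presheaf.stalk o
  obtain ⟨res, hres⟩ := exists_ofStalk (P := Q) (1 : T (k := k) k ⟶ Q) o (by
    show η[Q].left ((toUnit (T (k := k) k)).left (IsLocalRing.closedPoint k)) = _
    exact congrArg η[Q].left (@Subsingleton.elim (PrimeSpectrum k) inferInstance _ _))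
  have hres' : ∀ (S : Type u) [CommRing S] [Algebra k S],
      ofStalk o ((Algebra.ofId k S).comp res) = (1 : T (k := k) S ⟶ Q) := fun S _ _ => by
    rw [← ofStalk_comp, hres, MonObj.comp_one]
  have hfin : Module.finrank (IsLocalRing.ResidueField O) (IsLocalRing.CotangentSpace O) = g := by
    have h := (S7822.result k Q).2.1.1 inferInstance
    rw [hQ] at h
    exact_mod_cast h.symm
  have hker : RingHom.ker res.toRingHom = IsLocalRing.maximalIdeal O :=
    IsLocalRing.eq_maximalIdeal (RingHom.ker_isMaximal_of_surjective _ fun c => ⟨algebraMap k O c, res.commutes c⟩)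
  have hκ : Module.finrank k (IsLocalRing.ResidueField O) = 1 := by
    refine (finrank_eq_one_iff_of_nonzero' (1 : IsLocalRing.ResidueField O) one_ne_zero).2 fun w => ?_
    obtain ⟨x, rfl⟩ := IsLocalRing.residue_surjective w
    refine ⟨res x, ?_⟩
    rw [Algebra.smul_def, _root_.mul_one, IsScalarTower.algebraMap_apply k O (IsLocalRing.ResidueField O),
      IsLocalRing.ResidueField.algebraMap_eq, ← sub_eq_zero, ← map_sub, IsLocalRing.residue_eq_zero_iff, ← hker,
      RingHom.mem_ker]
    show res (algebraMap k O (res x) - x) = 0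
    rw [map_sub, res.commutes]
    exact sub_self _
  haveI : IsScalarTower k (IsLocalRing.ResidueField O) (IsLocalRing.CotangentSpace O) :=
    IsScalarTower.of_algebraMap_smul fun c x => by
      rw [IsScalarTower.algebraMap_apply k O (IsLocalRing.ResidueField O), ← algebraMap_smul O c x]
      exact algebraMap_smul (IsLocalRing.ResidueField O) (algebraMap k O c) x
  haveI : IsLocallyNoetherian Q.left := LocallyOfFiniteType.isLocallyNoetherian Q.hom
  haveI : Module.Finite k (IsLocalRing.ResidueField O) := Module.finite_of_finrank_eq_succ hκ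
  haveI : Module.Finite k (IsLocalRing.CotangentSpace O) := Module.Finite.trans (IsLocalRing.ResidueField O) _
  have hdim : Module.finrank k (IsLocalRing.CotangentSpace O) = g := by
    have h5 := Module.finrank_mul_finrank k (IsLocalRing.ResidueField O) (IsLocalRing.CotangentSpace O)
    rwa [hκ, _root_.one_mul, hfin, eq_comm] at h5
  let eC : IsLocalRing.CotangentSpace O ≃ₗ[k] (Fin g → k) :=
    (Module.finBasisOfFinrankEq k (IsLocalRing.CotangentSpace O) hdim).equivFun
  let m := IsLocalRing.maximalIdeal O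
  let d : O →ₗ[k] m.restrictScalars k :=
    LinearMap.codRestrict _ (LinearMap.id - (Algebra.linearMap k O) ∘ₗ res.toLinearMap) fun x => by
      show x - algebraMap k O (res x) ∈ IsLocalRing.maximalIdeal O
      rw [← hker, RingHom.mem_ker]
      simp [map_sub, AlgHom.commutes]
      exact sub_self _
  let τ : m.restrictScalars k →ₗ[k] IsLocalRing.CotangentSpace O := m.toCotangent.restrictScalars k
  let L : O →ₗ[k] (Fin g → k) := eC.toLinearMap ∘ₗ τ ∘ₗ d
  have hL : Function.Surjective L := fun v => by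
    obtain ⟨⟨x, hx⟩, hxv⟩ := m.toCotangent_surjective (eC.symm v)
    refine ⟨x, ?_⟩
    show eC (τ (d x)) = v
    rw [← eC.eq_symm_apply, ← hxv]
    refine congrArg (m.toCotangent) (Subtype.ext ?_)
    show x - algebraMap k O (res x) = x
    change x ∈ IsLocalRing.maximalIdeal O at hx
    rw [← hker, RingHom.mem_ker] at hx
    rw [show res x = 0 from hx, map_zero, sub_zero]
  have hL1 : L 1 = 0 := by
    have : d 1 = 0 := Subtype.ext (by show (1 : O) - algebraMap k O (res 1) = 0; simp)
    simp [L, this]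
  have hL2 : ∀ a b, L (a * b) = res a • L b + res b • L a := fun a b => by
    have h : τ (d (a * b) - res a • d b - res b • d a) = 0 := by
      refine (m.toCotangent_eq_zero _).2 ?_
      rw [sq]
      show a * b - algebraMap k O (res (a * b)) - res a • (b - algebraMap k O (res b)) -
        res b • (a - algebraMap k O (res a)) ∈ m * m
      rw [show a * b - algebraMap k O (res (a * b)) - res a • (b - algebraMap k O (res b)) -
        res b • (a - algebraMap k O (res a)) = (a - algebraMap k O (res a)) * (b - algebraMap k O (res b)) by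
          simp only [map_mul, Algebra.smul_def]; ring]
      exact Ideal.mul_mem_mul (d a).2 (d b).2
    rw [map_sub, map_sub, map_smul, map_smul, sub_sub, sub_eq_zero] at h
    show eC (τ (d (a * b))) = _
    rw [h, map_add, map_smul, map_smul]
    rfl
  let g₀ := ofDeriv res L hL1 hL2
  refine ⟨ofStalk o g₀, ?_, fun ψ hψ => ?_⟩
  · rw [ofStalk_comp, ← hres' k]
    congr 1
    exact AlgHom.ext fun a => (ofDeriv_fst res L hL1 hL2 a).trans rfl
  · rw [ofStalk_comp, ← hres' (DualNumber k)] at hψ
    have h := ofStalk_injective o hψ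
    refine LinearMap.ext fun v => ?_
    obtain ⟨x, rfl⟩ := hL v
    have h' := congr(($h x).snd)
    simp only [AlgHom.comp_apply, (chi_apply ψ _).2, g₀, ofDeriv_snd] at h'
    rw [h']
    simp [Algebra.ofId_apply, TrivSqZeroExt.algebraMap_eq_inl]

variable [IsAlgClosed k] {P : (A ⊗ Q).left.Modules} (hP : PicF.IsInvertible P) (hs : AVPoincare.Sep (PicF.cl P : PicF.Cl (A ⊗ Q).left))

include hA hQ hP hs in
/-- **Classes trivial modulo a square zero ideal come from points of the separating family.** -/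
theorem exists_point (π : R →ₐ[k] R₀) (hπ : Function.Surjective π) (hI : ∀ x y, π x = 0 → π y = 0 → x * y = 0)
    {c : PicF.Cl (A ⊗ T (k := k) R).left} (hc : PicF.IsInvertibleCl c) (h : pl (A ◁ Tmap π) c = 1) :
    ∃ w : T (k := k) R ⟶ Q, pl (A ◁ w) (PicF.cl P) = c := by
  classical
  haveI : Smooth A.hom := S7795.result A
  haveI : GeometricallyConnected A.hom := CubeAb.geometricallyConnected_of_integral A.hom
  haveI : A.left.IsSeparated := PicTangent.isSeparated_left A
  haveI : CompactSpace A.left := QuasiCompact.compactSpace_of_compactSpace A.hom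
  let 𝒰 := A.left.affineCover.finiteSubcover
  let U : 𝒰.I₀ → A.left.Opens := fun a => (𝒰.f a).opensRange
  have hU : ∀ a, IsAffineOpen (U a) := fun a => by
    haveI : IsAffine (𝒰.X a) := inferInstanceAs (IsAffine (A.left.affineCover.X _))
    exact isAffineOpen_opensRange _
  have hcov : ⨆ a, U a = ⊤ := 𝒰.iSup_opensRange
  letI : A.left.Over (Spec (CommRingCat.of k)) := ⟨A.hom⟩
  obtain ⟨eH⟩ : Nonempty (H1 (X := A) U ≃ₗ[k] Coh.HH A.left (Coh.structureModule A.left) 1) :=
    H1_equiv (X := A) U hU hcov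
  haveI : IsProper (A.left ↘ Spec (CommRingCat.of k)) := inferInstanceAs (IsProper A.hom)
  haveI : IsLocallyNoetherian A.left := LocallyOfFiniteType.isLocallyNoetherian A.hom
  haveI : Module.Finite k (Coh.HH A.left (Coh.structureModule A.left) 1) :=
    CurveCohLib.finite_HH QCoh.isCoh_structureModule' 1
  haveI : Module.Finite k (H1 (X := A) U) := Module.Finite.equiv eH.symm
  have hn : Module.finrank k (H1 (X := A) U) = g := by
    rw [eH.finrank_eq]
    exact (AVDualExist.finrank_HH_structure hA 1).trans (Nat.choose_one_right g)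
  let b := Module.finBasisOfFinrankEq k (H1 (X := A) U) hn
  obtain ⟨u₀, hu₀, hu₁⟩ := exists_nbhd hQ
  let V := Fin g → k
  let c₀ := pl (A ◁ u₀) (PicF.cl P)
  have hc₀ : PicF.IsInvertibleCl c₀ := isInv_pl _ ⟨P, rfl, hP⟩
  have htriv : PicF.pullCl (PicTangent.Q A (TrivSqZeroExt.fstHom k k V)).left c₀ =
      PicF.cl (Coh.structureModule _) := by
    rw [Q_eq]
    refine Eq.trans (pl_pl (A ◁ Tmap _) (A ◁ u₀) (PicF.cl P)) ?_
    rw [ ← MonoidalCategory.whiskerLeft_comp, hu₀, whisker_one _ hs]
    rfl
  obtain ⟨t, ht, hct⟩ := AVSqZero.exists_lcl_eq U (TrivSqZeroExt.fstHom k k V) hU b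
    (fun x => ⟨TrivSqZeroExt.inl x, TrivSqZeroExt.fst_inl V x⟩)
    (fun x y hx hy => TrivSqZeroExt.ext (by simp [show x.fst = 0 from hx]) (by simp [show x.fst = 0 from hx, show y.fst = 0 from hy]))
    hcov c₀ hc₀ htriv
  let Λ : V →ₗ[k] V := Fintype.linearCombination k fun i => (t i).snd
  have htΛ : ∀ i, t i = TrivSqZeroExt.inr (Λ (Pi.single i 1)) := fun i => by
    rw [Fintype.linearCombination_apply_single, one_smul]
    exact TrivSqZeroExt.ext (ht i) (by simp)
  have hsurj : Function.Surjective Λ := by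
    rw [← LinearMap.range_eq_top]
    by_contra hne
    obtain ⟨ψ, hψ0, hψ⟩ := Submodule.exists_le_ker_of_lt_top _ (lt_top_iff_ne_top.2 hne)
    refine hψ0 (hu₁ ψ (hs.sep _ ?_))
    rw [MonoidalCategory.whiskerLeft_comp, ← pl_pl, ← Q_eq (A := A) (chi ψ)]
    show PicF.pullCl _ c₀ = _
    rw [hct, pullCl_lcl U _ _ _ hcov, lcl_zero U (rep U b) (rep_cocycle U b) _ hcov fun i => ?_]
    · rfl
    · rw [htΛ, chi_inr, show ψ (Λ (Pi.single i 1)) = 0 from hψ ⟨_, rfl⟩, map_zero]
  let e : V ≃ₗ[k] V := LinearEquiv.ofBijective Λ ⟨LinearMap.injective_iff_surjective.2 hsurj, hsurj⟩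
  have hcu : pl (A ◁ (Tmap (TrivSqZeroExt.map e.symm.toLinearMap) ≫ u₀)) (PicF.cl P) = univCl (X := A) (U := U) b := by
    rw [MonoidalCategory.whiskerLeft_comp, ← pl_pl, ← Q_eq (A := A)]
    show PicF.pullCl _ c₀ = _
    rw [hct, pullCl_lcl U _ _ _ hcov]
    refine lcl_congr _ _ _ _ (funext fun i => ?_)
    rw [htΛ, TrivSqZeroExt.map_inr]
    exact congrArg TrivSqZeroExt.inr (e.symm_apply_apply _)
  obtain ⟨r, hr, hcr⟩ := AVSqZero.exists_lcl_eq U π hU b hπ hI hcov c hc (by rw [Q_eq]; exact h)
  let ℓ : V →ₗ[k] R := Fintype.linearCombination k r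
  have hℓ : ∀ v, π (ℓ v) = 0 := fun v => by
    simp only [ℓ]
    rw [Fintype.linearCombination_apply, map_sum]
    exact Finset.sum_eq_zero fun i _ => by rw [map_smul, hr, smul_zero]
  let ρ : TrivSqZeroExt k V →ₐ[k] R :=
    TrivSqZeroExt.liftEquivOfComm ⟨ℓ, fun x y => hI _ _ (hℓ x) (hℓ y)⟩
  refine ⟨Tmap ρ ≫ Tmap (TrivSqZeroExt.map e.symm.toLinearMap) ≫ u₀, ?_⟩
  rw [MonoidalCategory.whiskerLeft_comp, ← pl_pl, hcu, ← Q_eq (A := A)]
  refine Eq.trans ?_ hcr.symm
  refine Eq.trans (pullCl_lcl U _ _ _ hcov ρ) ?_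
  refine lcl_congr _ _ _ _ (funext fun i => ?_)
  simp [ρ, ℓ]
  exact (Fintype.linearCombination_apply_single k r i 1).trans (one_smul _ _)

end Groth.Agent.AVFirstOrder
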