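import Groth.Agent.H23.EquidimFibres
import Groth.Agent.H23.MaxAbelian
import Groth.Agent.GrpSchLib.AntiAffineHom

/-!
A pointed morphism from a proper integral scheme to a group over an algebraically closed field lands in an abelian
subvariety.
-/

set_option autoImplicit false
set_option backward.isDefEq.respectTransparency false
set_option backward.isDefEq.respectTransparency.types false
set_option linter.style.haveILetI false

universe u

open CategoryTheory CategoryTheory.Limits MonoidalCategory CartesianMonoidalCategory MonObj GrpObj AlgebraicGeometry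
open TopologicalSpace

namespace Groth.Agent.AVGenImage

open Groth.Agent

variable {k : Type u} [Field k] [IsAlgClosed k]

/-- A pointed map from a proper integral scheme to a group factors through an abelian subvariety. -/
theorem exists_av {X G : Over (Spec (CommRingCat.of k))} [IsIntegral X.left] [IsProper X.hom] [GrpObj G]
    [LocallyOfFiniteType G.hom] (x₀ : 𝟙_ (Over (Spec (CommRingCat.of k))) ⟶ X) (f : X ⟶ G)
    (hx : x₀ ≫ f = η[G]) :
    ∃ (N : Over (Spec (CommRingCat.of k))) (_ : GrpObj N) (j : N ⟶ G) (f' : X ⟶ N), IsMonHom j ∧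
      IsClosedImmersion j.left ∧ IsProper N.hom ∧ GeometricallyIntegral N.hom ∧ f' ≫ j = f := by
  haveI hXg : GeometricallyIntegral X.hom := H23.EquidimFibres.geometricallyIntegral_of_isAlgClosed
  haveI : IsSeparated G.hom := GrpSchLib.AntiAffine.isSeparated_grp G
  have : IsLocallyNoetherian G.left := LocallyOfFiniteType.isLocallyNoetherian G.hom
  let pt := IsLocalRing.closedPoint k
  have hr1 : ∀ a : 𝟙_ (Over (Spec (CommRingCat.of k))) ⟶ G, Set.range a.left = {a.left pt} := fun a =>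
    Set.Subset.antisymm (by
      rintro _ ⟨x, rfl⟩
      exact congrArg a.left (@Subsingleton.elim (Spec (CommRingCat.of k)) inferInstance x pt))
      (Set.singleton_subset_iff.2 ⟨pt, rfl⟩)
  let S : Set G.left → Prop := fun Z => Set.range f.left ⊆ Z ∧
    ∃ (P : Over (Spec (CommRingCat.of k))) (ψ : P ⟶ G) (e : 𝟙_ _ ⟶ P),
      IsProper P.hom ∧ GeometricallyIntegral P.hom ∧ Set.range ψ.left = Z ∧ e ≫ ψ = η[G]
  have hS : ∀ Z, S Z → IsIrreducible Z ∧ IsClosed Z ∧ η[G].left pt ∈ Z := by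
    rintro Z ⟨-, P, ψ, e, _, _, rfl, he⟩
    have : IsIntegral P.left := H23.MaxAbelian.isIntegral_of_geometricallyIntegral
    have : IsProper (ψ.left ≫ G.hom) := by rw [Over.w ψ]; infer_instance
    have := IsProper.of_comp ψ.left G.hom
    refine ⟨?_, ψ.left.isClosedMap.isClosed_range, e.left pt, ?_⟩
    · rw [← Set.image_univ]
      exact (IrreducibleSpace.isIrreducible_univ _).image _ ψ.left.continuous.continuousOn
    · exact congrArg (fun m : 𝟙_ _ ⟶ G => m.left pt) he
  obtain ⟨Z, ⟨hVZ, P, ψ, e, _, _, hr, he⟩, hmax⟩ := H23.MaxAbelian.exists_maximal (η[G].left pt) S hS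
    ⟨_, subset_rfl, X, f, x₀, ‹_›, hXg, rfl, hx⟩
  have hone : (toUnit P ≫ e) ≫ ψ = (1 : P ⟶ G) := by
    rw [Category.assoc, he, MonObj.one_eq_one, MonObj.comp_one]
  have : IsProper (P ⊗ P).hom :=
    inferInstanceAs (IsProper (Limits.pullback.fst P.hom P.hom ≫ P.hom))
  have := H23.MaxAbelian.geometricallyIntegral_tensor P P
  let ψm : P ⊗ P ⟶ G := (fst P P ≫ ψ) * (snd P P ≫ ψ)
  let ψd : P ⊗ P ⟶ G := (fst P P ≫ ψ) * (snd P P ≫ ψ)⁻¹
  have hl : lift (𝟙 P) (toUnit P ≫ e) ≫ ψm = ψ := by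
    simp only [ψm, MonObj.comp_mul, lift_fst_assoc, lift_snd_assoc, Category.id_comp]
    rw [hone, _root_.mul_one]
  have hl' : lift (𝟙 P) (toUnit P ≫ e) ≫ ψd = ψ := by
    simp only [ψd, MonObj.comp_mul, GrpObj.comp_inv, lift_fst_assoc, lift_snd_assoc, Category.id_comp]
    rw [hone, inv_one, _root_.mul_one]
  have hi : lift (toUnit P ≫ e) (𝟙 P) ≫ ψd = ψ⁻¹ := by
    simp only [ψd, MonObj.comp_mul, GrpObj.comp_inv, lift_fst_assoc, lift_snd_assoc, Category.id_comp]
    rw [hone, _root_.one_mul]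
  have key : ∀ φ : P ⊗ P ⟶ G, lift (𝟙 P) (toUnit P ≫ e) ≫ φ = ψ → lift e e ≫ φ = η[G] →
      Set.range φ.left = Set.range ψ.left := by
    intro φ hφ hk
    have hsub : Set.range ψ.left ⊆ Set.range φ.left := by
      rintro _ ⟨y, rfl⟩
      exact ⟨_, congrArg (fun χ : P ⟶ G => χ.left y) hφ⟩
    rw [hr] at hsub ⊢
    exact (hmax _ ⟨hVZ.trans hsub, _, φ, _, ‹_›, ‹_›, rfl, hk⟩ hsub).symm
  have h1 : η[G] = (1 : 𝟙_ (Over (Spec (CommRingCat.of k))) ⟶ G) := by
    rw [Hom.one_def, toUnit_unique (toUnit (𝟙_ (Over (Spec (CommRingCat.of k))))) (𝟙 _), Category.id_comp]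
  have hm := key ψm hl (by
    simp only [ψm, MonObj.comp_mul, lift_fst_assoc, lift_snd_assoc, he, h1, _root_.one_mul])
  have hd := key ψd hl' (by
    simp only [ψd, MonObj.comp_mul, GrpObj.comp_inv, lift_fst_assoc, lift_snd_assoc, he, h1, inv_one,
      _root_.one_mul])
  obtain ⟨N, hN, j, hj, hjc, hNp, hNg, hjr⟩ := H23.MaxAbelian.exists_image' ψ
    (by rw [hr1, Set.singleton_subset_iff, ← he]; exact ⟨_, rfl⟩)
    hm.subset (by
      rw [← hi]
      rintro _ ⟨y, rfl⟩
      exact hd.subset ⟨_, rfl⟩)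
  haveI := hjc
  obtain ⟨g, hg⟩ := H23.RedSub.exists_lift_closed f.left j.left (by rw [hjr, hr]; exact hVZ)
  refine ⟨N, hN, j, Over.homMk g ?_, hj, hjc, hNp, hNg, Over.OverMorphism.ext hg⟩
  rw [← Over.w j, reassoc_of% hg, Over.w]

end Groth.Agent.AVGenImage

namespace Groth.Agent.AVGenImage

/-- A nonempty Jacobson scheme has a closed point. -/
theorem exists_closed_point (X : Scheme.{u}) [Nonempty X] [JacobsonSpace X] :
    ∃ y : X, IsClosed ({y} : Set X) := by
  obtain ⟨x⟩ := ‹Nonempty X›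
  obtain ⟨y, -, hy⟩ := nonempty_inter_closedPoints (X := X) (Z := Set.univ) ⟨x, trivial⟩
    isClosed_univ.isLocallyClosed
  exact ⟨y, hy⟩

end Groth.Agent.AVGenImage
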