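import Groth.Prelude.Def_SGA7a
import Groth.Agent.H23.RigidAb
import Groth.Agent.H23.CubeAb
import Groth.Agent.Pi1Ext.SepClosureLim
import Groth.Agent.S11994
import Groth.Agent.S7795
import Mathlib.AlgebraicGeometry.Sites.Fpqc

/-!
Families of homomorphisms of abelian varieties over an algebraic normal extension descend, up to a power.
-/

set_option autoImplicit false
set_option linter.style.haveILetI false
set_option linter.unusedSectionVars false
set_option backward.isDefEq.respectTransparency false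
set_option backward.isDefEq.respectTransparency.types false
set_option maxHeartbeats 1000000

universe u

open CategoryTheory CategoryTheory.Limits MonoidalCategory CartesianMonoidalCategory MonObj AlgebraicGeometry TopologicalSpace

noncomputable section

namespace Groth.Agent.AVHomDescent

variable {k : Type u} [Field k]

variable (k) in
/-- The spectrum of an extension. -/
abbrev P (K : Type u) [Field K] [Algebra k K] : Over (Spec (CommRingCat.of k)) :=
  Over.mk (Spec.map (CommRingCat.ofHom (algebraMap k K)))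

/-- The map of spectra of an embedding. -/
def incl {K L : Type u} [Field K] [Field L] [Algebra k K] [Algebra k L] (emb : L →ₐ[k] K) : P k K ⟶ P k L :=
  Over.homMk (Spec.map (CommRingCat.ofHom emb.toRingHom)) (by
    show Spec.map _ ≫ Spec.map _ = Spec.map _
    rw [← Spec.map_comp]
    exact congrArg Spec.map (CommRingCat.hom_ext (RingHom.ext emb.commutes)))

variable {A B : Over (Spec (CommRingCat.of k))} [GrpObj A] [GrpObj B]

/-- A family of homomorphisms. -/
def IsFam {T : Over (Spec (CommRingCat.of k))} (F : A ⊗ T ⟶ B) : Prop :=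
  ∀ (W : Over (Spec (CommRingCat.of k))) (a a' : W ⟶ A) (t : W ⟶ T),
    lift (a * a') t ≫ F = (lift a t ≫ F) * (lift a' t ≫ F)

omit [GrpObj B] in
theorem isPullback_whiskerLeft (X : Over (Spec (CommRingCat.of k))) {Y Y' : Over (Spec (CommRingCat.of k))}
    (f : Y ⟶ Y') : IsPullback (X ◁ f).left (snd X Y).left (snd X Y').left f.left := by
  refine IsPullback.of_right (h₁₂ := (fst X Y').left) (h₂₂ := Y'.hom) (v₁₃ := X.hom) ?_ ?_
    (IsPullback.of_hasPullback X.hom Y'.hom).flip.flip
  · rw [← Over.comp_left, whiskerLeft_fst, Over.w f]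
    exact IsPullback.of_hasPullback X.hom Y.hom
  · rw [← Over.comp_left, ← Over.comp_left, whiskerLeft_snd]

theorem epi_incl_whisker {K L : Type u} [Field K] [Field L] [Algebra k K] [Algebra k L] (emb : L →ₐ[k] K)
    (X : Over (Spec (CommRingCat.of k))) : Epi (X ◁ incl emb) := by
  have h := isPullback_whiskerLeft X (incl emb)
  letI := emb.toRingHom.toAlgebra
  haveI hf : Flat (incl emb).left := by
    show Flat (Spec.map (CommRingCat.ofHom emb.toRingHom))
    rw [HasRingHomProperty.Spec_iff (P := @Flat)]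
    exact RingHom.flat_algebraMap_iff.mpr inferInstance
  haveI hq : QuasiCompact (incl emb).left := inferInstanceAs (QuasiCompact (Spec.map _))
  haveI hs : Surjective (incl emb).left :=
    ⟨fun y => ⟨(IsLocalRing.closedPoint K), Subsingleton.elim (α := Spec (CommRingCat.of L)) _ y⟩⟩
  haveI : Flat (X ◁ incl emb).left := MorphismProperty.of_isPullback h.flip hf
  haveI : QuasiCompact (X ◁ incl emb).left := MorphismProperty.of_isPullback h.flip hq
  haveI : Surjective (X ◁ incl emb).left := MorphismProperty.of_isPullback h.flip hs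
  exact Over.epi_of_epi_left _

theorem flat_fst (X : Over (Spec (CommRingCat.of k))) (K : Type u) [Field K] [Algebra k K] :
    Flat (fst X (P k K)).left ∧ QuasiCompact (fst X (P k K)).left ∧ Surjective (fst X (P k K)).left := by
  haveI : Flat (P k K).hom := by
    show Flat (Spec.map (CommRingCat.ofHom (algebraMap k K)))
    rw [HasRingHomProperty.Spec_iff (P := @Flat)]
    exact RingHom.flat_algebraMap_iff.mpr inferInstance
  haveI : QuasiCompact (P k K).hom := inferInstanceAs (QuasiCompact (Spec.map _))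
  haveI : Surjective (P k K).hom :=
    ⟨fun y => ⟨(IsLocalRing.closedPoint K), Subsingleton.elim (α := Spec (CommRingCat.of k)) _ y⟩⟩
  exact ⟨MorphismProperty.pullback_fst (P := @Flat) X.hom (P k K).hom ‹_›,
    MorphismProperty.pullback_fst (P := @QuasiCompact) X.hom (P k K).hom ‹_›,
    MorphismProperty.pullback_fst (P := @Surjective) X.hom (P k K).hom ‹_›⟩

theorem epi_fst (X : Over (Spec (CommRingCat.of k))) (K : Type u) [Field K] [Algebra k K] : Epi (fst X (P k K)) := by
  obtain ⟨h1, h2, h3⟩ := flat_fst X K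
  exact Over.epi_of_epi_left _

omit [GrpObj A] [GrpObj B] in
/-- A morphism out of a base change is defined over a finite subextension. -/
theorem exists_finite [IsProper A.hom] [IsProper B.hom] {K : Type u} [Field K] [Algebra k K]
    (F : A ⊗ P k K ⟶ B) :
    ∃ (s : Finset K) (G : A ⊗ P k (Pi1Ext.SepLim.sub k K s) ⟶ B),
      (A ◁ incl (Pi1Ext.SepLim.sub k K s).val) ≫ G = F := by
  let D := Pi1Ext.SepLim.diag k K A.hom
  let c := Pi1Ext.SepLim.cone k K A.hom
  haveI : CompactSpace A.left := QuasiCompact.compactSpace_of_compactSpace A.hom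
  haveI : QuasiSeparatedSpace A.left := quasiSeparatedSpace_of_quasiSeparated A.hom
  haveI : LocallyOfFinitePresentation B.hom := LocallyOfFinitePresentation.iff_locallyOfFiniteType.2 inferInstance
  haveI : ∀ {i j : (Finset K)ᵒᵖ} (φ : i ⟶ j), IsAffineHom (D.map φ) := fun φ => Pi1Ext.SepLim.isAffineHom_map k K A.hom φ
  haveI : ∀ i, CompactSpace (D.obj i) := fun i => Pi1Ext.SepLim.compactSpace_obj k K A.hom i
  haveI : ∀ i, QuasiSeparatedSpace (D.obj i) := fun i => Pi1Ext.SepLim.quasiSeparatedSpace_obj k K A.hom i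
  let t : D ⟶ (Functor.const (Finset K)ᵒᵖ).obj (Spec (CommRingCat.of k)) :=
    { app := fun s => pullback.fst A.hom (Pi1Ext.SepLim.str k K s) ≫ A.hom
      naturality := fun s s' g => by
        refine Eq.trans ?_ (Category.comp_id _).symm
        exact (Category.assoc _ _ _).symm.trans (congrArg (· ≫ A.hom) (pullback.lift_fst _ _ _)) }
  obtain ⟨s, g, hg, hgw⟩ := Scheme.exists_π_app_comp_eq_of_locallyOfFinitePresentation D t B.hom c
    (Pi1Ext.SepLim.isLimitCone k K A.hom) F.left (by
      ext s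
      show Pi1Ext.SepLim.proj k K A.hom s ≫ pullback.fst _ _ ≫ A.hom = F.left ≫ B.hom
      rw [Over.w F, ← Category.assoc, show Pi1Ext.SepLim.proj k K A.hom s ≫ pullback.fst _ _ = pullback.fst _ _
        from pullback.lift_fst _ _ _]
      rfl)
  refine ⟨s.unop, Over.homMk g hgw, Over.OverMorphism.ext (Eq.trans ?_ hg)⟩
  refine congrArg (· ≫ g) (pullback.hom_ext ?_ ?_)
  · refine Eq.trans ?_ (pullback.lift_fst _ _ _).symm
    exact congrArg CommaMorphism.left (whiskerLeft_fst A _)
  · refine Eq.trans ?_ (pullback.lift_snd _ _ _).symm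
    exact congrArg CommaMorphism.left (whiskerLeft_snd A _)

theorem isFam_of_incl {K L : Type u} [Field K] [Field L] [Algebra k K] [Algebra k L] (emb : L →ₐ[k] K)
    (F : A ⊗ P k L ⟶ B) (h : IsFam ((A ◁ incl emb) ≫ F)) : IsFam F := by
  have h1 := h ((A ⊗ A) ⊗ P k K) (fst _ _ ≫ fst A A) (fst _ _ ≫ snd A A) (snd _ _)
  haveI := epi_incl_whisker emb (A ⊗ A)
  have h2 : lift ((fst (A ⊗ A) (P k L) ≫ fst A A) * (fst _ _ ≫ snd A A)) (snd _ _) ≫ F =
      (lift (fst (A ⊗ A) (P k L) ≫ fst A A) (snd _ _) ≫ F) * (lift (fst _ _ ≫ snd A A) (snd _ _) ≫ F) := by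
    rw [← cancel_epi ((A ⊗ A) ◁ incl emb)]
    simp only [lift_whiskerLeft_assoc, MonObj.comp_mul, comp_lift_assoc, whiskerLeft_fst_assoc,
      whiskerLeft_snd] at h1 ⊢
    exact h1
  intro W a a' t
  have h3 := congrArg (lift (lift a a') t ≫ ·) h2
  simpa only [MonObj.comp_mul, comp_lift_assoc, lift_fst_assoc, lift_fst, lift_snd] using h3

variable [IsProper A.hom] [GeometricallyIntegral A.hom] [IsProper B.hom] [GeometricallyIntegral B.hom]
  [IsCommMonObj B]

/-- A family which is invariant under the automorphisms of a normal extension is constant. -/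
theorem exists_desc {M : Type u} [Field M] [Algebra k M] [Normal k M] (F : A ⊗ P k M ⟶ B) (hF : IsFam F)
    (hinv : ∀ σ : M ≃ₐ[k] M, (A ◁ incl σ.toAlgHom) ≫ F = F) :
    ∃ g : A ⟶ B, IsMonHom g ∧ fst A (P k M) ≫ g = F := by
  let W := P k M ⊗ P k M
  let d : A ⊗ W ⟶ B := ((A ◁ fst (P k M) (P k M)) ≫ F) * ((A ◁ snd (P k M) (P k M)) ≫ F)⁻¹
  have hd1 : lift (toUnit W ≫ η[A]) (𝟙 W) ≫ d = 1 := by
    have h0 : ∀ t : W ⟶ P k M, lift (toUnit W ≫ η[A]) t ≫ F = 1 := fun t => by
      have h := hF W 1 1 t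
      rw [_root_.one_mul] at h
      rw [show toUnit W ≫ η[A] = (1 : W ⟶ A) from rfl]
      exact mul_eq_left.1 h.symm
    simp only [d, MonObj.comp_mul, GrpObj.comp_inv, lift_whiskerLeft_assoc, Category.id_comp, h0, inv_one,
      _root_.mul_one]
  have hd : d = 1 := by
    haveI : GeometricallyConnected A.hom := H23.CubeAb.geometricallyConnected_of_integral A.hom
    haveI : Flat A.hom := inferInstance
    haveI : LocallyOfFinitePresentation A.hom := LocallyOfFinitePresentation.iff_locallyOfFiniteType.2 inferInstance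
    let p := pullback.snd A.hom W.hom
    let e : W.left ⟶ (A ⊗ W).left := (lift (toUnit W ≫ η[A]) (𝟙 W)).left
    have he : e ≫ p = 𝟙 W.left := H23.RigidAb.lift_left_snd η[A] W
    have h0 : H23.RigidApply.ConstFibres p := (H23.RigidGamma.constFibres A.hom).baseChange W.hom
    let y₀ : B.left := η[B].left (IsLocalRing.closedPoint k)
    have hpt : ∀ x : (A ⊗ W).left, d.left x = y₀ := by
      intro x
      let κ : Type u := (A ⊗ W).left.residueField x
      let T : Over (Spec (CommRingCat.of k)) := Over.mk ((A ⊗ W).left.fromSpecResidueField x ≫ (A ⊗ W).hom)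
      let q : T ⟶ A ⊗ W := Over.homMk ((A ⊗ W).left.fromSpecResidueField x) rfl
      let j₀ : ∀ t : T ⟶ P k M, {j : CommRingCat.of M ⟶ CommRingCat.of κ // Spec.map j = t.left} := fun t =>
        ⟨Spec.preimage t.left, Spec.map_preimage _⟩
      letI : Algebra k κ := (Spec.preimage T.hom).hom.toAlgebra
      have hj : ∀ t : T ⟶ P k M, CommRingCat.ofHom (algebraMap k M) ≫ (j₀ t).1 = Spec.preimage T.hom := fun t => by
        apply Spec.map_injective
        rw [Spec.map_comp, (j₀ t).2, Spec.map_preimage]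
        exact Over.w t
      let j : (T ⟶ P k M) → (M →ₐ[k] κ) := fun t =>
        { (j₀ t).1.hom with
          commutes' := fun r => DFunLike.congr_fun (congrArg CommRingCat.Hom.hom (hj t)) r }
      let a : T ⟶ A := q ≫ fst A W
      let t₁ : T ⟶ P k M := q ≫ snd A W ≫ fst _ _
      let t₂ : T ⟶ P k M := q ≫ snd A W ≫ snd _ _
      letI : Algebra M κ := (j t₁).toRingHom.toAlgebra
      haveI : IsScalarTower k M κ := IsScalarTower.of_algHom (j t₁)
      let ψ : M →ₐ[k] M := (j t₂).restrictNormal' M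
      have hψ : ∀ m, (j t₁) (ψ m) = (j t₂) m := fun m => by
        have h := AlgHom.restrictNormal_commutes (j t₂) M m
        exact h
      let σ : M ≃ₐ[k] M := AlgEquiv.ofBijective ψ (Algebra.IsAlgebraic.algHom_bijective ψ)
      have ht : t₁ ≫ incl σ.toAlgHom = t₂ := by
        ext1
        show t₁.left ≫ Spec.map _ = t₂.left
        rw [← (j₀ t₁).2, ← (j₀ t₂).2, ← Spec.map_comp]
        exact congrArg Spec.map (CommRingCat.hom_ext (RingHom.ext hψ))
      have hq : q ≫ d = 1 := by
        have e1 : q = lift a (q ≫ snd A W) := by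
          ext <;> simp [a]
        have e2 : lift a t₂ ≫ F = lift a t₁ ≫ F := by
          rw [← ht, ← lift_whiskerLeft_assoc, hinv]
        rw [e1]
        simp only [d, MonObj.comp_mul, GrpObj.comp_inv, lift_whiskerLeft_assoc]
        rw [Category.assoc, Category.assoc, e2, mul_inv_cancel]
      have hx : q.left (IsLocalRing.closedPoint κ) = x := Scheme.fromSpecResidueField_apply _ _
      rw [← hx, ← Scheme.Hom.comp_apply, ← Over.comp_left, hq]
      show η[B].left ((toUnit T).left _) = y₀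
      exact congrArg _ (Subsingleton.elim (α := Spec (CommRingCat.of k)) _ _)
    have key := H23.RigidGen.eq_comp_section p h0 e he d.left fun s => ⟨y₀, fun x _ => hpt x⟩
    have key' : d = snd A W ≫ lift (toUnit W ≫ η[A]) (𝟙 W) ≫ d := Over.OverMorphism.ext key
    rw [key', hd1, MonObj.comp_one]
  have heq : (A ◁ fst (P k M) (P k M)) ≫ F = (A ◁ snd (P k M) (P k M)) ≫ F := mul_inv_eq_one.1 hd
  obtain ⟨h1, h2, h3⟩ := flat_fst A M
  have hcoeq : ∀ {Z : Scheme.{u}} (g₁ g₂ : Z ⟶ (A ⊗ P k M).left),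
      g₁ ≫ (fst A (P k M)).left = g₂ ≫ (fst A (P k M)).left → g₁ ≫ F.left = g₂ ≫ F.left := by
    intro Z g₁ g₂ h
    let Z' : Over (Spec (CommRingCat.of k)) := Over.mk (g₁ ≫ (A ⊗ P k M).hom)
    let q₁ : Z' ⟶ A ⊗ P k M := Over.homMk g₁ rfl
    let q₂ : Z' ⟶ A ⊗ P k M := Over.homMk g₂ (by
      show g₂ ≫ (A ⊗ P k M).hom = g₁ ≫ (A ⊗ P k M).hom
      rw [← Over.w (fst A (P k M)), reassoc_of% h])
    have hq : q₁ ≫ fst A (P k M) = q₂ ≫ fst A (P k M) := Over.OverMorphism.ext h
    have := congrArg (lift (q₁ ≫ fst A _) (lift (q₁ ≫ snd A _) (q₂ ≫ snd A _)) ≫ ·) heq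
    simp only [lift_whiskerLeft_assoc, lift_fst, lift_snd] at this
    rw [← comp_lift_assoc, lift_fst_snd, Category.id_comp, hq, ← comp_lift_assoc, lift_fst_snd,
      Category.id_comp] at this
    exact congrArg CommaMorphism.left this
  let g₀ := EffectiveEpi.desc (fst A (P k M)).left F.left fun g₁ g₂ h => hcoeq g₁ g₂ h
  have hg₀ : (fst A (P k M)).left ≫ g₀ = F.left := EffectiveEpi.fac _ _ _
  let g : A ⟶ B := Over.homMk g₀ (by
    rw [← cancel_epi (fst A (P k M)).left, reassoc_of% hg₀, Over.w F, Over.w])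
  have hg : fst A (P k M) ≫ g = F := Over.OverMorphism.ext hg₀
  haveI : Smooth A.hom := S7795.result A
  refine ⟨g, S11994.result k A B g ?_, hg⟩
  haveI := epi_fst (k := k) (𝟙_ (Over (Spec (CommRingCat.of k)))) M
  rw [← cancel_epi (fst (𝟙_ (Over (Spec (CommRingCat.of k)))) (P k M))]
  have h := hF _ 1 1 (snd (𝟙_ (Over (Spec (CommRingCat.of k)))) (P k M))
  rw [_root_.one_mul] at h
  have h1' := mul_eq_left.1 h.symm
  rw [← hg, lift_fst_assoc] at h1'
  rw [toUnit_unique (fst (𝟙_ _) (P k M)) (toUnit _)]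
  exact h1'

/-- Up to a power, a family of homomorphisms over a normal algebraic extension descends, preserving the
linear relations defined over the ground field. -/
theorem exists_descent {K : Type u} [Field K] [Algebra k K] [Normal k K] (F : A ⊗ P k K ⟶ B) (hF : IsFam F) :
    ∃ (g : A ⟶ B) (n : ℕ), IsMonHom g ∧ 0 < n ∧
      ∀ (Z W : Over (Spec (CommRingCat.of k))) [GrpObj W] [IsCommMonObj W] (u : Z ⟶ A) (v : B ⟶ W) [IsMonHom v]
        (w : Z ⟶ W), (u ▷ P k K) ≫ F ≫ v = fst Z (P k K) ≫ w → u ≫ g ≫ v = w ^ n := by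
  classical
  obtain ⟨s, G, hG⟩ := exists_finite F
  haveI : FiniteDimensional k (Pi1Ext.SepLim.sub k K s) :=
    IntermediateField.finiteDimensional_adjoin fun x _ => Algebra.IsIntegral.isIntegral x
  let N : IntermediateField k K := IntermediateField.normalClosure k (Pi1Ext.SepLim.sub k K s) K
  have hle : Pi1Ext.SepLim.sub k K s ≤ N := IntermediateField.le_normalClosure _
  let G' : A ⊗ P k N ⟶ B := (A ◁ incl (IntermediateField.inclusion hle)) ≫ G
  have hG' : (A ◁ incl N.val) ≫ G' = F := by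
    rw [← hG]
    simp only [G', ← whiskerLeft_comp_assoc]
    congr 2
    ext1
    show Spec.map _ ≫ Spec.map _ = Spec.map _
    rw [← Spec.map_comp]
    rfl
  have hG'f : IsFam G' := isFam_of_incl N.val G' (by rw [hG']; exact hF)
  let f : (N ≃ₐ[k] N) → (A ⊗ P k N ⟶ B) := fun σ => (A ◁ incl σ.toAlgHom) ≫ G'
  have hf : IsFam (∏ σ, f σ) := by
    intro W a a' t
    have key : ∀ (a : W ⟶ A), lift a t ≫ (∏ σ, f σ) = ∏ σ : N ≃ₐ[k] N, (lift a (t ≫ incl σ.toAlgHom) ≫ G') := fun a => by
      rw [show lift a t ≫ (∏ σ, f σ) = MonoidHom.mk' (fun x => lift a t ≫ x) (fun x y => MonObj.comp_mul _ x y)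
        (∏ σ, f σ) from rfl, map_prod]
      refine Finset.prod_congr rfl fun σ _ => ?_
      show lift a t ≫ f σ = _
      simp only [f, lift_whiskerLeft_assoc]
    rw [key, key, key, ← Finset.prod_mul_distrib]
    exact Finset.prod_congr rfl fun σ _ => hG'f _ _ _ _
  have hinv : ∀ τ : N ≃ₐ[k] N, (A ◁ incl τ.toAlgHom) ≫ (∏ σ, f σ) = ∏ σ, f σ := fun τ => by
    rw [show (A ◁ incl τ.toAlgHom) ≫ (∏ σ, f σ) =
      MonoidHom.mk' (fun x => (A ◁ incl τ.toAlgHom) ≫ x) (fun x y => MonObj.comp_mul _ x y) (∏ σ, f σ) from rfl,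
      map_prod]
    refine Fintype.prod_equiv (Equiv.mulLeft τ) _ _ fun σ => ?_
    show (A ◁ incl τ.toAlgHom) ≫ f σ = f (τ * σ)
    simp only [f, ← whiskerLeft_comp_assoc]
    congr 2
    ext1
    show Spec.map _ ≫ Spec.map _ = Spec.map _
    rw [← Spec.map_comp]
    rfl
  obtain ⟨g, hgm, hg⟩ := exists_desc (∏ σ, f σ) hf hinv
  refine ⟨g, Fintype.card (N ≃ₐ[k] N), hgm, Fintype.card_pos, fun Z W _ _ u v _ w h => ?_⟩
  have h' : (u ▷ P k N) ≫ G' ≫ v = fst Z (P k N) ≫ w := by
    haveI := epi_incl_whisker (k := k) N.val Z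
    rw [← cancel_epi (Z ◁ incl N.val), whisker_exchange_assoc, reassoc_of% hG', h, whiskerLeft_fst_assoc]
  haveI := epi_fst (k := k) Z N
  rw [← cancel_epi (fst Z (P k N))]
  have e1 : fst Z (P k N) ≫ u ≫ g ≫ v = (u ▷ P k N) ≫ (∏ σ, f σ) ≫ v := by
    rw [← hg, Category.assoc, whiskerRight_fst_assoc]
  rw [e1, show (u ▷ P k N) ≫ (∏ σ, f σ) ≫ v =
      MonoidHom.mk' (fun x => (u ▷ P k N) ≫ x ≫ v) (fun x y => by rw [MonObj.mul_comp, MonObj.comp_mul]) (∏ σ, f σ) from rfl,
    map_prod]
  rw [Finset.prod_congr rfl (g := fun _ => fst Z (P k N) ≫ w) fun σ _ => ?_, Finset.prod_const, Finset.card_univ,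
    MonObj.comp_pow]
  show (u ▷ P k N) ≫ f σ ≫ v = fst Z (P k N) ≫ w
  simp only [f, Category.assoc]
  rw [← whisker_exchange_assoc, h', whiskerLeft_fst_assoc]

end Groth.Agent.AVHomDescent
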