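import Groth.Agent.Lib.AVDegPoly
import Groth.Agent.Lib.TopIntPos
import Groth.Agent.Lib.AVProj
import Groth.Agent.AmpleX.Locus
import Groth.Agent.H23.AlbFormal
import Groth.Agent.H23.Rigid

/-!
The positive symmetric bilinear form on homomorphisms of abelian varieties given by two ample modules.
-/

set_option autoImplicit false
set_option linter.style.haveILetI false
set_option linter.unusedSectionVars false
set_option backward.isDefEq.respectTransparency false
set_option backward.isDefEq.respectTransparency.types false
set_option maxHeartbeats 1000000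

universe u

open CategoryTheory CategoryTheory.Limits MonoidalCategory CartesianMonoidalCategory MonObj AlgebraicGeometry TopologicalSpace
open Groth.Agent.H23

noncomputable section

namespace Groth.Agent.AVHomForm

attribute [local instance] PicMul.clMonoid

variable {k : Type u} [Field k]

/-- The structure morphism of the underlying scheme. -/
local instance overLeft (T : Over (Spec (CommRingCat.of k))) : T.left.Over (Spec (CommRingCat.of k)) := ⟨T.hom⟩

local instance isProper_overLeft (T : Over (Spec (CommRingCat.of k))) [IsProper T.hom] :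
    IsProper (T.left ↘ Spec (CommRingCat.of k)) := ‹IsProper T.hom›

variable {A B : Over (Spec (CommRingCat.of k))} [GrpObj A] [IsProper A.hom] [GeometricallyIntegral A.hom]
  [GrpObj B] [IsProper B.hom] [GeometricallyIntegral B.hom]

/-- A homomorphism with image in an affine open is trivial. -/
theorem eq_one_of_range_subset_affine (f : A ⟶ B) [IsMonHom f] {U : B.left.Opens} (hU : IsAffineOpen U)
    (h : Set.range f.left ⊆ U) : f = 1 := by
  haveI : IsIntegral A.left := GeometricallyIntegral.isIntegral_of_subsingleton A.hom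
  haveI : JacobsonSpace A.left := LocallyOfFiniteType.jacobsonSpace A.hom
  haveI : IsProper (f.left ≫ B.hom) := by rw [Over.w]; infer_instance
  haveI : IsProper f.left := IsProper.of_comp f.left B.hom
  let D : Closeds B.left := ⟨Set.range f.left, f.left.isClosedMap.isClosed_range⟩
  have hr : Set.range (Scheme.IdealSheafData.vanishingIdeal D).subschemeι = Set.range f.left :=
    AmpleVan.FiniteSurj.range_vanishingIdeal D
  haveI : Finite (Scheme.IdealSheafData.vanishingIdeal D).subscheme :=
    AVProj.finite_of_range_subset_affine B.hom (Scheme.IdealSheafData.vanishingIdeal D).subschemeι hU (hr ▸ h)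
  have hfin : (Set.range f.left).Finite := hr ▸ Set.finite_range _
  have hsub : (Set.range f.left).Subsingleton := by
    have h1 := subsingleton_image_closure_of_finite_of_isPreirreducible (f := f.left) (S := Set.univ)
      isClosed_univ.isLocallyClosed (PreirreducibleSpace.isPreirreducible_univ (X := A.left)) f.left.continuous
      f.left.isClosedMap (by rwa [Set.image_univ])
    rwa [closure_univ, Set.image_univ] at h1
  rw [AlbFormal.const_of_subsingleton (Rigid.bijective_appTop A.hom) η[A] f hsub, IsMonHom.one_hom f]
  rfl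

/-- The pullback of an ample class along a nontrivial homomorphism is positive. -/
theorem form_pos_of_ne_one {L : A.left.Modules} (hL : CohB1.IsAmple L) {M : B.left.Modules} (hM : CohB1.IsAmple M)
    {r : ℕ} (hg : topologicalKrullDim A.left = (r + 1 : ℕ)) (f : A ⟶ B) [IsMonHom f] (hf : f ≠ 1) :
    0 < TopInt.form k (r + 1) (Fin.cons (AVDegPoly.q hM.1 f) fun _ => TopInt.mk hL.1) := by
  haveI : IsIntegral A.left := GeometricallyIntegral.isIntegral_of_subsingleton A.hom
  obtain ⟨n, s, hys, haff⟩ := hM.2.2 (f.left (genericPoint A.left))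
  let M' := CohB1.tensorPow M (n + 1)
  have hM' : PicF.IsInvertible M' := InvX.isInvertible_tensorPow hM.1 _
  let t₀ := InvX.one s
  have hloc : TrivBasic.locus t₀ = CohB1.genLocus M' s :=
    congrArg (CohB1.genLocus M') (AVAmple.ofSect_one s)
  let Lc := (Scheme.Modules.pullback f.left).obj M'
  have hLc : PicF.IsInvertible Lc := PicClLib.isInvertible_pullback _ hM'
  let t : Γ(Lc, ⊤) := InvX.pullElt f.left t₀
  have ht : TrivBasic.locus t = f.left ⁻¹ᵁ CohB1.genLocus M' s :=
    (TrivBasic.locus_pullElt hM' f.left t₀).trans (congrArg (f.left ⁻¹ᵁ ·) hloc)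
  have hgen : genericPoint A.left ∈ TrivBasic.locus t := by rw [ht]; exact hys
  have ht0 : t ≠ 0 := by
    intro h0
    obtain ⟨W, hW, hfr⟩ := TrivBasic.mem_locus_iff.1 hgen
    haveI : Nonempty W := ⟨⟨_, hW⟩⟩
    have h1 := hfr.coord_unique (le_refl W) (r := (0 : Γ(A.left, W))) (r' := 1) (by simp [h0])
    exact zero_ne_one h1
  have hv : ∃ x, x ∉ TrivBasic.locus t := by
    by_contra hc
    push Not at hc
    refine hf (eq_one_of_range_subset_affine f haff ?_)
    rintro _ ⟨x, rfl⟩
    have := hc x
    rwa [ht] at this
  have hpos := TopInt.form_cons_pos k hg hL (AVDegPoly.q hM.1 f ^ (n + 1)) (Lc := Lc) (by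
    show PicF.pullCl f.left (PicF.cl M') = _
    rw [PicMul.cl_tensorPow, PicMul.pullCl_pow]
    rfl) hLc ht0 hv
  rw [TopInt.form_cons_pow k hg.le] at hpos
  exact pos_of_mul_pos_right hpos (Int.natCast_nonneg _)

section Bilinear

variable [IsCommMonObj B] {L : A.left.Modules} (hL : PicF.IsInvertible L) {M : B.left.Modules} (hM : PicF.IsInvertible M)
  (k) {r : ℕ} (hg : topologicalKrullDim A.left ≤ (r + 1 : ℕ))

/-- The linear functional given by powers of a class. -/
def deg : Additive (TopInt.inv A.left) →+ ℤ :=
  AddMonoidHom.mk' (fun y => TopInt.form k (r + 1) (Fin.cons y.toMul fun _ => TopInt.mk hL))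
    fun x y => TopInt.form_cons_mul k hg x.toMul y.toMul _

/-- The bilinear form. -/
def Bf : Additive (A ⟶ B) →+ Additive (A ⟶ B) →+ ℤ :=
  (AddMonoidHom.compHom (deg k hL hg)).comp (AVDegPoly.polarHom hM)

theorem Bf_apply (x y : Additive (A ⟶ B)) : Bf k hL hM hg x y =
    TopInt.form k (r + 1) (Fin.cons (AVDegPoly.polar hM x.toMul y.toMul) fun _ => TopInt.mk hL) := rfl

theorem Bf_symm (x y : Additive (A ⟶ B)) : Bf k hL hM hg x y = Bf k hL hM hg y x := by
  rw [Bf_apply, Bf_apply, AVDegPoly.polar_comm]

theorem Bf_self (hsym : Nonempty (M ≅ (Scheme.Modules.pullback ((𝟙 B)⁻¹).left).obj M)) (x : Additive (A ⟶ B)) :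
    Bf k hL hM hg x x = 2 * TopInt.form k (r + 1) (Fin.cons (AVDegPoly.q hM x.toMul) fun _ => TopInt.mk hL) := by
  rw [Bf_apply, AVDegPoly.polar_self hM hsym, TopInt.form_cons_mul k hg]
  ring

end Bilinear

end Groth.Agent.AVHomForm
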