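import Groth.Agent.Lib.AVSkyDual
import Groth.Agent.Lib.AVDuality
import Groth.Agent.Lib.HomPushSections
import Groth.Agent.H23.CubeField
import Groth.Agent.KFlatLib.Scheme.PullTensorCx

/-!
The derived dual of the ideal of the origin of an abelian variety.
-/

set_option autoImplicit false
set_option linter.style.haveILetI false
set_option linter.unusedSectionVars false
set_option backward.isDefEq.respectTransparency false
set_option backward.isDefEq.respectTransparency.types false
set_option maxHeartbeats 1000000

universe u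

open CategoryTheory CategoryTheory.Limits CategoryTheory.Pretriangulated MonoidalCategory CartesianMonoidalCategory
open MonObj AlgebraicGeometry

attribute [local instance] HasDerivedCategory.standard

noncomputable section

namespace Groth.Agent.AVIdealDual

open Groth.Agent

section General

variable {X : Scheme.{u}}

/-- `RSheafHom` exists for every complex. -/
theorem hasRSheafHom (E : CochainComplex X.Modules ℤ) [DCoh.HasLTensorCx E] : DCoh.HasRSheafHom E := by
  let P := (KFlatLib.kRes X).obj E
  haveI := KFlatLib.hasLTensorCx P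
  haveI := KFlatLib.hasRSheafHom_of_isKFlat P (KFlatLib.isKFlat_kRes E)
  haveI := (KFlatLib.flatCover X).quasiIso_ψ E
  obtain ⟨e⟩ := KFlatLib.nonempty_LTensorCx_congr (P := P) (E := E) ((KFlatLib.flatCover X).ψ.app E)
  exact ((DCoh.RSheafHomAdj P).ofNatIsoLeft e).isLeftAdjoint

/-- The complex of sheaf homomorphisms into a complex. -/
abbrev homCx (M : X.Modules) (J : CochainComplex X.Modules ℤ) : CochainComplex X.Modules ℤ :=
  haveI : (SheafHomX.hom M).Additive := (SheafHomX.adj M).right_adjoint_additive
  ((SheafHomX.hom M).mapHomologicalComplex (ComplexShape.up ℤ)).obj J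

/-- A short exact sequence gives a short exact sequence of complexes of homomorphisms. -/
theorem exists_shortExact {S : ShortComplex X.Modules} (hS : S.ShortExact) (J : CochainComplex X.Modules ℤ)
    [∀ n, Injective (J.X n)] :
    ∃ (f : homCx S.X₃ J ⟶ homCx S.X₂ J) (g : homCx S.X₂ J ⟶ homCx S.X₁ J) (w : f ≫ g = 0),
      (ShortComplex.mk f g w).ShortExact := by
  haveI := hS.mono_f
  haveI := hS.epi_g
  haveI : ∀ M : X.Modules, (SheafHomX.hom M).Additive := fun M => (SheafHomX.adj M).right_adjoint_additive
  refine ⟨(NatTrans.mapHomologicalComplex (SheafHomX.homMap S.g) _).app J,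
    (NatTrans.mapHomologicalComplex (SheafHomX.homMap S.f) _).app J, HomologicalComplex.hom_ext _ _ fun i => ?_, ?_⟩
  · show (SheafHomX.homMap S.g).app _ ≫ (SheafHomX.homMap S.f).app _ = 0
    rw [← SheafHomX.homMap_comp, S.zero, SheafHomX.homMap_zero]
  refine HomologicalComplex.shortExact_of_degreewise_shortExact _ fun i => ?_
  obtain ⟨w, h1, h2⟩ := ExtShShift.homMap_exact hS.exact (J.X i)
  exact { exact := h2, mono_f := h1, epi_g := ExtShShift.epi_homMap_injective S.f (J.X i) }

/-- `RHom` out of a module in degree zero. -/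
theorem nonempty_rhom_iso (M : X.Modules) (J : CochainComplex X.Modules ℤ) [J.IsKInjective]
    [∀ n, Injective (J.X n)] {K : DCoh.D X} (eK : DerivedCategory.Q.obj J ≅ K)
    [DCoh.HasLTensorCx ((HomologicalComplex.single X.Modules (ComplexShape.up ℤ) 0).obj M)]
    [DCoh.HasRSheafHom ((HomologicalComplex.single X.Modules (ComplexShape.up ℤ) 0).obj M)] :
    Nonempty ((DCoh.RSheafHom ((HomologicalComplex.single X.Modules (ComplexShape.up ℤ) 0).obj M)).obj K ≅
      DerivedCategory.Q.obj (homCx M J)) := by
  obtain ⟨a⟩ := KFlatLib.nonempty_RSheafHom_iso ((HomologicalComplex.single X.Modules (ComplexShape.up ℤ) 0).obj M) J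
  obtain ⟨b⟩ := KExact.RHomO.nonempty_iHom_single_iso M
  exact ⟨(DCoh.RSheafHom _).mapIso eK.symm ≪≫ a ≪≫ DerivedCategory.Q.mapIso (b.app J)⟩

/-- Homomorphisms out of the structure sheaf. -/
theorem nonempty_homCx_unit (J : CochainComplex X.Modules ℤ) :
    Nonempty (homCx (Coh.structureModule X) J ≅ J) := by
  haveI : (SheafHomX.hom (Coh.structureModule X)).Additive := (SheafHomX.adj _).right_adjoint_additive
  let e : SheafHomX.hom (Coh.structureModule X) ≅ 𝟭 X.Modules :=
    ((SheafHomX.adj (Coh.structureModule X)).ofNatIsoLeft (KFlatLib.tensorStructureIso X)).rightAdjointUniq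
      Adjunction.id
  exact ⟨(NatIso.mapHomologicalComplex e (ComplexShape.up ℤ)).app J ≪≫
    (Functor.mapHomologicalComplexIdIso _ _).app J⟩

/-- The triangle of duals of a short exact sequence whose middle term is the structure sheaf. -/
theorem exists_triangle {S : ShortComplex X.Modules} (hS : S.ShortExact) (e₂ : S.X₂ ≅ Coh.structureModule X)
    [DCoh.HasLTensorCx ((HomologicalComplex.single X.Modules (ComplexShape.up ℤ) 0).obj S.X₁)]
    [DCoh.HasRSheafHom ((HomologicalComplex.single X.Modules (ComplexShape.up ℤ) 0).obj S.X₁)]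
    [DCoh.HasLTensorCx ((HomologicalComplex.single X.Modules (ComplexShape.up ℤ) 0).obj S.X₃)]
    [DCoh.HasRSheafHom ((HomologicalComplex.single X.Modules (ComplexShape.up ℤ) 0).obj S.X₃)] :
    ∃ (a : (DCoh.RSheafHom ((HomologicalComplex.single X.Modules (ComplexShape.up ℤ) 0).obj S.X₃)).obj
        (DCoh.inD X (Coh.structureModule X)) ⟶ DCoh.inD X (Coh.structureModule X))
      (b : DCoh.inD X (Coh.structureModule X) ⟶
        (DCoh.RSheafHom ((HomologicalComplex.single X.Modules (ComplexShape.up ℤ) 0).obj S.X₁)).obj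
          (DCoh.inD X (Coh.structureModule X))) (c : _ ⟶ _),
      Triangle.mk a b c ∈ distTriang (DCoh.D X) := by
  haveI : HasInjectiveResolutions X.Modules := KFlatLib.hasInjectiveResolutions_modules
  let R := InjectiveResolution.of (Coh.structureModule X)
  let J : CochainComplex X.Modules ℤ := R.cochainComplex
  haveI : ∀ n, Injective (J.X n) := fun n => inferInstanceAs (Injective (R.cochainComplex.X n))
  haveI : J.IsKInjective := CochainComplex.isKInjective_of_injective _ 0
  haveI := KFlatLib.isIso_Q_map R.ι' inferInstance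
  let eJ : DerivedCategory.Q.obj J ≅ DCoh.inD X (Coh.structureModule X) :=
    (asIso (DerivedCategory.Q.map R.ι')).symm ≪≫
      ((DerivedCategory.singleFunctorIsoCompQ X.Modules 0).app _).symm
  obtain ⟨f, g, w, hse⟩ := exists_shortExact hS J
  obtain ⟨e1⟩ := nonempty_rhom_iso S.X₁ J eJ
  obtain ⟨e3⟩ := nonempty_rhom_iso S.X₃ J eJ
  obtain ⟨eu⟩ := nonempty_homCx_unit J
  let e2 : DerivedCategory.Q.obj (homCx S.X₂ J) ≅ DCoh.inD X (Coh.structureModule X) :=
    DerivedCategory.Q.mapIso
      ({ hom := (NatTrans.mapHomologicalComplex (SheafHomX.homMap e₂.inv) (ComplexShape.up ℤ)).app J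
         inv := (NatTrans.mapHomologicalComplex (SheafHomX.homMap e₂.hom) (ComplexShape.up ℤ)).app J
         hom_inv_id := HomologicalComplex.hom_ext _ _ fun i => by
           show (SheafHomX.homMap e₂.inv).app _ ≫ (SheafHomX.homMap e₂.hom).app _ = 𝟙 _
           rw [← SheafHomX.homMap_comp, Iso.hom_inv_id, SheafHomX.homMap_id]
         inv_hom_id := HomologicalComplex.hom_ext _ _ fun i => by
           show (SheafHomX.homMap e₂.hom).app _ ≫ (SheafHomX.homMap e₂.inv).app _ = 𝟙 _
           rw [← SheafHomX.homMap_comp, Iso.inv_hom_id, SheafHomX.homMap_id] } ≪≫ eu) ≪≫ eJ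
  refine ⟨e3.hom ≫ DerivedCategory.Q.map f ≫ e2.hom, e2.inv ≫ DerivedCategory.Q.map g ≫ e1.inv,
    e1.hom ≫ DerivedCategory.triangleOfSESδ hse ≫ e3.inv⟦(1 : ℤ)⟧', ?_⟩
  refine isomorphic_distinguished _ (DerivedCategory.triangleOfSES_distinguished hse) _ ?_
  refine Triangle.isoMk _ _ e3 e2.symm e1 ?_ ?_ ?_
  · exact ((Category.assoc _ _ _).trans (congrArg (e3.hom ≫ ·)
      ((Category.assoc _ _ _).trans ((congrArg (DerivedCategory.Q.map f ≫ ·) e2.hom_inv_id).trans
        (Category.comp_id _)))) : _)
  · exact ((Category.assoc _ _ _).trans (congrArg (e2.inv ≫ ·)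
      ((Category.assoc _ _ _).trans ((congrArg (DerivedCategory.Q.map g ≫ ·) e1.inv_hom_id).trans
        (Category.comp_id _)))) : _)
  · exact ((Category.assoc _ _ _).trans (congrArg (e1.hom ≫ ·)
      ((Category.assoc _ _ _).trans ((congrArg (DerivedCategory.triangleOfSESδ hse ≫ ·)
        ((Functor.map_comp _ _ _).symm.trans ((congrArg (shiftFunctor _ (1 : ℤ)).map e3.inv_hom_id).trans
          (CategoryTheory.Functor.map_id _ _)))).trans (Category.comp_id _)))) : _)

end General

variable {k : Type u} [Field k] {A : Over (Spec (CommRingCat.of k))} [GrpObj A] [IsProper A.hom]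

/-- The ideal of the origin. -/
abbrev idl (A : Over (Spec (CommRingCat.of k))) [GrpObj A] : A.left.Modules :=
  kernel (ClSub.unitToPush η[A].left)

theorem shortExact_idl :
    (ShortComplex.mk (kernel.ι (ClSub.unitToPush η[A].left)) (ClSub.unitToPush η[A].left)
      (kernel.condition _)).ShortExact := by
  haveI : IsClosedImmersion η[A].left := by
    haveI : IsClosedImmersion (η[A].left ≫ A.hom) := by
      rw [Over.w η[A]]; exact inferInstanceAs (IsClosedImmersion (𝟙 _))
    exact IsClosedImmersion.of_comp η[A].left A.hom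
  haveI : Epi (ClSub.unitToPush η[A].left) := HomPushSections.epi_unitToPush _
  exact { exact := ShortComplex.exact_of_f_is_kernel _ (kernelIsKernel _) }

/-- The triangle of duals of the ideal sequence of the origin. -/
theorem exists_triangle_idl
    [hI : DCoh.HasLTensorCx ((HomologicalComplex.single A.left.Modules (ComplexShape.up ℤ) 0).obj (idl A))]
    [hI' : DCoh.HasRSheafHom ((HomologicalComplex.single A.left.Modules (ComplexShape.up ℤ) 0).obj (idl A))]
    [hK : DCoh.HasLTensorCx ((HomologicalComplex.single A.left.Modules (ComplexShape.up ℤ) 0).obj (AVSkyDual.sky A))]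
    [hK' : DCoh.HasRSheafHom ((HomologicalComplex.single A.left.Modules (ComplexShape.up ℤ) 0).obj (AVSkyDual.sky A))] :
    ∃ (a : (DCoh.RSheafHom ((HomologicalComplex.single A.left.Modules (ComplexShape.up ℤ) 0).obj (AVSkyDual.sky A))).obj
        (DCoh.inD A.left (Coh.structureModule A.left)) ⟶ DCoh.inD A.left (Coh.structureModule A.left))
      (b : DCoh.inD A.left (Coh.structureModule A.left) ⟶
        (DCoh.RSheafHom ((HomologicalComplex.single A.left.Modules (ComplexShape.up ℤ) 0).obj (idl A))).obj
          (DCoh.inD A.left (Coh.structureModule A.left))) (c : _ ⟶ _),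
      Triangle.mk a b c ∈ distTriang (DCoh.D A.left) :=
  @exists_triangle _ _ (shortExact_idl (A := A)) (Iso.refl _) hI hI' hK hK'

end Groth.Agent.AVIdealDual
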