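import Groth.Agent.Lib.AVIndexStable
import Groth.Agent.Lib.AVKunneth

/-!
The index of a tensor product is at most the sum of the indices.

The box product of `L₁` and `L₂` on `A × A` has cohomology in degree `i₁ + i₂` only; after shearing, its slices
are translates of `L₁ ⊗ L₂`, so its cohomology vanishes below the index of `L₁ ⊗ L₂`.
-/

set_option autoImplicit false
set_option linter.style.haveILetI false
set_option linter.unusedSectionVars false
set_option backward.isDefEq.respectTransparency false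
set_option backward.isDefEq.respectTransparency.types false
set_option maxHeartbeats 1000000
set_option synthInstance.maxHeartbeats 400000

universe u

open CategoryTheory CategoryTheory.Limits MonoidalCategory CartesianMonoidalCategory MonObj AlgebraicGeometry TopologicalSpace Opposite

noncomputable section

namespace Groth.Agent.AVIndexAdd

open Groth.Agent Groth.Agent.H23 Groth.Agent.AVCube Groth.Agent.AVIndexStable
open scoped Groth.Agent.H23.PicMul

variable {k : Type u} [Field k] [IsAlgClosed k] {A : Over (Spec (CommRingCat.of k))} [GrpObj A] [IsProper A.hom]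
  [GeometricallyIntegral A.hom] {L₁ L₂ : A.left.Modules} (hL₁ : PicF.IsInvertible L₁) (hL₂ : PicF.IsInvertible L₂)

local notation3 "pt₀" => 𝟙_ (Over (Spec (CommRingCat.of k)))

/-- The box product. -/
abbrev box (L₁ L₂ : A.left.Modules) : (A ⊗ A).left.Modules :=
  CohB1.tensorMod ((Scheme.Modules.pullback (snd A A).left).obj L₂) ((Scheme.Modules.pullback (fst A A).left).obj L₁)

/-- The shearing automorphism `(x, y) ↦ (x, x y)`. -/
def shear : A ⊗ A ≅ A ⊗ A where
  hom := lift (fst A A) (fst A A * snd A A)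
  inv := lift (fst A A) ((fst A A)⁻¹ * snd A A)
  hom_inv_id := by
    apply CartesianMonoidalCategory.hom_ext
    · simp
    · rw [Category.assoc, lift_snd, MonObj.comp_mul, GrpObj.comp_inv, lift_fst, lift_snd, inv_mul_cancel_left,
        Category.id_comp]
  inv_hom_id := by
    apply CartesianMonoidalCategory.hom_ext
    · simp
    · rw [Category.assoc, lift_snd, MonObj.comp_mul, lift_fst, lift_snd, mul_inv_cancel_left, Category.id_comp]

include hL₁ hL₂

theorem isInvertible_box : PicF.IsInvertible (box L₁ L₂) :=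
  PicMul.isInvertible_tensor (PicClLib.isInvertible_pullback _ hL₂) (PicClLib.isInvertible_pullback _ hL₁)

/-- The box product has no cohomology above the sum of the indices. -/
theorem subsingleton_box {i₁ i₂ : ℕ} (h₁ : Conc A L₁ i₁) (h₂ : Conc A L₂ i₂) {n : ℕ} (hn : i₁ + i₂ < n) :
    Subsingleton (Coh.HH (A ⊗ A).left (box L₁ L₂) n) := by
  haveI : HasInjectiveResolutions A.left.Modules := KFlatLib.hasInjectiveResolutions_modules
  haveI : HasInjectiveResolutions (A ⊗ A).left.Modules := KFlatLib.hasInjectiveResolutions_modules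
  haveI : IsLocallyNoetherian A.left := LocallyOfFiniteType.isLocallyNoetherian A.hom
  haveI : IsProper (A ⊗ A).hom := inferInstanceAs (IsProper (pullback.fst A.hom A.hom ≫ A.hom))
  haveI : IsLocallyNoetherian (A ⊗ A).left := LocallyOfFiniteType.isLocallyNoetherian (A ⊗ A).hom
  haveI : LocallyOfFinitePresentation A.hom :=
    AlgStLib.locallyOfFinitePresentation_of_isLocallyNoetherian A.hom inferInstance
  haveI : Flat A.hom := inferInstance
  haveI : Coh.IsQCoh L₁ := (CurveDeg.isCoh_of_isInvertible hL₁).1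
  letI : A.left.Over (Spec (CommRingCat.of k)) := ⟨A.hom⟩
  letI : (A ⊗ A).left.Over (Spec (CommRingCat.of k)) := ⟨(A ⊗ A).hom⟩
  haveI : IsProper (A.left ↘ Spec (CommRingCat.of k)) := inferInstanceAs (IsProper A.hom)
  haveI : IsProper ((A ⊗ A).left ↘ Spec (CommRingCat.of k)) := inferInstanceAs (IsProper (A ⊗ A).hom)
  haveI := CurveCohLib.isNoetherian_of_proper (k := k) (X := A.left)
  haveI : (Scheme.Modules.pullback A.hom).Additive :=
    haveI := (Scheme.Modules.pullbackPushforwardAdjunction A.hom).isLeftAdjoint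
    Functor.additive_of_preserves_binary_products _
  have hE : FlatMod.IsFinLocFree L₂ := H23.PullPush.isFinLocFree_of_isInvertible hL₂
  let F := box L₁ L₂
  let Φ : (Spec (CommRingCat.of k)).Modules ⥤ A.left.Modules :=
    Scheme.Modules.pullback A.hom ⋙ (DCoh.tensorBi (X := A.left)).obj L₂
  have hR : ∀ m, Nonempty (Φ.obj ((Coh.Rpush A.hom m).obj L₁) ≅ (Coh.Rpush (snd A A).left m).obj F) := fun m => by
    obtain ⟨a⟩ := S0033.result A.hom A.hom _ _ AVVanish.isPullback_fst L₁ m
    obtain ⟨b⟩ := S0927.result (snd A A).left ((Scheme.Modules.pullback (fst A A).left).obj L₁) L₂ hE m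
    exact ⟨((DCoh.tensorBi (X := A.left)).obj L₂).mapIso a ≪≫ b⟩
  have hz : ∀ m, m ≠ i₁ → IsZero ((Coh.Rpush (snd A A).left m).obj F) := fun m hm => by
    obtain ⟨r, ⟨ε⟩, hr⟩ := AVIndex.exists_Rpush_free hL₁ m
    obtain rfl := hr.2 (h₁.subsingleton (isCoh hL₁) hm)
    exact (Φ.map_isZero (IsZero.of_iso ((IsZero.iff_id_eq_zero _).2 (by
      rw [← H23.Frame.total, Finset.univ_eq_empty, Finset.sum_empty])) ε)).of_iso (hR m).some.symm
  have hFc : Coh.IsCoh F := CurveDeg.isCoh_of_isInvertible (isInvertible_box hL₁ hL₂)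
  haveI := S0002.result k (A ⊗ A).left F hFc n
  refine (Module.finrank_eq_zero_iff_of_free k _).1 ?_
  obtain ⟨j, rfl⟩ : ∃ j, n = i₁ + j := ⟨n - i₁, by omega⟩
  rw [EulerOneDeg.finrank_eq k (snd A A).left (Over.w (snd A A)) i₁ hz j]
  obtain ⟨r, ⟨ε⟩, -⟩ := AVIndex.exists_Rpush_free hL₁ i₁
  rw [(CurveCohLib.hhEquiv (k := k) ((hR i₁).some.symm ≪≫ Φ.mapIso ε ≪≫
    ((DCoh.tensorBi (X := A.left)).obj L₂).mapIso (SeesawX.freePullIso A.hom r)) j).finrank_eq]
  haveI : Module.Finite k (Coh.HH A.left (((DCoh.tensorBi (X := A.left)).obj L₂).obj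
      (Coh.structureModule A.left)) j) :=
    S0002.result k A.left _ (CurveTensor.isCoh_tensor hE QCoh.isCoh_structureModule') j
  rw [CohGrowth.finrank_HH_map_free k ((DCoh.tensorBi (X := A.left)).obj L₂) r j,
    (CurveCohLib.hhEquiv (k := k) (KFlatLib.tensorUnitIso L₂) j).finrank_eq]
  rw [show Module.finrank k (Coh.HH A.left L₂ j) = 0 from h₂.1 j (by omega), mul_zero]

/-- The sheared box product has no cohomology below the index of the tensor product. -/
theorem subsingleton_shear {i : ℕ} (hc : Conc A (CohB1.tensorMod L₁ L₂) i) {n : ℕ} (hn : n < i) :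
    Subsingleton (Coh.HH (A ⊗ A).left ((Scheme.Modules.pullback (shear (A := A)).hom.left).obj (box L₁ L₂)) n) := by
  haveI : IsCommMonObj A := isCommMonObj_of_isProper_of_geometricallyIntegral A
  haveI : IsIntegral A.left := GeometricallyIntegral.isIntegral_of_subsingleton A.hom
  haveI : GeometricallyConnected A.hom := CubeAb.geometricallyConnected_of_integral A.hom
  haveI : Smooth A.hom := S7795.result A
  haveI : HasInjectiveResolutions A.left.Modules := KFlatLib.hasInjectiveResolutions_modules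
  haveI : HasInjectiveResolutions (A ⊗ A).left.Modules := KFlatLib.hasInjectiveResolutions_modules
  haveI : IsLocallyNoetherian A.left := LocallyOfFiniteType.isLocallyNoetherian A.hom
  haveI : JacobsonSpace A.left := LocallyOfFiniteType.jacobsonSpace A.hom
  haveI : IsProper (A ⊗ A).hom := inferInstanceAs (IsProper (pullback.fst A.hom A.hom ≫ A.hom))
  haveI : IsLocallyNoetherian (A ⊗ A).left := LocallyOfFiniteType.isLocallyNoetherian (A ⊗ A).hom
  haveI : LocallyOfFinitePresentation A.hom :=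
    AlgStLib.locallyOfFinitePresentation_of_isLocallyNoetherian A.hom inferInstance
  haveI : Flat A.hom := inferInstance
  haveI : IsProper (snd A A).left := inferInstanceAs (IsProper (pullback.snd A.hom A.hom))
  haveI : Flat (snd A A).left := inferInstanceAs (Flat (pullback.snd A.hom A.hom))
  haveI : LocallyOfFinitePresentation (snd A A).left :=
    inferInstanceAs (LocallyOfFinitePresentation (pullback.snd A.hom A.hom))
  let G := (Scheme.Modules.pullback (shear (A := A)).hom.left).obj (box L₁ L₂)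
  have hG : PicF.IsInvertible G := PicClLib.isInvertible_pullback _ (isInvertible_box hL₁ hL₂)
  let M := CohB1.tensorMod L₁ L₂
  have hM : PicF.IsInvertible M := PicMul.isInvertible_tensor hL₁ hL₂
  have hslice : ∀ (b : pt₀ ⟶ A) (m : ℕ), m ≠ i →
      Subsingleton (Coh.HH A.left ((Scheme.Modules.pullback (lift (𝟙 A) (toUnit A ≫ b)).left).obj G) m) := by
    intro b m hm
    obtain ⟨D, hD, eD⟩ := inv_pc hL₂ (𝟙 A)
    let N := CohB1.tensorMod ((Scheme.Modules.pullback (𝟙 A * (toUnit A ≫ b)).left).obj L₂) D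
    have hN : PicF.IsInvertible N := PicMul.isInvertible_tensor (PicClLib.isInvertible_pullback _ hL₂) hD
    have eN : PicF.cl N = ((pc hL₂ (𝟙 A * (toUnit A ≫ b)) * (pc hL₂ (𝟙 A))⁻¹ : (PicF.Cl A.left)ˣ) :
        PicF.Cl A.left) := by rw [PicMul.cl_tensor, eD, Units.val_mul, val_pc]
    have hinv : ∀ a : pt₀ ⟶ A,
        Nonempty ((Scheme.Modules.pullback (𝟙 A * (toUnit A ≫ a)).left).obj N ≅ N) := by
      intro a
      refine (PicGrp.cl_eq_cl_iff _ _).1 ?_
      show PicMul.pullHom _ (PicF.cl N) = PicF.cl N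
      rw [eN]
      refine congrArg Units.val (show Units.map (PicMul.pullHom _ : _ →* _) _ = _ from ?_)
      rw [map_mul, map_inv, pull_pc, pull_pc, MonObj.comp_mul, Category.comp_id, comp_toUnit_assoc]
      have h := cube_rel hL₂ (𝟙 A) (toUnit A ≫ a) (toUnit A ≫ b)
      rw [pc_const, pc_const, show pc hL₂ ((toUnit A ≫ a) * (toUnit A ≫ b)) = 1 by
        rw [← MonObj.comp_mul, pc_const]] at h
      simp only [_root_.mul_one] at h
      rw [← div_eq_mul_inv, ← div_eq_mul_inv, div_eq_div_iff_mul_eq_mul, h, mul_comm]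
    obtain ⟨x, hx⟩ := AVPhiSurj.exists_translate hM hN (finite_stab hM hc.euler_ne_zero) hinv
    have e : Nonempty ((Scheme.Modules.pullback (lift (𝟙 A) (toUnit A ≫ b)).left).obj G ≅
        CohB1.tensorMod N M) := by
      refine (PicGrp.cl_eq_cl_iff _ _).1 ?_
      show PicMul.pullHom _ (PicMul.pullHom _ (PicF.cl (box L₁ L₂))) = _
      rw [PicMul.cl_tensor, show PicF.cl (CohB1.tensorMod N M) = PicF.cl N * (PicF.cl L₁ * PicF.cl L₂) by
        rw [PicMul.cl_tensor, show PicF.cl M = PicF.cl L₁ * PicF.cl L₂ from PicMul.cl_tensor _ _], eN, ← val_pc hL₁, ← val_pc hL₂,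
        ← val_pc_id hL₁, ← val_pc_id hL₂, ← Units.val_mul, ← Units.val_mul, ← Units.val_mul]
      refine congrArg Units.val (show Units.map (PicMul.pullHom _ : _ →* _)
        (Units.map (PicMul.pullHom _ : _ →* _) _) = _ from ?_)
      simp only [map_mul, pull_pc, shear, lift_fst, lift_snd, MonObj.comp_mul]
      rw [_root_.mul_assoc (pc hL₂ (𝟙 A * (toUnit A ≫ b))), mul_comm (pc hL₁ (𝟙 A)) (pc hL₂ (𝟙 A)),
        inv_mul_cancel_left]
    refine QCoh.subsingleton_HH_of_iso (e.some ≪≫ hx.some).symm _ ?_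
    exact AVAmpleVan.subsingleton_HH_translate x M m (hc.subsingleton (isCoh hM) hm)
  have hfp : CohB1.IsFP G := KZ.LFRes.isFP_of_isCoh (CurveDeg.isCoh_of_isInvertible hG)
  have hfl : FlatMod.IsFlatOver (snd A A).left G := H23.Seesaw.isFlatOver_of_isInvertible _ hG
  haveI : Coh.IsQCoh G := QCoh.isQCoh_of_isFP hfp
  refine EulerOneDeg.subsingleton_low (snd A A).left i (fun m hm => S15985.result _ G hfp hfl m fun y => ?_) hn
  refine AVPhiSurj.subsingleton_fiberH_of_closedPoints hfp hfl ∅ isClosed_empty m (fun y hy _ => ?_) y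
    (Set.notMem_empty y)
  obtain ⟨b, hby⟩ := AVPhiSurj.exists_pt hy
  exact (AVPhiSurj.fiberH_iff _ A.hom y hy b.left (Over.w b) hby _ _ (AVPhiSurj.isPullback_lift_snd b) G m).2
    (hslice b m hm)

/-- **Subadditivity of the index.** -/
theorem index_le {i₁ i₂ i : ℕ} (h₁ : Conc A L₁ i₁) (h₂ : Conc A L₂ i₂)
    (hc : Conc A (CohB1.tensorMod L₁ L₂) i) : i ≤ i₁ + i₂ := by
  by_contra hlt
  haveI : IsProper (A ⊗ A).hom := inferInstanceAs (IsProper (pullback.fst A.hom A.hom ≫ A.hom))
  let s : (A ⊗ A).left ≅ (A ⊗ A).left := (Over.forget _).mapIso (shear (A := A))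
  have hall : ∀ n, Subsingleton (Coh.HH (A ⊗ A).left (box L₁ L₂) n) := fun n => by
    by_cases hn : i₁ + i₂ < n
    · exact subsingleton_box hL₁ hL₂ h₁ h₂ hn
    · refine QCoh.subsingleton_HH_of_iso ((Scheme.Modules.pullbackComp s.inv s.hom).app _ ≪≫
        (Scheme.Modules.pullbackCongr s.inv_hom_id).app _ ≪≫ (Scheme.Modules.pullbackId _).app _) _
        (AVPhiSurj.subsingleton_HH_pullback s.symm _ n (subsingleton_shear hL₁ hL₂ hc (by omega)))
  have h0 : @Curv2.euler k _ (A ⊗ A).left ⟨(A ⊗ A).hom⟩ (box L₁ L₂) = 0 := by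
    letI : (A ⊗ A).left.Over (Spec (CommRingCat.of k)) := ⟨(A ⊗ A).hom⟩
    unfold Curv2.euler
    refine finsum_eq_zero_of_forall_eq_zero fun n => ?_
    haveI := hall n
    rw [Module.finrank_zero_of_subsingleton]
    simp
  rw [AVKunneth.euler_box hL₁ hL₂ fun j hj => h₁.subsingleton (isCoh hL₁) hj] at h0
  exact (mul_ne_zero h₁.euler_ne_zero h₂.euler_ne_zero) h0

omit hL₁ hL₂ in
/-- Subadditivity of the index over any field. -/
theorem index_le' {K : Type u} [Field K] {X : Over (Spec (CommRingCat.of K))} [GrpObj X] [IsProper X.hom]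
    [GeometricallyIntegral X.hom] {L₁ L₂ M : X.left.Modules} (hL₁ : PicF.IsInvertible L₁)
    (hL₂ : PicF.IsInvertible L₂) (e : M ≅ CohB1.tensorMod L₁ L₂) {i₁ i₂ i : ℕ} (h₁ : Conc X L₁ i₁)
    (h₂ : Conc X L₂ i₂) (hc : Conc X M i) : i ≤ i₁ + i₂ := by
  let Ω := AlgebraicClosure K
  let σ : Spec (CommRingCat.of Ω) ⟶ Spec (CommRingCat.of K) := Spec.map (CommRingCat.ofHom (algebraMap K Ω))
  let B := Red.bc σ X
  haveI : IsProper B.hom := inferInstanceAs (IsProper (pullback.snd X.hom σ))
  haveI : GeometricallyIntegral B.hom := inferInstanceAs (GeometricallyIntegral (pullback.snd X.hom σ))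
  let p : B.left ⟶ X.left := pullback.fst X.hom σ
  have e' : Nonempty ((Scheme.Modules.pullback p).obj (CohB1.tensorMod L₁ L₂) ≅
      CohB1.tensorMod ((Scheme.Modules.pullback p).obj L₁) ((Scheme.Modules.pullback p).obj L₂)) := by
    refine (PicGrp.cl_eq_cl_iff _ _).1 ?_
    show PicMul.pullHom p (PicF.cl (CohB1.tensorMod L₁ L₂)) = _
    rw [PicMul.cl_tensor, map_mul, PicMul.cl_tensor]
    rfl
  exact index_le (A := B) (PicClLib.isInvertible_pullback _ hL₁) (PicClLib.isInvertible_pullback _ hL₂)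
    ((conc_bc_iff Ω (isCoh hL₁) i₁).2 h₁) ((conc_bc_iff Ω (isCoh hL₂) i₂).2 h₂)
    (((conc_bc_iff Ω (isCoh (PicMul.isInvertible_tensor hL₁ hL₂)) i).2 (hc.congr e)).congr e'.some)

end Groth.Agent.AVIndexAdd
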