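import Groth.Agent.Lib.AVIndexSegment
import Groth.Agent.Lib.AmpleEmbedPow
import Groth.Agent.Pic13Lib.HypSeq
import Groth.Agent.AmpleX.Pow
import Groth.Agent.VarDim.Top
import Groth.Agent.Lib.AVHilbert
import Groth.Agent.AmpleX.Generated

/-!
The jump of the index across a root of the Hilbert polynomial is at most the multiplicity of the root.

If `L^n ⊗ H^b` lies just left of the root and all `L^n ⊗ H^(b + a t)`, `1 ≤ t ≤ r`, lie right of it, successive
hyperplane sections bound `h^i (L^n ⊗ H^b)` by the cohomology of a module supported in dimension `g - r`.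
-/

set_option autoImplicit false
set_option linter.style.haveILetI false
set_option linter.unusedSectionVars false
set_option backward.isDefEq.respectTransparency false
set_option backward.isDefEq.respectTransparency.types false
set_option maxHeartbeats 1000000
set_option synthInstance.maxHeartbeats 400000

universe u

open CategoryTheory CategoryTheory.Limits MonoidalCategory CartesianMonoidalCategory MonObj AlgebraicGeometry TopologicalSpace Opposite

noncomputable section

namespace Groth.Agent.AVIndexJump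

open Groth.Agent Groth.Agent.H23
open scoped Groth.Agent.H23.PicMul

section Chain

variable {k : Type u} [Field k] {X : Scheme.{u}} [X.Over (Spec (CommRingCat.of k))]
  [IsProper (X ↘ Spec (CommRingCat.of k))]
  {N : ℕ} (e : X ⟶ CohB1.ProjSpace N k) [IsClosedImmersion e]
  {L H : X.Modules} (hL : PicF.IsInvertible L) (hH : PicF.IsInvertible H)

/-- The hyperplane class. -/
abbrev hyp : X.Modules := (Scheme.Modules.pullback e).obj (Twist.twistProjSpace N k 1)

/-- The cohomology of the twists of `M` by `L^n ⊗ H^b ⊗ O(t)`. -/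
def f (L H M : X.Modules) (n b t j : ℕ) : ℕ := CohGrowth.hgt k ![L, H, hyp e] j M ![n, b, t]

theorem cl_tensorPows {r : ℕ} (M : X.Modules) (L : Fin r → X.Modules) (n : Fin r → ℕ) :
    PicF.cl (Curv2.tensorPows M r L n) = PicF.cl M * ∏ i, PicF.cl (L i) ^ n i := by
  induction r with
  | zero => rw [Fin.prod_univ_zero, _root_.mul_one]; rfl
  | succ r ih =>
    show PicF.cl (CohB1.tensorMod _ _) = _
    rw [PicMul.cl_tensor, ih, PicMul.cl_tensorPow, Fin.prod_univ_castSucc, _root_.mul_assoc]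

theorem f_eq (L H M Y : X.Modules) (n b t j : ℕ)
    (hY : PicF.cl Y = PicF.cl M * (PicF.cl L ^ n * PicF.cl H ^ b * PicF.cl (hyp e) ^ t)) :
    Module.finrank k (Coh.HH X Y j) = f e L H M n b t j :=
  (CurveCohLib.hhEquiv (k := k) ((PicGrp.cl_eq_cl_iff Y _).1 (by
    rw [hY, cl_tensorPows, Fin.prod_univ_three]
    rfl)).some j).finrank_eq

include hL hH

theorem inv3 : ∀ i, PicF.IsInvertible (![L, H, hyp e] i) := by
  intro i
  fin_cases i
  · exact hL
  · exact hH
  · exact Pic13Lib.isInvertible_tw e 1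

/-- One hyperplane section. -/
theorem exists_step [Infinite k] {M : X.Modules} (hM : Coh.IsCoh M) :
    ∃ G : X.Modules, Coh.IsCoh G ∧ (∀ x ∈ CohB1.support G, ∃ y ∈ CohB1.support M, y ⤳ x ∧ y ≠ x) ∧
      ∀ n b t j : ℕ, f e L H M n b t j ≤ f e L H M n b (t + 1) j + f e L H G n b (t + 1) (j - 1) ∧
        f e L H G n b (t + 1) j ≤ f e L H M n b (t + 1) j + f e L H M n b t (j + 1) := by
  obtain ⟨G, hG, hsupp, hA⟩ := Pic13Lib.exists_hyp e hM
  refine ⟨G, hG, hsupp, fun n b t j => ?_⟩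
  let A := CohB1.tensorMod (CohB1.tensorMod (CohB1.tensorPow L n) (CohB1.tensorPow H b))
    (CohB1.tensorPow (hyp e) (t + 1))
  have hAi : PicF.IsInvertible A := PicMul.isInvertible_tensor
    (PicMul.isInvertible_tensor (PicMul.isInvertible_tensorPow hL n) (PicMul.isInvertible_tensorPow hH b))
    (PicMul.isInvertible_tensorPow (Pic13Lib.isInvertible_tw e 1) _)
  obtain ⟨S, hS, h1, h2, h3, c1, c2, c3⟩ := hA A hAi
  have eA : PicF.cl A = PicF.cl L ^ n * PicF.cl H ^ b * PicF.cl (hyp e) ^ (t + 1) := by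
    simp only [A, PicMul.cl_tensor, PicMul.cl_tensorPow]
  have e1 : Pic13Lib.tw e (-1) * PicF.cl A = PicF.cl L ^ n * PicF.cl H ^ b * PicF.cl (hyp e) ^ t := by
    have h : Pic13Lib.tw e (-1) * PicF.cl (hyp e) = 1 := by
      show Pic13Lib.tw e (-1) * Pic13Lib.tw e 1 = 1
      rw [← Pic13Lib.tw_add, neg_add_cancel, Pic13Lib.tw_zero]
    rw [eA, pow_succ, mul_left_comm, mul_left_comm (Pic13Lib.tw e (-1)) (PicF.cl (hyp e) ^ t), h, _root_.mul_one]
  have k1 : ∀ j, Module.finrank k (Coh.HH X S.X₁ j) = f e L H M n b t j := fun j =>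
    f_eq e L H M _ n b t j (by rw [c1, _root_.mul_assoc, e1])
  have k2 : ∀ j, Module.finrank k (Coh.HH X S.X₂ j) = f e L H M n b (t + 1) j := fun j =>
    f_eq e L H M _ n b (t + 1) j (by rw [c2, eA])
  have k3 : ∀ j, Module.finrank k (Coh.HH X S.X₃ j) = f e L H G n b (t + 1) j := fun j =>
    f_eq e L H G _ n b (t + 1) j (by rw [c3, eA])
  exact ⟨by rw [← k1, ← k2, ← k3]; exact CohGrowth.finrank_left_le k hS h1 h2 h3 j,
    by rw [← k3, ← k2, ← k1]; exact CohGrowth.finrank_right_le k hS h1 h2 h3 j⟩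

/-- Successive sections push the degree down and the dimension of the support with it. -/
theorem exists_chain [Infinite k] {g : ℕ} (hg : topologicalKrullDim X ≤ g) (R : ℕ) :
    ∀ r, r ≤ R → ∃ M : X.Modules, Coh.IsCoh M ∧
      (∀ x ∈ CohB1.support M, VarDim.deg (X ↘ Spec (CommRingCat.of k)) x + r ≤ g) ∧
      ∀ n b i' : ℕ, (∀ t j : ℕ, 1 ≤ t → t ≤ R → i' < j → f e L H (Coh.structureModule X) n b t j = 0) →
        (∀ t j : ℕ, r < t → t ≤ R → i' < j → f e L H M n b t j = 0) ∧
        ∀ i : ℕ, i' + r ≤ i → f e L H (Coh.structureModule X) n b 0 i ≤ f e L H M n b r (i - r) := by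
  haveI := CurveCohLib.isNoetherian_of_proper (k := k) (X := X)
  let p := X ↘ Spec (CommRingCat.of k)
  intro r
  induction r with
  | zero =>
    intro _
    refine ⟨Coh.structureModule X, QCoh.isCoh_structureModule', fun x _ => ?_, fun n b i' h => ⟨fun t j ht => h t j ht,
      fun i _ => le_rfl⟩⟩
    rw [VarDim.topologicalKrullDim_eq_iSup_deg p] at hg
    have := (le_iSup (fun x => ((VarDim.deg p x : ℕ∞) : WithBot ℕ∞)) x).trans hg
    rw [add_zero]
    exact_mod_cast this
  | succ r ih =>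
    intro hr
    obtain ⟨M, hM, hdeg, hM'⟩ := ih (by omega)
    obtain ⟨G, hG, hsupp, hstep⟩ := exists_step e hL hH hM
    refine ⟨G, hG, fun x hx => ?_, fun n b i' h => ?_⟩
    · obtain ⟨y, hy, hyx, hne⟩ := hsupp x hx
      have h1 : VarDim.deg p y + r ≤ g := hdeg y hy
      have h2 : VarDim.deg p x < VarDim.deg p y :=
        lt_of_le_of_ne (VarDim.deg_le_of_specializes p hyx) fun he =>
          hne (VarDim.eq_of_specializes_of_deg_le p hyx he.ge)
      show VarDim.deg p x + (r + 1) ≤ g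
      omega
    obtain ⟨hv, hi⟩ := hM' n b i' h
    refine ⟨fun t j ht htR hj => ?_, fun i hir => ?_⟩
    · obtain ⟨t, rfl⟩ : ∃ t', t = t' + 1 := ⟨t - 1, by omega⟩
      have h1 := (hstep n b t j).2
      rw [hv (t + 1) j (by omega) htR hj, hv t (j + 1) (by omega) (by omega) (by omega)] at h1
      omega
    · have h1 := (hi i (by omega)).trans (hstep n b r (i - r)).1
      rw [hv (r + 1) (i - r) (by omega) hr (by omega), zero_add, show i - r - 1 = i - (r + 1) by omega] at h1
      exact h1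

end Chain

section Jump

open Groth.Agent.AVIndexStable Groth.Agent.AVIndexSegment

variable {k : Type u} [Field k] {A : Over (Spec (CommRingCat.of k))} [GrpObj A] [IsProper A.hom]
  [GeometricallyIntegral A.hom] {L H : A.left.Modules} (hL : PicF.IsInvertible L) (hH : PicF.IsInvertible H)

include hL hH

theorem eval_χ₂ {g : ℕ} (hg : topologicalKrullDim ↥A.left = g) (Φ : Polynomial ℚ)
    (hΦ : ∀ n : ℕ, Φ.eval (n : ℚ) = (@Curv2.euler k _ A.left ⟨A.hom⟩ (CohB1.tensorMod L (CohB1.tensorPow H n)) : ℚ))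
    {n : ℕ} (hn : 0 < n) (b : ℕ) :
    ((χ₂ L H n b : ℤ) : ℝ) = (n : ℝ) ^ g * (Φ.map (algebraMap ℚ ℝ)).eval ((b : ℝ) / n) := by
  have := congrArg (algebraMap ℚ ℝ) (χ₂_eq_eval hL hH hg Φ hΦ hn b)
  rw [map_intCast, map_mul, map_pow, map_natCast] at this
  rw [this, ← Polynomial.eval_map_apply, map_div₀, map_natCast, map_natCast]

/-- The index is constant along a segment without roots. -/
theorem eq_of_segment {g : ℕ} (hg : topologicalKrullDim ↥A.left = g) (Φ : Polynomial ℚ)
    (hΦ : ∀ n : ℕ, Φ.eval (n : ℚ) = (@Curv2.euler k _ A.left ⟨A.hom⟩ (CohB1.tensorMod L (CohB1.tensorPow H n)) : ℚ))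
    {n b δ : ℕ} (hn : 0 < n) {i i' : ℕ} (hi : Conc A (two L H n b) i) (hi' : Conc A (two L H n (b + δ)) i')
    (hroot : ∀ t : ℝ, (b : ℝ) / n ≤ t → t ≤ ((b + δ : ℕ) : ℝ) / n → (Φ.map (algebraMap ℚ ℝ)).eval t ≠ 0) :
    i = i' := by
  have hL' : PicF.IsInvertible (two L H n b) :=
    PicMul.isInvertible_tensor (PicMul.isInvertible_tensorPow hL n) (PicMul.isInvertible_tensorPow hH b)
  let Ψ : Polynomial ℚ := Polynomial.C ((n : ℚ) ^ g) *
    Φ.comp (Polynomial.C ((b : ℚ) / n) + Polynomial.C ((δ : ℚ) / n) * Polynomial.X)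
  refine eq_of_no_root hL' (PicMul.isInvertible_tensorPow hH δ)
    ((PicGrp.cl_eq_cl_iff (two L H n (b + δ)) _).1 (by
      simp only [PicMul.cl_tensor, PicMul.cl_tensorPow, pow_add, _root_.mul_assoc])).some hi hi' Ψ (fun m => ?_) ?_
  · have e : Nonempty (two L H n (b + δ * m) ≅ CohB1.tensorMod (two L H n b) (CohB1.tensorPow (CohB1.tensorPow H δ) m)) :=
      (PicGrp.cl_eq_cl_iff _ _).1 (by simp only [PicMul.cl_tensor, PicMul.cl_tensorPow, pow_add, pow_mul, _root_.mul_assoc])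
    have h := χ₂_eq_eval hL hH hg Φ hΦ hn (b + δ * m)
    rw [show χ₂ L H n (b + δ * m) = @Curv2.euler k _ A.left ⟨A.hom⟩ _ from
      by letI : A.left.Over (Spec (CommRingCat.of k)) := ⟨A.hom⟩; exact CurveCohLib.euler_congr e.some] at h
    rw [h]
    simp only [Ψ, Polynomial.eval_mul, Polynomial.eval_C, Polynomial.eval_comp, Polynomial.eval_add,
      Polynomial.eval_X]
    congr 2
    push_cast
    ring
  · intro t ht0 ht1
    simp only [Ψ, Polynomial.map_mul, Polynomial.map_C, Polynomial.map_comp, Polynomial.map_add,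
      Polynomial.map_X, Polynomial.eval_mul, Polynomial.eval_C, Polynomial.eval_comp, Polynomial.eval_add,
      Polynomial.eval_X]
    refine mul_ne_zero (by simp [hn.ne']) (hroot _ ?_ ?_)
    · simp only [map_div₀, map_natCast]
      have : 0 ≤ (δ : ℝ) / n * t := by positivity
      linarith
    · simp only [map_div₀, map_natCast]
      have : (δ : ℝ) / n * t ≤ (δ : ℝ) / n := mul_le_of_le_one_right (by positivity) ht1
      push_cast
      rw [add_div]
      linarith

/-- **The jump of the index is at most the multiplicity of the root.** -/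
theorem index_le_add_rootMultiplicity [Infinite k] (hamp : CohB1.IsAmple H) {M : A.left.Modules}
    (e : M ≅ CohB1.tensorMod L H) {i i' : ℕ} (hi : Conc A L i) (hi' : Conc A M i') (Φ : Polynomial ℚ)
    (hΦ : ∀ n : ℕ, Φ.eval (n : ℚ) = (@Curv2.euler k _ A.left ⟨A.hom⟩ (CohB1.tensorMod L (CohB1.tensorPow H n)) : ℚ))
    (τ : ℝ) (hτ0 : 0 ≤ τ) (hτ1 : τ < 1)
    (huniq : ∀ t : ℝ, 0 ≤ t → t ≤ 1 → (Φ.map (algebraMap ℚ ℝ)).eval t = 0 → t = τ) :
    i ≤ i' + (Φ.map (algebraMap ℚ ℝ)).rootMultiplicity τ := by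
  let P := Φ.map (algebraMap ℚ ℝ)
  by_contra hlt
  push Not at hlt
  haveI : IsIntegral A.left := GeometricallyIntegral.isIntegral_of_subsingleton A.hom
  letI : A.left.Over (Spec (CommRingCat.of k)) := ⟨A.hom⟩
  haveI : IsProper (A.left ↘ Spec (CommRingCat.of k)) := inferInstanceAs (IsProper A.hom)
  haveI := CurveCohLib.isNoetherian_of_proper (k := k) (X := A.left)
  obtain ⟨g, hg⟩ := AVTors.exists_dimNat A
  let mμ := P.rootMultiplicity τ
  let r := i - i'
  have hrmμ : mμ < r := by show mμ < i - i'; have : i' + mμ < i := hlt; omega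
  have hig : i ≤ g := by
    by_contra h
    exact hi.2 (h_eq_zero_of_gt hg hL (not_le.1 h))
  have hP0 : P.eval 0 ≠ 0 := by
    have h := eval_χ₂ hL hH hg Φ hΦ one_pos 0
    simp only [Nat.cast_one, one_pow, _root_.one_mul, Nat.cast_zero, zero_div] at h
    show P.eval 0 ≠ 0
    rw [← h, Int.cast_ne_zero]
    have e0 : Nonempty (two L H 1 0 ≅ L) := (PicGrp.cl_eq_cl_iff _ _).1 (by
      simp only [PicMul.cl_tensor, PicMul.cl_tensorPow, pow_zero, pow_one, _root_.mul_one])
    rw [show χ₂ L H 1 0 = @Curv2.euler k _ A.left ⟨A.hom⟩ L from CurveCohLib.euler_congr e0.some]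
    exact hi.euler_ne_zero
  have hPne : P ≠ 0 := fun h => hP0 (by rw [h, Polynomial.eval_zero])
  obtain ⟨ψ, hψ, hψτ⟩ := Polynomial.exists_eq_pow_rootMultiplicity_mul_and_not_dvd P hPne τ
  rw [Polynomial.dvd_iff_isRoot, Polynomial.IsRoot.def] at hψτ
  have hψne : ∀ t : ℝ, 0 ≤ t → t ≤ 1 → ψ.eval t ≠ 0 := fun t h0 h1 hz => by
    have ht := huniq t h0 h1 (by
      show P.eval t = 0
      rw [hψ, Polynomial.eval_mul, hz, mul_zero])
    exact hψτ (ht ▸ hz)
  obtain ⟨t₀, ht₀, hmin⟩ := (isCompact_Icc (a := (0 : ℝ)) (b := 1)).exists_isMinOn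
    (Set.nonempty_Icc.2 zero_le_one) (f := fun t => |ψ.eval t|) (by fun_prop)
  let c := |ψ.eval t₀|
  have hc : 0 < c := abs_pos.2 (hψne t₀ ht₀.1 ht₀.2)
  have hτpos : 0 < τ := lt_of_le_of_ne hτ0 fun h => by
    by_cases hr : P.eval τ = 0
    · rw [← h] at hr
      exact hP0 hr
    · have hno : ∀ t : ℝ, 0 ≤ t → t ≤ 1 → P.eval t ≠ 0 := fun t h0 h1 hz => hr (huniq t h0 h1 hz ▸ hz)
      have := eq_of_no_root hL hH e hi hi' Φ hΦ hno
      omega
  -- hyperplanes
  obtain ⟨N, emb, a₀, ha₀, hemb, hcomp, ⟨eHs⟩⟩ :=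
    AmpleEmbedPow.exists_closedImmersion A.hom (AmpleX.isAmple_tensorPow hamp two_pos)
  haveI := hemb
  let a := 2 * a₀
  have eHs' : PicF.cl (hyp emb) = PicF.cl H ^ a := by
    rw [show PicF.cl (hyp emb) = PicF.cl (CohB1.tensorPow (CohB1.tensorPow H 2) a₀) from
      (PicGrp.cl_eq_cl_iff _ _).2 ⟨eHs⟩, PicMul.cl_tensorPow, PicMul.cl_tensorPow, ← pow_mul]
  have hf : ∀ n b t j, f emb L H (Coh.structureModule A.left) n b t j = h A (two L H n (b + a * t)) j :=
    fun n b t j => (f_eq emb L H _ _ n b t j (by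
      simp only [PicMul.cl_tensor, PicMul.cl_tensorPow, eHs', ← pow_mul, pow_add, _root_.mul_assoc,
        show PicF.cl (Coh.structureModule A.left) = (1 : PicF.Cl A.left) from PicMul.one_def.symm,
        _root_.one_mul])).symm
  obtain ⟨G, hG, hdeg, hGstep⟩ := exists_chain emb hL hH hg.le r r le_rfl
  let S : Closeds A.left := ⟨CohB1.support G, QCoh.isClosed_support_of_isFT hG.1 hG.2⟩
  have hdimS : topologicalKrullDim ↥(S : Set A.left) < ((g - r + 1 : ℕ) : WithBot ℕ∞) := by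
    refine lt_of_le_of_lt (b := ((g - r : ℕ) : WithBot ℕ∞)) ?_ (by exact_mod_cast Nat.lt_succ_self _)
    rw [VarDim.topologicalKrullDim_set_eq_iSup_deg A.hom S.isClosed]
    refine iSup_le fun z => ?_
    have h1 : VarDim.deg A.hom z.1 + r ≤ g := hdeg z.1 z.2
    have h2 : VarDim.deg A.hom z.1 ≤ g - r := by omega
    show (((VarDim.deg A.hom z.1 : ℕ) : ℕ∞) : WithBot ℕ∞) ≤ (((g - r : ℕ) : ℕ∞) : WithBot ℕ∞)
    exact_mod_cast h2
  obtain ⟨C, hC⟩ := CohGrowth.isBdd_of_dim_lt k (inv3 emb hL hH) (g - r + 1) S hdimS G hG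
    (fun _ hx => hx) (i - r)
  -- the choice of the exponents
  obtain ⟨n₀, hn₀⟩ := exists_nat_gt (max (max (1 / τ) ((a * r : ℕ) / (1 - τ)))
    (max ((r : ℝ) + 1) ((C : ℝ) * 3 ^ g / c)))
  simp only [max_lt_iff] at hn₀
  obtain ⟨⟨h1τ, har⟩, hr1, hCc⟩ := hn₀
  let n := n₀
  have hn : 0 < n := by
    have : (0 : ℝ) < n := lt_trans (by positivity) hr1
    exact_mod_cast this
  have hn' : (0 : ℝ) < n := by exact_mod_cast hn
  have hnτ : 1 ≤ (n : ℝ) * τ := by
    rw [div_lt_iff₀ hτpos] at h1τ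
    exact h1τ.le
  have hfl : 1 ≤ ⌊(n : ℝ) * τ⌋₊ := Nat.le_floor (by exact_mod_cast hnτ)
  let b := ⌊(n : ℝ) * τ⌋₊ - 1
  have hb1 : ((b : ℝ)) + 1 ≤ n * τ := by
    have : b + 1 = ⌊(n : ℝ) * τ⌋₊ := Nat.sub_add_cancel hfl
    calc ((b : ℝ)) + 1 = ((b + 1 : ℕ) : ℝ) := by push_cast; ring
      _ = (⌊(n : ℝ) * τ⌋₊ : ℝ) := by rw [this]
      _ ≤ n * τ := Nat.floor_le (by positivity)
  have hb2 : (n : ℝ) * τ < b + 2 := by
    have h := Nat.lt_floor_add_one ((n : ℝ) * τ)
    rw [← Nat.sub_add_cancel hfl, show ⌊(n : ℝ) * τ⌋₊ - 1 = b from rfl] at h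
    push_cast at h
    linarith
  have hbn : (b : ℝ) / n ≤ τ - 1 / n := by
    rw [le_sub_iff_add_le, ← add_div, div_le_iff₀ hn']
    linarith
  have ha2 : 2 ≤ a := by show 2 ≤ 2 * a₀; omega
  -- the indices
  have hrootR : ∀ t : ℝ, τ < t → t ≤ 1 → P.eval t ≠ 0 := fun t ht ht1 hz =>
    ht.ne' (huniq t (by linarith) ht1 hz)
  have hrootL : ∀ t : ℝ, 0 ≤ t → t < τ → P.eval t ≠ 0 := fun t ht0 ht hz =>
    ht.ne (huniq t ht0 (by linarith) hz)
  have hconc : ∀ b' : ℕ, P.eval ((b' : ℝ) / n) ≠ 0 → ∃ j, Conc A (two L H n b') j := fun b' hb' =>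
    exists_conc (PicMul.isInvertible_tensor (PicMul.isInvertible_tensorPow hL n) (PicMul.isInvertible_tensorPow hH b'))
      fun h0 => by
        have hq := eval_χ₂ hL hH hg Φ hΦ hn b'
        rw [show χ₂ L H n b' = 0 from h0, Int.cast_zero] at hq
        exact mul_ne_zero (pow_ne_zero _ hn'.ne') hb' hq.symm
  have hleft : Conc A (two L H n b) i := by
    have hlt' : (b : ℝ) / n < τ := hbn.trans_lt (by simp [hn'])
    obtain ⟨j, hj⟩ := hconc b (hrootL _ (by positivity) hlt')
    have h0 : Conc A (two L H n 0) i := (conc_pow hL hi hn).congr ((PicGrp.cl_eq_cl_iff _ _).1 (by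
      simp only [PicMul.cl_tensor, PicMul.cl_tensorPow, pow_zero, _root_.mul_one])).some
    obtain rfl := eq_of_segment hL hH hg Φ hΦ (δ := b) hn h0 (by rwa [zero_add]) fun t ht ht' => by
      rw [Nat.cast_zero, zero_div] at ht
      rw [zero_add] at ht'
      exact hrootL t ht (ht'.trans_lt hlt')
    exact hj
  have hright : ∀ t : ℕ, 1 ≤ t → t ≤ r → Conc A (two L H n (b + a * t)) i' := fun t ht htr => by
    have hat : (2 : ℝ) ≤ ((a * t : ℕ) : ℝ) := by
      exact_mod_cast ha2.trans (Nat.le_mul_of_pos_right _ ht)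
    have hgt' : τ < ((b + a * t : ℕ) : ℝ) / n := by
      rw [lt_div_iff₀ hn']
      push_cast at hat ⊢
      linarith
    have hle : b + a * t ≤ n := by
      rw [div_lt_iff₀ (by linarith)] at har
      have h1 : ((b + a * t : ℕ) : ℝ) ≤ n := by
        have h2 : ((a * t : ℕ) : ℝ) ≤ ((a * r : ℕ) : ℝ) := by exact_mod_cast Nat.mul_le_mul_left a htr
        push_cast at h2 har ⊢
        nlinarith [hb1]
      exact_mod_cast h1
    obtain ⟨j, hj⟩ := hconc (b + a * t) (hrootR _ hgt' (div_le_one_of_le₀ (by exact_mod_cast hle) hn'.le))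
    have hM : PicF.IsInvertible M := PicMul.isInvertible_of_iso e.symm (PicMul.isInvertible_tensor hL hH)
    have hn1 : Conc A (two L H n n) i' := (conc_pow hM hi' hn).congr ((PicGrp.cl_eq_cl_iff _ _).1 (by
      simp only [PicMul.cl_tensor, PicMul.cl_tensorPow, (PicGrp.cl_eq_cl_iff _ _).2 ⟨e⟩, mul_pow])).some
    obtain rfl := eq_of_segment hL hH hg Φ hΦ (δ := n - (b + a * t)) hn hj (by rwa [Nat.add_sub_cancel' hle])
      fun s hs hs' => by
        rw [Nat.add_sub_cancel' hle, div_self hn'.ne'] at hs'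
        exact hrootR s (hgt'.trans_le hs) hs'
    exact hj
  -- the two bounds
  have hup : h A (two L H n b) i ≤ C * (3 ^ g * n ^ (g - r)) := by
    have hv : ∀ t j : ℕ, 1 ≤ t → t ≤ r → i' < j → f emb L H (Coh.structureModule A.left) n b t j = 0 :=
      fun t j ht htr hj => by rw [hf]; exact (hright t ht htr).1 j hj.ne'
    have h1 := ((hGstep n b i' hv).2 i (by show i' + (i - i') ≤ i; omega)).trans (hC ![n, b, r])
    rw [hf, mul_zero, add_zero, Fin.sum_univ_three, CohGrowth.w_succ] at h1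
    refine h1.trans (Nat.mul_le_mul_left _ ?_)
    simp only [Matrix.cons_val_zero, Matrix.cons_val_one, Matrix.cons_val]
    have hb' : b ≤ n := by
      have : (b : ℝ) ≤ n := by nlinarith [hb1]
      exact_mod_cast this
    have hrn : r + 1 ≤ n := by exact_mod_cast hr1.le
    calc (n + b + r + 1) ^ (g - r) ≤ (3 * n) ^ (g - r) := Nat.pow_le_pow_left (by omega) _
      _ = 3 ^ (g - r) * n ^ (g - r) := mul_pow _ _ _
      _ ≤ 3 ^ g * n ^ (g - r) := Nat.mul_le_mul_right _ (Nat.pow_le_pow_right (by norm_num) (Nat.sub_le _ _))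
  have hlow : (n : ℝ) ^ g * ((1 / n) ^ mμ * c) ≤ (h A (two L H n b) i : ℝ) := by
    rw [← hleft.natAbs_euler, Nat.cast_natAbs, Int.cast_abs]
    show _ ≤ |((χ₂ L H n b : ℤ) : ℝ)|
    rw [eval_χ₂ hL hH hg Φ hΦ hn b, abs_mul, abs_pow, Nat.abs_cast]
    refine mul_le_mul_of_nonneg_left ?_ (by positivity)
    rw [show Φ.map (algebraMap ℚ ℝ) = P from rfl, hψ, Polynomial.eval_mul, Polynomial.eval_pow, Polynomial.eval_sub,
      Polynomial.eval_X, Polynomial.eval_C, abs_mul, abs_pow]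
    refine mul_le_mul (pow_le_pow_left₀ (by positivity) ?_ _) (hmin ⟨by positivity, by linarith [show (0:ℝ) < 1 / n by positivity]⟩)
      hc.le (by positivity)
    rw [abs_sub_comm]
    exact le_trans (by linarith) (le_abs_self _)
  have hupR : (h A (two L H n b) i : ℝ) ≤ (C : ℝ) * (3 ^ g * (n : ℝ) ^ (g - r)) := by exact_mod_cast hup
  have hrg : r ≤ g := by show i - i' ≤ g; omega
  have key : c * (n : ℝ) ≤ C * 3 ^ g := by
    have h1 := hlow.trans hupR
    have e1 : (n : ℝ) ^ g = n ^ (g - r) * n ^ (r - mμ - 1) * n * n ^ mμ := by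
      rw [← pow_add, ← pow_succ, ← pow_add]; congr 1; omega
    have e2 : (n : ℝ) ^ g * ((1 / n) ^ mμ * c) = n ^ (g - r) * (n ^ (r - mμ - 1) * (c * n)) := by
      rw [e1, one_div, inv_pow]
      field_simp
    rw [e2, show (C : ℝ) * (3 ^ g * (n : ℝ) ^ (g - r)) = n ^ (g - r) * (C * 3 ^ g) by ring] at h1
    refine le_trans ?_ (le_of_mul_le_mul_left h1 (pow_pos hn' _))
    exact le_mul_of_one_le_left (by positivity) (one_le_pow₀ (by exact_mod_cast hn))
  rw [div_lt_iff₀ hc] at hCc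
  linarith

end Jump

section Count

open Groth.Agent.AVIndexStable Groth.Agent.AVIndexSegment

variable {k : Type u} [Field k] {A : Over (Spec (CommRingCat.of k))} [GrpObj A] [IsProper A.hom]
  [GeometricallyIntegral A.hom] {L H : A.left.Modules} (hL : PicF.IsInvertible L) (hamp : CohB1.IsAmple H)

include hL hamp

/-- The jump bound over any field. -/
theorem index_le_add {M : A.left.Modules} (e : M ≅ CohB1.tensorMod L H) {i i' : ℕ} (hi : Conc A L i)
    (hi' : Conc A M i') (Φ : Polynomial ℚ)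
    (hΦ : ∀ n : ℕ, Φ.eval (n : ℚ) = (@Curv2.euler k _ A.left ⟨A.hom⟩ (CohB1.tensorMod L (CohB1.tensorPow H n)) : ℚ))
    (τ : ℝ) (hτ0 : 0 ≤ τ) (hτ1 : τ < 1)
    (huniq : ∀ t : ℝ, 0 ≤ t → t ≤ 1 → (Φ.map (algebraMap ℚ ℝ)).eval t = 0 → t = τ) :
    i ≤ i' + (Φ.map (algebraMap ℚ ℝ)).rootMultiplicity τ := by
  let Ω := AlgebraicClosure k
  let σ : Spec (CommRingCat.of Ω) ⟶ Spec (CommRingCat.of k) := Spec.map (CommRingCat.ofHom (algebraMap k Ω))
  let B := Red.bc σ A
  haveI : IsProper B.hom := inferInstanceAs (IsProper (pullback.snd A.hom σ))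
  haveI : GeometricallyIntegral B.hom := inferInstanceAs (GeometricallyIntegral (pullback.snd A.hom σ))
  haveI : CompactSpace B.left := QuasiCompact.compactSpace_of_compactSpace B.hom
  let p : B.left ⟶ A.left := pullback.fst A.hom σ
  haveI : IsAffineHom p := MorphismProperty.pullback_fst (P := @IsAffineHom) A.hom σ inferInstance
  let pp : PicF.Cl A.left →* PicF.Cl B.left := PicMul.pullHom p
  have hpp : ∀ F : A.left.Modules, PicF.cl ((Scheme.Modules.pullback p).obj F) = pp (PicF.cl F) := fun F => rfl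
  have hM : PicF.IsInvertible M := PicMul.isInvertible_of_iso e.symm (PicMul.isInvertible_tensor hL hamp.1)
  refine index_le_add_rootMultiplicity (A := B) (PicClLib.isInvertible_pullback p hL)
    (PicClLib.isInvertible_pullback p hamp.1) (AmpleVan.FiniteSurj.isAmple_pullback_of_isAffineHom p hamp)
    ((PicGrp.cl_eq_cl_iff ((Scheme.Modules.pullback p).obj M) _).1 (by
      rw [PicMul.cl_tensor, hpp, hpp, hpp, ← map_mul, ← PicMul.cl_tensor, (PicGrp.cl_eq_cl_iff _ _).2 ⟨e⟩])).some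
    ((conc_bc_iff Ω (isCoh hL) i).2 hi) ((conc_bc_iff Ω (isCoh hM) i').2 hi') Φ (fun n => ?_) τ hτ0 hτ1 huniq
  have h2 : PicF.IsInvertible (CohB1.tensorMod L (CohB1.tensorPow H n)) :=
    PicMul.isInvertible_tensor hL (PicMul.isInvertible_tensorPow hamp.1 n)
  rw [hΦ n, ← euler_bc Ω (isCoh h2)]
  letI : B.left.Over (Spec (CommRingCat.of Ω)) := ⟨B.hom⟩
  exact_mod_cast CurveCohLib.euler_congr ((PicGrp.cl_eq_cl_iff ((Scheme.Modules.pullback p).obj
    (CohB1.tensorMod L (CohB1.tensorPow H n))) _).1 (by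
      simp only [PicMul.cl_tensor, PicMul.cl_tensorPow, hpp, map_mul, map_pow])).some

/-- The jump bound along a segment. -/
theorem segment_le {g : ℕ} (hg : topologicalKrullDim ↥A.left = g) (Φ : Polynomial ℚ)
    (hΦ : ∀ n : ℕ, Φ.eval (n : ℚ) = (@Curv2.euler k _ A.left ⟨A.hom⟩ (CohB1.tensorMod L (CohB1.tensorPow H n)) : ℚ))
    {n b δ : ℕ} (hn : 0 < n) (hδ : 0 < δ) {i i' : ℕ} (hi : Conc A (two L H n b) i)
    (hi' : Conc A (two L H n (b + δ)) i') (τ : ℝ) (h0 : (b : ℝ) / n ≤ τ) (h1 : τ < ((b + δ : ℕ) : ℝ) / n)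
    (huniq : ∀ t : ℝ, (b : ℝ) / n ≤ t → t ≤ ((b + δ : ℕ) : ℝ) / n → (Φ.map (algebraMap ℚ ℝ)).eval t = 0 → t = τ) :
    i ≤ i' + (Φ.map (algebraMap ℚ ℝ)).rootMultiplicity τ := by
  have hn' : (0 : ℝ) < n := by exact_mod_cast hn
  have hδ' : (0 : ℝ) < δ := by exact_mod_cast hδ
  have hH : PicF.IsInvertible H := hamp.1
  have hL' : PicF.IsInvertible (two L H n b) :=
    PicMul.isInvertible_tensor (PicMul.isInvertible_tensorPow hL n) (PicMul.isInvertible_tensorPow hH b)
  let P := Φ.map (algebraMap ℚ ℝ)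
  let Ψ : Polynomial ℚ := Polynomial.C ((n : ℚ) ^ g) *
    Φ.comp (Polynomial.C ((δ : ℚ) / n) * Polynomial.X + Polynomial.C ((b : ℚ) / n))
  have hev : ∀ t : ℝ, (Ψ.map (algebraMap ℚ ℝ)).eval t = (n : ℝ) ^ g * P.eval ((δ : ℝ) / n * t + (b : ℝ) / n) := by
    intro t
    simp [Ψ, P, Polynomial.map_comp]
  let τ' : ℝ := (τ - (b : ℝ) / n) / ((δ : ℝ) / n)
  have hτ' : (δ : ℝ) / n * τ' + (b : ℝ) / n = τ := by
    show (δ : ℝ) / n * ((τ - (b : ℝ) / n) / ((δ : ℝ) / n)) + _ = _
    field_simp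
    ring
  have hmult : (Ψ.map (algebraMap ℚ ℝ)).rootMultiplicity τ' = P.rootMultiplicity τ := by
    have h : Ψ.map (algebraMap ℚ ℝ) = Polynomial.C ((n : ℝ) ^ g) *
        P.comp (Polynomial.C ((δ : ℝ) / n) * Polynomial.X + Polynomial.C ((b : ℝ) / n)) := by
      simp [Ψ, P, Polynomial.map_comp]
    rw [h]
    by_cases hP : P = 0
    · simp [hP]
    have hne : P.comp (Polynomial.C ((δ : ℝ) / n) * Polynomial.X + Polynomial.C ((b : ℝ) / n)) ≠ 0 := fun hz => hP <| by
      refine Polynomial.eq_zero_of_infinite_isRoot _ (Set.infinite_univ.mono fun t _ => ?_)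
      have := congrArg (Polynomial.eval ((t - (b : ℝ) / n) / ((δ : ℝ) / n))) hz
      simp only [Polynomial.eval_comp, Polynomial.eval_add, Polynomial.eval_mul, Polynomial.eval_C,
        Polynomial.eval_X, Polynomial.eval_zero] at this
      rw [mul_div_cancel₀ _ (by positivity), sub_add_cancel] at this
      exact this
    rw [Polynomial.rootMultiplicity_mul (mul_ne_zero (by simp [hn.ne']) hne), Polynomial.rootMultiplicity_C,
      zero_add, Polynomial.rootMultiplicity_comp_C_mul_X_add_C _ _ _ _ (isUnit_iff_ne_zero.2 (by positivity)), hτ']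
  show i ≤ i' + P.rootMultiplicity τ
  rw [← hmult]
  refine index_le_add hL' (AmpleX.isAmple_tensorPow hamp hδ)
    ((PicGrp.cl_eq_cl_iff (two L H n (b + δ)) _).1 (by
      simp only [PicMul.cl_tensor, PicMul.cl_tensorPow, pow_add, _root_.mul_assoc])).some hi hi' Ψ (fun m => ?_) τ'
    (div_nonneg (by linarith) (by positivity)) ?_ fun t ht0 ht1 hz => ?_
  · have e : Nonempty (two L H n (b + δ * m) ≅ CohB1.tensorMod (two L H n b) (CohB1.tensorPow (CohB1.tensorPow H δ) m)) :=
      (PicGrp.cl_eq_cl_iff _ _).1 (by simp only [PicMul.cl_tensor, PicMul.cl_tensorPow, pow_add, pow_mul, _root_.mul_assoc])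
    have h := χ₂_eq_eval hL hH hg Φ hΦ hn (b + δ * m)
    rw [show χ₂ L H n (b + δ * m) = @Curv2.euler k _ A.left ⟨A.hom⟩ _ from
      by letI : A.left.Over (Spec (CommRingCat.of k)) := ⟨A.hom⟩; exact CurveCohLib.euler_congr e.some] at h
    rw [h]
    simp only [Ψ, Polynomial.eval_mul, Polynomial.eval_C, Polynomial.eval_comp, Polynomial.eval_add,
      Polynomial.eval_X]
    congr 2
    push_cast
    ring
  · rw [div_lt_one (by positivity)]
    push_cast at h1
    rw [add_div] at h1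
    linarith
  · rw [hev, mul_eq_zero] at hz
    have h2 := huniq ((δ : ℝ) / n * t + (b : ℝ) / n) (by have : 0 ≤ (δ : ℝ) / n * t := by positivity
                                                         linarith) (by
      have : (δ : ℝ) / n * t ≤ (δ : ℝ) / n := mul_le_of_le_one_right (by positivity) ht1
      push_cast
      rw [add_div]
      linarith) (hz.resolve_left (by positivity))
    show t = (τ - (b : ℝ) / n) / ((δ : ℝ) / n)
    rw [← h2, add_sub_cancel_right, mul_div_cancel_left₀ _ (by positivity)]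

/-- **The index is at most the number of positive roots.** -/
theorem index_le_pos_roots {i : ℕ} (hi : Conc A L i) (Φ : Polynomial ℚ)
    (hΦ : ∀ n : ℕ, Φ.eval (n : ℚ) = (@Curv2.euler k _ A.left ⟨A.hom⟩ (CohB1.tensorMod L (CohB1.tensorPow H n)) : ℚ)) :
    i ≤ ((Φ.map (algebraMap ℚ ℝ)).roots.filter (fun t => 0 < t)).card := by
  classical
  obtain ⟨g, hg⟩ := AVTors.exists_dimNat A
  have hH : PicF.IsInvertible H := hamp.1
  haveI : CompactSpace A.left := QuasiCompact.compactSpace_of_compactSpace A.hom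
  haveI : A.left.IsSeparated := ⟨by rw [← Limits.terminal.comp_from A.hom]; infer_instance⟩
  let P := Φ.map (algebraMap ℚ ℝ)
  have hinv : ∀ n b, PicF.IsInvertible (two L H n b) := fun n b =>
    PicMul.isInvertible_tensor (PicMul.isInvertible_tensorPow hL n) (PicMul.isInvertible_tensorPow hH b)
  have hconc : ∀ n b : ℕ, 0 < n → P.eval ((b : ℝ) / n) ≠ 0 → ∃ j, Conc A (two L H n b) j := fun n b hn hb =>
    exists_conc (hinv n b) fun h0 => by
      have hq := eval_χ₂ hL hH hg Φ hΦ hn b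
      rw [show χ₂ L H n b = 0 from h0, Int.cast_zero] at hq
      exact mul_ne_zero (pow_ne_zero _ (by positivity)) hb hq.symm
  obtain ⟨n₀, -, hn₀⟩ := AmpleX.eventually_ample_tensor hamp hL
  have hP0 : P.eval 0 ≠ 0 := by
    have h := eval_χ₂ hL hH hg Φ hΦ one_pos 0
    simp only [Nat.cast_one, one_pow, _root_.one_mul, Nat.cast_zero, zero_div] at h
    show P.eval 0 ≠ 0
    rw [← h, Int.cast_ne_zero]
    have e0 : Nonempty (two L H 1 0 ≅ L) := (PicGrp.cl_eq_cl_iff _ _).1 (by
      simp only [PicMul.cl_tensor, PicMul.cl_tensorPow, pow_zero, pow_one, _root_.mul_one])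
    rw [show χ₂ L H 1 0 = @Curv2.euler k _ A.left ⟨A.hom⟩ L from by
      letI : A.left.Over (Spec (CommRingCat.of k)) := ⟨A.hom⟩; exact CurveCohLib.euler_congr e0.some]
    exact hi.euler_ne_zero
  have hPne : P ≠ 0 := fun h => hP0 (by rw [h, Polynomial.eval_zero])
  have hroot : ∀ t, P.eval t = 0 → t ∈ P.roots := fun t ht => (Polynomial.mem_roots hPne).2 ht
  suffices main : ∀ (s n b : ℕ), 0 < n → (P.roots.filter (fun t => (b : ℝ) / n < t)).card = s →
      P.eval ((b : ℝ) / n) ≠ 0 → ∀ j, Conc A (two L H n b) j → j ≤ s by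
    refine main _ 1 0 one_pos (by simp [P]) (by simpa using hP0) i (hi.congr ((PicGrp.cl_eq_cl_iff L _).1 ?_).some)
    simp only [PicMul.cl_tensor, PicMul.cl_tensorPow, pow_zero, pow_one, _root_.mul_one]
  intro s
  induction s using Nat.strong_induction_on with
  | _ s ih =>
  intro n b hn hs hb j hj
  have hn' : (0 : ℝ) < n := by exact_mod_cast hn
  let S := P.roots.filter (fun t => (b : ℝ) / n < t)
  by_cases hS : S = 0
  · -- no root to the right: the index is that of an ample module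
    suffices j = 0 by omega
    let δ := n * (n₀ + b + 1) - b
    have hbδ : b + δ = n * (n₀ + b + 1) := Nat.add_sub_cancel' (by nlinarith)
    have hamp' : CohB1.IsAmple (two L H n (b + δ)) := by
      refine AmpleX.isAmple_of_iso ?_ (AmpleX.isAmple_tensorPow ((hn₀ (n₀ + b + 1) (by omega)).1) hn)
      refine ((PicGrp.cl_eq_cl_iff _ _).1 ?_).some
      simp only [PicMul.cl_tensor, PicMul.cl_tensorPow, hbδ, mul_pow, ← pow_mul, mul_comm n]
      exact mul_comm _ _
    have hroots : ∀ t : ℝ, (b : ℝ) / n ≤ t → P.eval t ≠ 0 := fun t ht hz => by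
      rcases ht.lt_or_eq with h | h
      · exact (Multiset.notMem_zero t) (hS ▸ Multiset.mem_filter.2 ⟨hroot t hz, h⟩)
      · exact hb (h ▸ hz)
    obtain ⟨j', hj'⟩ := hconc n (b + δ) hn (hroots _ (by gcongr; omega))
    have hj0 : j' = 0 := by
      by_contra h
      exact hj'.2 (AVHilbert.finrank_HH_eq_zero hamp' (Nat.pos_of_ne_zero h))
    rw [← hj0]
    exact eq_of_segment hL hH hg Φ hΦ hn hj hj' fun t ht _ => hroots t ht
  -- the next root
  have hne : S.toFinset.Nonempty := Multiset.toFinset_nonempty.2 hS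
  let τ := S.toFinset.min' hne
  have hτS : τ ∈ S := Multiset.mem_toFinset.1 (Finset.min'_mem _ _)
  have hτ : (b : ℝ) / n < τ := (Multiset.mem_filter.1 hτS).2
  obtain ⟨ε, hε, hgap⟩ : ∃ ε : ℝ, 0 < ε ∧ ∀ t ∈ P.roots, τ < t → τ + ε < t := by
    by_cases he : (P.roots.toFinset.filter (fun t => τ < t)).Nonempty
    · refine ⟨((P.roots.toFinset.filter (fun t => τ < t)).min' he - τ) / 2, ?_, fun t ht htl => ?_⟩
      · have := (Finset.mem_filter.1 ((P.roots.toFinset.filter (fun t => τ < t)).min'_mem he)).2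
        linarith
      · have h1 := (P.roots.toFinset.filter (fun t => τ < t)).min'_le t
          (Finset.mem_filter.2 ⟨Multiset.mem_toFinset.2 ht, htl⟩)
        linarith
    · exact ⟨1, one_pos, fun t ht htl => absurd ⟨t, Finset.mem_filter.2 ⟨Multiset.mem_toFinset.2 ht, htl⟩⟩ he⟩
  obtain ⟨m₀, hm₀⟩ := exists_nat_gt (1 / ε)
  let m := m₀ + 1
  have hm : 0 < m := Nat.succ_pos _
  have hnm : 0 < n * m := Nat.mul_pos hn hm
  have hnm' : (0 : ℝ) < (n * m : ℕ) := by exact_mod_cast hnm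
  have hτnn : 0 ≤ τ := le_trans (by positivity) hτ.le
  let c := ⌊((n * m : ℕ) : ℝ) * τ⌋₊ + 1
  have hc1 : τ < (c : ℝ) / (n * m : ℕ) := by
    rw [lt_div_iff₀ hnm']
    have h := Nat.lt_floor_add_one (((n * m : ℕ) : ℝ) * τ)
    push_cast [c]
    push_cast at h
    linarith
  have hc2 : (c : ℝ) / (n * m : ℕ) < τ + ε := by
    rw [div_lt_iff₀ hnm']
    have h1 : (⌊((n * m : ℕ) : ℝ) * τ⌋₊ : ℝ) ≤ ((n * m : ℕ) : ℝ) * τ := Nat.floor_le (by positivity)
    have h2 : 1 < ε * ((n * m : ℕ) : ℝ) := by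
      rw [div_lt_iff₀ hε] at hm₀
      have h3 : (m₀ : ℝ) < ((n * m : ℕ) : ℝ) := by exact_mod_cast lt_of_lt_of_le (Nat.lt_succ_self m₀) (Nat.le_mul_of_pos_left m hn)
      nlinarith
    push_cast [c]
    push_cast at h1 h2
    nlinarith
  have hbm : ((b * m : ℕ) : ℝ) / (n * m : ℕ) = (b : ℝ) / n := by
    push_cast
    rw [mul_div_mul_right _ _ (by positivity)]
  have hbc : b * m < c := by
    have h := (hbm.trans_lt hτ).trans hc1
    rw [div_lt_div_iff_of_pos_right hnm'] at h
    exact_mod_cast h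
  have hcroot : P.eval ((c : ℝ) / (n * m : ℕ)) ≠ 0 := fun hz =>
    absurd (hgap _ (hroot _ hz) hc1) (not_lt.2 hc2.le)
  obtain ⟨j', hj'⟩ := hconc (n * m) c hnm hcroot
  have hjm : Conc A (two L H (n * m) (b * m)) j := (conc_pow (hinv n b) hj hm).congr ((PicGrp.cl_eq_cl_iff _ _).1 (by
    simp only [PicMul.cl_tensor, PicMul.cl_tensorPow, mul_pow, ← pow_mul])).some
  have hjump := segment_le hL hamp hg Φ hΦ (δ := c - b * m) hnm (Nat.sub_pos_of_lt hbc) hjm
    (by rwa [Nat.add_sub_cancel' hbc.le]) τ (hbm.trans_le hτ.le) (by rwa [Nat.add_sub_cancel' hbc.le])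
    (fun t ht ht' hz => by
      rw [hbm] at ht
      rw [Nat.add_sub_cancel' hbc.le] at ht'
      have htS : t ∈ S := Multiset.mem_filter.2 ⟨hroot t hz, lt_of_le_of_ne ht fun h => hb (h ▸ hz)⟩
      rcases (S.toFinset.min'_le t (Multiset.mem_toFinset.2 htS)).lt_or_eq with h | h
      · exact absurd (hgap t (hroot t hz) h) (by linarith)
      · exact h.symm)
  have hsplit : S = P.roots.filter (fun t => (c : ℝ) / (n * m : ℕ) < t) + Multiset.replicate (P.rootMultiplicity τ) τ := by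
    refine Multiset.ext.2 fun t => ?_
    rw [Multiset.count_add, Multiset.count_replicate, show S = P.roots.filter (fun t => (b : ℝ) / n < t) from rfl,
      Multiset.count_filter, Multiset.count_filter]
    by_cases ht : t ∈ P.roots
    · by_cases h1 : (b : ℝ) / n < t
      · rw [if_pos h1]
        rcases (S.toFinset.min'_le t (Multiset.mem_toFinset.2 (Multiset.mem_filter.2 ⟨ht, h1⟩))).lt_or_eq with h | h
        · have h' : τ < t := h
          rw [if_pos (hc2.trans (hgap t ht h')), if_neg h'.ne, add_zero]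
        · have h' : τ = t := h
          rw [if_neg (by rw [← h']; exact not_lt.2 hc1.le), if_pos h', zero_add, Polynomial.count_roots, h']
      · rw [if_neg h1, if_neg (fun h => h1 (hτ.trans (hc1.trans h))), if_neg (fun (h : τ = t) => h1 (h ▸ hτ)), add_zero]
    · have h0 : P.roots.count t = 0 := Multiset.count_eq_zero.2 ht
      rw [h0, if_neg (fun (h : τ = t) => ht (h ▸ (Multiset.mem_filter.1 hτS).1))]
      simp
  have hcard : s = (P.roots.filter (fun t => (c : ℝ) / (n * m : ℕ) < t)).card + P.rootMultiplicity τ := by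
    rw [← hs, show (P.roots.filter (fun t => (b : ℝ) / n < t)) = S from rfl, hsplit, Multiset.card_add,
      Multiset.card_replicate]
  have hpos : 0 < P.rootMultiplicity τ :=
    (Polynomial.rootMultiplicity_pos hPne).2 ((Polynomial.mem_roots hPne).1 (Multiset.mem_filter.1 hτS).1)
  have h1 := ih _ (by omega) (n * m) c hnm rfl hcroot j' hj'
  have hjump' : j ≤ j' + P.rootMultiplicity τ := hjump
  omega

end Count

end Groth.Agent.AVIndexJump
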