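import Groth.Agent.Lib.AVTorsChar
import Mathlib.Algebra.Category.Ring.Constructions

/-!
Invertible modules killed by a finite flat homomorphism of abelian varieties give grouplike functions on its
kernel; so there are only finitely many, for inseparable homomorphisms also.
-/

set_option linter.style.haveILetI false
set_option linter.unusedSectionVars false
set_option backward.isDefEq.respectTransparency false
set_option backward.isDefEq.respectTransparency.types false
set_option maxHeartbeats 800000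
set_option synthInstance.maxHeartbeats 400000

universe u

open CategoryTheory CategoryTheory.Limits MonoidalCategory CartesianMonoidalCategory MonObj AlgebraicGeometry TopologicalSpace
open scoped TensorProduct

namespace Groth.Agent.AVKerCl

open Groth.Agent.AModX Groth.Agent.InvX Groth.Agent.H23 Groth.Agent.H23.TrivBasic Groth.Agent.AVTorsChar

section Pair

variable {X Y T T' : Scheme.{u}} (π : X ⟶ Y) (q : T ⟶ Y) {u u' : T ⟶ X}

theorem pre_le (hu : u ≫ π = q) (U : Y.Opens) : q ⁻¹ᵁ U ≤ u ⁻¹ᵁ (π ⁻¹ᵁ U) := by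
  rw [← Scheme.Hom.comp_preimage, hu]

/-- Functions on the preimage, pulled back along a map over the target. -/
noncomputable def pb (hu : u ≫ π = q) (U : Y.Opens) : Γ(X, π ⁻¹ᵁ U) →+* Γ(T, q ⁻¹ᵁ U) :=
  (u.appLE _ _ (pre_le π q hu U)).hom

theorem pb_res (hu : u ≫ π = q) {U W : Y.Opens} (h : W ≤ U) (f : Γ(X, π ⁻¹ᵁ U)) :
    pb π q hu W (resR (π.preimage_mono h) f) = resR (q.preimage_mono h) (pb π q hu U f) := by
  show ((X.presheaf.map (homOfLE (π.preimage_mono h)).op) ≫ u.appLE _ _ (pre_le π q hu W)).hom f =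
    (u.appLE _ _ (pre_le π q hu U) ≫ T.presheaf.map (homOfLE (q.preimage_mono h)).op).hom f
  rw [Scheme.Hom.map_appLE, Scheme.Hom.appLE_map]

theorem pb_app (hu : u ≫ π = q) (U : Y.Opens) (g : Γ(Y, U)) : pb π q hu U (π.app U g) = q.app U g := by
  show (π.app U ≫ u.appLE _ _ (pre_le π q hu U)).hom g = _
  rw [← π.appLE_eq_app, Scheme.Hom.appLE_comp_appLE]
  simp only [hu, q.appLE_eq_app]

theorem pb_resR (hu : u ≫ π = q) (c : Γ(X, ⊤)) (U : Y.Opens) :
    pb π q hu U (resR le_top c) = resR le_top (u.appTop c) := by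
  show (X.presheaf.map (homOfLE (le_top : π ⁻¹ᵁ U ≤ ⊤)).op ≫ u.appLE _ _ (pre_le π q hu U)).hom c = _
  rw [Scheme.Hom.map_appLE]
  rfl

theorem pb_comp (hu : u ≫ π = q) (w : T' ⟶ T) (U : Y.Opens) (f : Γ(X, π ⁻¹ᵁ U)) :
    pb π (w ≫ q) (show (w ≫ u) ≫ π = w ≫ q by rw [Category.assoc, hu]) U f = w.app (q ⁻¹ᵁ U) (pb π q hu U f) := by
  show _ = (u.appLE _ _ (pre_le π q hu U) ≫ w.app (q ⁻¹ᵁ U)).hom f
  rw [← w.appLE_eq_app, Scheme.Hom.appLE_comp_appLE]
  rfl

variable {π q} {N M : Y.Modules} (D : Dat π N)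

/-- The function comparing a trivialization along two maps. -/
def IsChar2 (hu : u ≫ π = q) (hu' : u' ≫ π = q) (c : Γ(T, ⊤)) : Prop :=
  ∀ y, pb π q hu' (D.U y) (D.f y) = resR le_top c * pb π q hu (D.U y) (D.f y)

theorem exists_isChar2 (hu : u ≫ π = q) (hu' : u' ≫ π = q) : ∃ c, IsChar2 D hu hu' c := by
  let r : ∀ y, Γ(T, q ⁻¹ᵁ D.U y) := fun y =>
    pb π q hu' (D.U y) (D.f y) * ↑((D.isUnit y).map (pb π q hu (D.U y))).unit⁻¹
  have hr : ∀ y, r y * pb π q hu (D.U y) (D.f y) = pb π q hu' (D.U y) (D.f y) := fun y => by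
    simp only [r, _root_.mul_assoc, IsUnit.val_inv_mul, _root_.mul_one]
  obtain ⟨c, hc, -⟩ := AModX.existsUnique_glue (M := Coh.structureModule T) (V := ⊤) (fun y => q ⁻¹ᵁ D.U y)
    (fun _ => le_top) (fun p _ => ⟨q p, D.mem (q p)⟩) r (fun y z => by
      show resR (q.preimage_mono (inf_le_left : D.U y ⊓ D.U z ≤ D.U y)) (r y) =
        resR (q.preimage_mono (inf_le_right : D.U y ⊓ D.U z ≤ D.U z)) (r z)
      obtain ⟨g, hg⟩ := ((D.frame y).res (inf_le_left : D.U y ⊓ D.U z ≤ _)).exists_coord le_rfl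
        (AModX.res N (inf_le_right : D.U y ⊓ D.U z ≤ _) (D.e z))
      rw [AModX.res_self] at hg
      have h := D.compat y z _ inf_le_left inf_le_right g hg
      refine (((D.isUnit y).map (resR (π.preimage_mono (inf_le_left : D.U y ⊓ D.U z ≤ _)))).map
        (pb π q hu (D.U y ⊓ D.U z))).mul_right_cancel ?_
      conv_rhs => rw [h, map_mul (pb π q hu (D.U y ⊓ D.U z)), ← _root_.mul_assoc, pb_res π q hu inf_le_right, ← map_mul, hr,
        ← pb_res π q hu' inf_le_right, pb_app]
      rw [pb_res π q hu inf_le_left, ← map_mul, hr, ← pb_res π q hu' inf_le_left, h, map_mul, pb_app])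
  exact ⟨c, fun y => (hr y).symm.trans (congrArg (· * pb π q hu (D.U y) (D.f y)) (hc y).symm)⟩

theorem IsChar2.unique {hu : u ≫ π = q} {hu' : u' ≫ π = q} {c c' : Γ(T, ⊤)}
    (h : IsChar2 D hu hu' c) (h' : IsChar2 D hu hu' c') : c = c' :=
  eq_of_locallyR c c' fun p _ => ⟨q ⁻¹ᵁ D.U (q p), le_top, D.mem (q p),
    ((D.isUnit (q p)).map (pb π q hu (D.U (q p)))).mul_right_cancel ((h (q p)).symm.trans (h' (q p)))⟩

theorem IsChar2.trans {u'' : T ⟶ X} {hu : u ≫ π = q} {hu' : u' ≫ π = q} {hu'' : u'' ≫ π = q} {c c' : Γ(T, ⊤)}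
    (h : IsChar2 D hu hu' c) (h' : IsChar2 D hu' hu'' c') : IsChar2 D hu hu'' (c * c') := fun y => by
  rw [h' y, h y, map_mul]
  ring

theorem IsChar2.isUnit {hu : u ≫ π = q} {hu' : u' ≫ π = q} {c : Γ(T, ⊤)} (h : IsChar2 D hu hu' c) : IsUnit c := by
  obtain ⟨c', h'⟩ := exists_isChar2 D hu' hu
  refine IsUnit.of_mul_eq_one c' (IsChar2.unique D (h.trans D h') fun y => ?_)
  rw [map_one, _root_.one_mul]

theorem IsChar2.pull {hu : u ≫ π = q} {hu' : u' ≫ π = q} {c : Γ(T, ⊤)} (h : IsChar2 D hu hu' c)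
    (w : T' ⟶ T) (v v' : T' ⟶ X) (q' : T' ⟶ Y) (hv : v ≫ π = q') (hv' : v' ≫ π = q')
    (e : v = w ≫ u) (e' : v' = w ≫ u') : IsChar2 D hv hv' (w.appTop c) := by
  subst e; subst e'
  obtain rfl : q' = w ≫ q := hv.symm.trans (by rw [Category.assoc, hu])
  intro y
  rw [pb_comp π q hu' w, pb_comp π q hu w, h y, map_mul]
  exact congrArg (· * _) (app_resR w le_top c)

theorem IsChar2.tensor {D' : Dat π M} {hu : u ≫ π = q} {hu' : u' ≫ π = q} {c c' : Γ(T, ⊤)}
    (h : IsChar2 D hu hu' c) (h' : IsChar2 D' hu hu' c') : IsChar2 (D.tensor D') hu hu' (c * c') := fun y => by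
  show pb π q hu' (D.U y ⊓ D'.U y)
      (resR (π.preimage_mono inf_le_left) (D.f y) * resR (π.preimage_mono inf_le_right) (D'.f y)) =
    resR (le_top : q ⁻¹ᵁ (D.U y ⊓ D'.U y) ≤ ⊤) (c * c') * pb π q hu (D.U y ⊓ D'.U y)
      (resR (π.preimage_mono (inf_le_left : D.U y ⊓ D'.U y ≤ D.U y)) (D.f y) *
        resR (π.preimage_mono (inf_le_right : D.U y ⊓ D'.U y ≤ D'.U y)) (D'.f y))
  rw [map_mul (pb π q hu' _), map_mul (pb π q hu _), pb_res π q hu' inf_le_left, pb_res π q hu' inf_le_right, pb_res π q hu inf_le_left,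
    pb_res π q hu inf_le_right, h y, h' y]
  simp only [map_mul, resR_resR]
  ring

theorem isChar2_one_of_triv (hN : Triv N) (hu : u ≫ π = q) (hu' : u' ≫ π = q)
    (hconst : ∀ c, u.appTop c = u'.appTop c) : IsChar2 D hu hu' 1 := by
  obtain ⟨ε, hε⟩ := hN.exists_frame
  choose g hg using fun y => hε.exists_coord (le_top : D.U y ≤ ⊤) (D.e y)
  have hgu : ∀ y, IsUnit (g y) := fun y => by
    obtain ⟨w, hw⟩ := (D.frame y).exists_coord le_rfl (AModX.res N (le_top : D.U y ≤ ⊤) ε)
    rw [AModX.res_self, hg] at hw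
    refine IsUnit.of_mul_eq_one w ((hε.res (le_top : D.U y ≤ ⊤)).coord_unique le_rfl ?_)
    rw [AModX.res_self, mul_comm, mul_smul, one_smul, ← hw]
  obtain ⟨c, hc, -⟩ := AModX.existsUnique_glue (M := Coh.structureModule X) (V := ⊤) (fun y => π ⁻¹ᵁ D.U y)
    (fun _ => le_top) (fun p _ => ⟨π p, D.mem (π p)⟩) (fun y => D.f y * π.app _ (g y)) (fun y z => by
      show resR (π.preimage_mono (inf_le_left : D.U y ⊓ D.U z ≤ D.U y)) (D.f y * π.app _ (g y)) =
        resR (π.preimage_mono (inf_le_right : D.U y ⊓ D.U z ≤ D.U z)) (D.f z * π.app _ (g z))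
      obtain ⟨a, ha⟩ := ((D.frame y).res (inf_le_left : D.U y ⊓ D.U z ≤ _)).exists_coord le_rfl
        (AModX.res N (inf_le_right : D.U y ⊓ D.U z ≤ _) (D.e z))
      rw [AModX.res_self] at ha
      have h := D.compat y z _ inf_le_left inf_le_right a ha
      rw [hg, hg, AModX.res_smul, AModX.res_smul, AModX.res_res, AModX.res_res, ← mul_smul] at ha
      have hag := hε.coord_unique _ ha
      rw [map_mul, map_mul, ← app_resR π inf_le_left, ← app_resR π inf_le_right, h, hag, map_mul]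
      ring)
  intro y
  have h : pb π q hu' (D.U y) (D.f y * π.app _ (g y)) = pb π q hu (D.U y) (D.f y * π.app _ (g y)) := by
    rw [show D.f y * π.app _ (g y) = resR le_top c from (hc y).symm, pb_resR π q hu', pb_resR π q hu, hconst c]
  rw [map_mul, map_mul, pb_app, pb_app] at h
  rw [map_one, _root_.one_mul]
  exact ((hgu y).map (q.app _).hom).mul_right_cancel h

end Pair

section Grouplike

variable {R H : Type u} [Field R] [CommRing H] [Algebra R H]

theorem linearIndepOn_grouplike (m : H → H ⊗[R] H) (hadd : ∀ a b, m (a + b) = m a + m b)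
    (hsmul : ∀ (r : R) a, m (r • a) = r • m a) :
    LinearIndepOn R id {χ : H | χ ≠ 0 ∧ m χ = χ ⊗ₜ[R] χ} := by
  classical
  let M : H →ₗ[R] H ⊗[R] H := { toFun := m, map_add' := hadd, map_smul' := hsmul }
  have key : ∀ t : Finset H, (↑t : Set H) ⊆ {χ : H | χ ≠ 0 ∧ m χ = χ ⊗ₜ[R] χ} → LinearIndepOn R id (↑t : Set H) := by
    intro t
    induction t using Finset.induction_on with
    | empty => intro _; simp
    | insert χ₀ s hs ih =>
      intro hsub
      rw [Finset.coe_insert] at hsub ⊢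
      have hs' : (↑s : Set H) ⊆ _ := (Set.subset_insert _ _).trans hsub
      refine (ih hs').insert fun hmem => ?_
      rw [Set.image_id, Submodule.mem_span_finset] at hmem
      obtain ⟨a, -, ha⟩ := hmem
      rw [id_eq] at ha
      have h0 := hsub (Set.mem_insert _ _)
      have hM : M χ₀ = ∑ χ ∈ s, a χ • (χ ⊗ₜ[R] χ) := by
        rw [← ha, map_sum]
        refine Finset.sum_congr rfl fun χ hχ => ?_
        rw [map_smul]
        exact congrArg _ (hs' hχ).2
      have hlin : ∀ (f : H →ₗ[R] R), ∀ χ ∈ s, a χ * (f χ - f χ₀) = 0 := fun f => by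
        have h1 := congrArg ((TensorProduct.rid R H).toLinearMap ∘ₗ f.lTensor H) hM
        rw [show M χ₀ = χ₀ ⊗ₜ[R] χ₀ from h0.2] at h1
        simp only [LinearMap.comp_apply, map_sum, map_smul, LinearMap.lTensor_tmul, LinearEquiv.coe_coe,
          TensorProduct.rid_tmul] at h1
        have h2 : ∑ χ ∈ s, (a χ * (f χ - f χ₀)) • χ = 0 := by
          simp only [mul_sub, sub_smul, Finset.sum_sub_distrib, mul_smul, mul_comm _ (f χ₀), ← Finset.smul_sum, ha]
          rw [← h1, sub_self]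
        exact linearIndepOn_finset_iff.1 (ih hs') _ h2
      by_cases hz : ∀ χ ∈ s, a χ = 0
      · exact h0.1 (by rw [← ha]; exact Finset.sum_eq_zero fun χ hχ => by rw [hz χ hχ, zero_smul])
      · push Not at hz
        obtain ⟨χ, hχ, hne⟩ := hz
        refine hs (?_ : χ₀ ∈ s)
        have hall : ∀ f : H →ₗ[R] R, f (χ - χ₀) = 0 := fun f => by
          rw [map_sub]
          exact (mul_eq_zero.1 (hlin f χ hχ)).resolve_left hne
        rw [← sub_eq_zero.1 ((Module.forall_dual_apply_eq_zero_iff R _).1 hall)]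
        exact hχ
  refine linearIndepOn_iff_linearIndepOn_finset.2 fun t ht => key t ht

end Grouplike

section Kernel

open scoped Groth.Agent.H23.PicMul

variable {K : Type u} [Field K] {A B : Over (Spec (CommRingCat.of K))} [GrpObj A] [GrpObj B] (π : A ⟶ B)

/-- The kernel as a scheme over the field. -/
noncomputable abbrev Gk : Over (Spec (CommRingCat.of K)) := Over.mk (pullback.fst η[B].left π.left)

/-- Its embedding. -/
noncomputable abbrev gι : Gk π ⟶ A := Over.homMk (pullback.snd η[B].left π.left) (by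
  have h := congrArg (· ≫ B.hom) (pullback.condition (f := η[B].left) (g := π.left))
  simp only [Category.assoc, Over.w π, Over.w η[B]] at h
  exact h.symm.trans (Category.comp_id _))

/-- The square of the source over the target. -/
noncomputable abbrev Pk : Over (Spec (CommRingCat.of K)) := Over.mk (pullback.fst π.left π.left ≫ A.hom)

noncomputable abbrev pr₁ : Pk π ⟶ A := Over.homMk (pullback.fst π.left π.left) rfl

noncomputable abbrev pr₂ : Pk π ⟶ A := Over.homMk (pullback.snd π.left π.left) (by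
  show pullback.snd π.left π.left ≫ A.hom = pullback.fst π.left π.left ≫ A.hom
  rw [← Over.w π, ← pullback.condition_assoc])

variable {π}

theorem gι_comp : gι π ≫ π = 1 := by
  rw [Hom.one_def]
  exact Over.OverMorphism.ext ((pullback.condition (f := η[B].left) (g := π.left)).symm)

theorem pr_comp : pr₁ π ≫ π = pr₂ π ≫ π := Over.OverMorphism.ext pullback.condition

theorem hom_Gk_ext {T : Over (Spec (CommRingCat.of K))} {a b : T ⟶ Gk π} (h : a ≫ gι π = b ≫ gι π) : a = b :=
  Over.OverMorphism.ext (pullback.hom_ext ((Over.w a).trans (Over.w b).symm) (congrArg CommaMorphism.left h :))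

theorem exists_lift_Gk {T : Over (Spec (CommRingCat.of K))} (a : T ⟶ A) (h : a ≫ π = 1) :
    ∃ b : T ⟶ Gk π, b ≫ gι π = a :=
  ⟨Over.homMk (pullback.lift T.hom a.left (by
      rw [← Over.comp_left, h, Hom.one_def, Over.comp_left]; rfl)) (pullback.lift_fst _ _ _),
    Over.OverMorphism.ext (pullback.lift_snd _ _ _)⟩

theorem exists_lift_Pk {T : Over (Spec (CommRingCat.of K))} (a b : T ⟶ A) (h : a ≫ π = b ≫ π) :
    ∃ w : T ⟶ Pk π, w ≫ pr₁ π = a ∧ w ≫ pr₂ π = b :=
  ⟨Over.homMk (pullback.lift a.left b.left (congrArg CommaMorphism.left h :)) (by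
      show pullback.lift _ _ _ ≫ pullback.fst π.left π.left ≫ A.hom = T.hom
      rw [pullback.lift_fst_assoc, Over.w a]),
    Over.OverMorphism.ext (pullback.lift_fst _ _ _), Over.OverMorphism.ext (pullback.lift_snd _ _ _)⟩

theorem hom_Pk_ext {T : Over (Spec (CommRingCat.of K))} {a b : T ⟶ Pk π} (h₁ : a ≫ pr₁ π = b ≫ pr₁ π)
    (h₂ : a ≫ pr₂ π = b ≫ pr₂ π) : a = b :=
  Over.OverMorphism.ext (pullback.hom_ext (congrArg CommaMorphism.left h₁ :) (congrArg CommaMorphism.left h₂ :))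

variable [IsMonHom π] [IsProper A.hom] [GeometricallyIntegral A.hom]

theorem exists_diff : ∃ d : Pk π ⟶ Gk π, d ≫ gι π = (pr₁ π)⁻¹ * pr₂ π ∧ Function.Bijective d.left.appTop := by
  obtain ⟨d, hd⟩ := exists_lift_Gk (π := π) ((pr₁ π)⁻¹ * pr₂ π) (by
    rw [MonObj.mul_comp, GrpObj.inv_comp, pr_comp, inv_mul_cancel])
  obtain ⟨v, hv₁, hv₂⟩ := exists_lift_Pk (π := π) (fst A (Gk π)) (fst A (Gk π) * (snd A (Gk π) ≫ gι π)) (by
    rw [MonObj.mul_comp, Category.assoc, gι_comp, MonObj.comp_one, _root_.mul_one])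
  have h1 : lift (pr₁ π) d ≫ v = 𝟙 _ := hom_Pk_ext
    (by rw [Category.assoc, hv₁, lift_fst, Category.id_comp])
    (by rw [Category.assoc, hv₂, MonObj.comp_mul, lift_fst, lift_snd_assoc, hd, mul_inv_cancel_left, Category.id_comp])
  have h2 : v ≫ lift (pr₁ π) d = 𝟙 _ := by
    refine CartesianMonoidalCategory.hom_ext _ _ (by rw [Category.assoc, lift_fst, hv₁, Category.id_comp]) (hom_Gk_ext ?_)
    simp only [Category.assoc, Category.id_comp]
    rw [lift_snd_assoc, hd, MonObj.comp_mul, GrpObj.comp_inv, hv₁, hv₂,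
      inv_mul_cancel_left]
  haveI : IsIso (lift (pr₁ π) d) := ⟨v, h1, h2⟩
  haveI : IsIso (lift (pr₁ π) d).left := inferInstanceAs (IsIso ((Over.forget (Spec (CommRingCat.of K))).map (lift (pr₁ π) d)))
  refine ⟨d, hd, ?_⟩
  rw [show d.left = (lift (pr₁ π) d).left ≫ (snd A (Gk π)).left by rw [← Over.comp_left, lift_snd],
    Scheme.Hom.comp_appTop]
  exact (ConcreteCategory.bijective_of_isIso (lift (pr₁ π) d).left.appTop).comp
    (Rigid.bijective_app_snd A.hom (Gk π).hom ⊤)

/-- A function on the kernel multiplicative for the group law. -/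
def Mult (π : A ⟶ B) (χ : Γ((Gk π).left, ⊤)) : Prop :=
  ∀ m : Gk π ⊗ Gk π ⟶ Gk π, m ≫ gι π = (fst _ _ ≫ gι π) * (snd _ _ ≫ gι π) →
    m.left.appTop χ = (fst (Gk π) (Gk π)).left.appTop χ * (snd (Gk π) (Gk π)).left.appTop χ

theorem appTop_eq {T : Over (Spec (CommRingCat.of K))} (a b : T ⟶ A) (c : Γ(A.left, ⊤)) :
    a.left.appTop c = b.left.appTop c := by
  obtain ⟨r, rfl⟩ := (Rigid.bijective_appTop A.hom).2 c
  exact ConcreteCategory.congr_hom ((Scheme.Hom.comp_appTop _ _).symm.trans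
    ((congrArg Scheme.Hom.appTop ((Over.w a).trans (Over.w b).symm)).trans (Scheme.Hom.comp_appTop _ _))) r

variable {N : B.left.Modules} (D : Dat π.left N)

/-- The function on the kernel attached to a trivialization. -/
theorem exists_char : ∃ χ : Γ((Gk π).left, ⊤), χ ≠ 0 ∧ Mult π χ ∧
    ∃ d : Pk π ⟶ Gk π, d ≫ gι π = (pr₁ π)⁻¹ * pr₂ π ∧
      IsChar2 D (q := (pr₁ π ≫ π).left) (u := (pr₁ π).left) (u' := (pr₂ π).left) rfl
        (congrArg CommaMorphism.left pr_comp).symm (d.left.appTop χ) := by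
  obtain ⟨d, hd, hbij⟩ := exists_diff (π := π)
  obtain ⟨c, hc⟩ := exists_isChar2 D (q := (pr₁ π ≫ π).left) (u := (pr₁ π).left) (u' := (pr₂ π).left) rfl
    (congrArg CommaMorphism.left pr_comp).symm
  obtain ⟨χ, rfl⟩ := hbij.2 c
  refine ⟨χ, ?_, ?_, d, hd, hc⟩
  · intro h
    have h1 := hc.isUnit D
    rw [h, map_zero] at h1
    have hne : Nonempty (Pk π).left := by
      haveI : IsIntegral A.left := GeometricallyIntegral.isIntegral_of_subsingleton A.hom
      exact ⟨(pullback.lift (𝟙 A.left) (𝟙 A.left) rfl : A.left ⟶ pullback π.left π.left) (genericPoint A.left)⟩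
    haveI : Nonempty (⊤ : (Pk π).left.Opens) := ⟨⟨hne.some, trivial⟩⟩
    exact not_isUnit_zero h1
  intro m hm
  let g := fst (Gk π) (Gk π) ≫ gι π
  let h := snd (Gk π) (Gk π) ≫ gι π
  have hg : g ≫ π = 1 := by simp only [g, Category.assoc, gι_comp, MonObj.comp_one]
  have hh : h ≫ π = 1 := by simp only [h, Category.assoc, gι_comp, MonObj.comp_one]
  have h0 : (1 : Gk π ⊗ Gk π ⟶ A) ≫ π = 1 := MonObj.one_comp π
  have hgh : (g * h) ≫ π = 1 := by rw [MonObj.mul_comp, hg, hh, _root_.mul_one]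
  have key : ∀ (a b : Gk π ⊗ Gk π ⟶ A) (ha : a ≫ π = 1) (hb : b ≫ π = 1) (e : Gk π ⊗ Gk π ⟶ Gk π)
      (_ : e ≫ gι π = a⁻¹ * b), IsChar2 D (q := (1 : Gk π ⊗ Gk π ⟶ B).left) (u := a.left) (u' := b.left)
        (congrArg CommaMorphism.left ha) (congrArg CommaMorphism.left hb) (e.left.appTop χ) := by
    intro a b ha hb e he
    obtain ⟨w, hw₁, hw₂⟩ := exists_lift_Pk a b (ha.trans hb.symm)
    have hwd : w ≫ d = e := hom_Gk_ext (by
      rw [Category.assoc, hd, MonObj.comp_mul, GrpObj.comp_inv, hw₁, hw₂, he])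
    rw [← hwd, Over.comp_left, Scheme.Hom.comp_appTop]
    exact hc.pull D w.left _ _ _ _ _ (congrArg CommaMorphism.left hw₁).symm (congrArg CommaMorphism.left hw₂).symm
  have k1 := key 1 g h0 hg (fst _ _) (by rw [inv_one, _root_.one_mul])
  have k2 := key g (g * h) hg hgh (snd _ _) (by rw [inv_mul_cancel_left])
  have k3 := key 1 (g * h) h0 hgh m (by rw [inv_one, _root_.one_mul, hm])
  exact IsChar2.unique D k3 (k1.trans D k2)

variable [IsFinite π.left] [Flat π.left] [Surjective π.left]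

theorem triv_of_char_one (h : IsChar2 D (q := (pr₁ π ≫ π).left) (u := (pr₁ π).left) (u' := (pr₂ π).left) rfl
    (congrArg CommaMorphism.left pr_comp).symm 1) : Triv N := by
  have hdesc : ∀ (U : B.left.Opens) (f : Γ(A.left, π.left ⁻¹ᵁ U)),
      (∀ (T : Scheme.{u}) (a b : T ⟶ A.left) (hab : a ≫ π.left = b ≫ π.left),
        pb π.left (a ≫ π.left) hab.symm U f = pb π.left (a ≫ π.left) (u := a) rfl U f) →
      ∃ g, π.left.app U g = f := by
    intro U f hf
    let V : A.left.Opens := π.left ⁻¹ᵁ U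
    let p := π.left ∣_ U
    haveI : Flat p := IsZariskiLocalAtTarget.restrict (P := @Flat) inferInstance U
    haveI : Surjective p := IsZariskiLocalAtTarget.restrict (P := @Surjective) inferInstance U
    haveI : QuasiCompact p := IsZariskiLocalAtTarget.restrict (P := @QuasiCompact) inferInstance U
    have hpV : p ≫ U.ι = V.ι ≫ π.left := morphismRestrict_ι _ _
    let a := pullback.fst p p ≫ V.ι
    let b := pullback.snd p p ≫ V.ι
    have hab : a ≫ π.left = b ≫ π.left := by
      simp only [a, b]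
      rw [Category.assoc, Category.assoc, ← hpV, pullback.condition_assoc]
    have hV : ⊤ ≤ V.ι ⁻¹ᵁ V := fun z _ => z.2
    have hU : ⊤ ≤ U.ι ⁻¹ᵁ U := fun z _ => z.2
    have hT : (⊤ : (pullback p p).Opens) ≤ (a ≫ π.left) ⁻¹ᵁ U := fun z _ => (pullback.fst p p z).2
    obtain ⟨g', hg'⟩ := exists_appTop_eq p
      (FpqcDescLib.covers_of_isCovering (FpqcDescLib.isCovering_of_quasiCompact p)) (V.ι.appLE V ⊤ hV f) (by
        rw [appTop_appLE, appTop_appLE]
        have e := congrArg (resR hT) (hf _ a b hab)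
        simp only [pb, resR] at e
        change (b.appLE _ _ _ ≫ _).hom f = (a.appLE _ _ _ ≫ _).hom f at e
        rw [Scheme.Hom.appLE_map, Scheme.Hom.appLE_map] at e
        exact e.symm)
    have hsurj : Function.Surjective (U.ι.appLE U ⊤ hU) := by
      rw [Scheme.Opens.ι_appLE]
      exact (ConcreteCategory.bijective_of_isIso (B.left.presheaf.map (eqToHom (U.ι_image_top)).op)).2
    have hinj : Function.Injective (V.ι.appLE V ⊤ hV) := by
      rw [Scheme.Opens.ι_appLE]
      exact (ConcreteCategory.bijective_of_isIso (A.left.presheaf.map (eqToHom (V.ι_image_top)).op)).1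
    obtain ⟨g, rfl⟩ := hsurj g'
    refine ⟨g, hinj ?_⟩
    rw [← hg', appTop_appLE]
    show (π.left.app U ≫ V.ι.appLE V ⊤ hV).hom g = _
    rw [← π.left.appLE_eq_app, Scheme.Hom.appLE_comp_appLE]
    simp only [hpV]
    rfl
  have hinj : ∀ U, Function.Injective (π.left.app U) := fun U g g' hgg => by
    let p := π.left ∣_ U
    haveI : Flat p := IsZariskiLocalAtTarget.restrict (P := @Flat) inferInstance U
    haveI : Surjective p := IsZariskiLocalAtTarget.restrict (P := @Surjective) inferInstance U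
    haveI : QuasiCompact p := IsZariskiLocalAtTarget.restrict (P := @QuasiCompact) inferInstance U
    haveI : Epi p := (FpqcDescLib.covers_of_isCovering (FpqcDescLib.isCovering_of_quasiCompact p)).epi
    have hV : ⊤ ≤ (π.left ⁻¹ᵁ U).ι ⁻¹ᵁ (π.left ⁻¹ᵁ U) := fun z _ => z.2
    have hU : ⊤ ≤ U.ι ⁻¹ᵁ U := fun z _ => z.2
    have hinj : Function.Injective (U.ι.appLE U ⊤ hU) := by
      rw [Scheme.Opens.ι_appLE]
      exact (ConcreteCategory.bijective_of_isIso (B.left.presheaf.map (eqToHom (U.ι_image_top)).op)).1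
    have key : ∀ z, p.appTop (U.ι.appLE U ⊤ hU z) = (π.left ⁻¹ᵁ U).ι.appLE _ ⊤ hV (π.left.app U z) := fun z => by
      rw [appTop_appLE]
      show _ = (π.left.app U ≫ (π.left ⁻¹ᵁ U).ι.appLE _ ⊤ hV).hom z
      rw [← π.left.appLE_eq_app, Scheme.Hom.appLE_comp_appLE]
      simp only [p, morphismRestrict_ι]
    refine hinj (GrpSchLib.AntiAffine.appTop_injective_of_epi p ?_)
    rw [key, key, hgg]
  have hfix : ∀ y (T : Scheme.{u}) (a b : T ⟶ A.left) (hab : a ≫ π.left = b ≫ π.left),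
      pb π.left (a ≫ π.left) hab.symm (D.U y) (D.f y) = pb π.left (a ≫ π.left) (u := a) rfl (D.U y) (D.f y) := by
    intro y T a b hab
    have h' := IsChar2.pull D h (pullback.lift a b hab) a b (a ≫ π.left) rfl hab.symm
      (pullback.lift_fst _ _ _).symm (pullback.lift_snd _ _ _).symm y
    rw [map_one, map_one, _root_.one_mul] at h'
    exact h'
  refine triv_of_char D hinj (fun y => hdesc _ _ (hfix y)) fun y => hdesc _ _ fun T a b hab => ?_
  refine ((D.isUnit y).map (pb π.left (a ≫ π.left) hab.symm (D.U y))).mul_left_cancel ?_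
  conv_rhs => rw [hfix y T a b hab, ← map_mul]
  rw [← map_mul, IsUnit.mul_val_inv, map_one, map_one]

end Kernel

section Main

open scoped Groth.Agent.H23.PicMul

variable {K : Type u} [Field K] {A B : Over (Spec (CommRingCat.of K))} [GrpObj A] [GrpObj B]
  [IsProper A.hom] [GeometricallyIntegral A.hom] (π : A ⟶ B) [IsMonHom π] [IsFinite π.left] [Flat π.left]
  [Surjective π.left]

theorem finite_mult : {χ : Γ((Gk π).left, ⊤) | χ ≠ 0 ∧ Mult π χ}.Finite := by
  haveI : IsFinite (Gk π).hom := inferInstanceAs (IsFinite (pullback.fst η[B].left π.left))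
  haveI : IsAffine (Gk π).left := isAffine_of_isAffineHom (Gk π).hom
  obtain ⟨m, hm⟩ := exists_lift_Gk (π := π) ((fst _ _ ≫ gι π) * (snd (Gk π) (Gk π) ≫ gι π)) (by
    rw [MonObj.mul_comp, Category.assoc, Category.assoc, gι_comp, MonObj.comp_one, MonObj.comp_one, _root_.mul_one])
  let a : CommRingCat.of K ⟶ Γ((Gk π).left, ⊤) := (Scheme.ΓSpecIso _).inv ≫ (Gk π).hom.appTop
  letI : Algebra K Γ((Gk π).left, ⊤) := a.hom.toAlgebra
  have hfin : Module.Finite K Γ((Gk π).left, ⊤) := by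
    have h1 : (Gk π).hom.appTop.hom.Finite := (Gk π).hom.finite_app ⊤ (isAffineOpen_top _)
    exact RingHom.finite_algebraMap.1 (h1.comp (RingHom.Finite.of_surjective _
      (ConcreteCategory.bijective_of_isIso (Scheme.ΓSpecIso (CommRingCat.of K)).inv).2))
  haveI := hfin
  have hpb : CategoryTheory.IsPullback (fst (Gk π) (Gk π)).left (snd (Gk π) (Gk π)).left (Gk π).hom (Gk π).hom :=
    IsPullback.of_hasPullback _ _
  have hpo : CategoryTheory.IsPushout a a (fst (Gk π) (Gk π)).left.appTop (snd (Gk π) (Gk π)).left.appTop :=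
    (isPushout_appTop_of_isPullback hpb).of_iso (Scheme.ΓSpecIso (CommRingCat.of K)) (Iso.refl _) (Iso.refl _)
      (Iso.refl _) (by simp [a]) (by simp [a]) (by simp) (by simp)
  let e := (CommRingCat.isPushout_tensorProduct K Γ((Gk π).left, ⊤) Γ((Gk π).left, ⊤)).isoIsPushout _ _ hpo
  have he₁ : ∀ x : Γ((Gk π).left, ⊤), e.hom (x ⊗ₜ[K] (1 : Γ((Gk π).left, ⊤))) = (fst (Gk π) (Gk π)).left.appTop x :=
    fun x => ConcreteCategory.congr_hom (IsPushout.inl_isoIsPushout_hom _ _ _ _) x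
  have he₂ : ∀ x : Γ((Gk π).left, ⊤), e.hom ((1 : Γ((Gk π).left, ⊤)) ⊗ₜ[K] x) = (snd (Gk π) (Gk π)).left.appTop x :=
    fun x => ConcreteCategory.congr_hom (IsPushout.inr_isoIsPushout_hom _ _ _ _) x
  have he : Function.Bijective e.hom := ConcreteCategory.bijective_of_isIso e.hom
  let μ' : Γ((Gk π).left, ⊤) → Γ((Gk π).left, ⊤) ⊗[K] Γ((Gk π).left, ⊤) := fun x => e.inv (m.left.appTop x)
  have hμ' : ∀ x, e.hom (μ' x) = m.left.appTop x := fun x => ConcreteCategory.congr_hom e.inv_hom_id _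
  have hlin := linearIndepOn_grouplike (R := K) μ' (fun x y => he.1 (by rw [map_add, hμ', hμ', hμ', map_add]))
    (fun r x => he.1 (by
      rw [Algebra.smul_def r (μ' x), map_mul, hμ', hμ', Algebra.smul_def r x, map_mul]
      refine congrArg (· * _) ?_
      rw [show algebraMap K (Γ((Gk π).left, ⊤) ⊗[K] Γ((Gk π).left, ⊤)) r =
        (algebraMap K Γ((Gk π).left, ⊤) r) ⊗ₜ[K] (1 : Γ((Gk π).left, ⊤)) from rfl, he₁]
      show (a ≫ m.left.appTop).hom r = (a ≫ (fst (Gk π) (Gk π)).left.appTop).hom r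
      simp only [a, Category.assoc, ← Scheme.Hom.comp_appTop]
      rw [Over.w m, Over.w (fst (Gk π) (Gk π))]))
  refine (Set.finite_coe_iff.1 hlin.finite).subset ?_
  intro χ hχ
  refine ⟨hχ.1, he.1 ?_⟩
  rw [hμ', hχ.2 m hm, show χ ⊗ₜ[K] χ = (χ ⊗ₜ[K] (1 : Γ((Gk π).left, ⊤))) * ((1 : Γ((Gk π).left, ⊤)) ⊗ₜ[K] χ) by
    rw [Algebra.TensorProduct.tmul_mul_tmul, _root_.mul_one, _root_.one_mul], map_mul, he₁, he₂]

/-- Only finitely many classes are killed by a finite flat surjective homomorphism. -/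
theorem finite_kerCl :
    {c : PicF.Cl B.left | PicF.IsInvertibleCl c ∧ PicF.pullCl π.left c = 1}.Finite := by
  let S := {c : PicF.Cl B.left // PicF.IsInvertibleCl c ∧ PicF.pullCl π.left c = 1}
  haveI : IsIntegral A.left := GeometricallyIntegral.isIntegral_of_subsingleton A.hom
  choose L hL hLi using fun c : S => c.2.1
  have hLt : ∀ c : S, Triv ((Scheme.Modules.pullback π.left).obj (L c)) := fun c =>
    (PicGrp.cl_eq_cl_iff _ _).1 (show PicF.pullCl π.left (PicF.cl (L c)) = 1 from (hL c).symm ▸ c.2.2)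
  let D := fun c : S => (exists_dat π.left (hLi c) (hLt c)).some
  choose χ hχ0 hχm d hd hχc using fun c : S => exists_char (π := π) (D c)
  have hone : ∀ {N : B.left.Modules} (E : Dat π.left N), Triv N →
      IsChar2 E (q := (pr₁ π ≫ π).left) (u := (pr₁ π).left) (u' := (pr₂ π).left) rfl
        (congrArg CommaMorphism.left pr_comp).symm 1 :=
    fun E hN => isChar2_one_of_triv E hN _ _ (appTop_eq (pr₁ π) (pr₂ π))
  have hinj : Function.Injective χ := fun c c' hcd => by
    obtain ⟨M, hM, e⟩ := PicInv.exists_inverse (hLi c')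
    have he : c'.1 * PicF.cl M = 1 := hL c' ▸ (PicGrp.cl_eq_cl_iff _ _).2 e
    have hMt : Triv ((Scheme.Modules.pullback π.left).obj M) := (PicGrp.cl_eq_cl_iff _ _).1 (by
      show PicF.pullCl π.left (PicF.cl M) = 1
      have h := congrArg (PicF.pullCl π.left) he
      rwa [PicMul.pullCl_mul, c'.2.2, _root_.one_mul, PicMul.pullCl_one] at h)
    obtain ⟨E⟩ := exists_dat π.left hM hMt
    obtain ⟨ψ, -, -, d₀, hd₀, hψ⟩ := exists_char (π := π) E
    have hdd : ∀ c : S, d c = d₀ := fun c => hom_Gk_ext ((hd c).trans hd₀.symm)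
    have h1 : (d c').left.appTop (χ c') * d₀.left.appTop ψ = 1 :=
      IsChar2.unique ((D c').tensor E) (IsChar2.tensor (D c') (hχc c') hψ) (hone ((D c').tensor E) e)
    have ht : Triv (CohB1.tensorMod (L c) M) := triv_of_char_one ((D c).tensor E) (by
      rw [← h1, ← hcd, hdd c', ← hdd c]
      have hh := IsChar2.tensor (D c) (hχc c) hψ
      rw [hdd c] at hh ⊢
      exact hh)
    have h2 : c.1 * PicF.cl M = 1 := hL c ▸ (PicGrp.cl_eq_cl_iff _ _).2 ht
    exact Subtype.ext ((PicMul.isUnit_cl hM).mul_right_cancel (h2.trans he.symm))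
  haveI := (finite_mult π).to_subtype
  exact Set.finite_coe_iff.1 (Finite.of_injective (fun c : S => (⟨χ c, hχ0 c, hχm c⟩ : {χ : Γ((Gk π).left, ⊤) | χ ≠ 0 ∧ Mult π χ}))
    fun c c' h => hinj (congrArg Subtype.val h))

end Main

end Groth.Agent.AVKerCl
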