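import Groth.Agent.Lib.AVKerCl
import Groth.Agent.Lib.AVDual
import Groth.Agent.GrpSchLib.HomFlat

/-!
Families of classes killed by an isogeny give families of grouplike functions on its kernel.
-/

set_option linter.style.haveILetI false
set_option linter.unusedSectionVars false
set_option backward.isDefEq.respectTransparency false
set_option backward.isDefEq.respectTransparency.types false
set_option maxHeartbeats 800000
set_option synthInstance.maxHeartbeats 400000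

universe u

open CategoryTheory CategoryTheory.Limits MonoidalCategory CartesianMonoidalCategory MonObj AlgebraicGeometry TopologicalSpace

namespace Groth.Agent.AVKerFam

open Groth.Agent.AModX Groth.Agent.InvX Groth.Agent.H23 Groth.Agent.H23.TrivBasic Groth.Agent.AVTorsChar
open Groth.Agent.AVKerCl Groth.Agent.AVPair
open scoped Groth.Agent.H23.PicMul

section Scheme

variable {X Y X' Y' T : Scheme.{u}} {π : X ⟶ Y} {π' : X' ⟶ Y'} {mX : X' ⟶ X} {mY : Y' ⟶ Y}

theorem pre_le' (hsq : π' ≫ mY = mX ≫ π) (U : Y.Opens) : π' ⁻¹ᵁ (mY ⁻¹ᵁ U) ≤ mX ⁻¹ᵁ (π ⁻¹ᵁ U) := by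
  rw [← Scheme.Hom.comp_preimage, ← Scheme.Hom.comp_preimage, hsq]

theorem appLE_resR (hsq : π' ≫ mY = mX ≫ π) {U : Y.Opens} {W : Y'.Opens} (h : W ≤ mY ⁻¹ᵁ U) (g : Γ(Y, U)) :
    π'.app W (resR h (mY.app U g)) =
      resR (π'.preimage_mono h) ((mX.appLE _ _ (pre_le' hsq U)).hom (π.app U g)) := by
  show (mY.app U ≫ Y'.presheaf.map (homOfLE h).op ≫ π'.app W).hom g =
    (π.app U ≫ mX.appLE _ _ (pre_le' hsq U) ≫ X'.presheaf.map (homOfLE (π'.preimage_mono h)).op).hom g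
  rw [← Category.assoc (mY.app U), ← π'.appLE_eq_app, ← π.appLE_eq_app, Scheme.Hom.appLE_map,
    Scheme.Hom.appLE_comp_appLE, show mY.app U ≫ Y'.presheaf.map (homOfLE h).op = mY.appLE U W h from rfl,
    Scheme.Hom.appLE_comp_appLE]
  simp only [hsq]

variable {N : Y.Modules}

/-- A trivialization pulled back along a commutative square. -/
noncomputable def datPull (hsq : π' ≫ mY = mX ≫ π) (D : Dat π N) : Dat π' ((Scheme.Modules.pullback mY).obj N) where
  U y := mY ⁻¹ᵁ D.U (mY y)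
  mem y := D.mem (mY y)
  e y := pullElt mY (D.e (mY y))
  frame y := isFrame_pullElt mY (D.frame _)
  f y := (mX.appLE _ _ (pre_le' hsq _)).hom (D.f (mY y))
  isUnit y := (D.isUnit _).map _
  compat y z W hy hz g hg := by
    let U₀ := D.U (mY y) ⊓ D.U (mY z)
    obtain ⟨g₀, hg₀⟩ := ((D.frame (mY y)).res (inf_le_left : U₀ ≤ _)).exists_coord le_rfl
      (AModX.res N (inf_le_right : U₀ ≤ _) (D.e (mY z)))
    rw [AModX.res_self] at hg₀
    have hW : W ≤ mY ⁻¹ᵁ U₀ := fun x hx => ⟨hy hx, hz hx⟩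
    have e := congrArg (fun t => AModX.res _ hW (pullElt mY t)) hg₀
    rw [InvX.pullElt_smul, AModX.res_smul, ← InvX.res_pullElt, ← InvX.res_pullElt, AModX.res_res, AModX.res_res] at e
    have hgg : g = resR hW (mY.app U₀ g₀) :=
      ((isFrame_pullElt mY (D.frame (mY y))).res hy).coord_unique le_rfl (by
        rw [AModX.res_self]; exact hg.symm.trans e)
    have hc := D.compat (mY y) (mY z) U₀ inf_le_left inf_le_right g₀ hg₀
    have h1 := congrArg (fun t => resR (π'.preimage_mono hW) ((mX.appLE _ _ (pre_le' hsq U₀)).hom t)) hc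
    simp only [map_mul] at h1
    rw [hgg, appLE_resR hsq]
    refine Eq.trans ?_ (h1.trans ?_)
    · show _ = (X.presheaf.map _ ≫ mX.appLE _ _ _ ≫ X'.presheaf.map _).hom (D.f (mY y))
      rw [Scheme.Hom.appLE_map, Scheme.Hom.map_appLE]
      show (mX.appLE _ _ _ ≫ X'.presheaf.map _).hom (D.f (mY y)) = _
      rw [Scheme.Hom.appLE_map]
    · refine congrArg (· * _) ?_
      show (X.presheaf.map _ ≫ mX.appLE _ _ _ ≫ X'.presheaf.map _).hom (D.f (mY z)) =
        (mX.appLE _ _ _ ≫ X'.presheaf.map _).hom (D.f (mY z))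
      rw [Scheme.Hom.appLE_map, Scheme.Hom.map_appLE, Scheme.Hom.appLE_map]

theorem isChar2_datPull (hsq : π' ≫ mY = mX ≫ π) {D : Dat π N} {q : T ⟶ Y'} {u u' : T ⟶ X'}
    (hu : u ≫ π' = q) (hu' : u' ≫ π' = q) (v : (u ≫ mX) ≫ π = q ≫ mY) (v' : (u' ≫ mX) ≫ π = q ≫ mY) {c : Γ(T, ⊤)}
    (h : IsChar2 D v v' c) : IsChar2 (datPull hsq D) hu hu' c := fun y => by
  have e : ∀ (w : T ⟶ X') (hw : w ≫ π' = q) (hv : (w ≫ mX) ≫ π = q ≫ mY),
      pb π' q hw ((datPull hsq D).U y) ((datPull hsq D).f y) = pb π (q ≫ mY) hv (D.U (mY y)) (D.f (mY y)) := by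
    intro w hw hv
    show (mX.appLE _ _ (pre_le' hsq (D.U (mY y))) ≫ w.appLE _ _ (AVKerCl.pre_le π' q hw _)).hom _ = _
    rw [Scheme.Hom.appLE_comp_appLE]
    rfl
  rw [e u hu v, e u' hu' v']
  exact h (mY y)

variable [Flat π] [Surjective π] [QuasiCompact π]

theorem app_injective (U : Y.Opens) : Function.Injective (π.app U) := by
  intro g g' hgg
  let p := π ∣_ U
  haveI : Flat p := IsZariskiLocalAtTarget.restrict (P := @Flat) inferInstance U
  haveI : Surjective p := IsZariskiLocalAtTarget.restrict (P := @Surjective) inferInstance U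
  haveI : QuasiCompact p := IsZariskiLocalAtTarget.restrict (P := @QuasiCompact) inferInstance U
  haveI : Epi p := (FpqcDescLib.covers_of_isCovering (FpqcDescLib.isCovering_of_quasiCompact p)).epi
  have hV : ⊤ ≤ (π ⁻¹ᵁ U).ι ⁻¹ᵁ (π ⁻¹ᵁ U) := fun z _ => z.2
  have hU : ⊤ ≤ U.ι ⁻¹ᵁ U := fun z _ => z.2
  have hinj : Function.Injective (U.ι.appLE U ⊤ hU) := by
    rw [Scheme.Opens.ι_appLE]
    exact (ConcreteCategory.bijective_of_isIso (Y.presheaf.map (eqToHom (U.ι_image_top)).op)).1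
  have key : ∀ z, p.appTop (U.ι.appLE U ⊤ hU z) = (π ⁻¹ᵁ U).ι.appLE _ ⊤ hV (π.app U z) := fun z => by
    rw [appTop_appLE]
    show _ = (π.app U ≫ (π ⁻¹ᵁ U).ι.appLE _ ⊤ hV).hom z
    rw [← π.appLE_eq_app, Scheme.Hom.appLE_comp_appLE]
    simp only [p, morphismRestrict_ι]
  refine hinj (GrpSchLib.AntiAffine.appTop_injective_of_epi p ?_)
  rw [key, key, hgg]

theorem exists_app_eq (U : Y.Opens) (f : Γ(X, π ⁻¹ᵁ U))
    (hf : ∀ (T : Scheme.{u}) (a b : T ⟶ X) (hab : a ≫ π = b ≫ π),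
      pb π (a ≫ π) hab.symm U f = pb π (a ≫ π) (u := a) rfl U f) : ∃ g, π.app U g = f := by
  let V : X.Opens := π ⁻¹ᵁ U
  let p := π ∣_ U
  haveI : Flat p := IsZariskiLocalAtTarget.restrict (P := @Flat) inferInstance U
  haveI : Surjective p := IsZariskiLocalAtTarget.restrict (P := @Surjective) inferInstance U
  haveI : QuasiCompact p := IsZariskiLocalAtTarget.restrict (P := @QuasiCompact) inferInstance U
  have hpV : p ≫ U.ι = V.ι ≫ π := morphismRestrict_ι _ _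
  let a := pullback.fst p p ≫ V.ι
  let b := pullback.snd p p ≫ V.ι
  have hab : a ≫ π = b ≫ π := by
    simp only [a, b]
    rw [Category.assoc, Category.assoc, ← hpV, pullback.condition_assoc]
  have hV : ⊤ ≤ V.ι ⁻¹ᵁ V := fun z _ => z.2
  have hU : ⊤ ≤ U.ι ⁻¹ᵁ U := fun z _ => z.2
  have hT : (⊤ : (pullback p p).Opens) ≤ (a ≫ π) ⁻¹ᵁ U := fun z _ => (pullback.fst p p z).2
  obtain ⟨g', hg'⟩ := exists_appTop_eq p
    (FpqcDescLib.covers_of_isCovering (FpqcDescLib.isCovering_of_quasiCompact p)) (V.ι.appLE V ⊤ hV f) (by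
      rw [appTop_appLE, appTop_appLE]
      have e := congrArg (resR hT) (hf _ a b hab)
      simp only [pb, resR] at e
      change (b.appLE _ _ _ ≫ _).hom f = (a.appLE _ _ _ ≫ _).hom f at e
      rw [Scheme.Hom.appLE_map, Scheme.Hom.appLE_map] at e
      exact e.symm)
  have hsurj : Function.Surjective (U.ι.appLE U ⊤ hU) := by
    rw [Scheme.Opens.ι_appLE]
    exact (ConcreteCategory.bijective_of_isIso (Y.presheaf.map (eqToHom (U.ι_image_top)).op)).2
  have hinj : Function.Injective (V.ι.appLE V ⊤ hV) := by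
    rw [Scheme.Opens.ι_appLE]
    exact (ConcreteCategory.bijective_of_isIso (X.presheaf.map (eqToHom (V.ι_image_top)).op)).1
  obtain ⟨g, rfl⟩ := hsurj g'
  refine ⟨g, hinj ?_⟩
  rw [← hg', appTop_appLE]
  show (π.app U ≫ V.ι.appLE V ⊤ hV).hom g = _
  rw [← π.appLE_eq_app, Scheme.Hom.appLE_comp_appLE]
  simp only [hpV]
  rfl

theorem triv_of_invariant (D : Dat π N)
    (hfix : ∀ y (T : Scheme.{u}) (a b : T ⟶ X) (hab : a ≫ π = b ≫ π),
      pb π (a ≫ π) hab.symm (D.U y) (D.f y) = pb π (a ≫ π) (u := a) rfl (D.U y) (D.f y)) : Triv N := by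
  refine triv_of_char D app_injective (fun y => exists_app_eq _ _ (hfix y)) fun y => exists_app_eq _ _ fun T a b hab => ?_
  refine ((D.isUnit y).map (pb π (a ≫ π) hab.symm (D.U y))).mul_left_cancel ?_
  conv_rhs => rw [hfix y T a b hab, ← map_mul]
  rw [← map_mul, IsUnit.mul_val_inv, map_one, map_one]

end Scheme

section Family

variable {K : Type u} [Field K] {A B : Over (Spec (CommRingCat.of K))} [GrpObj A] [GrpObj B] (π : A ⟶ B)

/-- The first of the two maps. -/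
noncomputable abbrev u₁ (T : Over (Spec (CommRingCat.of K))) : A ⊗ (Gk π ⊗ T) ⟶ A ⊗ T :=
  lift (fst A (Gk π ⊗ T)) (snd A (Gk π ⊗ T) ≫ snd (Gk π) T)

/-- The second of the two maps. -/
noncomputable abbrev u₂ (T : Over (Spec (CommRingCat.of K))) : A ⊗ (Gk π ⊗ T) ⟶ A ⊗ T :=
  lift (fst A (Gk π ⊗ T) * (snd A (Gk π ⊗ T) ≫ fst (Gk π) T ≫ gι π)) (snd A (Gk π ⊗ T) ≫ snd (Gk π) T)

variable [IsMonHom π]

theorem u_comp (T : Over (Spec (CommRingCat.of K))) : u₂ π T ≫ (π ▷ T) = u₁ π T ≫ (π ▷ T) := by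
  simp only [lift_whiskerRight, MonObj.mul_comp, Category.assoc, gι_comp, MonObj.comp_one, _root_.mul_one]

/-- The class is attached to the function on the kernel. -/
def HasChar (T : Over (Spec (CommRingCat.of K))) (c : PicF.Cl (B ⊗ T).left) (χ : Γ((Gk π ⊗ T).left, ⊤)) : Prop :=
  ∃ N : (B ⊗ T).left.Modules, PicF.cl N = c ∧ PicF.IsInvertible N ∧ ∃ D : Dat (π ▷ T).left N,
    IsChar2 D (q := (u₁ π T ≫ (π ▷ T)).left) (u := (u₁ π T).left) (u' := (u₂ π T).left) rfl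
      (congrArg CommaMorphism.left (u_comp π T) :) ((snd A (Gk π ⊗ T)).left.appTop χ)

variable {π} [IsProper A.hom] [GeometricallyIntegral A.hom] {T T' : Over (Spec (CommRingCat.of K))}

theorem bijective_snd (S : Over (Spec (CommRingCat.of K))) : Function.Bijective (snd A S).left.appTop :=
  Rigid.bijective_app_snd A.hom S.hom ⊤

theorem appTop_u (c : Γ((A ⊗ T).left, ⊤)) : (u₁ π T).left.appTop c = (u₂ π T).left.appTop c := by
  obtain ⟨r, rfl⟩ := (bijective_snd (A := A) T).2 c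
  have h : u₁ π T ≫ snd A T = u₂ π T ≫ snd A T := by simp
  exact ConcreteCategory.congr_hom ((Scheme.Hom.comp_appTop _ _).symm.trans
    ((congrArg (fun m => Scheme.Hom.appTop (CommaMorphism.left m)) h).trans (Scheme.Hom.comp_appTop _ _))) r

theorem exists_hasChar {c : PicF.Cl (B ⊗ T).left} (hc : PicF.IsInvertibleCl c) (h : pl (π ▷ T) c = 1) :
    ∃ χ, HasChar π T c χ := by
  obtain ⟨N, rfl, hN⟩ := hc
  obtain ⟨D⟩ := exists_dat (π ▷ T).left hN ((PicGrp.cl_eq_cl_iff _ _).1 h)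
  obtain ⟨e, he⟩ := exists_isChar2 D (q := (u₁ π T ≫ (π ▷ T)).left) (u := (u₁ π T).left) (u' := (u₂ π T).left) rfl
    (congrArg CommaMorphism.left (u_comp π T) :)
  obtain ⟨χ, rfl⟩ := (bijective_snd (A := A) (Gk π ⊗ T)).2 e
  exact ⟨χ, N, rfl, hN, D, he⟩

theorem pl_inv_eq_one {c d : PicF.Cl (B ⊗ T).left} (h : c * d = 1) (hc : pl (π ▷ T) c = 1) : pl (π ▷ T) d = 1 := by
  have := congrArg (pl (π ▷ T)) h
  rwa [map_mul, hc, _root_.one_mul, map_one] at this

theorem HasChar.killed {c : PicF.Cl (B ⊗ T).left} {χ} (h : HasChar π T c χ) : PicF.IsInvertibleCl c := by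
  obtain ⟨N, rfl, hN, -⟩ := h
  exact ⟨N, rfl, hN⟩

theorem HasChar.mul {c d : PicF.Cl (B ⊗ T).left} {χ ψ} (h : HasChar π T c χ) (h' : HasChar π T d ψ) :
    HasChar π T (c * d) (χ * ψ) := by
  obtain ⟨N, rfl, hN, D, hD⟩ := h
  obtain ⟨M, rfl, hM, E, hE⟩ := h'
  exact ⟨_, rfl, PicMul.isInvertible_tensor hN hM, D.tensor E, by rw [map_mul]; exact hD.tensor D hE⟩

theorem HasChar.eq_one {χ} (h : HasChar π T (1 : PicF.Cl (B ⊗ T).left) χ) : χ = 1 := by
  obtain ⟨N, hN1, -, D, hD⟩ := h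
  have h1 := isChar2_one_of_triv D ((PicGrp.cl_eq_cl_iff _ _).1 hN1) (rfl : (u₁ π T).left ≫ (π ▷ T).left = _)
    (congrArg CommaMorphism.left (u_comp π T) :) appTop_u
  exact (bijective_snd (A := A) (Gk π ⊗ T)).1 ((hD.unique D h1).trans (map_one _).symm)

theorem HasChar.unique {c : PicF.Cl (B ⊗ T).left} {χ χ'} (hk : pl (π ▷ T) c = 1) (h : HasChar π T c χ)
    (h' : HasChar π T c χ') : χ = χ' := by
  obtain ⟨N, rfl, hN⟩ := h.killed
  obtain ⟨M, hM, e⟩ := PicInv.exists_inverse hN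
  have he : PicF.cl N * PicF.cl M = 1 := (PicGrp.cl_eq_cl_iff _ _).2 e
  obtain ⟨ψ, hψ⟩ := exists_hasChar (π := π) ⟨M, rfl, hM⟩ (pl_inv_eq_one he hk)
  have h1 := h.mul hψ
  have h2 := h'.mul hψ
  rw [he] at h1 h2
  have hu : IsUnit ψ := IsUnit.of_mul_eq_one χ (by rw [mul_comm]; exact h1.eq_one)
  exact hu.mul_right_cancel (h1.eq_one.trans h2.eq_one.symm)

theorem HasChar.natural (g : T' ⟶ T) {c : PicF.Cl (B ⊗ T).left} {χ} (h : HasChar π T c χ) :
    HasChar π T' (pl (B ◁ g) c) ((Gk π ◁ g).left.appTop χ) := by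
  obtain ⟨N, rfl, hN, D, hD⟩ := h
  have hsq : (π ▷ T').left ≫ (B ◁ g).left = (A ◁ g).left ≫ (π ▷ T).left := by
    rw [← Over.comp_left, ← Over.comp_left, whisker_exchange]
  refine ⟨_, rfl, PicClLib.isInvertible_pullback _ hN, datPull hsq D, ?_⟩
  let w := A ◁ (Gk π ◁ g)
  have e1 : u₁ π T' ≫ (A ◁ g) = w ≫ u₁ π T := CartesianMonoidalCategory.hom_ext _ _ (by simp [w]) (by simp [w])
  have e2 : u₂ π T' ≫ (A ◁ g) = w ≫ u₂ π T :=
    CartesianMonoidalCategory.hom_ext _ _ (by simp [w, MonObj.comp_mul]) (by simp [w])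
  have v1 : ((u₁ π T').left ≫ (A ◁ g).left) ≫ (π ▷ T).left = (u₁ π T' ≫ (π ▷ T')).left ≫ (B ◁ g).left := by
    rw [Category.assoc, ← hsq, ← Category.assoc]; rfl
  have v2 : ((u₂ π T').left ≫ (A ◁ g).left) ≫ (π ▷ T).left = (u₁ π T' ≫ (π ▷ T')).left ≫ (B ◁ g).left := by
    rw [Category.assoc, ← hsq, ← Category.assoc]
    exact congrArg (· ≫ (B ◁ g).left) (congrArg CommaMorphism.left (u_comp π T') :)
  refine isChar2_datPull hsq _ _ v1 v2 ?_
  have hw : (snd A (Gk π ⊗ T')).left.appTop ((Gk π ◁ g).left.appTop χ) = w.left.appTop ((snd A (Gk π ⊗ T)).left.appTop χ) := by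
    have : snd A (Gk π ⊗ T') ≫ (Gk π ◁ g) = w ≫ snd A (Gk π ⊗ T) := (whiskerLeft_snd _ _).symm
    exact ConcreteCategory.congr_hom ((Scheme.Hom.comp_appTop _ _).symm.trans
      ((congrArg (fun m => Scheme.Hom.appTop (CommaMorphism.left m)) this).trans (Scheme.Hom.comp_appTop _ _))) χ
  rw [hw]
  exact hD.pull D w.left _ _ _ v1 v2 (congrArg CommaMorphism.left e1 :) (congrArg CommaMorphism.left e2 :)

variable (π) in
/-- Multiplicative for the group law of the kernel. -/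
def MultT (T : Over (Spec (CommRingCat.of K))) (χ : Γ((Gk π ⊗ T).left, ⊤)) : Prop :=
  ∀ m : Gk π ⊗ Gk π ⟶ Gk π, m ≫ gι π = (fst _ _ ≫ gι π) * (snd _ _ ≫ gι π) →
    (m ▷ T).left.appTop χ =
      (fst (Gk π) (Gk π) ▷ T).left.appTop χ * (snd (Gk π) (Gk π) ▷ T).left.appTop χ

theorem HasChar.mult {c : PicF.Cl (B ⊗ T).left} {χ} (h : HasChar π T c χ) : MultT π T χ := by
  obtain ⟨N, rfl, hN, D, hD⟩ := h
  intro m hm
  let S := (Gk π ⊗ Gk π) ⊗ T
  let g := fst (Gk π ⊗ Gk π) T ≫ fst (Gk π) (Gk π) ≫ gι π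
  let h := fst (Gk π ⊗ Gk π) T ≫ snd (Gk π) (Gk π) ≫ gι π
  let v : (S ⟶ A) → (A ⊗ S ⟶ A ⊗ T) := fun a =>
    lift (fst A S * (snd A S ≫ a)) (snd A S ≫ snd (Gk π ⊗ Gk π) T)
  have key : ∀ (a : S ⟶ A) (e : Gk π ⊗ Gk π ⟶ Gk π) (b : S ⟶ A)
      (_ : a * (fst (Gk π ⊗ Gk π) T ≫ e ≫ gι π) = b) (ha : (v a).left ≫ (π ▷ T).left = (v 1 ≫ (π ▷ T)).left)
      (hb : (v b).left ≫ (π ▷ T).left = (v 1 ≫ (π ▷ T)).left),
      IsChar2 D ha hb ((snd A S).left.appTop ((e ▷ T).left.appTop χ)) := by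
    intro a e b hab ha hb
    let w : A ⊗ S ⟶ A ⊗ (Gk π ⊗ T) := lift (fst A S * (snd A S ≫ a)) (snd A S ≫ (e ▷ T))
    have hw1 : v a = w ≫ u₁ π T := CartesianMonoidalCategory.hom_ext _ _ (by simp [v, w]) (by simp [v, w])
    have hw2 : v b = w ≫ u₂ π T := CartesianMonoidalCategory.hom_ext _ _
      (by simp [v, w, ← hab, MonObj.comp_mul, _root_.mul_assoc]) (by simp [v, w])
    have hw : (snd A S).left.appTop ((e ▷ T).left.appTop χ) = w.left.appTop ((snd A (Gk π ⊗ T)).left.appTop χ) := by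
      have : snd A S ≫ (e ▷ T) = w ≫ snd A (Gk π ⊗ T) := (lift_snd _ _).symm
      exact ConcreteCategory.congr_hom ((Scheme.Hom.comp_appTop _ _).symm.trans
        ((congrArg (fun m => Scheme.Hom.appTop (CommaMorphism.left m)) this).trans (Scheme.Hom.comp_appTop _ _))) χ
    rw [hw]
    exact hD.pull D w.left _ _ _ ha hb (congrArg CommaMorphism.left hw1 :) (congrArg CommaMorphism.left hw2 :)
  have hv : ∀ a : S ⟶ A, a ≫ π = 1 → (v a).left ≫ (π ▷ T).left = (v 1 ≫ (π ▷ T)).left := fun a ha => by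
    rw [← Over.comp_left]
    refine congrArg CommaMorphism.left ?_
    simp only [v, lift_whiskerRight, MonObj.mul_comp, Category.assoc, ha, MonObj.comp_one, 
      _root_.mul_one]
  have hg : g ≫ π = 1 := by simp only [g, Category.assoc, gι_comp, MonObj.comp_one]
  have hgh : (g * h) ≫ π = 1 := by
    simp only [g, h, MonObj.mul_comp, Category.assoc, gι_comp, MonObj.comp_one, _root_.mul_one]
  have k1 := key 1 (fst _ _) g (_root_.one_mul _) (hv 1 (MonObj.one_comp π)) (hv g hg)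
  have k2 := key g (snd _ _) (g * h) rfl (hv g hg) (hv _ hgh)
  have k3 := key 1 m (g * h) (by
    rw [_root_.one_mul, hm, MonObj.comp_mul]
    ) (hv 1 (MonObj.one_comp π)) (hv _ hgh)
  refine (bijective_snd (A := A) S).1 ((k3.unique D (k1.trans D k2)).trans ?_)
  rw [map_mul]

variable [IsFinite π.left] [Flat π.left] [Surjective π.left]

theorem eq_one_of_char_one {c : PicF.Cl (B ⊗ T).left} (h : HasChar π T c 1) : c = 1 := by
  obtain ⟨N, rfl, hN, D, hD⟩ := h
  refine (PicGrp.cl_eq_cl_iff _ _).2 ?_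
  have hp := (GrpSchLib.isPullback_whiskerRight π T).flip
  haveI : IsFinite (π ▷ T).left := MorphismProperty.of_isPullback (P := @IsFinite) hp inferInstance
  haveI : Flat (π ▷ T).left := MorphismProperty.of_isPullback (P := @Flat) hp inferInstance
  haveI : Surjective (π ▷ T).left := MorphismProperty.of_isPullback (P := @Surjective) hp inferInstance
  refine triv_of_invariant D fun y W a b hab => ?_
  let Wk : Over (Spec (CommRingCat.of K)) := Over.mk (a ≫ (A ⊗ T).hom)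
  let a' : Wk ⟶ A ⊗ T := Over.homMk a rfl
  let b' : Wk ⟶ A ⊗ T := Over.homMk b (by
    show b ≫ (A ⊗ T).hom = a ≫ (A ⊗ T).hom
    rw [← Over.w (π ▷ T), ← Category.assoc, ← hab, Category.assoc])
  have hab' : a' ≫ (π ▷ T) = b' ≫ (π ▷ T) := Over.OverMorphism.ext hab
  have h1 := congrArg (· ≫ fst B T) hab'
  have h2 := congrArg (· ≫ snd B T) hab'
  simp only [Category.assoc, whiskerRight_fst, whiskerRight_snd] at h1 h2
  obtain ⟨d, hd⟩ := exists_lift_Gk (π := π) ((a' ≫ fst A T)⁻¹ * (b' ≫ fst A T)) (by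
    rw [MonObj.mul_comp, GrpObj.inv_comp, Category.assoc, Category.assoc, h1, inv_mul_cancel])
  let w : Wk ⟶ A ⊗ (Gk π ⊗ T) := lift (a' ≫ fst A T) (lift d (a' ≫ snd A T))
  have e1 : a' = w ≫ u₁ π T := CartesianMonoidalCategory.hom_ext _ _ (by simp [w]) (by simp [w])
  have e2 : b' = w ≫ u₂ π T := CartesianMonoidalCategory.hom_ext _ _
    (by simp [w, MonObj.comp_mul, hd]) (by simp [w, h2])
  have h' := IsChar2.pull D hD w.left a b (a ≫ (π ▷ T).left) rfl hab.symm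
    (congrArg CommaMorphism.left e1 :) (congrArg CommaMorphism.left e2 :) y
  rw [map_one, map_one, map_one, _root_.one_mul] at h'
  exact h'

theorem eq_of_hasChar {c d : PicF.Cl (B ⊗ T).left} {χ} (hd : pl (π ▷ T) d = 1) (h : HasChar π T c χ)
    (h' : HasChar π T d χ) : c = d := by
  obtain ⟨M, rfl, hM⟩ := h'.killed
  obtain ⟨M', hM', e⟩ := PicInv.exists_inverse hM
  have he : PicF.cl M * PicF.cl M' = 1 := (PicGrp.cl_eq_cl_iff _ _).2 e
  obtain ⟨ψ, hψ⟩ := exists_hasChar (π := π) ⟨M', rfl, hM'⟩ (pl_inv_eq_one he hd)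
  have h1 := h'.mul hψ
  rw [he] at h1
  have h2 := h.mul hψ
  rw [h1.eq_one] at h2
  exact (PicMul.isUnit_cl hM').mul_right_cancel ((eq_one_of_char_one h2).trans he.symm)

end Family

end Groth.Agent.AVKerFam
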