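import Groth.Agent.Lib.AVKerUniv
import Groth.Agent.Lib.AVCartPair
import Groth.Prelude.Def_CoactBr
import Groth.Prelude.Def_AlgGrp

/-!
The kernels of an isogeny and of its transpose are paired, nondegenerately on the side of the transpose.
-/

set_option linter.style.haveILetI false
set_option linter.unusedSectionVars false
set_option backward.isDefEq.respectTransparency false
set_option backward.isDefEq.respectTransparency.types false
set_option maxHeartbeats 800000
set_option synthInstance.maxHeartbeats 400000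

universe u

open CategoryTheory CategoryTheory.Limits MonoidalCategory CartesianMonoidalCategory MonObj AlgebraicGeometry TopologicalSpace Opposite
open scoped TensorProduct

namespace Groth.Agent.AVKerPair

open Groth.Agent.H23 Groth.Agent.AVKerCl Groth.Agent.AVKerFam Groth.Agent.AVPair Groth.Agent.AVKerUniv
open Algebra.TensorProduct (includeLeft includeRight)
open CoactBr (sp pt)
open scoped Groth.Agent.H23.PicMul

noncomputable local instance braidedAlgSpecOf (R : Type u) [CommRing R] : (algSpec (CommRingCat.of R)).Braided := braidedAlgSpec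

variable {k : Type u} [Field k] {A B At Bt : Over (Spec (CommRingCat.of k))} [GrpObj A] [GrpObj B] [GrpObj At]
  [GrpObj Bt] {π : A ⟶ B} [IsMonHom π] [IsProper A.hom] [GeometricallyIntegral A.hom]
  {φA : ∀ T : Over (Spec (CommRingCat.of k)), PicF.Cl (PicF.XT A.hom T) → (T ⟶ At)}
  {φB : ∀ T : Over (Spec (CommRingCat.of k)), PicF.Cl (PicF.XT B.hom T) → (T ⟶ Bt)}
  (hA : AbDual.IsDualAV Scheme.fppfPrecoverage A At φA) (hB : AbDual.IsDualAV Scheme.fppfPrecoverage B Bt φB)
  {ft : Bt ⟶ At} (hft : AbDual.IsTranspose π φA φB ft)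
  {HA : Type u} [CommRing HA] [HopfAlgebra k HA] {HB : Type u} [CommRing HB] [HopfAlgebra k HB]

section Val

variable (d : sp k HA ⟶ Gk π) (χ : Γ((Gk π ⊗ sp k HB).left, ⊤)) {R R' : Type u} [CommRing R] [Algebra k R]
  [CommRing R'] [Algebra k R']

/-- The value at a pair of points. -/
noncomputable def val (φ : HA →ₐ[k] R) (ψ : HB →ₐ[k] R) : R :=
  (Scheme.ΓSpecIso (CommRingCat.of R)).hom (fn (lift (pt φ ≫ d) (pt ψ)) χ)

theorem val_nat (f : R →ₐ[k] R') (φ : HA →ₐ[k] R) (ψ : HB →ₐ[k] R) :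
    f (val d χ φ ψ) = val d χ (f.comp φ) (f.comp ψ) := by
  have e : lift (pt (f.comp φ) ≫ d) (pt (f.comp ψ)) = pt f ≫ lift (pt φ ≫ d) (pt ψ) := by
    rw [comp_lift, CoactBr.pt_comp, CoactBr.pt_comp, Category.assoc]
  simp only [val]
  rw [e, ← fn_fn]
  exact (ConcreteCategory.congr_hom (Scheme.ΓSpecIso_naturality (CommRingCat.ofHom f.toRingHom)) _).symm

/-- The element of the tensor product. -/
noncomputable def elt : HA ⊗[k] HB := val d χ includeLeft includeRight

theorem val_eq (φ : HA →ₐ[k] R) (ψ : HB →ₐ[k] R) :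
    val d χ φ ψ = Algebra.TensorProduct.lift φ ψ (fun _ _ => .all _ _) (elt d χ) := by
  rw [elt, val_nat, Algebra.TensorProduct.lift_comp_includeLeft]
  congr 1
  exact (AlgHom.ext fun b => by simp).symm

end Val

variable {i : sp k HA ⟶ A} [IsMonHom i] (hi : AlgGrp.IsKernel i π) {j : sp k HB ⟶ Bt} [IsMonHom j]
  (hj : AlgGrp.IsKernel j ft)

omit hi in
theorem comp_eq_one (hj : AlgGrp.IsKernel j ft) : j ≫ ft = 1 := by
  rw [hj.w, Hom.one_def]

omit hi in
theorem mono_of_kernel (hj : AlgGrp.IsKernel j ft) : Mono j :=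
  ⟨fun a b e => hj.hom_ext e (toUnit_unique _ _)⟩

include hi in
theorem exists_iso : ∃ d : sp k HA ⟶ Gk π, d ≫ gι π = i ∧ IsIso d := by
  have h1 : i ≫ π = 1 := by rw [hi.w, Hom.one_def]
  obtain ⟨d, hd⟩ := exists_lift_Gk (π := π) i h1
  let e : Gk π ⟶ sp k HA := hi.lift (gι π) (toUnit _) (by rw [gι_comp, Hom.one_def])
  have he : e ≫ i = gι π := hi.lift_fst _ _ _
  refine ⟨d, hd, ⟨e, hi.hom_ext ?_ (toUnit_unique _ _), hom_Gk_ext ?_⟩⟩
  · rw [Category.assoc, he, hd, Category.id_comp]
  · rw [Category.assoc, hd, he, Category.id_comp]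

variable {d : sp k HA ⟶ Gk π} (hd : d ≫ gι π = i) {χ : Γ((Gk π ⊗ sp k HB).left, ⊤)}
  (hu : IsUniv (π := π) (φB := φB) j χ)
include hA hB hft hj hu

section Laws

variable {R : Type u} [CommRing R] [Algebra k R]

include hd in
theorem val_mul_left (φ φ' φ'' : HA →ₐ[k] R) (h : pt φ'' = pt φ * pt φ') (ψ : HB →ₐ[k] R) :
    val d χ φ'' ψ = val d χ φ ψ * val d χ φ' ψ := by
  obtain ⟨m, hm⟩ := exists_lift_Gk (π := π) ((fst _ _ ≫ gι π) * (snd (Gk π) (Gk π) ≫ gι π)) (by
    rw [MonObj.mul_comp, Category.assoc, Category.assoc, gι_comp, MonObj.comp_one, MonObj.comp_one, _root_.mul_one])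
  have hmult := univ_mult hA hB hft hu (comp_eq_one hj) m hm
  let p : sp k R ⟶ (Gk π ⊗ Gk π) ⊗ sp k HB := lift (lift (pt φ ≫ d) (pt φ' ≫ d)) (pt ψ)
  have e0 : p ≫ (m ▷ sp k HB) = lift (pt φ'' ≫ d) (pt ψ) := by
    rw [lift_whiskerRight]
    congr 1
    refine hom_Gk_ext ?_
    rw [Category.assoc, Category.assoc, hm, hd, h, MonObj.mul_comp, MonObj.comp_mul, lift_fst_assoc, lift_snd_assoc,
      Category.assoc, Category.assoc, hd]
  have e1 : p ≫ (fst _ _ ▷ sp k HB) = lift (pt φ ≫ d) (pt ψ) := by rw [lift_whiskerRight, lift_fst]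
  have e2 : p ≫ (snd _ _ ▷ sp k HB) = lift (pt φ' ≫ d) (pt ψ) := by rw [lift_whiskerRight, lift_snd]
  have key := congrArg (fn p) hmult
  rw [map_mul] at key
  simp only [val]
  rw [← map_mul, ← e0, ← e1, ← e2]
  exact congrArg _ key

theorem val_mul_right (φ : HA →ₐ[k] R) (ψ ψ' ψ'' : HB →ₐ[k] R) (h : pt ψ'' = pt ψ * pt ψ') :
    val d χ φ ψ'' = val d χ φ ψ * val d χ φ ψ' := by
  have key := congrArg (fn (lift (pt φ ≫ d) (𝟙 (sp k R))))
    (univ_mul hA hB hft hu (comp_eq_one hj) (pt ψ) (pt ψ') (pt ψ'') (by rw [h, MonObj.mul_comp]))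
  rw [map_mul] at key
  simp only [fn_fn, lift_whiskerLeft, Category.id_comp] at key
  simp only [val]
  rw [← map_mul, key]

theorem val_one_right (φ : HA →ₐ[k] R) (ψ : HB →ₐ[k] R) (h : pt ψ = 1) : val d χ φ ψ = 1 := by
  obtain ⟨χ', hχ'⟩ := exists_hasChar (π := π) (T := sp k R) (c := 1) isInv_one (map_one _)
  have hg : Good π φB (sp k R) ((1 : sp k R ⟶ sp k HB) ≫ j) 1 :=
    ⟨1, AbDualBase.pz_one _, by rw [AbDualBase.phi_one hB, MonObj.one_comp], map_one _, hχ'.eq_one ▸ hχ'⟩
  have key := congrArg (fn (lift (pt φ ≫ d) (𝟙 (sp k R)))) (hu _ _ _ hg)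
  simp only [map_one, fn_fn, lift_whiskerLeft, Category.id_comp] at key
  simp only [val]
  rw [h, key, map_one]

include hd in
theorem val_one_left (φ : HA →ₐ[k] R) (h : pt φ = 1) (ψ : HB →ₐ[k] R) : val d χ φ ψ = 1 := by
  have hv := val_mul_left hA hB hft hj hd hu φ φ φ (by rw [h, _root_.one_mul]) ψ
  let ψi : HB →ₐ[k] R := ψ.comp (HopfAlgebra.antipodeAlgHom k HB)
  let ψ1 : HB →ₐ[k] R := (Algebra.ofId k R).comp (Bialgebra.counitAlgHom k HB)
  have h1 : pt ψ1 = 1 := CoactBr.one_eq_pt.symm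
  have hm := val_mul_right hA hB hft hj hu (d := d) φ ψ ψi ψ1 (by rw [h1, ← CoactBr.pt_inv, mul_inv_cancel])
  rw [val_one_right hA hB hft hj hu φ ψ1 h1] at hm
  exact (IsUnit.of_mul_eq_one _ hm.symm).mul_left_cancel (by rw [← hv, _root_.mul_one])

end Laws

variable [IsFinite π.left] [Flat π.left] [Surjective π.left] [FiniteDimensional k HA] [FiniteDimensional k HB] [IsIso d]
include hd

theorem isPairing : AVCartPair.IsPairing (elt d χ) where
  comul_left := by
    let φ : HA →ₐ[k] (HA ⊗[k] HA) ⊗[k] HB := includeLeft.comp includeLeft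
    let φ' : HA →ₐ[k] (HA ⊗[k] HA) ⊗[k] HB := includeLeft.comp includeRight
    let ψ : HB →ₐ[k] (HA ⊗[k] HA) ⊗[k] HB := includeRight
    have h := val_mul_left hA hB hft hj hd hu φ φ' _ (CoactBr.pt_mul_pt φ φ').symm ψ
    rw [val_eq, val_eq, val_eq] at h
    have e0 : Algebra.TensorProduct.lift ((Algebra.TensorProduct.lift φ φ' fun _ _ => .all _ _).comp
        (Bialgebra.comulAlgHom k HA)) ψ (fun _ _ => .all _ _) =
        Algebra.TensorProduct.map (Bialgebra.comulAlgHom k HA) (AlgHom.id k HB) := by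
      have : (Algebra.TensorProduct.lift φ φ' fun _ _ => .all _ _) = includeLeft :=
        Algebra.TensorProduct.ext' fun a b => by simp [φ, φ']
      rw [this]
      exact Algebra.TensorProduct.ext' fun a b => by simp [ψ]
    have e1 : Algebra.TensorProduct.lift φ ψ (fun _ _ => .all _ _) =
        Algebra.TensorProduct.map (includeLeft : HA →ₐ[k] HA ⊗[k] HA) (AlgHom.id k HB) :=
      Algebra.TensorProduct.ext' fun a b => by simp [φ, ψ]
    have e2 : Algebra.TensorProduct.lift φ' ψ (fun _ _ => .all _ _) =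
        Algebra.TensorProduct.map (includeRight : HA →ₐ[k] HA ⊗[k] HA) (AlgHom.id k HB) :=
      Algebra.TensorProduct.ext' fun a b => by simp [φ', ψ]
    rwa [e0, e1, e2] at h
  comul_right := by
    let φ : HA →ₐ[k] HA ⊗[k] (HB ⊗[k] HB) := includeLeft
    let ψ : HB →ₐ[k] HA ⊗[k] (HB ⊗[k] HB) := includeRight.comp includeLeft
    let ψ' : HB →ₐ[k] HA ⊗[k] (HB ⊗[k] HB) := includeRight.comp includeRight
    have h := val_mul_right hA hB hft hj hu (d := d) φ ψ ψ' _ (CoactBr.pt_mul_pt ψ ψ').symm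
    rw [val_eq, val_eq, val_eq] at h
    have e0 : Algebra.TensorProduct.lift φ ((Algebra.TensorProduct.lift ψ ψ' fun _ _ => .all _ _).comp
        (Bialgebra.comulAlgHom k HB)) (fun _ _ => .all _ _) =
        Algebra.TensorProduct.map (AlgHom.id k HA) (Bialgebra.comulAlgHom k HB) := by
      have : (Algebra.TensorProduct.lift ψ ψ' fun _ _ => .all _ _) = includeRight :=
        Algebra.TensorProduct.ext' fun a b => by simp [ψ, ψ']
      rw [this]
      exact Algebra.TensorProduct.ext' fun a b => by simp [φ]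
    have e1 : Algebra.TensorProduct.lift φ ψ (fun _ _ => .all _ _) =
        Algebra.TensorProduct.map (AlgHom.id k HA) (includeLeft : HB →ₐ[k] HB ⊗[k] HB) :=
      Algebra.TensorProduct.ext' fun a b => by simp [φ, ψ]
    have e2 : Algebra.TensorProduct.lift φ ψ' (fun _ _ => .all _ _) =
        Algebra.TensorProduct.map (AlgHom.id k HA) (includeRight : HB →ₐ[k] HB ⊗[k] HB) :=
      Algebra.TensorProduct.ext' fun a b => by simp [φ, ψ']
    rwa [e0, e1, e2] at h
  counit_left := by
    have h := val_one_left hA hB hft hj hd hu ((Algebra.ofId k HB).comp (Bialgebra.counitAlgHom k HA))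
      CoactBr.one_eq_pt.symm (AlgHom.id k HB)
    rw [val_eq] at h
    refine Eq.trans ?_ h
    generalize elt d χ = x
    induction x using TensorProduct.induction_on with
    | zero => simp
    | tmul a b => simp [Algebra.smul_def]
    | add y y' e e' => simp only [map_add, e, e']
  counit_right := by
    have h := val_one_right hA hB hft hj hu (d := d) (includeLeft : HA →ₐ[k] HA ⊗[k] k)
      ((Algebra.ofId k _).comp (Bialgebra.counitAlgHom k HB)) CoactBr.one_eq_pt.symm
    rw [val_eq] at h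
    refine Eq.trans (AlgHom.congr_fun ?_ (elt d χ)) h
    exact Algebra.TensorProduct.ext' fun a b => by
      simp [Algebra.smul_def, Algebra.TensorProduct.algebraMap_apply', -Algebra.TensorProduct.algebraMap_apply]
  inj R _ _ a b h := by
    let φ : HA →ₐ[k] HA ⊗[k] R := includeLeft
    have e : ∀ c : HB →ₐ[k] R, Algebra.TensorProduct.map (AlgHom.id k HA) c (elt d χ) =
        val d χ φ (includeRight.comp c) := fun c => by
      rw [val_eq]
      exact AlgHom.congr_fun (Algebra.TensorProduct.ext' fun a b => by simp [φ]) (elt d χ)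
    rw [e, e] at h
    simp only [val] at h
    have h' := (ConcreteCategory.bijective_of_isIso (Scheme.ΓSpecIso (CommRingCat.of (HA ⊗[k] R))).hom).1 h
    let q : sp k (HA ⊗[k] R) ⟶ Gk π ⊗ sp k R := lift (pt φ ≫ d) (pt includeRight)
    have hl : IsIso (lift (pt φ) (pt (includeRight : R →ₐ[k] HA ⊗[k] R))) := by
      have e := CoactBr.lift_pt_pt φ (includeRight : R →ₐ[k] HA ⊗[k] R)
      rw [show (Algebra.TensorProduct.lift φ includeRight fun _ _ => .all _ _) = AlgHom.id k (HA ⊗[k] R) from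
        Algebra.TensorProduct.ext' fun a b => by simp [φ], CoactBr.pt_id] at e
      haveI : IsIso (lift (pt φ) (pt (includeRight : R →ₐ[k] HA ⊗[k] R)) ≫
        Functor.LaxMonoidal.μ (algSpec (CommRingCat.of k)) (op (.of k HA)) (op (.of k R))) := by rw [e]; infer_instance
      exact IsIso.of_isIso_comp_right _ (Functor.LaxMonoidal.μ (algSpec (CommRingCat.of k)) (op (.of k HA)) (op (.of k R)))
    haveI : IsIso q := by
      have : q = lift (pt φ) (pt includeRight) ≫ (d ▷ sp k R) := (lift_whiskerRight _ _ _).symm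
      rw [this]
      infer_instance
    have hq : ∀ c : HB →ₐ[k] R, lift (pt φ ≫ d) (pt (includeRight.comp c)) = q ≫ (Gk π ◁ pt c) := fun c => by
      rw [lift_whiskerLeft, CoactBr.pt_comp]
    rw [hq, hq, ← fn_fn, ← fn_fn] at h'
    haveI : IsIso q.left := inferInstanceAs (IsIso ((Over.forget _).map q))
    haveI : IsIso q.left.appTop := inferInstance
    haveI := mono_of_kernel hj
    exact CoactBr.pt_injective (univ_injective hA hB hft hu (comp_eq_one hj) _ _
      ((ConcreteCategory.bijective_of_isIso q.left.appTop).1 h'))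

omit hu hd

/-- The kernel of the transpose is at most as big as the kernel; with equality it is its Cartier dual. -/
theorem transpose_kernel (hi : AlgGrp.IsKernel i π) : Module.finrank k HB ≤ Module.finrank k HA ∧
    (Module.finrank k HA ≤ Module.finrank k HB → Nonempty (HB ≃ₐc[k] CartDual.D k HA)) := by
  obtain ⟨d', hd', _⟩ := exists_iso hi
  obtain ⟨χ', hu'⟩ := exists_univ hA hB hft (π := π) j (comp_eq_one hj)
  exact ⟨AVCartPair.finrank_le (isPairing hA hB hft hj hd' hu'),
    fun h => AVCartPair.nonempty_equiv (isPairing hA hB hft hj hd' hu') h⟩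

end Groth.Agent.AVKerPair
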