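import Groth.Agent.H23.KerIsog
import Groth.Agent.GrpSchLib.Cartier
import Groth.Agent.GrpSchLib.HomFlat
import Groth.Agent.GrpSchLib.SmoothReduced
import Groth.Agent.CentralMT.Basic
import Groth.Agent.FlatPtDesc.Graph
import Mathlib.AlgebraicGeometry.Limits
import Mathlib.AlgebraicGeometry.AlgClosed.Basic

/-!
An isogeny in characteristic zero is étale, and its kernel pair is the disjoint union of the graphs of the
translations by the rational points of the kernel.
-/

set_option autoImplicit false
set_option linter.style.haveILetI false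
set_option backward.isDefEq.respectTransparency false
set_option backward.isDefEq.respectTransparency.types false
set_option maxHeartbeats 1000000

universe u

open CategoryTheory CategoryTheory.Limits MonoidalCategory CartesianMonoidalCategory MonObj AlgebraicGeometry
  TopologicalSpace Opposite

noncomputable section

namespace Groth.Agent.AVKerSplit

open Groth.Agent

variable {k : Type u} [Field k] {A B : Over (Spec (CommRingCat.of k))} [GrpObj A] [GrpObj B] (π : A ⟶ B) [IsMonHom π]

/-- The kernel in the category over the base. -/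
abbrev kerO : Over (Spec (CommRingCat.of k)) := pullback π η[B]

theorem fst_comp_eq_one : pullback.fst π η[B] ≫ π = (1 : kerO π ⟶ B) := by
  rw [pullback.condition, Hom.one_def]
  exact congrArg (· ≫ η[B]) (toUnit_unique _ _)

/-- The points of the kernel. -/
def kerSub (T : Over (Spec (CommRingCat.of k))) : Subgroup (T ⟶ A) where
  carrier := {x | x ≫ π = 1}
  one_mem' := MonObj.one_comp π
  mul_mem' := fun {a b} (ha : a ≫ π = 1) (hb : b ≫ π = 1) => by
    show (a * b) ≫ π = 1
    rw [MonObj.mul_comp, ha, hb, _root_.mul_one]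
  inv_mem' := fun {a} (ha : a ≫ π = 1) => by
    show a⁻¹ ≫ π = 1
    rw [GrpObj.inv_comp, ha, inv_one]

/-- The functor of points of the kernel. -/
def kerFun : (Over (Spec (CommRingCat.of k)))ᵒᵖ ⥤ GrpCat.{u} where
  obj T := GrpCat.of (kerSub π T.unop)
  map {T T'} g := GrpCat.ofHom
    { toFun := fun x => ⟨g.unop ≫ x.1, show (g.unop ≫ x.1) ≫ π = 1 by
        rw [Category.assoc, show x.1 ≫ π = 1 from x.2, MonObj.comp_one]⟩
      map_one' := Subtype.ext (MonObj.comp_one g.unop)
      map_mul' := fun x y => Subtype.ext (MonObj.comp_mul g.unop x.1 y.1) }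
  map_id T := by
    apply GrpCat.hom_ext
    apply MonoidHom.ext
    intro x
    exact Subtype.ext (Category.id_comp _)
  map_comp f g := by
    apply GrpCat.hom_ext
    apply MonoidHom.ext
    intro x
    exact Subtype.ext (Category.assoc _ _ _)

/-- The kernel represents its functor of points. -/
def kerRep : (kerFun π ⋙ forget GrpCat).RepresentableBy (kerO π) where
  homEquiv {T} :=
    { toFun := fun f => ⟨f ≫ pullback.fst π η[B], show (f ≫ _) ≫ π = 1 by
        rw [Category.assoc, fst_comp_eq_one, MonObj.comp_one]⟩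
      invFun := fun x => pullback.lift (show kerSub π T from x).1 (toUnit T)
        ((show kerSub π T from x).2.trans Hom.one_def)
      left_inv := fun f => pullback.hom_ext (pullback.lift_fst _ _ _) (toUnit_unique _ _)
      right_inv := fun x => Subtype.ext (pullback.lift_fst _ _ _) }
  homEquiv_comp f g := Subtype.ext (Category.assoc _ _ _)

/-- The group structure on the kernel. -/
@[reducible]
def kerGrp : GrpObj (kerO π) := GrpObj.ofRepresentableBy _ (kerFun π) (kerRep π)

/-- An isogeny in characteristic zero is étale. -/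
theorem etale_isogeny [CharZero k] [Smooth A.hom] [Smooth B.hom] [IsFinite π.left] [Surjective π.left] :
    Etale π.left := by
  haveI : IsReduced B.left := GrpSchLib.isReduced_of_smooth_field B.hom
  haveI : Flat π.left := GrpSchLib.flat_of_surjective_hom π
  have hN : AlgGrp.IsKernel (pullback.fst π η[B]) π := by
    have h := IsPullback.of_hasPullback π η[B]
    rwa [toUnit_unique (pullback.snd π η[B]) (toUnit _)] at h
  letI := kerGrp π
  haveI : IsFinite (kerO π).hom := H23.KerIsog.prop_ker _ π @IsFinite hN inferInstance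
  haveI : Smooth (kerO π).hom := GrpSchLib.smooth_of_charZero _
  exact H23.KerIsog.prop_of_ker _ π @Etale hN (CentralMT.etale_of_finite_smooth _)

variable [IsAlgClosed k] [IsProper A.hom]

omit [IsAlgClosed k] [IsProper A.hom] in
theorem pt_comp_tr (x a : 𝟙_ (Over (Spec (CommRingCat.of k))) ⟶ A) :
    x ≫ (𝟙 A * (toUnit A ≫ a)) = x * a := by
  rw [MonObj.comp_mul, Category.comp_id, ← Category.assoc,
    toUnit_unique (x ≫ toUnit A) (𝟙 (𝟙_ (Over (Spec (CommRingCat.of k))))), Category.id_comp]

/-- The graph of a translation by a point of the kernel. -/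
abbrev graph (a : {a : 𝟙_ (Over (Spec (CommRingCat.of k))) ⟶ A // a ≫ π = 1}) :
    A.left ⟶ pullback π.left π.left :=
  pullback.lift (𝟙 A * (toUnit A ≫ a.1)).left (𝟙 A.left) (by
    rw [← Over.comp_left, MonObj.mul_comp, Category.id_comp, Category.assoc, a.2, MonObj.comp_one,
      _root_.mul_one, Category.id_comp])

/-- The kernel pair of an étale isogeny is the disjoint union of the graphs of translations. -/
theorem exists_isPullback [Smooth A.hom] [IsFinite π.left] [Etale π.left] :
    Finite {a : 𝟙_ (Over (Spec (CommRingCat.of k))) ⟶ A // a ≫ π = 1} ∧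
      IsPullback
        (Sigma.desc fun a : {a : 𝟙_ (Over (Spec (CommRingCat.of k))) ⟶ A // a ≫ π = 1} =>
          (𝟙 A * (toUnit A ≫ a.1)).left)
        (Sigma.desc fun _ : {a : 𝟙_ (Over (Spec (CommRingCat.of k))) ⟶ A // a ≫ π = 1} => 𝟙 A.left)
        π.left π.left := by
  let J := {a : 𝟙_ (Over (Spec (CommRingCat.of k))) ⟶ A // a ≫ π = 1}
  let P := pullback π.left π.left
  let q : P ⟶ Spec (CommRingCat.of k) := pullback.snd π.left π.left ≫ A.hom
  haveI : LocallyOfFiniteType q := inferInstance
  haveI : JacobsonSpace ↥P := LocallyOfFiniteType.jacobsonSpace q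
  haveI : Etale (pullback.snd π.left π.left) := inferInstance
  haveI : ∀ a : J, IsOpenImmersion (graph π a) := fun a => by
    haveI : IsOpenImmersion (graph π a ≫ pullback.snd π.left π.left) := by
      rw [pullback.lift_snd]; infer_instance
    exact FlatPtDesc.isOpenImmersion_of_comp (graph π a) (pullback.snd π.left π.left)
  have hfst : pullback.fst π.left π.left ≫ A.hom = q := by
    rw [← Over.w π, ← Category.assoc, pullback.condition, Category.assoc, Over.w π]
  -- a rational point of the kernel pair over a closed point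
  have hpt : ∀ w ∈ closedPoints ↥P, ∃ (a : J) (x : 𝟙_ (Over (Spec (CommRingCat.of k))) ⟶ A),
      graph π a (x.left (IsLocalRing.closedPoint k)) = w := fun w hw => by
    obtain ⟨⟨s, hs⟩, hsw⟩ := (pointEquivClosedPoint q).surjective ⟨w, hw⟩
    let y : 𝟙_ (Over (Spec (CommRingCat.of k))) ⟶ A := Over.homMk (s ≫ pullback.fst π.left π.left) (by
      show (s ≫ _) ≫ A.hom = 𝟙 _
      rw [Category.assoc, hfst]; exact hs)
    let x : 𝟙_ (Over (Spec (CommRingCat.of k))) ⟶ A := Over.homMk (s ≫ pullback.snd π.left π.left) (by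
      show (s ≫ _) ≫ A.hom = 𝟙 _
      rw [Category.assoc]; exact hs)
    have hxy : x ≫ π = y ≫ π := Over.OverMorphism.ext (by
      show (s ≫ pullback.snd π.left π.left) ≫ π.left = (s ≫ pullback.fst π.left π.left) ≫ π.left
      rw [Category.assoc, Category.assoc, pullback.condition])
    refine ⟨⟨x⁻¹ * y, by rw [MonObj.mul_comp, GrpObj.inv_comp, hxy, inv_mul_cancel]⟩, x, ?_⟩
    have he : x.left ≫ graph π ⟨x⁻¹ * y, by rw [MonObj.mul_comp, GrpObj.inv_comp, hxy, inv_mul_cancel]⟩ = s := by
      apply pullback.hom_ext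
      · rw [Category.assoc, pullback.lift_fst, ← Over.comp_left, pt_comp_tr, mul_inv_cancel_left]
        rfl
      · rw [Category.assoc, pullback.lift_snd, Category.comp_id]
        rfl
    refine Eq.trans ?_ (congrArg Subtype.val hsw)
    exact congrArg (fun m : (𝟙_ (Over (Spec (CommRingCat.of k)))).left ⟶ P => m (IsLocalRing.closedPoint k)) he
  have hdisj : ∀ a b : J, a ≠ b → Disjoint (Set.range (graph π a)) (Set.range (graph π b)) := fun a b hab => by
    rw [Set.disjoint_iff_inter_eq_empty]
    by_contra hne
    obtain ⟨w, ⟨⟨p, hp⟩, ⟨p', hp'⟩⟩, hwc⟩ := nonempty_inter_closedPoints (Set.nonempty_iff_ne_empty.2 hne)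
      (((graph π a).isOpenEmbedding.isOpen_range.inter (graph π b).isOpenEmbedding.isOpen_range).isLocallyClosed)
    apply hab
    have h0 : p = p' := by
      have := congrArg (pullback.snd π.left π.left) (hp.trans hp'.symm)
      simpa [← Scheme.Hom.comp_apply] using this
    subst h0
    have hpc : p ∈ closedPoints A.left := by
      have h1 : ({p} : Set A.left) = graph π a ⁻¹' {w} := by
        ext t
        simp only [Set.mem_singleton_iff, Set.mem_preimage, ← hp]
        exact ⟨fun h => h ▸ rfl, fun h => (graph π a).isOpenEmbedding.injective h⟩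
      show IsClosed _
      rw [h1]
      exact (show IsClosed {w} from hwc).preimage (graph π a).continuous
    obtain ⟨⟨s, hs⟩, hsp⟩ := (pointEquivClosedPoint A.hom).surjective ⟨p, hpc⟩
    let x : 𝟙_ (Over (Spec (CommRingCat.of k))) ⟶ A := Over.homMk s hs
    have hxp : x.left (IsLocalRing.closedPoint k) = p := congrArg Subtype.val hsp
    have he : x ≫ (𝟙 A * (toUnit A ≫ a.1)) = x ≫ (𝟙 A * (toUnit A ≫ b.1)) := by
      apply Over.OverMorphism.ext
      refine ext_of_apply_closedPoint_eq A.hom (Over.w (x ≫ (𝟙 A * (toUnit A ≫ a.1))))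
        (Over.w (x ≫ (𝟙 A * (toUnit A ≫ b.1)))) ?_
      have h1 := congrArg (pullback.fst π.left π.left) (hp.trans hp'.symm)
      rw [← Scheme.Hom.comp_apply, ← Scheme.Hom.comp_apply, pullback.lift_fst, pullback.lift_fst, ← hxp] at h1
      exact h1
    apply Subtype.ext
    rw [pt_comp_tr, pt_comp_tr] at he
    exact mul_left_cancel he
  haveI : IsOpenImmersion (Sigma.desc (graph π)) := isOpenImmersion_sigmaDesc _ _ fun a b hab => hdisj a b hab
  have hrange : ∀ (a : J) (t : A.left), graph π a t ∈ Set.range (Sigma.desc (graph π)) := fun a t =>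
    ⟨Sigma.ι (fun _ : J => A.left) a t, by
      rw [← Scheme.Hom.comp_apply, Sigma.ι_desc]⟩
  haveI : Surjective (Sigma.desc (graph π)) := ⟨fun w => by
    by_contra hne
    obtain ⟨v, hv, hvc⟩ := nonempty_inter_closedPoints (Z := (Set.range (Sigma.desc (graph π)))ᶜ) ⟨w, hne⟩
      (Sigma.desc (graph π)).isOpenEmbedding.isOpen_range.isClosed_compl.isLocallyClosed
    obtain ⟨a, x, rfl⟩ := hpt v hvc
    exact hv (hrange a _)⟩
  haveI : IsIso (Sigma.desc (graph π)) :=
    isIso_of_isOpenImmersion_of_opensRange_eq_top _ (Opens.ext (Set.range_eq_univ.2 (Sigma.desc (graph π)).surjective))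
  refine ⟨?_, IsPullback.of_iso_pullback ⟨Sigma.hom_ext _ _ fun a => by
    rw [Sigma.ι_desc_assoc, Sigma.ι_desc_assoc, Category.id_comp, ← Over.comp_left, MonObj.mul_comp,
      Category.id_comp, Category.assoc, a.2, MonObj.comp_one, _root_.mul_one]⟩
    (asIso (Sigma.desc (graph π))) ?_ ?_⟩
  · haveI : CompactSpace ↥P :=
      QuasiCompact.compactSpace_of_compactSpace (pullback.snd π.left π.left ≫ A.hom)
    have hcov : (Set.univ : Set P) ⊆ ⋃ a : J, Set.range (graph π a) := fun w _ => by
      obtain ⟨z, rfl⟩ := (Sigma.desc (graph π)).surjective w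
      obtain ⟨a, t, rfl⟩ : ∃ (a : J) (t : A.left), Sigma.ι (fun _ : J => A.left) a t = z :=
        ⟨_, ((Scheme.IsLocallyDirected.openCover (Discrete.functor fun _ : J => A.left)).covers z).choose,
          ((Scheme.IsLocallyDirected.openCover (Discrete.functor fun _ : J => A.left)).covers z).choose_spec⟩
      exact Set.mem_iUnion.2 ⟨a, t, by rw [← Scheme.Hom.comp_apply, Sigma.ι_desc]⟩
    obtain ⟨F, hF⟩ := isCompact_univ.elim_finite_subcover (fun a : J => Set.range (graph π a))
      (fun a => (graph π a).isOpenEmbedding.isOpen_range) hcov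
    refine Finite.of_injective (fun a : J => (⟨a, ?_⟩ : (F : Set J))) fun a b h => congrArg Subtype.val h
    let e0 : A.left := (η[A] : 𝟙_ _ ⟶ A).left (IsLocalRing.closedPoint k)
    obtain ⟨b, hb, hbe⟩ := Set.mem_iUnion₂.1 (hF (Set.mem_univ (graph π a e0)))
    by_contra hn
    exact Set.disjoint_left.1 (hdisj a b (fun h => hn (h ▸ hb))) ⟨e0, rfl⟩ hbe
  · exact Sigma.hom_ext _ _ fun a => by simp
  · exact Sigma.hom_ext _ _ fun a => by simp

end Groth.Agent.AVKerSplit
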