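import Groth.Agent.Lib.AVKerFam
import Groth.Agent.Lib.AVPicMul

/-!
The universal function on the product of the kernels of an isogeny and of its transpose.
-/

set_option linter.style.haveILetI false
set_option linter.unusedSectionVars false
set_option backward.isDefEq.respectTransparency false
set_option backward.isDefEq.respectTransparency.types false
set_option maxHeartbeats 800000
set_option synthInstance.maxHeartbeats 400000

universe u

open CategoryTheory CategoryTheory.Limits MonoidalCategory CartesianMonoidalCategory MonObj AlgebraicGeometry TopologicalSpace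

namespace Groth.Agent.AVKerUniv

open Groth.Agent.H23 Groth.Agent.AVKerCl Groth.Agent.AVKerFam Groth.Agent.AVPair
open scoped Groth.Agent.H23.PicMul

section Fun

/-- The affine line. -/
noncomputable abbrev A1 : Scheme.{u} := Spec (CommRingCat.of (Polynomial (ULift.{u} ℤ)))

/-- A function as a map to the affine line. -/
noncomputable def toA1 {Z : Scheme.{u}} (s : Γ(Z, ⊤)) : Z ⟶ A1.{u} :=
  Z.toSpecΓ ≫ Spec.map (CommRingCat.ofHom
    (Polynomial.eval₂RingHom ((algebraMap ℤ Γ(Z, ⊤)).comp ULift.ringEquiv.toRingHom) s))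

/-- The coordinate. -/
noncomputable def coord : Γ(A1.{u}, ⊤) := (Scheme.ΓSpecIso _).inv Polynomial.X

theorem toA1_coord {Z : Scheme.{u}} (s : Γ(Z, ⊤)) : (toA1 s).appTop coord = s := by
  let ev : CommRingCat.of (Polynomial (ULift.{u} ℤ)) ⟶ Γ(Z, ⊤) := CommRingCat.ofHom
    (Polynomial.eval₂RingHom ((algebraMap ℤ Γ(Z, ⊤)).comp ULift.ringEquiv.toRingHom) s)
  have h1 := Scheme.ΓSpecIso_inv_naturality ev
  have h2 : (toA1 s).appTop = (Spec.map ev).appTop ≫ (Scheme.ΓSpecIso Γ(Z, ⊤)).hom := by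
    simp only [toA1, ev, Scheme.Hom.comp_appTop, Scheme.toSpecΓ_appTop]
  have h3 : (Scheme.ΓSpecIso _).inv ≫ (toA1 s).appTop = ev := by
    rw [h2, ← Category.assoc, ← h1, Category.assoc, Iso.inv_hom_id, Category.comp_id]
  exact (congr($h3 Polynomial.X)).trans (Polynomial.eval₂_X _ _)

theorem comp_toA1 {Z V : Scheme.{u}} (r : Z ⟶ V) (f : Γ(V, ⊤)) : r ≫ toA1 f = toA1 (r.appTop f) := by
  simp only [toA1, ← Category.assoc, Scheme.toSpecΓ_naturality]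
  rw [Category.assoc, ← Spec.map_comp]
  congr 2
  refine CommRingCat.hom_ext (Polynomial.ringHom_ext (fun c => ?_) ?_)
  · simp
  · simp

variable {Y : Scheme.{u}} {R : Presieve Y} (hR : R ∈ Scheme.fppfPrecoverage Y)
include hR

theorem fun_ext {s t : Γ(Y, ⊤)} (h : ∀ ⦃U : Scheme.{u}⦄ (v : U ⟶ Y), R v → v.appTop s = v.appTop t) : s = t := by
  have e : toA1 s = toA1 t := ((GrothendieckTopology.Subcanonical.isSheaf_of_isRepresentable
    (J := Scheme.fppfTopology) (yoneda.obj A1.{u})).isSheafFor _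
      (Precoverage.generate_mem_toGrothendieck hR)).isSeparatedFor.ext fun U v hv => by
        show v ≫ toA1 s = v ≫ toA1 t
        rw [comp_toA1, comp_toA1, h v hv]
  rw [← toA1_coord s, e, toA1_coord]

theorem glue_fun (F : ∀ ⦃U : Scheme.{u}⦄ (v : U ⟶ Y), R v → Γ(U, ⊤))
    (hF : ∀ ⦃U₁ U₂ Z : Scheme.{u}⦄ (g₁ : Z ⟶ U₁) (g₂ : Z ⟶ U₂) (v₁ : U₁ ⟶ Y) (v₂ : U₂ ⟶ Y) (h₁ : R v₁) (h₂ : R v₂),
      g₁ ≫ v₁ = g₂ ≫ v₂ → g₁.appTop (F v₁ h₁) = g₂.appTop (F v₂ h₂)) :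
    ∃ s : Γ(Y, ⊤), ∀ ⦃U : Scheme.{u}⦄ (v : U ⟶ Y) (hv : R v), v.appTop s = F v hv := by
  have hsh := (GrothendieckTopology.Subcanonical.isSheaf_of_isRepresentable
    (J := Scheme.fppfTopology) (yoneda.obj A1.{u})).isSheafFor _ (Precoverage.generate_mem_toGrothendieck hR)
  let fam : Presieve.FamilyOfElements (yoneda.obj A1.{u}) R := fun U v hv => toA1 (F v hv)
  obtain ⟨z, hz, -⟩ := hsh fam (fun U₁ U₂ Z g₁ g₂ v₁ v₂ h₁ h₂ e => by
    show g₁ ≫ toA1 _ = g₂ ≫ toA1 _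
    rw [comp_toA1, comp_toA1, hF g₁ g₂ v₁ v₂ h₁ h₂ e])
  refine ⟨z.appTop coord, fun U v hv => ?_⟩
  have e : v ≫ z = toA1 (F v hv) := hz v hv
  rw [← toA1_coord (F v hv), ← e]
  rfl

end Fun

section Prod

variable {S : Scheme.{u}} (G : Over S) {T : Over S}

/-- Pullback of functions. -/
noncomputable abbrev fn {P Q : Over S} (f : P ⟶ Q) : Γ(Q.left, ⊤) →+* Γ(P.left, ⊤) := f.left.appTop.hom

theorem fn_fn {P Q R : Over S} (f : P ⟶ Q) (g : Q ⟶ R) (s : Γ(R.left, ⊤)) : fn f (fn g s) = fn (f ≫ g) s := rfl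

/-- The pulled back covering of a product. -/
noncomputable def toProd {U : Scheme.{u}} (v : U ⟶ T.left) :
    pullback (snd G T).left v ⟶ (G ⊗ AbDual.ovr T v).left :=
  pullback.lift (pullback.fst (snd G T).left v ≫ (fst G T).left) (pullback.snd (snd G T).left v) (by
    show (pullback.fst (snd G T).left v ≫ (fst G T).left) ≫ G.hom = pullback.snd (snd G T).left v ≫ v ≫ T.hom
    rw [Category.assoc, Over.w (fst G T), ← Over.w (snd G T), pullback.condition_assoc])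

theorem exists_retr {U : Scheme.{u}} (v : U ⟶ T.left) :
    ∃ r : (G ⊗ AbDual.ovr T v).left ⟶ pullback (snd G T).left v,
      r ≫ toProd G v = 𝟙 _ ∧ r ≫ pullback.fst (snd G T).left v = (G ◁ AbDual.ovrHom T v).left := by
  refine ⟨pullback.lift (G ◁ AbDual.ovrHom T v).left (snd G (AbDual.ovr T v)).left ?_, ?_, pullback.lift_fst _ _ _⟩
  · rw [← Over.comp_left, whiskerLeft_snd]
    rfl
  · refine pullback.hom_ext ?_ ?_
    · rw [Category.assoc, toProd, pullback.lift_fst, pullback.lift_fst_assoc, ← Over.comp_left, whiskerLeft_fst,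
        Category.id_comp]
      rfl
    · rw [Category.assoc, toProd, pullback.lift_snd, pullback.lift_snd, Category.id_comp]
      rfl

theorem fun_ext_prod {R : Presieve T.left} (hR : R ∈ Scheme.fppfPrecoverage T.left) {s t : Γ((G ⊗ T).left, ⊤)}
    (h : ∀ ⦃U : Scheme.{u}⦄ (v : U ⟶ T.left), R v →
      fn (G ◁ AbDual.ovrHom T v) s = fn (G ◁ AbDual.ovrHom T v) t) : s = t := by
  obtain ⟨J, U₀, g₀, rfl⟩ := R.exists_eq_ofArrows
  refine fun_ext (Precoverage.mem_coverings_of_isPullback g₀ hR (snd G T).left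
    (fun i => pullback.fst (snd G T).left (g₀ i)) (fun i => pullback.snd (snd G T).left (g₀ i))
    fun i => (IsPullback.of_hasPullback _ _)) ?_
  rintro _ _ ⟨i⟩
  have e : toProd G (g₀ i) ≫ (G ◁ AbDual.ovrHom T (g₀ i)).left = pullback.fst (snd G T).left (g₀ i) := by
    refine pullback.hom_ext ?_ ?_
    · show _ ≫ (fst G T).left = _ ≫ (fst G T).left
      rw [Category.assoc, ← Over.comp_left, whiskerLeft_fst]
      exact pullback.lift_fst _ _ _
    · show _ ≫ (snd G T).left = _ ≫ (snd G T).left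
      rw [Category.assoc, ← Over.comp_left, whiskerLeft_snd, Over.comp_left, ← Category.assoc, pullback.condition]
      exact congrArg (· ≫ g₀ i) (pullback.lift_snd _ _ _)
  rw [← e, Scheme.Hom.comp_appTop]
  exact congrArg (toProd G (g₀ i)).appTop (h _ ⟨i⟩)

theorem glue_prod {R : Presieve T.left} (hR : R ∈ Scheme.fppfPrecoverage T.left)
    (F : ∀ ⦃U : Scheme.{u}⦄ (v : U ⟶ T.left), R v → Γ((G ⊗ AbDual.ovr T v).left, ⊤))
    (hF : ∀ ⦃U₁ U₂ : Scheme.{u}⦄ (v₁ : U₁ ⟶ T.left) (v₂ : U₂ ⟶ T.left) (h₁ : R v₁) (h₂ : R v₂) (W : Over S)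
      (a₁ : W ⟶ AbDual.ovr T v₁) (a₂ : W ⟶ AbDual.ovr T v₂),
      a₁ ≫ AbDual.ovrHom T v₁ = a₂ ≫ AbDual.ovrHom T v₂ → fn (G ◁ a₁) (F v₁ h₁) = fn (G ◁ a₂) (F v₂ h₂)) :
    ∃ s : Γ((G ⊗ T).left, ⊤), ∀ ⦃U : Scheme.{u}⦄ (v : U ⟶ T.left) (hv : R v),
      fn (G ◁ AbDual.ovrHom T v) s = F v hv := by
  obtain ⟨J, U₀, g₀, rfl⟩ := R.exists_eq_ofArrows
  let P := fun i => pullback (snd G T).left (g₀ i)
  let p : ∀ i, P i ⟶ (G ⊗ T).left := fun i => pullback.fst (snd G T).left (g₀ i)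
  have hP : Presieve.ofArrows P p ∈ Scheme.fppfPrecoverage (G ⊗ T).left :=
    Precoverage.mem_coverings_of_isPullback g₀ hR (snd G T).left p
      (fun i => pullback.snd (snd G T).left (g₀ i)) fun i => (IsPullback.of_hasPullback _ _)
  have key : ∀ ⦃i i' : J⦄ ⦃Z : Scheme.{u}⦄ (g : Z ⟶ P i) (g' : Z ⟶ P i'), g ≫ p i = g' ≫ p i' →
      g.appTop ((toProd G (g₀ i)).appTop (F _ ⟨i⟩)) = g'.appTop ((toProd G (g₀ i')).appTop (F _ ⟨i'⟩)) := by
    intro i i' Z g g' e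
    let W : Over S := Over.mk (g ≫ p i ≫ (G ⊗ T).hom)
    let c : W ⟶ G ⊗ T := Over.homMk (g ≫ p i) (Category.assoc _ _ _)
    let a : W ⟶ AbDual.ovr T (g₀ i) := Over.homMk (g ≫ pullback.snd _ _) (by
      show (g ≫ pullback.snd (snd G T).left (g₀ i)) ≫ g₀ i ≫ T.hom = g ≫ p i ≫ (G ⊗ T).hom
      rw [← Over.w (snd G T), Category.assoc, pullback.condition_assoc])
    let a' : W ⟶ AbDual.ovr T (g₀ i') := Over.homMk (g' ≫ pullback.snd _ _) (by
      show (g' ≫ pullback.snd (snd G T).left (g₀ i')) ≫ g₀ i' ≫ T.hom = g ≫ p i ≫ (G ⊗ T).hom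
      rw [← Category.assoc g, e, ← Over.w (snd G T), Category.assoc, Category.assoc, pullback.condition_assoc])
    have hlift : ∀ (j : J) (r : Z ⟶ P j) (b : W ⟶ AbDual.ovr T (g₀ j)), r ≫ p j = g ≫ p i →
        b.left = r ≫ pullback.snd _ _ → r ≫ toProd G (g₀ j) = (lift (c ≫ fst G T) (𝟙 W) ≫ (G ◁ b)).left := by
      intro j r b hr hb
      rw [lift_whiskerLeft, Category.id_comp]
      refine pullback.hom_ext ?_ ?_
      · show _ ≫ (fst G (AbDual.ovr T (g₀ j))).left = _ ≫ (fst G (AbDual.ovr T (g₀ j))).left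
        rw [← Over.comp_left, lift_fst, Category.assoc, Over.comp_left]
        show r ≫ toProd G (g₀ j) ≫ pullback.fst _ _ = (g ≫ p i) ≫ _
        rw [toProd, pullback.lift_fst, ← Category.assoc, ← hr]
      · show _ ≫ (snd G (AbDual.ovr T (g₀ j))).left = _ ≫ (snd G (AbDual.ovr T (g₀ j))).left
        rw [← Over.comp_left, lift_snd, hb, Category.assoc]
        exact congrArg (r ≫ ·) (pullback.lift_snd _ _ _)
    have h := hF (g₀ i) (g₀ i') ⟨i⟩ ⟨i'⟩ W a a' (Over.OverMorphism.ext (by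
      show (g ≫ pullback.snd (snd G T).left (g₀ i)) ≫ g₀ i = (g' ≫ pullback.snd (snd G T).left (g₀ i')) ≫ g₀ i'
      rw [Category.assoc, Category.assoc, ← pullback.condition, ← pullback.condition]
      simp only [← Category.assoc]
      exact congrArg (· ≫ (snd G T).left) e))
    have h' := congrArg (fn (lift (c ≫ fst G T) (𝟙 W))) h
    rw [fn_fn, fn_fn] at h'
    have l1 := congrArg (fun m => Scheme.Hom.appTop m (F _ ⟨i⟩)) (hlift i g a rfl rfl)
    have l2 := congrArg (fun m => Scheme.Hom.appTop m (F _ ⟨i'⟩)) (hlift i' g' a' e.symm rfl)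
    exact l1.trans (h'.trans l2.symm)
  have hex : ∀ ⦃U : Scheme.{u}⦄ (v : U ⟶ (G ⊗ T).left), Presieve.ofArrows P p v →
      ∃ f : Γ(U, ⊤), ∀ ⦃i : J⦄ ⦃Z : Scheme.{u}⦄ (r : Z ⟶ U) (g : Z ⟶ P i), r ≫ v = g ≫ p i →
        r.appTop f = g.appTop ((toProd G (g₀ i)).appTop (F _ ⟨i⟩)) := by
    rintro _ _ ⟨i₀⟩
    exact ⟨(toProd G (g₀ i₀)).appTop (F _ ⟨i₀⟩), fun i Z r g e => key r g e⟩
  choose F' hF' using hex
  obtain ⟨s, hs⟩ := glue_fun hP (fun U v hv => F' v hv) fun U₁ U₂ Z g₁ g₂ v₁ v₂ h₁ h₂ e => by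
    obtain ⟨i⟩ := h₂
    rw [hF' _ h₁ g₁ g₂ e, hF' _ ⟨i⟩ g₂ g₂ rfl]
  refine ⟨s, fun U v hv => ?_⟩
  obtain ⟨i⟩ := hv
  obtain ⟨r, hr1, hr2⟩ := exists_retr G (g₀ i)
  show (G ◁ AbDual.ovrHom T (g₀ i)).left.appTop s = _
  have h2 : r ≫ p i = (G ◁ AbDual.ovrHom T (g₀ i)).left := hr2
  rw [← h2, Scheme.Hom.comp_appTop]
  show r.appTop ((p i).appTop s) = _
  rw [hs (p i) ⟨i⟩, hF' _ ⟨i⟩ r r rfl]
  exact (congrArg (fun m => Scheme.Hom.appTop m (F _ ⟨i⟩)) hr1).trans (by simp)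

end Prod

section Univ

variable {K : Type u} [Field K] {A B At Bt : Over (Spec (CommRingCat.of K))} [GrpObj A] [GrpObj B] [GrpObj At]
  [GrpObj Bt] (π : A ⟶ B) [IsMonHom π] [IsProper A.hom] [GeometricallyIntegral A.hom]
  (φB : ∀ T : Over (Spec (CommRingCat.of K)), PicF.Cl (PicF.XT B.hom T) → (T ⟶ Bt))

/-- A point of the dual comes from a killed class with the given function. -/
def Good (T : Over (Spec (CommRingCat.of K))) (p : T ⟶ Bt) (χ : Γ((Gk π ⊗ T).left, ⊤)) : Prop :=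
  ∃ c : PicF.Cl (B ⊗ T).left, AbDual.IsPicZeroCl B.hom T c ∧ φB T c = p ∧ pl (π ▷ T) c = 1 ∧ HasChar π T c χ

variable {π φB} {φA : ∀ T : Over (Spec (CommRingCat.of K)), PicF.Cl (PicF.XT A.hom T) → (T ⟶ At)}
  (hA : AbDual.IsDualAV Scheme.fppfPrecoverage A At φA) (hB : AbDual.IsDualAV Scheme.fppfPrecoverage B Bt φB)
  {T T' : Over (Spec (CommRingCat.of K))}
include hB

theorem Good.natural (g : T' ⟶ T) {p χ} (h : Good π φB T p χ) : Good π φB T' (g ≫ p) (fn (Gk π ◁ g) χ) := by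
  obtain ⟨c, hc, rfl, hk, hχ⟩ := h
  refine ⟨pl (B ◁ g) c, AbDualBase.pz_xtMap g hc, hB.relPic.natural _ _ g c hc, ?_, hχ.natural g⟩
  rw [pl_pl, ← whisker_exchange, ← pl_pl, hk, map_one]

theorem Good.unique {p χ χ'} (h : Good π φB T p χ) (h' : Good π φB T p χ') : χ = χ' := by
  obtain ⟨c, hc, hp, hk, hχ⟩ := h
  obtain ⟨d, hd, hp', hk', hχ'⟩ := h'
  obtain ⟨R, hR, hloc⟩ := hB.relPic.locallyInjective T c d hc hd (hp.trans hp'.symm)
  refine fun_ext_prod (Gk π) hR fun U v hv => ?_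
  have e : pl (B ◁ AbDual.ovrHom T v) c = pl (B ◁ AbDual.ovrHom T v) d := hloc v hv
  have hk2 : pl (π ▷ AbDual.ovr T v) (pl (B ◁ AbDual.ovrHom T v) c) = 1 := by
    rw [pl_pl, ← whisker_exchange, ← pl_pl, hk, map_one]
  exact (hχ.natural (AbDual.ovrHom T v)).unique hk2 (e ▸ hχ'.natural (AbDual.ovrHom T v))

theorem Good.mul {p q χ ψ} (h : Good π φB T p χ) (h' : Good π φB T q ψ) : Good π φB T (p * q) (χ * ψ) := by
  obtain ⟨c, hc, rfl, hk, hχ⟩ := h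
  obtain ⟨d, hd, rfl, hk', hψ⟩ := h'
  exact ⟨c * d, AVPicMul.pz_mul hc hd, AbDualBase.phi_mul hB hc hd, by rw [map_mul, hk, hk', _root_.one_mul],
    hχ.mul hψ⟩

variable {ft : Bt ⟶ At} (hft : AbDual.IsTranspose π φA φB ft)
include hA hft

theorem exists_good_local (p : T ⟶ Bt) (hp : p ≫ ft = 1) :
    ∃ R ∈ Scheme.fppfPrecoverage T.left, ∀ ⦃U : Scheme.{u}⦄ (v : U ⟶ T.left), R v →
      ∃ χ, Good π φB (AbDual.ovr T v) (AbDual.ovrHom T v ≫ p) χ := by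
  obtain ⟨R, hR, hs⟩ := hB.relPic.locallySurjective T p
  obtain ⟨J, U₀, g₀, rfl⟩ := R.exists_eq_ofArrows
  have hex : ∀ i, ∃ (σ : Type (u + 1)) (Y : σ → Scheme.{u}) (w : ∀ s, Y s ⟶ U₀ i),
      Presieve.ofArrows Y w ∈ Scheme.fppfPrecoverage (U₀ i) ∧ ∀ s, ∃ χ,
        Good π φB (AbDual.ovr (AbDual.ovr T (g₀ i)) (w s))
          (AbDual.ovrHom (AbDual.ovr T (g₀ i)) (w s) ≫ AbDual.ovrHom T (g₀ i) ≫ p) χ := by
    intro i
    obtain ⟨c, hc, hcp⟩ := hs (g₀ i) ⟨i⟩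
    obtain ⟨R', hR', hi⟩ := hA.relPic.locallyInjective _ (PicF.pullCl (AbDual.bcMap π _) c) 1
      (AbDualBase.pz_bc π hc) (AbDualBase.pz_one _) (by
        rw [AbDualBase.phi_one hA, hft _ c hc, hcp, Category.assoc, hp, MonObj.comp_one])
    obtain ⟨σ, Y, w, rfl⟩ := R'.exists_eq_ofArrows
    refine ⟨σ, Y, w, hR', fun s => ?_⟩
    have h1 := hi (w s) ⟨s⟩
    rw [AbDualBase.pullCl_one'] at h1
    let d : PicF.Cl (B ⊗ AbDual.ovr (AbDual.ovr T (g₀ i)) (w s)).left := pl (B ◁ AbDual.ovrHom _ (w s)) c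
    have hdk : pl (π ▷ _) d = 1 := by
      rw [pl_pl, ← whisker_exchange, ← pl_pl]
      exact h1
    have hd : AbDual.IsPicZeroCl B.hom _ d := AbDualBase.pz_xtMap _ hc
    obtain ⟨χ, hχ⟩ := exists_hasChar (π := π) (AbDualBase.pz_invertible hd) hdk
    exact ⟨χ, d, hd, by rw [← hcp]; exact hB.relPic.natural _ _ _ _ hc, hdk, hχ⟩
  choose σ Y w hw hχ using hex
  refine ⟨_, Precoverage.comp_mem_coverings g₀ hR w hw, ?_⟩
  rintro _ _ ⟨⟨i, s⟩⟩
  obtain ⟨χ, hχ⟩ := hχ i s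
  let a : AbDual.ovr T (w i s ≫ g₀ i) ⟶ AbDual.ovr (AbDual.ovr T (g₀ i)) (w i s) :=
    Over.homMk (𝟙 _) (by show 𝟙 _ ≫ w i s ≫ g₀ i ≫ T.hom = (w i s ≫ g₀ i) ≫ T.hom; simp)
  have e : AbDual.ovrHom T (w i s ≫ g₀ i) ≫ p =
      a ≫ AbDual.ovrHom (AbDual.ovr T (g₀ i)) (w i s) ≫ AbDual.ovrHom T (g₀ i) ≫ p := Over.OverMorphism.ext (by
    show (w i s ≫ g₀ i) ≫ p.left = 𝟙 _ ≫ w i s ≫ g₀ i ≫ p.left
    simp)
  exact ⟨_, e ▸ hχ.natural hB a⟩

variable {M : Over (Spec (CommRingCat.of K))} (j : M ⟶ Bt)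

/-- The universal function. -/
def IsUniv (χ : Γ((Gk π ⊗ M).left, ⊤)) : Prop :=
  ∀ (T : Over (Spec (CommRingCat.of K))) (m : T ⟶ M) (χ' : Γ((Gk π ⊗ T).left, ⊤)),
    Good π φB T (m ≫ j) χ' → fn (Gk π ◁ m) χ = χ'

theorem exists_univ (hj : j ≫ ft = 1) : ∃ χ, IsUniv (π := π) (φB := φB) j χ := by
  obtain ⟨R, hR, hex⟩ := exists_good_local hA hB hft j hj
  choose F hF using hex
  obtain ⟨χ, hχ⟩ := glue_prod (Gk π) hR F fun U₁ U₂ v₁ v₂ h₁ h₂ W a₁ a₂ e => by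
    have k1 := (hF v₁ h₁).natural hB a₁
    have k2 := (hF v₂ h₂).natural hB a₂
    rw [← Category.assoc, e, Category.assoc] at k1
    exact k1.unique hB k2
  refine ⟨χ, fun T m χ' h' => ?_⟩
  obtain ⟨J, U₀, g₀, rfl⟩ := R.exists_eq_ofArrows
  refine fun_ext_prod (Gk π) (Precoverage.mem_coverings_of_isPullback g₀ hR m.left
    (fun i => pullback.fst m.left (g₀ i)) (fun i => pullback.snd m.left (g₀ i))
    fun i => (IsPullback.of_hasPullback _ _)) ?_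
  rintro _ _ ⟨i⟩
  let q := pullback.fst m.left (g₀ i)
  let a : AbDual.ovr T q ⟶ AbDual.ovr M (g₀ i) := Over.homMk (pullback.snd m.left (g₀ i)) (by
    show pullback.snd m.left (g₀ i) ≫ g₀ i ≫ M.hom = q ≫ T.hom
    rw [← Over.w m, pullback.condition_assoc])
  have ha : a ≫ AbDual.ovrHom M (g₀ i) = AbDual.ovrHom T q ≫ m := Over.OverMorphism.ext pullback.condition.symm
  have k1 := (hF (g₀ i) ⟨i⟩).natural hB a
  have k2 := h'.natural hB (AbDual.ovrHom T q)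
  rw [← Category.assoc, ha, Category.assoc, ← hχ (g₀ i) ⟨i⟩, fn_fn, ← MonoidalCategory.whiskerLeft_comp, ha,
    MonoidalCategory.whiskerLeft_comp, ← fn_fn] at k1
  exact k1.unique hB k2

variable {j} {χ : Γ((Gk π ⊗ M).left, ⊤)} (hu : IsUniv (π := π) (φB := φB) j χ)
include hu

omit hu in
theorem exists_good_ovr (hj : j ≫ ft = 1) (a : T ⟶ M) :
    ∃ R ∈ Scheme.fppfPrecoverage T.left, ∀ ⦃U : Scheme.{u}⦄ (v : U ⟶ T.left), R v →
      ∃ χ', Good π φB (AbDual.ovr T v) ((AbDual.ovrHom T v ≫ a) ≫ j) χ' := by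
  obtain ⟨R, hR, h⟩ := exists_good_local hA hB hft (a ≫ j) (by rw [Category.assoc, hj, MonObj.comp_one])
  exact ⟨R, hR, fun U v hv => by simpa only [Category.assoc] using h v hv⟩

variable (hj : j ≫ ft = 1)
include hj

theorem univ_mult : MultT π M χ := by
  intro m hm
  obtain ⟨R, hR, h⟩ := exists_good_ovr hA hB hft hj (𝟙 M)
  refine fun_ext_prod (Gk π ⊗ Gk π) hR fun U v hv => ?_
  obtain ⟨ψ, hψ⟩ := h v hv
  have e := hu _ (AbDual.ovrHom M v) ψ (by simpa using hψ)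
  obtain ⟨c, -, -, -, hc⟩ := hψ
  have := hc.mult m hm
  rw [← e] at this
  rw [map_mul]
  simp only [fn_fn, whisker_exchange]
  exact this

theorem univ_mul (a b c : T ⟶ M) (h : c ≫ j = (a ≫ j) * (b ≫ j)) :
    fn (Gk π ◁ c) χ = fn (Gk π ◁ a) χ * fn (Gk π ◁ b) χ := by
  obtain ⟨R, hR, ha⟩ := exists_good_ovr hA hB hft hj a
  refine fun_ext_prod (Gk π) hR fun U v hv => ?_
  obtain ⟨χa, hχa⟩ := ha v hv
  let T₁ := AbDual.ovr T v
  obtain ⟨R', hR', hb⟩ := exists_good_ovr hA hB hft hj (AbDual.ovrHom T v ≫ b)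
  refine fun_ext_prod (Gk π) hR' fun V w hw => ?_
  obtain ⟨χb, hχb⟩ := hb w hw
  let o := AbDual.ovrHom T₁ w ≫ AbDual.ovrHom T v
  have k1 := hu _ (o ≫ a) _ (by simpa only [o, Category.assoc] using hχa.natural hB (AbDual.ovrHom T₁ w))
  have k2 := hu _ (o ≫ b) _ (by simpa only [o, Category.assoc] using hχb)
  have hm := (hχa.natural hB (AbDual.ovrHom T₁ w)).mul hB hχb
  have k3 := hu _ (o ≫ c) _ (by
    rw [Category.assoc, h]
    simp only [o, Category.assoc, MonObj.comp_mul] at hm ⊢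
    exact hm)
  rw [← k1, ← k2] at k3
  simp only [fn_fn, map_mul, ← MonoidalCategory.whiskerLeft_comp]
  simpa only [o, Category.assoc] using k3

variable [IsFinite π.left] [Flat π.left] [Surjective π.left] [Mono j]

theorem univ_injective (a b : T ⟶ M) (h : fn (Gk π ◁ a) χ = fn (Gk π ◁ b) χ) : a = b := by
  obtain ⟨R, hR, ha⟩ := exists_good_ovr hA hB hft hj a
  refine AbDualBase.hom_ext_locally hR fun U v hv => ?_
  obtain ⟨χa, hχa⟩ := ha v hv
  let T₁ := AbDual.ovr T v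
  obtain ⟨R', hR', hb⟩ := exists_good_ovr hA hB hft hj (AbDual.ovrHom T v ≫ b)
  refine AbDualBase.hom_ext_locally hR' fun V w hw => ?_
  obtain ⟨χb, hχb⟩ := hb w hw
  let o := AbDual.ovrHom T₁ w ≫ AbDual.ovrHom T v
  have hχa' := hχa.natural hB (AbDual.ovrHom T₁ w)
  have k1 := hu _ (o ≫ a) _ (by simpa only [o, Category.assoc] using hχa')
  have k2 := hu _ (o ≫ b) _ (by simpa only [o, Category.assoc] using hχb)
  have e : fn (Gk π ◁ (o ≫ a)) χ = fn (Gk π ◁ (o ≫ b)) χ := by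
    simp only [MonoidalCategory.whiskerLeft_comp, ← fn_fn, h]
  obtain ⟨c, -, hcp, -, hcχ⟩ := hχa'
  obtain ⟨d, -, hdp, hdk, hdχ⟩ := hχb
  rw [← k1, e, k2] at hcχ
  rw [eq_of_hasChar hdk hcχ hdχ, hdp] at hcp
  rw [← cancel_mono j]
  simpa only [Category.assoc] using hcp.symm

end Univ

end Groth.Agent.AVKerUniv
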