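import Groth.Agent.H28.ExtSh
import Groth.Agent.H23.ModZero
import Groth.Agent.H23.LocFinCoprod
import Groth.Agent.InvX.Tensor
import Groth.Agent.Lib.AVDual
import Mathlib.AlgebraicGeometry.FunctionField
import Mathlib.LinearAlgebra.Alternating.Uncurry.Fin

/-!
The multiplication `H⁰(E) ⊗ H⁰(det E) → H⁰(E ⊗ det E)` has a kernel when `E` of rank `r` is generically globally
generated and its sections are not spanned by `r` of them.
-/

set_option autoImplicit false
set_option linter.style.haveILetI false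
set_option backward.isDefEq.respectTransparency false
set_option backward.isDefEq.respectTransparency.types false
set_option maxHeartbeats 1000000

universe u

open CategoryTheory CategoryTheory.Limits AlgebraicGeometry TopologicalSpace Opposite MonoidalCategory
open scoped TensorProduct

noncomputable section

namespace Groth.Agent.AVMulSect

open Groth.Agent AModX

variable {X : Scheme.{u}} {E D : X.Modules} {r : ℕ}

theorem tmul_add_left {V : X.Opens} (a a' : Γ(E, V)) (b : Γ(D, V)) :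
    InvX.tmul (a + a') b = InvX.tmul a b + InvX.tmul a' b :=
  (congrArg _ (KFlatLib.tm_add_left (P := CohB1.toPMod E) (Q := CohB1.toPMod D) a a' b)).trans (map_add _ _ _)

theorem tmul_add_right {V : X.Opens} (a : Γ(E, V)) (b b' : Γ(D, V)) :
    InvX.tmul a (b + b') = InvX.tmul a b + InvX.tmul a b' :=
  (congrArg _ (KFlatLib.tm_add_right (P := CohB1.toPMod E) (Q := CohB1.toPMod D) a b b')).trans (map_add _ _ _)

/-- `a ↦ (v ↦ a ⊗ f(v))`. -/
def tensAlt (V : X.Opens) (f : Γ(E, V) [⋀^Fin r]→ₗ[Γ(X, V)] Γ(D, V)) :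
    Γ(E, V) →ₗ[Γ(X, V)] Γ(E, V) [⋀^Fin r]→ₗ[Γ(X, V)] Γ(CohB1.tensorMod E D, V) where
  toFun a :=
    ({ toFun := fun b => InvX.tmul a b
       map_add' := fun b b' => tmul_add_right a b b'
       map_smul' := fun c b => InvX.tmul_smul_right c a b } :
      Γ(D, V) →ₗ[Γ(X, V)] Γ(CohB1.tensorMod E D, V)).compAlternatingMap f
  map_add' a a' := AlternatingMap.ext fun v =>
    tmul_add_left a a' (f v)
  map_smul' c a := AlternatingMap.ext fun v => InvX.tmul_smul_left c a (f v)

theorem alt_apply (V : X.Opens) (f : Γ(E, V) [⋀^Fin r]→ₗ[Γ(X, V)] Γ(D, V)) (v : Fin (r + 1) → Γ(E, V)) :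
    AlternatingMap.alternatizeUncurryFin (tensAlt V f) v =
      ∑ i : Fin (r + 1), (-1 : ℤ) ^ (i : ℕ) • InvX.tmul (v i) (f (i.removeNth v)) :=
  AlternatingMap.alternatizeUncurryFin_apply (tensAlt V f) v

/-- With `r + 1` arguments the alternating sum vanishes on every open with a frame, hence everywhere. -/
theorem alt_sum_eq_zero (hE : FlatMod.IsFinLocFreeOfRank r E)
    (μA : ∀ V : X.Opens, Γ(E, V) [⋀^Fin r]→ₗ[Γ(X, V)] Γ(D, V))
    (hμ : ∀ V V' (i : V' ≤ V) (e : Fin r → Γ(E, V)), res D i (μA V e) = μA V' (fun k => res E i (e k)))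
    (U : X.Opens) (v : Fin (r + 1) → Γ(E, U)) :
    ∑ i : Fin (r + 1), (-1 : ℤ) ^ (i : ℕ) • InvX.tmul (v i) (μA U (i.removeNth v)) = 0 := by
  refine AModX.eq_of_locally _ _ fun x hx => ?_
  obtain ⟨V, hxV, ⟨e⟩⟩ := hE x
  obtain ⟨s, hs⟩ := H23.Frame.exists_frame e
  refine ⟨U ⊓ V, inf_le_left, ⟨hx, hxV⟩, ?_⟩
  have h0 : AlternatingMap.alternatizeUncurryFin (tensAlt (U ⊓ V) (μA (U ⊓ V))) = 0 :=
    Module.Basis.ext_alternating (H28.ExtBase.frameBasis hs inf_le_right) fun w hw => by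
      have := Fintype.card_le_of_injective w hw
      simp at this
  have h1 := congrArg (fun g : Γ(E, U ⊓ V) [⋀^Fin (r + 1)]→ₗ[Γ(X, U ⊓ V)] _ =>
    g fun k => res E (inf_le_left : U ⊓ V ≤ U) (v k)) h0
  simp only [alt_apply, AlternatingMap.zero_apply] at h1
  rw [map_sum, map_zero]
  refine Eq.trans (Finset.sum_congr rfl fun i _ => ?_) h1
  rw [map_zsmul, InvX.res_tmul, hμ]
  rfl

/-- Germs of generating global sections span the stalks. -/
theorem span_germ_top {U : X.Opens} {J : Type u} (s : J → (Coh.structureModule X ⟶ E))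
    [Epi ((Scheme.Modules.restrictFunctor U.ι).map (Sigma.desc s))] {x : X} (hx : x ∈ U) :
    Submodule.span (X.presheaf.stalk x)
      (Set.range fun j => E.presheaf.germ ⊤ x trivial ((s j).app ⊤ (H23.Frame.one ⊤))) = ⊤ := by
  have hsurj : Function.Surjective (H23.LocFinCoprod.stk (Sigma.desc s) x) := by
    have e := Scheme.Modules.restrictStalkNatIso U.ι ⟨x, hx⟩
    intro t
    obtain ⟨a, ha⟩ := H23.LocFinCoprod.stk_surjective_of_epi
      ((Scheme.Modules.restrictFunctor U.ι).map (Sigma.desc s)) (⟨x, hx⟩ : U) ((e.inv.app E) t)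
    refine ⟨(e.hom.app (∐ fun _ : J => Coh.structureModule X)) a, ?_⟩
    have h1 := ConcreteCategory.congr_hom (e.hom.naturality (Sigma.desc s)) a
    refine h1.symm.trans ((congrArg (e.hom.app E) ha).trans ?_)
    exact ConcreteCategory.congr_hom (e.inv_hom_id_app E) t
  set N : Submodule (X.presheaf.stalk x) (E.presheaf.stalk x) := Submodule.span (X.presheaf.stalk x)
    (Set.range fun j => E.presheaf.germ ⊤ x trivial ((s j).app ⊤ (H23.Frame.one ⊤))) with hN
  have hle : ∀ j t, H23.LocFinCoprod.stk (s j) x t ∈ N := fun j t => by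
    obtain ⟨V, hxV, c, rfl⟩ := TopCat.Presheaf.exists_germ_eq (Coh.structureModule X).presheaf (x := x) t
    rw [H23.LocFinCoprod.stk_germ, H23.Frame.app_eq_smul, ← H23.Frame.app_one_res (s j) (le_top : V ≤ ⊤),
      QCoh.germ_smul']
    erw [E.presheaf.germ_res_apply]
    exact Submodule.smul_mem _ _ (Submodule.subset_span ⟨j, rfl⟩)
  haveI : PreservesColimit (Discrete.functor fun _ : J => Coh.structureModule X) (DerSch.stalkFunctor X x) :=
    inferInstance
  have h0 : (DerSch.stalkFunctor X x).map (Sigma.desc s) ≫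
      ModuleCat.ofHom (Submodule.mkQ N) = 0 := by
    refine (isColimitOfPreserves (DerSch.stalkFunctor X x)
      (colimit.isColimit (Discrete.functor fun _ : J => Coh.structureModule X))).hom_ext fun j => ?_
    rw [comp_zero, Functor.mapCocone_ι_app, ← Category.assoc, ← Functor.map_comp]
    refine ModuleCat.hom_ext (LinearMap.ext fun t => ?_)
    change Submodule.mkQ N (H23.LocFinCoprod.stk
      (colimit.ι (Discrete.functor fun _ : J => Coh.structureModule X) j ≫ Sigma.desc s) x t) = 0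
    rw [show colimit.ι (Discrete.functor fun _ : J => Coh.structureModule X) j ≫ Sigma.desc s = s j.as from
      colimit.ι_desc _ _]
    exact (Submodule.Quotient.mk_eq_zero N).2 (hle _ t)
  refine eq_top_iff.2 fun y _ => ?_
  obtain ⟨t, rfl⟩ := hsurj y
  exact (Submodule.Quotient.mk_eq_zero N).1 (ConcreteCategory.congr_hom h0 t)

/-- Some `r` global sections have nonzero wedge. -/
theorem exists_mu_ne_zero [IsIntegral X] (hE : FlatMod.IsFinLocFreeOfRank r E)
    (μA : ∀ V : X.Opens, Γ(E, V) [⋀^Fin r]→ₗ[Γ(X, V)] Γ(D, V))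
    (hμ : ∀ V V' (i : V' ≤ V) (e : Fin r → Γ(E, V)), res D i (μA V e) = μA V' (fun k => res E i (e k)))
    (hlift : ∀ V : X.Opens, IsAffineOpen V → Function.Bijective (AltGlue.lift μA V))
    {U : X.Opens} (hU : (U : Set X).Nonempty) {J : Type u} (s : J → (Coh.structureModule X ⟶ E))
    [Epi ((Scheme.Modules.restrictFunctor U.ι).map (Sigma.desc s))] :
    ∃ t : Fin r → Γ(E, ⊤), μA ⊤ t ≠ 0 := by
  have hηU : genericPoint X ∈ U :=
    ((genericPoint_spec X).mem_open_set_iff U.isOpen).2 (by simpa using hU)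
  set η₀ := genericPoint X
  letI : Field (X.presheaf.stalk η₀) := inferInstanceAs (Field X.functionField)
  obtain ⟨V, hηV, ⟨e⟩⟩ := hE η₀
  obtain ⟨fr, hfr⟩ := H23.Frame.exists_frame e
  obtain ⟨W, hW, hηW, hWV⟩ : ∃ W, IsAffineOpen W ∧ η₀ ∈ W ∧ W ≤ V := by
    obtain ⟨_, ⟨W, hW, rfl⟩, hηW, hWV⟩ := X.isBasis_affineOpens.exists_subset_of_mem_open hηV V.2
    exact ⟨W, hW, hηW, hWV⟩
  let bK : Module.Basis (Fin r) (X.presheaf.stalk η₀) (E.presheaf.stalk η₀) :=
    Module.Basis.mk (H23.ModZero.linearIndependent_germ hfr hηV) (H23.ModZero.span_germ_frame hfr hηV)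
  have hrk : Module.finrank (X.presheaf.stalk η₀) (E.presheaf.stalk η₀) = r :=
    (Module.finrank_eq_card_basis bK).trans (Fintype.card_fin r)
  haveI : Module.Finite (X.presheaf.stalk η₀) (E.presheaf.stalk η₀) := Module.Finite.of_basis bK
  obtain ⟨f, hf, -, hli⟩ := Submodule.exists_fun_fin_finrank_span_eq (X.presheaf.stalk η₀)
    (Set.range fun j => E.presheaf.germ ⊤ η₀ trivial ((s j).app ⊤ (H23.Frame.one ⊤)))
  have hn : Module.finrank (X.presheaf.stalk η₀) (Submodule.span (X.presheaf.stalk η₀)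
      (Set.range fun j => E.presheaf.germ ⊤ η₀ trivial ((s j).app ⊤ (H23.Frame.one ⊤)))) = r := by
    rw [span_germ_top s hηU, finrank_top, hrk]
  choose j hj using hf
  let t : Fin r → Γ(E, ⊤) := fun i => (s (j (Fin.cast hn.symm i))).app ⊤ (H23.Frame.one ⊤)
  have hliK : LinearIndependent (X.presheaf.stalk η₀) fun i => E.presheaf.germ ⊤ η₀ trivial (t i) := by
    rw [show (fun i => E.presheaf.germ ⊤ η₀ trivial (t i)) = f ∘ Fin.cast hn.symm from funext fun i => hj _]
    exact hli.comp _ (Fin.cast_injective _)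
  refine ⟨t, fun h0 => ?_⟩
  haveI : Nonempty W := ⟨⟨η₀, hηW⟩⟩
  let b := H28.ExtBase.frameBasis hfr hWV
  let u : Fin r → E.val.obj (op W) := fun i => res E (le_top : W ≤ ⊤) (t i)
  have hdet : b.det u ≠ 0 := by
    rw [Module.Basis.det_apply]
    intro hd
    obtain ⟨c, hc0, hc⟩ := Matrix.exists_mulVec_eq_zero_iff.2 hd
    have hsum : (∑ i, c i • u i) = 0 := b.repr.injective (by
      rw [map_sum, map_zero]
      refine Finsupp.ext fun k => ?_
      rw [Finsupp.finset_sum_apply, Finsupp.zero_apply]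
      refine Eq.trans (Finset.sum_congr rfl fun i _ => ?_) (congrFun hc k)
      rw [map_smul, Finsupp.smul_apply, smul_eq_mul, mul_comm]
      rfl)
    apply hc0
    funext i
    have h1 := congrArg (E.presheaf.germ W η₀ hηW) hsum
    rw [map_sum, map_zero] at h1
    have h2 : ∑ i, X.presheaf.germ W η₀ hηW (c i) • E.presheaf.germ ⊤ η₀ trivial (t i) = 0 := by
      refine Eq.trans (Finset.sum_congr rfl fun i _ => ?_) h1
      rw [QCoh.germ_smul']
      congr 1
      exact (E.presheaf.germ_res_apply (homOfLE (le_top : W ≤ ⊤)) η₀ hηW (t i)).symm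
    exact germ_injective_of_isIntegral X η₀ hηW
      ((Fintype.linearIndependent_iff.1 hliK _ h2 i).trans (map_zero _).symm)
  have h1 : AltGlue.lift μA W (exteriorPower.ιMulti Γ(X, W) r u) = 0 := by
    rw [AltGlue.lift_ιMulti]
    show μA W (fun k => res E (le_top : W ≤ ⊤) (t k)) = 0
    rw [← hμ ⊤ W le_top t, h0, map_zero]
  have h2 : exteriorPower.ιMulti Γ(X, W) r u = 0 := (hlift W hW).1 (h1.trans (map_zero _).symm)
  apply hdet
  rw [← exteriorPower.alternatingMapLinearEquiv_apply_ιMulti b.det u, h2, map_zero]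

/-- The multiplication map on global sections is not injective. -/
theorem not_injective [IsIntegral X] (hR : IsField Γ(X, ⊤)) (hE : FlatMod.IsFinLocFreeOfRank r E)
    {U : X.Opens} (hU : (U : Set X).Nonempty) {J : Type u} (s : J → (Coh.structureModule X ⟶ E))
    [Epi ((Scheme.Modules.restrictFunctor U.ι).map (Sigma.desc s))]
    (hbig : ∀ t : Fin r → Γ(E, ⊤), ∃ y, y ∉ Submodule.span Γ(X, ⊤) (Set.range t))
    (hD : ExtPow.IsExtPow r E D) :
    ¬ Function.Injective
      ((toSheafify (Opens.grothendieckTopology ↥X) (CohB1.tensorPre E D).presheaf).app (op ⊤)) := by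
  obtain ⟨μA, hμ, hlift⟩ := H28.ExtSh.exists_mu hD
  obtain ⟨t, ht⟩ := exists_mu_ne_zero hE μA hμ hlift hU s
  obtain ⟨y, hy⟩ := hbig t
  letI : Field Γ(X, ⊤) := hR.toField
  obtain ⟨φ, hφy, hφt⟩ : ∃ φ : Γ(E, ⊤) →ₗ[Γ(X, ⊤)] Γ(X, ⊤), φ y ≠ 0 ∧ ∀ i, φ (t i) = 0 := by
    obtain ⟨φ, hφy, hφ⟩ := Submodule.exists_le_ker_of_notMem hy
    exact ⟨φ, hφy, fun i => hφ (Submodule.subset_span ⟨i, rfl⟩)⟩
  intro hinj
  let v : Fin (r + 1) → Γ(E, ⊤) := Fin.cons y t
  let z : (CohB1.tensorPre E D).obj (op ⊤) :=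
    ∑ i : Fin (r + 1), (-1 : ℤ) ^ (i : ℕ) •
      KFlatLib.tm (P := CohB1.toPMod E) (Q := CohB1.toPMod D) (v i) (μA ⊤ (i.removeNth v))
  have hz : z = 0 := by
    refine hinj (Eq.trans ?_ (map_zero _).symm)
    refine Eq.trans ?_ (alt_sum_eq_zero hE μA hμ ⊤ v)
    refine (map_sum _ _ _).trans (Finset.sum_congr rfl fun i _ => ?_)
    exact map_zsmul _ _ _
  let ev : (CohB1.tensorPre E D).obj (op ⊤) ⟶ (CohB1.toPMod D).obj (op ⊤) :=
    ModuleCat.MonoidalCategory.tensorLift
      (fun (a : (CohB1.toPMod E).obj (op ⊤)) (b : (CohB1.toPMod D).obj (op ⊤)) =>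
        (show (CohB1.toPMod D).obj (op ⊤) from φ (show Γ(E, ⊤) from a) • (show Γ(D, ⊤) from b)))
      (fun a a' b => (congrArg (· • (show Γ(D, ⊤) from b)) (φ.map_add a a')).trans (add_smul _ _ _))
      (fun c a b => (congrArg (· • (show Γ(D, ⊤) from b)) (φ.map_smul c a)).trans (mul_smul _ _ _))
      (fun a b b' => smul_add (φ (show Γ(E, ⊤) from a)) (show Γ(D, ⊤) from b) b')
      (fun c a b => smul_comm (φ (show Γ(E, ⊤) from a)) (show Γ(X, ⊤) from c) (show Γ(D, ⊤) from b))
  have hev : φ y • μA ⊤ t = 0 := by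
    have h := congrArg ev.hom hz
    rw [map_zero, map_sum] at h
    refine Eq.trans ?_ h
    rw [Fin.sum_univ_succ, Finset.sum_eq_zero, add_zero]
    · rw [Fin.val_zero, pow_zero, one_smul]
      rfl
    · intro i _
      rw [map_zsmul]
      refine Eq.trans (congrArg (fun w => (-1 : ℤ) ^ ((i.succ : Fin (r + 1)) : ℕ) • w) ?_) (smul_zero _)
      show φ (t i) • μA ⊤ _ = 0
      rw [hφt, zero_smul]
  exact ht ((smul_eq_zero.1 hev).resolve_left hφy)

end Groth.Agent.AVMulSect
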