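import Groth.Agent.Lib.AVDualStruct
import Groth.Agent.Lib.RigPoints
import Groth.Agent.FibDim.LocDim

/-!
The Picard scheme of an abelian variety is smooth of the dimension of the abelian variety.
-/

set_option autoImplicit false
set_option linter.style.haveILetI false
set_option linter.unusedSectionVars false
set_option maxHeartbeats 1000000
set_option synthInstance.maxHeartbeats 400000
set_option backward.isDefEq.respectTransparency false
set_option backward.isDefEq.respectTransparency.types false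

universe u

open CategoryTheory CategoryTheory.Limits AlgebraicGeometry MonoidalCategory CartesianMonoidalCategory MonObj
  TopologicalSpace

noncomputable section

namespace Groth.Agent.AVPicScheme

open Groth.Agent Groth.Agent.H23 Groth.Agent.PicTangent Groth.Agent.AVPair
open scoped Groth.Agent.H23.PicMul CategoryTheory.Obj

variable {k : Type u} [Field k] {A P : Over (Spec (CommRingCat.of k))} [GrpObj A]

/-- Points of `P` are rigidified invertible classes on `A`. -/
structure Rep (A P : Over (Spec (CommRingCat.of k))) [GrpObj A]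
    (ρ : ∀ T : Over (Spec (CommRingCat.of k)), (T ⟶ P) → PicF.Cl (A ⊗ T).left) : Prop where
  nat : ∀ {T T' : Over (Spec (CommRingCat.of k))} (g : T' ⟶ T) (x : T ⟶ P), ρ T' (g ≫ x) = pl (A ◁ g) (ρ T x)
  inv : ∀ {T : Over (Spec (CommRingCat.of k))} (x : T ⟶ P), PicF.IsInvertibleCl (ρ T x)
  rig : ∀ {T : Over (Spec (CommRingCat.of k))} (x : T ⟶ P), pl (lift (1 : T ⟶ A) (𝟙 T)) (ρ T x) = 1
  inj : ∀ {T : Over (Spec (CommRingCat.of k))}, Function.Injective (ρ T)
  surj : ∀ {T : Over (Spec (CommRingCat.of k))} (c : PicF.Cl (A ⊗ T).left), PicF.IsInvertibleCl c →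
    pl (lift (1 : T ⟶ A) (𝟙 T)) c = 1 → ∃ x, ρ T x = c

variable [IsProper A.hom] [GeometricallyIntegral A.hom]
  {ρ : ∀ T : Over (Spec (CommRingCat.of k)), (T ⟶ P) → PicF.Cl (A ⊗ T).left}

section Closed

variable [IsAlgClosed k] (hρ : Rep A P ρ) {g : ℕ} (hA : topologicalKrullDim ↥A.left = g)
  {Q : Over (Spec (CommRingCat.of k))} [GrpObj Q] [IsProper Q.hom] [GeometricallyIntegral Q.hom] [Smooth Q.hom]
  (hQ : topologicalKrullDim ↥Q.left = g)
  {E : (A ⊗ Q).left.Modules} (hE : PicF.IsInvertible E) (hs : AVPoincare.Sep (PicF.cl E : PicF.Cl (A ⊗ Q).left))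

include hρ hA hQ hE hs in
/-- Around every rational point the scheme is the target of the separating class. -/
theorem exists_chart [LocallyOfFiniteType P.hom] (n : 𝟙_ (Over (Spec (CommRingCat.of k))) ⟶ P) :
    ∃ ψ : Q ⟶ P, IsOpenImmersion ψ.left ∧ (1 : 𝟙_ (Over (Spec (CommRingCat.of k))) ⟶ Q) ≫ ψ = n := by
  haveI : IsIntegral Q.left := GeometricallyIntegral.isIntegral_of_subsingleton Q.hom
  let cn := ρ _ n
  let c : PicF.Cl (A ⊗ Q).left := pl (A ◁ toUnit Q) cn * PicF.cl E
  have hc : PicF.IsInvertibleCl c := PicMul.isInvertibleCl_mul (isInv_pl _ (hρ.inv n)) ⟨E, rfl, hE⟩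
  have hc0 : pl (lift (1 : Q ⟶ A) (𝟙 Q)) c = 1 := by
    rw [map_mul, hs.left, _root_.mul_one, pl_pl, lift_whiskerLeft, Category.id_comp,
      show lift (1 : Q ⟶ A) (toUnit Q) = toUnit Q ≫ lift (1 : 𝟙_ _ ⟶ A) (𝟙 _) by
        rw [comp_lift, MonObj.comp_one, Category.comp_id], ← pl_pl, hρ.rig, map_one]
  obtain ⟨ψ, hψ⟩ := hρ.surj c hc hc0
  have hψT : ∀ {T : Over (Spec (CommRingCat.of k))} (w : T ⟶ Q),
      ρ T (w ≫ ψ) = pl (A ◁ toUnit T) cn * pl (A ◁ w) (PicF.cl E) := fun {T} w => by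
    rw [hρ.nat, hψ, map_mul, pl_pl, ← MonoidalCategory.whiskerLeft_comp, comp_toUnit]
  haveI : Mono ψ := by
    refine ⟨fun {T} a b hab => AVSepClassify.eq_of_slice hE hs ?_⟩
    have h := congrArg (ρ T) hab
    rw [hψT, hψT] at h
    exact (PicMul.isUnit_of_isInvertibleCl (isInv_pl _ (hρ.inv n))).mul_left_cancel h
  haveI : Mono ψ.left := Over.mono_left_of_mono ψ
  haveI hft : LocallyOfFiniteType ψ.left := by
    haveI : LocallyOfFiniteType (ψ.left ≫ P.hom) := by rw [Over.w ψ]; infer_instance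
    exact locallyOfFiniteType_of_comp ψ.left P.hom
  haveI : IsLocallyNoetherian P.left := LocallyOfFiniteType.isLocallyNoetherian P.hom
  haveI hlp : LocallyOfFinitePresentation ψ.left :=
    AlgStLib.locallyOfFinitePresentation_of_isLocallyNoetherian ψ.left inferInstance
  haveI : Smooth ψ.left := by
    refine (S1488.result ψ.left).2 ⟨hlp, fun R _ I hI a b hab => ?_⟩
    letI : Algebra k R := (Spec.preimage (b ≫ P.hom)).hom.toAlgebra
    have halg : Spec.map (CommRingCat.ofHom (algebraMap k R)) = b ≫ P.hom := Spec.map_preimage _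
    let π₀ : R →ₐ[k] R ⧸ I := Ideal.Quotient.mkₐ k I
    let b' : PicTangent.T (k := k) R ⟶ P := Over.homMk b halg.symm
    have hsq : ∀ x y, π₀ x = 0 → π₀ y = 0 → x * y = 0 := fun x y hx hy => by
      have h := Ideal.mul_mem_mul (Ideal.Quotient.eq_zero_iff_mem.1 hx : x ∈ I)
        (Ideal.Quotient.eq_zero_iff_mem.1 hy : y ∈ I)
      rwa [← pow_two, hI, Ideal.mem_bot] at h
    let a' : PicTangent.T (k := k) (R ⧸ I) ⟶ Q := Over.homMk a (by
      show a ≫ Q.hom = Spec.map (CommRingCat.ofHom (algebraMap k (R ⧸ I)))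
      rw [← Over.w ψ, ← Category.assoc, ← hab, Category.assoc, ← halg, ← Spec.map_comp]
      rfl)
    have hab' : Tmap π₀ ≫ b' = a' ≫ ψ := Over.OverMorphism.ext hab
    obtain ⟨l₀, hl1, hl2⟩ := ((S1488.result Q.hom).1 inferInstance).2 R I hI a'.left (b ≫ P.hom)
      (by rw [← halg, Over.w a', ← Spec.map_comp]; rfl)
    let w₀ : PicTangent.T (k := k) R ⟶ Q := Over.homMk l₀ (hl2.trans halg.symm)
    have hw₀ : Tmap π₀ ≫ w₀ = a' := Over.OverMorphism.ext hl1
    obtain ⟨D, hD, hPD⟩ := exists_inv (hρ.inv (w₀ ≫ ψ))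
    have htriv : pl (A ◁ Tmap π₀) (ρ _ b' * D) = 1 := by
      have h := congrArg (pl (A ◁ Tmap π₀)) hPD
      rw [map_mul, map_one, ← hρ.nat, reassoc_of% hw₀, ← hab'] at h
      rw [map_mul, ← hρ.nat, h]
    obtain ⟨w₁, hw₁⟩ := AVFirstOrder.exists_point hA hQ hE hs π₀ Ideal.Quotient.mk_surjective hsq
      (PicMul.isInvertibleCl_mul (hρ.inv b') hD) htriv
    have hy : (w₁ * w₀) ≫ ψ = b' := hρ.inj (by
      rw [hψT, AVClassify.pl_mul hE hs, hw₁]
      rw [hψT] at hPD
      calc pl (A ◁ toUnit _) cn * (ρ _ b' * D * pl (A ◁ w₀) (PicF.cl E))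
          = ρ _ b' * (pl (A ◁ toUnit _) cn * pl (A ◁ w₀) (PicF.cl E) * D) := by
            simp only [mul_comm, mul_left_comm, _root_.mul_assoc]
        _ = ρ _ b' := by rw [hPD, _root_.mul_one])
    have hya : Tmap π₀ ≫ (w₁ * w₀) = a' := by
      rw [← cancel_mono ψ, Category.assoc, hy, hab']
    exact ⟨(w₁ * w₀).left, congrArg CommaMorphism.left hya, congrArg CommaMorphism.left hy⟩
  refine ⟨ψ, IsOpenImmersion.of_flat_of_mono ψ.left, hρ.inj ?_⟩
  rw [hψT, AVFirstOrder.whisker_one _ hs, _root_.mul_one, toUnit_unique (toUnit (𝟙_ (Over (Spec (CommRingCat.of k))))) (𝟙 _),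
    MonoidalCategory.whiskerLeft_id, pl_id]

end Closed

include A in
/-- **The Picard scheme of an abelian variety over an algebraically closed field is smooth of the same
dimension.** -/
theorem smooth_dim_of_isAlgClosed [IsAlgClosed k] (hρ : Rep A P ρ) [LocallyOfFiniteType P.hom] {g : ℕ}
    (hA : topologicalKrullDim ↥A.left = g) : Smooth P.hom ∧ topologicalKrullDim ↥P.left = g := by
  haveI : Smooth A.hom := S7795.result A
  haveI : GeometricallyConnected A.hom := CubeAb.geometricallyConnected_of_integral A.hom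
  obtain ⟨Q, grp, E, hQp, hQgi, hQsm, hQdim, hE, hs⟩ := AVDualExist.exists_sep hA
  letI := grp
  haveI := hQp; haveI := hQgi; haveI := hQsm
  choose ψ hψo hψn using fun n => exists_chart hρ hA hQdim hE hs n
  have hcov : ∀ y : P.left, ∃ n, y ∈ Set.range (ψ n).left := by
    by_contra hne
    push Not at hne
    obtain ⟨y₀, hy₀⟩ := hne
    haveI : JacobsonSpace P.left := LocallyOfFiniteType.jacobsonSpace P.hom
    have hopen : IsOpen (⋃ n, Set.range (ψ n).left) :=
      isOpen_iUnion fun n => (haveI := hψo n; (ψ n).left.isOpenEmbedding.isOpen_range)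
    obtain ⟨y, hy1, hy2⟩ := nonempty_inter_closedPoints (Z := (⋃ n, Set.range (ψ n).left)ᶜ)
      ⟨y₀, by simp only [Set.mem_compl_iff, Set.mem_iUnion, not_exists]; exact hy₀⟩
      hopen.isClosed_compl.isLocallyClosed
    let n : 𝟙_ (Over (Spec (CommRingCat.of k))) ⟶ P :=
      Over.homMk (pointOfClosedPoint P.hom y (mem_closedPoints_iff.1 hy2)) (pointOfClosedPoint_comp P.hom y _)
    refine hy1 (Set.mem_iUnion.2 ⟨n, (1 : 𝟙_ (Over (Spec (CommRingCat.of k))) ⟶ Q).left (IsLocalRing.closedPoint k), ?_⟩)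
    refine (congrArg (fun m : 𝟙_ (Over (Spec (CommRingCat.of k))) ⟶ P => m.left (IsLocalRing.closedPoint k)) (hψn n)).trans ?_
    exact pointOfClosedPoint_apply P.hom y (mem_closedPoints_iff.1 hy2) _
  haveI : IsLocallyNoetherian P.left := LocallyOfFiniteType.isLocallyNoetherian P.hom
  haveI : IsLocallyNoetherian Q.left := LocallyOfFiniteType.isLocallyNoetherian Q.hom
  constructor
  · let 𝒰 : P.left.OpenCover := Scheme.openCoverOfIsOpenCover P.left
      (fun n => haveI := hψo n; (ψ n).left.opensRange)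
      (top_le_iff.1 fun y _ => Opens.mem_iSup.2 (hcov y))
    refine IsZariskiLocalAtSource.of_openCover (P := @Smooth) 𝒰 fun n => ?_
    haveI := hψo n
    show Smooth ((ψ n).left.opensRange.ι ≫ P.hom)
    rw [show (ψ n).left.opensRange.ι = (ψ n).left.isoOpensRange.inv ≫ (ψ n).left from
      ((ψ n).left.isoOpensRange_inv_comp).symm, Category.assoc, Over.w (ψ n)]
    infer_instance
  · have hcod : ∀ n (w : Q.left), DimFormula.codim w = DimFormula.codim ((ψ n).left w) := fun n w => by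
      haveI := hψo n
      have h := ringKrullDim_eq_of_ringEquiv (asIso ((ψ n).left.stalkMap w)).commRingCatIsoToRingEquiv
      rw [DimFormula.ringKrullDim_stalk, DimFormula.ringKrullDim_stalk] at h
      exact_mod_cast h.symm
    rw [← hQdim, FibDim.topologicalKrullDim_eq_iSup_codim, FibDim.topologicalKrullDim_eq_iSup_codim]
    refine le_antisymm (iSup_le fun y => ?_) (iSup_le fun w => ?_)
    · obtain ⟨n, w, rfl⟩ := hcov y
      rw [← hcod n w]
      exact le_iSup (fun w : Q.left => ((DimFormula.codim w : ℕ∞) : WithBot ℕ∞)) w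
    · obtain ⟨n₀, hn₀⟩ : ∃ n, n = (Classical.choose (hρ.surj (T := 𝟙_ (Over (Spec (CommRingCat.of k)))) 1
        ⟨_, rfl, PicLoc.isInvertible_structureModule _⟩ (map_one _))) := ⟨_, rfl⟩
      rw [hcod n₀ w]
      exact le_iSup (fun y : P.left => ((DimFormula.codim y : ℕ∞) : WithBot ℕ∞)) _

section BaseChange

variable {K : Type u} [Field K] (f : Spec (CommRingCat.of K) ⟶ Spec (CommRingCat.of k))

omit [IsProper A.hom] [GeometricallyIntegral A.hom] in
theorem hom_sec (T : Over (Spec (CommRingCat.of K))) :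
    PicF.secT (Red.bc f A).hom η[Red.bc f A].left (Over.w η[Red.bc f A]) T ≫ (AgPol.bcXTIso f A T).hom =
      PicF.secT A.hom η[A].left (Over.w η[A]) (AVDualBC.dn f T) := by
  refine pullback.hom_ext ?_ ?_
  · simp [AgPol.bcXTIso, PicF.secT]
  · simp [AgPol.bcXTIso, PicF.secT]

omit [IsProper A.hom] [GeometricallyIntegral A.hom] in
include A in
/-- Base change of the description of the points. -/
theorem Rep.bc (hρ : Rep A P ρ) : ∃ ρ', Rep (Red.bc f A) (Red.bc f P) ρ' := by
  have hu : ∀ (T : Over (Spec (CommRingCat.of K))) (y : T ⟶ Red.bc f P), ∃ x, AVDualBC.up (f := f) x = y :=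
    fun T y => AVDualBC.up_surjective y
  choose down hdown using hu
  have hsec : ∀ (T : Over (Spec (CommRingCat.of K))) (c : PicF.Cl (PicF.XT A.hom (AVDualBC.dn f T))),
      pl (lift (1 : T ⟶ Red.bc f A) (𝟙 T)) (PicF.pullCl (AgPol.bcXTIso f A T).hom c : PicF.Cl (Red.bc f A ⊗ T).left) =
        (pl (lift (1 : AVDualBC.dn f T ⟶ A) (𝟙 _)) c : PicF.Cl T.left) := fun T c => by
    show PicF.pullCl (lift (1 : T ⟶ Red.bc f A) (𝟙 T)).left (PicF.pullCl (AgPol.bcXTIso f A T).hom c) =
      PicF.pullCl (lift (1 : AVDualBC.dn f T ⟶ A) (𝟙 _)).left c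
    rw [PicClLib.pullCl_comp, ← AVDual.secT_eq, ← AVDual.secT_eq, hom_sec]
  refine ⟨fun T y => PicF.pullCl (AgPol.bcXTIso f A T).hom (ρ _ (down T y)),
    fun {T T'} g y => ?_, fun y => PicClLib.isInvertibleCl_pullCl _ (hρ.inv _), fun y => ?_, fun {T} y y' h => ?_,
    fun {T} c hc hc0 => ?_⟩
  · have e : down T' (g ≫ y) = AVDualBC.dnMap f g ≫ down T y := AVDualBC.up_injective (by
      rw [hdown, AVDualBC.up_pre, hdown])
    show PicF.pullCl _ _ = PicF.pullCl (PicF.XTmap (Red.bc f A).hom g) (PicF.pullCl _ _)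
    rw [e, hρ.nat, PicClLib.pullCl_comp, AVDualBC.hom_xtMap, ← PicClLib.pullCl_comp]
    rfl
  · rw [hsec, hρ.rig]
  · have h' := congrArg (PicF.pullCl (AgPol.bcXTIso f A T).inv) h
    simp only [PicClLib.pullCl_comp, Iso.inv_hom_id, PicClLib.pullCl_id] at h'
    rw [← hdown T y, ← hdown T y', hρ.inj h']
  · obtain ⟨x, hx⟩ := hρ.surj (T := AVDualBC.dn f T) (PicF.pullCl (AgPol.bcXTIso f A T).inv c)
      (PicClLib.isInvertibleCl_pullCl _ hc) (by
      rw [← hsec, PicClLib.pullCl_comp, Iso.hom_inv_id]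
      erw [PicClLib.pullCl_id]
      exact hc0)
    refine ⟨AVDualBC.up x, ?_⟩
    show PicF.pullCl _ (ρ _ (down T _)) = c
    rw [show down T (AVDualBC.up x) = x from AVDualBC.up_injective (hdown _ _), hx, PicClLib.pullCl_comp,
      Iso.hom_inv_id]
    exact PicClLib.pullCl_id _

end BaseChange

include A in
/-- **The Picard scheme of an abelian variety is smooth of the same dimension.** -/
theorem smooth_dim (hρ : Rep A P ρ) [LocallyOfFiniteType P.hom] {g : ℕ}
    (hA : topologicalKrullDim ↥A.left = g) : Smooth P.hom ∧ topologicalKrullDim ↥P.left = g := by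
  let K := AlgebraicClosure k
  let s : Spec (CommRingCat.of K) ⟶ Spec (CommRingCat.of k) := Spec.map (CommRingCat.ofHom (algebraMap k K))
  haveI : IsProper (Red.bc s A).hom := inferInstanceAs (IsProper (pullback.snd A.hom s))
  haveI : GeometricallyIntegral (Red.bc s A).hom := inferInstanceAs (GeometricallyIntegral (pullback.snd A.hom s))
  haveI : LocallyOfFiniteType (Red.bc s P).hom := inferInstanceAs (LocallyOfFiniteType (pullback.snd P.hom s))
  have hA' : topologicalKrullDim ↥(Red.bc s A).left = g := by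
    rw [← hA]
    exact FibDim.topologicalKrullDim_baseChange (IsPullback.of_hasPullback A.hom s)
  obtain ⟨ρ', hρ'⟩ := hρ.bc s
  obtain ⟨hsm, hd⟩ := smooth_dim_of_isAlgClosed hρ' hA'
  have hs : (@Surjective ⊓ @Flat ⊓ @QuasiCompact : MorphismProperty Scheme.{u}) s :=
    ⟨⟨⟨fun _ => ⟨IsLocalRing.closedPoint K, @Subsingleton.elim (PrimeSpectrum k) inferInstance _ _⟩⟩,
      inferInstance⟩, inferInstance⟩
  refine ⟨MorphismProperty.of_isPullback_of_descendsAlong (P := @Smooth)
    (IsPullback.of_hasPullback P.hom s).flip hs hsm, ?_⟩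
  rw [← hd]
  exact (FibDim.topologicalKrullDim_baseChange (IsPullback.of_hasPullback P.hom s)).symm

end Groth.Agent.AVPicScheme
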