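import Groth.Agent.Lib.AVSepSwap
import Groth.Agent.Lib.DerivedProj
import Groth.Agent.KExact.ShriekFormula
import Groth.Agent.KFlatLib.Scheme.AffineRpush
import Groth.Agent.KFlatLib.Scheme.RpushQCoh

/-!
The derived direct image of the Poincaré module to the variety.
-/

set_option autoImplicit false
set_option linter.style.haveILetI false
set_option linter.unusedSectionVars false
set_option maxHeartbeats 1000000
set_option synthInstance.maxHeartbeats 400000

universe u

open CategoryTheory CategoryTheory.Limits MonoidalCategory CartesianMonoidalCategory MonObj AlgebraicGeometry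

attribute [local instance] HasDerivedCategory.standard

noncomputable section

namespace Groth.Agent.AVPoincareD

open Groth.Agent Groth.Agent.H23 Groth.Agent.AVPair Groth.Agent.Lib
open scoped Groth.Agent.H23.PicMul

/-- An object with cohomology in one degree. -/
theorem nonempty_iso_single {X : Scheme.{u}} (K : DCoh.D X) (n : ℤ) (N : X.Modules)
    (hz : ∀ i, i ≠ n → IsZero (DCoh.HD K i)) (e : DCoh.HD K n ≅ N) :
    Nonempty (K ≅ (DerivedCategory.singleFunctor X.Modules n).obj N) := by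
  haveI : K.IsGE n := (DerivedCategory.isGE_iff _ _).2 fun i hi => hz i (by omega)
  haveI : K.IsLE n := (DerivedCategory.isLE_iff _ _).2 fun i hi => hz i (by omega)
  obtain ⟨Y, ⟨eY⟩⟩ := DerivedCategory.exists_iso_singleFunctor_obj_of_isGE_of_isLE K n
  let eH : DCoh.HD K n ≅ Y := (DerivedCategory.homologyFunctor X.Modules n).mapIso
      (eY ≪≫ (DerivedCategory.singleFunctorIsoCompQ X.Modules n).app Y) ≪≫
    (DerivedCategory.homologyFunctorFactors X.Modules n).app _ ≪≫
    (HomologicalComplex.homologyFunctorSingleIso X.Modules (ComplexShape.up ℤ) n).app Y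
  exact ⟨eY ≪≫ (DerivedCategory.singleFunctor X.Modules n).mapIso (eH.symm ≪≫ e)⟩

/-- A module in degree `n` is a shift of the module in degree zero. -/
theorem nonempty_single_shift {X : Scheme.{u}} (N : X.Modules) (n : ℤ) :
    Nonempty ((DerivedCategory.singleFunctor X.Modules n).obj N ≅ (DCoh.inD X N)⟦-n⟧) :=
  ⟨(((DerivedCategory.singleFunctors X.Modules).shiftIso (-n) n 0 (by omega)).app N).symm⟩

/-- The derived direct image along the second projection of a separating module. -/
theorem nonempty_rpush_snd_of_sep {k : Type u} [Field k] {A B : Over (Spec (CommRingCat.of k))} [GrpObj A]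
    [IsProper A.hom] [GeometricallyIntegral A.hom] [GrpObj B] [IsProper B.hom] [GeometricallyIntegral B.hom]
    [Smooth B.hom] {R : (pullback A.hom B.hom).Modules} (hR : PicF.IsInvertible R)
    (hs : AVPoincare.Sep (PicF.cl R : PicF.Cl (A ⊗ B).left)) {g : ℕ} (hgA : topologicalKrullDim ↥A.left = g)
    (hgB : topologicalKrullDim ↥B.left = g)
    [DCoh.HasRpush (pullback.snd A.hom B.hom)] [DCoh.HasRpush η[B].left] :
    Nonempty ((DCoh.Rpush (pullback.snd A.hom B.hom)).obj (DCoh.inD _ R) ≅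
      ((DCoh.Rpush η[B].left).obj
        (DCoh.inD (𝟙_ (Over (Spec (CommRingCat.of k)))).left (Coh.structureModule _)))⟦-(g : ℤ)⟧) := by
  let b2 := pullback.snd A.hom B.hom
  haveI : HasInjectiveResolutions (pullback A.hom B.hom).Modules := KFlatLib.hasInjectiveResolutions_modules
  haveI : HasInjectiveResolutions (A ⊗ B).left.Modules := KFlatLib.hasInjectiveResolutions_modules
  have hz : ∀ n : ℕ, n ≠ g → IsZero (DCoh.HD ((DCoh.Rpush b2).obj (DCoh.inD _ R)) (n : ℤ)) := fun n hn =>
    (AVPoincare.isZero_Rpush_of_sep (A := A) (At := B) hR hs hgA hgB hn).of_iso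
      (KFlatLib.nonempty_hd_rpush_single b2 R n).some
  have hz' : ∀ i : ℤ, i ≠ (g : ℤ) → IsZero (DCoh.HD ((DCoh.Rpush b2).obj (DCoh.inD _ R)) i) := fun i hi => by
    by_cases h0 : i < 0
    · haveI : (DCoh.inD _ R).IsGE 0 :=
        inferInstanceAs (((DerivedCategory.singleFunctor (pullback A.hom B.hom).Modules 0).obj R).IsGE 0)
      exact KFlatLib.isZero_hd_rpush_of_lt b2 _ 0 i h0
    · obtain ⟨n, rfl⟩ := Int.eq_ofNat_of_zero_le (not_lt.1 h0)
      exact hz n fun h => hi (by rw [h])
  obtain ⟨sky⟩ := AVPoincare.nonempty_skyscraper_of_sep (A := A) (At := B) hR hs hgA hgB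
  obtain ⟨e₁⟩ := nonempty_iso_single _ (g : ℤ) ((Coh.push η[B].left).obj (Coh.structureModule _))
    hz' ((KFlatLib.nonempty_hd_rpush_single b2 R g).some ≪≫ sky)
  obtain ⟨e₂⟩ := nonempty_single_shift ((Coh.push η[B].left).obj (Coh.structureModule _)) (g : ℤ)
  haveI : IsClosedImmersion η[B].left := by
    haveI : IsClosedImmersion (η[B].left ≫ B.hom) := by
      rw [Over.w η[B]]; exact inferInstanceAs (IsClosedImmersion (𝟙 _))
    exact IsClosedImmersion.of_comp η[B].left B.hom
  obtain ⟨e₃⟩ := KFlatLib.AffineRpush.nonempty_rpush_inD η[B].left (Coh.structureModule _) QCoh.isQCoh_structureModule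
  exact ⟨e₁ ≪≫ e₂ ≪≫ (shiftFunctor (DCoh.D B.left) (-(g : ℤ))).mapIso e₃.symm⟩

variable {k : Type u} [Field k] {A At : Over (Spec (CommRingCat.of k))} [GrpObj A] [IsProper A.hom]
  [GeometricallyIntegral A.hom] [Smooth A.hom] [GrpObj At] [IsProper At.hom] [GeometricallyIntegral At.hom]
  {φ : AgPol.DualMap A At} (hφ : AbDual.IsDualAV Scheme.fppfPrecoverage A At φ)
  {P : (pullback A.hom At.hom).Modules} (hP : PicF.IsInvertible P)
  (hξ : AbDual.IsPoincareCl A At φ (PicF.cl P)) {g : ℕ} (hg : topologicalKrullDim ↥A.left = g)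

variable {R₀ : (pullback A.hom At.hom).Modules} (hR₀ : PicF.IsInvertible R₀)
  (hs₀ : AVPoincare.Sep (pl (AVSepSwap.sw A At) (PicF.cl R₀ : PicF.Cl (A ⊗ At).left)))
  (hgAt : topologicalKrullDim ↥At.left = g)

omit hφ hP hξ in
include hR₀ hs₀ hg hgAt in
/-- The derived direct image to `A` of a module separating from that side. -/
theorem nonempty_rpush_fst_of_sep [DCoh.HasRpush (pullback.fst A.hom At.hom)] [DCoh.HasRpush η[A].left] :
    Nonempty ((DCoh.Rpush (pullback.fst A.hom At.hom)).obj (DCoh.inD _ R₀) ≅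
      ((DCoh.Rpush η[A].left).obj
        (DCoh.inD (𝟙_ (Over (Spec (CommRingCat.of k)))).left (Coh.structureModule _)))⟦-(g : ℤ)⟧) := by
  haveI : Smooth At.hom := S7795.result At
  let τ : A ⊗ At ⟶ At ⊗ A := AVSepSwap.sw At A
  let τ' : At ⊗ A ⟶ A ⊗ At := AVSepSwap.sw A At
  have hττ : τ ≫ τ' = 𝟙 _ := AVSepSwap.sw_sw At A
  have hττ' : τ' ≫ τ = 𝟙 _ := AVSepSwap.sw_sw A At
  let t : pullback A.hom At.hom ⟶ pullback At.hom A.hom := τ.left
  let t' : pullback At.hom A.hom ⟶ pullback A.hom At.hom := τ'.left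
  have ht : t ≫ t' = 𝟙 _ := by
    show τ.left ≫ τ'.left = _
    rw [← Over.comp_left, hττ]; rfl
  have ht' : t' ≫ t = 𝟙 _ := by
    show τ'.left ≫ τ.left = _
    rw [← Over.comp_left, hττ']; rfl
  haveI : IsIso t := ⟨t', ht, ht'⟩
  haveI : IsIso t' := ⟨t, ht', ht⟩
  let R : (pullback At.hom A.hom).Modules := (Scheme.Modules.pullback t').obj R₀
  have hR : PicF.IsInvertible R := PicClLib.isInvertible_pullback _ hR₀
  have hs : AVPoincare.Sep (PicF.cl R : PicF.Cl (At ⊗ A).left) := hs₀
  let b2 := pullback.snd At.hom A.hom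
  haveI := KFlatLib.hasRpush_scheme b2
  haveI := KFlatLib.hasRpush_scheme t
  haveI := KFlatLib.hasLpull t'
  obtain ⟨e₁⟩ := nonempty_rpush_snd_of_sep (A := At) (B := A) hR hs hgAt hg
  obtain ⟨c⟩ := DerivedNat.nonempty_rpush_comp' t b2 (pullback.fst A.hom At.hom) (by
    show τ.left ≫ (snd At A).left = (fst A At).left
    rw [← Over.comp_left, lift_snd])
  obtain ⟨r⟩ := DerivedNat.nonempty_rpush_iso_lpull_inv t t' ht ht'
  obtain ⟨l⟩ := KFlatLib.nonempty_lpull_inD_of_flat t' R₀
  exact ⟨(c.app (DCoh.inD _ R₀)).symm ≪≫ (DCoh.Rpush b2).mapIso (r.app _ ≪≫ l) ≪≫ e₁⟩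

include hφ hP hξ hg in
/-- The derived direct image to `A` of a Poincaré module is the skyscraper at the origin in degree `g`. -/
theorem nonempty_rpush_fst [DCoh.HasRpush (pullback.fst A.hom At.hom)] [DCoh.HasRpush η[A].left] :
    Nonempty ((DCoh.Rpush (pullback.fst A.hom At.hom)).obj (DCoh.inD _ P) ≅
      ((DCoh.Rpush η[A].left).obj
        (DCoh.inD (𝟙_ (Over (Spec (CommRingCat.of k)))).left (Coh.structureModule _)))⟦-(g : ℤ)⟧) := by
  haveI : Smooth At.hom := S7795.result At
  exact nonempty_rpush_fst_of_sep hg hP (AVSepSwap.sep_swap hφ hξ) (AVPoincare.dim_eq hφ hg)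

end Groth.Agent.AVPoincareD
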