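import Groth.Agent.Lib.AVDualBC
import Groth.Agent.Lib.AVPhiSurj

/-!
The restrictions of a Poincaré module to the fibres over points other than the origin have no cohomology.
-/

set_option autoImplicit false
set_option linter.style.haveILetI false
set_option linter.unusedSectionVars false
set_option backward.isDefEq.respectTransparency false
set_option backward.isDefEq.respectTransparency.types false
set_option maxHeartbeats 1000000
set_option synthInstance.maxHeartbeats 400000

universe u

open CategoryTheory CategoryTheory.Limits MonoidalCategory CartesianMonoidalCategory MonObj AlgebraicGeometry TopologicalSpace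

noncomputable section

namespace Groth.Agent.AVPoincare

open Groth.Agent Groth.Agent.H23 Groth.Agent.AVPair Groth.Agent.AVDual
open scoped Groth.Agent.H23.PicMul

variable {k : Type u} [Field k]

/-- A class on a product of two groups which is trivial on both axes and on no nontrivial slice. -/
structure Sep {A B : Over (Spec (CommRingCat.of k))} [GrpObj A] [GrpObj B] (c : PicF.Cl (A ⊗ B).left) : Prop where
  /-- trivial on the second axis -/
  left : pl (lift (1 : B ⟶ A) (𝟙 B)) c = 1
  /-- trivial on the first axis -/
  right : pl (lift (𝟙 A) (1 : A ⟶ B)) c = 1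
  /-- only the unit gives a trivial slice -/
  sep : ∀ {T : Over (Spec (CommRingCat.of k))} (s : T ⟶ B), pl (A ◁ s) c = 1 → s = 1

local notation3 "pt₀" => 𝟙_ (Over (Spec (CommRingCat.of k)))

variable {A At : Over (Spec (CommRingCat.of k))} [GrpObj A] [IsProper A.hom] [GeometricallyIntegral A.hom]
  [GrpObj At] [IsProper At.hom] [GeometricallyIntegral At.hom]
  {P : (A ⊗ At).left.Modules} (hP : PicF.IsInvertible P) (hs : Sep (PicF.cl P : PicF.Cl (A ⊗ At).left))

/-- A Poincaré class separates. -/
theorem sep_of_dual {φ : ∀ T : Over (Spec (CommRingCat.of k)), PicF.Cl (PicF.XT A.hom T) → (T ⟶ At)}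
    (hφ : AbDual.IsDualAV Scheme.fppfPrecoverage A At φ) {ξ : PicF.Cl (A ⊗ At).left}
    (hξ : AbDual.IsPoincareCl A At φ ξ) : Sep ξ where
  left := (poincare_axes hφ hξ).1
  right := (poincare_axes hφ hξ).2
  sep s h := by
    have h1 := phi_pl hφ s hξ.1
    rw [h, hξ.2.1, Category.comp_id, phi_one hφ] at h1
    exact h1.symm

include hP hs

/-- The pullbacks to points other than the origin have no cohomology. -/
theorem subsingleton_HH_point {K : Type u} [Field K] (σ : Spec (CommRingCat.of K) ⟶ Spec (CommRingCat.of k))
    (s : Over.mk σ ⟶ At) (hne : s ≠ 1) (n : ℕ) :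
    Subsingleton (Coh.HH (A ⊗ Over.mk σ).left ((Scheme.Modules.pullback (A ◁ s).left).obj P) n) := by
  let c : PicF.Cl (A ⊗ At).left := PicF.cl P
  have hc : PicF.IsInvertibleCl c := ⟨P, rfl, hP⟩
  obtain ⟨h1, h2⟩ := And.intro hs.left hs.right
  let X := Red.bc σ A
  haveI : IsProper X.hom := inferInstanceAs (IsProper (pullback.snd A.hom σ))
  haveI : GeometricallyIntegral X.hom := inferInstanceAs (GeometricallyIntegral (pullback.snd A.hom σ))
  let L : X.left.Modules := (Scheme.Modules.pullback (A ◁ s).left).obj P
  have hL : PicF.IsInvertible L := PicClLib.isInvertible_pullback _ hP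
  let hh : ∀ U : Over (Spec (CommRingCat.of K)), AVDualBC.dn σ U ⟶ At := fun U =>
    Over.homMk (U.hom ≫ s.left) (by rw [Category.assoc, Over.w s]; rfl)
  have key : ∀ {U : Over (Spec (CommRingCat.of K))} (x : AVDualBC.dn σ U ⟶ A),
      PicF.pullCl (AVDualBC.up x).left (PicF.cl L) = pl (lift x (hh U)) c := by
    intro U x
    show PicF.pullCl (AVDualBC.up x).left (PicF.pullCl (A ◁ s).left c) = PicF.pullCl (lift x (hh U)).left c
    rw [PicClLib.pullCl_comp]
    refine congrArg (PicF.pullCl · c) (pullback.hom_ext ?_ ?_)
    · show (_ ≫ (A ◁ s).left) ≫ (fst A At).left = (lift x (hh U)).left ≫ (fst A At).left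
      rw [Category.assoc, ← Over.comp_left, ← Over.comp_left, whiskerLeft_fst, lift_fst]
      exact AVDualBC.up_fst x
    · show (_ ≫ (A ◁ s).left) ≫ (snd A At).left = (lift x (hh U)).left ≫ (snd A At).left
      rw [Category.assoc, ← Over.comp_left, ← Over.comp_left, whiskerLeft_snd, lift_snd, Over.comp_left]
      exact (Category.assoc _ _ _).symm.trans (congrArg (· ≫ s.left) (Over.w (AVDualBC.up x)))
  haveI : HasInjectiveResolutions X.left.Modules := KFlatLib.hasInjectiveResolutions_modules
  haveI : HasInjectiveResolutions (X ⊗ X).left.Modules := KFlatLib.hasInjectiveResolutions_modules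
  refine AVVanish.subsingleton_HH (X := X) hL ?_ (fun ht => hne ?_) n
  · obtain ⟨a, ha⟩ := AVDualBC.up_surjective (f := σ) (fst X X)
    obtain ⟨b, hb⟩ := AVDualBC.up_surjective (f := σ) (snd X X)
    have hμ : μ[X] = AVDualBC.up (a * b) := by
      rw [AVDualBC.up_mul, ha, hb, Hom.mul_def, lift_fst_snd, Category.id_comp]
    rw [hμ, key, ← ha, ← hb, key, key]
    exact add_left hc h1 h2 a b (hh _)
  · refine hs.sep s ?_
    exact (PicGrp.cl_eq_cl_iff _ _).2 ht

/-- The fibres away from the origin have no cohomology. -/
theorem subsingleton_fiberH {y : At.left} (hy : y ≠ η[At].left (IsLocalRing.closedPoint k)) (n : ℕ) :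
    Subsingleton (CohIII.fiberH (snd A At).left P y n) := by
  let σ := At.left.fromSpecResidueField y ≫ At.hom
  let s : Over.mk σ ⟶ At := Over.homMk (At.left.fromSpecResidueField y)
  have hne : s ≠ 1 := fun h => hy (by
    have e := congrArg (fun m : Over.mk σ ⟶ At => m.left (IsLocalRing.closedPoint (At.left.residueField y))) h
    simp only [Hom.one_def, Over.comp_left, Scheme.Hom.comp_apply] at e
    refine (At.left.fromSpecResidueField_apply y _).symm.trans (e.trans (congrArg η[At].left ?_))
    exact @Subsingleton.elim _ (inferInstanceAs (Subsingleton (PrimeSpectrum k))) _ _)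
  have hsq : IsPullback (A ◁ s).left (snd A (Over.mk σ)).left (snd A At).left s.left := by
    refine IsPullback.of_right ?_ (by rw [← Over.comp_left, whiskerLeft_snd]; rfl) (IsPullback.of_hasPullback A.hom At.hom)
    show IsPullback ((A ◁ s).left ≫ (fst A At).left) _ A.hom _
    rw [← Over.comp_left, whiskerLeft_fst, Over.w s]
    exact IsPullback.of_hasPullback A.hom σ
  let e : (A ⊗ Over.mk σ).left ≅ (snd A At).left.fiber y := hsq.isoPullback
  have hei : e.inv ≫ (A ◁ s).left = (snd A At).left.fiberι y := hsq.isoPullback_inv_fst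
  exact QCoh.subsingleton_HH_of_iso ((Scheme.Modules.pullbackComp e.inv (A ◁ s).left).app P ≪≫
    (Scheme.Modules.pullbackCongr hei).app P) _
    (AVPhiSurj.subsingleton_HH_pullback e.symm _ n (subsingleton_HH_point hP hs σ s hne n))

end Groth.Agent.AVPoincare
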