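import Groth.Agent.Lib.RegLocalCx
import Groth.Agent.QCoh.Corep
import Groth.Agent.CohPullX.FpModelT
import Mathlib.RingTheory.Finiteness.Nakayama

/-!
A left exact functor `T_0` with one dimensional value at the residue field is represented by a cyclic module.
-/

set_option autoImplicit false
set_option linter.style.haveILetI false
set_option linter.unusedSectionVars false
set_option backward.isDefEq.respectTransparency false
set_option backward.isDefEq.respectTransparency.types false
set_option maxHeartbeats 400000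

universe u

open CategoryTheory CategoryTheory.Limits

noncomputable section

namespace Groth.Agent.RegLocalRep

open Groth.Agent

variable {A : Type u} [CommRing A] (P : ChainComplex (ModuleCat.{u} A) ℤ)

/-- The value at a ring as a homology of the base change. -/
theorem nonempty_T_restrict {B : Type u} [CommRing B] (φ : A →+* B) (q : ℤ) :
    Nonempty (CohIII.T P q ((ModuleCat.restrictScalars φ).obj (ModuleCat.of B B)) ≃ₗ[A]
      (ModuleCat.restrictScalars φ).obj ((CohIII.bcCx φ P).homology q)) := by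
  obtain ⟨e⟩ := QCoh.nonempty_bcT_iso P φ q
  let u := (FlatCxLib.tUnitIso (P := CohIII.bcCx φ P) q).toLinearEquiv
  let E : CohIII.T (CohIII.bcCx φ P) q (ModuleCat.of B B) ≃+
      CohIII.T P q ((ModuleCat.restrictScalars φ).obj (ModuleCat.of B B)) :=
    (e.app (ModuleCat.of B B)).addCommGroupIsoToAddEquiv
  refine ⟨AddEquiv.toLinearEquiv (E.symm.trans u.toAddEquiv) fun a z => ?_⟩
  obtain ⟨w, rfl⟩ := E.surjective z
  have hn := ConcreteCategory.congr_hom
    (e.hom.naturality (ModuleCat.ofHom (φ a • LinearMap.id : B →ₗ[B] B))) w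
  have hw : E (φ a • w) = a • E w := by
    refine (congrArg E (QCoh.tfun_map_smul q _ (φ a) w).symm).trans (hn.trans ?_)
    exact QCoh.tfun_map_smul q ((ModuleCat.restrictScalars φ).obj (ModuleCat.of B B)) a (E w)
  show u (E.symm (a • E w)) = φ a • u (E.symm (E w))
  rw [← hw, AddEquiv.symm_apply_apply, AddEquiv.symm_apply_apply, map_smul]

/-- Vanishing of `T_1` makes `T_0` left exact. -/
theorem preservesMono_of_isZero (hfl : ∀ i, Module.Flat A (P.X i))
    (h : ∀ M : ModuleCat.{u} A, IsZero (CohIII.T P 1 M)) : (CohIII.TFun P 0).PreservesMonomorphisms :=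
  (FlatCxLib.preservesEpi_iff_preservesMono hfl (show (0 : ℤ) + 1 = 1 from rfl)).1
    ⟨fun {_ N} f _ => (ModuleCat.epi_iff_surjective _).2 fun z =>
      ⟨0, @Subsingleton.elim _ (ModuleCat.subsingleton_of_isZero (h N)) _ _⟩⟩

variable {P}

/-- The functor is that of a cyclic module. -/
theorem exists_ideal [IsNoetherianRing A] [IsLocalRing A] (hfl : ∀ i, Module.Flat A (P.X i))
    (hfin : ∀ i, Module.Finite A (P.X i)) (hpos : ∀ q : ℤ, 0 < q → ∀ M, IsZero (CohIII.T P q M))
    (hdim : CohIII.dRank P 0 (IsLocalRing.closedPoint A) = 1) :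
    ∃ J : Ideal A, J ≤ IsLocalRing.maximalIdeal A ∧
      (∀ (M : ModuleCat.{u} A), ∀ a ∈ J, ∀ z : CohIII.T P 0 M, a • z = 0) ∧
      ∀ (M N : ModuleCat.{u} A) (f : M ⟶ N), Function.Surjective f.hom → (∀ a ∈ J, ∀ x : M, a • x = 0) →
        Function.Surjective ((CohIII.TFun P 0).map f).hom := by
  obtain ⟨hiff, hfinQ⟩ := QCoh.corep_iff (fun i => ⟨hfin i, hfl i⟩) (0 : ℤ) (P := P)
  obtain ⟨Q, ⟨e⟩⟩ := hiff.1 (preservesMono_of_isZero P hfl (hpos 1 Int.one_pos))
  haveI := hfinQ Q ⟨e⟩
  let φ : A →+* IsLocalRing.ResidueField A := IsLocalRing.residue A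
  let K := (ModuleCat.restrictScalars φ).obj (ModuleCat.of (IsLocalRing.ResidueField A) (IsLocalRing.ResidueField A))
  let eK : CohIII.T P 0 K ≃ₗ[A] (Q ⟶ K) := (e.app K).toLinearEquiv
  obtain ⟨ρ⟩ := nonempty_T_restrict P φ 0
  have hrank : Module.finrank (IsLocalRing.ResidueField A) ((CohIII.bcCx φ P).homology 0) = 1 :=
    (QCoh.finrank_bc_eq_dRank φ P (IsLocalRing.closedPoint A) IsLocalRing.ker_residue 0).trans hdim
  obtain ⟨v, hv0, hv⟩ := finrank_eq_one_iff'.1 hrank
  let f0 : Q ⟶ K := eK (ρ.symm v)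
  have hf0 : f0 ≠ 0 := fun h => hv0 (by
    have h' : ρ.symm v = 0 := eK.injective (h.trans (map_zero eK).symm)
    exact ρ.symm.injective (h'.trans (map_zero ρ.symm).symm))
  have hgen : ∀ f : Q ⟶ K, ∃ a : A, f = a • f0 := fun f => by
    obtain ⟨c, hc⟩ := hv (ρ (eK.symm f))
    obtain ⟨a, rfl⟩ := Ideal.Quotient.mk_surjective c
    refine ⟨a, ?_⟩
    let v' : (ModuleCat.restrictScalars φ).obj ((CohIII.bcCx φ P).homology 0) := v
    show f = a • eK (ρ.symm v')
    rw [← map_smul, ← map_smul, show a • v' = ρ (eK.symm f) from hc,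
      LinearEquiv.symm_apply_apply, LinearEquiv.apply_symm_apply]
  obtain ⟨q0, hq0⟩ : ∃ q, f0.hom q ≠ 0 := by
    by_contra hc
    push_neg at hc
    exact hf0 (ModuleCat.hom_ext (LinearMap.ext hc))
  -- the module is generated by `q0`
  have htop : Submodule.span A {q0} = ⊤ := by
    refine top_unique (Submodule.le_of_le_smul_of_le_jacobson_bot Module.Finite.fg_top
      (IsLocalRing.maximalIdeal_le_jacobson _) fun q _ => ?_)
    by_contra hq
    let N : Submodule A Q := Submodule.span A {q0} ⊔ IsLocalRing.maximalIdeal A • (⊤ : Submodule A Q)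
    have htors : Module.IsTorsionBySet A (Q ⧸ N) (IsLocalRing.maximalIdeal A : Set A) := by
      intro x a
      obtain ⟨x, rfl⟩ := Submodule.mkQ_surjective N x
      rw [Submodule.mkQ_apply, ← Submodule.Quotient.mk_smul, Submodule.Quotient.mk_eq_zero]
      exact Submodule.mem_sup_right (Submodule.smul_mem_smul a.2 Submodule.mem_top)
    letI : Module (IsLocalRing.ResidueField A) (Q ⧸ N) := htors.module
    haveI : IsScalarTower A (IsLocalRing.ResidueField A) (Q ⧸ N) :=
      .of_algebraMap_smul fun _ _ => rfl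
    obtain ⟨ψ, hψ⟩ : ∃ ψ : Module.Dual (IsLocalRing.ResidueField A) (Q ⧸ N),
        ψ (Submodule.Quotient.mk q) ≠ 0 := by
      by_contra hc
      push_neg at hc
      exact hq ((Submodule.Quotient.mk_eq_zero N).1
        ((Module.forall_dual_apply_eq_zero_iff (IsLocalRing.ResidueField A) _).1 hc))
    let g : Q ⟶ K := ModuleCat.ofHom
      ({ toFun := fun x => ψ (Submodule.Quotient.mk x)
         map_add' := fun x y => map_add ψ (Submodule.Quotient.mk x) (Submodule.Quotient.mk y)
         map_smul' := fun a x => by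
           show ψ (Submodule.Quotient.mk (a • x)) = φ a • ψ (Submodule.Quotient.mk x)
           rw [Submodule.Quotient.mk_smul, ← map_smul]
           rfl } : Q →ₗ[A] K)
    obtain ⟨a, ha⟩ := hgen g
    have h0 : φ a * (show IsLocalRing.ResidueField A from f0.hom q0) = 0 := by
      refine (congr(($ha).hom q0)).symm.trans ?_
      show ψ (Submodule.Quotient.mk q0) = 0
      rw [(Submodule.Quotient.mk_eq_zero N).2 (Submodule.mem_sup_left (Submodule.mem_span_singleton_self q0)),
        map_zero]
    rcases mul_eq_zero.1 h0 with h | h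
    · refine hψ ((congr(($ha).hom q)).trans ?_)
      show φ a * (show IsLocalRing.ResidueField A from f0.hom q) = 0
      rw [h, zero_mul]
    · exact hq0 h
  let π : A →ₗ[A] Q := LinearMap.toSpanSingleton A Q q0
  have hπ : Function.Surjective π := fun q => Submodule.mem_span_singleton.1 (htop ▸ Submodule.mem_top)
  have hJ : ∀ (M : ModuleCat.{u} A), ∀ a ∈ LinearMap.ker π, ∀ f : Q ⟶ M, a • f = 0 := fun M a ha f =>
    ModuleCat.hom_ext (LinearMap.ext fun q => by
      obtain ⟨r, rfl⟩ := hπ q
      show a • f.hom (r • q0) = 0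
      rw [← map_smul, smul_comm, show a • q0 = 0 from ha, smul_zero, map_zero])
  refine ⟨LinearMap.ker π, fun a ha => ?_, fun M a ha z => ?_, fun M N f hf hkill z => ?_⟩
  · by_contra h
    have hu : IsUnit a := not_not.1 fun h' => h ((IsLocalRing.mem_maximalIdeal a).2 h')
    exact hq0 (by rw [(hu.smul_eq_zero).1 (show a • q0 = 0 from ha), map_zero])
  · exact (e.app M).toLinearEquiv.injective (by rw [map_smul, map_zero]; exact hJ M a ha _)
  · let gz : Q ⟶ N := (e.app N).toLinearEquiv z
    obtain ⟨m, hm⟩ := hf (gz.hom q0)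
    let h : Q ⟶ M := ModuleCat.ofHom (((LinearMap.ker π).liftQ (LinearMap.toSpanSingleton A M m)
      (fun a ha => hkill a ha m)).comp (π.quotKerEquivOfSurjective hπ).symm.toLinearMap)
    have hh : h ≫ f = gz := ModuleCat.hom_ext (LinearMap.ext fun q => by
      obtain ⟨r, rfl⟩ := hπ q
      have hs : (π.quotKerEquivOfSurjective hπ).symm (π r) = Submodule.Quotient.mk r :=
        (LinearEquiv.symm_apply_eq _).2 rfl
      simp only [h, ModuleCat.hom_comp, ModuleCat.hom_ofHom, LinearMap.comp_apply, LinearEquiv.coe_coe, hs,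
        Submodule.liftQ_apply]
      show f.hom (r • m) = gz.hom (r • q0)
      rw [map_smul, hm, map_smul])
    refine ⟨(e.app M).toLinearEquiv.symm h, (e.app N).toLinearEquiv.injective ?_⟩
    refine (ConcreteCategory.congr_hom (e.hom.naturality f) _).trans ?_
    refine Eq.trans ?_ hh
    exact congrArg (· ≫ f) ((e.app M).toLinearEquiv.apply_symm_apply h)

end Groth.Agent.RegLocalRep
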