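import Groth.Agent.Lib.AVPoincareModel
import Groth.Agent.Lib.RegLocalRep
import Groth.Agent.CohPullX.DegreeZero
import Groth.Agent.H23.RigidApply
import Groth.Agent.Lib.NefPull

/-!
At the origin of the dual only the reduced point carries a trivial Poincaré module.
-/

set_option autoImplicit false
set_option linter.style.haveILetI false
set_option linter.unusedSectionVars false
set_option backward.isDefEq.respectTransparency false
set_option backward.isDefEq.respectTransparency.types false
set_option maxHeartbeats 1000000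
set_option synthInstance.maxHeartbeats 400000

universe u

open CategoryTheory CategoryTheory.Limits MonoidalCategory CartesianMonoidalCategory MonObj AlgebraicGeometry TopologicalSpace

noncomputable section

namespace Groth.Agent.AVPoincare

open Groth.Agent Groth.Agent.QCoh Groth.Agent.H23 Groth.Agent.AVPair Groth.Agent.AVDual
open scoped Groth.Agent.H23.PicMul

variable {k : Type u} [Field k]

local notation3 "pt₀" => 𝟙_ (Over (Spec (CommRingCat.of k)))

variable {A At : Over (Spec (CommRingCat.of k))} [GrpObj A] [IsProper A.hom] [GeometricallyIntegral A.hom]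
  [GrpObj At] [IsProper At.hom] [GeometricallyIntegral At.hom]
  {P : (A ⊗ At).left.Modules} (hP : PicF.IsInvertible P) (hs : Sep (PicF.cl P : PicF.Cl (A ⊗ At).left))
  [HasInjectiveResolutions (A ⊗ At).left.Modules] {V : At.left.Opens} {hV : IsAffineOpen V}
  {K : ChainComplex (ModuleCat.{u} Γ(At.left, V)) ℤ}
  (hK : letI : (((snd A At).left ⁻¹ᵁ V : (A ⊗ At).left.Opens) : Scheme.{u}).Over (Spec (CommRingCat.of Γ(At.left, V))) :=
      ⟨overSpec (snd A At).left hV⟩
    IsBCModel (P.restrict ((snd A At).left ⁻¹ᵁ V).ι) K)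

include hP hs hK

/-- Over a one point affine scheme at which `T_0` is right exact the Poincaré module is trivial. -/
theorem eq_one_of_preservesEpi {T : Over (Spec (CommRingCat.of k))} [IsAffine T.left] [Subsingleton T.left]
    [Nonempty T.left] (t : T ⟶ At) (hle : (⊤ : T.left.Opens) ≤ t.left ⁻¹ᵁ V)
    (ho : ∀ s : T.left, t.left s = η[At].left (IsLocalRing.closedPoint k))
    (hepi : (CohIII.TFun (CohIII.bcCx (t.left.appLE V ⊤ hle).hom K) (0 : ℤ)).PreservesEpimorphisms) : t = 1 := by
  let f' := (snd A T).left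
  haveI : IsProper f' := inferInstanceAs (IsProper (pullback.snd A.hom T.hom))
  haveI : Flat f' := inferInstanceAs (Flat (pullback.snd A.hom T.hom))
  haveI : GeometricallyIntegral f' := inferInstanceAs (GeometricallyIntegral (pullback.snd A.hom T.hom))
  haveI : LocallyOfFinitePresentation A.hom :=
    AlgStLib.locallyOfFinitePresentation_of_isLocallyNoetherian A.hom inferInstance
  haveI : LocallyOfFinitePresentation f' := inferInstanceAs (LocallyOfFinitePresentation (pullback.snd A.hom T.hom))
  haveI : IsProper (snd A At).left := inferInstanceAs (IsProper (pullback.snd A.hom At.hom))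
  have hsq : IsPullback (A ◁ t).left f' (snd A At).left t.left := by
    refine IsPullback.of_right ?_ (by rw [← Over.comp_left, whiskerLeft_snd]; rfl)
      (IsPullback.of_hasPullback A.hom At.hom)
    show IsPullback ((A ◁ t).left ≫ (fst A At).left) _ A.hom _
    rw [← Over.comp_left, whiskerLeft_fst, Over.w t]
    exact IsPullback.of_hasPullback A.hom T.hom
  let M := (Scheme.Modules.pullback (A ◁ t).left).obj P
  have hM : PicF.IsInvertible M := PicClLib.isInvertible_pullback _ hP
  have hMq : Coh.IsQCoh M := QCoh.isQCoh_pullback _ (QCoh.isQCoh_of_isFP (QCoh.isFP_of_isFinLocFree fun x =>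
    (SeesawX.isFinLocFreeOfRank_one hP x).elim fun U h => ⟨U, 1, h⟩))
  have hU : IsAffineOpen (⊤ : T.left.Opens) := isAffineOpen_top T.left
  -- the Čech complexes are right exact
  have hker : CohPullX.HasKerBC f' M ⊤ := by
    refine CohPullX.hasKerBC_of_preservesEpi hMq (H23.Seesaw.isFlatOver_of_isInvertible _ hM) hU ?_
    intro κ _ W hcov hW
    letI : (((snd A At).left ⁻¹ᵁ V : (A ⊗ At).left.Opens) : Scheme.{u}).Over
        (Spec (CommRingCat.of Γ(At.left, V))) := ⟨overSpec (snd A At).left hV⟩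
    letI : ((f' ⁻¹ᵁ (⊤ : T.left.Opens) : (A ⊗ T).left.Opens) : Scheme.{u}).Over (Spec (CommRingCat.of Γ(T.left, ⊤))) :=
      ⟨overSpec f' hU⟩
    haveI : IsProper ((((snd A At).left ⁻¹ᵁ V : (A ⊗ At).left.Opens) : Scheme.{u}) ↘
        Spec (CommRingCat.of Γ(At.left, V))) := by
      show IsProper (((snd A At).left ∣_ V) ≫ hV.isoSpec.hom)
      infer_instance
    let j := (f' ⁻¹ᵁ (⊤ : T.left.Opens)).ι
    let F₀ := P.restrict ((snd A At).left ⁻¹ᵁ V).ι
    have hF₀ : Coh.IsQCoh F₀ := QCoh.isQCoh_restrict _ (QCoh.isQCoh_of_isFP (QCoh.isFP_of_isFinLocFree fun x =>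
      (SeesawX.isFinLocFreeOfRank_one hP x).elim fun U h => ⟨U, 1, h⟩))
    have h : IsPullback (j ≫ (A ◁ t).left) (overSpec f' hU) (snd A At).left
        (Spec.map (CommRingCat.ofHom (t.left.appLE V ⊤ hle).hom) ≫ hV.fromSpec) := by
      rw [show Spec.map (CommRingCat.ofHom (t.left.appLE V ⊤ hle).hom) ≫ hV.fromSpec = hU.fromSpec ≫ t.left from
        hV.SpecMap_appLE_fromSpec t.left hU hle]
      exact (isPullback_overSpec (f := f') hU).paste_horiz hsq
    obtain ⟨e₁⟩ := CohPullX.nonempty_tfun_bc_iso (φ := RingHom.id Γ(At.left, V)) (f := (snd A At).left) (M := P)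
      hF₀ hK (g := 𝟙 _)
      (by
        rw [show CommRingCat.ofHom (RingHom.id Γ(At.left, V)) = 𝟙 _ from rfl, Spec.map_id]
        exact IsPullback.of_horiz_isIso ⟨by simp; rfl⟩)
      ((Scheme.Modules.pullbackId _).app F₀ ≪≫ (Scheme.Modules.restrictFunctorIsoPullback _).app P)
      Γ(T.left, ⊤) (t.left.appLE V ⊤ hle).hom (j ≫ (A ◁ t).left) h 0
    obtain ⟨e₂⟩ := QCoh.nonempty_tfun_iso (A := Γ(T.left, ⊤)) _
      (QCoh.isQCoh_pullback j hMq) hcov hW 0
    exact CohPullX.preservesEpi_of_forget_iso (e₁ ≪≫ Functor.isoWhiskerRight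
      (CohPullX.tensorAFunctorCongr _ ((Scheme.Modules.pullbackComp j (A ◁ t).left).app P).symm) _ ≪≫ e₂.symm) hepi
  have ht : ∀ s : T.left, Nonempty ((Scheme.Modules.pullback (f'.fiberι s)).obj M ≅
      Coh.structureModule (f'.fiber s)) := fun s => by
    have hfac : ∀ y : At.left, y = η[At].left (IsLocalRing.closedPoint k) →
        At.left.fromSpecResidueField y ≫ At.hom ≫ η[At].left = At.left.fromSpecResidueField y := by
      rintro _ rfl
      exact fromSpecResidueField_origin
    have h1 : T.left.fromSpecResidueField s ≫ t.left ≫ At.hom ≫ η[At].left =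
        T.left.fromSpecResidueField s ≫ t.left := by
      rw [← Category.assoc (T.left.fromSpecResidueField s),
        show T.left.fromSpecResidueField s ≫ t.left =
          Spec.map (t.left.residueFieldMap s) ≫ At.left.fromSpecResidueField (t.left s) from
          (Scheme.Hom.SpecMap_residueFieldMap_fromSpecResidueField t.left s).symm,
        Category.assoc, hfac _ (ho s)]
    let j : f'.fiber s ⟶ A.left := (isPullback_origin (A := A) (At := At)).lift (f'.fiberι s ≫ (A ◁ t).left)
      (f'.fiberToSpecResidueField s ≫ T.left.fromSpecResidueField s ≫ t.left ≫ At.hom)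
      (by
        simp only [Category.assoc]
        rw [hsq.w, h1]
        rw [reassoc_of% (f'.fiber_fac s)])
    have hj : j ≫ (lift (𝟙 A) (1 : A ⟶ At)).left = f'.fiberι s ≫ (A ◁ t).left :=
      (isPullback_origin (A := A)).lift_fst _ _ _
    obtain ⟨τ⟩ := nonempty_origin_iso hP hs
    obtain ⟨u⟩ := PicClLib.nonempty_pullback_structureModule j
    exact ⟨(Scheme.Modules.pullbackComp _ _).app P ≪≫ (Scheme.Modules.pullbackCongr hj).symm.app P ≪≫
      ((Scheme.Modules.pullbackComp _ _).app P).symm ≪≫ (Scheme.Modules.pullback j).mapIso τ ≪≫ u⟩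
  -- so the module comes from the base
  obtain ⟨hN, hiso⟩ := SeesawX.pushforward_of_epi f'
    (H23.RigidApply.constFibres_of_geometricallyIntegral f') hM ht
    (fun s => by
      haveI : IsIso (CohBC.bc0 f' (T.left.fromSpecResidueField s) (f'.fiberToSpecResidueField s) (f'.fiberι s)
          (f'.fiber_fac s) M) :=
        CohPullX.isIso_bc0_of_hasKerBC (IsPullback.of_hasPullback f' (T.left.fromSpecResidueField s)) hMq
          fun x => ⟨⊤, trivial, hker⟩
      infer_instance)
  haveI := hiso
  let N := (Scheme.Modules.pushforward f').obj M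
  obtain ⟨τ⟩ := NefPull.triv_of_subsingleton hN
  obtain ⟨u⟩ := PicClLib.nonempty_pullback_structureModule f'
  refine hs.sep t ?_
  exact (PicGrp.cl_eq_cl_iff _ _).2 ⟨(asIso ((Scheme.Modules.pullbackPushforwardAdjunction f').counit.app M)).symm ≪≫
    (Scheme.Modules.pullback f').mapIso τ ≪≫ u⟩

/-- The reduced point: `T_0` is killed by the maximal ideal. -/
theorem kill_T0 [IsLocallyNoetherian At.left] (ho : η[At].left (IsLocalRing.closedPoint k) ∈ V)
    (M : ModuleCat.{u} (Localization.AtPrime (hV.primeIdealOf ⟨_, ho⟩).asIdeal))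
    (a : Localization.AtPrime (hV.primeIdealOf ⟨_, ho⟩).asIdeal)
    (ha : a ∈ IsLocalRing.maximalIdeal (Localization.AtPrime (hV.primeIdealOf ⟨_, ho⟩).asIdeal))
    (z : CohIII.T (locCx K (hV.primeIdealOf ⟨_, ho⟩)) 0 M) : a • z = 0 := by
  let x := hV.primeIdealOf ⟨_, ho⟩
  let R := Localization.AtPrime x.asIdeal
  haveI : IsNoetherianRing Γ(At.left, V) := IsLocallyNoetherian.component_noetherian ⟨V, hV⟩
  haveI : IsNoetherianRing R := IsLocalization.isNoetherianRing x.asIdeal.primeCompl _ inferInstance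
  letI : (((snd A At).left ⁻¹ᵁ V : (A ⊗ At).left.Opens) : Scheme.{u}).Over
      (Spec (CommRingCat.of Γ(At.left, V))) := ⟨overSpec (snd A At).left hV⟩
  have hflA : ∀ i, Module.Flat Γ(At.left, V) (K.X i) := fun i => QCoh.flat_of_isBCModel hK i
  let C := locCx K x
  have hfl : ∀ i, Module.Flat R (C.X i) := FlatCxLib.flat_bcCx_X K hflA
  have hfin : ∀ i, Module.Finite R (C.X i) := finite_bcCx_X_aux K _ hK.1
  have hpos : ∀ q : ℤ, 0 < q → ∀ M, IsZero (CohIII.T C q M) := fun q hq M =>
    isZero_T_locCx K x (hK.2.2.2.1 q hq) M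
  obtain ⟨ψ, hψ, hker, hd⟩ := exists_origin_dRank hP hs hK ho
  have hdim : CohIII.dRank C 0 (IsLocalRing.closedPoint R) = 1 := by
    rw [dRank_locCx_closedPoint]
    refine (hd 0).trans ?_
    haveI : GeometricallyConnected A.hom := CubeAb.geometricallyConnected_of_integral A.hom
    letI : A.left.Over (Spec (CommRingCat.of k)) := ⟨A.hom⟩
    haveI : IsProper (A.left ↘ Spec (CommRingCat.of k)) := inferInstanceAs (IsProper A.hom)
    haveI : GeometricallyConnected (A.left ↘ Spec (CommRingCat.of k)) := inferInstanceAs (GeometricallyConnected A.hom)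
    haveI : GeometricallyReduced (A.left ↘ Spec (CommRingCat.of k)) := inferInstanceAs (GeometricallyReduced A.hom)
    exact S1536.result k A.left
  obtain ⟨J, hJm, hJ, hsurj⟩ := RegLocalRep.exists_ideal hfl hfin hpos hdim
  suffices IsLocalRing.maximalIdeal R ≤ J from hJ M a (this ha) z
  let m := IsLocalRing.maximalIdeal R
  let I : Ideal R := J ⊔ m * m
  have hIm : I ≤ m := sup_le hJm Ideal.mul_le_left
  haveI : Nontrivial (R ⧸ I) := Ideal.Quotient.nontrivial_iff.2 fun h =>
    (IsLocalRing.maximalIdeal.isMaximal R).ne_top (top_unique (h ▸ hIm))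
  let π : Γ(At.left, V) →+* R ⧸ I := (Ideal.Quotient.mk I).comp (algebraMap Γ(At.left, V) R)
  let Z : Scheme.{u} := Spec (CommRingCat.of (R ⧸ I))
  let tl : Z ⟶ At.left := Spec.map (CommRingCat.ofHom π) ≫ hV.fromSpec
  let T : Over (Spec (CommRingCat.of k)) := Over.mk (tl ≫ At.hom)
  let t : T ⟶ At := Over.homMk tl
  haveI : IsAffine T.left := inferInstanceAs (IsAffine (Spec _))
  haveI : Nonempty T.left := inferInstanceAs (Nonempty (PrimeSpectrum (R ⧸ I)))
  have hpr : ∀ p : PrimeSpectrum (R ⧸ I), PrimeSpectrum.comap (Ideal.Quotient.mk I) p = IsLocalRing.closedPoint R :=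
    fun p => PrimeSpectrum.ext (le_antisymm
      (IsLocalRing.le_maximalIdeal (PrimeSpectrum.comap (Ideal.Quotient.mk I) p).isPrime.ne_top) fun b hb =>
      ((PrimeSpectrum.comap (Ideal.Quotient.mk I) p).isPrime.mem_or_mem (show b * b ∈ _ from by
        show Ideal.Quotient.mk I (b * b) ∈ p.asIdeal
        rw [Ideal.Quotient.eq_zero_iff_mem.2 (show b * b ∈ I from Ideal.mem_sup_right (Ideal.mul_mem_mul hb hb))]
        exact zero_mem _)).elim id id)
  haveI : Subsingleton T.left := ⟨fun p q => PrimeSpectrum.comap_injective_of_surjective _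
    Ideal.Quotient.mk_surjective ((hpr p).trans (hpr q).symm)⟩
  have hto : ∀ s : T.left, t.left s = η[At].left (IsLocalRing.closedPoint k) := fun s => by
    show hV.fromSpec (PrimeSpectrum.comap π s) = _
    rw [PrimeSpectrum.comap_comp_apply, hpr,
      show PrimeSpectrum.comap (algebraMap Γ(At.left, V) R) (IsLocalRing.closedPoint R) = x from
        PrimeSpectrum.ext (IsLocalization.AtPrime.under_maximalIdeal _ x.asIdeal)]
    exact hV.fromSpec_primeIdealOf ⟨_, ho⟩
  have hle : (⊤ : T.left.Opens) ≤ t.left ⁻¹ᵁ V := fun s _ => by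
    show t.left s ∈ V
    rw [hto]
    exact ho
  -- the ring map of `T` through `R`
  let ρ : R →+* Γ(T.left, ⊤) :=
    (Scheme.ΓSpecIso (CommRingCat.of (R ⧸ I))).inv.hom.comp (Ideal.Quotient.mk I)
  have hρs : Function.Surjective ρ :=
    (Scheme.ΓSpecIso (CommRingCat.of (R ⧸ I))).symm.commRingCatIsoToRingEquiv.surjective.comp
      Ideal.Quotient.mk_surjective
  have hρ : (t.left.appLE V ⊤ hle).hom = ρ.comp (algebraMap Γ(At.left, V) R) := by
    have h2 : Spec.map (t.left.appLE V ⊤ hle) =
        Spec.map (CommRingCat.ofHom π ≫ (Scheme.ΓSpecIso (CommRingCat.of (R ⧸ I))).inv) := by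
      rw [← cancel_mono hV.fromSpec, hV.SpecMap_appLE_fromSpec t.left (isAffineOpen_top _) hle,
        IsAffineOpen.fromSpec_top, Spec.map_comp, Category.assoc]
      show (Spec (CommRingCat.of (R ⧸ I))).isoSpec.inv ≫ _ = _
      rw [Scheme.isoSpec_Spec_inv]
      rfl
    rw [Spec.map_injective h2]
    rfl
  have hepi : (CohIII.TFun (CohIII.bcCx (t.left.appLE V ⊤ hle).hom K) (0 : ℤ)).PreservesEpimorphisms := by
    rw [hρ]
    let eC : CohIII.bcCx (ρ.comp (algebraMap Γ(At.left, V) R)) K ≅ CohIII.bcCx ρ C :=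
      HomologicalComplex.Hom.isoOfComponents (fun n => (ModuleCat.extendScalarsComp
        (algebraMap Γ(At.left, V) R) ρ).app (K.X n))
        fun a b _ => ((ModuleCat.extendScalarsComp (algebraMap Γ(At.left, V) R) ρ).hom.naturality (K.d a b)).symm
    obtain ⟨b⟩ := nonempty_bcT_iso C ρ (0 : ℤ)
    refine CohPullX.preservesEpi_of_forget_iso
      (T := CohIII.TFun (CohIII.bcCx ρ C) (0 : ℤ)) (Functor.isoWhiskerRight (tfunMapIso eC (0 : ℤ)).symm _) ⟨fun {M N} f _ => ?_⟩
    rw [ModuleCat.epi_iff_surjective]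
    intro y
    have hs : Function.Surjective ((CohIII.TFun C (0 : ℤ)).map ((ModuleCat.restrictScalars ρ).map f)).hom :=
      hsurj _ _ _ ((ModuleCat.epi_iff_surjective f).1 inferInstance) fun c hc m => by
        show ρ c • m = 0
        rw [show ρ c = 0 by
          show (Scheme.ΓSpecIso (CommRingCat.of (R ⧸ I))).inv.hom (Ideal.Quotient.mk I c) = 0
          rw [Ideal.Quotient.eq_zero_iff_mem.2 (Ideal.mem_sup_left hc), map_zero], zero_smul]
    obtain ⟨w, hw⟩ := hs ((b.app N).addCommGroupIsoToAddEquiv y)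
    refine ⟨(b.app M).addCommGroupIsoToAddEquiv.symm w, (b.app N).addCommGroupIsoToAddEquiv.injective ?_⟩
    refine (ConcreteCategory.congr_hom (b.hom.naturality f) _).trans ?_
    refine Eq.trans ?_ hw
    exact congrArg ((CohIII.TFun C (0 : ℤ)).map ((ModuleCat.restrictScalars ρ).map f)).hom
      ((b.app M).addCommGroupIsoToAddEquiv.apply_symm_apply w)
  have h1 : t = 1 := eq_one_of_preservesEpi hP hs hK t hle hto hepi
  have h2 : CommRingCat.ofHom π = CommRingCat.ofHom ψ ≫ Spec.preimage T.hom := by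
    refine Spec.map_injective ?_
    rw [Spec.map_comp, Spec.map_preimage, ← cancel_mono hV.fromSpec, Category.assoc, hψ]
    exact congrArg (fun m : T ⟶ At => m.left) h1
  refine Submodule.le_of_le_smul_of_le_jacobson_bot m.fg_of_isNoetherianRing
    (IsLocalRing.maximalIdeal_le_jacobson _) ?_
  rw [smul_eq_mul]
  refine le_of_eq_of_le (Localization.AtPrime.map_eq_maximalIdeal (I := x.asIdeal)).symm (Ideal.map_le_iff_le_comap.2 fun b hb => ?_)
  show algebraMap Γ(At.left, V) R b ∈ J ⊔ m * m
  rw [← Ideal.Quotient.eq_zero_iff_mem]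
  have hb' : ψ b = 0 := by rw [← RingHom.mem_ker, hker]; exact hb
  refine (congr(($h2).hom b)).trans ?_
  show (Spec.preimage T.hom).hom (ψ b) = 0
  rw [hb', map_zero]

end Groth.Agent.AVPoincare
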