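import Groth.Agent.Lib.AVPoincareFibre
import Groth.Agent.QCoh.RpushExchange
import Groth.Agent.S1536

/-!
The finite free model of the Poincaré module near the origin.
-/

set_option autoImplicit false
set_option linter.style.haveILetI false
set_option linter.unusedSectionVars false
set_option backward.isDefEq.respectTransparency false
set_option backward.isDefEq.respectTransparency.types false
set_option maxHeartbeats 1000000
set_option synthInstance.maxHeartbeats 400000

universe u

open CategoryTheory CategoryTheory.Limits MonoidalCategory CartesianMonoidalCategory MonObj AlgebraicGeometry TopologicalSpace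

noncomputable section

namespace Groth.Agent.AVPoincare

open Groth.Agent Groth.Agent.QCoh

section General

variable {X S : Scheme.{u}} {f : X ⟶ S} {M : X.Modules}

/-- A model with base change which computes the sections of the higher direct images. -/
theorem exists_bcModel_sections [IsProper f] [IsLocallyNoetherian S] [HasInjectiveResolutions X.Modules]
    (hM : Coh.IsCoh M) (hfl : FlatMod.IsFlatOver f M) {V : S.Opens} (hV : IsAffineOpen V) :
    letI : ((f ⁻¹ᵁ V : X.Opens) : Scheme.{u}).Over (Spec (CommRingCat.of Γ(S, V))) := ⟨overSpec f hV⟩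
    ∃ P : ChainComplex (ModuleCat.{u} Γ(S, V)) ℤ, IsBCModel (M.restrict (f ⁻¹ᵁ V).ι) P ∧
      ∀ p : ℕ, Nonempty (Γ((Coh.Rpush f p).obj M, V) ≃ₗ[Γ(S, V)] P.homology (-(p : ℤ))) := by
  let U : X.Opens := f ⁻¹ᵁ V
  letI : (U : Scheme.{u}).Over (Spec (CommRingCat.of Γ(S, V))) := ⟨overSpec f hV⟩
  haveI : IsProper ((U : Scheme.{u}) ↘ Spec (CommRingCat.of Γ(S, V))) := by
    show IsProper ((f ∣_ V) ≫ hV.isoSpec.hom)
    infer_instance
  haveI : IsNoetherianRing Γ(S, V) := IsLocallyNoetherian.component_noetherian ⟨V, hV⟩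
  let M' := M.restrict U.ι
  have hpb := isPullback_overSpec (f := f) hV
  let eR : (Scheme.Modules.pullback U.ι).obj M ≅ M' :=
    ((Scheme.Modules.restrictFunctorIsoPullback U.ι).app M).symm
  have hfl' : FlatMod.IsFlatOver ((U : Scheme.{u}) ↘ Spec (CommRingCat.of Γ(S, V))) M' :=
    isFlatOver_of_iso (f := overSpec f hV) eR (isQCoh_pullback _ hM.1)
      fun x => MorLib.FlatBC.isFlatOverAt_baseChange f (overSpec f hV) U.ι hV.fromSpec hpb M x (hfl _)
  obtain ⟨P, hP⟩ := exists_isBCModel M' (isCoh_restrict_open hM) hfl'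
  refine ⟨P, hP, fun p => ?_⟩
  obtain ⟨e₁⟩ := nonempty_sections_HH (f := f) hM.1 hV p
  rw [← toGlobal_overSpec f hV] at e₁
  obtain ⟨e₂⟩ := hP.2.2.2.2.2 Γ(S, V) (RingHom.id _) (U : Scheme.{u}) (𝟙 _) (overSpec f hV)
    (by
      rw [show CommRingCat.ofHom (RingHom.id Γ(S, V)) = 𝟙 _ from rfl, Spec.map_id]
      exact IsPullback.of_horiz_isIso ⟨by simp; rfl⟩) p
  let eid : CohIII.bcCx (RingHom.id Γ(S, V)) P ≅ P :=
    HomologicalComplex.Hom.isoOfComponents (fun n => (ModuleCat.extendScalarsId Γ(S, V)).app (P.X n))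
      fun a b _ => ((ModuleCat.extendScalarsId Γ(S, V)).hom.naturality (P.d a b)).symm
  exact ⟨e₁.trans (((HHcongr (Coh.toGlobal (overSpec f hV)) ((Scheme.Modules.pullbackId _).app M') p).symm).trans
    (e₂.trans ((HomologicalComplex.homologyFunctor _ _ (-(p : ℤ))).mapIso eid).toLinearEquiv))⟩

/-- The fibre rank function at a rational point through the model. -/
theorem exists_point_dRank {V : S.Opens} (hV : IsAffineOpen V) {P : ChainComplex (ModuleCat.{u} Γ(S, V)) ℤ}
    (hP : letI : ((f ⁻¹ᵁ V : X.Opens) : Scheme.{u}).Over (Spec (CommRingCat.of Γ(S, V))) := ⟨overSpec f hV⟩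
      IsBCModel (M.restrict (f ⁻¹ᵁ V).ι) P)
    {k : Type u} [Field k] (a : Spec (CommRingCat.of k) ⟶ S) (ha : a (IsLocalRing.closedPoint k) ∈ V)
    {Z : Scheme.{u}} (i : Z ⟶ X) (πZ : Z ⟶ Spec (CommRingCat.of k)) (hi : IsPullback i πZ f a) :
    ∃ φ : Γ(S, V) →+* k, Spec.map (CommRingCat.ofHom φ) ≫ hV.fromSpec = a ∧
      RingHom.ker φ = (hV.primeIdealOf ⟨_, ha⟩).asIdeal ∧
      ∀ p : ℕ, CohIII.dRank P (-(p : ℤ)) (hV.primeIdealOf ⟨_, ha⟩) =
        @Module.finrank k (Coh.HH Z ((Scheme.Modules.pullback i).obj M) p) _ _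
          (@Coh.moduleOver k _ Z ⟨πZ⟩ ((Scheme.Modules.pullback i).obj M) p) := by
  have hrange : Set.range a ⊆ Set.range hV.fromSpec := by
    rw [hV.range_fromSpec]
    rintro _ ⟨x, rfl⟩
    rwa [@Subsingleton.elim _ (inferInstanceAs (Subsingleton (PrimeSpectrum k))) x (IsLocalRing.closedPoint k)]
  let r : Spec (CommRingCat.of k) ⟶ Spec Γ(S, V) := IsOpenImmersion.lift hV.fromSpec a hrange
  have hr : r ≫ hV.fromSpec = a := IsOpenImmersion.lift_fac _ _ _
  let φ : Γ(S, V) →+* k := (Spec.preimage r).hom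
  have hφr : Spec.map (CommRingCat.ofHom φ) = r := Spec.map_preimage r
  have hx : r (IsLocalRing.closedPoint k) = hV.primeIdealOf ⟨_, ha⟩ := by
    apply hV.fromSpec.isOpenEmbedding.injective
    rw [hV.fromSpec_primeIdealOf]
    exact congr(($hr) (IsLocalRing.closedPoint k))
  have hker : RingHom.ker φ = (hV.primeIdealOf ⟨_, ha⟩).asIdeal := by
    rw [← hx, ← hφr]
    show _ = Ideal.comap φ (IsLocalRing.maximalIdeal k)
    rw [IsLocalRing.maximalIdeal_eq_bot]
    rfl
  refine ⟨φ, by rw [hφr, hr], hker, fun p => ?_⟩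
  let U : X.Opens := f ⁻¹ᵁ V
  have hpb := isPullback_overSpec (f := f) hV
  let g : Z ⟶ (U : Scheme.{u}) := hpb.lift i (πZ ≫ r) (by rw [Category.assoc, hr, hi.w])
  have hg : g ≫ U.ι = i := hpb.lift_fst _ _ _
  have hsq : IsPullback g πZ (overSpec f hV) (Spec.map (CommRingCat.ofHom φ)) := by
    rw [hφr]
    exact IsPullback.of_right (by rw [hg, hr]; exact hi) (hpb.lift_snd _ _ _) hpb
  letI : (U : Scheme.{u}).Over (Spec (CommRingCat.of Γ(S, V))) := ⟨overSpec f hV⟩
  obtain ⟨e₂⟩ := hP.2.2.2.2.2 k φ Z g πZ hsq p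
  let eF : (Scheme.Modules.pullback g).obj (M.restrict U.ι) ≅ (Scheme.Modules.pullback i).obj M :=
    (Scheme.Modules.pullback g).mapIso ((Scheme.Modules.restrictFunctorIsoPullback U.ι).app M) ≪≫
      (Scheme.Modules.pullbackComp g U.ι).app M ≪≫ (Scheme.Modules.pullbackCongr hg).app M
  refine (finrank_bc_eq_dRank φ P _ hker _).symm.trans ?_
  letI : Module k (Coh.HH Z ((Scheme.Modules.pullback i).obj M) p) := modHH (Coh.toGlobal (A := k) πZ) _ p
  letI : Module k (Coh.HH Z ((Scheme.Modules.pullback g).obj (M.restrict U.ι)) p) :=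
    modHH (Coh.toGlobal (A := k) πZ) _ p
  exact ((HHcongr (A := k) (Coh.toGlobal (A := k) πZ) eF p).symm.trans e₂).finrank_eq.symm

end General

section Origin

open Groth.Agent.H23 Groth.Agent.AVPair Groth.Agent.AVDual
open scoped Groth.Agent.H23.PicMul

variable {k : Type u} [Field k]

local notation3 "pt₀" => 𝟙_ (Over (Spec (CommRingCat.of k)))

variable {A At : Over (Spec (CommRingCat.of k))} [GrpObj A] [IsProper A.hom] [GeometricallyIntegral A.hom]
  [GrpObj At] [IsProper At.hom] [GeometricallyIntegral At.hom]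

/-- The slice at the origin. -/
theorem isPullback_origin :
    IsPullback (lift (𝟙 A) (1 : A ⟶ At)).left A.hom (snd A At).left η[At].left := by
  have hb : η[At].left ≫ At.hom = 𝟙 _ := Over.w η[At]
  have h1 : (lift (𝟙 A) (1 : A ⟶ At)).left ≫ (fst A At).left = 𝟙 A.left := by
    rw [← Over.comp_left, lift_fst]; rfl
  have h2 : (lift (𝟙 A) (1 : A ⟶ At)).left ≫ (snd A At).left = A.hom ≫ η[At].left := by
    rw [← Over.comp_left, lift_snd, Hom.one_def, Over.comp_left, Over.toUnit_left]
  refine IsPullback.of_right ?_ h2 (IsPullback.of_hasPullback A.hom At.hom)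
  show IsPullback (_ ≫ (fst A At).left) _ _ _
  rw [h1, hb]
  exact IsPullback.id_horiz A.hom

/-- The residue field of the origin is the base field. -/
theorem fromSpecResidueField_origin :
    At.left.fromSpecResidueField (η[At].left (IsLocalRing.closedPoint k)) ≫ At.hom ≫ η[At].left =
      At.left.fromSpecResidueField (η[At].left (IsLocalRing.closedPoint k)) := by
  let e := η[At].left
  have he : e ≫ At.hom = 𝟙 _ := Over.w η[At]
  let s : ↥(Spec (CommRingCat.of k)) := IsLocalRing.closedPoint k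
  haveI : IsImmersion (e ≫ At.hom) := by rw [he]; infer_instance
  haveI : IsImmersion e := IsImmersion.of_comp e At.hom
  haveI : IsIso (e.residueFieldMap s) := by
    refine (ConcreteCategory.isIso_iff_bijective _).mpr ⟨RingHom.injective _, fun a => ?_⟩
    obtain ⟨b, rfl⟩ := IsLocalRing.residue_surjective a
    obtain ⟨c, rfl⟩ := e.stalkMap_surjective s b
    exact ⟨IsLocalRing.residue _ c, rfl⟩
  haveI : IsIso (Spec.map (e.residueFieldMap s)) := inferInstance
  show At.left.fromSpecResidueField (e s) ≫ At.hom ≫ e = At.left.fromSpecResidueField (e s)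
  rw [← cancel_epi (Spec.map (e.residueFieldMap s)), Scheme.Hom.SpecMap_residueFieldMap_fromSpecResidueField_assoc,
    Scheme.Hom.SpecMap_residueFieldMap_fromSpecResidueField, reassoc_of% he]

variable
  {P : (A ⊗ At).left.Modules} (hP : PicF.IsInvertible P) (hs : Sep (PicF.cl P : PicF.Cl (A ⊗ At).left))
include hP hs

theorem nonempty_origin_iso :
    Nonempty ((Scheme.Modules.pullback (lift (𝟙 A) (1 : A ⟶ At)).left).obj P ≅ Coh.structureModule A.left) :=
  (PicGrp.cl_eq_cl_iff _ _).1 hs.right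

/-- The fibre at the origin is trivial. -/
theorem nonempty_fiber_origin :
    Nonempty ((Scheme.Modules.pullback ((snd A At).left.fiberι (η[At].left (IsLocalRing.closedPoint k)))).obj P ≅
      Coh.structureModule ((snd A At).left.fiber (η[At].left (IsLocalRing.closedPoint k)))) := by
  let o := η[At].left (IsLocalRing.closedPoint k)
  have hsq := isPullback_origin (A := A) (At := At)
  let j : (snd A At).left.fiber o ⟶ A.left := hsq.lift ((snd A At).left.fiberι o)
    ((snd A At).left.fiberToSpecResidueField o ≫ At.left.fromSpecResidueField o ≫ At.hom)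
    (by rw [Category.assoc, Category.assoc, fromSpecResidueField_origin]; exact (snd A At).left.fiber_fac o)
  have hj : j ≫ (lift (𝟙 A) (1 : A ⟶ At)).left = (snd A At).left.fiberι o := hsq.lift_fst _ _ _
  obtain ⟨t⟩ := nonempty_origin_iso hP hs
  obtain ⟨u⟩ := PicClLib.nonempty_pullback_structureModule j
  exact ⟨(Scheme.Modules.pullbackCongr hj).symm.app P ≪≫ ((Scheme.Modules.pullbackComp _ _).app P).symm ≪≫
    (Scheme.Modules.pullback j).mapIso t ≪≫ u⟩

variable [HasInjectiveResolutions (A ⊗ At).left.Modules] {V : At.left.Opens} {hV : IsAffineOpen V}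
  {K : ChainComplex (ModuleCat.{u} Γ(At.left, V)) ℤ}

/-- The model at the origin sees the cohomology of the structure sheaf. -/
theorem exists_origin_dRank
    (hK : letI : (((snd A At).left ⁻¹ᵁ V : (A ⊗ At).left.Opens) : Scheme.{u}).Over (Spec (CommRingCat.of Γ(At.left, V))) :=
        ⟨overSpec (snd A At).left hV⟩
      IsBCModel (P.restrict ((snd A At).left ⁻¹ᵁ V).ι) K)
    (ho : η[At].left (IsLocalRing.closedPoint k) ∈ V) :
    ∃ ψ : Γ(At.left, V) →+* k, Spec.map (CommRingCat.ofHom ψ) ≫ hV.fromSpec = η[At].left ∧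
      RingHom.ker ψ = (hV.primeIdealOf ⟨_, ho⟩).asIdeal ∧
      ∀ p : ℕ, CohIII.dRank K (-(p : ℤ)) (hV.primeIdealOf ⟨_, ho⟩) =
        @Module.finrank k (Coh.HH A.left (Coh.structureModule A.left) p) _ _
          (@Coh.moduleOver k _ A.left ⟨A.hom⟩ (Coh.structureModule A.left) p) := by
  obtain ⟨ψ, h1, h2, h3⟩ := exists_point_dRank hV hK η[At].left ho _ A.hom (isPullback_origin (A := A))
  obtain ⟨t⟩ := nonempty_origin_iso hP hs
  refine ⟨ψ, h1, h2, fun p => (h3 p).trans ?_⟩
  exact (HHcongr (A := k) (Coh.toGlobal (A := k) A.hom) t p).finrank_eq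

end Origin

end Groth.Agent.AVPoincare
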