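import Groth.Agent.Lib.AVTrace

/-!
The involution defined by an ample module: universal relations and positivity of effective classes.
-/

set_option autoImplicit false
set_option linter.style.haveILetI false
set_option linter.unusedSectionVars false
set_option backward.isDefEq.respectTransparency false
set_option backward.isDefEq.respectTransparency.types false
set_option maxHeartbeats 1000000
set_option synthInstance.maxHeartbeats 400000

universe u

open CategoryTheory CategoryTheory.Limits MonoidalCategory CartesianMonoidalCategory MonObj AlgebraicGeometry TopologicalSpace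
open Groth.Agent.H23

noncomputable section

namespace Groth.Agent.AVRosati

attribute [local instance] PicMul.clMonoid

variable {k : Type u} [Field k]

local instance overLeft (T : Over (Spec (CommRingCat.of k))) : T.left.Over (Spec (CommRingCat.of k)) := ⟨T.hom⟩

local instance isProper_overLeft (T : Over (Spec (CommRingCat.of k))) [IsProper T.hom] :
    IsProper (T.left ↘ Spec (CommRingCat.of k)) := ‹IsProper T.hom›

/-- A section which is not an isomorphism is somewhere not a frame. -/
theorem exists_notMem_locus {X : Scheme.{u}} {M : X.Modules} (s : Coh.structureModule X ⟶ M) (h : ¬ IsIso s) :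
    ∃ x, x ∉ TrivBasic.locus (InvX.one s) := by
  by_contra hc
  push Not at hc
  refine h (Scheme.Modules.Hom.isIso_iff_isIso_app.2 fun W => ?_)
  have hf := TrivBasic.locus_eq_top_iff.1 (top_le_iff.1 fun x _ => hc x)
  refine (ConcreteCategory.isIso_iff_bijective _).2 ?_
  rw [show (s.app W : _ → _) = fun r : Γ(X, W) => r • AModX.res M (le_top : W ≤ ⊤) (InvX.one s) from
    funext fun r => InvX.app_eq_smul s r]
  exact hf W le_top

variable {A : Over (Spec (CommRingCat.of k))} [GrpObj A] [IsCommMonObj A] [IsProper A.hom] [GeometricallyIntegral A.hom]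

/-- A nontrivial effective class meets powers of an ample class positively. -/
theorem form_q_pos {r : ℕ} (hr : topologicalKrullDim A.left = (r + 1 : ℕ)) {L : A.left.Modules} (hL : CohB1.IsAmple L)
    {M : A.left.Modules} (hM : PicF.IsInvertible M) (s : Coh.structureModule A.left ⟶ M) (hs : s ≠ 0) (hs' : ¬ IsIso s)
    (e : A ≅ A) : 0 < TopInt.form k (r + 1) (Fin.cons (AVDegPoly.q hM e.hom) fun _ => TopInt.mk hL.1) := by
  haveI : IsIntegral A.left := GeometricallyIntegral.isIntegral_of_subsingleton A.hom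
  have ht : InvX.one s ≠ 0 := fun h0 => hs (AmpleX.eq_zero_of_one_eq_zero _ h0)
  obtain ⟨x, hx⟩ := exists_notMem_locus s hs'
  let t : Γ((Scheme.Modules.pullback e.hom.left).obj M, ⊤) := InvX.pullElt e.hom.left (InvX.one s)
  have hloc : TrivBasic.locus t = e.hom.left ⁻¹ᵁ TrivBasic.locus (InvX.one s) :=
    TrivBasic.locus_pullElt hM e.hom.left (InvX.one s)
  have hy : ∀ y, e.hom.left (e.inv.left y) = y := fun y => by
    rw [← Scheme.Hom.comp_apply, ← Over.comp_left, e.inv_hom_id, Over.id_left]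
    rfl
  refine TopInt.form_cons_pos k hr hL _ (Lc := (Scheme.Modules.pullback e.hom.left).obj M) rfl
    (PicClLib.isInvertible_pullback _ hM) (t := t) ?_ ⟨e.inv.left x, fun hmem => hx ?_⟩
  · intro h0
    obtain ⟨z, hz⟩ := (Opens.ne_bot_iff_nonempty _).1 (TrivBasic.locus_ne_bot hM ht)
    have hmem : e.inv.left z ∈ TrivBasic.locus t := by
      rw [hloc]
      show e.hom.left (e.inv.left z) ∈ TrivBasic.locus (InvX.one s)
      rw [hy z]
      exact hz
    obtain ⟨W, hW, hfr⟩ := TrivBasic.mem_locus_iff.1 hmem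
    haveI : Nonempty W := ⟨⟨_, hW⟩⟩
    exact zero_ne_one (hfr.coord_unique (le_refl W) (r := (0 : Γ(A.left, W))) (r' := 1) (by simp [h0]))
  · rw [hloc] at hmem
    exact hy x ▸ hmem

variable {L M : A.left.Modules}

/-- The relation `φ_L ∘ ρ = a^* ∘ φ_{L^n}` universally. -/
theorem universal_transpose [IsAlgClosed k] (hL : PicF.IsInvertible L) (a ρ : EndAV.End A) (n : ℕ)
    (h : ∀ x : (𝟙_ (Over (Spec (CommRingCat.of k))) ⟶ A), Nonempty (CohB1.tensorMod ((Scheme.Modules.pullback ((𝟙 A * (toUnit A ≫ x ≫ EndAV.End.toHom ρ))).left).obj L) ((Scheme.Modules.pullback (EndAV.End.toHom a).left).obj (CohB1.tensorPow L n)) ≅ CohB1.tensorMod L ((Scheme.Modules.pullback (EndAV.End.toHom a).left).obj ((Scheme.Modules.pullback ((𝟙 A * (toUnit A ≫ x))).left).obj (CohB1.tensorPow L n)))))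
    {T : Over (Spec (CommRingCat.of k))} (f g : T ⟶ A) :
    AVDegPoly.polar hL (f ≫ a.toHom) g ^ n = AVDegPoly.polar hL f (g ≫ ρ.toHom) := by
  rw [AVTrace.polar_rel hL hL a.toHom (𝟙 A) ρ.toHom n 1 (fun x => by
    rw [AVTrace.polar_of_transpose hL hL a.toHom ρ.toHom n x (h x), pow_one]) f g, pow_one, Category.comp_id]

/-- The relation `φ_M = φ_{L^m} ∘ a` universally. -/
theorem universal_translate [IsAlgClosed k] (hL : PicF.IsInvertible L) (hM : PicF.IsInvertible M) (a : EndAV.End A) (m : ℕ)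
    (h : ∀ x : (𝟙_ (Over (Spec (CommRingCat.of k))) ⟶ A), Nonempty (CohB1.tensorMod ((Scheme.Modules.pullback ((𝟙 A * (toUnit A ≫ x))).left).obj M) (CohB1.tensorPow L m) ≅ CohB1.tensorMod M ((Scheme.Modules.pullback ((𝟙 A * (toUnit A ≫ x ≫ EndAV.End.toHom a))).left).obj (CohB1.tensorPow L m))))
    {T : Over (Spec (CommRingCat.of k))} (f g : T ⟶ A) :
    AVDegPoly.polar hM f g = AVDegPoly.polar hL f (g ≫ a.toHom) ^ m := by
  have := AVTrace.polar_rel hL hM (𝟙 A) (𝟙 A) a.toHom 1 m (fun x => by
    rw [AVTrace.polar_of_translate hL hM a.toHom m x (h x), pow_one]) f g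
  rwa [Category.comp_id, pow_one] at this

theorem polar_self_eq (hM : PicF.IsInvertible M) :
    AVDegPoly.polar hM (𝟙 A) (𝟙 A) = AVDegPoly.q hM (𝟙 A) * AVDegPoly.q hM (𝟙 A)⁻¹ := by
  have h1 : AVDegPoly.polar hM (𝟙 A) (𝟙 A) * AVDegPoly.polar hM (𝟙 A) (𝟙 A)⁻¹ = 1 := by
    rw [← AVDegPoly.polar_mul_right, mul_inv_cancel, AVTrace.polar_one_right]
  rw [eq_inv_of_mul_eq_one_left h1, AVDegPoly.polar, mul_inv_cancel, AVDegPoly.q_one, one_div, _root_.inv_inv]

/-- The trace formula, in terms of the symmetrisation of any ample module. -/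
theorem trace_eq_symm {r : ℕ} (hr : topologicalKrullDim A.left = (r + 1 : ℕ)) (hL : CohB1.IsAmple L) (x : EndAV.End A)
    (P : Polynomial ℚ)
    (hP : P.Monic ∧ P.natDegree = 2 * (r + 1) ∧
      ∀ j : ℤ, (IsFinite (EndAV.End.toHom (x + (j : EndAV.End A))).left →
          ∀ a : A.left, (Scheme.Hom.finrank (EndAV.End.toHom (x + (j : EndAV.End A))).left a : ℚ) = P.eval (j : ℚ)) ∧
        (¬ IsFinite (EndAV.End.toHom (x + (j : EndAV.End A))).left → P.eval (j : ℚ) = 0)) :
    ∃ D : ℚ, 0 < D ∧ P.coeff (2 * (r + 1) - 1) * D =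
      (TopInt.form k (r + 1) (Fin.cons (AVDegPoly.polar (AVTrace.isInvertible_symm hL.1) x.toHom (𝟙 A))
        fun _ => TopInt.mk (AVTrace.isAmple_symm hL).1) : ℤ) := by
  haveI : IsIntegral A.left := GeometricallyIntegral.isIntegral_of_subsingleton A.hom
  have h := AVTrace.trace_eq hr (AVTrace.isAmple_symm hL) (AVTrace.symmetric_symm L) x P hP
  have hD : (0 : ℚ) < (TopInt.form k (r + 1) fun _ => TopInt.mk (AVTrace.isAmple_symm hL).1 : ℤ) :=
    Int.cast_pos.2 (TopInt.form_pos k hr (AVTrace.isAmple_symm hL))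
  refine ⟨(TopInt.form k (r + 1) fun _ => TopInt.mk (AVTrace.isAmple_symm hL).1 : ℤ) / (r + 1 : ℕ),
    div_pos hD (by positivity), ?_⟩
  rw [← mul_div_assoc, h, mul_div_assoc, mul_div_cancel₀]
  positivity

end Groth.Agent.AVRosati
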