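import Groth.Agent.Lib.PicZeroPrim
import Groth.Agent.Lib.AVGraphPair
import Groth.Agent.Lib.AVSepClassify
import Groth.Agent.Lib.AVDualIsog
import Groth.Agent.TransLib.Finite
import Groth.Agent.GrpSchLib.KernelGrp
import Groth.Agent.GrpSchLib.LiftLaw

/-!
The locus of the base over which an invertible module is the pullback of the Poincaré class along the graph
of a multiple of a homomorphism to the dual.
-/

set_option linter.style.haveILetI false
set_option linter.unusedSectionVars false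
set_option backward.isDefEq.respectTransparency false
set_option backward.isDefEq.respectTransparency.types false
set_option maxHeartbeats 1000000
set_option synthInstance.maxHeartbeats 400000

universe u

open CategoryTheory CategoryTheory.Limits MonoidalCategory CartesianMonoidalCategory MonObj AlgebraicGeometry TopologicalSpace

noncomputable section

namespace Groth.Agent.AVSchemeLam

open Groth.Agent.H23
open scoped CategoryTheory.Obj
attribute [local instance] PicMul.clMonoid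

variable {S : Scheme.{u}}

/-- Pullback of classes along a morphism over the base. -/
abbrev P {X Y : Over S} (g : X ⟶ Y) : PicF.Cl Y.left →* PicF.Cl X.left := PicMul.pullHom g.left

theorem P_P {X Y Z : Over S} (g : X ⟶ Y) (h : Y ⟶ Z) (c : PicF.Cl Z.left) : P g (P h c) = P (g ≫ h) c :=
  PicClLib.pullCl_comp g.left h.left c

theorem P_id {X : Over S} (c : PicF.Cl X.left) : P (𝟙 X) c = c := PicClLib.pullCl_id c

theorem exists_inv {Y : Scheme.{u}} {c : PicF.Cl Y} (hc : PicF.IsInvertibleCl c) :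
    ∃ d : PicF.Cl Y, PicF.IsInvertibleCl d ∧ c * d = 1 := by
  obtain ⟨L, rfl, hL⟩ := hc
  obtain ⟨D, hD, e⟩ := PicInv.exists_inverse hL
  exact ⟨PicF.cl D, ⟨D, rfl, hD⟩, (PicGrp.cl_eq_cl_iff _ _).2 e⟩

/-- A morphism preserving multiplication preserves the unit. -/
theorem isMonHom_of_mul {A B : Over S} [GrpObj A] [GrpObj B] (f : A ⟶ B)
    (h : ∀ {T : Over S} (y z : T ⟶ A), (y * z) ≫ f = (y ≫ f) * (z ≫ f)) : IsMonHom f := by
  refine ⟨?_, ?_⟩
  · have h1 := h (1 : 𝟙_ (Over S) ⟶ A) 1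
    rw [_root_.one_mul, left_eq_mul, Hom.one_def, Hom.one_def, toUnit_unique (toUnit (𝟙_ (Over S))) (𝟙 _),
      Category.id_comp, Category.id_comp] at h1
    exact h1
  · rw [show μ[A] = fst A A * snd A A by rw [Hom.mul_def, lift_fst_snd, Category.id_comp], h, Hom.mul_def]
    congr 1

theorem map_pow_bc {S' : Scheme.{u}} (σ : S' ⟶ S) {X Y : Over S} [GrpObj Y] (f : X ⟶ Y) (m : ℕ) :
    (Over.pullback σ).map (f ^ m) = (Over.pullback σ).map f ^ m := by
  induction m with
  | zero => rw [pow_zero, pow_zero, Functor.map_one]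
  | succ m ih => rw [pow_succ, pow_succ, Functor.map_mul, ih]

section Locus

variable {A B : Over S} [GrpObj A] [IsProper A.hom] [Smooth A.hom] [GeometricallyConnected A.hom]

theorem isPullback_whisker {T : Over S} (z : T ⟶ B) :
    IsPullback (A ◁ z).left (snd A T).left (snd A B).left z.left := by
  refine IsPullback.of_right ?_ (by rw [← Over.comp_left, whiskerLeft_snd]; rfl)
    (IsPullback.of_hasPullback A.hom B.hom)
  show IsPullback ((A ◁ z).left ≫ (fst A B).left) _ A.hom _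
  rw [← Over.comp_left, whiskerLeft_fst, Over.w z]
  exact IsPullback.of_hasPullback A.hom T.hom

/-- The locus where a rigidified class is trivial is a closed subscheme. -/
theorem exists_closed_locus [IsLocallyNoetherian B.left]
    {e : PicF.Cl (A ⊗ B).left} (he : PicF.IsInvertibleCl e) (he0 : P (lift (1 : B ⟶ A) (𝟙 B)) e = 1) :
    ∃ (K : Over S) (i : K ⟶ B), IsClosedImmersion i.left ∧
      ∀ (T : Over S) (z : T ⟶ B), P (A ◁ z) e = 1 ↔ ∃ y : T ⟶ K, y ≫ i = z := by
  obtain ⟨E, rfl, hE⟩ := he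
  haveI : IsProper (snd A B).left := inferInstanceAs (IsProper (pullback.snd A.hom B.hom))
  haveI : Smooth (snd A B).left := inferInstanceAs (Smooth (pullback.snd A.hom B.hom))
  haveI : GeometricallyConnected (snd A B).left := inferInstanceAs (GeometricallyConnected (pullback.snd A.hom B.hom))
  haveI : GeometricallyReduced (snd A B).left := H23.RigidGamma.geometricallyReduced_of_smooth _
  haveI : GeometricallyIntegral A.hom := AbDualBase.geometricallyIntegral_hom A
  haveI : GeometricallyIntegral (snd A B).left := inferInstanceAs (GeometricallyIntegral (pullback.snd A.hom B.hom))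
  obtain ⟨Z, ζ, hζ, -, -, huniv⟩ := SeesawX.exists_seesaw_finLocFree (f := (snd A B).left)
    (AVKLExist.isFinLocFree_of_isInvertible hE)
  have hfac : ∀ (T : Over S) (z : T ⟶ B), P (A ◁ z) (PicF.cl E) = 1 ↔ ∃ l : T.left ⟶ Z, l ≫ ζ = z.left := by
    intro T z
    rw [huniv z.left (snd A T).left (A ◁ z).left (isPullback_whisker z)]
    constructor
    · intro h
      refine ⟨Coh.structureModule T.left,
        AVKLExist.isFinLocFree_of_isInvertible (PicLoc.isInvertible_structureModule _),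
        (PicGrp.cl_eq_cl_iff _ _).1 (h.trans ?_)⟩
      exact (PicMul.pullCl_one _).symm
    · rintro ⟨M, -, ⟨e'⟩⟩
      have h1 : P (A ◁ z) (PicF.cl E) = P (snd A T) (PicF.cl M) := (PicGrp.cl_eq_cl_iff _ _).2 ⟨e'⟩
      have h2 := congrArg (P (lift (1 : T ⟶ A) (𝟙 T))) h1
      rw [P_P, lift_whiskerLeft, Category.id_comp,
        show lift (1 : T ⟶ A) z = z ≫ lift (1 : B ⟶ A) (𝟙 B) by rw [comp_lift, MonObj.comp_one, Category.comp_id],
        ← P_P, he0, map_one, P_P, lift_snd, P_id] at h2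
      rw [h1, ← h2]
      exact PicMul.pullCl_one _
  have hrange : Set.range ζ = {w | SeesawGlobal.FieldTriv (snd A B).left E w} := by
    ext w
    rw [SeesawX.mem_range_iff_factor ζ w]
    refine Iff.trans ?_ (SeesawGlobal.fieldTriv_iff_residueField (f := (snd A B).left) (L := E) w).symm
    let T : Over S := Over.mk (B.left.fromSpecResidueField w ≫ B.hom)
    let z : T ⟶ B := Over.homMk (B.left.fromSpecResidueField w)
    refine (hfac T z).symm.trans ?_
    have hsq := isPullback_whisker (A := A) z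
    let c := hsq.isoPullback
    constructor
    · intro h
      refine SeesawGlobal.triv_of_factor (b := (A ◁ z).left) c.inv (hsq.isoPullback_inv_fst) ?_
      exact (PicGrp.cl_eq_cl_iff _ _).1 h
    · intro h
      exact (PicGrp.cl_eq_cl_iff _ _).2 (SeesawGlobal.triv_of_factor c.hom (hsq.isoPullback_hom_fst) h)
  haveI := hζ
  haveI : IsClosedImmersion ζ := IsClosedImmersion.of_isPreimmersion ζ
    (hrange ▸ SeesawGlobal.isClosed_fieldTriv _ hE)
  refine ⟨Over.mk (ζ ≫ B.hom), Over.homMk ζ, inferInstanceAs (IsClosedImmersion ζ), fun T z => (hfac T z).trans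
    ⟨fun ⟨l, hl⟩ => ⟨Over.homMk l (by
      show l ≫ ζ ≫ B.hom = T.hom
      rw [← Category.assoc, hl, Over.w z]), Over.OverMorphism.ext hl⟩,
      fun ⟨y, hy⟩ => ⟨y.left, congrArg (fun m : T ⟶ B => m.left) hy⟩⟩⟩

end Locus

section BC

variable {S' : Scheme.{u}} (σ : S' ⟶ S) {A : Over S}

/-- The map from the square of the base change. -/
def d2 : AVDualBC.dn σ (Red.bc σ A ⊗ Red.bc σ A) ⟶ A ⊗ A :=
  lift (AVDualBC.dnMap σ (fst _ _) ≫ AVBidual.pr σ A) (AVDualBC.dnMap σ (snd _ _) ≫ AVBidual.pr σ A)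

theorem d2_left : (d2 σ (A := A)).left =
    (AgPol.bcXTIso σ A (Red.bc σ A)).hom ≫ PicF.XTmap A.hom (AVBidual.pr σ A) := by
  refine pullback.hom_ext ?_ ?_
  · simp [d2, AgPol.bcXTIso, PicF.XTmap, Over.pullback]
  · simp [d2, AgPol.bcXTIso, PicF.XTmap, Over.pullback]

theorem up_pr : AVDualBC.up (f := σ) (U := Red.bc σ A) (AVBidual.pr σ A) = 𝟙 _ := by
  refine Over.OverMorphism.ext (pullback.hom_ext ?_ ?_)
  · rw [AVDualBC.up_fst]
    exact (Category.id_comp _).symm
  · exact (Over.w (AVDualBC.up (f := σ) _)).trans (Over.w (𝟙 (Red.bc σ A))).symm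

/-- The base change of a morphism, through the projection. -/
theorem map_eq_up {B : Over S} (g : A ⟶ B) :
    (Over.pullback σ).map g = AVDualBC.up (f := σ) (AVBidual.pr σ A ≫ g) := by
  rw [AVDualBC.up_comp, up_pr]
  exact (Category.id_comp _).symm

theorem up_pow {U : Over S'} {X : Over S} [GrpObj X] (x : AVDualBC.dn σ U ⟶ X) (n : ℕ) :
    AVDualBC.up (f := σ) (x ^ n) = AVDualBC.up x ^ n := by
  induction n with
  | zero =>
    rw [pow_zero, pow_zero, AVDualBC.up, Functor.map_one, MonObj.comp_one]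
  | succ n ih => rw [pow_succ, pow_succ, AVDualBC.up_mul, ih]

variable [GrpObj A]

theorem up_mu : AVDualBC.up (f := σ) (d2 σ (A := A) ≫ μ[A]) = μ[Red.bc σ A] := by
  have h1 : AVDualBC.up (f := σ) (d2 σ (A := A) ≫ fst A A) = fst _ _ := by
    rw [d2, lift_fst, AVDualBC.up_pre, up_pr]
    exact Category.comp_id _
  have h2 : AVDualBC.up (f := σ) (d2 σ (A := A) ≫ snd A A) = snd _ _ := by
    rw [d2, lift_snd, AVDualBC.up_pre, up_pr]
    exact Category.comp_id _
  rw [show μ[A] = fst A A * snd A A by rw [Hom.mul_def, lift_fst_snd, Category.id_comp], MonObj.comp_mul,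
    AVDualBC.up_mul, h1, h2, Hom.mul_def, lift_fst_snd, Category.id_comp]

theorem bcCl_P (g : A ⊗ A ⟶ A) (g' : Red.bc σ A ⊗ Red.bc σ A ⟶ Red.bc σ A)
    (hg : AVDualBC.up (f := σ) (d2 σ (A := A) ≫ g) = g') (c : PicF.Cl A.left) :
    AVBidual.bcCl σ (P g c) = P g' (PicF.pullCl (pullback.fst A.hom σ) c) := by
  subst hg
  show PicF.pullCl _ (PicF.pullCl _ (PicF.pullCl g.left c)) = PicF.pullCl _ (PicF.pullCl _ c)
  simp only [PicClLib.pullCl_comp]
  rw [AVDualBC.up_fst, Over.comp_left, d2_left, Category.assoc]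

theorem bcCl_mul {B : Over S} (c c' : PicF.Cl (PicF.XT A.hom B)) :
    AVBidual.bcCl σ (c * c') = AVBidual.bcCl σ c * AVBidual.bcCl σ c' := by
  show (PicMul.pullHom _) ((PicMul.pullHom _) (c * c')) = _
  rw [map_mul, map_mul]
  rfl

/-- The homomorphism attached to the base change of a module is the base change of the classifying map of its
Mumford class. -/
theorem isLambda_iff {At : Over S} [GrpObj At] {φ : AgPol.DualMap A At}
    (hφ : AbDual.IsDualAV Scheme.fppfPrecoverage A At φ) {L : A.left.Modules} (hL : PicF.IsInvertible L)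
    {c : PicF.Cl (A ⊗ A).left} (hc : AbDual.IsPicZeroCl A.hom A c)
    (h : c * P (fst A A) (PicF.cl L) * P (snd A A) (PicF.cl L) = P μ[A] (PicF.cl L))
    (m : Red.bc σ A ⟶ Red.bc σ At) :
    AgPol.IsLambda (Red.bc σ A) (Red.bc σ At) (AgPol.bcDual σ A At φ)
      ((Scheme.Modules.pullback (pullback.fst A.hom σ)).obj L) m ↔ m = (Over.pullback σ).map (φ A c) := by
  let L' := (Scheme.Modules.pullback (pullback.fst A.hom σ)).obj L
  let U := Red.bc σ A
  have e := congrArg (AVBidual.bcCl σ) h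
  have h1 : AVDualBC.up (f := σ) (d2 σ (A := A) ≫ fst A A) = fst U U := by
    rw [d2, lift_fst, AVDualBC.up_pre, up_pr]
    exact Category.comp_id _
  have h2 : AVDualBC.up (f := σ) (d2 σ (A := A) ≫ snd A A) = snd U U := by
    rw [d2, lift_snd, AVDualBC.up_pre, up_pr]
    exact Category.comp_id _
  rw [bcCl_mul, bcCl_mul, bcCl_P σ _ _ h1, bcCl_P σ _ _ h2, bcCl_P σ _ _ (up_mu σ)] at e
  constructor
  · rintro ⟨N, hN, hiso, hm⟩
    have e' : (PicF.cl N : PicF.Cl (U ⊗ U).left) * P (fst U U) (PicF.cl L') * P (snd U U) (PicF.cl L') =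
        P μ[U] (PicF.cl L') := (PicGrp.cl_eq_cl_iff _ _).2 hiso
    have hu : IsUnit (P (fst U U) (PicF.cl L') * P (snd U U) (PicF.cl L')) :=
      PicMul.isUnit_of_isInvertibleCl (PicMul.isInvertibleCl_mul
        (PicClLib.isInvertibleCl_pullCl _ ⟨_, rfl, PicClLib.isInvertible_pullback _ hL⟩)
        (PicClLib.isInvertibleCl_pullCl _ ⟨_, rfl, PicClLib.isInvertible_pullback _ hL⟩))
    have hN' : (PicF.cl N : PicF.Cl (U ⊗ U).left) = AVBidual.bcCl σ c := by
      refine hu.mul_left_injective ?_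
      simp only [← _root_.mul_assoc]
      exact e'.trans e.symm
    rw [← hm, ← AVBidual.bcDual_bcCl σ hφ hc]
    exact congrArg _ hN'
  · rintro rfl
    obtain ⟨N, hNc, hN⟩ := AbDualBase.pz_invertible (AVBidual.pz_bcCl σ hc)
    refine ⟨N, hN, (PicGrp.cl_eq_cl_iff _ _).1 ?_, ?_⟩
    · show (PicF.cl N : PicF.Cl (U ⊗ U).left) * P (fst U U) (PicF.cl L') * P (snd U U) (PicF.cl L') =
        P μ[U] (PicF.cl L')
      rw [hNc]
      exact e
    · rw [hNc, AVBidual.bcDual_bcCl σ hφ hc]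

end BC

section Isogeny

variable {A : Over S} [GrpObj A] [IsCommMonObj A]

theorem comp_pow_id {T : Over S} (x : T ⟶ A) (m : ℕ) : x ≫ (𝟙 A ^ m) = x ^ m := by
  rw [MonObj.comp_pow, Category.comp_id]

theorem isMonHom_pow_id (m : ℕ) : IsMonHom (𝟙 A ^ m) :=
  isMonHom_of_mul _ fun y z => by rw [comp_pow_id, comp_pow_id, comp_pow_id, mul_pow]

theorem pow_id_comp {B : Over S} [GrpObj B] (f : A ⟶ B) [IsMonHom f] (m : ℕ) : (𝟙 A ^ m) ≫ f = f ^ m := by
  let q : (A ⟶ A) →* (A ⟶ B) := MonoidHom.mk' (fun x => x ≫ f) fun x y => MonObj.mul_comp x y f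
  show q (𝟙 A ^ m) = f ^ m
  rw [map_pow]
  exact congrArg (· ^ m) (Category.id_comp f)

variable [IsProper A.hom] [Smooth A.hom] [GeometricallyConnected A.hom]

/-- Multiplication by a positive integer is finite, flat, surjective and of finite presentation. -/
theorem pow_isogeny {m : ℕ} (hm : 0 < m) :
    IsFinite (𝟙 A ^ m).left ∧ Flat (𝟙 A ^ m).left ∧ Surjective (𝟙 A ^ m).left ∧
      LocallyOfFinitePresentation (𝟙 A ^ m).left := by
  haveI := isMonHom_pow_id (A := A) m
  have hsurj : Surjective (𝟙 A ^ m).left := AVDualIsog.surjective_of_points _ fun Ω _ _ p => by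
    obtain ⟨z, hz⟩ := AVDualIsog.exists_root (p ≫ A.hom) A m hm (Over.homMk p rfl)
    refine ⟨z.left, ?_⟩
    rw [← Over.comp_left, comp_pow_id, hz]
    rfl
  haveI : IsProper (𝟙 A ^ m).left := by
    haveI : IsProper ((𝟙 A ^ m).left ≫ A.hom) := by rw [Over.w (𝟙 A ^ m)]; infer_instance
    exact IsProper.of_comp (𝟙 A ^ m).left A.hom
  have hfin : IsFinite (𝟙 A ^ m).left := AVDualIsog.isFinite_of_points _ fun Ω _ _ p => by
    haveI := AVDualIsog.finite_tors (p ≫ A.hom) A m hm
    rcases isEmpty_or_nonempty {q : Spec (CommRingCat.of Ω) ⟶ A.left // q ≫ (𝟙 A ^ m).left = p} with h | ⟨⟨q₀, hq₀⟩⟩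
    · exact Finite.of_subsingleton
    let lft : {q : Spec (CommRingCat.of Ω) ⟶ A.left // q ≫ (𝟙 A ^ m).left = p} → (Over.mk (p ≫ A.hom) ⟶ A) := fun q =>
      Over.homMk q.1 ((congrArg (q.1 ≫ ·) (Over.w (𝟙 A ^ m))).symm.trans
        ((Category.assoc _ _ _).symm.trans (congrArg (· ≫ A.hom) q.2)))
    have hl : ∀ q, lft q ^ m = Over.homMk p rfl := fun q => by
      rw [← comp_pow_id]
      exact Over.OverMorphism.ext q.2
    exact Finite.of_injective (fun q => (⟨lft q * (lft ⟨q₀, hq₀⟩)⁻¹, by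
        rw [mul_pow, inv_pow, hl, hl, mul_inv_cancel]⟩ :
        {x : Over.mk (p ≫ A.hom) ⟶ A // x ^ m = 1}))
      fun q r h => Subtype.ext (show (lft q).left = (lft r).left from congrArg (fun x : _ ⟶ A => x.left)
        (mul_right_cancel (Subtype.mk.inj h : lft q * _ = lft r * _)))
  haveI := hsurj
  haveI := hfin
  have h := (S7815.result A A (𝟙 A ^ m)).2 fun s => ⟨inferInstance, inferInstance⟩
  exact ⟨hfin, h.1, hsurj, h.2.2⟩

/-- A morphism out of an abelian scheme is a homomorphism once it is one after a positive multiplication. -/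
theorem isMonHom_of_pow {B : Over S} [GrpObj B] {m : ℕ} (hm : 0 < m) (f : A ⟶ B)
    (h : IsMonHom ((𝟙 A ^ m) ≫ f)) : IsMonHom f := by
  haveI := isMonHom_pow_id (A := A) m
  obtain ⟨hfin, hfl, hsu, -⟩ := pow_isogeny (A := A) hm
  haveI := hfin; haveI := hfl; haveI := hsu
  set n : A ⟶ A := 𝟙 A ^ m with hn
  refine ⟨?_, ?_⟩
  · conv_lhs => rw [← IsMonHom.one_hom (f := n)]
    rw [Category.assoc, IsMonHom.one_hom (f := n ≫ f)]
  · haveI : Epi (n ⊗ₘ n) := by
      haveI : Epi (n ⊗ₘ n).left := by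
        have hm' : ∀ {P : MorphismProperty Scheme.{u}} [P.IsStableUnderBaseChange] [P.IsStableUnderComposition],
            P n.left → P (n ⊗ₘ n).left := fun {P} _ _ hf => by
          rw [Over.tensorHom_left]
          exact MorphismProperty.pullbackMap hf hf (Over.w n).symm (Over.w n).symm
        haveI : Flat (n ⊗ₘ n).left := hm' (P := @Flat) inferInstance
        haveI : Surjective (n ⊗ₘ n).left := hm' (P := @Surjective) inferInstance
        haveI : QuasiCompact (n ⊗ₘ n).left := hm' (P := @QuasiCompact) inferInstance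
        exact Flat.epi_of_flat_of_surjective _
      exact Over.epi_of_epi_left _
    rw [← cancel_epi (n ⊗ₘ n), ← Category.assoc, ← IsMonHom.mul_hom, Category.assoc,
      IsMonHom.mul_hom (f := n ≫ f), tensorHom_comp_tensorHom_assoc]

end Isogeny

section Mumford

variable {A At : Over S} [GrpObj A] [IsCommMonObj A] [IsProper A.hom] [Smooth A.hom] [GeometricallyConnected A.hom]
  [GrpObj At] [IsCommMonObj At] {φ : AgPol.DualMap A At}
  (hφ : AbDual.IsDualAV Scheme.fppfPrecoverage A At φ) {L : A.left.Modules} (hL : PicF.IsInvertible L)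
  (hrig : PicF.pullCl η[A].left (PicF.cl L) = 1)

include hrig in
theorem P_one (T : Over S) : P (1 : T ⟶ A) (PicF.cl L) = 1 := by
  rw [Hom.one_def, ← P_P, show P η[A] (PicF.cl L) = 1 from hrig, map_one]

include hφ hL hrig

/-- The Mumford class: primitive, symmetric, and with kernel the stabiliser. -/
theorem exists_phi : ∃ c : PicF.Cl (A ⊗ A).left, AbDual.IsPicZeroCl A.hom A c ∧
    c * P (fst A A) (PicF.cl L) * P (snd A A) (PicF.cl L) = P μ[A] (PicF.cl L) ∧
    P (lift (1 : A ⟶ A) (𝟙 A)) c = 1 ∧ IsMonHom (φ A c) ∧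
      ∀ {T : Over S} (y : T ⟶ A), y ≫ φ A c = 1 ↔ P (A ◁ y) c = 1 := by
  obtain ⟨c, hc, heq, -⟩ := AVGraphPair.exists_mumford (A := A) hL
  obtain ⟨D, hDi, hLD⟩ := exists_inv (Y := A.left) ⟨L, rfl, hL⟩
  change c * P (fst A A) (PicF.cl L) * P (snd A A) (PicF.cl L) = P μ[A] (PicF.cl L) at heq
  have hP : ∀ {U : Over S} (g : U ⟶ A), P g (PicF.cl L) * P g D = 1 := fun g => by rw [← map_mul, hLD, map_one]
  have hc' : c = P μ[A] (PicF.cl L) * (P (fst A A) D * P (snd A A) D) := by
    rw [← heq]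
    calc c = c * ((P (fst A A) (PicF.cl L) * P (fst A A) D) * (P (snd A A) (PicF.cl L) * P (snd A A) D)) := by
          rw [hP, hP, _root_.one_mul, _root_.mul_one]
      _ = _ := by simp only [_root_.mul_assoc, mul_comm, mul_left_comm]
  have hD1 : ∀ (T : Over S), P (1 : T ⟶ A) D = 1 := fun T => by
    have := hP (1 : T ⟶ A)
    rwa [P_one hrig, _root_.one_mul] at this
  let cc : ∀ {U : Over S}, (U ⟶ A) → (U ⟶ A) → PicF.Cl U.left := fun u v => P (lift u v) c
  have hcc : ∀ {U : Over S} (u v : U ⟶ A), cc u v = P (u * v) (PicF.cl L) * (P u D * P v D) := fun u v => by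
    show P (lift u v) c = _
    rw [hc', map_mul, map_mul, P_P, P_P, P_P, lift_fst, lift_snd, ← Hom.mul_def]
  have hcomm : ∀ {U : Over S} (u v : U ⟶ A), cc u v = cc v u := fun u v => by
    rw [hcc, hcc, mul_comm u v, mul_comm (P u D)]
  have hone : ∀ {U : Over S} (v : U ⟶ A), cc 1 v = 1 := fun v => by
    rw [hcc, _root_.one_mul, hD1, _root_.one_mul, hP]
  have hsec : PicF.pullCl (PicF.secT A.hom η[A].left (Over.w η[A]) A) c = 1 := by
    rw [PicZeroPrim.secT_eq]
    exact hone (𝟙 A)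
  have hprim := PicZeroPrim.primitive hφ hc hsec
  change P (lift (fst A (A ⊗ A) * (snd A (A ⊗ A) ≫ fst A A)) (snd A (A ⊗ A) ≫ snd A A)) c =
    PicF.pullCl (PicF.XTproj A.hom (A ⊗ A)) c * PicF.pullCl (PicF.XTmap A.hom (snd A A)) c at hprim
  rw [PicZeroPrim.xtMap_eq, show PicF.XTproj A.hom (A ⊗ A) = (snd A (A ⊗ A)).left from rfl] at hprim
  change P _ c = P (snd A (A ⊗ A)) c * P (A ◁ snd A A) c at hprim
  have hadd : ∀ {U : Over S} (u v w : U ⟶ A), cc (u * v) w = cc v w * cc u w := fun u v w => by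
    have := congrArg (P (lift u (lift v w))) hprim
    simp only [map_mul, P_P, comp_lift, MonObj.comp_mul, lift_fst, lift_snd, lift_snd_assoc, lift_whiskerLeft] at this
    exact this
  have hwh : ∀ {T : Over S} (y : T ⟶ A), A ◁ y = lift (fst A T) (snd A T ≫ y) := fun y => by
    apply CartesianMonoidalCategory.hom_ext <;> simp
  have hnat : ∀ {T : Over S} (y : T ⟶ A), φ T (P (A ◁ y) c) = y ≫ φ A c := fun y => by
    rw [← hφ.relPic.natural _ _ y _ hc, PicZeroPrim.xtMap_eq]
    rfl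
  have hpz : ∀ {T : Over S} (y : T ⟶ A), AbDual.IsPicZeroCl A.hom T (P (A ◁ y) c) := fun y => by
    have := AbDualBase.pz_xtMap y hc
    rwa [PicZeroPrim.xtMap_eq] at this
  refine ⟨c, hc, heq, hone (𝟙 A), isMonHom_of_mul _ fun y z => ?_, fun {T} y => ?_⟩
  · rw [← hnat, ← hnat, ← hnat, ← AbDualBase.phi_mul hφ (hpz y) (hpz z)]
    refine congrArg _ ?_
    simp only [hwh, MonObj.comp_mul]
    show cc (fst A _) (_ * _) = cc (fst A _) _ * cc (fst A _) _
    rw [hcomm, hadd, hcomm, hcomm (snd A _ ≫ y), mul_comm]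
  · rw [← hnat]
    refine ⟨fun h => ?_, fun h => by rw [h]; exact AbDualBase.phi_one hφ T⟩
    refine PicZeroPrim.eq_of_phi hφ (hpz y) (AbDualBase.pz_one T) (h.trans (AbDualBase.phi_one hφ T).symm) ?_
    rw [PicZeroPrim.secT_eq]
    show P (lift (toUnit T ≫ η[A]) (𝟙 T)) (P (A ◁ y) c) = PicF.pullCl _ 1
    rw [P_P, lift_whiskerLeft, Category.id_comp, ← Hom.one_def]
    exact (hone y).trans (PicMul.pullCl_one _).symm

end Mumford

section Main

variable {A At : Over S} [GrpObj A] [IsCommMonObj A] [IsProper A.hom] [Smooth A.hom] [GeometricallyConnected A.hom]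
  [GrpObj At] [IsCommMonObj At] {φ : AgPol.DualMap A At}
  (hφ : AbDual.IsDualAV Scheme.fppfPrecoverage A At φ) {ξ : PicF.Cl (A ⊗ At).left}
  (hξ : AbDual.IsPoincareCl A At φ ξ)
  {L : A.left.Modules} (hL : PicF.IsInvertible L) (hrig : PicF.pullCl η[A].left (PicF.cl L) = 1)

/-- The projection from the base change, as an isomorphism onto the product. -/
def iota (T : Over S) : AVDualBC.dn T.hom (Red.bc T.hom A) ≅ A ⊗ T :=
  Over.isoMk (Iso.refl _) (by
    show 𝟙 _ ≫ pullback.fst A.hom T.hom ≫ A.hom = pullback.snd A.hom T.hom ≫ T.hom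
    rw [Category.id_comp, pullback.condition])

omit [IsCommMonObj A] [IsProper A.hom] [Smooth A.hom] [GeometricallyConnected A.hom] in
theorem dnMap_iota (n : A ⟶ A) (T : Over S) :
    AVDualBC.dnMap T.hom ((Over.pullback T.hom).map n) ≫ (iota T).hom = (iota T).hom ≫ (n ▷ T) := by
  refine CartesianMonoidalCategory.hom_ext _ _ ?_ ?_
  · rw [Category.assoc, Category.assoc, whiskerRight_fst]
    refine Over.OverMorphism.ext ?_
    simp [iota, Over.pullback]
  · rw [Category.assoc, Category.assoc, whiskerRight_snd]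
    refine Over.OverMorphism.ext ?_
    simp [iota, Over.pullback]

omit [IsCommMonObj A] [IsProper A.hom] [Smooth A.hom] [GeometricallyConnected A.hom] in
theorem iota_fst (T : Over S) : (iota T).hom ≫ fst A T = AVBidual.pr T.hom A :=
  Over.OverMorphism.ext (Category.id_comp _)

omit [IsCommMonObj A] [IsProper A.hom] [Smooth A.hom] [GeometricallyConnected A.hom] [IsCommMonObj At] in
theorem graph_eq {T : Over S} (g : A ⊗ T ⟶ At) (z : Red.bc T.hom A ⟶ Red.bc T.hom At)
    (hz : z = AVDualBC.up (f := T.hom) ((iota T).hom ≫ g)) :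
    PicF.pullCl (pullback.lift (𝟙 (Red.bc T.hom A).left) z.left
        ((Category.id_comp (Red.bc T.hom A).hom).trans (Over.w z).symm))
      (PicF.pullCl ((AgPol.bcXTIso T.hom A (Red.bc T.hom At)).hom ≫
        PicF.XTmap A.hom (Over.homMk (pullback.fst At.hom T.hom) pullback.condition)) ξ) =
      P (lift (fst A T) g) ξ := by
  rw [PicClLib.pullCl_comp]
  refine congrArg (PicF.pullCl · ξ) (pullback.hom_ext ?_ ?_)
  · simp [AgPol.bcXTIso, PicF.XTmap]
    exact Category.id_comp _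
  · simp [AgPol.bcXTIso, PicF.XTmap, hz, AVDualBC.up_fst, iota]

include hξ in
theorem xi_axis {T : Over S} (q : T ⟶ At) : P (lift (1 : T ⟶ A) q) ξ = 1 := by
  have h := hξ.2.2
  rw [PicZeroPrim.secT_eq] at h
  rw [show lift (1 : T ⟶ A) q = q ≫ lift (toUnit At ≫ η[A]) (𝟙 At) by
    rw [comp_lift, Category.comp_id, comp_toUnit_assoc, Hom.one_def], ← P_P,
    show P (lift (toUnit At ≫ η[A]) (𝟙 At)) ξ = 1 from h, map_one]

include hφ hξ hL hrig

/-- **The closed subscheme of the base over which the module is the pullback of the Poincaré class along the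
graph of a multiple of a homomorphism.** -/
theorem exists_locus [IsLocallyNoetherian S] {k : ℕ} (hk : 1 ≤ k) :
    ∃ (S₀ : Scheme.{u}) (i₀ : S₀ ⟶ S), IsClosedImmersion i₀ ∧
      ∀ T : Over S,
        ((∃ h : T.left ⟶ S₀, h ≫ i₀ = T.hom) ↔
          ∃ lam : Red.bc T.hom A ⟶ Red.bc T.hom At, IsMonHom lam ∧
            AgPol.IsLambda (Red.bc T.hom A) (Red.bc T.hom At) (AgPol.bcDual T.hom A At φ)
              ((Scheme.Modules.pullback (pullback.fst A.hom T.hom)).obj L) (lam ^ (2 * k)) ∧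
            PicF.cl ((Scheme.Modules.pullback (pullback.fst A.hom T.hom)).obj L) =
              PicF.pullCl (pullback.lift (𝟙 (Red.bc T.hom A).left) (lam ^ k).left
                ((Category.id_comp (Red.bc T.hom A).hom).trans (Over.w (lam ^ k)).symm))
              (PicF.pullCl ((AgPol.bcXTIso T.hom A (Red.bc T.hom At)).hom ≫
                PicF.XTmap A.hom (Over.homMk (pullback.fst At.hom T.hom) pullback.condition)) ξ)) := by
  obtain ⟨c, hc, heq, hc1, hlh, hker⟩ := exists_phi hφ hL hrig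
  haveI := hlh
  haveI : IsLocallyNoetherian A.left := LocallyOfFiniteType.isLocallyNoetherian A.hom
  obtain ⟨Z, iZ, hZc, hZ⟩ := exists_closed_locus (AbDualBase.pz_invertible hc) hc1
  haveI := hZc
  have hm : 0 < 2 * k := by omega
  obtain ⟨hnfin, hnfl, hnsu, hnfp⟩ := pow_isogeny (A := A) hm
  haveI := hnfin; haveI := hnfl; haveI := hnsu; haveI := hnfp
  haveI := isMonHom_pow_id (A := A) (2 * k)
  set n : A ⟶ A := 𝟙 A ^ (2 * k) with hn
  set Φ : A ⟶ At := φ A c with hΦ
  obtain ⟨N, _, iN, hiN, -, -, hker'⟩ := GrpSchLib.exists_kernel n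
  haveI := hiN
  have hsq : IsPullback iN.left N.hom n.left (η[A]).left := hker'.map (Over.forget _)
  haveI : IsFinite N.hom := MorphismProperty.of_isPullback (P := @IsFinite) hsq inferInstance
  haveI : Flat N.hom := MorphismProperty.of_isPullback (P := @Flat) hsq inferInstance
  haveI : LocallyOfFinitePresentation N.hom :=
    MorphismProperty.of_isPullback (P := @LocallyOfFinitePresentation) hsq inferInstance
  obtain ⟨S₁, c₁, hc₁, -, hS₁⟩ := TransLib.exists_closed_universal_finite (W := N) (X := 𝟙_ (Over S))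
    (fst N _ ≫ iN) iZ
  haveI := hc₁
  have hkills : ∀ T : Over S, Nonempty (T ⟶ S₁) ↔ fst N T ≫ iN ≫ Φ = 1 := fun T => by
    rw [← Category.assoc, hker, hZ]
    have hx := hS₁ (toUnit T)
    rw [← Category.assoc, whiskerLeft_fst] at hx
    refine Iff.trans ?_ hx
    exact ⟨fun ⟨z⟩ => ⟨z, toUnit_unique _ _⟩, fun ⟨z, _⟩ => ⟨z⟩⟩
  have hcov : ∀ T : Over S, FpqcDescLib.Covers (n ▷ T).left := fun T => by
    have hP : ∀ {Q : MorphismProperty Scheme.{u}} [Q.IsStableUnderBaseChange] [Q.IsStableUnderComposition]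
        [Q.ContainsIdentities], Q n.left → Q (n ▷ T).left := fun {Q} _ _ _ hQ => by
      rw [← tensorHom_id, Over.tensorHom_left]
      exact MorphismProperty.pullbackMap hQ (Q.id_mem _) (Over.w n).symm (Category.id_comp _).symm
    haveI : Flat (n ▷ T).left := hP (Q := @Flat) hnfl
    haveI : Surjective (n ▷ T).left := hP (Q := @Surjective) hnsu
    haveI : QuasiCompact (n ▷ T).left := hP (Q := @QuasiCompact) inferInstance
    exact GrpSchLib.LiftLaw.covers_of_flat_qc_or_lfp (n ▷ T).left (Or.inl inferInstance)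
  have hdesc : ∀ T : Over S, (∃ f : A ⊗ T ⟶ At, (n ▷ T) ≫ f = fst A T ≫ Φ) ↔ fst N T ≫ iN ≫ Φ = 1 := by
    intro T
    constructor
    · rintro ⟨f, hf⟩
      let y : N ⊗ T ⟶ A ⊗ T := lift (fst N T ≫ iN) (snd N T)
      let y₀ : N ⊗ T ⟶ A ⊗ T := lift 1 (snd N T)
      have h1 : y ≫ (n ▷ T) = y₀ ≫ (n ▷ T) := by
        apply CartesianMonoidalCategory.hom_ext
        · simp only [Category.assoc, whiskerRight_fst, y, y₀, lift_fst_assoc, hker'.w, MonObj.one_comp]
          rw [← Category.assoc, toUnit_unique (fst N T ≫ toUnit N) (toUnit _)]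
          rfl
        · simp [y, y₀]
      have h2 := congrArg (· ≫ f) h1
      simp only [Category.assoc, hf, y, y₀, lift_fst_assoc, MonObj.one_comp] at h2
      exact h2
    · intro hkill
      refine ((hcov T).over_desc (fst A T ≫ Φ) fun U a b hab => ?_).exists
      have h1 : (a ≫ fst A T) ≫ n = (b ≫ fst A T) ≫ n := by
        have := congrArg (· ≫ fst A T) hab
        simpa using this
      have h2 : a ≫ snd A T = b ≫ snd A T := by
        have := congrArg (· ≫ snd A T) hab
        simpa using this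
      have h3 : (a ≫ fst A T * (b ≫ fst A T)⁻¹) ≫ n = toUnit U ≫ η[A] := by
        rw [MonObj.mul_comp, GrpObj.inv_comp, h1, mul_inv_cancel]
        rfl
      have h4 : (a ≫ fst A T * (b ≫ fst A T)⁻¹) ≫ Φ = 1 := by
        rw [← hker'.lift_fst _ (toUnit U) h3, Category.assoc,
          ← lift_fst (hker'.lift _ (toUnit U) h3) (a ≫ snd A T), Category.assoc, hkill, MonObj.comp_one]
      rw [MonObj.mul_comp, GrpObj.inv_comp, mul_inv_eq_one] at h4
      simpa only [Category.assoc] using h4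
  haveI : IsLocallyNoetherian S₁.left := by
    haveI : LocallyOfFiniteType S₁.hom := by
      rw [← Over.w c₁]
      haveI : IsClosedImmersion (𝟙_ (Over S)).hom := inferInstanceAs (IsClosedImmersion (𝟙 S))
      infer_instance
    exact LocallyOfFiniteType.isLocallyNoetherian S₁.hom
  obtain ⟨f₁, hf₁⟩ := (hdesc S₁).2 ((hkills S₁).1 ⟨𝟙 _⟩)
  have hξi : PicF.IsInvertibleCl ξ := AbDualBase.pz_invertible hξ.1
  obtain ⟨D', hD'i, hD'⟩ := exists_inv (PicClLib.isInvertibleCl_pullCl (lift (fst A S₁) (f₁ ^ k)).left hξi)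
  let d : PicF.Cl (A ⊗ S₁).left := P (fst A S₁) (PicF.cl L) * D'
  have hd : ∀ {T : Over S} (x : T ⟶ S₁),
      P (A ◁ x) d = 1 ↔ P (fst A T) (PicF.cl L) = P (lift (fst A T) (((A ◁ x) ≫ f₁) ^ k)) ξ := fun {T} x => by
    have h' : P (lift (fst A T) (((A ◁ x) ≫ f₁) ^ k)) ξ * P (A ◁ x) D' = 1 := by
      have h0 := congrArg (P (A ◁ x)) (show P (lift (fst A S₁) (f₁ ^ k)) ξ * D' = 1 from hD')
      rwa [map_mul, map_one, P_P, comp_lift, whiskerLeft_fst, MonObj.comp_pow] at h0
    show P (A ◁ x) (P (fst A S₁) (PicF.cl L) * D') = 1 ↔ _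
    rw [map_mul, P_P, whiskerLeft_fst]
    refine ⟨fun h => ?_, fun h => by rw [h, h']⟩
    exact (left_inv_eq_right_inv h ((mul_comm _ _).trans h'))
  have hd1 : P (lift (1 : S₁ ⟶ A) (𝟙 S₁)) d = 1 := by
    have h' := congrArg (P (lift (1 : S₁ ⟶ A) (𝟙 S₁))) (show P (lift (fst A S₁) (f₁ ^ k)) ξ * D' = 1 from hD')
    rw [map_mul, map_one, P_P, comp_lift, lift_fst, xi_axis hξ, _root_.one_mul] at h'
    show P _ (P (fst A S₁) (PicF.cl L) * D') = 1
    rw [map_mul, P_P, lift_fst, P_one hrig, h', _root_.one_mul]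
  obtain ⟨S₂, j, hj, hS₂⟩ := exists_closed_locus
    (show PicF.IsInvertibleCl d from
      PicMul.isInvertibleCl_mul (PicClLib.isInvertibleCl_pullCl _ ⟨L, rfl, hL⟩) hD'i) hd1
  haveI := hj
  refine ⟨S₂.left, S₂.hom, ?_, fun T => ?_⟩
  · haveI : IsClosedImmersion S₁.hom := by
      rw [← Over.w c₁]
      haveI : IsClosedImmersion (𝟙_ (Over S)).hom := inferInstanceAs (IsClosedImmersion (𝟙 S))
      infer_instance
    rw [← Over.w j]
    infer_instance
  have hiff : (∃ h : T.left ⟶ S₂.left, h ≫ S₂.hom = T.hom) ↔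
      ∃ f : A ⊗ T ⟶ At, (n ▷ T) ≫ f = fst A T ≫ Φ ∧ P (fst A T) (PicF.cl L) = P (lift (fst A T) (f ^ k)) ξ := by
    haveI : Epi (n ▷ T) := (hcov T).over_epi
    have hnat : ∀ x : T ⟶ S₁, (n ▷ T) ≫ (A ◁ x) ≫ f₁ = fst A T ≫ Φ := fun x => by
      rw [← whisker_exchange_assoc, hf₁, whiskerLeft_fst_assoc]
    constructor
    · rintro ⟨h, hh⟩
      let y : T ⟶ S₂ := Over.homMk h hh
      exact ⟨(A ◁ (y ≫ j)) ≫ f₁, hnat _, (hd (y ≫ j)).1 ((hS₂ T (y ≫ j)).2 ⟨y, rfl⟩)⟩
    · rintro ⟨f, hf, hf'⟩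
      obtain ⟨x⟩ := (hkills T).2 ((hdesc T).1 ⟨f, hf⟩)
      have e : (A ◁ x) ≫ f₁ = f := (cancel_epi (n ▷ T)).1 ((hnat x).trans hf.symm)
      obtain ⟨y, -⟩ := (hS₂ T x).1 ((hd x).2 (by rw [e]; exact hf'))
      exact ⟨y.left, Over.w y⟩
  rw [hiff]
  haveI : IsProper (Red.bc T.hom A).hom := inferInstanceAs (IsProper (pullback.snd A.hom T.hom))
  haveI : Smooth (Red.bc T.hom A).hom := inferInstanceAs (Smooth (pullback.snd A.hom T.hom))
  haveI : GeometricallyConnected (Red.bc T.hom A).hom :=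
    inferInstanceAs (GeometricallyConnected (pullback.snd A.hom T.hom))
  have hmap : (Over.pullback T.hom).map n = 𝟙 (Red.bc T.hom A) ^ (2 * k) := by
    rw [hn, map_pow_bc, CategoryTheory.Functor.map_id]
  have hpre : ∀ g : A ⊗ T ⟶ At, (Over.pullback T.hom).map n ≫ AVDualBC.up ((iota T).hom ≫ g) =
      AVDualBC.up (f := T.hom) ((iota T).hom ≫ (n ▷ T) ≫ g) := fun g => by
    rw [← AVDualBC.up_pre, ← Category.assoc, dnMap_iota, Category.assoc]
  have hPhi : (Over.pullback T.hom).map Φ = AVDualBC.up (f := T.hom) ((iota T).hom ≫ fst A T ≫ Φ) := by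
    rw [map_eq_up, ← Category.assoc, iota_fst]
  have hgraph : ∀ (g : A ⊗ T ⟶ At) (z : Red.bc T.hom A ⟶ Red.bc T.hom At),
      z = AVDualBC.up (f := T.hom) ((iota T).hom ≫ g) →
      AVDualBC.up (f := T.hom) ((iota T).hom ≫ g ^ k) = z ^ k := fun g z hz => by
    rw [hz, MonObj.comp_pow, up_pow]
  constructor
  · rintro ⟨f, hf, hf'⟩
    set lam := AVDualBC.up (f := T.hom) ((iota T).hom ≫ f) with hlam
    have h1 : (𝟙 (Red.bc T.hom A) ^ (2 * k)) ≫ lam = (Over.pullback T.hom).map Φ := by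
      rw [← hmap, hpre, hf, hPhi]
    haveI : IsMonHom lam := isMonHom_of_pow hm lam (h1 ▸ inferInstance)
    refine ⟨lam, inferInstance, (isLambda_iff T.hom hφ hL hc heq _).2 ?_, ?_⟩
    · rw [← pow_id_comp, h1]
    · rw [graph_eq (f ^ k) _ (hgraph f lam hlam).symm]
      exact hf'
  · rintro ⟨lam, hlam, hlamb, hgr⟩
    obtain ⟨x, rfl⟩ := AVDualBC.up_surjective lam
    obtain ⟨g, rfl⟩ : ∃ g : A ⊗ T ⟶ At, (iota T).hom ≫ g = x := ⟨(iota T).inv ≫ x, Iso.hom_inv_id_assoc _ _⟩
    haveI := hlam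
    refine ⟨g, ?_, ?_⟩
    · have h1 := (isLambda_iff T.hom hφ hL hc heq _).1 hlamb
      rw [← pow_id_comp, ← hmap, hpre] at h1
      exact (cancel_epi (iota T).hom).1 (AVDualBC.up_injective (h1.trans hPhi))
    · rw [graph_eq (g ^ k) _ (hgraph g _ rfl).symm] at hgr
      exact hgr

end Main

end Groth.Agent.AVSchemeLam
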