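import Groth.Agent.Lib.AVEmbed
import Groth.Agent.S3747
import Groth.Agent.S3769
import Groth.Agent.S3789
import Groth.Agent.S3799
import Groth.Agent.S12640
import Groth.Agent.H28.Bezout.Pair
import Groth.Agent.H28.PushEngine
import Groth.Agent.SeesawX.PnSpec
import Groth.Agent.KRegLib.Closed
import Groth.Agent.KRegLib.Mor
import Groth.Agent.KZ.QuasiProj
import Groth.Agent.H28.PushTwo
import Mathlib.Algebra.Polynomial.Taylor

/-! The self-intersection of an abelian variety in projective space of twice its dimension. -/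

set_option autoImplicit false
set_option linter.style.haveILetI false
set_option linter.unusedSectionVars false
set_option backward.isDefEq.respectTransparency false
set_option backward.isDefEq.respectTransparency.types false
set_option maxHeartbeats 1000000

universe u

open CategoryTheory CategoryTheory.Limits AlgebraicGeometry MonoidalCategory CartesianMonoidalCategory MonObj
attribute [local instance] HasDerivedCategory.standard

noncomputable section

namespace Groth.Agent.AVEmbed

open Groth.Agent Finset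

section Comb

theorem altSum_self (N : ℕ) (a : ℤ) : altSum N N a = (-1) ^ N * (N.factorial : ℤ) := by
  rw [altSum_eq, fwdDiff_iter_eq_factorial]
  simp

/-- The alternating power sums of a convolution with binomial coefficients. -/
theorem alt_sum_conv_eq (r G m : ℕ) (q : ℕ → ℤ) :
    ∑ k ∈ range (r + G + 1), (-1 : ℤ) ^ k * (k : ℤ) ^ m *
      (∑ i ∈ (range (r + 1)).filter (· ≤ k), q i * (G.choose (k - i) : ℤ)) =
      ∑ i ∈ range (r + 1), (-1) ^ i * q i * altSum G m i := by
  simp only [Finset.mul_sum, Finset.sum_filter, mul_ite, mul_zero]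
  rw [Finset.sum_comm]
  refine sum_congr rfl fun i hi => ?_
  have hi' : i ≤ r := Nat.lt_succ_iff.1 (mem_range.1 hi)
  rw [← Finset.sum_filter, altSum, Finset.mul_sum]
  refine (Finset.sum_bij_ne_zero (fun j _ _ => i + j) (fun j hj _ => ?_) (fun j _ _ j' _ _ h => by simpa using h)
    (fun k hk hk0 => ?_) fun j _ _ => ?_).symm
  · have := mem_range.1 hj
    exact mem_filter.2 ⟨mem_range.2 (by omega), Nat.le_add_right _ _⟩
  · obtain ⟨hk1, hk2⟩ := mem_filter.1 hk
    have hc : k - i ≤ G := by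
      by_contra hc
      exact hk0 (by rw [Nat.choose_eq_zero_of_lt (by omega)]; simp)
    refine ⟨k - i, mem_range.2 (by omega), ?_, by omega⟩
    intro h0
    apply hk0
    rw [show (-1 : ℤ) ^ k = (-1) ^ i * (-1) ^ (k - i) by rw [← pow_add]; congr 1; omega,
      show (k : ℤ) = (i : ℤ) + ((k - i : ℕ) : ℤ) by omega, ← h0]
    ring
  · rw [Nat.add_sub_cancel_left, pow_add]
    push_cast
    ring

theorem natDegree_C_sub_X (a : ℤ) : (Polynomial.C a - Polynomial.X).natDegree = 1 :=
  Polynomial.natDegree_eq_of_degree_eq_some <| by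
    rw [Polynomial.degree_sub_eq_right_of_degree_lt (lt_of_le_of_lt Polynomial.degree_C_le (by simp)), Polynomial.degree_X]
    rfl

/-- `n!` times the binomial coefficient `(n - t).choose n` as a polynomial in `t`. -/
def negChoose (n : ℕ) : Polynomial ℤ := (descPochhammer ℤ n).comp (Polynomial.C (n : ℤ) - Polynomial.X)

theorem negChoose_eval (n : ℕ) (t : ℤ) :
    (negChoose n).eval t = (n.factorial : ℤ) * Ring.choose ((n : ℤ) - t) n := by
  rw [negChoose, Polynomial.eval_comp, Polynomial.eval_sub, Polynomial.eval_C, Polynomial.eval_X,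
    Polynomial.eval_eq_smeval, Ring.descPochhammer_eq_factorial_smul_choose, nsmul_eq_mul]

theorem negChoose_natDegree (n : ℕ) : (negChoose n).natDegree = n := by
  rw [negChoose, Polynomial.natDegree_comp, descPochhammer_natDegree, natDegree_C_sub_X, _root_.mul_one]

theorem negChoose_coeff (n : ℕ) : (negChoose n).coeff n = (-1) ^ n := by
  have h1 := natDegree_C_sub_X (n : ℤ)
  have h := Polynomial.leadingCoeff_comp (p := descPochhammer ℤ n) (q := Polynomial.C (n : ℤ) - Polynomial.X)
    (by rw [h1]; exact one_ne_zero)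
  rw [(monic_descPochhammer ℤ n).leadingCoeff, descPochhammer_natDegree, _root_.one_mul] at h
  have h2 : (Polynomial.C (n : ℤ) - Polynomial.X).leadingCoeff = -1 := by
    rw [Polynomial.leadingCoeff, h1]
    simp
  rw [h2] at h
  rw [← h, Polynomial.leadingCoeff, show ((descPochhammer ℤ n).comp (Polynomial.C (n : ℤ) - Polynomial.X)).natDegree = n
    from negChoose_natDegree n]
  rfl

/-- The moments of a combination of twists whose Hilbert polynomial is a monomial. -/
theorem moment_eq {I : Type*} (s : Finset I) (d : I → ℤ) (e : I → ℕ) (g : ℕ) (c : ℤ)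
    (h : ∀ m : ℕ, ∑ i ∈ s, d i * Ring.choose (((g + g : ℕ) : ℤ) - ((e i + m : ℕ) : ℤ)) (g + g) = c * (m : ℤ) ^ g) :
    ∑ i ∈ s, d i * (e i : ℤ) ^ g = (g.factorial : ℤ) ^ 2 * c := by
  have hid : ∑ i ∈ s, Polynomial.C (d i) * Polynomial.taylor (e i : ℤ) (negChoose (g + g)) =
      Polynomial.C (((g + g).factorial : ℤ) * c) * Polynomial.X ^ g := by
    refine Polynomial.eq_of_infinite_eval_eq _ _ ((Set.infinite_range_of_injective Nat.cast_injective).mono ?_)
    rintro _ ⟨m, rfl⟩
    simp only [Set.mem_ofPred_eq, Polynomial.eval_finsetSum, Polynomial.eval_mul, Polynomial.eval_C, Polynomial.eval_pow,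
      Polynomial.eval_X, Polynomial.taylor_eval, negChoose_eval]
    rw [mul_assoc ((g + g).factorial : ℤ), ← h m, Finset.mul_sum]
    refine sum_congr rfl fun i _ => ?_
    rw [show ((m : ℤ) + (e i : ℤ)) = ((e i + m : ℕ) : ℤ) by push_cast; ring]
    ring
  have key : ∀ a : ℕ, a ≤ g + g → (if g + g - a = g then ((g + g).factorial : ℤ) * c else 0) =
      ∑ k ∈ range (a + 1), (((k + (g + g - a)).choose (g + g - a) : ℕ) : ℤ) *
        (negChoose (g + g)).coeff (k + (g + g - a)) * ∑ i ∈ s, d i * (e i : ℤ) ^ k := by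
    intro a ha
    have h1 := congrArg (fun p => Polynomial.coeff p (g + g - a)) hid
    simp only [Polynomial.finsetSum_coeff, Polynomial.coeff_C_mul, Polynomial.taylor_coeff, Polynomial.coeff_X_pow,
      mul_ite, _root_.mul_one, mul_zero] at h1
    rw [← h1]
    simp only [Finset.mul_sum]
    rw [Finset.sum_comm]
    refine sum_congr rfl fun i _ => ?_
    rw [Polynomial.eval_eq_sum_range' (n := a + 1)
      (lt_of_le_of_lt (Polynomial.natDegree_hasseDeriv_le _ _) (by rw [negChoose_natDegree]; omega)), Finset.mul_sum]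
    refine sum_congr rfl fun k _ => ?_
    rw [Polynomial.hasseDeriv_coeff]
    ring
  have hzero : ∀ a, a < g → ∑ i ∈ s, d i * (e i : ℤ) ^ a = 0 := by
    intro a
    induction a using Nat.strong_induction_on with
    | _ a ih =>
      intro ha
      have h1 := key a (by omega)
      rw [if_neg (by omega), Finset.sum_range_succ,
        sum_eq_zero fun k hk => by rw [ih k (mem_range.1 hk) (by have := mem_range.1 hk; omega), mul_zero], zero_add,
        show a + (g + g - a) = g + g by omega, negChoose_coeff] at h1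
      rcases mul_eq_zero.1 h1.symm with h2 | h2
      · rcases mul_eq_zero.1 h2 with h3 | h3
        · exact absurd (by exact_mod_cast h3 : (g + g).choose (g + g - a) = 0) (Nat.choose_pos (by omega)).ne'
        · exact absurd h3 (pow_ne_zero _ (by norm_num))
      · exact h2
  have h1 := key g (by omega)
  rw [if_pos (by omega), Finset.sum_range_succ,
    sum_eq_zero fun k hk => by rw [hzero k (mem_range.1 hk), mul_zero], zero_add,
    show g + (g + g - g) = g + g by omega, negChoose_coeff, show g + g - g = g by omega] at h1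
  refine mul_left_cancel₀ (show (((g + g).choose g : ℕ) : ℤ) ≠ 0 from
    by exact_mod_cast (Nat.choose_pos (Nat.le_add_right g g)).ne') ?_
  have hc : (((g + g).choose g : ℕ) : ℤ) * ((g.factorial : ℤ) * (g.factorial : ℤ)) = ((g + g).factorial : ℤ) := by
    rw [← _root_.mul_assoc]
    exact_mod_cast (Nat.add_choose_mul_factorial_mul_factorial g g)
  rw [← two_mul, pow_mul, neg_one_sq, one_pow, _root_.mul_one, two_mul] at h1
  linear_combination -h1 - c * hc

end Comb

theorem euler_twist_neg {k : Type u} [Field k] {n : ℕ} (hn : 0 < n) (a : ℕ) :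
    Curv2.euler k (CohB1.ProjSpace n k) (Twist.twistProjSpace n k (-(a : ℤ))) = Ring.choose ((n : ℤ) - a) n := by
  haveI := H28.Bezout.isLN (k := k) (n := n)
  haveI : (CohB1.ProjSpace n k).IsSeparated := AmpleVan.isSeparated_of_proper (A := k)
  haveI : AlgebraicGeometry.IsNoetherian (CohB1.ProjSpace n k) := CurveCohLib.isNoetherian_of_proper (k := k)
  have h := S12640.euler_twist k n (-(a : ℤ)) (fun h0 => by omega)
  rw [show -(a : ℤ) + n = (n : ℤ) - a by ring] at h
  rw [← h]
  refine Euler.euler_eq_sum k _ (n + 1) fun i hi => ?_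
  refine Snapper.subsingleton_HH_of_dim_lt (n + 1) ⊤ ?_ _ (H28.Bezout.coh_tw _).1 (fun _ _ => trivial) i hi
  exact lt_of_le_of_lt ((Topology.IsInducing.subtypeVal).topologicalKrullDim_le.trans H28.Bezout.dim_le)
    (by exact_mod_cast Nat.lt_succ_self n)

theorem rank_zero_of_isZero {X : Scheme.{u}} {M : X.Modules} (h : IsZero M) : FlatMod.IsFinLocFreeOfRank 0 M :=
  fun _ => ⟨⊤, trivial, ⟨((Scheme.Modules.restrictFunctor (⊤ : X.Opens).ι).map_isZero h).iso
    ((IsZero.iff_id_eq_zero _).2 (Sigma.hom_ext _ _ fun j => j.elim0))⟩⟩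

/-- The models of the vector bundles on a point are multiples of one. -/
theorem exists_natCast_point {k : Type u} [Field k] {K : Type*} [CommRing K] [LambdaRing.LambdaOps K]
    {P : LambdaRing.PosStructure K} {φ : SGA6.Kvb (Spec (CommRingCat.of k)) →+ K}
    (hK : KRR.IsModel (Spec (CommRingCat.of k)) K P φ) (z : K) : ∃ m : ℤ, z = (m : K) := by
  obtain ⟨z, rfl⟩ := hK.bijective.2 z
  let H : AddSubgroup (SGA6.Kvb (Spec (CommRingCat.of k))) :=
    AddSubgroup.zmultiples (KRR.cl (Spec (CommRingCat.of k)) (Coh.structureModule _))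
  have hmk : QuotientAddGroup.mk' H = 0 := KZ.K0sub_hom_ext _ fun G hG => by
    obtain ⟨r, ⟨e⟩⟩ := H28.KPn.exists_iso_free k (H28.PushLocFree.isCoh_of_isFinLocFree hG)
    show QuotientAddGroup.mk' H (KRR.cl (Spec (CommRingCat.of k)) G) = 0
    rw [kcl_iso e.symm hG, kcl_free, map_nsmul, QuotientAddGroup.mk'_apply, (QuotientAddGroup.eq_zero_iff _).2
      (AddSubgroup.mem_zmultiples _), nsmul_zero]
  obtain ⟨m, rfl⟩ := AddSubgroup.mem_zmultiples_iff.1 ((QuotientAddGroup.eq_zero_iff z).1 (DFunLike.congr_fun hmk z))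
  exact ⟨m, by rw [map_zsmul, hK.map_one, zsmul_one]⟩

section Geom

variable {k : Type u} [Field k] {X : Over (Spec (CommRingCat.of k))} [GrpObj X] [IsProper X.hom]
  [GeometricallyIntegral X.hom]

open H28.KvbLam in
/-- An abelian variety of dimension `g` in projective `2g`-space: the self-intersection relation. -/
theorem exists_conv_sq {g : ℕ} (hg : topologicalKrullDim ↥X.left = g) (h0 : 0 < g) {n : ℕ} (hn : n = g + g)
    (f : X.left ⟶ CohB1.ProjSpace n k) [IsClosedImmersion f] (hf : f ≫ CohB1.ProjSpace.toSpec n k = X.hom) :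
    ∃ (c : ℤ) (q : ℕ → ℤ), c ≠ 0 ∧
      (∀ j : ℕ, ((n + 1).choose j : ℤ) * ((j : ℤ) ^ g * c) =
        ∑ i ∈ (range (g + 1)).filter (· ≤ j), q i * ((g + 1).choose (j - i) : ℤ)) ∧
      ∑ i ∈ range (g + 1), (-1 : ℤ) ^ i * q i = ((g.factorial : ℤ) * c) ^ 2 := by
  letI : X.left.Over (Spec (CommRingCat.of k)) := ⟨X.hom⟩
  haveI : IsProper (X.left ↘ Spec (CommRingCat.of k)) := inferInstanceAs (IsProper X.hom)
  haveI : IsIntegral X.left := GeometricallyIntegral.isIntegral_of_subsingleton X.hom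
  haveI : AlgebraicGeometry.IsNoetherian X.left := CurveCohLib.isNoetherian_of_proper (k := k) (X := X.left)
  haveI : Smooth X.hom := S7795.result X
  haveI : SmoothOfRelativeDimension g X.hom := CurveFin.smoothOfRelativeDimension_of_dim X.hom hg
  let Pn := CohB1.ProjSpace n k
  let π : Pn ⟶ Spec (CommRingCat.of k) := CohB1.ProjSpace.toSpec n k
  haveI : Smooth π := LefPenLib.smooth_toSpec n k
  haveI : IsProper π := PnCoh.Chow.isProper_toSpec n k
  haveI : IsIntegral Pn := H23.PnChart.isIntegral_projSpace n k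
  letI : Pn.Over (Spec (CommRingCat.of k)) := ⟨π⟩
  haveI : IsProper (Pn ↘ Spec (CommRingCat.of k)) := inferInstanceAs (IsProper π)
  haveI : AlgebraicGeometry.IsNoetherian Pn := CurveCohLib.isNoetherian_of_proper (k := k) (X := Pn)
  obtain ⟨KX, _, _, PX, φX, hKX⟩ := S3796.result X.left
  obtain ⟨KP, _, _, PP, φP, hKP⟩ := S3796.result Pn
  obtain ⟨KS, _, _, PS, φS, hKS⟩ := S3796.result (Spec (CommRingCat.of k))
  obtain ⟨G, hG, -⟩ := H28.PullVB.existsUnique_isPull f φX φP hKP.bijective
  obtain ⟨gπ, hgπ, -⟩ := H28.PullVB.existsUnique_isPull π φP φS hKS.bijective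
  obtain ⟨q₀, hq⟩ := H28.PBField.exists_isProjBundle n k
  obtain ⟨ΩP, dP, hdP⟩ := Synt29.OmegaExists.exists_isUniversal π
  have hSpec : CohB1.IsAmple (Coh.structureModule (Spec (CommRingCat.of k))) :=
    S4373.result _ _ CurveDeg.isInvertible_structureModule
  obtain ⟨eΩ⟩ := S8671.result (Coh.structureModule (Spec (CommRingCat.of k))) hSpec n π
    (Twist.twistProjSpace n k 1) q₀ hq ΩP dP hdP
  let O1 := Twist.twistProjSpace n k 1
  have hO1 : PicF.IsInvertible O1 := H28.KPn.inv_tw k n 1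
  have hlO1 : FlatMod.IsFinLocFree O1 := H23.PullPush.isFinLocFree_of_isInvertible hO1
  let F := (Scheme.Modules.pullback π).obj (FlatMod.freeMod (Spec (CommRingCat.of k)) (n + 1))
  have hlF : FlatMod.IsFinLocFree F := H28.KvbPull.lf_pull π (H28.KvbAmple.lf_free _)
  haveI : Epi q₀ := hq.2
  have hlker : FlatMod.IsFinLocFree (kernel q₀) := KFlatLib.isFinLocFree_kernel q₀ hlF hlO1
  have hS : (ShortComplex.mk (kernel.ι q₀) q₀ (kernel.condition q₀)).ShortExact :=
    ShortComplex.ShortExact.mk' (ShortComplex.exact_of_f_is_kernel _ (kernelIsKernel q₀)) inferInstance inferInstance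
  have hgπn : ∀ m : ℤ, gπ (m : KS) = (m : KP) := fun m => _root_.map_intCast (H28.KvbPull.ringHom hKP hKS hgπ) m
  have hclF : φP (KRR.cl Pn F) = ((n + 1 : ℕ) : KP) := by
    rw [← hgπ _ (H28.KvbAmple.lf_free _), kcl_free, map_nsmul, hKS.map_one, nsmul_one]
    exact_mod_cast hgπn ((n + 1 : ℕ) : ℤ)
  have hlΩ : FlatMod.IsFinLocFree ΩP := S5018.result π ((S1488.result π).1 inferInstance).2 ΩP dP hdP
  have hP1 : φP (KRR.cl Pn ΩP) * φP (KRR.cl Pn O1) + φP (KRR.cl Pn O1) = ((n + 1 : ℕ) : KP) := by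
    rw [hKP.map_mul _ _ hlΩ hlO1, kcl_iso eΩ (lf_tens hlΩ hlO1), ← hclF, ← map_add]
    exact congrArg φP (KZ.clSub_ses (KRR.vbP Pn) hS hlker hlF hlO1).symm
  -- the powers of `O(-1)`
  let z : KP := φP (KRR.cl Pn (Twist.twistProjSpace n k (-1)))
  have hlt : ∀ d, FlatMod.IsFinLocFree (Twist.twistProjSpace n k d) := fun d =>
    H23.PullPush.isFinLocFree_of_isInvertible (H28.KPn.inv_tw k n d)
  have htw : ∀ a b : ℤ, φP (KRR.cl Pn (Twist.twistProjSpace n k a)) * φP (KRR.cl Pn (Twist.twistProjSpace n k b)) =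
      φP (KRR.cl Pn (Twist.twistProjSpace n k (a + b))) := fun a b => by
    rw [hKP.map_mul _ _ (hlt a) (hlt b)]
    exact congrArg φP (kcl_iso (H28.KPn.tw_add k n a b).some (lf_tens (hlt a) (hlt b)))
  have htw0 : φP (KRR.cl Pn (Twist.twistProjSpace n k 0)) = 1 := by
    rw [← hKP.map_one]
    exact congrArg φP (kcl_iso (H28.KPn.tw_zero k n).some (hlt 0))
  have hzpow : ∀ i : ℕ, z ^ i = φP (KRR.cl Pn (Twist.twistProjSpace n k (-(i : ℤ)))) := fun i => by
    induction i with
    | zero => rw [pow_zero, Nat.cast_zero, neg_zero, htw0]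
    | succ i ih => rw [pow_succ, ih, htw]; push_cast; ring_nf
  have hxz : φP (KRR.cl Pn O1) * z = 1 := by rw [htw]; exact htw0
  let L := (Scheme.Modules.pullback f).obj O1
  have hL : PicF.IsInvertible L := PicClLib.isInvertible_pullback _ hO1
  have hLamp : CohB1.IsAmple L := AmpleVan.FiniteSurj.isAmple_pullback_of_isAffineHom f Pic13Lib.NumTriv.isAmple_twistProjSpace_one
  obtain ⟨M, hM, ⟨eM⟩⟩ := H23.PicInv.exists_inverse hL
  let Ωf := (Scheme.Modules.pullback f).obj ΩP
  let x : KX := φX (KRR.cl X.left L)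
  let y : KX := φX (KRR.cl X.left M)
  let a : KX := φX (KRR.cl X.left Ωf)
  have hlL := H23.PullPush.isFinLocFree_of_isInvertible hL
  have hlM := H23.PullPush.isFinLocFree_of_isInvertible hM
  have hxy : x * y = 1 := by
    rw [hKX.map_mul _ _ hlL hlM, ← hKX.map_one]
    exact congrArg φX (kcl_iso eM (lf_tens hlL hlM))
  let RG := H28.KvbPull.ringHom hKX hKP hG
  have hX1 : a * x + x = ((n + 1 : ℕ) : KX) := by
    have h := congrArg RG hP1
    rw [map_add, map_mul, _root_.map_natCast] at h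
    rw [← h]
    show φX _ * φX _ + φX _ = G _ * G _ + G _
    rw [hG _ hlΩ, hG _ hlO1]
  have ha : a = ((n + 1 : ℕ) : KX) * y - 1 := by
    rw [← hX1]
    linear_combination (-(a + 1)) * hxy
  have hGz : RG z = y := by
    have h := congrArg RG hxz
    rw [map_mul, _root_.map_one] at h
    rw [show RG (φP (KRR.cl Pn O1)) = x from hG _ hlO1] at h
    linear_combination y * h - RG z * hxy
  haveI : QuasiSeparated X.hom := inferInstance
  let ΩX := Omega.sheaf X.hom
  have hdX : OmegaSh.IsUniversal (OmegaSh.dOmega X.hom) := OmegaUniv.isUniversal_dOmega X.hom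
  obtain ⟨eX⟩ := AVHodge.nonempty_omega_free (A := X) g
  obtain ⟨-, hNlf, hIlf, -, hvirt⟩ := S8668.result X.hom (CurvLocusLib.isKoszulAt_of_smooth X.hom) π f hf X.hom
    (𝟙 X.left) (Category.id_comp _) ΩP dP hdP ΩX (OmegaSh.dOmega X.hom) hdX
  let N := Omega.conormal f
  let ν : KX := φX (KRR.cl X.left N)
  have hN0 : IsZero (Omega.conormal (𝟙 X.left)) := S9750.isZero_conormal_of_isIso (𝟙 X.left)
  have hν : ν = ((n + 1 : ℕ) : KX) * y - ((g + 1 : ℕ) : KX) := by
    rw [show KRR.cl X.left (Omega.conormal (𝟙 X.left)) = 0 from KZ.clSub_isZero _ hN0, sub_zero] at hvirt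
    have h := congrArg φX hvirt
    rw [map_sub, kcl_iso (B := FlatMod.freeMod X.left g) ((Scheme.Modules.pullback (𝟙 X.left)).mapIso eX ≪≫
      (Scheme.Modules.pullbackId X.left).app _) hIlf, kcl_free, map_nsmul, hKX.map_one, nsmul_one] at h
    have h' : ν = a - (g : KX) := by linear_combination -h
    rw [h', ha]
    push_cast
    ring
  obtain ⟨r, hNr⟩ := H28.KvbModel.exists_rank hNlf
  have hyl : PX.IsLine y :=
    ⟨(hKX.mem_pos_iff y).2 ⟨1, M, le_rfl, InvEnd.isFinLocFreeOfRank_one hM, rfl⟩,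
      by exact_mod_cast hKX.aug_cl 1 M (InvEnd.isFinLocFreeOfRank_one hM)⟩
  have hr : r = g := by
    have h := congrArg PX.aug hν
    rw [hKX.aug_cl r N hNr, map_sub, _root_.map_mul, hyl.2, _root_.map_natCast, _root_.map_natCast] at h
    omega
  subst hr
  have hvan : ∀ i, r < i → LambdaRing.LambdaOps.lam i ν = 0 := fun i hi => by
    refine PX.lam_eq_zero ν ((hKX.mem_pos_iff ν).2 ⟨r, N, h0, hNr, rfl⟩) i ?_
    rw [hKX.aug_cl r N hNr]
    exact_mod_cast hi
  obtain ⟨χ₀, hχ₀⟩ := H28.HRR.exists_chi k X.left (KRR.vbP X.left) fun E hE => H28.PushLocFree.isCoh_of_isFinLocFree hE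
  let χ : KX →+ ℤ := χ₀.comp (AddEquiv.ofBijective φX hKX.bijective).symm.toAddMonoidHom
  have hχ : ∀ E, FlatMod.IsFinLocFree E → χ (φX (KRR.cl X.left E)) = Curv2.euler k X.left E := fun E hE => by
    show χ₀ ((AddEquiv.ofBijective φX hKX.bijective).symm (AddEquiv.ofBijective φX hKX.bijective (KRR.cl X.left E))) = _
    rw [AddEquiv.symm_apply_apply]
    exact hχ₀ E hE
  obtain ⟨χ₁, hχ₁⟩ := H28.HRR.exists_chi k Pn (KRR.vbP Pn) fun E hE => H28.PushLocFree.isCoh_of_isFinLocFree hE
  let χP : KP →+ ℤ := χ₁.comp (AddEquiv.ofBijective φP hKP.bijective).symm.toAddMonoidHom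
  have hχP : ∀ E, FlatMod.IsFinLocFree E → χP (φP (KRR.cl Pn E)) = Curv2.euler k Pn E := fun E hE => by
    show χ₁ ((AddEquiv.ofBijective φP hKP.bijective).symm (AddEquiv.ofBijective φP hKP.bijective (KRR.cl Pn E))) = _
    rw [AddEquiv.symm_apply_apply]
    exact hχ₁ E hE
  have hpow : ∀ m : ℕ, χ (y ^ m) = (m : ℤ) ^ r * Curv2.euler k X.left M := fun m => by
    have hm : ∀ m : ℕ, y ^ m = φX (KRR.cl X.left (CohB1.tensorPow M m)) := fun m => by
      induction m with
      | zero => rw [pow_zero, ← hKX.map_one]; rfl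
      | succ m ih =>
        rw [pow_succ, ih, hKX.map_mul _ _ (H23.PullPush.isFinLocFree_of_isInvertible (H23.PicMul.isInvertible_tensorPow hM m)) hlM]
        rfl
    rw [hm, hχ _ (H23.PullPush.isFinLocFree_of_isInvertible (H23.PicMul.isInvertible_tensorPow hM m))]
    have h := AVEulerHomog.euler_pow r hg hM m
    rw [← H23.PicMul.cl_tensorPow] at h
    exact h
  have hc := euler_inverse_ne_zero hg hLamp hL hM ⟨eM⟩
  -- the push-forward along the embedding
  have hreg : Mor2.IsRegularClosedImmersion f := KRegLib.regClosed_of_isKoszulAt f fun w =>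
    KRegLib.isKoszulAt_of_comp_smooth f π (by rw [hf]; exact fun v => CurvLocusLib.isKoszulAt_of_smooth X.hom v) w
  have hPe : KRR.HasEnoughLocFree Pn := KZ.QuasiProj.enough_projSpace k n
  obtain ⟨h, hh, -⟩ := S3799.result f hreg hPe KX PX φX hKX KP PP φP hKP
  have hχh : ∀ w, χP (h w) = χ w := by
    intro w
    obtain ⟨w, rfl⟩ := hKX.bijective.2 w
    refine DFunLike.congr_fun (f := (χP.comp h).comp φX) (g := χ.comp φX) (KZ.K0sub_hom_ext _ fun E hE => ?_) w
    show χP (h (φX (KRR.cl X.left E))) = χ (φX (KRR.cl X.left E))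
    obtain ⟨V, hV⟩ := H28.PushEngine.exists_val hPe φP
    obtain ⟨hp, he⟩ := H28.PushEngine.pushCl_val f hreg hPe hh hV hE
    obtain ⟨χ₂, hχ₂⟩ := H28.HRR.exists_chi k Pn (KZ.LFRes.P₁ Pn) fun _ h => h.1
    rw [he, hχ _ hE]
    rw [show χP (V (KZero.clSub (KZ.LFRes.P₁ Pn) ((Scheme.Modules.pushforward f).obj E))) =
      χ₂ (KZero.clSub (KZ.LFRes.P₁ Pn) ((Scheme.Modules.pushforward f).obj E)) from
      DFunLike.congr_fun (f := χP.comp V) (g := χ₂) (H28.PushEngine.hom_ext hPe fun B hB => by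
        show χP (V _) = _
        rw [hV B hB, hχP B hB, hχ₂ B (H28.PushEngine.p1_flf hPe hB)]) _, hχ₂ _ hp]
    refine finsum_congr fun i => ?_
    obtain ⟨e⟩ := PnCoh.exists_linearEquiv_push k f hf (H28.PushLocFree.isCoh_of_isFinLocFree hE).1 i
    rw [e.finrank_eq]
  have hproj := S3747.result f hreg hPe KX PX φX hKX KP PP φP hKP G hG h hh
  -- the self-intersection formula
  obtain ⟨aPn, haPn, -⟩ := SeesawX.PnSpec.exists_iso n k
  have hqP : KRR.IsQProjOver π := ⟨n, aPn.inv, inferInstance, (Iso.inv_comp_eq aPn).2 haPn.symm⟩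
  have hqX : KRR.IsQProjOver X.hom := ⟨n, f ≫ aPn.inv, inferInstance, by
    rw [Category.assoc, ← hf]
    exact congrArg (f ≫ ·) ((Iso.inv_comp_eq aPn).2 haPn.symm)⟩
  have hid : Mor2.IsRegularClosedImmersion (𝟙 X.left) := H28.PushTwo.isRegular_id X.left
  have hsq : IsPullback (𝟙 X.left) (𝟙 X.left) f f := IsKernelPair.id_of_mono f
  have hpullid : KRR.IsPull (𝟙 X.left) φX φX (AddMonoidHom.id KX) := fun E hE =>
    congrArg φX (kcl_iso ((Scheme.Modules.pullbackId X.left).app E).symm hE)
  have hXe : KRR.HasEnoughLocFree X.left := H28.QProjEnough.enough X.hom hqX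
  have hpushid : KRR.IsPushCl (𝟙 X.left) φX φX (AddMonoidHom.id KX) := fun E hE m L ε hres => by
    obtain ⟨V, hV⟩ := H28.PushEngine.exists_val hXe φX
    have hlE : FlatMod.IsFinLocFree ((Scheme.Modules.pushforward (𝟙 X.left)).obj E) :=
      H23.PullPush.isFinLocFree_of_iso ((Scheme.Modules.pushforwardId X.left).app E).symm hE
    rw [← H28.PushEngine.val_res hXe hV hres, hV _ hlE]
    exact congrArg φX (kcl_iso ((Scheme.Modules.pushforwardId X.left).app E).symm hE)
  have hself : G (h 1) = KRR.lamAlt PX ν := by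
    rw [S3769.result (Spec (CommRingCat.of k)) π hqP X.hom hqX f hreg r hNr f (𝟙 X.left) (𝟙 X.left) hsq hid 0
      (rank_zero_of_isZero hN0) KX PX φX hKX KP PP φP hKP KX PX φX hKX KX PX φX hKX G hG (AddMonoidHom.id KX)
      hpullid h hh (AddMonoidHom.id KX) hpushid 1]
    rw [show KRR.cl X.left (Omega.conormal (𝟙 X.left)) = 0 from KZ.clSub_isZero _ hN0, map_zero]
    simp [ν, N]
  have hq0 : χ (G (h 1)) = ∑ i ∈ range (r + 1), (-1 : ℤ) ^ i * χ (LambdaRing.LambdaOps.lam i ν) := by
    rw [hself, KRR.lamAlt, hKX.aug_cl r N hNr, Int.toNat_natCast, map_sum]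
    refine sum_congr rfl fun i _ => ?_
    rw [show (-1 : KX) ^ i * LambdaRing.LambdaOps.lam i ν = ((-1 : ℤ) ^ i) • LambdaRing.LambdaOps.lam i ν by
      rw [zsmul_eq_mul]; push_cast; rfl, map_zsmul, smul_eq_mul]
  -- expansion of the class of the image in the twists
  have hbij := S3789.result (Spec (CommRingCat.of k)) Pn n (FlatMod.freeMod (Spec (CommRingCat.of k)) (n + 1))
    (H28.QProjEnough.rank_freeMod _ _) π O1 q₀ hq KS PS φS hKS KP PP φP hKP gπ hgπ
  obtain ⟨co, hco⟩ := hbij.2 (h 1 * φP (KRR.cl Pn O1) ^ n)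
  choose d hd using fun j => exists_natCast_point hKS (co j)
  have hexp : h 1 = ∑ j : Fin (n + 1), d j • z ^ (n - (j : ℕ)) := by
    have hxn : φP (KRR.cl Pn O1) ^ n * z ^ n = 1 := by rw [← mul_pow, hxz, one_pow]
    calc h 1 = (h 1 * φP (KRR.cl Pn O1) ^ n) * z ^ n := by rw [_root_.mul_assoc, hxn, _root_.mul_one]
      _ = _ := by
        rw [← hco, Finset.sum_mul]
        refine sum_congr rfl fun j _ => ?_
        rw [hd, hgπn, zsmul_eq_mul, _root_.mul_assoc]
        congr 1
        have he : z ^ n = z ^ (j : ℕ) * z ^ (n - (j : ℕ)) := by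
          rw [← pow_add]
          congr 1
          have := j.2
          omega
        rw [he, ← _root_.mul_assoc, ← mul_pow, hxz, one_pow, _root_.one_mul]
  have haz : ∀ m : ℕ, χP (h 1 * z ^ m) = Curv2.euler k X.left M * (m : ℤ) ^ r := fun m => by
    rw [← hproj, hχh, _root_.one_mul, show G (z ^ m) = y ^ m by rw [← hGz]; exact map_pow RG z m, hpow, mul_comm]
  have hmom : ∑ j : Fin (n + 1), d j * ((n - (j : ℕ) : ℕ) : ℤ) ^ r =
      (r.factorial : ℤ) ^ 2 * Curv2.euler k X.left M := by
    refine moment_eq _ d _ r _ fun m => ?_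
    rw [← haz m, hexp, Finset.sum_mul, map_sum]
    refine sum_congr rfl fun j _ => ?_
    rw [smul_mul_assoc, map_zsmul, smul_eq_mul, ← pow_add, hzpow, hχP _ (hlt _), euler_twist_neg (by omega), ← hn]
  refine ⟨Curv2.euler k X.left M, fun i => χ (LambdaRing.LambdaOps.lam i ν), hc, fun j => ?_, ?_⟩
  · have h := congrArg (LambdaRing.LambdaOps.lam j)
      (show ((n + 1 : ℕ) : KX) * y = ν + ((r + 1 : ℕ) : KX) by rw [hν]; ring)
    rw [lam_nsmul_line PX y hyl, LambdaRing.LambdaOps.lam_add] at h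
    have h' := congrArg χ h
    rw [← nsmul_eq_mul, map_nsmul, hpow, map_sum, nsmul_eq_mul] at h'
    rw [h']
    have hterm : ∀ i ∈ range (j + 1), χ (LambdaRing.LambdaOps.lam i ν * LambdaRing.LambdaOps.lam (j - i) ((r + 1 : ℕ) : KX)) =
        χ (LambdaRing.LambdaOps.lam i ν) * ((r + 1).choose (j - i) : ℤ) := fun i _ => by
      rw [lam_natCast PX, mul_comm, ← nsmul_eq_mul, map_nsmul, nsmul_eq_mul, mul_comm]
    rw [sum_congr rfl hterm]
    refine (sum_subset (fun i hi => ?_) (fun i hi hi' => ?_)).symm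
    · obtain ⟨-, hi2⟩ := mem_filter.1 hi
      exact mem_range.2 (Nat.lt_succ_of_le hi2)
    · have hri : r < i := by
        by_contra hc'
        exact hi' (mem_filter.2 ⟨mem_range.2 (by omega), Nat.lt_succ_iff.1 (mem_range.1 hi)⟩)
      rw [hvan i hri, map_zero, zero_mul]
  · rw [← hq0, ← hχh, ← _root_.one_mul (G (h 1)), hproj]
    have hterm : ∀ j : Fin (n + 1), χP (h 1 * (d j • z ^ (n - (j : ℕ)))) =
        Curv2.euler k X.left M * (d j * ((n - (j : ℕ) : ℕ) : ℤ) ^ r) := fun j => by
      rw [mul_smul_comm, map_zsmul, haz, smul_eq_mul]; ring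
    calc χP (h 1 * h 1) = χP (h 1 * ∑ j : Fin (n + 1), d j • z ^ (n - (j : ℕ))) := by rw [← hexp]
      _ = ((r.factorial : ℤ) * Curv2.euler k X.left M) ^ 2 := by
        rw [Finset.mul_sum, map_sum, sum_congr rfl (fun j _ => hterm j), ← Finset.mul_sum, hmom]
        ring

/-- No abelian variety of dimension at least three embeds in projective space of twice its dimension. -/
theorem two_mul_dim_lt {g : ℕ} (hg : topologicalKrullDim ↥X.left = g) (h3 : 3 ≤ g) {n : ℕ}
    (f : X.left ⟶ CohB1.ProjSpace n k) [IsClosedImmersion f] (hf : f ≫ CohB1.ProjSpace.toSpec n k = X.hom) :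
    2 * g + 1 ≤ n := by
  by_contra hlt
  have hge := two_mul_dim_le hg f hf
  obtain ⟨c, q, hc, hconv, hsq⟩ := exists_conv_sq hg (by omega) (n := n) (by omega) f hf
  have h := alt_sum_conv_eq g (g + 1) (g + 1) q
  simp only [← hconv] at h
  simp only [altSum_self] at h
  rw [← Finset.sum_mul, hsq, show g + (g + 1) + 1 = n + 1 + 1 by omega] at h
  have hL : c * altSum (n + 1) (n + 1) 0 =
      ((g.factorial : ℤ) * c) ^ 2 * ((-1) ^ (g + 1) * ((g + 1).factorial : ℤ)) := by
    refine Eq.trans ?_ h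
    rw [altSum, Finset.mul_sum]
    refine sum_congr rfl fun j _ => ?_
    rw [zero_add, show n + 1 = g + (g + 1) by omega, pow_add]
    ring
  rw [altSum_self] at hL
  have hN := congrArg Int.natAbs hL
  simp only [Int.natAbs_mul, Int.natAbs_pow, Int.natAbs_neg, Int.natAbs_one, one_pow, _root_.one_mul,
    Int.natAbs_natCast] at hN
  have hc0 : 0 < c.natAbs := Int.natAbs_pos.2 hc
  have hmain : (n + 1).factorial = g.factorial ^ 2 * c.natAbs * (g + 1).factorial :=
    Nat.eq_of_mul_eq_mul_left hc0 (hN.trans (by ring))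
  rw [show n + 1 = 2 * g + 1 by omega] at hmain
  rcases lt_or_ge g 8 with h8 | h8
  · interval_cases g <;> norm_num [Nat.factorial] at hmain <;> omega
  · have hbig : ∀ m, 8 ≤ m → (2 * m + 1).factorial < m.factorial ^ 2 * (m + 1).factorial := by
      intro m hm
      induction m, hm using Nat.le_induction with
      | base => norm_num [Nat.factorial]
      | succ m hm ih =>
        rw [show 2 * (m + 1) + 1 = 2 * m + 1 + 1 + 1 by ring, Nat.factorial_succ, Nat.factorial_succ (2 * m + 1),
          Nat.factorial_succ m, Nat.factorial_succ (m + 1)]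
        rw [Nat.factorial_succ m] at ih
        have : (2 * m + 1 + 1 + 1) * (2 * m + 1 + 1) ≤ (m + 1) ^ 2 * (m + 1 + 1) := by nlinarith
        calc (2 * m + 1 + 1 + 1) * ((2 * m + 1 + 1) * (2 * m + 1).factorial)
            = ((2 * m + 1 + 1 + 1) * (2 * m + 1 + 1)) * (2 * m + 1).factorial := by ring
          _ < ((m + 1) ^ 2 * (m + 1 + 1)) * (m.factorial ^ 2 * ((m + 1) * m.factorial)) :=
            Nat.mul_lt_mul_of_le_of_lt this ih (by positivity)
          _ = _ := by rw [Nat.factorial_succ m]; ring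
    refine (hbig g h8).not_ge ?_
    rw [hmain]
    exact Nat.mul_le_mul_right _ (Nat.le_mul_of_pos_right _ hc0)

end Geom

end Groth.Agent.AVEmbed
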