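import Groth.Agent.Lib.AVBidual
import Groth.Agent.Lib.AVDualStruct
import Groth.Agent.Lib.AVRiemannRoch
import Groth.Agent.Lib.AVPicZero

/-!
A Poincaré class separates on both sides.
-/

set_option autoImplicit false
set_option linter.style.haveILetI false
set_option linter.unusedSectionVars false
set_option backward.isDefEq.respectTransparency false
set_option backward.isDefEq.respectTransparency.types false
set_option maxHeartbeats 1000000
set_option synthInstance.maxHeartbeats 400000

universe u

open CategoryTheory CategoryTheory.Limits MonoidalCategory CartesianMonoidalCategory MonObj AlgebraicGeometry TopologicalSpace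

noncomputable section

namespace Groth.Agent.AVSepSwap

open Groth.Agent Groth.Agent.H23 Groth.Agent.AVPair Groth.Agent.AVDual
open scoped CategoryTheory.Obj Groth.Agent.H23.PicMul

variable {k : Type u} [Field k]

/-- The Euler characteristic of a separating class. -/
theorem euler_sep {A B : Over (Spec (CommRingCat.of k))} [GrpObj A] [IsProper A.hom] [GeometricallyIntegral A.hom]
    [GrpObj B] [IsProper B.hom] [GeometricallyIntegral B.hom] [Smooth B.hom] {P : (A ⊗ B).left.Modules}
    (hP : PicF.IsInvertible P) (hs : AVPoincare.Sep (PicF.cl P : PicF.Cl (A ⊗ B).left)) {g : ℕ}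
    (hA : topologicalKrullDim ↥A.left = g) (hB : topologicalKrullDim ↥B.left = g) :
    @Curv2.euler k _ (A ⊗ B).left ⟨(A ⊗ B).hom⟩ P = (-1) ^ g := by
  haveI : HasInjectiveResolutions (A ⊗ B).left.Modules := KFlatLib.hasInjectiveResolutions_modules
  letI : (A ⊗ B).left.Over (Spec (CommRingCat.of k)) := ⟨(A ⊗ B).hom⟩
  unfold Curv2.euler
  rw [finsum_eq_single _ g fun n hn => by
    haveI := AVPoincare.subsingleton_HH_of_ne_of_sep hP hs hA hB hn
    rw [Module.finrank_zero_of_subsingleton]; simp]
  rw [show Module.finrank k (Coh.HH (A ⊗ B).left P g) = 1 from AVPoincare.finrank_HH_of_sep hP hs hA hB]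
  simp

/-- The swap. -/
abbrev sw (A B : Over (Spec (CommRingCat.of k))) : B ⊗ A ⟶ A ⊗ B := lift (snd B A) (fst B A)

theorem whiskerLeft_sw {A B T : Over (Spec (CommRingCat.of k))} (s : T ⟶ A) :
    (B ◁ s) ≫ sw A B = sw T B ≫ (s ▷ B) := by
  apply CartesianMonoidalCategory.hom_ext <;> simp

theorem sw_sw (A B : Over (Spec (CommRingCat.of k))) : sw A B ≫ sw B A = 𝟙 _ := by
  apply CartesianMonoidalCategory.hom_ext <;> simp

section Closed

variable [IsAlgClosed k] {A At : Over (Spec (CommRingCat.of k))} [GrpObj A] [IsCommMonObj A] [IsProper A.hom]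
  [GeometricallyIntegral A.hom] [GrpObj At] [IsCommMonObj At] [IsProper At.hom] [GeometricallyIntegral At.hom]
  {φ : AgPol.DualMap A At} (hφ : AbDual.IsDualAV Scheme.fppfPrecoverage A At φ)
  {ξ : PicF.Cl (A ⊗ At).left} (hξ : AbDual.IsPoincareCl A At φ ξ)
include hφ hξ

/-- Points killing the class lie in the kernel of the homomorphism of any invertible module. -/
theorem comp_lam_eq_one {L : A.left.Modules} (hL : PicF.IsInvertible L) {T : Over (Spec (CommRingCat.of k))}
    (s : T ⟶ A) (h : pl (s ▷ At) ξ = 1) : s ≫ AVLambda.lam φ hL = 1 := by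
  haveI : IsIntegral A.left := GeometricallyIntegral.isIntegral_of_subsingleton A.hom
  set l := AVLambda.lam φ hL with hl
  have hbase : pl (A ◁ l) ξ = AVLambda.base hL := by
    refine AVDual.eq_of_phi hφ (AVDual.pz_pl l hξ.1) (AVLambda.pz_base hL) ?_ 1 ?_
    · rw [AVDual.phi_pl hφ l hξ.1, hξ.2.1, Category.comp_id]
    · have h1 := congrArg (pl l) (AVDual.poincare_axes hφ hξ).1
      rw [pl_pl, map_one, comp_lift, MonObj.comp_one, Category.comp_id] at h1
      rw [AVLambda.base_axis, pl_pl, lift_whiskerLeft, Category.id_comp, h1]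
  have h1 : pl (s ▷ A) (AVLambda.base hL) = 1 := by
    rw [← hbase, pl_pl, ← whisker_exchange, ← pl_pl, h, map_one]
  have h2 : pl (A ◁ s) (AVLambda.base hL) = 1 := by
    have hsym : pl (sw A A) (AVLambda.base hL) = AVLambda.base hL := by
      rw [AVLambda.val_polar, lift_fst, lift_snd, AVDegPoly.polar_comm hL (snd A A)]
    rw [← hsym, pl_pl, whiskerLeft_sw, ← pl_pl, h1, map_one]
  have h3 := AVDual.phi_pl hφ s (AVLambda.pz_base hL)
  rw [h2, AVDual.phi_one hφ] at h3
  exact h3.symm

/-- **A Poincaré class separates on the other side, over an algebraically closed field.** -/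
theorem eq_one_of_isAlgClosed {T : Over (Spec (CommRingCat.of k))} (s : T ⟶ A) (h : pl (s ▷ At) ξ = 1) :
    s = 1 := by
  haveI : Smooth A.hom := S7795.result A
  haveI : Smooth At.hom := S7795.result At
  haveI : GeometricallyConnected A.hom := CubeAb.geometricallyConnected_of_integral A.hom
  haveI : GeometricallyConnected At.hom := CubeAb.geometricallyConnected_of_integral At.hom
  obtain ⟨g, hgA⟩ := AVTors.exists_dimNat A
  have hgAt := AVPoincare.dim_eq hφ hgA
  obtain ⟨L, hamp⟩ := AVProj.exists_isAmple (X := At)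
  obtain ⟨Q, grp, q, -, R, hQp, hQgi, hQsm, -, -, -, hdim, hR, hq, hsep⟩ := AVDualExist.exists_dual hamp.1 hamp
  letI := grp
  haveI := hQp; haveI := hQgi; haveI := hQsm
  have hgQ : topologicalKrullDim ↥Q.left = g := hdim.trans hgAt
  obtain ⟨h1, h2⟩ := AVDual.poincare_axes hφ hξ
  have hinv := AVDual.pz_invertible hξ.1
  have hslice : pl (lift (𝟙 At) (1 : At ⟶ A)) (pl (sw A At) ξ) = 1 := by
    rw [pl_pl, comp_lift, lift_fst, lift_snd, h1]
  have hpz : PZ At A (pl (sw A At) ξ) := AVDual.pz_of_slice η[A] (isInv_pl _ hinv) (by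
    rw [← Hom.one_def]; exact hslice)
  have hax : pl (lift (1 : A ⟶ At) (𝟙 A)) (pl (sw A At) ξ) = 1 := by
    rw [pl_pl, comp_lift, lift_fst, lift_snd, h2]
  obtain ⟨κ, hκ, -⟩ := AVDualStruct.existsUnique_classify hgAt hgQ hR hsep hamp.1 hamp hq hpz hax
  have hker : ∀ {U : Over (Spec (CommRingCat.of k))} (t : U ⟶ A), pl (t ▷ At) ξ = 1 → t ≫ κ = 1 := by
    intro U t ht
    refine hsep.sep _ ?_
    rw [MonoidalCategory.whiskerLeft_comp, ← pl_pl, hκ, pl_pl, whiskerLeft_sw, ← pl_pl, ht, map_one]
  have hker' : ∀ {U : Over (Spec (CommRingCat.of k))} (t : U ⟶ A), t ≫ κ = 1 → pl (t ▷ At) ξ = 1 := by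
    intro U t ht
    have e : pl (At ◁ t) (pl (sw A At) ξ) = 1 := by
      rw [← hκ, pl_pl, ← MonoidalCategory.whiskerLeft_comp, ht,
        show At ◁ (1 : U ⟶ Q) = fst At U ≫ lift (𝟙 At) (1 : At ⟶ Q) by
          rw [comp_lift, Category.comp_id, MonObj.comp_one]
          apply CartesianMonoidalCategory.hom_ext <;> simp, ← pl_pl, hsep.right, map_one]
    rw [pl_pl, whiskerLeft_sw, ← pl_pl] at e
    have e' := congrArg (pl (sw At U)) e
    rw [pl_pl, sw_sw, pl_id, map_one] at e'
    exact e'
  have hone : η[A] ≫ κ = 1 := by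
    refine hker _ ?_
    rw [show η[A] ▷ At = snd (𝟙_ (Over (Spec (CommRingCat.of k)))) At ≫ lift (1 : At ⟶ A) (𝟙 At) by
      rw [comp_lift, Category.comp_id, MonObj.comp_one]
      apply CartesianMonoidalCategory.hom_ext
      · rw [whiskerRight_fst, lift_fst, Hom.one_def, toUnit_unique (fst _ At) (toUnit _)]
      · simp, ← pl_pl, h1, map_one]
  haveI : IsMonHom κ := GrpSchLib.RigidHom.isMonHom_of_one _ hone
  haveI : IsIntegral A.left := GeometricallyIntegral.isIntegral_of_subsingleton A.hom
  haveI : IsIntegral Q.left := GeometricallyIntegral.isIntegral_of_subsingleton Q.hom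
  haveI : IsLocallyNoetherian A.left := LocallyOfFiniteType.isLocallyNoetherian A.hom
  haveI : IsLocallyNoetherian Q.left := LocallyOfFiniteType.isLocallyNoetherian Q.hom
  obtain ⟨LA, hLA⟩ := AVProj.exists_isAmple (X := A)
  obtain ⟨hlf, -, -⟩ := AVBidual.isogeny_lam hφ hLA
  haveI := hlf
  set l := AVLambda.lam φ hLA.1 with hl
  haveI : IsProper κ.left := by
    haveI : IsProper (κ.left ≫ Q.hom) := by rw [Over.w κ]; infer_instance
    exact IsProper.of_comp κ.left Q.hom
  let pt₀ := 𝟙_ (Over (Spec (CommRingCat.of k)))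
  let Kr := pullback κ η[Q]
  let i : Kr ⟶ A := pullback.fst κ η[Q]
  have hi : i ≫ κ = 1 := by
    rw [pullback.condition, Hom.one_def, toUnit_unique (pullback.snd κ η[Q]) (toUnit Kr)]
  have hil : i ≫ l = 1 := comp_lam_eq_one hφ hξ hLA.1 i (hker' i hi)
  haveI : LocallyQuasiFinite κ.left := by
    refine GrpSchLib.HomFinite.locallyQuasiFinite_of_finite_preimage κ
      ((l.left.finite_preimage_singleton (η[At].left (IsLocalRing.closedPoint k))).subset fun x hx => ?_)
    obtain ⟨w, hw, -⟩ := Scheme.exists_preimage_of_isPullback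
      ((IsPullback.of_hasPullback κ η[Q]).map (Over.forget _)) x (IsLocalRing.closedPoint k) hx
    have hw' : i.left w = x := hw
    have e : l.left (i.left w) = η[At].left ((toUnit Kr).left w) := by
      rw [← Scheme.Hom.comp_apply, ← Over.comp_left, hil, Hom.one_def, Over.comp_left, Scheme.Hom.comp_apply]
    show l.left x = _
    rw [← hw', e]
    exact congrArg η[At].left (@Subsingleton.elim _ (inferInstanceAs (Subsingleton (PrimeSpectrum k))) _ _)
  haveI : IsFinite κ.left := IsFinite.of_isProper_of_locallyQuasiFinite κ.left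
  haveI : Surjective κ.left := Isogeny.surjective_of_isFinite A.hom Q.hom κ.left (Over.w κ) (hgA.trans hgQ.symm)
  haveI : Flat κ.left := GrpSchLib.flat_of_surjective_hom κ
  let f : At ⊗ A ⟶ At ⊗ Q := At ◁ κ
  have hsq := (AVSepClassify.isPullback_whisker (A := At) κ).flip
  haveI : IsFinite f.left := MorphismProperty.of_isPullback hsq ‹IsFinite κ.left›
  haveI : Flat f.left := MorphismProperty.of_isPullback hsq ‹Flat κ.left›
  haveI : IsProper (At ⊗ A).hom := inferInstanceAs (IsProper (pullback.fst At.hom A.hom ≫ At.hom))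
  haveI : IsProper (At ⊗ Q).hom := inferInstanceAs (IsProper (pullback.fst At.hom Q.hom ≫ At.hom))
  haveI : IsProper (A ⊗ At).hom := inferInstanceAs (IsProper (pullback.fst A.hom At.hom ≫ A.hom))
  haveI : GeometricallyIntegral (At ⊗ A).hom := MaxAbelian.geometricallyIntegral_tensor At A
  haveI : GeometricallyIntegral (At ⊗ Q).hom := MaxAbelian.geometricallyIntegral_tensor At Q
  haveI : GeometricallyIntegral (A ⊗ At).hom := MaxAbelian.geometricallyIntegral_tensor A At
  haveI : IsLocallyNoetherian (At ⊗ Q).left := LocallyOfFiniteType.isLocallyNoetherian (At ⊗ Q).hom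
  haveI : IsLocallyNoetherian (A ⊗ At).left := LocallyOfFiniteType.isLocallyNoetherian (A ⊗ At).hom
  obtain ⟨P, rfl, hP⟩ := hinv
  let y₀ : Q.left := η[Q].left (IsLocalRing.closedPoint k)
  set d := Scheme.Hom.finrank κ.left y₀ with hd
  have hdy : ∀ y, Scheme.Hom.finrank κ.left y = d := fun y =>
    κ.left.isLocallyConstant_finrank.apply_eq_of_preconnectedSpace _ _
  have e1 := AVEuler.euler_pullback f d
    (fun y => (Scheme.Hom.finrank_of_isPullback _ _ _ _ hsq y).trans (hdy _)) (CurveDeg.isCoh_of_isInvertible hR)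
  obtain ⟨eF⟩ := (PicGrp.cl_eq_cl_iff ((Scheme.Modules.pullback f.left).obj R)
    ((Scheme.Modules.pullback (sw A At).left).obj P)).1 hκ
  haveI : IsIso (sw A At).left := by
    let σ : At ⊗ A ≅ A ⊗ At := ⟨sw A At, sw At A, sw_sw A At, sw_sw At A⟩
    exact inferInstanceAs (IsIso ((Over.forget _).mapIso σ).hom)
  have e2 := AVEuler.euler_pullback (sw A At) 1
    (fun y => congrFun (Scheme.Hom.finrank_eq_one_of_isIso _) y) (CurveDeg.isCoh_of_isInvertible hP)
  rw [CurveCohLib.euler_congr eF, e2, euler_sep hP (AVPoincare.sep_of_dual hφ hξ) hgA hgAt,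
    euler_sep hR hsep hgAt hgQ] at e1
  have hd1 : d = 1 := by
    have h4 : ((-1 : ℤ) ^ g) * (-1) ^ g = 1 := by rw [← mul_pow]; norm_num
    have : (d : ℤ) = 1 := by
      linear_combination (-1 : ℤ) ^ g * (-e1) + (1 - (d : ℤ)) * h4
    exact_mod_cast this
  haveI : IsIso κ.left := (Scheme.Hom.isIso_iff_finrank_eq κ.left).2 (funext fun z => (hdy z).trans hd1)
  haveI : IsIso κ := Over.isoMk (asIso κ.left) (Over.w κ) |>.isIso_hom
  have := hker s h
  rw [← cancel_mono κ, this, MonObj.one_comp]

end Closed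

variable {A At : Over (Spec (CommRingCat.of k))} [GrpObj A] [IsProper A.hom]
  [GeometricallyIntegral A.hom] [GrpObj At] [IsProper At.hom] [GeometricallyIntegral At.hom]
  {φ : AgPol.DualMap A At} (hφ : AbDual.IsDualAV Scheme.fppfPrecoverage A At φ)
  {ξ : PicF.Cl (A ⊗ At).left} (hξ : AbDual.IsPoincareCl A At φ ξ)
include hφ hξ

/-- **A Poincaré class separates on the other side.** -/
theorem eq_one {T : Over (Spec (CommRingCat.of k))} (s : T ⟶ A) (h : pl (s ▷ At) ξ = 1) : s = 1 := by
  let K := AlgebraicClosure k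
  let σ : Spec (CommRingCat.of K) ⟶ Spec (CommRingCat.of k) := Spec.map (CommRingCat.ofHom (algebraMap k K))
  haveI : IsProper (Red.bc σ A).hom := inferInstanceAs (IsProper (pullback.snd A.hom σ))
  haveI : GeometricallyIntegral (Red.bc σ A).hom := inferInstanceAs (GeometricallyIntegral (pullback.snd A.hom σ))
  haveI : IsProper (Red.bc σ At).hom := inferInstanceAs (IsProper (pullback.snd At.hom σ))
  haveI : GeometricallyIntegral (Red.bc σ At).hom := inferInstanceAs (GeometricallyIntegral (pullback.snd At.hom σ))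
  haveI := isCommMonObj_of_isProper_of_geometricallyIntegral (Red.bc σ A)
  haveI := isCommMonObj_of_isProper_of_geometricallyIntegral (Red.bc σ At)
  have h' : pl ((Over.pullback σ).map s ▷ Red.bc σ At) (AVBidual.bcCl σ ξ) = 1 := by
    let pT := pullback.fst T.hom σ
    let m : ((Red.bc σ T) ⊗ Red.bc σ At).left ⟶ (T ⊗ At).left :=
      pullback.lift ((fst (Red.bc σ T) (Red.bc σ At)).left ≫ pullback.fst T.hom σ)
        ((snd (Red.bc σ T) (Red.bc σ At)).left ≫ pullback.fst At.hom σ) (by
          rw [Category.assoc, Category.assoc, pullback.condition, pullback.condition, ← Category.assoc,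
            ← Category.assoc]
          exact congrArg (· ≫ σ) ((Over.w (fst (Red.bc σ T) (Red.bc σ At))).trans
            (Over.w (snd (Red.bc σ T) (Red.bc σ At))).symm))
    have h0 := congrArg (PicF.pullCl m) h
    rw [PicMul.pullCl_one] at h0
    refine Eq.trans ?_ h0
    show PicF.pullCl _ (PicF.pullCl _ (PicF.pullCl _ ξ)) = PicF.pullCl m (PicF.pullCl (s ▷ At).left ξ)
    simp only [PicClLib.pullCl_comp]
    refine congrArg (PicF.pullCl · ξ) (pullback.hom_ext ?_ ?_)
    · simp [m, AgPol.bcXTIso, PicF.XTmap, Over.pullback, Over.whiskerRight_left]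
    · simp [m, AgPol.bcXTIso, PicF.XTmap, Over.pullback, Over.whiskerRight_left]
  have h1 := eq_one_of_isAlgClosed (AVDualBC.isDualAV (f := σ) hφ) (AVBidual.isPoincareCl_bcCl σ hφ hξ) _ h'
  rw [← Functor.map_one] at h1
  haveI : Surjective σ := ⟨fun _ => ⟨IsLocalRing.closedPoint K, @Subsingleton.elim (PrimeSpectrum k) inferInstance _ _⟩⟩
  haveI : Surjective (pullback.fst T.hom σ) := inferInstance
  haveI : Flat (pullback.fst T.hom σ) := inferInstance
  haveI := Flat.epi_of_flat_of_surjective (pullback.fst T.hom σ)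
  refine Over.OverMorphism.ext ((cancel_epi (pullback.fst T.hom σ)).1 ?_)
  have h2 := congrArg (fun t : Red.bc σ T ⟶ Red.bc σ A => t.left ≫ pullback.fst A.hom σ) h1
  simpa [Over.pullback] using h2

/-- The exchanged Poincaré class separates. -/
theorem sep_swap : AVPoincare.Sep (pl (sw A At) ξ) where
  left := by rw [pl_pl, comp_lift, lift_fst, lift_snd]; exact (poincare_axes hφ hξ).2
  right := by rw [pl_pl, comp_lift, lift_fst, lift_snd]; exact (poincare_axes hφ hξ).1
  sep s h := by
    refine eq_one hφ hξ s ?_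
    rw [pl_pl, whiskerLeft_sw, ← pl_pl] at h
    have e' := congrArg (pl (sw At _)) h
    rw [pl_pl, sw_sw, pl_id, map_one] at e'
    exact e'

end Groth.Agent.AVSepSwap
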