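import Groth.Agent.KExact.RegShriek
import Groth.Agent.KExact.RHomOSheafHom
import Groth.Agent.H23.DiagReg
import Groth.Agent.H28.DefRel.Centre
import Groth.Agent.H28.ExtSh
import Groth.Agent.RegConormal.Free
import Groth.Agent.KFlatLib.Scheme.AffineLift
import Groth.Agent.Lib.AVDual
import Groth.Agent.Lib.AVPoincareD

/-!
The derived dual of the skyscraper at the origin of an abelian variety.
-/

set_option autoImplicit false
set_option linter.style.haveILetI false
set_option linter.unusedSectionVars false
set_option backward.isDefEq.respectTransparency false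
set_option backward.isDefEq.respectTransparency.types false
set_option maxHeartbeats 1000000

universe u

open CategoryTheory CategoryTheory.Limits MonoidalCategory CartesianMonoidalCategory MonObj AlgebraicGeometry
open RingTheory.Sequence Opposite

attribute [local instance] HasDerivedCategory.standard

noncomputable section

namespace Groth.Agent.AVSkyDual

open Groth.Agent

/-- A rational point of a smooth variety is a regular immersion of full codimension. -/
theorem isRegularImmersion_point {K : Type u} [Field K] {X : Scheme.{u}} (f : X ⟶ Spec (CommRingCat.of K))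
    [Smooth f] [IsSeparated f] [IsIntegral X] (e : Spec (CommRingCat.of K) ⟶ X) (he : e ≫ f = 𝟙 _) {n : ℕ}
    (hn : topologicalKrullDim X = n) :
    RegImm.IsRegularImmersionOfCodim RegImm.Kind.regular n e := by
  haveI : IsClosedImmersion e := by
    haveI : IsClosedImmersion (e ≫ f) := by rw [he]; infer_instance
    exact IsClosedImmersion.of_comp e f
  haveI : IsLocallyNoetherian X := LocallyOfFiniteType.isLocallyNoetherian f
  refine ⟨inferInstance, fun z => ?_⟩
  obtain ⟨D, hD, hxD, -⟩ := exists_isAffineOpen_mem_and_subset (x := e z) (U := ⊤) trivial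
  obtain ⟨hD', hDs⟩ := Synt29.surjective_app_of_isClosedImmersion_restrict e D hD
  haveI := KRegLib.isRegularRing_sections (X := X)
    (fun q => GrpSchLib.isRegularLocalRing_stalk_of_smooth f q) hD
  haveI := KRegLib.isRegularRing_sections (X := Spec (CommRingCat.of K))
    (fun q => GrpSchLib.isRegularLocalRing_stalk_of_smooth (𝟙 (Spec (CommRingCat.of K))) q) hD'
  have hk := KRegLib.kReg_of_regular (e.app D).hom hDs (hD'.primeIdealOf ⟨z, hxD⟩).asIdeal
  have hc := congrArg PrimeSpectrum.asIdeal
    (IsAffineOpen.comap_primeIdealOf_appLE (f := e) D hD (e ⁻¹ᵁ D) hD' le_rfl hxD)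
  have he' : (e.appLE D (e ⁻¹ᵁ D) le_rfl).hom = (e.app D).hom := by rw [Scheme.Hom.app_eq_appLE]
  rw [PrimeSpectrum.comap_asIdeal, he'] at hc
  rw [hc] at hk
  obtain ⟨U, hxU, hcl, rs, hrs, hker⟩ := KRegLib.regImmAt_of_kReg RegImm.Kind.regular e z hD hxD hk
  refine ⟨U, hxU, hcl, rs, ?_, hrs, hker⟩
  obtain ⟨rs', hlen, hreg, hker'⟩ := H23.DiagReg.exists_stalk_seq e U z hxU rs hrs.toIsWeaklyRegular hker
  have h1 := ringKrullDim_add_length_eq_ringKrullDim_of_isRegular rs' hreg
  have hcz : IsClosed ({e z} : Set X) := by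
    haveI : Subsingleton ↥(Spec (CommRingCat.of K)) := inferInstanceAs (Subsingleton (PrimeSpectrum K))
    have := e.isClosedEmbedding.isClosedMap {z} (isClosed_discrete _)
    simpa using this
  have hK : ringKrullDim ((Spec (CommRingCat.of K)).presheaf.stalk z) = (0 : ℕ) := by
    refine H23.DiagReg.dim_stalk_closed (𝟙 (Spec (CommRingCat.of K))) (le_antisymm ?_ ?_) (isClosed_discrete _)
    · exact topologicalKrullDim_zero_of_discreteTopology _
    · haveI : Nonempty (TopologicalSpace.IrreducibleCloseds ↥(Spec (CommRingCat.of K))) := ⟨⟨{z}, isIrreducible_singleton, isClosed_discrete _⟩⟩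
      exact Order.krullDim_nonneg
  rw [← hker', ringKrullDim_eq_of_ringEquiv (RingHom.quotientKerEquivOfSurjective (e.stalkMap_surjective z)),
    hK, H23.DiagReg.dim_stalk_closed f hn hcz, hlen] at h1
  have h2 : 0 + rs.length = n := by exact_mod_cast h1
  omega

/-- A module of rank one on a one-point scheme is trivial. -/
theorem nonempty_iso_structure_of_subsingleton {X : Scheme.{u}} [Subsingleton X] {M : X.Modules}
    (hM : PicF.IsInvertible M) (x : X) : Nonempty (M ≅ Coh.structureModule X) := by
  obtain ⟨U, hxU, ⟨e⟩⟩ := InvEnd.isFinLocFreeOfRank_one hM x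
  obtain rfl : U = ⊤ := top_le_iff.1 fun y _ => (Subsingleton.elim x y) ▸ hxU
  let t := X.topIso.inv
  obtain ⟨e'⟩ := PicClLib.nonempty_pullback_structureModule t
  exact ⟨((Scheme.Modules.pullbackId X).app M).symm ≪≫ (Scheme.Modules.pullbackCongr X.topIso.inv_hom_id.symm).app M ≪≫
    ((Scheme.Modules.pullbackComp t (⊤ : X.Opens).ι).app M).symm ≪≫
    (Scheme.Modules.pullback t).mapIso (((Scheme.Modules.restrictFunctorIsoPullback (⊤ : X.Opens).ι).app M).symm ≪≫ e ≪≫
      coproductUniqueIso _) ≪≫ e'⟩

variable {k : Type u} [Field k] {A : Over (Spec (CommRingCat.of k))} [GrpObj A] [IsProper A.hom]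
  [Smooth A.hom] [GeometricallyConnected A.hom]

/-- The skyscraper at the origin. -/
abbrev sky (A : Over (Spec (CommRingCat.of k))) [GrpObj A] : A.left.Modules :=
  (Scheme.Modules.pushforward η[A].left).obj (Coh.structureModule (Spec (CommRingCat.of k)))

/-- `RHom(k(0), O) ≅ k(0)[-g]`. -/
theorem nonempty_dual_sky {g : ℕ} (hg : topologicalKrullDim ↥A.left = g)
    [DCoh.HasLTensorCx ((HomologicalComplex.single A.left.Modules (ComplexShape.up ℤ) 0).obj (sky A))]
    [DCoh.HasRSheafHom ((HomologicalComplex.single A.left.Modules (ComplexShape.up ℤ) 0).obj (sky A))] :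
    Nonempty ((DCoh.RSheafHom ((HomologicalComplex.single A.left.Modules (ComplexShape.up ℤ) 0).obj (sky A))).obj
        (DCoh.inD A.left (Coh.structureModule A.left)) ≅
      (DerivedCategory.singleFunctor A.left.Modules (g : ℤ)).obj (sky A)) := by
  haveI := AVDual.geometricallyIntegral_of_smooth A
  haveI : IsIntegral A.left := GeometricallyIntegral.isIntegral_of_subsingleton A.hom
  let e : Spec (CommRingCat.of k) ⟶ A.left := η[A].left
  have he : e ≫ A.hom = 𝟙 _ := Over.w η[A]
  have hreg := isRegularImmersion_point A.hom e he hg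
  haveI : IsClosedImmersion e := by
    haveI : IsClosedImmersion (e ≫ A.hom) := by rw [he]; infer_instance
    exact IsClosedImmersion.of_comp e A.hom
  obtain ⟨L, -, hL⟩ := H28.ExtSh.exists_extPow (m := g) (RegConormal.isFinLocFree_conormal_h1 e
    (H28.DefRel.toKind e hreg .h1))
  obtain ⟨φ, hφ⟩ := id hL
  have hLi : PicF.IsInvertible L := RegExtFormula.isInvertible_L e φ hreg hφ
  haveI : Dual3.HasHomO e := (ClosedShriek.shriekAdj e).isLeftAdjoint
  haveI : HasInjectiveResolutions A.left.Modules := KFlatLib.hasInjectiveResolutions_modules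
  haveI : EnoughInjectives A.left.Modules := SpObjSS.enoughInjectives_of_hasInjectiveResolutions
  haveI := ClosedShriek.preservesFiniteColimits_push e
  haveI : PreservesFiniteLimits (Scheme.Modules.pushforward e) := by
    haveI := (Scheme.Modules.pullbackPushforwardAdjunction e).isRightAdjoint
    infer_instance
  haveI : Subsingleton ↥(Spec (CommRingCat.of k)) := inferInstanceAs (Subsingleton (PrimeSpectrum k))
  obtain ⟨eL⟩ := nonempty_iso_structure_of_subsingleton hLi (IsLocalRing.closedPoint k)
  let OD : DCoh.D A.left := DCoh.inD A.left (Coh.structureModule A.left)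
  haveI : OD.IsGE 0 := inferInstanceAs (((DerivedCategory.singleFunctor A.left.Modules 0).obj _).IsGE 0)
  let O : DerivedCategory.Plus A.left.Modules := ⟨OD, 0, inferInstanceAs (OD.IsGE 0)⟩
  obtain ⟨hz, ⟨eH⟩⟩ := KExact.RegShriek.main e hreg hL O (Iso.refl _)
  haveI : IsIso (DivisorExt.toHomUnit (Coh.structureModule (Spec (CommRingCat.of k)))) := DivisorExt.isIso_toHomUnit _
  let eO : (SheafHomX.hom L).obj (Coh.structureModule (Spec (CommRingCat.of k))) ≅
      Coh.structureModule (Spec (CommRingCat.of k)) :=
    ({ hom := (SheafHomX.homMap eL.inv).app _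
       inv := (SheafHomX.homMap eL.hom).app _
       hom_inv_id := by rw [← SheafHomX.homMap_comp, Iso.hom_inv_id, SheafHomX.homMap_id]
       inv_hom_id := by rw [← SheafHomX.homMap_comp, Iso.inv_hom_id, SheafHomX.homMap_id] } :
      (SheafHomX.hom L).obj (Coh.structureModule (Spec (CommRingCat.of k))) ≅ _) ≪≫
      (asIso (DivisorExt.toHomUnit (Coh.structureModule (Spec (CommRingCat.of k))))).symm
  obtain ⟨es⟩ := AVPoincareD.nonempty_iso_single ((Dual3.RHomOPlus e).obj O).obj (g : ℤ) _ hz (eH ≪≫ eO)
  obtain ⟨ep⟩ := KExact.RHomO.nonempty_pushD_RHomOPlus_iso e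
    ((HomologicalComplex.single A.left.Modules (ComplexShape.up ℤ) 0).obj (sky A))
    (((DerivedCategory.singleFunctorIsoCompQ A.left.Modules 0).app _).symm)
  exact ⟨(ep.app O).symm ≪≫ (Dual3.pushD e).mapIso es ≪≫
    ((Scheme.Modules.pushforward e).mapDerivedCategorySingleFunctor (g : ℤ)).app _⟩

end Groth.Agent.AVSkyDual
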