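import Groth.Agent.PicTangent.Cocycle

/-!
Invertible classes trivial modulo a square zero ideal of an arbitrary algebra are combinations of representatives
of first cohomology classes of functions.
-/

set_option autoImplicit false
set_option linter.style.haveILetI false
set_option linter.unusedSectionVars false
set_option maxHeartbeats 1000000
set_option backward.isDefEq.respectTransparency false
set_option backward.isDefEq.respectTransparency.types false

universe u

open CategoryTheory CategoryTheory.Limits AlgebraicGeometry MonoidalCategory CartesianMonoidalCategory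
  TopologicalSpace TensorProduct Opposite

noncomputable section

namespace Groth.Agent.AVSqZero

open Groth.Agent Groth.Agent.AModX Groth.Agent.InvX Groth.Agent.H23 Groth.Agent.H23.ProdFun
open Groth.Agent.GrLib8 Groth.Agent.PicTangent

variable {k : Type u} [Field k] {X : Over (Spec (CommRingCat.of k))} {ι : Type u} (U : ι → X.left.Opens)
  {R R₀ : Type u} [CommRing R] [Algebra k R] [CommRing R₀] [Algebra k R₀] (π : R →ₐ[k] R₀)

section Algebra

variable (A : Type u) [CommRing A] [Algebra k A]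

/-- Reduction of coefficients. -/
abbrev red : A ⊗[k] R →ₐ[k] A ⊗[k] R₀ := Algebra.TensorProduct.map (AlgHom.id k A) π

variable {π} {p : R →ₗ[k] R} (hp : ∀ x, π (p x) = 0) (hp' : ∀ x, π x = 0 → p x = x)
  (hI : ∀ x y, π x = 0 → π y = 0 → x * y = 0)

include hp' in
theorem proj_eq {z : A ⊗[k] R} (hz : red π A z = 0) : p.lTensor A z = z := by
  let v : LinearMap.ker π.toLinearMap →ₗ[k] R := (LinearMap.ker π.toLinearMap).subtype
  have he : Function.Exact (v.lTensor A) (π.toLinearMap.lTensor A) :=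
    Module.Flat.lTensor_exact A (fun x => ⟨fun h => ⟨⟨x, h⟩, rfl⟩, fun ⟨y, hy⟩ => hy ▸ y.2⟩)
  obtain ⟨w, rfl⟩ := (he z).1 hz
  rw [← LinearMap.lTensor_comp_apply]
  rw [show p ∘ₗ v = v from LinearMap.ext fun x => hp' x.1 x.2]

include hp hI in
theorem proj_mul_proj (z w : A ⊗[k] R) : p.lTensor A z * p.lTensor A w = 0 := by
  induction z using TensorProduct.induction_on with
  | zero => simp
  | add x y hx hy => simp [map_add, add_mul, hx, hy]
  | tmul a r =>
    induction w using TensorProduct.induction_on with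
    | zero => simp
    | add x y hx hy => rw [map_add, mul_add, hx, hy, add_zero]
    | tmul a' r' => simp [hI _ _ (hp r) (hp r')]

include hp hp' hI in
theorem mul_eq_zero {z w : A ⊗[k] R} (hz : red π A z = 0) (hw : red π A w = 0) : z * w = 0 := by
  rw [← proj_eq A hp' hz, ← proj_eq A hp' hw, proj_mul_proj A hp hI]

include hp hp' hI in
theorem isUnit_of_red {z : A ⊗[k] R} (hπ : Function.Surjective π) (h : IsUnit (red π A z)) : IsUnit z := by
  obtain ⟨v, hv⟩ := h.exists_right_inv
  obtain ⟨v', rfl⟩ := LinearMap.lTensor_surjective A (g := π.toLinearMap) hπ v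
  have h1 : red π A (z * v' - 1) = 0 := by rw [map_sub, map_mul, map_one]; exact sub_eq_zero.2 hv
  have h2 := mul_eq_zero A hp hp' hI h1 h1
  refine IsUnit.of_mul_eq_one (v' * (2 - z * v')) ?_
  linear_combination -h2

include hp in
theorem red_proj (z : A ⊗[k] R) : red π A (p.lTensor A z) = 0 := by
  induction z using TensorProduct.induction_on with
  | zero => simp
  | add x y hx hy => simp [map_add, hx, hy]
  | tmul a r => simp [hp]

end Algebra

theorem red_rT {A B : X.left.Opens} (h : B ≤ A) (z : Γ(X.left, A) ⊗[k] R) :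
    red π _ (rT X R h z) = rT X R₀ h (red π _ z) := by
  induction z using TensorProduct.induction_on with
  | zero => simp
  | add x y hx hy => simp [map_add, hx, hy]
  | tmul a r => simp

theorem isClosedImmersion_Q (hπ : Function.Surjective π) : IsClosedImmersion (Q X π).left := by
  haveI : IsClosedImmersion (Tmap π).left := IsClosedImmersion.spec_of_surjective _ hπ
  have h : IsPullback (Q X π).left (snd X (T (k := k) R₀)).left (snd X (T (k := k) R)).left (Tmap π).left := by
    refine IsPullback.of_right ?_ ?_ (IsPullback.of_hasPullback X.hom (T (k := k) R).hom)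
    · have e1 : (Q X π).left ≫ pullback.fst X.hom (T (k := k) R).hom = pullback.fst X.hom (T (k := k) R₀).hom := by
        rw [← Over.fst_left, ← Over.comp_left, tensorHom_fst, Category.comp_id]
        rfl
      rw [e1, Over.w]
      exact IsPullback.of_hasPullback X.hom (T (k := k) R₀).hom
    · rw [← Over.comp_left, ← Over.comp_left, tensorHom_snd]
  exact MorphismProperty.of_isPullback h.flip inferInstance

variable [IsSeparated X.hom] (hU : ∀ a, IsAffineOpen (U a)) {n : ℕ} (b : Module.Basis (Fin n) k (H1 U))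
  (hπ : Function.Surjective π) (hI : ∀ x y, π x = 0 → π y = 0 → x * y = 0)

include hU hπ in
/-- **An invertible class trivial modulo a square zero ideal is the class of a combination of representatives.** -/
theorem exists_lcl_eq [Finite ι] (hcov : ⨆ a, U a = ⊤) (c : PicF.Cl (X ⊗ T (k := k) R).left)
    (hc : PicF.IsInvertibleCl c)
    (h : PicF.pullCl (Q X π).left c = PicF.cl (Coh.structureModule (X ⊗ T (k := k) R₀).left)) :
    ∃ (t : Fin n → R) (ht : ∀ i, π (t i) = 0),
      c = lcl U (rep U b) (rep_cocycle U b) (r := t) (fun i j => hI _ _ (ht i) (ht j)) := by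
  classical
  obtain ⟨L, rfl, hL⟩ := hc
  let q := (Q X π).left
  haveI : IsClosedImmersion q := isClosedImmersion_Q π hπ
  obtain ⟨p, hp, hp'⟩ : ∃ p : R →ₗ[k] R, (∀ x, π (p x) = 0) ∧ ∀ x, π x = 0 → p x = x := by
    obtain ⟨g, hg⟩ := (LinearMap.ker π.toLinearMap).subtype.exists_leftInverse_of_injective
      (Submodule.ker_subtype _)
    exact ⟨(LinearMap.ker π.toLinearMap).subtype ∘ₗ g, fun x => (g x).2,
      fun x hx => congrArg Subtype.val (LinearMap.congr_fun hg ⟨x, hx⟩)⟩
  haveI : IsAffineHom (fst X (T (k := k) R)).left := by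
    haveI : IsAffineHom (T (k := k) R).hom := inferInstanceAs (IsAffineHom (Spec.map _))
    exact MorphismProperty.pullback_fst (P := @IsAffineHom) X.hom (T (k := k) R).hom ‹_›
  have hP : ∀ a, IsAffineOpen (P X R (U a)) := fun a => by
    rw [show P X R (U a) = (fst X (T (k := k) R)).left ⁻¹ᵁ U a from inf_eq_left.2 fun _ _ => trivial]
    exact (hU a).preimage _
  have hsq : ∀ a, ∀ f g : Γ((X ⊗ T (k := k) R).left, P X R (U a)),
      q.app _ f = 0 → q.app _ g = 0 → f * g = 0 := by
    intro a f g hf hg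
    obtain ⟨x, rfl⟩ := (Φ_bijective X (R := R) (U a) (hU a).isCompact).2 f
    obtain ⟨y, rfl⟩ := (Φ_bijective X (R := R) (U a) (hU a).isCompact).2 g
    have hx : ∀ x, q.app (P X R (U a)) (Φ X R (U a) x) = 0 → red π _ x = 0 := fun x hx => by
      apply (Φ_bijective X (R := R₀) (U a) (hU a).isCompact).1
      rw [map_zero, ← pullFun_Φ X π (U a) (P_preimage X _ _).ge]
      show (X ⊗ T (k := k) R₀).left.presheaf.map _ (q.app _ _) = 0
      rw [hx, map_zero]
    rw [← map_mul, mul_eq_zero _ hp hp' hI (hx x hf) (hx y hg), map_zero]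
  choose f hf using fun a => exists_frame_thick q (hP a) (hsq a) hL h
  obtain ⟨φ⟩ := (PicGrp.cl_eq_cl_iff _ _).1 h
  obtain ⟨G, hG⟩ := exists_global_frame φ
  choose w hw using fun a => PicH1.exists_unit (hG.res (le_top : P X R₀ (U a) ≤ ⊤))
    ((isFrame_pullElt q (hf a)).res (P_preimage X π (U a)).ge)
  choose u₀ hu₀ using fun a =>
    (Φ_bijective X (R := R₀) (U a) (hU a).isCompact).2 ((w a)⁻¹ : Γ((X ⊗ T (k := k) R₀).left, _)ˣ).val
  choose u hu' using fun a => LinearMap.lTensor_surjective Γ(X.left, U a) (g := π.toLinearMap) hπ (u₀ a)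
  have hu : ∀ a, red π _ (u a) = u₀ a := hu'
  have huu : ∀ a, IsUnit (u a) := fun a => by
    refine isUnit_of_red _ hp hp' hI hπ ?_
    obtain ⟨x, hx⟩ := (Φ_bijective X (R := R₀) (U a) (hU a).isCompact).2 (w a).val
    rw [hu]
    exact IsUnit.of_mul_eq_one x ((Φ_bijective X (R := R₀) (U a) (hU a).isCompact).1 (by
      rw [map_mul, map_one, hu₀, hx, Units.inv_mul]))
  let e : ∀ a, Γ(L, P X R (U a)) := fun a => Φ X R (U a) (u a) • f a
  have he : ∀ a, IsFrame (e a) := fun a => (hf a).isUnit_smul ((huu a).map _)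
  have hpull : ∀ (A : X.left.Opens) (x : Γ(X.left, A) ⊗[k] R) (W : (X ⊗ T (k := k) R).left.Opens) (hW : W ≤ P X R A)
      (W' : (X ⊗ T (k := k) R₀).left.Opens) (h' : W' ≤ q ⁻¹ᵁ W) (hW' : W' ≤ P X R₀ A),
      resR h' (q.app W (resR hW (Φ X R A x))) = resR hW' (Φ X R₀ A (red π _ x)) := by
    intro A x W hW W' h' hW'
    rw [← pullFun_Φ X π A (P_preimage X _ _).ge, KunnethH1.resR_pullFun, ← KunnethH1.pullFun_resR (Q X π) hW h']
    rfl
  have heG : ∀ a, res ((Scheme.Modules.pullback q).obj L) (P_preimage X π (U a)).ge (pullElt q (e a)) =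
      res ((Scheme.Modules.pullback q).obj L) le_top G := by
    intro a
    show res ((Scheme.Modules.pullback q).obj L) _ (pullElt q (_ • f a)) = _
    rw [PicH1.pullElt_smul, res_smul]
    have h1 := hpull (U a) (u a) _ le_rfl _ (P_preimage X π (U a)).ge le_rfl
    simp only [resR_self, hu, hu₀] at h1
    rw [h1, hw, ← mul_smul, Units.inv_mul, one_smul]
  clear_value e
  have hν : ∀ a a', ∃ ν : Γ(X.left, U a ⊓ U a') ⊗[k] R, red π _ ν = 1 ∧
      res L inf_le_left (e a) = resR (le_pair U a a') (Φ X R _ ν) • res L inf_le_right (e a') := by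
    intro a a'
    obtain ⟨g, hg⟩ := (he a').exists_coord (inf_le_right : P X R (U a) ⊓ P X R (U a') ≤ _) (res L inf_le_left (e a))
    have hW : P X R (U a ⊓ U a') ≤ P X R (U a) ⊓ P X R (U a') := fun y hy => ⟨⟨hy.1.1, hy.2⟩, ⟨hy.1.2, hy.2⟩⟩
    obtain ⟨ν, hν⟩ := (Φ_bijective X (R := R) _ (isCompact_pair U hU a a')).2 (resR hW g)
    have hg' : resR (le_pair U a a') (Φ X R _ ν) = g := by rw [hν, resR_resR, resR_self]
    refine ⟨ν, (Φ_bijective X (R := R₀) _ (isCompact_pair U hU a a')).1 ?_, by rw [hg']; exact hg⟩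
    have h' : P X R₀ (U a ⊓ U a') ≤ q ⁻¹ᵁ (P X R (U a) ⊓ P X R (U a')) := fun y hy =>
      hW ((P_preimage X π (U a ⊓ U a')).ge hy)
    have h1 := congrArg (fun x => res ((Scheme.Modules.pullback q).obj L) h' (pullElt q x)) hg
    simp only [PicH1.pullElt_smul, PicH1.pullElt_res, res_res, res_smul] at h1
    have ea : ∀ (b : ι) (hb : P X R₀ (U a ⊓ U a') ≤ q ⁻¹ᵁ P X R (U b)),
        res ((Scheme.Modules.pullback q).obj L) hb (pullElt q (e b)) =
          res ((Scheme.Modules.pullback q).obj L) le_top G := fun b hb => by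
      have hb' : P X R₀ (U a ⊓ U a') ≤ P X R₀ (U b) := hb.trans (P_preimage X π (U b)).le
      have := congrArg (res ((Scheme.Modules.pullback q).obj L) hb') (heG b)
      rwa [res_res, res_res] at this
    rw [ea a, ea a'] at h1
    have h2 := hG.coord_unique le_top ((one_smul _ _).trans h1)
    rw [map_one, h2, ← hg', hpull _ _ _ _ _ h' le_rfl, resR_self]
  choose ν hν1 hν2 using hν
  let y : ∀ r : ι × ι, Γ(X.left, U r.1 ⊓ U r.2) ⊗[k] R := fun r => ν r.1 r.2 - 1
  have hy0 : ∀ r, red π _ (y r) = 0 := fun r => by simp only [y, map_sub, map_one, hν1, sub_self]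
  have hy : ∀ a a' d, rT X R (le₁₂ U a a' d) (y (a', d)) - rT X R (le₀₂ U a a' d) (y (a, d)) +
      rT X R (le₀₁ U a a' d) (y (a, a')) = 0 := by
    intro a a' d
    have hmul : rT X R (le₀₂ U a a' d) (ν a d) =
        rT X R (le₀₁ U a a' d) (ν a a') * rT X R (le₁₂ U a a' d) (ν a' d) := by
      apply (Φ_bijective X (R := R) _ (isCompact_triple U hU a a' d)).1
      rw [map_mul, ← resR_Φ, ← resR_Φ, ← resR_Φ]
      let W := P X R (U a ⊓ U a' ⊓ U d)
      have ha : W ≤ P X R (U a) := P_mono X (inf_le_left.trans inf_le_left)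
      have ha' : W ≤ P X R (U a') := P_mono X (inf_le_left.trans inf_le_right)
      have hd : W ≤ P X R (U d) := P_mono X inf_le_right
      have h1 := congrArg (res L (le_inf ha hd)) (hν2 a d)
      have h2 := congrArg (res L (le_inf ha ha')) (hν2 a a')
      have h3 := congrArg (res L (le_inf ha' hd)) (hν2 a' d)
      rw [res_smul, res_res, res_res, resR_resR] at h1 h2 h3
      rw [h3, ← mul_smul] at h2
      exact (he d).coord_unique hd (h1.symm.trans h2)
    have hz : ∀ {A B : X.left.Opens} (hh : B ≤ A) (x : Γ(X.left, A) ⊗[k] R), red π _ x = 0 →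
        red π _ (rT X R hh x) = 0 := fun hh x hx => by rw [red_rT, hx, map_zero]
    have h4 := mul_eq_zero _ hp hp' hI (hz (le₀₁ U a a' d) _ (hy0 (a, a'))) (hz (le₁₂ U a a' d) _ (hy0 (a', d)))
    simp only [y, map_sub, map_one] at h4 ⊢
    linear_combination (-1 : Γ(X.left, U a ⊓ U a' ⊓ U d) ⊗[k] R) * hmul - h4
  obtain ⟨t, s, hts⟩ := exists_decomp U b R y hy
  have hlT : ∀ {A B : X.left.Opens} (hh : B ≤ A) (x : Γ(X.left, A) ⊗[k] R),
      p.lTensor _ (rT X R hh x) = rT X R hh (p.lTensor _ x) := fun hh x => lT_rT hh p x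
  refine ⟨fun i => p (t i), fun i => hp _, cl_eq_lcl U (rep U b) (rep_cocycle U b) _ hcov
    (fun a => Φ X R (U a) (1 + p.lTensor _ (s a)) • e a)
    (fun a => (he a).isUnit_smul ((isUnit_of_red _ hp hp' hI hπ (by simp [red_proj _ hp])).map _)) fun a a' => ?_⟩
  rw [res_smul, res_smul, hν2 a a', ← mul_smul, ← mul_smul]
  congr 1
  have hW : P X R (U a ⊓ U a') ≤ P X R (U a) ⊓ P X R (U a') := fun y hy => ⟨⟨hy.1.1, hy.2⟩, ⟨hy.1.2, hy.2⟩⟩
  have key : rT X R inf_le_left (1 + p.lTensor _ (s a)) * ν a a' =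
      tf U (rep U b) (r := fun i => p (t i)) a a' * rT X R inf_le_right (1 + p.lTensor _ (s a')) := by
    have e1 := congrArg (p.lTensor _) (hts a a')
    rw [proj_eq _ hp' (hy0 (a, a'))] at e1
    simp only [map_add, map_sub, map_sum, LinearMap.lTensor_tmul, hlT] at e1
    have z1 : red π _ (rT X R (inf_le_left : U a ⊓ U a' ≤ _) (p.lTensor _ (s a))) = 0 := by
      rw [red_rT, red_proj _ hp, map_zero]
    have z2 : red π _ (rT X R (inf_le_right : U a ⊓ U a' ≤ _) (p.lTensor _ (s a'))) = 0 := by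
      rw [red_rT, red_proj _ hp, map_zero]
    have z3 : red π Γ(X.left, U a ⊓ U a') (∑ i, rep U b i (a, a') ⊗ₜ[k] p (t i)) = 0 := by
      simp [map_sum, hp]
    have m1 := mul_eq_zero _ hp hp' hI z1 (hy0 (a, a'))
    have m2 := mul_eq_zero _ hp hp' hI z3 z2
    simp only [map_add, map_one, tf, el, y] at e1 m1 m2 ⊢
    linear_combination e1 + m1 - m2
  have h5 := congrArg (fun x => resR (le_pair U a a') (Φ X R _ x)) key
  simp only [map_mul, ← resR_Φ, resR_resR] at h5
  exact h5

end Groth.Agent.AVSqZero
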