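import Groth.Agent.Lib.AVLamKer
import Groth.Agent.Lib.AVGraphPair
import Groth.Agent.Lib.AVTorsIso
import Groth.Agent.Lib.AVSepClassify
import Groth.Agent.S19948
import Groth.Agent.GrpSchLib.AntiAffineBC

/-!
Symmetric homomorphisms to the dual over an algebraically closed field come from invertible modules.
-/

set_option autoImplicit false
set_option linter.style.haveILetI false
set_option linter.unusedSectionVars false
set_option backward.isDefEq.respectTransparency false
set_option backward.isDefEq.respectTransparency.types false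
set_option maxHeartbeats 2000000
set_option synthInstance.maxHeartbeats 400000

universe u

open CategoryTheory CategoryTheory.Limits MonoidalCategory CartesianMonoidalCategory MonObj AlgebraicGeometry TopologicalSpace

noncomputable section

namespace Groth.Agent.AVSymmetric

open Groth.Agent.H23 Groth.Agent.AVPair Groth.Agent.AVLambda Groth.Agent.AVKLExist Groth.Agent.AVDegPoly
open ThetaGrp ThetaPts ThetaScalar ThetaLift
open scoped CategoryTheory.Obj
attribute [local instance] PicMul.clMonoid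

variable {k : Type u} [Field k] {A : Over (Spec (CommRingCat.of k))} [GrpObj A] [IsCommMonObj A]
  [IsProper A.hom] [GeometricallyIntegral A.hom]

local notation3 "pt₀" => 𝟙_ (Over (Spec (CommRingCat.of k)))

/-- `K(L)` exists as a closed subscheme. -/
theorem exists_isKL {L : A.left.Modules} (hL : PicF.IsInvertible L) :
    ∃ (K : Over (Spec (CommRingCat.of k))) (i : K ⟶ A), IsKL A L i := by
  obtain ⟨K, i, hi, hu⟩ := AVSepClassify.exists_closed_locus (A := A) (B := A) (AVDual.pz_invertible (pz_base hL))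
    (base_axis hL)
  refine ⟨K, i, hi, fun T z => ?_⟩
  rw [← hu T z, ← AVLamKer.mum_eq hL z]
  exact ⟨fun h => (congrArg Units.val (AVDualExist.mum_eq_one hL h)).trans rfl,
    fun h => AVLamKer.mumford_of_mum hL (Units.ext h)⟩

omit [IsCommMonObj A] in
/-- Multiplication by a positive integer, as the power of the identity. -/
theorem pow_props {m : ℕ} (hm : 0 < m) :
    IsFinite (𝟙 A ^ m : A ⟶ A).left ∧ Flat (𝟙 A ^ m : A ⟶ A).left ∧ Surjective (𝟙 A ^ m : A ⟶ A).left := by
  have h := AVDegLib.zpow_props (A := A) (m : ℤ) (by exact_mod_cast hm.ne')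
  rwa [zpow_natCast] at h

/-- **The `m`-torsion is isotropic when the `m²`-torsion lies in `K(L)`**, in any characteristic. -/
theorem isIsotropic {L : A.left.Modules} (hL : PicF.IsInvertible L) {m : ℕ} (hm : 0 < m)
    (htriv : ∀ {T : Over (Spec (CommRingCat.of k))} (x : T ⟶ A), x ^ (m ^ 2) = 1 → IsMumfordTriv A L x)
    {P : Over (Spec (CommRingCat.of k))} {iP : P ⟶ A} (hP : iP ^ m = 1) : IsIsotropic L iP := by
  intro T x y β₁ β₂ h₁ h₂
  rw [← cm_eq_one_iff hL]
  have hxm : ∀ {U : Over (Spec (CommRingCat.of k))} (z : U ⟶ P), (z ≫ iP) ^ m = 1 := fun z => by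
    rw [← MonObj.comp_pow, hP, MonObj.comp_one]
  obtain ⟨hf, hfl, hs⟩ := pow_props (A := A) hm
  haveI := hf; haveI := hfl; haveI := hs
  let n : A ⟶ A := 𝟙 A ^ m
  let ql := pullback.fst (y ≫ iP).left n.left
  let T' : Over (Spec (CommRingCat.of k)) := Over.mk (ql ≫ T.hom)
  let q : T' ⟶ T := Over.homMk ql rfl
  haveI : Flat q.left := MorphismProperty.pullback_fst (P := @Flat) _ _ hfl
  haveI : Surjective q.left := MorphismProperty.pullback_fst (P := @Surjective) _ _ hs
  haveI : IsFinite q.left := MorphismProperty.pullback_fst (P := @IsFinite) _ _ hf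
  haveI : Epi q.left := Flat.epi_of_flat_of_surjective _
  let r : T' ⟶ A := Over.homMk (pullback.snd (y ≫ iP).left n.left) (by
    show pullback.snd _ _ ≫ A.hom = pullback.fst _ _ ≫ T.hom
    rw [← Over.w n, ← pullback.condition_assoc, Over.w (y ≫ iP)])
  have hr : r ^ m = q ≫ y ≫ iP := by
    have h : r ≫ n = q ≫ y ≫ iP := Over.OverMorphism.ext pullback.condition.symm
    rwa [MonObj.comp_pow, Category.comp_id] at h
  have hinj : Function.Injective (Units.map q.left.appTop.hom.toMonoidHom) :=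
    Units.map_injective (GrpSchLib.AntiAffine.appTop_injective_of_epi q.left)
  refine hinj ?_
  rw [map_one, ← cm_bc hL]
  refine units_ext_of_cover fun t => ?_
  have hx' := htriv (q ≫ x ≫ iP) (by rw [← MonObj.comp_pow, pow_two, pow_mul, hxm, one_pow, MonObj.comp_one])
  have hr' := htriv r (by rw [pow_two, pow_mul, hr, ← Category.assoc, hxm (q ≫ y)])
  obtain ⟨U, htU, α₀, hα₀⟩ := exists_local hL hx' t
  obtain ⟨V, htV, γ₀, hγ₀⟩ := exists_local hL hr' t
  refine ⟨U ⊓ V, ⟨htU, htV⟩, ?_⟩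
  rw [map_one, ← cm_bc hL, cm_eq_one_iff]
  let gU : opn T' (U ⊓ V) ⟶ opn T' U := Over.homMk (T'.left.homOfLE (inf_le_left : U ⊓ V ≤ U)) (by simp)
  let gV : opn T' (U ⊓ V) ⟶ opn T' V := Over.homMk (T'.left.homOfLE (inf_le_right : U ⊓ V ≤ V)) (by simp)
  have hU : gU ≫ inc U = inc (U ⊓ V) := Over.OverMorphism.ext (T'.left.homOfLE_ι (inf_le_left : U ⊓ V ≤ U))
  have hV : gV ≫ inc V = inc (U ⊓ V) := Over.OverMorphism.ext (T'.left.homOfLE_ι (inf_le_right : U ⊓ V ≤ V))
  let W := inc (U ⊓ V)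
  have hα : IsOverPt (bc gU α₀) (W ≫ q ≫ x ≫ iP) := by
    have h := isOverPt_bc gU hα₀
    rwa [← Category.assoc gU, hU] at h
  have hγ : IsOverPt (bc gV γ₀) (W ≫ r) := by
    have h := isOverPt_bc gV hγ₀
    rwa [← Category.assoc gV, hV] at h
  have hpow : ∀ (j : ℕ) {δ : thetaPts A L (opn T' (U ⊓ V))} {c : opn T' (U ⊓ V) ⟶ A},
      IsOverPt δ c → IsOverPt (δ ^ j) (c ^ j) := by
    intro j δ c h
    induction j with
    | zero => rw [pow_zero, pow_zero]; exact isOverPt_one _
    | succ j ih =>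
      have h' := isOverPt_mul ih h
      rw [pow_succ, pow_succ']
      exact h'
  have hcen : ∀ {δ : thetaPts A L (opn T' (U ⊓ V))}, IsOverPt δ 1 → ∀ g, Commute δ g := by
    intro δ h g
    obtain ⟨c, rfl⟩ := exists_eq_sc hL h
    exact sc_comm hL c g
  have hcomm : Commute (bc gU α₀) (bc gV γ₀ ^ m) := by
    refine AVTorsIso.commute_pow_of_central (hcen ?_) (hcen ?_)
    · have h := isOverPt_mul (isOverPt_mul (isOverPt_mul hα hγ) (isOverPt_inv hα)) (isOverPt_inv hγ)
      rwa [mul_comm (W ≫ r) (W ≫ q ≫ x ≫ iP), inv_mul_cancel_left, inv_mul_cancel] at h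
    · have h := hpow m hα
      rwa [← MonObj.comp_pow, ← MonObj.comp_pow, hxm, MonObj.comp_one, MonObj.comp_one] at h
  have hγm : IsOverPt (bc gV γ₀ ^ m) (W ≫ q ≫ y ≫ iP) := by
    have h := hpow m hγ
    rwa [← MonObj.comp_pow, hr] at h
  exact commute_congr hL hα (isOverPt_bc W (isOverPt_bc q h₁)) hγm (isOverPt_bc W (isOverPt_bc q h₂)) hcomm.eq

variable {At : Over (Spec (CommRingCat.of k))} [GrpObj At] [IsCommMonObj At] [IsProper At.hom]
  [GeometricallyIntegral At.hom]
  {φ : AgPol.DualMap A At} (hφ : AbDual.IsDualAV Scheme.fppfPrecoverage A At φ)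

omit [IsProper At.hom] [GeometricallyIntegral At.hom] in
/-- The attached homomorphism satisfies the defining condition. -/
theorem isLambda_lam {L : A.left.Modules} (hL : PicF.IsInvertible L) :
    AgPol.IsLambda A At φ L (lam φ hL) := by
  obtain ⟨N, hNc, hN⟩ := AVDual.pz_invertible (pz_base hL)
  refine ⟨N, hN, (PicGrp.cl_eq_cl_iff _ _).1 ?_, by rw [hNc]⟩
  show (PicF.cl N : PicF.Cl (A ⊗ A).left) * pl (fst A A) (PicF.cl L) * pl (snd A A) (PicF.cl L) =
    pl μ[A] (PicF.cl L)
  have e2 : base hL * val (q hL (fst A A)) * val (q hL (snd A A)) = val (q hL (fst A A * snd A A)) := by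
    have := congrArg val (div_mul_cancel (q hL (fst A A * snd A A)) (q hL (fst A A) * q hL (snd A A)))
    simp only [val, Subgroup.coe_mul, Units.val_mul] at this
    exact (_root_.mul_assoc _ _ _).trans this
  rw [show fst A A * snd A A = μ[A] by rw [Hom.mul_def, lift_fst_snd, Category.id_comp]] at e2
  rw [hNc]
  exact e2

variable [IsAlgClosed k] {φ' : AgPol.DualMap At A} (hφ' : AbDual.IsDualAV Scheme.fppfPrecoverage At A φ')
  {ξ : PicF.Cl (A ⊗ At).left} (hξ : AbDual.IsPoincareCl A At φ ξ)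
  (hξ' : AbDual.IsPoincareCl At A φ' (pl (lift (snd At A) (fst At A)) ξ))

include hφ hφ' hξ hξ' in
/-- **Symmetric homomorphisms come from invertible modules.** -/
theorem exists_module {lm : A ⟶ At} [IsMonHom lm] (hsymm : AbDual.IsTranspose lm φ φ' lm) :
    ∃ (M : A.left.Modules) (hM : PicF.IsInvertible M), lm = lam φ hM := by
  haveI : Smooth A.hom := S7795.result A
  haveI : Smooth At.hom := S7795.result At
  haveI : IsIntegral A.left := GeometricallyIntegral.isIntegral_of_subsingleton A.hom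
  -- the biadditive class of `lm`
  let b : PicF.Cl (A ⊗ A).left := pl (A ◁ lm) ξ
  have hb : AVDual.PZ A A b := AVDual.pz_pl lm hξ.1
  have hξ2 : pl (lift (1 : At ⟶ A) (𝟙 At)) ξ = 1 := by
    have := hξ.2.2
    rw [AVDual.secT_eq] at this
    exact this
  have hξ2' : pl (lift (𝟙 A) (1 : A ⟶ At)) ξ = 1 := by
    have := hξ'.2.2
    rw [AVDual.secT_eq] at this
    change pl (lift (1 : A ⟶ At) (𝟙 A)) (pl (lift (snd At A) (fst At A)) ξ) = 1 at this
    rwa [pl_pl, comp_lift, lift_snd, lift_fst] at this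
  have hφb : φ A b = lm := by rw [AVDual.phi_pl hφ lm hξ.1, hξ.2.1, Category.comp_id]
  have hb1 : pl (lift (1 : A ⟶ A) (𝟙 A)) b = 1 := by
    rw [pl_pl, lift_whiskerLeft, Category.id_comp,
      show lift (1 : A ⟶ A) lm = lm ≫ lift (1 : At ⟶ A) (𝟙 At) by
        rw [comp_lift, MonObj.comp_one, Category.comp_id], ← pl_pl, hξ2, map_one]
  have hb2 : pl (lift (𝟙 A) (1 : A ⟶ A)) b = 1 := by
    rw [pl_pl, lift_whiskerLeft, MonObj.one_comp, hξ2']
  -- symmetry
  have hsw : pl (lift (snd A A) (fst A A)) b = b := by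
    have e : pl (lift (snd A A) (fst A A)) b = pl (lm ▷ A) (pl (lift (snd At A) (fst At A)) ξ) := by
      rw [pl_pl, pl_pl, lift_whiskerLeft, comp_lift, whiskerRight_snd, whiskerRight_fst]
    have hz : AVDual.PZ A A (pl (lift (snd A A) (fst A A)) b) := by
      rw [e]
      have h := AbDualBase.pz_bc lm hξ'.1
      rw [AVDual.bcMap_eq] at h
      exact h
    refine AVDual.eq_of_phi hφ hz hb ?_ (1 : A ⟶ A) ?_
    · rw [hφb, e]
      have h := hsymm A (pl (lift (snd At A) (fst At A)) ξ) hξ'.1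
      rw [AVDual.bcMap_eq, hξ'.2.1] at h
      exact h.trans (Category.id_comp lm)
    · rw [hb1, pl_pl, comp_lift, lift_snd, lift_fst, hb2]
  -- the restriction to the diagonal
  obtain ⟨N, hNc, hN⟩ := isInv_pl (lift (𝟙 A) (𝟙 A)) (AVDual.pz_invertible hb)
  let N2 := CohB1.tensorMod N N
  have hN2 : PicF.IsInvertible N2 := PicMul.isInvertible_tensor hN hN
  have hbase : base hN = b * b := by
    have hq : ∀ (f : A ⊗ A ⟶ A), val (q hN f) = pl (lift f f) b := fun f => by
      show pl f (PicF.cl N) = _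
      rw [hNc, pl_pl, comp_lift, Category.comp_id]
    have e := congrArg val (div_mul_cancel (q hN (fst A A * snd A A)) (q hN (fst A A) * q hN (snd A A)))
    simp only [val, Subgroup.coe_mul, Units.val_mul] at e
    change base hN * (val (q hN (fst A A)) * val (q hN (snd A A))) = val (q hN (fst A A * snd A A)) at e
    rw [hq, hq, hq, AVPair.add_left (AVDual.pz_invertible hb) hb1 hb2,
      AVPair.add_right (AVDual.pz_invertible hb) hb1 hb2, AVPair.add_right (AVDual.pz_invertible hb) hb1 hb2,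
      lift_fst_snd, pl_id, hsw] at e
    refine (((PicMul.isUnit_of_isInvertibleCl (isInv_pl _ (AVDual.pz_invertible hb))).mul
      (PicMul.isUnit_of_isInvertibleCl (isInv_pl _ (AVDual.pz_invertible hb)))).mul_right_cancel
      (e.trans ?_))
    ac_rfl
  have hlN : lam φ hN = lm ^ 2 := by
    show φ A (base hN) = _
    rw [hbase, AVDual.phi_mul hφ hb hb, hφb, pow_two]
  have hpol2 : ∀ {T : Over (Spec (CommRingCat.of k))} (f g : T ⟶ A), polar hN2 f g = polar hN f g ^ 2 := by
    intro T f g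
    have hq : ∀ (h : T ⟶ A), q hN2 h = q hN h ^ 2 := fun h => val_injective (by
      show pl h (PicF.cl (CohB1.tensorMod N N)) = val _
      rw [PicMul.cl_tensor, map_mul, pow_two]
      rfl)
    simp only [polar, hq, ← mul_pow, div_pow]
  have hlN2 : lam φ hN2 = lm ^ 4 := by
    show φ A (base hN2) = _
    rw [base, hpol2, val_pow, phi_base_pow hN hφ, hlN, ← pow_mul]
  -- descent along multiplication by two
  obtain ⟨hf, hfl, hs⟩ := pow_props (A := A) (m := 2) two_pos
  haveI := hf; haveI := hfl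
  let n : A ⟶ A := 𝟙 A ^ 2
  haveI : IsMonHom n := GrpSchLib.RigidHom.isMonHom_of_one _ (by
    rw [MonObj.comp_pow, Category.comp_id, MonObj.one_eq_one, one_pow])
  obtain ⟨Kn, _, i, _, -, -, hk⟩ := GrpSchLib.exists_kernel n
  have hi : i ^ 2 = 1 := by
    have h : i ≫ n = 1 := hk.w.trans Hom.one_def.symm
    rwa [MonObj.comp_pow, Category.comp_id] at h
  have htriv : ∀ {T : Over (Spec (CommRingCat.of k))} (x : T ⟶ A), x ^ (2 ^ 2) = 1 → IsMumfordTriv A N2 x :=
    fun {T} x hx => AVLamKer.mumford_of_mum hN2 ((AVLamKer.mum_eq_one_iff hN2 hφ x).2 (by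
      rw [hlN2, MonObj.comp_pow, ← MonObj.pow_comp]
      exact (congrArg (· ≫ lm) hx).trans (MonObj.one_comp lm)))
  obtain ⟨KE, iKE, hKE⟩ := exists_isKL hN2
  obtain ⟨M, hM, ⟨e⟩⟩ := (S19948.result k A A n hs Kn i hk N2 hN2 KE iKE hKE).2
    ⟨(hKE.univ _ _).1 (htriv i (by rw [pow_two, pow_mul, hi, one_pow])), isIsotropic hN2 two_pos htriv hi⟩
  refine ⟨M, hM, ?_⟩
  haveI := isMonHom_lam hM hφ
  refine AVGraphPair.eq_of_pow_eq lm (lam φ hM) (by norm_num : 0 < 4) ?_
  rw [← hlN2, ← phi_base_pow hM hφ]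
  show φ A (base hN2) = _
  refine congrArg (φ A) ?_
  rw [base, base, ← val_pow]
  refine congrArg val ?_
  have hq : ∀ (h : A ⊗ A ⟶ A), q hN2 h = q hM (h ^ 2) := fun h => val_injective (by
    show pl h (PicF.cl N2) = pl (h ^ 2) (PicF.cl M)
    rw [← (PicGrp.cl_eq_cl_iff _ _).2 ⟨e⟩, show h ^ 2 = h ≫ n by rw [MonObj.comp_pow, Category.comp_id], ← pl_pl]
    rfl)
  have hpn : polar hN2 (fst A A) (snd A A) = polar hM (fst A A ^ 2) (snd A A ^ 2) := by
    simp only [polar, hq, mul_pow]
  rw [hpn, pow_two, pow_two, polar_mul_left, polar_mul_right]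
  simp only [pow_succ, pow_zero, _root_.one_mul, _root_.mul_assoc]

end Groth.Agent.AVSymmetric
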