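import Groth.Agent.Lib.AVHomForm
import Groth.Agent.Lib.AVHomLattice
import Groth.Agent.Lib.AVSeesaw
import Groth.Agent.Lib.AVPair
import Groth.Agent.Lib.AVNu
import Groth.Prelude.Def_EndRing

/-!
The trace of an endomorphism as an intersection number, and the universal form of relations `φ_M ∘ a = b^* ∘ φ_L`.
-/

set_option autoImplicit false
set_option linter.style.haveILetI false
set_option linter.unusedSectionVars false
set_option backward.isDefEq.respectTransparency false
set_option backward.isDefEq.respectTransparency.types false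
set_option maxHeartbeats 1000000
set_option synthInstance.maxHeartbeats 400000

universe u

open CategoryTheory CategoryTheory.Limits MonoidalCategory CartesianMonoidalCategory MonObj AlgebraicGeometry TopologicalSpace
open Groth.Agent.H23

noncomputable section

namespace Groth.Agent.AVTrace

attribute [local instance] PicMul.clMonoid

variable {k : Type u} [Field k]

local instance overLeft (T : Over (Spec (CommRingCat.of k))) : T.left.Over (Spec (CommRingCat.of k)) := ⟨T.hom⟩

local instance isProper_overLeft (T : Over (Spec (CommRingCat.of k))) [IsProper T.hom] :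
    IsProper (T.left ↘ Spec (CommRingCat.of k)) := ‹IsProper T.hom›

/-- Pullback of invertible classes. -/
def plInv {T T' : Over (Spec (CommRingCat.of k))} (φ : T' ⟶ T) : TopInt.inv T.left →* TopInt.inv T'.left where
  toFun c := ⟨Units.map (PicMul.pullHom φ.left : PicF.Cl T.left →* PicF.Cl T'.left) c.1,
    PicClLib.isInvertibleCl_pullCl φ.left c.2⟩
  map_one' := Subtype.ext (map_one _)
  map_mul' a b := Subtype.ext (map_mul (Units.map (PicMul.pullHom φ.left : PicF.Cl T.left →* PicF.Cl T'.left)) a.1 b.1)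

variable {A : Over (Spec (CommRingCat.of k))} [GrpObj A] [IsCommMonObj A] [IsProper A.hom] [GeometricallyIntegral A.hom]
  {L M : A.left.Modules} (hL : PicF.IsInvertible L) (hM : PicF.IsInvertible M)

theorem plInv_q {T T' : Over (Spec (CommRingCat.of k))} (φ : T' ⟶ T) (f : T ⟶ A) :
    plInv φ (AVDegPoly.q hL f) = AVDegPoly.q hL (φ ≫ f) :=
  Subtype.ext (AVCube.pull_pc hL φ f)

theorem plInv_polar {T T' : Over (Spec (CommRingCat.of k))} (φ : T' ⟶ T) (f g : T ⟶ A) :
    plInv φ (AVDegPoly.polar hL f g) = AVDegPoly.polar hL (φ ≫ f) (φ ≫ g) := by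
  rw [AVDegPoly.polar, map_div, map_mul, plInv_q, plInv_q, plInv_q, MonObj.comp_mul]
  rfl

theorem polar_one_right {T : Over (Spec (CommRingCat.of k))} (f : T ⟶ A) : AVDegPoly.polar hL f 1 = 1 := by
  rw [AVDegPoly.polar, _root_.mul_one, AVDegPoly.q_one, _root_.mul_one, div_self']

theorem polar_one_left {T : Over (Spec (CommRingCat.of k))} (g : T ⟶ A) : AVDegPoly.polar hL (1 : T ⟶ A) g = 1 := by
  rw [AVDegPoly.polar_comm, polar_one_right]

/-- Relations checked on rational points hold universally. -/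
theorem polar_rel [IsAlgClosed k] (a a' b : A ⟶ A) [IsMonHom a] [IsMonHom a'] [IsMonHom b] (p n : ℕ)
    (h : ∀ x : 𝟙_ (Over (Spec (CommRingCat.of k))) ⟶ A,
      AVDegPoly.polar hM a (toUnit A ≫ x) ^ p = AVDegPoly.polar hL a' (toUnit A ≫ x ≫ b) ^ n)
    {T : Over (Spec (CommRingCat.of k))} (f g : T ⟶ A) :
    AVDegPoly.polar hM (f ≫ a) g ^ p = AVDegPoly.polar hL (f ≫ a') (g ≫ b) ^ n := by
  haveI : IsIntegral A.left := GeometricallyIntegral.isIntegral_of_subsingleton A.hom
  haveI : IsReduced (A ⊗ A).left := FBaseLib.isReduced_pullback A.hom A.hom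
  let c : TopInt.inv (A ⊗ A).left := AVDegPoly.polar hM (fst A A ≫ a) (snd A A) ^ p /
    AVDegPoly.polar hL (fst A A ≫ a') (snd A A ≫ b) ^ n
  have hpl : ∀ {T' : Over (Spec (CommRingCat.of k))} (f' g' : T' ⟶ A), plInv (lift f' g') c =
      AVDegPoly.polar hM (f' ≫ a) g' ^ p / AVDegPoly.polar hL (f' ≫ a') (g' ≫ b) ^ n := fun f' g' => by
    simp only [c, map_div, map_pow, plInv_polar, lift_fst, lift_fst_assoc, lift_snd, lift_snd_assoc]
  obtain ⟨N, hNc, hN⟩ := (show PicF.IsInvertibleCl ((c.1 : (PicF.Cl (A ⊗ A).left)ˣ) : PicF.Cl (A ⊗ A).left) from c.2)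
  have htriv : ∀ {T' : Over (Spec (CommRingCat.of k))} (φ : T' ⟶ A ⊗ A), plInv φ c = 1 →
      TrivBasic.Triv ((Scheme.Modules.pullback φ.left).obj N) := fun {T'} φ hφ => by
    rw [AVPair.triv_iff, hNc]
    exact congrArg (fun z : TopInt.inv T'.left => Units.val z.1) hφ
  have hc : c = 1 := by
    have hsl : ∀ x : 𝟙_ (Over (Spec (CommRingCat.of k))) ⟶ A, plInv (lift (𝟙 A) (toUnit A ≫ x)) c = 1 := fun x => by
      rw [hpl, Category.id_comp, Category.id_comp, div_eq_one, Category.assoc]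
      exact h x
    have hax : plInv (lift (1 : A ⟶ A) (𝟙 A)) c = 1 := by
      rw [hpl, MonObj.one_comp, MonObj.one_comp, polar_one_left, polar_one_left, one_pow, one_pow, div_one]
    have ht := AVSeesaw.triv_of_slices A A N hN
      (AVSeesaw.triv_fibre_of_points A A N fun x => htriv _ (hsl x)) (1 : A ⟶ A) (htriv _ hax)
    have ht' : PicF.cl N = 1 := (PicGrp.cl_eq_cl_iff _ _).2 ht
    exact Subtype.ext (Units.ext (hNc.symm.trans ht'))
  have h2 := hpl f g
  rw [hc, map_one, eq_comm, div_eq_one] at h2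
  exact h2

/-- The relation from translated modules. -/
theorem polar_const (a : A ⟶ A) [IsMonHom a] (x : 𝟙_ (Over (Spec (CommRingCat.of k))) ⟶ A) :
    AVDegPoly.q hL (a ≫ (𝟙 A * (toUnit A ≫ x))) =
      AVDegPoly.polar hL a (toUnit A ≫ x) * AVDegPoly.q hL a := by
  have e : AVDegPoly.q hL (toUnit A ≫ x) = 1 := Subtype.ext (AVCube.pc_const hL x)
  rw [MonObj.comp_mul, Category.comp_id, ← Category.assoc, toUnit_unique (a ≫ toUnit A) (toUnit A), AVDegPoly.polar, e,
    _root_.mul_one, div_mul_cancel]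

theorem val_q_translate (a : A ⟶ A) (x : 𝟙_ (Over (Spec (CommRingCat.of k))) ⟶ A) :
    (((AVDegPoly.q hL (a ≫ (𝟙 A * (toUnit A ≫ x)))) : (PicF.Cl A.left)ˣ) : PicF.Cl A.left) =
      PicF.pullCl a.left (PicF.pullCl (𝟙 A * (toUnit A ≫ x)).left (PicF.cl L)) := by
  rw [PicClLib.pullCl_comp]
  rfl

/-- An isomorphism `t_{b x}^*L ⊗ a^*M^n ≅ L ⊗ a^*t_x^*M^n` in classes. -/
theorem polar_of_transpose (a b : A ⟶ A) [IsMonHom a] (n : ℕ) (x : 𝟙_ (Over (Spec (CommRingCat.of k))) ⟶ A)
    (h : Nonempty (CohB1.tensorMod ((Scheme.Modules.pullback ((𝟙 A * (toUnit A ≫ x ≫ b))).left).obj L)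
        ((Scheme.Modules.pullback a.left).obj (CohB1.tensorPow M n)) ≅
      CohB1.tensorMod L ((Scheme.Modules.pullback a.left).obj
        ((Scheme.Modules.pullback ((𝟙 A * (toUnit A ≫ x))).left).obj (CohB1.tensorPow M n))))) :
    AVDegPoly.polar hM a (toUnit A ≫ x) ^ n = AVDegPoly.polar hL (𝟙 A) (toUnit A ≫ x ≫ b) := by
  have h1 : AVDegPoly.q hL (𝟙 A ≫ (𝟙 A * (toUnit A ≫ x ≫ b))) * AVDegPoly.q hM a ^ n =
      AVDegPoly.q hL (𝟙 A) * AVDegPoly.q hM (a ≫ (𝟙 A * (toUnit A ≫ x))) ^ n := by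
    refine Subtype.ext (Units.ext ?_)
    have h0 := (PicMul.cl_eq_iff.2 h)
    rw [PicMul.cl_tensor, PicMul.cl_tensor] at h0
    simp only [Subgroup.coe_mul, SubmonoidClass.coe_pow, Units.val_mul, Units.val_pow_eq_pow_val, val_q_translate]
    rw [Over.id_left, PicClLib.pullCl_id]
    refine Eq.trans ?_ (h0.trans ?_)
    · show _ * PicF.pullCl a.left (PicF.cl M) ^ n = _ * PicF.pullCl a.left (PicF.cl (CohB1.tensorPow M n))
      rw [PicMul.cl_tensorPow, PicMul.pullCl_pow]
      rfl
    · show _ * PicF.pullCl a.left (PicF.pullCl _ (PicF.cl (CohB1.tensorPow M n))) = _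
      rw [PicMul.cl_tensorPow, PicMul.pullCl_pow, PicMul.pullCl_pow]
      congr 1
      exact (AVCube.val_pc_id hL).symm
  rw [polar_const hL (𝟙 A), polar_const hM a, mul_pow, mul_comm (AVDegPoly.polar hL (𝟙 A) _), _root_.mul_assoc] at h1
  exact (mul_right_cancel (mul_left_cancel h1)).symm

/-- An isomorphism `t_x^*M ⊗ L^m ≅ M ⊗ t_{a x}^*L^m` in classes. -/
theorem polar_of_translate (a : A ⟶ A) (m : ℕ) (x : 𝟙_ (Over (Spec (CommRingCat.of k))) ⟶ A)
    (h : Nonempty (CohB1.tensorMod ((Scheme.Modules.pullback ((𝟙 A * (toUnit A ≫ x))).left).obj M) (CohB1.tensorPow L m) ≅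
      CohB1.tensorMod M ((Scheme.Modules.pullback ((𝟙 A * (toUnit A ≫ x ≫ a))).left).obj (CohB1.tensorPow L m)))) :
    AVDegPoly.polar hM (𝟙 A) (toUnit A ≫ x) = AVDegPoly.polar hL (𝟙 A) (toUnit A ≫ x ≫ a) ^ m := by
  have h1 : AVDegPoly.q hM (𝟙 A ≫ (𝟙 A * (toUnit A ≫ x))) * AVDegPoly.q hL (𝟙 A) ^ m =
      AVDegPoly.q hM (𝟙 A) * AVDegPoly.q hL (𝟙 A ≫ (𝟙 A * (toUnit A ≫ x ≫ a))) ^ m := by
    refine Subtype.ext (Units.ext ?_)
    have h0 := (PicMul.cl_eq_iff.2 h)
    rw [PicMul.cl_tensor, PicMul.cl_tensor] at h0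
    simp only [Subgroup.coe_mul, SubmonoidClass.coe_pow, Units.val_mul, Units.val_pow_eq_pow_val, val_q_translate]
    rw [Over.id_left, PicClLib.pullCl_id, PicClLib.pullCl_id]
    refine Eq.trans ?_ (h0.trans ?_)
    · show _ = _ * PicF.cl (CohB1.tensorPow L m)
      rw [PicMul.cl_tensorPow]
      congr 2
      exact AVCube.val_pc_id hL
    · show _ * PicF.pullCl _ (PicF.cl (CohB1.tensorPow L m)) = _
      rw [PicMul.cl_tensorPow, PicMul.pullCl_pow]
      congr 1
      exact (AVCube.val_pc_id hM).symm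
  rw [polar_const hL (𝟙 A), polar_const hM (𝟙 A), mul_pow, mul_comm (AVDegPoly.polar hM (𝟙 A) _), _root_.mul_assoc] at h1
  exact mul_right_cancel (mul_left_cancel h1)

/-- The symmetrisation. -/
def symm (L : A.left.Modules) : A.left.Modules :=
  CohB1.tensorMod L ((Scheme.Modules.pullback ((𝟙 A)⁻¹).left).obj L)

include hL in
theorem isInvertible_symm : PicF.IsInvertible (symm L) :=
  PicMul.isInvertible_tensor hL (PicClLib.isInvertible_pullback _ hL)

theorem q_symm {T : Over (Spec (CommRingCat.of k))} (f : T ⟶ A) :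
    AVDegPoly.q (isInvertible_symm hL) f = AVDegPoly.q hL f * AVDegPoly.q hL f⁻¹ := by
  refine Subtype.ext (Units.ext ?_)
  show PicF.pullCl f.left (PicF.cl L * PicF.pullCl ((𝟙 A)⁻¹).left (PicF.cl L)) = _
  rw [PicMul.pullCl_mul, PicClLib.pullCl_comp, ← Over.comp_left, GrpObj.comp_inv, Category.comp_id]
  rfl

theorem polar_symm {T : Over (Spec (CommRingCat.of k))} (f g : T ⟶ A) :
    AVDegPoly.polar (isInvertible_symm hL) f g = AVDegPoly.polar hL f g ^ 2 := by
  have h : AVDegPoly.polar hL f⁻¹ g⁻¹ = AVDegPoly.polar hL f g := by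
    show Additive.toMul (AVDegPoly.polarHom hL (-Additive.ofMul f) (-Additive.ofMul g)) =
      Additive.toMul (AVDegPoly.polarHom hL (Additive.ofMul f) (Additive.ofMul g))
    simp only [map_neg, AddMonoidHom.neg_apply, neg_neg]
  rw [sq]
  conv_rhs => rhs; rw [← h]
  simp only [AVDegPoly.polar]
  rw [q_symm hL (f * g), q_symm hL f, q_symm hL g, mul_inv]
  simp only [div_eq_mul_inv, mul_inv_rev]
  apply Additive.ofMul.injective
  simp only [ofMul_mul, ofMul_inv]
  abel

theorem isAmple_symm {L : A.left.Modules} (hL : CohB1.IsAmple L) : CohB1.IsAmple (symm L) := by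
  let ι' := ((𝟙 A)⁻¹ : A ⟶ A).left
  have hinv : ((𝟙 A)⁻¹ : A ⟶ A) ≫ (𝟙 A)⁻¹ = 𝟙 A := by
    rw [GrpObj.comp_inv, Category.comp_id, _root_.inv_inv]
  have hinvl : ι' ≫ ι' = 𝟙 A.left := by rw [← Over.comp_left, hinv, Over.id_left]
  haveI : IsIso ι' := ⟨ι', hinvl, hinvl⟩
  haveI : CompactSpace A.left := hL.2.1
  have hM' := AmpleVan.FiniteSurj.isAmple_pullback_of_isAffineHom ι' hL
  exact AmpleX.isAmple_tensor hL hM'.1 fun x => by
    obtain ⟨n, s, hx, -⟩ := hM'.2.2 x
    exact ⟨n, s, hx⟩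

theorem symmetric_symm (L : A.left.Modules) :
    Nonempty (symm L ≅ (Scheme.Modules.pullback ((𝟙 A)⁻¹).left).obj (symm L)) := by
  refine (PicGrp.cl_eq_cl_iff _ _).1 ?_
  show PicF.cl L * PicF.pullCl _ (PicF.cl L) = PicF.pullCl _ (PicF.cl L * PicF.pullCl _ (PicF.cl L))
  rw [PicMul.pullCl_mul, PicClLib.pullCl_comp, ← Over.comp_left, GrpObj.comp_inv, Category.comp_id, _root_.inv_inv,
    Over.id_left, PicClLib.pullCl_id, mul_comm]

/-- The trace is an intersection number. -/
theorem trace_eq {r : ℕ} (hr : topologicalKrullDim A.left = (r + 1 : ℕ)) {L : A.left.Modules} (hL : CohB1.IsAmple L)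
    (hsym : Nonempty (L ≅ (Scheme.Modules.pullback ((𝟙 A)⁻¹).left).obj L)) (x : EndAV.End A) (P : Polynomial ℚ)
    (hP : P.Monic ∧ P.natDegree = 2 * (r + 1) ∧
      ∀ j : ℤ, (IsFinite (EndAV.End.toHom (x + (j : EndAV.End A))).left →
          ∀ a : A.left, (Scheme.Hom.finrank (EndAV.End.toHom (x + (j : EndAV.End A))).left a : ℚ) = P.eval (j : ℚ)) ∧
        (¬ IsFinite (EndAV.End.toHom (x + (j : EndAV.End A))).left → P.eval (j : ℚ) = 0)) :
    P.coeff (2 * (r + 1) - 1) * (TopInt.form k (r + 1) fun _ => TopInt.mk hL.1 : ℤ) =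
      (r + 1 : ℕ) * (TopInt.form k (r + 1)
        (Fin.cons (AVDegPoly.polar hL.1 x.toHom (𝟙 A)) fun _ => TopInt.mk hL.1) : ℤ) := by
  classical
  let g := r + 1
  let D : ℤ := TopInt.form k g fun _ => TopInt.mk hL.1
  let M := TopInt.multi k (X := A.left) (g := g) hr.le
  let ω : Additive (A ⟶ A) := Additive.ofMul x.toHom
  let e : Additive (A ⟶ A) := Additive.ofMul (𝟙 A)
  let P₀ := AVDegPoly.polarHom (T := A) hL.1
  let v : Fin 3 → Additive (TopInt.inv A.left) := ![P₀ e e, P₀ ω e + P₀ e ω, P₀ ω ω]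
  let d : Fin 3 → ℕ := ![2, 1, 0]
  have hpt : ∀ j : ℤ, (2 : ℚ) ^ g * (P.eval (j : ℚ) * (D : ℚ)) =
      ∑ s : Fin g → Fin 3, (j : ℚ) ^ (∑ i, d (s i)) * ((M fun i => v (s i) : ℤ) : ℚ) := by
    intro j
    let w := x + (j : EndAV.End A)
    have hw : Additive.ofMul (EndAV.End.toHom w) = ω + j • e := by
      rw [EndAV.End.toHom_add, EndAV.End.toHom_intCast, ofMul_mul, ofMul_zpow]
    have hq : (2 : ℤ) • Additive.ofMul (AVDegPoly.q hL.1 (EndAV.End.toHom w)) = ∑ t : Fin 3, (j ^ d t) • v t := by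
      have h : P₀ (Additive.ofMul (EndAV.End.toHom w)) (Additive.ofMul (EndAV.End.toHom w)) =
          (2 : ℤ) • Additive.ofMul (AVDegPoly.q hL.1 (EndAV.End.toHom w)) := by
        rw [AVDegPoly.polarHom_apply, toMul_ofMul, AVDegPoly.polar_self hL.1 hsym, ofMul_mul, two_zsmul]
      rw [← h, hw, Fin.sum_univ_three]
      simp only [v, d, map_add, map_zsmul, AddMonoidHom.add_apply, AddMonoidHom.smul_apply, Matrix.cons_val_zero,
        Matrix.cons_val_one, Matrix.cons_val, pow_zero, pow_one, one_zsmul, pow_two, smul_add, smul_smul]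
      abel
    have hval : P.eval (j : ℚ) * (D : ℚ) = ((TopInt.form k g fun _ => AVDegPoly.q hL.1 (EndAV.End.toHom w) : ℤ) : ℚ) := by
      by_cases hfin : IsFinite (EndAV.End.toHom w).left
      · rw [← (hP.2.2 j).1 hfin (η[A].left (IsLocalRing.closedPoint k)),
          (AVDegPoly.form_q hL.1 hr hr (EndAV.End.toHom w)).1 hfin (η[A].left (IsLocalRing.closedPoint k))]
        push_cast
        rfl
      · rw [(hP.2.2 j).2 hfin, (AVDegPoly.form_q hL.1 hr hr (EndAV.End.toHom w)).2 hfin]
        simp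
    have e1 := M.map_smul_univ (fun _ => (2 : ℤ)) (fun _ => Additive.ofMul (AVDegPoly.q hL.1 (EndAV.End.toHom w)))
    rw [Finset.prod_const, Finset.card_univ, Fintype.card_fin, hq, M.map_sum,
      Finset.sum_congr rfl fun s _ => M.map_smul_univ (fun i => j ^ d (s i)) fun i => v (s i)] at e1
    have e2 := congrArg (Int.cast (R := ℚ)) e1
    push_cast [smul_eq_mul] at e2
    rw [hval, show (TopInt.form k g fun _ => AVDegPoly.q hL.1 (EndAV.End.toHom w)) =
      M fun _ => Additive.ofMul (AVDegPoly.q hL.1 (EndAV.End.toHom w)) from rfl, ← e2]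
    exact Finset.sum_congr rfl fun s _ => by rw [Finset.prod_pow_eq_pow_sum]
  let Q : Polynomial ℚ := ∑ s : Fin g → Fin 3,
    Polynomial.C ((M fun i => v (s i) : ℤ) : ℚ) * Polynomial.X ^ (∑ i, d (s i))
  have hPQ : Polynomial.C ((2 : ℚ) ^ g * (D : ℚ)) * P = Q := by
    refine Polynomial.eq_of_infinite_eval_eq _ _ (Set.Infinite.mono (s := Set.range fun j : ℤ => (j : ℚ)) ?_
      (Set.infinite_range_of_injective Int.cast_injective))
    rintro _ ⟨j, rfl⟩
    show Polynomial.eval _ _ = Polynomial.eval _ _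
    rw [Polynomial.eval_mul, Polynomial.eval_C, _root_.mul_assoc, mul_comm (D : ℚ), hpt j, Polynomial.eval_finsetSum]
    exact Finset.sum_congr rfl fun s _ => by simp [mul_comm]
  have hd : ∀ t : Fin 3, d t ≤ 2 ∧ (d t = 2 → t = 0) ∧ (d t = 1 → t = 1) := by decide
  let u : Fin g → Fin g → Fin 3 := fun i => Function.update (fun _ => 0) i 1
  have hfilter : (Finset.univ.filter fun s : Fin g → Fin 3 => 2 * g - 1 = ∑ i, d (s i)) = Finset.univ.image u := by
    ext s
    simp only [Finset.mem_filter, Finset.mem_univ, true_and, Finset.mem_image]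
    constructor
    · intro hs
      obtain ⟨i, hi⟩ : ∃ i, d (s i) ≤ 1 := by
        by_contra hc
        push Not at hc
        have : ∑ i, d (s i) = 2 * g := by
          rw [Finset.sum_congr rfl (fun i _ => show d (s i) = 2 by have := (hd (s i)).1; have := hc i; omega)]
          simp [mul_comm]
        omega
      have hrest : ∑ l ∈ Finset.univ.erase i, d (s l) ≤ 2 * (g - 1) := by
        refine (Finset.sum_le_card_nsmul _ _ 2 fun l _ => (hd (s l)).1).trans (le_of_eq ?_)
        simp [Finset.card_erase_of_mem, mul_comm]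
      have hsplit := Finset.add_sum_erase Finset.univ (fun l => d (s l)) (Finset.mem_univ i)
      refine ⟨i, funext fun l => ?_⟩
      rcases eq_or_ne l i with rfl | hl
      · rw [show u l l = 1 from Function.update_self ..]
        exact ((hd (s l)).2.2 (by omega)).symm
      · rw [show u i l = 0 from Function.update_of_ne hl ..]
        refine ((hd (s l)).2.1 ?_).symm
        by_contra hne
        have h2 := (hd (s l)).1
        have hmem : l ∈ Finset.univ.erase i := by simp [hl]
        have hsplit2 := Finset.add_sum_erase (Finset.univ.erase i) (fun m => d (s m)) hmem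
        have hrest2 : ∑ m ∈ (Finset.univ.erase i).erase l, d (s m) ≤ 2 * (g - 2) := by
          refine (Finset.sum_le_card_nsmul _ _ 2 fun m _ => (hd (s m)).1).trans (le_of_eq ?_)
          simp [Finset.card_erase_of_mem, hmem, mul_comm, Nat.sub_sub]
        have : 2 ≤ g := by
          have hcard := Finset.card_le_univ ({i, l} : Finset (Fin g))
          rw [Finset.card_pair (Ne.symm hl), Fintype.card_fin] at hcard
          exact hcard
        omega
    · rintro ⟨i, rfl⟩
      rw [← Finset.add_sum_erase Finset.univ _ (Finset.mem_univ i), Finset.sum_congr rfl fun l hl => by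
        rw [show u i l = 0 from Function.update_of_ne (Finset.ne_of_mem_erase hl) ..]]
      simp [u, d, Finset.card_erase_of_mem]
      omega
  have hu : Function.Injective u := fun i l h => by
    by_contra hne
    have := congrFun h i
    simp [u, hne] at this
  have hterm : ∀ i : Fin g, (M fun l => v (u i l)) =
      2 ^ g * TopInt.form k g (Fin.cons (AVDegPoly.polar hL.1 x.toHom (𝟙 A)) fun _ => TopInt.mk hL.1) := by
    intro i
    let σ : Equiv.Perm (Fin g) := Equiv.swap 0 i
    let c : Fin g → Additive (TopInt.inv A.left) :=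
      Fin.cons (Additive.ofMul (AVDegPoly.polar hL.1 x.toHom (𝟙 A))) fun _ => Additive.ofMul (TopInt.mk hL.1)
    have hc : (fun l => v (u i l)) = fun l => (2 : ℤ) • c (σ l) := by
      funext l
      rcases eq_or_ne l i with rfl | hl
      · simp only [u, Function.update_self, σ, Equiv.swap_apply_right, c, Fin.cons_zero, v, Matrix.cons_val_one]
        rw [two_zsmul, AVDegPoly.polarHom_apply, AVDegPoly.polarHom_apply, AVDegPoly.polar_comm hL.1 (e.toMul)]
        rfl
      · have hne : σ l ≠ 0 := fun h => hl (σ.injective (h.trans (Equiv.swap_apply_right 0 i).symm))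
        obtain ⟨m, hm⟩ := Fin.exists_succ_eq.2 hne
        simp only [u, Function.update_of_ne hl, v, Matrix.cons_val_zero, c, ← hm, Fin.cons_succ, P₀]
        rw [two_zsmul, AVDegPoly.polarHom_apply, show e.toMul = 𝟙 A from rfl, AVDegPoly.polar_self hL.1 hsym, ofMul_mul,
          show AVDegPoly.q hL.1 (𝟙 A) = TopInt.mk hL.1 from Subtype.ext (Units.ext (AVCube.val_pc_id hL.1))]
    rw [hc, M.map_smul_univ, Finset.prod_const, Finset.card_univ, Fintype.card_fin, smul_eq_mul]
    congr 1
    show TopInt.form k g (fun l => (c (σ l)).toMul) = _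
    rw [TopInt.form_perm k σ fun l => (c l).toMul]
    congr 1
  have hco := congrArg (fun R => Polynomial.coeff R (2 * g - 1)) hPQ
  simp only [Q, Polynomial.coeff_C_mul, Polynomial.finsetSum_coeff, Polynomial.coeff_X_pow, mul_ite, _root_.mul_one,
    mul_zero] at hco
  rw [← Finset.sum_filter, hfilter, Finset.sum_image fun _ _ _ _ h => hu h,
    Finset.sum_congr rfl fun i _ => by rw [hterm i], Finset.sum_const, Finset.card_univ, Fintype.card_fin] at hco
  push_cast [nsmul_eq_mul] at hco ⊢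
  refine mul_left_cancel₀ (pow_ne_zero g (two_ne_zero' ℚ)) ?_
  rw [show (g : ℚ) = (r : ℚ) + 1 by simp [g]] at hco
  show (2 : ℚ) ^ g * (P.coeff (2 * g - 1) * (D : ℚ)) = _
  linear_combination hco

end Groth.Agent.AVTrace
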