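import Groth.Agent.Lib.AVWeilRoots
import Groth.Agent.Lib.AVWeilCount

/-!
The characteristic polynomial of the Frobenius has Weil numbers as roots and a nonnegative constant term.
-/

set_option autoImplicit false
set_option linter.style.haveILetI false
set_option linter.unusedSectionVars false
set_option backward.isDefEq.respectTransparency false
set_option backward.isDefEq.respectTransparency.types false
set_option maxHeartbeats 1000000

universe u

open CategoryTheory CategoryTheory.Limits MonoidalCategory CartesianMonoidalCategory MonObj AlgebraicGeometry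
open scoped Polynomial

noncomputable section

namespace Groth.Agent.AVWeilProps

theorem weil {k : Type u} [Field k] [Finite k] (Ω : Type u) [Field Ω] [Algebra k Ω] [IsAlgClosed Ω]
    {l : ℕ} [Fact l.Prime] (hl : (l : k) ≠ 0) {X : Over (Spec (CommRingCat.of k))}
    [GrpObj X] [IsCommMonObj X] [IsProper X.hom] [GeometricallyIntegral X.hom] {g : ℕ} (hg : topologicalKrullDim X.left = g)
    (πX : X ⟶ X) [IsMonHom πX] (hπb : πX.left.base = 𝟙 _)
    (hπle : ∀ U : X.left.Opens, U ≤ πX.left ⁻¹ᵁ U)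
    (hπapp : ∀ (U : X.left.Opens) (s : Γ(X.left, U)), (πX.left.appLE U U (hπle U)).hom s = s ^ Nat.card k)
    [Module.Free ℤ_[l] (AbDual.TateMod X l (SGA7.pt Ω))] [Module.Finite ℤ_[l] (AbDual.TateMod X l (SGA7.pt Ω))]
    {P : ℤ[X]} (hP : (AbDual.tateMapₗ (l := l) (T := SGA7.pt Ω) πX).charpoly = P.map (Int.castRingHom ℤ_[l])) :
    P.Monic ∧ P.natDegree = 2 * g ∧ 0 < Nat.card k ∧ 0 ≤ P.coeff 0 ∧
      ∀ a ∈ AVWeilRoots.rootsC P, ‖a‖ = Real.sqrt (Nat.card k) := by
  obtain ⟨hm, hd, hv⟩ := AVWeil.charpoly_props Ω X hg πX l hl hP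
  refine ⟨hm, hd, Nat.card_pos, ?_, fun a ha => AVWeil.norm_root Ω X hg πX (Nat.card k) hπb hπle hπapp hm hd hv ha⟩
  rw [Polynomial.coeff_zero_eq_eval_zero, ← hv 0]
  exact Int.natCast_nonneg _

end Groth.Agent.AVWeilProps
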