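import Mathlib.Analysis.Complex.Polynomial.Basic
import Mathlib.Analysis.SpecialFunctions.Log.Basic
import Mathlib.FieldTheory.Galois.Basic
import Mathlib.RingTheory.IntegralClosure.IntegrallyClosed
import Mathlib.RingTheory.Polynomial.RationalRoot
import Mathlib.Analysis.Real.Sqrt

/-!
Multisets of Weil numbers: halves, integrality of symmetric expressions, the trace bound and duality of subsets.
-/

set_option autoImplicit false
set_option linter.style.haveILetI false
set_option linter.unusedSectionVars false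

open Polynomial
open scoped ComplexConjugate

noncomputable section

namespace Groth.Agent.AVWeilRoots

/-- The complex roots. -/
abbrev rootsC (P : ℤ[X]) : Multiset ℂ := (P.map (Int.castRingHom ℂ)).roots

variable {P : ℤ[X]}

theorem card_rootsC : (rootsC P).card = P.natDegree := by
  rw [← Polynomial.Splits.natDegree_eq_card_roots (IsAlgClosed.splits _),
    Polynomial.natDegree_map_eq_of_injective (RingHom.injective_int _)]

theorem eq_prod (hP : P.Monic) : P.map (Int.castRingHom ℂ) = ((rootsC P).map fun a => X - C a).prod :=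
  (IsAlgClosed.splits _).eq_prod_roots_of_monic (hP.map _)

theorem map_conj : (rootsC P).map conj = rootsC P := by
  have h := Polynomial.roots_map_of_injective_of_card_eq_natDegree (f := (starRingEnd ℂ))
    (starRingEnd ℂ).injective (p := P.map (Int.castRingHom ℂ))
    (by rw [Polynomial.natDegree_map_eq_of_injective (RingHom.injective_int _)]; exact card_rootsC)
  rw [Polynomial.map_map, RingHom.ext_int ((starRingEnd ℂ).comp (Int.castRingHom ℂ)) (Int.castRingHom ℂ)] at h
  exact h

theorem coeff_zero_eq (hP : P.Monic) {g : ℕ} (hd : P.natDegree = 2 * g) :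
    ((P.coeff 0 : ℤ) : ℂ) = (rootsC P).prod := by
  have h := (IsAlgClosed.splits (P.map (Int.castRingHom ℂ))).coeff_zero_eq_prod_roots_of_monic (hP.map _)
  rw [Polynomial.coeff_map, Polynomial.natDegree_map_eq_of_injective (RingHom.injective_int _), hd, pow_mul, neg_one_sq,
    one_pow, one_mul] at h
  exact h

theorem nextCoeff_eq (hP : P.Monic) : ((P.nextCoeff : ℤ) : ℂ) = -(rootsC P).sum := by
  have h := (IsAlgClosed.splits (P.map (Int.castRingHom ℂ))).nextCoeff_eq_neg_sum_roots_of_monic (hP.map _)
  rw [Polynomial.nextCoeff_map (RingHom.injective_int _)] at h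
  exact h

theorem isIntegral_of_mem (hP : P.Monic) {a : ℂ} (ha : a ∈ rootsC P) : IsIntegral ℤ a := by
  refine ⟨P, hP, ?_⟩
  have := (Polynomial.mem_roots'.1 ha).2
  rwa [Polynomial.IsRoot, Polynomial.eval_map] at this

theorem exists_half (hP : P.Monic) {g q : ℕ} (hd : P.natDegree = 2 * g) (hq : 0 < q) (h0 : 0 ≤ P.coeff 0)
    (hn : ∀ a ∈ rootsC P, ‖a‖ = Real.sqrt q) :
    ∃ H : Multiset ℂ, H.card = g ∧ rootsC P = H + H.map conj ∧ ∀ a ∈ H, ‖a‖ = Real.sqrt q := by
  classical
  set R := rootsC P with hR
  set F := R.filter fun a => 0 < a.im with hF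
  set Z := R.filter fun a => a.im = 0 with hZ
  have hneg : (R.filter fun a => a.im < 0) = F.map conj := by
    conv_lhs => rw [hR, ← map_conj (P := P), Multiset.filter_map]
    refine congrArg _ (Multiset.filter_congr fun a _ => ?_)
    simp
  have hsplit : R = F + F.map conj + Z := by
    conv_lhs => rw [← Multiset.filter_add_not (fun a : ℂ => 0 < a.im) R]
    rw [add_assoc, ← hneg, ← Multiset.filter_add_not (fun a : ℂ => a.im < 0) (R.filter fun a => ¬ 0 < a.im),
      Multiset.filter_filter, Multiset.filter_filter]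
    refine congrArg (F + ·) (congrArg₂ (· + ·) (Multiset.filter_congr fun a _ => ?_) (Multiset.filter_congr fun a _ => ?_))
    · exact ⟨fun h => h.1, fun h => ⟨h, h.le.not_gt⟩⟩
    · exact ⟨fun h => le_antisymm (not_lt.1 h.2) (not_lt.1 h.1), fun h => ⟨h.symm.le.not_gt, h.le.not_gt⟩⟩
  let s : ℂ := (Real.sqrt q : ℂ)
  have hs : conj s = s := Complex.conj_ofReal _
  have hs0 : s ≠ 0 := Complex.ofReal_ne_zero.2 (Real.sqrt_ne_zero'.2 (Nat.cast_pos.2 hq))
  have hss : -s ≠ s := fun h => hs0 (neg_eq_self.1 h)
  have hZmem : ∀ a ∈ Z, a = s ∨ a = -s := fun a ha => by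
    obtain ⟨ha, him⟩ := Multiset.mem_filter.1 ha
    have h1 := hn a ha
    rw [show a = (a.re : ℂ) from Complex.ext (by simp) (by simp [him]), Complex.norm_real, Real.norm_eq_abs] at h1
    rw [show a = (a.re : ℂ) from Complex.ext (by simp) (by simp [him])]
    exact (abs_eq (Real.sqrt_nonneg _)).1 h1 |>.imp (fun h => by rw [h]) fun h => by rw [h, Complex.ofReal_neg]
  have hZ2 : Z = Multiset.replicate (Z.count s) s + Multiset.replicate (Z.count (-s)) (-s) := by
    conv_lhs => rw [← Multiset.filter_add_not (fun a : ℂ => a = s) Z]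
    refine congrArg₂ (· + ·) (Multiset.filter_eq' Z s) (Eq.trans (Multiset.filter_congr fun a ha => ?_) (Multiset.filter_eq' Z (-s)))
    rcases hZmem a ha with h | h
    · exact ⟨fun h' => absurd h h', fun h' => absurd (h'.symm.trans h) hss⟩
    · exact ⟨fun _ => h, fun _ h' => hss (h.symm.trans h')⟩
  set a := Z.count s
  set b := Z.count (-s)
  have hcard : 2 * g = 2 * F.card + (a + b) := by
    have := congrArg Multiset.card hsplit
    rw [hR, card_rootsC, hd, hZ2] at this
    simp only [Multiset.card_add, Multiset.card_map, Multiset.card_replicate] at this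
    omega
  have hb : Even b := by
    rw [← Nat.not_odd_iff_even]
    intro hodd
    have h := coeff_zero_eq hP hd
    rw [← hR, hsplit, hZ2, Multiset.prod_add, Multiset.prod_add, Multiset.prod_add, ← map_multiset_prod,
      Complex.mul_conj, Multiset.prod_replicate, Multiset.prod_replicate, hodd.neg_pow] at h
    have h' : (P.coeff 0 : ℝ) = -(Complex.normSq F.prod * (Real.sqrt q ^ a * Real.sqrt q ^ b)) := by
      have := congrArg Complex.re h
      simpa [s, ← Complex.ofReal_pow] using this
    have hpos : 0 < Complex.normSq F.prod * (Real.sqrt q ^ a * Real.sqrt q ^ b) := by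
      refine mul_pos (Complex.normSq_pos.2 (Multiset.prod_ne_zero fun h0 => ?_)) (by positivity)
      simpa using (Multiset.mem_filter.1 h0).2
    have : (0 : ℝ) ≤ (P.coeff 0 : ℝ) := Int.cast_nonneg h0
    linarith
  obtain ⟨b', hb'⟩ := hb
  obtain ⟨a', ha'⟩ : Even a := ⟨g - F.card - b', by omega⟩
  refine ⟨F + (Multiset.replicate a' s + Multiset.replicate b' (-s)), ?_, ?_, fun x hx => ?_⟩
  · simp only [Multiset.card_add, Multiset.card_replicate]
    omega
  · rw [hsplit, hZ2, ha', hb', Multiset.replicate_add, Multiset.replicate_add, Multiset.map_add, Multiset.map_add,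
      Multiset.map_replicate, Multiset.map_replicate, map_neg, hs]
    abel
  · rcases Multiset.mem_add.1 hx with h | h
    · exact hn x (Multiset.filter_subset _ _ h)
    · have hns : ‖s‖ = Real.sqrt q := by simp [s, abs_of_nonneg (Real.sqrt_nonneg _)]
      rcases Multiset.mem_add.1 h with h | h
      · rw [Multiset.eq_of_mem_replicate h, hns]
      · rw [Multiset.eq_of_mem_replicate h, norm_neg, hns]

theorem prod_eq_pow {g q : ℕ} {H : Multiset ℂ} (hH : H.card = g) (hR : rootsC P = H + H.map conj)
    (hn : ∀ a ∈ H, ‖a‖ = Real.sqrt q) : (rootsC P).prod = (q : ℂ) ^ g := by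
  rw [hR, Multiset.prod_add, ← Multiset.map_id' H, Multiset.map_map, ← Multiset.prod_map_mul,
    Multiset.map_congr rfl (g := fun _ => (q : ℂ)) fun a ha => by
      show a * conj (id a) = q
      rw [id, Complex.mul_conj', hn a ha, ← Complex.ofReal_pow, Real.sq_sqrt (Nat.cast_nonneg q)]
      simp,
    Multiset.map_const', Multiset.prod_replicate, hH]

theorem conj_eq_div {q : ℕ} (hq : 0 < q) {a : ℂ} (ha : ‖a‖ = Real.sqrt q) : conj a = (q : ℂ) / a := by
  have ha0 : a ≠ 0 := fun h => by
    rw [h, norm_zero] at ha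
    exact (Real.sqrt_ne_zero'.2 (Nat.cast_pos.2 hq)) ha.symm
  rw [eq_div_iff ha0, mul_comm, Complex.mul_conj', ha, ← Complex.ofReal_pow, Real.sq_sqrt (Nat.cast_nonneg q)]
  simp

/-- The field of the roots. -/
abbrev L (P : ℤ[X]) : Type := (P.map (Int.castRingHom ℚ)).SplittingField

/-- An embedding of the field of the roots. -/
def emb (P : ℤ[X]) : L P →ₐ[ℚ] ℂ := IsAlgClosed.lift

/-- The roots in their field. -/
abbrev rootsL (P : ℤ[X]) : Multiset (L P) := ((P.map (Int.castRingHom ℚ)).map (algebraMap ℚ (L P))).roots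

theorem map_emb : (rootsL P).map (emb P) = rootsC P := by
  have hs : ((P.map (Int.castRingHom ℚ)).map (algebraMap ℚ (L P))).Splits := Polynomial.SplittingField.splits _
  have h := Polynomial.roots_map_of_injective_of_card_eq_natDegree (f := (emb P).toRingHom)
    (emb P).toRingHom.injective (p := (P.map (Int.castRingHom ℚ)).map (algebraMap ℚ (L P))) hs.natDegree_eq_card_roots.symm
  have e : ((P.map (Int.castRingHom ℚ)).map (algebraMap ℚ (L P))).map (emb P).toRingHom = P.map (Int.castRingHom ℂ) := by
    rw [Polynomial.map_map, Polynomial.map_map,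
      RingHom.ext_int (((emb P).toRingHom.comp (algebraMap ℚ (L P))).comp (Int.castRingHom ℚ)) (Int.castRingHom ℂ)]
  exact h.trans (congrArg Polynomial.roots e)

theorem map_aut (σ : L P ≃ₐ[ℚ] L P) : (rootsL P).map σ = rootsL P := by
  have hs : ((P.map (Int.castRingHom ℚ)).map (algebraMap ℚ (L P))).Splits := Polynomial.SplittingField.splits _
  have h := Polynomial.roots_map_of_injective_of_card_eq_natDegree (f := σ.toAlgHom.toRingHom)
    σ.injective (p := (P.map (Int.castRingHom ℚ)).map (algebraMap ℚ (L P))) hs.natDegree_eq_card_roots.symm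
  have e : ((P.map (Int.castRingHom ℚ)).map (algebraMap ℚ (L P))).map σ.toAlgHom.toRingHom =
      (P.map (Int.castRingHom ℚ)).map (algebraMap ℚ (L P)) := by
    rw [Polynomial.map_map]
    exact congrArg (fun f => (P.map (Int.castRingHom ℚ)).map f) (Subsingleton.elim _ _)
  exact h.trans (congrArg Polynomial.roots e)

/-- A symmetric algebraic integer is an integer. -/
theorem exists_int (x : L P) (hfix : ∀ σ : L P ≃ₐ[ℚ] L P, σ x = x) (hint : IsIntegral ℤ (emb P x)) :
    ∃ z : ℤ, emb P x = z := by
  haveI : Polynomial.IsSplittingField ℚ (L P) (P.map (Int.castRingHom ℚ)) := Polynomial.IsSplittingField.splittingField _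
  haveI : Normal ℚ (L P) := Normal.of_isSplittingField (P.map (Int.castRingHom ℚ))
  haveI : IsGalois ℚ (L P) := ⟨⟩
  obtain ⟨r, hr⟩ := IntermediateField.mem_bot.1 ((IsGalois.mem_bot_iff_fixed x).2 hfix)
  rw [← hr, AlgHom.commutes] at hint ⊢
  rw [isIntegral_algebraMap_iff (algebraMap ℚ ℂ).injective] at hint
  obtain ⟨z, hz⟩ := IsIntegrallyClosed.isIntegral_iff.1 hint
  exact ⟨z, by rw [← hz]; simp⟩

/-- A quotient of products over the roots which is an algebraic integer is an integer. -/
theorem exists_int_prod_div (f g : L P → L P) (hf : ∀ (σ : L P ≃ₐ[ℚ] L P) a, σ (f a) = f (σ a))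
    (hg : ∀ (σ : L P ≃ₐ[ℚ] L P) a, σ (g a) = g (σ a))
    (hint : IsIntegral ℤ (emb P (((rootsL P).map f).prod / ((rootsL P).map g).prod))) :
    ∃ z : ℤ, emb P (((rootsL P).map f).prod / ((rootsL P).map g).prod) = z := by
  refine exists_int _ (fun σ => ?_) hint
  have key : ∀ h : L P → L P, (∀ a, σ (h a) = h (σ a)) → σ ((rootsL P).map h).prod = ((rootsL P).map h).prod :=
    fun h hh => by
      conv_rhs => rw [← map_aut σ, Multiset.map_map]
      rw [map_multiset_prod, Multiset.map_map]
      exact congrArg _ (Multiset.map_congr rfl fun a _ => hh a)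
  rw [map_div₀, key f (hf σ), key g (hg σ)]

/-- The polynomial whose inverse roots are the products of `j` roots has integral coefficients. -/
theorem exists_int_poly (hP : P.Monic) (j : ℕ) : ∃ Q : ℤ[X], Q.map (Int.castRingHom ℂ) =
    (((rootsC P).powersetCard j).map fun I => (1 : ℂ[X]) - C I.prod * X).prod := by
  classical
  let F : ∀ {R : Type} [CommRing R], Multiset R → R[X] := fun {R} _ S =>
    ((S.powersetCard j).map fun I => (1 : R[X]) - C I.prod * X).prod
  have hnat : ∀ {R R' : Type} [CommRing R] [CommRing R'] (φ : R →+* R') (S : Multiset R),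
      (F S).map φ = F (S.map φ) := fun {R R'} _ _ φ S => by
    simp only [F, Polynomial.map_multiset_prod, Multiset.map_map, Multiset.powersetCard_map]
    refine congrArg _ (Multiset.map_congr rfl fun I _ => ?_)
    simp only [Function.comp_apply, Polynomial.map_sub, Polynomial.map_one, Polynomial.map_mul, Polynomial.map_C, Polynomial.map_X, map_multiset_prod φ]
  let T := integralClosure ℤ ℂ
  have hmemT : ∀ a ∈ rootsC P, a ∈ T := fun a ha => isIntegral_of_mem hP ha
  let S : Multiset T := (rootsC P).pmap (fun a ha => (⟨a, ha⟩ : T)) hmemT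
  have hS : S.map (fun a : T => (a : ℂ)) = rootsC P := by
    simp only [S]
    rw [Multiset.map_pmap]
    exact (Multiset.pmap_eq_map _ _ _ hmemT).trans (Multiset.map_id' _)
  have hcoeff : ∀ n, ∃ z : ℤ, (F (rootsC P)).coeff n = z := by
    intro n
    have h1 : (F (rootsL P)).map (emb P).toRingHom = F (rootsC P) := by
      rw [hnat, ← map_emb]; rfl
    obtain ⟨z, hz⟩ := exists_int ((F (rootsL P)).coeff n) (fun σ => by
        have h := hnat σ.toAlgHom.toRingHom (rootsL P)
        rw [show (rootsL P).map σ.toAlgHom.toRingHom = rootsL P from map_aut σ] at h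
        conv_rhs => rw [← h]
        rw [Polynomial.coeff_map]; rfl) (by
        show IsIntegral ℤ ((emb P).toRingHom ((F (rootsL P)).coeff n))
        rw [← Polynomial.coeff_map, h1, ← hS, show S.map (fun a : T => (a : ℂ)) = S.map T.val.toRingHom from rfl,
          ← hnat, Polynomial.coeff_map]
        exact ((F S).coeff n).2)
    exact ⟨z, by rw [← h1, Polynomial.coeff_map]; exact hz⟩
  have hmem : F (rootsC P) ∈ Polynomial.lifts (Int.castRingHom ℂ) := by
    rw [Polynomial.lifts_iff_coeff_lifts]
    exact fun n => (hcoeff n).imp fun z hz => hz.symm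
  exact (Polynomial.mem_lifts _).1 hmem

/-- Positive reals with product at least one. -/
theorem card_le_sum (Y : Multiset ℝ) (hpos : ∀ y ∈ Y, 0 < y) (hprod : 1 ≤ Y.prod) :
    (Y.card : ℝ) ≤ Y.sum ∧ ((Y.card : ℝ) = Y.sum → ∀ y ∈ Y, y = 1) := by
  have hlog : ∀ S : Multiset ℝ, (∀ y ∈ S, 0 < y) → Real.log S.prod = (S.map Real.log).sum := by
    intro S
    induction S using Multiset.induction_on with
    | empty => simp
    | cons a S ih =>
      intro h
      have h' : ∀ y ∈ S, 0 < y := fun y hy => h y (Multiset.mem_cons_of_mem hy)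
      rw [Multiset.prod_cons, Real.log_mul (h a (Multiset.mem_cons_self a S)).ne'
        (Multiset.prod_ne_zero fun h0 => (h' 0 h0).ne rfl), Multiset.map_cons, Multiset.sum_cons, ih h']
  have hsum : (Y.map fun y => y - 1).sum = Y.sum - Y.card := by
    rw [Multiset.sum_map_sub]; simp
  have h1 : 0 ≤ (Y.map Real.log).sum := by rw [← hlog Y hpos]; exact Real.log_nonneg hprod
  have hle : ∀ y ∈ Y, Real.log y ≤ y - 1 := fun y hy => Real.log_le_sub_one_of_pos (hpos y hy)
  have h2 := Multiset.sum_map_le_sum_map _ _ hle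
  refine ⟨by linarith, fun he y hy => ?_⟩
  by_contra hne
  have h3 := Multiset.sum_lt_sum hle ⟨y, hy, Real.log_lt_sub_one_of_pos (hpos y hy) hne⟩
  linarith

/-- The Weil–Serre bound, with equality case. -/
theorem trace_bound (hP : P.Monic) {g q : ℕ} (hd : P.natDegree = 2 * g) (hq : 0 < q) (h0 : 0 ≤ P.coeff 0)
    (hn : ∀ a ∈ rootsC P, ‖a‖ = Real.sqrt q) (ε : ℤ) (hε : ε = 1 ∨ ε = -1) :
    (ε * P.nextCoeff : ℤ) ≤ (g : ℤ) * ⌊2 * Real.sqrt q⌋ ∧
      ((ε * P.nextCoeff : ℤ) = (g : ℤ) * ⌊2 * Real.sqrt q⌋ →
        P = (X ^ 2 + C (ε * ⌊2 * Real.sqrt q⌋) * X + C (q : ℤ)) ^ g) := by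
  obtain ⟨H, hH, hR, hHn⟩ := exists_half hP hd hq h0 hn
  set m := ⌊2 * Real.sqrt q⌋
  have hH0 : ∀ a ∈ H, a ≠ 0 := fun a ha h => by
    have := hHn a ha
    rw [h, norm_zero] at this
    exact (Real.sqrt_ne_zero'.2 (Nat.cast_pos.2 hq)) this.symm
  let y : ℂ → ℝ := fun a => (m + 1 : ℤ) + ε * (2 * a.re)
  have hy : ∀ a : ℂ, (y a : ℂ) = ((m + 1 : ℤ) : ℂ) + (ε : ℂ) * (a + conj a) := fun a => by
    rw [Complex.add_conj]
    simp only [y, Complex.ofReal_add, Complex.ofReal_mul, Complex.ofReal_intCast]
  have hypos : ∀ a ∈ H, 0 < y a := fun a ha => by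
    have h1 := abs_le.1 ((Complex.abs_re_le_norm a).trans_eq (hHn a ha))
    have h2 := Int.lt_floor_add_one (2 * Real.sqrt q)
    show (0 : ℝ) < ((m + 1 : ℤ) : ℝ) + (ε : ℝ) * (2 * a.re)
    push_cast
    rcases hε with rfl | rfl <;> push_cast <;> linarith [h1.1, h1.2]
  have hint : ∀ a ∈ H, IsIntegral ℤ ((y a : ℝ) : ℂ) := fun a ha => by
    have hmem : a ∈ rootsC P := by rw [hR]; exact Multiset.mem_add.2 (Or.inl ha)
    have hmem' : conj a ∈ rootsC P := by rw [hR]; exact Multiset.mem_add.2 (Or.inr (Multiset.mem_map_of_mem _ ha))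
    rw [hy]
    exact (isIntegral_algebraMap (R := ℤ) (A := ℂ) (x := m + 1)).add
      ((isIntegral_algebraMap (R := ℤ) (A := ℂ) (x := ε)).mul ((isIntegral_of_mem hP hmem).add (isIntegral_of_mem hP hmem')))
  have hY : IsIntegral ℤ (((H.map y).prod : ℝ) : ℂ) := by
    have e : (((H.map y).prod : ℝ) : ℂ) = (H.map fun a => ((y a : ℝ) : ℂ)).prod := by
      rw [show (((H.map y).prod : ℝ) : ℂ) = Complex.ofRealHom (H.map y).prod from rfl, map_multiset_prod, Multiset.map_map]
      rfl
    rw [e]
    exact IsIntegral.multiset_prod fun z hz => by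
      obtain ⟨a, ha, rfl⟩ := Multiset.mem_map.1 hz
      exact hint a ha
  have hge : 1 ≤ (H.map y).prod := by
    have hpos : 0 < (H.map y).prod := Multiset.prod_pos fun r hr => by
      obtain ⟨a, ha, rfl⟩ := Multiset.mem_map.1 hr
      exact hypos a ha
    have hsq : emb P (((rootsL P).map fun a => ((m + 1 : ℤ) : L P) * a + (ε : L P) * (a * a + (q : L P))).prod /
        ((rootsL P).map fun a => a).prod) = (((H.map y).prod ^ 2 : ℝ) : ℂ) := by
      rw [map_div₀, map_multiset_prod, map_multiset_prod, Multiset.map_map, Multiset.map_map]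
      have key : (((rootsL P).map fun a => a).map (emb P)) = rootsC P := by rw [Multiset.map_id', map_emb]
      rw [Multiset.map_map] at key
      rw [show (emb P ∘ fun a => ((m + 1 : ℤ) : L P) * a + (ε : L P) * (a * a + (q : L P))) =
        (fun z : ℂ => ((m + 1 : ℤ) : ℂ) * z + (ε : ℂ) * (z * z + (q : ℂ))) ∘ emb P by
          funext a; simp, ← Multiset.map_map, map_emb, key]
      have hzz : ∀ a ∈ rootsC P, ((m + 1 : ℤ) : ℂ) * a + (ε : ℂ) * (a * a + (q : ℂ)) = a * ((y a : ℝ) : ℂ) := by
        intro a ha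
        have ha0 : a ≠ 0 := fun h => (Real.sqrt_ne_zero'.2 (Nat.cast_pos.2 hq)) (by rw [← hn a ha, h, norm_zero])
        rw [hy, conj_eq_div hq (hn a ha)]
        field_simp
      rw [Multiset.map_congr rfl hzz, Multiset.prod_map_mul, Multiset.map_id', mul_div_cancel_left₀ _ (by
        rw [prod_eq_pow hH hR hHn]; exact pow_ne_zero _ (Nat.cast_ne_zero.2 hq.ne'))]
      rw [hR, Multiset.map_add, Multiset.prod_add, Multiset.map_map,
        Multiset.map_congr rfl (f := (fun a => ((y a : ℝ) : ℂ)) ∘ conj) (g := fun a => ((y a : ℝ) : ℂ)) fun a _ => by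
          simp [y], Complex.ofReal_pow, show (((H.map y).prod : ℝ) : ℂ) = Complex.ofRealHom (H.map y).prod from rfl,
        map_multiset_prod, Multiset.map_map, sq]
      rfl
    obtain ⟨z, hz⟩ := exists_int_prod_div (P := P)
      (fun a => ((m + 1 : ℤ) : L P) * a + (ε : L P) * (a * a + (q : L P))) (fun a => a)
      (fun σ a => by simp) (fun σ a => rfl) (by
        rw [hsq, Complex.ofReal_pow]; exact hY.pow 2)
    rw [hsq] at hz
    have hzr : (H.map y).prod ^ 2 = (z : ℝ) := by exact_mod_cast hz
    have hz1 : 1 ≤ z := by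
      have : (0 : ℝ) < (z : ℝ) := by rw [← hzr]; positivity
      exact_mod_cast Int.cast_pos.1 this
    have h1 : (1 : ℝ) ≤ (H.map y).prod ^ 2 := by rw [hzr]; exact_mod_cast hz1
    nlinarith
  obtain ⟨hle, heq⟩ := card_le_sum (H.map y) (fun r hr => by
    obtain ⟨a, ha, rfl⟩ := Multiset.mem_map.1 hr
    exact hypos a ha) hge
  have hsumy : (H.map y).sum = g * ((m + 1 : ℤ) : ℝ) - ((ε * P.nextCoeff : ℤ) : ℝ) := by
    have h2 : (rootsC P).sum = (((H.map fun a => 2 * a.re).sum : ℝ) : ℂ) := by
      rw [show (((H.map fun a : ℂ => 2 * a.re).sum : ℝ) : ℂ) = Complex.ofRealHom (H.map fun a : ℂ => 2 * a.re).sum from rfl,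
        map_multiset_sum, Multiset.map_map, hR, Multiset.sum_add,
        show H.sum + (H.map conj).sum = (H.map fun a => a + conj a).sum by rw [Multiset.sum_map_add, Multiset.map_id']]
      refine congrArg _ ?_
      exact Multiset.map_congr rfl fun a _ => (Complex.add_conj a)
    have hnc : (P.nextCoeff : ℝ) = -(H.map fun a => 2 * a.re).sum := by
      have := nextCoeff_eq hP
      rw [h2] at this
      exact_mod_cast this
    simp only [y, Multiset.sum_map_add, Multiset.sum_map_mul_left, Multiset.map_const', Multiset.sum_replicate,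
      nsmul_eq_mul, hH]
    push_cast
    rw [hnc, Multiset.sum_map_mul_left]
    ring
  rw [Multiset.card_map, hH, hsumy] at hle heq
  push_cast at hle heq
  refine ⟨?_, fun he => ?_⟩
  · have : ((ε * P.nextCoeff : ℤ) : ℝ) ≤ (((g : ℤ) * m : ℤ) : ℝ) := by push_cast; linarith
    exact_mod_cast this
  · have he' : (ε : ℝ) * (P.nextCoeff : ℝ) = (g : ℝ) * (m : ℝ) := by exact_mod_cast he
    have hall : ∀ a ∈ H, y a = 1 := fun a ha => heq (by linarith) _ (Multiset.mem_map_of_mem y ha)
    refine Polynomial.map_injective _ (RingHom.injective_int (Int.castRingHom ℂ)) ?_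
    rw [eq_prod hP, Polynomial.map_pow, hR, Multiset.map_add, Multiset.prod_add, Multiset.map_map,
      ← Multiset.prod_map_mul, Multiset.map_congr rfl fun a ha => ?_, Multiset.map_const', Multiset.prod_replicate, hH]
    have hs : a + conj a = -((ε : ℂ) * (m : ℂ)) := by
      have h1 := hy a
      rw [hall a ha] at h1
      rcases hε with rfl | rfl <;> push_cast at h1 ⊢ <;>
        first | linear_combination -h1 | linear_combination h1
    have hmul : a * conj a = (q : ℂ) := by
      rw [Complex.mul_conj', hHn a ha, ← Complex.ofReal_pow, Real.sq_sqrt (Nat.cast_nonneg q)]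
      simp
    simp only [Function.comp_apply, Polynomial.map_add, Polynomial.map_mul, Polynomial.map_pow, Polynomial.map_X,
      Polynomial.map_C]
    simp only [eq_intCast (Int.castRingHom ℂ), Int.cast_mul, Int.cast_natCast]
    rw [← hmul, show (ε : ℂ) * (m : ℂ) = -(a + conj a) by linear_combination hs]
    simp only [map_neg, map_add, map_mul]
    ring

section Powerset

variable {α : Type*} [DecidableEq α]

theorem map_sub_powerset (R : Multiset α) : R.powerset.map (fun I => R - I) = R.powerset := by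
  induction R using Multiset.induction_on with
  | empty => simp
  | cons a R ih =>
    rw [Multiset.powerset_cons, Multiset.map_add, Multiset.map_map]
    rw [Multiset.map_congr rfl (f := fun I => a ::ₘ R - I) (g := (a ::ₘ ·) ∘ fun I => R - I) fun I hI =>
        Multiset.cons_sub_of_le a (Multiset.mem_powerset.1 hI),
      Multiset.map_congr rfl (f := (fun I => a ::ₘ R - I) ∘ Multiset.cons a) (g := fun I => R - I) fun I _ => by
        simp [Multiset.sub_cons], ← Multiset.map_map, ih, add_comm]

theorem map_powerset_eq_bind {β : Type*} (R : Multiset α) (f : Multiset α → β) :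
    R.powerset.map f = (Multiset.range (R.card + 1)).bind fun j => (R.powersetCard j).map f := by
  rw [← Multiset.map_bind, Multiset.bind_powerset_len]

end Powerset

theorem prod_one_sub (R : Multiset ℂ) (n : ℕ) :
    (R.map fun a => 1 - a ^ n).prod = (R.powerset.map fun I => (-1) ^ I.card * I.prod ^ n).sum := by
  induction R using Multiset.induction_on with
  | empty => simp
  | cons a R ih =>
    rw [Multiset.map_cons, Multiset.prod_cons, ih, Multiset.powerset_cons, Multiset.map_add, Multiset.sum_add,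
      Multiset.map_map, sub_mul, one_mul, sub_eq_add_neg, ← Multiset.sum_map_mul_left,
      ← Multiset.sum_map_neg', Multiset.map_map]
    refine congrArg₂ (· + ·) rfl (congrArg _ (Multiset.map_congr rfl fun I _ => ?_))
    simp only [Function.comp_apply, Multiset.card_cons, Multiset.prod_cons, mul_pow, pow_succ]
    ring

theorem alt_prod_eq_one (t : ℂ) (ht : t ≠ 0) (R : Multiset ℂ) (hR : ∀ a ∈ R, a ≠ 0) (hne : R ≠ 0) (hev : Even R.card) :
    (R.powerset.map fun I => (-(1 / (I.prod * t))) ^ ((-1 : ℤ) ^ (I.card + 1))).prod = 1 := by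
  have h1 : ∀ (a : ℂ) (R : Multiset ℂ), a ≠ 0 → (∀ b ∈ R, b ≠ 0) →
      ((a ::ₘ R).powerset.map fun I => (-(1 / (I.prod * t))) ^ ((-1 : ℤ) ^ (I.card + 1))).prod =
        a ^ (R.powerset.map fun I => (-1 : ℤ) ^ (I.card + 1)).sum := by
    intro a R ha hR
    rw [Multiset.powerset_cons, Multiset.map_add, Multiset.prod_add, Multiset.map_map, ← Multiset.prod_map_mul]
    generalize hS : R.powerset = S
    have hmem : ∀ I ∈ S, ∀ b ∈ I, b ≠ 0 := fun I hI b hb =>
      hR b (Multiset.mem_of_le (Multiset.mem_powerset.1 (hS ▸ hI)) hb)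
    clear hS hR
    induction S using Multiset.induction_on with
    | empty => simp
    | cons I S ih =>
      rw [Multiset.map_cons, Multiset.prod_cons, ih fun J hJ => hmem J (Multiset.mem_cons_of_mem hJ), Multiset.map_cons,
        Multiset.sum_cons, zpow_add₀ ha]
      have hI : I.prod ≠ 0 := Multiset.prod_ne_zero fun h => hmem I (Multiset.mem_cons_self I S) 0 h rfl
      congr 1
      simp only [Function.comp_apply, Multiset.card_cons, Multiset.prod_cons]
      rw [pow_succ _ (I.card + 1), mul_neg_one, zpow_neg, ← div_eq_mul_inv, ← div_zpow]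
      congr 1
      field_simp
  obtain ⟨a, ha⟩ := Multiset.exists_mem_of_ne_zero hne
  obtain ⟨R', rfl⟩ := Multiset.exists_cons_of_mem ha
  rw [h1 a R' (hR a (Multiset.mem_cons_self a R')) fun b hb => hR b (Multiset.mem_cons_of_mem hb)]
  obtain ⟨b, hb⟩ := Multiset.exists_mem_of_ne_zero (show R' ≠ 0 by rintro rfl; simp at hev)
  obtain ⟨R'', rfl⟩ := Multiset.exists_cons_of_mem hb
  rw [Multiset.powerset_cons, Multiset.map_add, Multiset.sum_add, Multiset.map_map, ← Multiset.sum_map_add,
    Multiset.map_congr rfl (g := fun _ => (0 : ℤ)) fun I _ => by simp [pow_succ], Multiset.map_const', Multiset.sum_replicate,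
    smul_zero, zpow_zero]

end Groth.Agent.AVWeilRoots
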