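import Groth.Agent.S0388
import Groth.Agent.Pi1Ext.StF.Main
import Groth.Agent.H23.MulEtale
import Groth.Agent.H23.RigidGamma
import Groth.Agent.FlatPtDesc.Graph
import Mathlib.AlgebraicGeometry.Morphisms.FlatRank

/-!
A finite étale cover of an abelian scheme with connected fibres and a point over the origin is an abelian scheme.
-/

set_option autoImplicit false
set_option linter.style.haveILetI false
set_option backward.isDefEq.respectTransparency false
set_option backward.isDefEq.respectTransparency.types false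
set_option maxHeartbeats 1000000
set_option linter.unusedSectionVars false

universe u

open CategoryTheory CategoryTheory.Limits MonoidalCategory CartesianMonoidalCategory MonObj AlgebraicGeometry
  TopologicalSpace Opposite

noncomputable section

namespace Groth.Agent.AbSchEtaleCover

open Groth.Agent

/-- A finite étale morphism is an isomorphism if it is one over a set meeting enough connected sets. -/
theorem isIso_of_section {W P B : Scheme.{u}} (q : W ⟶ P) [IsFinite q] [Etale q] (c : B ⟶ P) {W₀ : Scheme.{u}}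
    (r : W₀ ⟶ B) (j : W₀ ⟶ W) (hsq : IsPullback j r q c) [IsIso r]
    (hconn : ∀ f : P → ℕ, IsLocallyConstant f → ∀ x, ∃ b, f x = f (c b)) : IsIso q := by
  rw [Scheme.Hom.isIso_iff_finrank_eq]
  funext x
  obtain ⟨b, hb⟩ := hconn _ q.isLocallyConstant_finrank x
  rw [hb, ← Scheme.Hom.finrank_of_isPullback j r q c hsq b, Scheme.Hom.finrank_eq_one_of_isIso r]
  rfl

variable {S : Scheme.{u}} {X Y : Over S}

/-- The section `t ↦ (e, t)`. -/
abbrev sec (eY : 𝟙_ (Over S) ⟶ Y) (T : Over S) : T ⟶ Y ⊗ T := lift (toUnit T ≫ eY) (𝟙 T)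

theorem hom_snd_preconnected [GeometricallyConnected Y.hom] {T : Over S} (t : T.left) :
    _root_.IsPreconnected ((snd Y T).left ⁻¹' {t}) := by
  haveI : GeometricallyConnected (snd Y T).left :=
    inferInstanceAs (GeometricallyConnected (pullback.snd Y.hom T.hom))
  exact ((snd Y T).left.isConnected_preimage_singleton t).isPreconnected

theorem snd_sec {eY : 𝟙_ (Over S) ⟶ Y} {T : Over S} (t : T.left) : (snd Y T).left ((sec eY T).left t) = t := by
  rw [← Scheme.Hom.comp_apply, ← Over.comp_left, lift_snd]
  rfl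

/-- Lifts through a finite étale morphism agree when they agree on a section. -/
theorem hom_ext [GeometricallyConnected Y.hom] (f : Y ⟶ X) [IsFinite f.left] [Etale f.left]
    (eY : 𝟙_ (Over S) ⟶ Y) {T : Over S} (m₁ m₂ : Y ⊗ T ⟶ Y) (hf : m₁ ≫ f = m₂ ≫ f)
    (hs : sec eY T ≫ m₁ = sec eY T ≫ m₂) : m₁ = m₂ := by
  let u := pullback.lift m₁.left m₂.left (by rw [← Over.comp_left, hf, Over.comp_left])
  let d := pullback.diagonal f.left
  haveI : IsOpenImmersion d := inferInstance
  haveI : IsClosedImmersion d := inferInstance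
  have hcl : IsClopen (u ⁻¹' Set.range d) :=
    ⟨d.isClosedEmbedding.isClosed_range.preimage u.continuous, d.isOpenEmbedding.isOpen_range.preimage u.continuous⟩
  have hr : Set.range u ⊆ Set.range d := by
    rintro _ ⟨x, rfl⟩
    refine (hom_snd_preconnected (Y := Y) ((snd Y T).left x)).subset_isClopen hcl
      ⟨(sec eY T).left ((snd Y T).left x), snd_sec _, ?_⟩ rfl
    refine ⟨(sec eY T ≫ m₁).left ((snd Y T).left x), ?_⟩
    suffices he2 : (sec eY T ≫ m₁).left ≫ d = (sec eY T).left ≫ u by
      exact congrArg (fun φ : T.left ⟶ _ => φ ((snd Y T).left x)) he2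
    apply pullback.hom_ext
    · rw [Category.assoc, Category.assoc, pullback.diagonal_fst, Category.comp_id, pullback.lift_fst]
      rfl
    · rw [Category.assoc, Category.assoc, pullback.diagonal_snd, Category.comp_id, pullback.lift_snd,
        ← Over.comp_left, ← hs]
  have hw := IsOpenImmersion.lift_fac d u hr
  apply Over.OverMorphism.ext
  have hw0 : m₁.left ≫ f.left = m₂.left ≫ f.left := by rw [← Over.comp_left, hf, Over.comp_left]
  refine (pullback.lift_fst (f := f.left) (g := f.left) m₁.left m₂.left hw0).symm.trans (Eq.trans ?_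
    (pullback.lift_snd (f := f.left) (g := f.left) m₁.left m₂.left hw0))
  show u ≫ pullback.fst _ _ = u ≫ pullback.snd _ _
  rw [← hw, Category.assoc, Category.assoc, pullback.diagonal_fst, pullback.diagonal_snd]

theorem hom_ext₁ [GeometricallyConnected Y.hom] (f : Y ⟶ X) [IsFinite f.left] [Etale f.left]
    (eY : 𝟙_ (Over S) ⟶ Y) (m₁ m₂ : Y ⟶ Y) (hf : m₁ ≫ f = m₂ ≫ f) (hs : eY ≫ m₁ = eY ≫ m₂) : m₁ = m₂ := by
  have h := hom_ext f eY (T := 𝟙_ (Over S)) (fst Y _ ≫ m₁) (fst Y _ ≫ m₂)
    (by rw [Category.assoc, hf, Category.assoc])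
    (by
      rw [lift_fst_assoc, lift_fst_assoc, Category.assoc, Category.assoc, hs])
  have h2 := congrArg (fun φ => lift (𝟙 Y) (toUnit Y) ≫ φ) h
  simpa using h2

theorem isPullback_whisker (f : Y ⟶ X) :
    IsPullback (snd Y Y).left (Y ◁ f).left f.left (snd Y X).left := by
  refine IsPullback.of_bot (v₂₁ := (fst Y X).left) (v₂₂ := X.hom) (h₃₁ := Y.hom) ?_ ?_
    (IsPullback.of_hasPullback Y.hom X.hom).flip
  · rw [Over.w f, ← Over.comp_left, whiskerLeft_fst]
    exact (IsPullback.of_hasPullback Y.hom Y.hom).flip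
  · rw [← Over.comp_left, ← Over.comp_left, whiskerLeft_snd]

theorem isPullback_sec (eY : 𝟙_ (Over S) ⟶ Y) :
    IsPullback (lift (𝟙 Y) (toUnit Y ≫ eY)).left Y.hom (snd Y Y).left eY.left := by
  refine IsPullback.of_right (h₁₂ := (fst Y Y).left) (h₂₂ := Y.hom) (v₁₃ := Y.hom) ?_ ?_
    (IsPullback.of_hasPullback Y.hom Y.hom)
  · rw [← Over.comp_left, lift_fst, Over.id_left, Over.w eY]
    haveI : IsIso (𝟙_ (Over S)).hom := inferInstanceAs (IsIso (𝟙 S))
    exact IsPullback.of_horiz_isIso ⟨by rw [Category.id_comp]; exact (Category.comp_id _).symm⟩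
  · rw [← Over.comp_left, lift_snd]
    rfl

variable [GrpObj X]

/-- The composite `Y × Y → X` of `f × f` with the group law. -/
abbrev sumMap (f : Y ⟶ X) : Y ⊗ Y ⟶ X := (fst Y Y ≫ f) * (snd Y Y ≫ f)

variable [IsProper X.hom] [Flat X.hom] [LocallyOfFinitePresentation X.hom] [GeometricallyReduced X.hom]
  [GeometricallyConnected X.hom]

variable [GeometricallyConnected Y.hom] (f : Y ⟶ X) [IsFinite f.left] [Etale f.left]
  (eY : 𝟙_ (Over S) ⟶ Y) (he : eY ≫ f = η[X])
include he

/-- The group law lifts. -/
theorem exists_mul : ∃ m : Y ⊗ Y ⟶ Y, m ≫ f = sumMap f ∧ sec eY Y ≫ m = 𝟙 Y := by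
  haveI : Smooth X.hom := H23.MulEtale.smooth
  haveI : Smooth Y.hom := by rw [← Over.w f]; infer_instance
  haveI : IsProper Y.hom := by rw [← Over.w f]; infer_instance
  haveI : IsSeparated Y.hom := inferInstance
  haveI : IsClosedImmersion eY.left := by
    haveI : IsClosedImmersion (eY.left ≫ Y.hom) := by rw [Over.w eY]; exact inferInstanceAs (IsClosedImmersion (𝟙 S))
    exact IsClosedImmersion.of_comp eY.left Y.hom
  let g := sumMap f
  have hg1 : sec eY Y ≫ g = f := by
    rw [MonObj.comp_mul, lift_fst_assoc, lift_snd_assoc, Category.assoc, he, Category.id_comp, ← Hom.one_def,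
      _root_.one_mul]
  have hg2 : lift (𝟙 Y) (toUnit Y ≫ eY) ≫ g = f := by
    rw [MonObj.comp_mul, lift_fst_assoc, lift_snd_assoc, Category.assoc, he, Category.id_comp, ← Hom.one_def,
      _root_.mul_one]
  let Z := pullback f.left g.left
  let q : Z ⟶ (Y ⊗ Y).left := pullback.snd f.left g.left
  let τ : Y.left ⟶ Z := pullback.lift (𝟙 Y.left) (sec eY Y).left (by rw [← Over.comp_left, hg1, Category.id_comp])
  let v : Y.left ⟶ Z := pullback.lift (𝟙 Y.left) (lift (𝟙 Y) (toUnit Y ≫ eY)).left
    (by rw [← Over.comp_left, hg2, Category.id_comp])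
  let h : Z ⟶ Y.left := q ≫ (snd Y Y).left
  haveI : IsProper (snd Y Y).left := inferInstanceAs (IsProper (pullback.snd Y.hom Y.hom))
  haveI : Smooth (snd Y Y).left := inferInstanceAs (Smooth (pullback.snd Y.hom Y.hom))
  haveI : GeometricallyReduced h := H23.RigidGamma.geometricallyReduced_of_smooth h
  obtain ⟨hNf, hNe⟩ := Pi1Ext.StF.finite_etale h
  haveI := hNf
  haveI := hNe
  haveI : GeometricallyConnected h.toNormalization := (S0388.result h).1
  have hτh : τ ≫ h = 𝟙 Y.left := by
    rw [← Category.assoc, pullback.lift_snd, ← Over.comp_left, lift_snd, Over.id_left]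
  let σ := τ ≫ h.toNormalization
  have hσ : σ ≫ h.fromNormalization = 𝟙 Y.left := by
    rw [Category.assoc, Scheme.Hom.toNormalization_fromNormalization, hτh]
  haveI : IsOpenImmersion σ := by
    haveI : IsOpenImmersion (σ ≫ h.fromNormalization) := by rw [hσ]; infer_instance
    exact FlatPtDesc.isOpenImmersion_of_comp σ h.fromNormalization
  haveI : IsClosedImmersion σ := by
    haveI : IsClosedImmersion (σ ≫ h.fromNormalization) := by rw [hσ]; infer_instance
    exact IsClosedImmersion.of_comp σ h.fromNormalization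
  let U : Z.Opens := ⟨h.toNormalization ⁻¹' Set.range σ, σ.isOpenEmbedding.isOpen_range.preimage
    h.toNormalization.continuous⟩
  haveI : IsClosedImmersion U.ι := IsClosedImmersion.of_isPreimmersion _ (by
    rw [Scheme.Opens.range_ι]
    exact σ.isClosedEmbedding.isClosed_range.preimage h.toNormalization.continuous)
  have hτU : Set.range τ ⊆ Set.range U.ι := by
    rintro _ ⟨y, rfl⟩
    rw [Scheme.Opens.range_ι]
    exact ⟨y, rfl⟩
  let qW : (U : Scheme.{u}) ⟶ (Y ⊗ Y).left := U.ι ≫ q
  -- the clopen piece is the image of the section over the other slice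
  haveI : IsClosedImmersion (lift (𝟙 Y) (toUnit Y ≫ eY)).left :=
    MorphismProperty.of_isPullback (isPullback_sec eY).flip ‹IsClosedImmersion eY.left›
  let ia := pullback.fst q (lift (𝟙 Y) (toUnit Y ≫ eY)).left
  let za := pullback.snd q (lift (𝟙 Y) (toUnit Y ≫ eY)).left
  let va : Y.left ⟶ pullback q (lift (𝟙 Y) (toUnit Y ≫ eY)).left :=
    pullback.lift v (𝟙 Y.left) (by rw [pullback.lift_snd, Category.id_comp])
  haveI : IsOpenImmersion va := by
    haveI : IsOpenImmersion (va ≫ za) := by rw [pullback.lift_snd]; infer_instance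
    exact FlatPtDesc.isOpenImmersion_of_comp va za
  haveI : IsClosedImmersion va := by
    haveI : IsClosedImmersion (va ≫ za) := by rw [pullback.lift_snd]; infer_instance
    exact IsClosedImmersion.of_comp va za
  have heτ : eY.left ≫ τ = eY.left ≫ v := by
    apply pullback.hom_ext
    · rw [Category.assoc, Category.assoc, pullback.lift_fst, pullback.lift_fst]
    · rw [Category.assoc, Category.assoc, pullback.lift_snd, pullback.lift_snd, ← Over.comp_left, ← Over.comp_left]
      congr 1
      simp [comp_lift, toUnit_unique (eY ≫ toUnit Y) (𝟙 _)]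
  have hsingle : ∀ (z : Z) (s : S), z ∈ U → q z = (sec eY Y).left (eY.left s) → z = τ (eY.left s) := by
    intro z s hz hqz
    have hhz : h z = eY.left s := by
      show (snd Y Y).left (q z) = _
      rw [hqz, snd_sec]
    obtain ⟨y, hy⟩ := hz
    have hy' : y = eY.left s := by
      have h1 := congrArg h.fromNormalization hy
      rw [← Scheme.Hom.comp_apply, hσ, ← Scheme.Hom.comp_apply, Scheme.Hom.toNormalization_fromNormalization, hhz] at h1
      exact h1
    let C := h.toNormalization ⁻¹' {σ (eY.left s)}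
    have hzC : z ∈ C := by
      show h.toNormalization z = σ (eY.left s)
      rw [← hy', hy]
    have hCh : C ⊆ h ⁻¹' {eY.left s} := fun w hw => by
      show h w = _
      rw [← h.toNormalization_fromNormalization, Scheme.Hom.comp_apply, show h.toNormalization w = σ (eY.left s) from hw,
        ← Scheme.Hom.comp_apply, hσ]
      rfl
    have hCi : C ⊆ Set.range ia := fun w hw => by
      rw [Scheme.Pullback.range_fst]
      show q w ∈ Set.range (lift (𝟙 Y) (toUnit Y ≫ eY)).left
      rw [show Set.range (lift (𝟙 Y) (toUnit Y ≫ eY)).left = (snd Y Y).left ⁻¹' Set.range eY.left by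
        rw [← Scheme.Pullback.range_fst, ← (isPullback_sec eY).isoPullback_hom_fst]
        exact ((isPullback_sec eY).isoPullback.hom.homeomorph.surjective).range_comp _]
      exact ⟨s, (hCh hw).symm⟩
    haveI : IsClosedImmersion ia := inferInstance
    have hC' : _root_.IsPreconnected (ia ⁻¹' C) := by
      rw [← ia.isClosedEmbedding.isInducing.isPreconnected_image, Set.image_preimage_eq_of_subset hCi]
      exact (h.toNormalization.isConnected_preimage_singleton _).isPreconnected
    have hτv : τ (eY.left s) = ia (va (eY.left s)) := by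
      rw [← Scheme.Hom.comp_apply va ia, pullback.lift_fst, ← Scheme.Hom.comp_apply, ← Scheme.Hom.comp_apply, heτ]
    have hsub := hC'.subset_isClopen ⟨va.isClosedEmbedding.isClosed_range, va.isOpenEmbedding.isOpen_range⟩
      ⟨va (eY.left s), show ia (va (eY.left s)) ∈ C by rw [← hτv]; rfl, ⟨eY.left s, rfl⟩⟩
    obtain ⟨w, rfl⟩ := hCi hzC
    obtain ⟨y', rfl⟩ := hsub hzC
    have hyq : (lift (𝟙 Y) (toUnit Y ≫ eY)).left y' = (sec eY Y).left (eY.left s) := by
      rw [← hqz, ← Scheme.Hom.comp_apply va ia, pullback.lift_fst, ← Scheme.Hom.comp_apply v q, pullback.lift_snd]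
    have h1 := congrArg (fst Y Y).left hyq
    simp only [← Scheme.Hom.comp_apply, ← Over.comp_left, lift_fst] at h1
    have h2 : y' = eY.left s := by
      refine h1.trans ?_
      rw [Category.assoc, lift_fst, ← Category.assoc, toUnit_unique (eY ≫ toUnit Y) (𝟙 _), Category.id_comp]
    rw [hτv, h2]
  let c0 : S ⟶ (Y ⊗ Y).left := (eY ≫ sec eY Y).left
  haveI : IsClosedImmersion c0 := by
    haveI : IsClosedImmersion (c0 ≫ (Y ⊗ Y).hom) := by
      rw [Over.w (eY ≫ sec eY Y)]; exact inferInstanceAs (IsClosedImmersion (𝟙 S))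
    haveI : IsSeparated (Y ⊗ Y).hom := inferInstanceAs (IsSeparated (pullback.fst Y.hom Y.hom ≫ Y.hom))
    exact IsClosedImmersion.of_comp c0 (Y ⊗ Y).hom
  let τU := IsOpenImmersion.lift U.ι τ hτU
  have hτUq : τU ≫ qW = (sec eY Y).left := by
    rw [IsOpenImmersion.lift_fac_assoc, pullback.lift_snd]
  let ρ : S ⟶ pullback qW c0 := pullback.lift (eY.left ≫ τU) (𝟙 S) (by
    rw [Category.assoc, hτUq, Category.id_comp]
    rfl)
  haveI : IsOpenImmersion ρ := by
    haveI : IsOpenImmersion (ρ ≫ pullback.snd qW c0) := by rw [pullback.lift_snd]; infer_instance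
    exact FlatPtDesc.isOpenImmersion_of_comp ρ (pullback.snd qW c0)
  haveI : Surjective ρ := ⟨fun p => by
    refine ⟨pullback.snd qW c0 p, (pullback.fst qW c0).isClosedEmbedding.injective ?_⟩
    apply U.ι.isOpenEmbedding.injective
    rw [← Scheme.Hom.comp_apply ρ, pullback.lift_fst, ← Scheme.Hom.comp_apply, Category.assoc,
      IsOpenImmersion.lift_fac, Scheme.Hom.comp_apply]
    refine (hsingle _ _ (pullback.fst qW c0 p).2 ?_).symm
    show q (U.ι (pullback.fst qW c0 p)) = _
    rw [← Scheme.Hom.comp_apply U.ι q, ← Scheme.Hom.comp_apply, pullback.condition, Scheme.Hom.comp_apply]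
    rfl⟩
  haveI : IsIso ρ :=
    isIso_of_isOpenImmersion_of_opensRange_eq_top _ (Opens.ext (Set.range_eq_univ.2 ρ.surjective))
  haveI : IsIso (pullback.snd qW c0) := by
    haveI : IsIso (ρ ≫ pullback.snd qW c0) := by rw [pullback.lift_snd]; infer_instance
    exact IsIso.of_isIso_comp_left ρ (pullback.snd qW c0)
  haveI : IsIso qW := by
    refine isIso_of_section qW c0 _ _ (IsPullback.of_hasPullback qW c0) fun F hF x => ?_
    refine ⟨Y.hom ((snd Y Y).left x), ?_⟩
    have h1 := hF.apply_eq_of_isPreconnected (hom_snd_preconnected (Y := Y) ((snd Y Y).left x))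
      (x := x) (y := (sec eY Y).left ((snd Y Y).left x)) rfl (snd_sec _)
    have h2 := (hF.comp_continuous (sec eY Y).left.continuous).apply_eq_of_isPreconnected
      (Y.hom.isConnected_preimage_singleton (Y.hom ((snd Y Y).left x))).isPreconnected
      (x := (snd Y Y).left x) (y := eY.left (Y.hom ((snd Y Y).left x))) rfl (by
        show Y.hom _ = _
        rw [← Scheme.Hom.comp_apply, Over.w eY]
        rfl)
    exact h1.trans h2
  refine ⟨Over.homMk (inv qW ≫ U.ι ≫ pullback.fst f.left g.left) ?_, ?_, ?_⟩
  · rw [Category.assoc, Category.assoc, IsIso.inv_comp_eq, ← Over.w f, pullback.condition_assoc, Over.w g,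
      ← Category.assoc]
  · apply Over.OverMorphism.ext
    show (inv qW ≫ U.ι ≫ pullback.fst f.left g.left) ≫ f.left = g.left
    rw [Category.assoc, Category.assoc, IsIso.inv_comp_eq, pullback.condition, ← Category.assoc]
  · apply Over.OverMorphism.ext
    show (sec eY Y).left ≫ inv qW ≫ U.ι ≫ pullback.fst f.left g.left = 𝟙 Y.left
    rw [← hτUq, Category.assoc, IsIso.hom_inv_id_assoc, IsOpenImmersion.lift_fac_assoc, pullback.lift_fst]

/-- The shear of a lifted group law is an isomorphism. -/
theorem isIso_shear (m : Y ⊗ Y ⟶ Y) (hm : m ≫ f = sumMap f) (hm1 : sec eY Y ≫ m = 𝟙 Y) :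
    IsIso (lift (fst Y Y) m) := by
  let sh := lift (fst Y Y) m
  let sX : Y ⊗ X ⟶ Y ⊗ X := lift (fst Y X) ((fst Y X ≫ f) * snd Y X)
  haveI : IsIso sX := ⟨lift (fst Y X) ((fst Y X ≫ f)⁻¹ * snd Y X), by
      apply CartesianMonoidalCategory.hom_ext
      · simp [sX]
      · simp [sX, MonObj.comp_mul, GrpObj.comp_inv],
    by
      apply CartesianMonoidalCategory.hom_ext
      · simp [sX]
      · simp [sX, MonObj.comp_mul, GrpObj.comp_inv]⟩
  haveI : IsIso sX.left := (Over.forget S).map_isIso sX
  haveI : IsFinite (Y ◁ f).left := MorphismProperty.of_isPullback (isPullback_whisker f) ‹IsFinite f.left›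
  haveI : Etale (Y ◁ f).left := MorphismProperty.of_isPullback (isPullback_whisker f) ‹Etale f.left›
  have hsh : sh ≫ (Y ◁ f) = (Y ◁ f) ≫ sX := by
    apply CartesianMonoidalCategory.hom_ext
    · simp [sh, sX]
    · simp [sh, sX, MonObj.comp_mul, hm]
  haveI : IsFinite sh.left := by
    haveI : IsFinite (sh.left ≫ (Y ◁ f).left) := by rw [← Over.comp_left, hsh, Over.comp_left]; infer_instance
    exact IsFinite.of_comp sh.left (Y ◁ f).left
  haveI : Etale sh.left := by
    haveI : Etale (sh.left ≫ (Y ◁ f).left) := by rw [← Over.comp_left, hsh, Over.comp_left]; infer_instance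
    exact Etale.of_comp sh.left (Y ◁ f).left
  have hc : sec eY Y ≫ sh = sec eY Y := by
    apply CartesianMonoidalCategory.hom_ext
    · simp [sh]
    · simp [sh, hm1]
  have hsq : IsPullback (sec eY Y) (𝟙 Y) sh (sec eY Y) := by
    refine ⟨⟨by rw [hc, Category.id_comp]⟩, ⟨PullbackCone.IsLimit.mk _ (fun c => c.snd) (fun c => ?_)
      (fun c => Category.comp_id _) fun c l h1 h2 => (Category.comp_id l).symm.trans h2⟩⟩
    have h1 := congrArg (fun φ => φ ≫ fst Y Y) c.condition
    simp only [sh, Category.assoc, lift_fst] at h1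
    have h2 := congrArg (fun φ => φ ≫ snd Y Y) c.condition
    simp only [sh, Category.assoc, lift_snd, Category.comp_id] at h2
    have hfst : c.fst = (c.fst ≫ snd Y Y) ≫ sec eY Y := by
      apply CartesianMonoidalCategory.hom_ext
      · rw [h1, Category.assoc, lift_fst]
        simp only [← Category.assoc]
        congr 1
        exact toUnit_unique _ _
      · simp
    have hsnd : c.fst ≫ snd Y Y = c.snd := by
      have h3 : c.fst ≫ m = c.fst ≫ snd Y Y := by
        conv_lhs => rw [hfst, Category.assoc, hm1, Category.comp_id]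
      rw [← h3, h2]
    rw [← hsnd]
    exact hfst.symm
  haveI : IsIso sh.left := by
    refine isIso_of_section sh.left (sec eY Y).left (𝟙 Y : Y ⟶ Y).left _ (hsq.map (Over.forget S)) fun F hF x => ?_
    exact ⟨(snd Y Y).left x, hF.apply_eq_of_isPreconnected (hom_snd_preconnected (Y := Y) ((snd Y Y).left x))
      rfl (snd_sec _)⟩
  haveI : IsIso ((Over.forget S).map sh) := ‹IsIso sh.left›
  exact isIso_of_reflects_iso sh (Over.forget S)

/-- The unique group structure. -/
theorem existsUnique_grpObj : ∃! h : GrpObj Y, h.one = eY ∧ h.mul ≫ f = (f ⊗ₘ f) ≫ μ[X] := by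
  obtain ⟨m, hm, hm1⟩ := exists_mul f eY he
  have hsum : (f ⊗ₘ f) ≫ μ[X] = sumMap f := by
    rw [sumMap, Hom.mul_def]
    congr 1
    all_goals (apply CartesianMonoidalCategory.hom_ext <;> simp)
  have hr : lift (𝟙 Y) (toUnit Y ≫ eY) ≫ m = 𝟙 Y := by
    refine hom_ext₁ f eY _ _ ?_ ?_
    · rw [Category.assoc, hm, MonObj.comp_mul, lift_fst_assoc, lift_snd_assoc, Category.assoc, he, Category.id_comp,
        ← Hom.one_def, _root_.mul_one]
    · rw [← Category.assoc, Category.comp_id]
      conv_rhs => rw [← Category.comp_id eY, ← hm1, ← Category.assoc]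
      congr 1
      apply CartesianMonoidalCategory.hom_ext <;>
        simp [comp_lift, toUnit_unique (eY ≫ toUnit Y) (𝟙 _)]
  let M : MonObj Y :=
    { one := eY
      mul := m
      one_mul := by
        rw [show eY ▷ Y = (λ_ Y).hom ≫ sec eY Y from CartesianMonoidalCategory.hom_ext _ _ (by
          rw [whiskerRight_fst, Category.assoc, lift_fst, ← Category.assoc]
          congr 1
          exact toUnit_unique _ _) (by simp [CartesianMonoidalCategory.leftUnitor_hom]), Category.assoc, hm1, Category.comp_id]
      mul_one := by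
        rw [show Y ◁ eY = (ρ_ Y).hom ≫ lift (𝟙 Y) (toUnit Y ≫ eY) from CartesianMonoidalCategory.hom_ext _ _
          (by simp [CartesianMonoidalCategory.rightUnitor_hom]) (by
            rw [whiskerLeft_snd, Category.assoc, lift_snd, ← Category.assoc]
            congr 1
            exact toUnit_unique _ _), Category.assoc, hr, Category.comp_id]
      mul_assoc := by
        rw [← cancel_epi (α_ Y Y Y).inv, Iso.inv_hom_id_assoc]
        refine hom_ext f eY _ _ ?_ ?_
        · simp only [Category.assoc, hm, sumMap, MonObj.comp_mul, whiskerRight_fst_assoc, whiskerRight_snd_assoc,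
            whiskerLeft_fst_assoc, whiskerLeft_snd_assoc, associator_inv_fst_fst_assoc, associator_inv_fst_snd_assoc,
            associator_inv_snd_assoc, _root_.mul_assoc]
        · rw [show sec eY (Y ⊗ Y) ≫ Y ◁ m ≫ m = m ≫ sec eY Y ≫ m by
            rw [← Category.assoc, ← Category.assoc]
            congr 1
            apply CartesianMonoidalCategory.hom_ext
            · rw [Category.assoc, whiskerLeft_fst, lift_fst, Category.assoc, lift_fst, ← Category.assoc]
              congr 1
              exact toUnit_unique _ _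
            · simp, hm1, Category.comp_id]
          rw [show sec eY (Y ⊗ Y) ≫ (α_ Y Y Y).inv ≫ m ▷ Y ≫ m = lift (fst Y Y ≫ sec eY Y ≫ m) (snd Y Y) ≫ m by
            rw [← Category.assoc, ← Category.assoc]
            congr 1
            apply CartesianMonoidalCategory.hom_ext
            · rw [Category.assoc, whiskerRight_fst, lift_fst, ← Category.assoc, ← Category.assoc]
              congr 1
              apply CartesianMonoidalCategory.hom_ext
              · rw [Category.assoc, Category.assoc, associator_inv_fst_fst, lift_fst, Category.assoc, lift_fst,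
                  ← Category.assoc]
                congr 1
                all_goals exact toUnit_unique _ _
              · simp
            · simp, hm1, Category.comp_id, lift_fst_snd, Category.id_comp] }
  haveI := isIso_shear f eY he m hm hm1
  let i : Y ⟶ Y := lift (𝟙 Y) (toUnit Y ≫ eY) ≫ inv (lift (fst Y Y) m) ≫ snd Y Y
  have hi : lift (𝟙 Y) i ≫ m = toUnit Y ≫ eY := by
    have h1 : lift (𝟙 Y) i = lift (𝟙 Y) (toUnit Y ≫ eY) ≫ inv (lift (fst Y Y) m) := by
      apply CartesianMonoidalCategory.hom_ext
      · rw [lift_fst, Category.assoc, show inv (lift (fst Y Y) m) ≫ fst Y Y = fst Y Y from by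
          rw [IsIso.inv_comp_eq, lift_fst], lift_fst]
      · rw [lift_snd, Category.assoc]
    rw [h1, Category.assoc, show inv (lift (fst Y Y) m) ≫ m = snd Y Y from by
      rw [IsIso.inv_comp_eq, lift_snd], lift_snd]
  let G : GrpObj Y :=
    { M with
      inv := i
      left_inv := by
        letI := M
        have h1 : 𝟙 Y * i = 1 := hi
        have h2 : i * (i ≫ i) = 1 := by
          calc i * (i ≫ i) = i ≫ (𝟙 Y * i) := by rw [MonObj.comp_mul, Category.comp_id]
            _ = 1 := by rw [h1, MonObj.comp_one]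
        have h3 : 𝟙 Y = i ≫ i := left_inv_eq_right_inv h1 h2
        show i * 𝟙 Y = 1
        conv_lhs => rw [h3]
        exact h2
      right_inv := hi }
  refine ⟨G, ⟨rfl, hm.trans hsum.symm⟩, fun G' ⟨h1, h2⟩ => ?_⟩
  apply GrpObj.toMonObj_injective
  apply MonObj.ext
  show G'.mul = m
  refine hom_ext f eY _ _ (h2.trans (hsum.trans hm.symm)) ?_
  rw [hm1, ← h1]
  letI := G'.toMonObj
  exact MonObj.lift_comp_one_left _ _


end Groth.Agent.AbSchEtaleCover
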