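import Groth.Agent.GrpOmega.Shear
import Groth.Agent.S7795
import Groth.Agent.S13630
import Groth.Agent.H23.PullPush
import Groth.Agent.GrLib8.PicUnion.Square
import Groth.Agent.CanonEval.Push

/-! Invariant differentials of an abelian scheme. -/

set_option autoImplicit false
set_option backward.isDefEq.respectTransparency false
set_option backward.isDefEq.respectTransparency.types false
set_option linter.style.haveILetI false
set_option maxHeartbeats 800000

universe u

open CategoryTheory CategoryTheory.Limits AlgebraicGeometry MonoidalCategory CartesianMonoidalCategory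
open MonObj GrpObj Opposite

namespace Groth.Agent.Lib.AbSchOmega

variable {S : Scheme.{u}} (A : Over S) [GrpObj A] [IsProper A.hom] [Flat A.hom]
  [LocallyOfFinitePresentation A.hom] [GeometricallyReduced A.hom] [GeometricallyConnected A.hom]

/-- An abelian scheme has `O = f_* O`. -/
theorem bijective_app (W : S.Opens) : Function.Bijective (A.hom.app W) :=
  SectionGamma.bijective_app A.hom
    (GrLib8.PicUnion.constFibres_of_hfib A.hom fun _ _ _ _ =>
      ⟨GeometricallyReduced.geometrically_isReduced (f := A.hom) _ _ _ (.of_hasPullback _ _),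
        GeometricallyConnected.geometrically_connectedSpace (f := A.hom) _ _ _ (.of_hasPullback _ _)⟩)
    η[A].left (Over.w η[A]) W

omit [GeometricallyConnected A.hom] in
theorem isFinLocFree_invariant :
    FlatMod.IsFinLocFree ((Scheme.Modules.pullback η[A].left).obj (Omega.sheaf A.hom)) := by
  haveI : Smooth A.hom := S7795.result A
  exact CanonEval.isFinLocFree_pullback _ (S13630.isFinLocFree_omega A.hom)

theorem isIso_unit_invariant : IsIso ((Scheme.Modules.pullbackPushforwardAdjunction A.hom).unit.app
    ((Scheme.Modules.pullback η[A].left).obj (Omega.sheaf A.hom))) :=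
  H23.PullPush.isIso_unit_of_isFinLocFree A.hom (bijective_app A) _ (isFinLocFree_invariant A)

/-- The direct image of the differentials is the module of invariant differentials. -/
theorem nonempty_push_omega_iso : Nonempty ((Coh.push A.hom).obj (Omega.sheaf A.hom) ≅
    (Scheme.Modules.pullback η[A].left).obj (Omega.sheaf A.hom)) := by
  obtain ⟨ω⟩ := GrpOmega.nonempty_omega_iso A
  haveI := isIso_unit_invariant A
  exact ⟨(Coh.push A.hom).mapIso ω.symm ≪≫
    (asIso ((Scheme.Modules.pullbackPushforwardAdjunction A.hom).unit.app
      ((Scheme.Modules.pullback η[A].left).obj (Omega.sheaf A.hom)))).symm⟩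

/-- Every global differential is invariant. -/
theorem bijective_unit_top : Function.Bijective
    (((Scheme.Modules.pullbackPushforwardAdjunction η[A].left).unit.app (Omega.sheaf A.hom)).val.app (op ⊤)).hom := by
  obtain ⟨ω⟩ := GrpOmega.nonempty_omega_iso A
  let e := η[A].left
  let f := A.hom
  let M := (Scheme.Modules.pullback e).obj (Omega.sheaf f)
  let L := Scheme.Modules.pullback f ⋙ Scheme.Modules.pullback e
  let adje := Scheme.Modules.pullbackPushforwardAdjunction e
  let adj := (Scheme.Modules.pullbackPushforwardAdjunction f).comp adje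
  let eL : L ≅ 𝟭 S.Modules := Scheme.Modules.pullbackComp e f ≪≫
    Scheme.Modules.pullbackCongr (Over.w η[A]) ≪≫ Scheme.Modules.pullbackId S
  haveI : L.Full := Functor.Full.of_iso eL.symm
  haveI : L.Faithful := Functor.Faithful.of_iso eL.symm
  haveI : IsIso (adj.unit.app M) := inferInstance
  haveI := isIso_unit_invariant A
  have h : adj.unit.app M = (Scheme.Modules.pullbackPushforwardAdjunction f).unit.app M ≫
      (Scheme.Modules.pushforward f).map (adje.unit.app ((Scheme.Modules.pullback f).obj M)) :=
    Adjunction.comp_unit_app _ _ _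
  haveI : IsIso ((Scheme.Modules.pushforward f).map (adje.unit.app ((Scheme.Modules.pullback f).obj M))) := by
    haveI : IsIso ((Scheme.Modules.pullbackPushforwardAdjunction f).unit.app M ≫
        (Scheme.Modules.pushforward f).map (adje.unit.app ((Scheme.Modules.pullback f).obj M))) := h ▸ inferInstance
    exact IsIso.of_isIso_comp_left ((Scheme.Modules.pullbackPushforwardAdjunction f).unit.app M) _
  have hM : Function.Bijective ((adje.unit.app ((Scheme.Modules.pullback f).obj M)).app ⊤) :=
    ((ConcreteCategory.isIso_iff_bijective _).1 ((Scheme.Modules.Hom.isIso_iff_isIso_app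
      (φ := (Scheme.Modules.pushforward f).map (adje.unit.app ((Scheme.Modules.pullback f).obj M)))
      |>.1 inferInstance) (⊤ : S.Opens)) :)
  have hnat := adje.unit.naturality ω.hom
  have hb : Function.Bijective (ω.hom.app ⊤) :=
    (ConcreteCategory.isIso_iff_bijective _).1 (Scheme.Modules.Hom.isIso_iff_isIso_app.1 inferInstance ⊤)
  have hb' : Function.Bijective
      (((Scheme.Modules.pullback e ⋙ Scheme.Modules.pushforward e).map ω.hom).app ⊤) :=
    (ConcreteCategory.isIso_iff_bijective _).1 (Scheme.Modules.Hom.isIso_iff_isIso_app.1 inferInstance ⊤)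
  have heq : ((adje.unit.app (Omega.sheaf f)).app ⊤ : _ → _) ∘ (ω.hom.app ⊤) =
      (((Scheme.Modules.pullback e ⋙ Scheme.Modules.pushforward e).map ω.hom).app ⊤) ∘
        ((adje.unit.app ((Scheme.Modules.pullback f).obj M)).app ⊤) :=
    funext fun x => congrArg (fun φ => φ.app ⊤ x) hnat
  have hc : Function.Bijective (((adje.unit.app (Omega.sheaf f)).app ⊤ : _ → _) ∘ (ω.hom.app ⊤)) :=
    heq ▸ hb'.comp hM
  exact (Function.Bijective.of_comp_iff _ hb).1 hc

end Groth.Agent.Lib.AbSchOmega
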