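import Groth.Agent.Lib.KoszulZigzag
import Mathlib.RingTheory.Smooth.Basic
import Mathlib.LinearAlgebra.Determinant

/-!
Bases of differentials adapted to a formally smooth quotient cut out by a regular sequence.
-/

set_option linter.style.haveILetI false
set_option linter.unusedSectionVars false
set_option maxHeartbeats 1000000

universe u

open scoped TensorProduct

noncomputable section

namespace Groth.Agent.AdaptedBasis

theorem exists_adapted {R A B : Type u} [CommRing R] [CommRing A] [CommRing B] [Algebra R A] [Algebra R B]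
    [Algebra A B] [IsScalarTower R A B] [Algebra.FormallySmooth R A] [Algebra.FormallySmooth R B] [Nontrivial B]
    (hs : Function.Surjective (algebraMap A B)) {c r n : ℕ} (f : Fin c → A)
    (hf : RingTheory.Sequence.IsWeaklyRegular A (List.ofFn f))
    (hker : Ideal.span (Set.range f) = RingHom.ker (algebraMap A B))
    (bA : Module.Basis (Fin n) A Ω[A⁄R]) (bB : Module.Basis (Fin r) B Ω[B⁄R]) :
    ∃ (hn : c + r = n) (ω : Fin r → Ω[A⁄R]), (∀ j, KaehlerDifferential.map R R A B (ω j) = bB j) ∧
      IsUnit (algebraMap A B (bA.det fun k =>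
        Fin.append (fun i => KaehlerDifferential.D R A (f i)) ω (Fin.cast hn.symm k))) := by
  classical
  have hmap : ∀ j, ∃ ω, KaehlerDifferential.map R R A B ω = bB j := fun j => by
    obtain ⟨t, ht⟩ := KaehlerDifferential.mapBaseChange_surjective R A B hs (bB j)
    induction t using TensorProduct.induction_on generalizing j with
    | zero => exact ⟨0, (map_zero _).trans ((map_zero _).symm.trans ht)⟩
    | tmul b y =>
      obtain ⟨a, rfl⟩ := hs b
      refine ⟨a • y, ?_⟩
      rw [← ht, KaehlerDifferential.mapBaseChange_tmul, map_smul, algebraMap_smul]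
    | add x y _ _ =>
      obtain ⟨z, hz⟩ : ∃ z, (1 : B) ⊗ₜ[A] z = x + y := TensorProduct.mk_surjective A Ω[A⁄R] B hs (x + y)
      refine ⟨z, ?_⟩
      rw [← ht, ← hz, KaehlerDifferential.mapBaseChange_tmul, one_smul]
  choose ω hω using hmap
  let w : Fin (c + r) → B ⊗[A] Ω[A⁄R] := fun k =>
    (1 : B) ⊗ₜ Fin.append (fun i => KaehlerDifferential.D R A (f i)) ω k
  have hwl : ∀ i, w (Fin.castAdd r i) = (1 : B) ⊗ₜ KaehlerDifferential.D R A (f i) := fun i => by simp [w]
  have hwr : ∀ j, w (Fin.natAdd c j) = (1 : B) ⊗ₜ ω j := fun j => by simp [w]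
  have hfk : ∀ i, f i ∈ RingHom.ker (algebraMap A B) := fun i => hker ▸ Ideal.subset_span ⟨i, rfl⟩
  have hψw : ∀ i, KaehlerDifferential.mapBaseChange R A B (w (Fin.castAdd r i)) = 0 := fun i => by
    rw [hwl, KaehlerDifferential.mapBaseChange_tmul, one_smul, KaehlerDifferential.map_D,
      RingHom.mem_ker.1 (hfk i), map_zero]
  have hψr : ∀ j, KaehlerDifferential.mapBaseChange R A B (w (Fin.natAdd c j)) = bB j := fun j => by
    rw [hwr, KaehlerDifferential.mapBaseChange_tmul, one_smul, hω]
  obtain ⟨σ, hσ⟩ := (Algebra.FormallySmooth.iff_split_injection (R := R) hs).1 inferInstance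
  have hli : LinearIndependent B w := by
    refine Fintype.linearIndependent_iff.2 fun g hg => ?_
    rw [Fin.sum_univ_add] at hg
    have h1 := congrArg (KaehlerDifferential.mapBaseChange R A B) hg
    rw [map_add, map_sum, map_sum, map_zero] at h1
    simp only [map_smul, hψw, hψr, smul_zero, Finset.sum_const_zero, zero_add] at h1
    have h2 : ∀ j, g (Fin.natAdd c j) = 0 := Fintype.linearIndependent_iff.1 bB.linearIndependent _ h1
    simp only [h2, zero_smul, Finset.sum_const_zero, add_zero] at hg
    choose a ha using fun i => hs (g (Fin.castAdd r i))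
    simp only [← ha, algebraMap_smul, hwl] at hg
    let x : RingHom.ker (algebraMap A B) := ⟨∑ i, a i * f i, Ideal.sum_mem _ fun i _ => Ideal.mul_mem_left _ _ (hfk i)⟩
    have hx : x = ∑ i, a i • (⟨f i, hfk i⟩ : RingHom.ker (algebraMap A B)) :=
      Subtype.ext (by simp [x])
    have h3 : KaehlerDifferential.kerCotangentToTensor R A B (Ideal.toCotangent _ x) = 0 := by
      rw [hx, map_sum, map_sum, ← hg]
      refine Finset.sum_congr rfl fun i _ => ?_
      rw [map_smul, map_smul, KaehlerDifferential.kerCotangentToTensor_toCotangent]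
    have h4 : Ideal.toCotangent _ x = 0 := by
      have := congrArg σ h3
      rwa [map_zero, ← LinearMap.comp_apply, hσ, LinearMap.id_apply] at this
    rw [Ideal.toCotangent_eq_zero, pow_two] at h4
    replace h4 : ∑ i, a i * f i ∈ Ideal.span (Set.range f) * Ideal.span (Set.range f) := hker.symm ▸ h4
    have h5 := KoszulZigzag.mem_of_mem_sq f hf a h4
    intro k
    refine Fin.addCases (fun i => ?_) h2 k
    rw [← ha]
    exact RingHom.mem_ker.1 (hker ▸ h5 i)
  have hspan : ⊤ ≤ Submodule.span B (Set.range w) := by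
    intro t _
    let q := KaehlerDifferential.mapBaseChange R A B t
    have h1 : KaehlerDifferential.mapBaseChange R A B (t - ∑ j, bB.repr q j • w (Fin.natAdd c j)) = 0 := by
      rw [map_sub, map_sum]
      simp only [map_smul, hψr, bB.sum_repr, q, sub_self]
    obtain ⟨z, hz⟩ := (KaehlerDifferential.exact_kerCotangentToTensor_mapBaseChange R A B hs _).1 h1
    rw [eq_comm, sub_eq_iff_eq_add] at hz
    rw [hz]
    refine add_mem ?_ (sum_mem fun j _ => Submodule.smul_mem _ _ (Submodule.subset_span ⟨_, rfl⟩))
    obtain ⟨⟨y, hy⟩, rfl⟩ := Ideal.toCotangent_surjective _ z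
    have hy' := hy
    rw [← hker, Ideal.mem_span_range_iff_exists_fun] at hy'
    obtain ⟨a, ha⟩ := hy'
    have hx : (⟨y, hy⟩ : RingHom.ker (algebraMap A B)) =
        ∑ i, a i • (⟨f i, hfk i⟩ : RingHom.ker (algebraMap A B)) := Subtype.ext (by simp [← ha])
    rw [hx, map_sum, map_sum]
    refine sum_mem fun i _ => ?_
    rw [map_smul, map_smul, KaehlerDifferential.kerCotangentToTensor_toCotangent, ← algebraMap_smul B (a i)]
    exact Submodule.smul_mem _ _ (Submodule.subset_span ⟨Fin.castAdd r i, hwl i⟩)
  let bw := Module.Basis.mk hli hspan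
  let bM := bA.baseChange B
  have hn : c + r = n := by
    have h1 := Module.finrank_eq_card_basis bw
    have h2 := Module.finrank_eq_card_basis bM
    simp only [Fintype.card_fin] at h1 h2
    omega
  refine ⟨hn, ω, hω, ?_⟩
  subst hn
  have h1 : IsUnit (bM.det w) := by
    rw [← bM.is_basis_iff_det]
    exact ⟨hli, top_le_iff.1 hspan⟩
  refine (congrArg IsUnit ?_).mp h1
  rw [Module.Basis.det_apply, Module.Basis.det_apply, RingHom.map_det]
  congr 1
  ext i j
  simp [bM, w, Module.Basis.toMatrix_apply, Algebra.smul_def]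

end Groth.Agent.AdaptedBasis
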