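import Groth.Agent.AlgEqPts.Main
import Groth.Agent.S1551
import Groth.Agent.H26.GGContract.Main

/-!
# Two images of points of a complete curve are algebraically equivalent
-/

set_option autoImplicit false
set_option linter.style.haveILetI false
set_option linter.unusedSectionVars false
set_option backward.isDefEq.respectTransparency false
set_option backward.isDefEq.respectTransparency.types false

universe u

open AlgebraicGeometry CategoryTheory CategoryTheory.Limits

namespace Groth.Agent.AlgEqPts

open Groth.Agent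

variable {k : Type u} [Field k] {X C : Scheme.{u}} {p : X ⟶ Spec (CommRingCat.of k)}
  {q : C ⟶ Spec (CommRingCat.of k)} (ι : C ⟶ X) (hι : ι ≫ p = q)

theorem fibreFun_graph' [IsIntegral C] [IsClosedImmersion (graph ι hι)]
    [DecidableEq ↥(pullback p q)] [DecidableEq ↥X]
    (t : Spec (CommRingCat.of k) ⟶ C) (ht : t ≫ q = 𝟙 _) (x : X) :
    AlgEqCyc.fibreFun p q
      (Function.locallyFinsuppWithin.single (graph ι hι (genericPoint C)) (1 : ℤ)) t ht x =
    Function.locallyFinsuppWithin.single (ι (t (IsLocalRing.closedPoint k))) (1 : ℤ) x := by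
  have hsupp : ∀ w, Function.locallyFinsuppWithin.single (graph ι hι (genericPoint C)) (1 : ℤ) w
      ≠ 0 → w = graph ι hι (genericPoint C) := fun w hw => by
    simpa using hw
  have hspec : graph ι hι (genericPoint C) ⤳ AlgEqCyc.slice p q t ht x →
      x = ι (t (IsLocalRing.closedPoint k)) := by
    intro h
    obtain ⟨c, hc⟩ := h.mem_closed (graph ι hι).isClosedEmbedding.isClosed_range
      (Set.mem_range_self _)
    have h1 : ι c = x := by
      calc ι c = (graph ι hι ≫ pullback.fst p q) c := by rw [graph_fst]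
        _ = pullback.fst p q (AlgEqCyc.slice p q t ht x) :=
          (Scheme.Hom.comp_apply _ _ _).trans (congrArg _ hc)
        _ = (AlgEqCyc.slice p q t ht ≫ pullback.fst p q) x := (Scheme.Hom.comp_apply _ _ _).symm
        _ = x := by rw [AlgEqCyc.slice, pullback.lift_fst]; rfl
    have h2 : c = t (IsLocalRing.closedPoint k) := by
      calc c = (graph ι hι ≫ pullback.snd p q) c := by rw [graph_snd]; rfl
        _ = pullback.snd p q (AlgEqCyc.slice p q t ht x) :=
          (Scheme.Hom.comp_apply _ _ _).trans (congrArg _ hc)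
        _ = (AlgEqCyc.slice p q t ht ≫ pullback.snd p q) x := (Scheme.Hom.comp_apply _ _ _).symm
        _ = t (p x) := by rw [AlgEqCyc.slice, pullback.lift_snd, Scheme.Hom.comp_apply]
        _ = _ := congrArg t (Subsingleton.elim _ _)
    rw [← h1, h2]
  rw [Function.locallyFinsuppWithin.single_apply]
  by_cases hx : x = ι (t (IsLocalRing.closedPoint k))
  · rw [if_pos hx]
    have hsl : AlgEqCyc.slice p q t ht x = graph ι hι (t (IsLocalRing.closedPoint k)) := by
      rw [hx]
      exact congrArg (fun f : Spec (CommRingCat.of k) ⟶ pullback p q =>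
        f (IsLocalRing.closedPoint k)) (comp_slice ι hι t ht)
    have hs : graph ι hι (genericPoint C) ⤳ AlgEqCyc.slice p q t ht x := by
      rw [hsl]
      exact ((genericPoint_spec C).specializes trivial).map (graph ι hι).continuous
    unfold AlgEqCyc.fibreFun
    rw [finsum_eq_single _ ⟨graph ι hι (genericPoint C), by simp, hs⟩
      (fun w hw => absurd (Subtype.ext (hsupp w.1 w.2.1)) hw),
      fibreMult_section (pullback.snd p q) (graph ι hι) (graph_snd ι hι)
        (t (IsLocalRing.closedPoint k)) _ _ hsl rfl]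
    simp
  · rw [if_neg hx]
    refine finsum_eq_zero_of_forall_eq_zero fun w => ?_
    exact absurd (hspec (hsupp w.1 w.2.1 ▸ w.2.2)) hx

include hι in
theorem isElemAlgTriv_of_map [DecidableEq ↥X] [IsSeparated p] (hs : Smooth q)
    (hp : Neron.IsProjectiveOver k (Over.mk q)) (hi : IsIntegral C)
    (hd : topologicalKrullDim ↥C = 1) (t₁ t₂ : Spec (CommRingCat.of k) ⟶ C)
    (h₁ : t₁ ≫ q = 𝟙 _) (h₂ : t₂ ≫ q = 𝟙 _) :
    AlgEqCyc.IsElemAlgTriv p
      (Function.locallyFinsuppWithin.single (ι (t₁ (IsLocalRing.closedPoint k))) (1 : ℤ) -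
        Function.locallyFinsuppWithin.single (ι (t₂ (IsLocalRing.closedPoint k))) (1 : ℤ)) := by
  classical
  haveI : IsClosedImmersion (graph ι hι) := by
    haveI : IsClosedImmersion (graph ι hι ≫ pullback.snd p q) := by rw [graph_snd]; infer_instance
    exact IsClosedImmersion.of_comp (graph ι hι) (pullback.snd p q)
  refine ⟨C, q, hs, hp, hi, hd,
    Function.locallyFinsuppWithin.single (graph ι hι (genericPoint C)) (1 : ℤ), ?_,
    t₁, t₂, h₁, h₂, fun x => ?_⟩
  · intro w hw
    have hw' : w = graph ι hι (genericPoint C) := by simpa using hw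
    rw [hw', ← Scheme.Hom.comp_apply, graph_snd]
    exact genericPoint_spec C
  · rw [fibreFun_graph' ι hι t₁ h₁ x, fibreFun_graph' ι hι t₂ h₂ x]
    rfl

/-- A proper curve is projective. -/
theorem isProjectiveOver_of_proper (q : C ⟶ Spec (CommRingCat.of k)) [IsProper q]
    (hd : topologicalKrullDim ↥C = 1) : Neron.IsProjectiveOver k (Over.mk q) := by
  haveI : IsLocallyNoetherian C := LocallyOfFiniteType.isLocallyNoetherian q
  haveI : CompactSpace C := QuasiCompact.compactSpace_of_compactSpace q
  haveI : IsNoetherian C := ⟨⟩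
  haveI : C.IsSeparated := ⟨by rw [← Limits.terminal.comp_from q]; infer_instance⟩
  obtain ⟨L, hL⟩ := S1551.result C hd
  obtain ⟨N, j, hj, hj'⟩ := AmpleEmbed.exists_closedImmersion q hL
  haveI := hj
  obtain ⟨a, ha, -⟩ := SeesawX.PnSpec.exists_iso N k
  refine ⟨N, j ≫ a.inv, inferInstance, ?_⟩
  rw [Category.assoc, ← ha, Iso.inv_hom_id_assoc]
  exact hj'

end Groth.Agent.AlgEqPts
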