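import Groth.Agent.Lib.AsympCoh
import Groth.Agent.Snapper.DimVanish

/-!
Higher cohomology of powers above the dimension of the stable base locus grows in lower order.
-/

set_option autoImplicit false
set_option linter.style.haveILetI false
set_option linter.unusedSectionVars false
set_option backward.isDefEq.respectTransparency false
set_option backward.isDefEq.respectTransparency.types false
set_option maxHeartbeats 1000000

universe u

open CategoryTheory CategoryTheory.Limits AlgebraicGeometry TopologicalSpace Opposite Filter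

noncomputable section

namespace Groth.Agent.AsympBase

open Groth.Agent Groth.Agent.CohGrowth Groth.Agent.Snapper
open scoped Groth.Agent.H23.PicMul

section Nums

/-- Bounded by the allowed growth, one variable. -/
def Bd (g : ℕ) (f : ℕ → ℕ) : Prop := ∃ C, ∀ q, f q ≤ C * w g q

/-- Small steps of a fixed length give growth one degree up. -/
theorem bd_of_step {g M : ℕ} (hM : 1 ≤ M) {f : ℕ → ℕ} {C : ℕ}
    (h : ∀ q, f (q + M) ≤ f q + C * w g q) : Bd (g + 1) f := by
  let S := ∑ q ∈ Finset.range M, f q
  have key : ∀ q, f q ≤ S + q * (C * w g q) := by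
    intro q
    induction q using Nat.strong_induction_on with
    | _ q ih =>
      rcases lt_or_ge q M with hq | hq
      · exact le_trans (Finset.single_le_sum (fun l _ => Nat.zero_le _) (Finset.mem_range.2 hq))
          (Nat.le_add_right _ _)
      · obtain ⟨p, rfl⟩ : ∃ p, q = p + M := ⟨q - M, (Nat.sub_add_cancel hq).symm⟩
        have h1 := ih p (by omega)
        have h2 : C * w g p ≤ C * w g (p + M) := Nat.mul_le_mul_left _ (w_mono (Nat.le_add_right p M))
        have h3 : p * (C * w g p) + C * w g p ≤ (p + M) * (C * w g (p + M)) := by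
          rw [← Nat.succ_mul]
          exact Nat.mul_le_mul (by omega) h2
        have h4 := h p
        omega
  refine ⟨S + C, fun q => (key q).trans ?_⟩
  rw [w_succ, add_mul]
  refine Nat.add_le_add (Nat.le_mul_of_pos_right _ (pow_pos (Nat.succ_pos _) _)) ?_
  rw [mul_left_comm]
  exact Nat.mul_le_mul_left C (mul_w_le _ _)

theorem Bd.add {g : ℕ} {f f' : ℕ → ℕ} (h : Bd g f) (h' : Bd g f') : Bd g fun q => f q + f' q :=
  let ⟨C, hC⟩ := h; let ⟨C', hC'⟩ := h'
  ⟨C + C', fun q => by rw [add_mul]; exact Nat.add_le_add (hC q) (hC' q)⟩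

theorem Bd.mono {g : ℕ} {f f' : ℕ → ℕ} (h : Bd g f') (hle : ∀ q, f q ≤ f' q) : Bd g f :=
  let ⟨C, hC⟩ := h; ⟨C, fun q => (hle q).trans (hC q)⟩

end Nums

variable {X : Scheme.{u}}

/-- A section generates on its generating locus. -/
theorem isoOn_genLocus {L : X.Modules} (s : Coh.structureModule X ⟶ L) :
    IsoOn (CohB1.genLocus L s) s := fun x hx => by
  obtain ⟨U, hxU, hU⟩ := InvX.mem_genLocus hx
  let F := DerSch.stalkFunctor X x
  let one : F.obj (Coh.structureModule X) :=
    (Coh.structureModule X).presheaf.germ U x hxU (show Γ(Coh.structureModule X, U) from (1 : Γ(X, U)))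
  have hs1 : F.map s one = L.presheaf.germ U x hxU (AModX.res L (le_top : U ≤ ⊤) (InvX.one s)) := by
    refine (TopCat.Presheaf.stalkFunctor_map_germ_apply U x hxU ((Scheme.Modules.toPresheaf X).map s) _).trans ?_
    exact congrArg (L.presheaf.germ U x hxU) ((InvX.app_eq_smul s (1 : Γ(X, U))).trans (one_smul _ _))
  have hval : ∀ c : X.presheaf.stalk x,
      F.map s (c • one) = c • L.presheaf.germ U x hxU (AModX.res L (le_top : U ≤ ⊤) (InvX.one s)) := fun c => by
    rw [map_smul (F.map s).hom, hs1]
  refine (ConcreteCategory.isIso_iff_bijective _).2 ⟨fun p q hpq => ?_, fun q => ?_⟩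
  · obtain ⟨c, rfl⟩ := ((InvX.isFrame_one (X := X) U).germ_bijective (x := x) hxU).2 p
    obtain ⟨d, rfl⟩ := ((InvX.isFrame_one (X := X) U).germ_bijective (x := x) hxU).2 q
    rw [(hU.germ_bijective hxU).1 (((hval c).symm.trans hpq).trans (hval d))]
  · obtain ⟨c, rfl⟩ := (hU.germ_bijective hxU).2 q
    exact ⟨c • one, hval c⟩

theorem isClosed_baseLocus (L : X.Modules) : IsClosed (W4c5asymptcohfn.baseLocus X L) := by
  rw [show W4c5asymptcohfn.baseLocus X L =
      ⋂ s : Coh.structureModule X ⟶ L, ((CohB1.genLocus L s : Set X))ᶜ from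
    Set.ext fun x => by simp [W4c5asymptcohfn.baseLocus]]
  exact isClosed_iInter fun s => (CohB1.genLocus L s).2.isClosed_compl

theorem isClosed_stableBaseLocus (L : X.Modules) :
    IsClosed (W4c5asymptcohfn.stableBaseLocus X L) :=
  isClosed_iInter fun _ => isClosed_baseLocus _

variable (k : Type u) [Field k] [X.Over (Spec (CommRingCat.of k))]
  [IsProper (X ↘ Spec (CommRingCat.of k))]

/-- The dimension of the cohomology of a twist by a power. -/
abbrev h (L : X.Modules) (j : ℕ) (F : X.Modules) (q : ℕ) : ℕ := hgt k (fun _ : Fin 1 => L) j F fun _ => q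

variable {L : X.Modules} (hL : PicF.IsInvertible L)

include hL in
theorem map_le {A B : X.Modules} (hA : Coh.IsCoh A) (hB : Coh.IsCoh B) (φ : A ⟶ B) (j q : ℕ) :
    h k L j B q ≤ h k L j A q + h k L (j + 1) (kernel φ) q + h k L j (cokernel φ) q := by
  haveI := CurveCohLib.isNoetherian_of_proper (k := k) (X := X)
  have hL' : ∀ _ : Fin 1, PicF.IsInvertible L := fun _ => hL
  let n : Fin 1 → ℕ := fun _ => q
  have hK := QCoh.isCoh_kernel hA hB φ
  have hC := QCoh.isCoh_cokernel hA.1 hB φ
  have hI : Coh.IsCoh (Abelian.image φ) :=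
    QCoh.isCoh_of_epi (Abelian.factorThruImage φ) hA (QCoh.isQCoh_kernel hB.1 hC.1 _)
  obtain ⟨hK', hA', hI', f, g, w₁, hS₁⟩ := cohSES_tensorPows (fun _ : Fin 1 => L) hL' n (A := kernel φ) (B := A)
    (C := Abelian.image φ) ⟨hK, hA, hI, kernel.ι φ, Abelian.factorThruImage φ,
      (cancel_mono (Abelian.image.ι φ)).1 (by rw [Category.assoc, Abelian.image.fac, kernel.condition, zero_comp]),
      { exact := ShortComplex.exact_of_f_is_kernel _ (KernelFork.IsLimit.ofι' _ _ fun {T} t ht =>
          ⟨kernel.lift φ t (by rw [← Abelian.image.fac φ, reassoc_of% ht, zero_comp]), kernel.lift_ι _ _ _⟩)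
        mono_f := inferInstance
        epi_g := inferInstance }⟩
  obtain ⟨hI'', hB', hC', f', g', w₂, hS₂⟩ := cohSES_tensorPows (fun _ : Fin 1 => L) hL' n (A := Abelian.image φ)
    (B := B) (C := cokernel φ) ⟨hI, hB, hC, Abelian.image.ι φ, cokernel.π φ, kernel.condition _,
      { exact := ShortComplex.exact_of_f_is_kernel _ (kernelIsKernel (cokernel.π φ))
        mono_f := inferInstance
        epi_g := inferInstance }⟩
  have a2 := finrank_right_le k (S := ShortComplex.mk f g w₁) hS₁ hK' hA' hI' j
  have b1 := finrank_mid_le' k (S := ShortComplex.mk f' g' w₂) hS₂ hI' hB' hC' j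
  dsimp only [n] at a2 b1
  simp only [h, hgt]
  omega

include hL in
theorem h_shift (F : X.Modules) (M j q : ℕ) :
    h k L j (CohB1.tensorMod (CohB1.tensorPow L M) F) q = h k L j F (q + M) := by
  obtain ⟨e⟩ := (PicGrp.cl_eq_cl_iff (CohB1.tensorMod (CohB1.tensorPow L M) (CohB1.tensorPow L q))
    (CohB1.tensorPow L (q + M))).1
    (by simp only [H23.PicMul.cl_tensor, H23.PicMul.cl_tensorPow, ← pow_add, add_comm M q])
  exact (CurveCohLib.hhEquiv (k := k)
    ((AmpleVan.tw (CohB1.tensorPow L q)).mapIso (CurveTensor.commIso (CohB1.tensorPow L M) F) ≪≫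
      (AmpleVan.twComp (CohB1.tensorPow L M) (CohB1.tensorPow L q)).app F ≪≫
      ((DCoh.tensorBi (X := X)).obj F).mapIso e) j).finrank_eq

include hL in
theorem h_eq_zero_of_dim {d : ℕ} (C : Closeds X) (hC : topologicalKrullDim ↥(C : Set X) ≤ (d : WithBot ℕ∞))
    {M : X.Modules} (hM : Coh.IsCoh M) (hMC : CohB1.support M ⊆ C) {j : ℕ} (hj : d < j) (q : ℕ) :
    h k L j M q = 0 := by
  haveI := CurveCohLib.isNoetherian_of_proper (k := k) (X := X)
  haveI : X.IsSeparated := ⟨terminal.comp_from (X ↘ Spec (CommRingCat.of k)) ▸ inferInstance⟩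
  haveI : Subsingleton (Coh.HH X (Curv2.tensorPows M 1 (fun _ => L) fun _ => q) j) :=
    Snapper.subsingleton_HH_of_dim_lt (d + 1) C (lt_of_le_of_lt hC (by exact_mod_cast Nat.lt_succ_self d)) _
      (isCoh_tensorPows (fun _ : Fin 1 => L) (fun _ => hL) (fun _ => q) hM).1
      ((support_tensorPows_subset (fun _ : Fin 1 => L) (fun _ => hL) (fun _ => q) hM).trans hMC) j hj
  exact Module.finrank_zero_of_subsingleton

include hL in
/-- The main induction. -/
theorem bd_of_dim_lt {d : ℕ} (hd : topologicalKrullDim ↥(W4c5asymptcohfn.stableBaseLocus X L) ≤ (d : WithBot ℕ∞))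
    (e : ℕ) :
    ∀ (C : Closeds X), topologicalKrullDim ↥(C : Set X) < (e : WithBot ℕ∞) →
      ∀ M : X.Modules, Coh.IsCoh M → CohB1.support M ⊆ C → ∀ j, d < j → Bd (e - 1) (h k L j M) := by
  haveI := CurveCohLib.isNoetherian_of_proper (k := k) (X := X)
  induction e with
  | zero =>
    intro C hC M hM hMC j hj
    exact ⟨0, fun q => le_of_eq_of_le
      (h_eq_zero_of_dim k hL C (hC.le.trans (by exact_mod_cast Nat.zero_le d)) hM hMC hj q) (Nat.zero_le _)⟩
  | succ e IHe =>
    intro C
    rw [Nat.add_sub_cancel]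
    induction C using WellFoundedLT.induction with
    | ind C IH =>
      intro hC M hM hMC j hj
      by_cases hsmall : topologicalKrullDim ↥(C : Set X) ≤ (d : WithBot ℕ∞)
      · exact ⟨0, fun q => le_of_eq_of_le (h_eq_zero_of_dim k hL C hsmall hM hMC hj q) (Nat.zero_le _)⟩
      by_cases hirr : IsIrreducible (C : Set X)
      · obtain ⟨η, hη⟩ := QuasiSober.sober hirr C.isClosed
        have hηC : η ∈ (C : Set X) := hη.mem
        have hηB : η ∉ W4c5asymptcohfn.stableBaseLocus X L := fun hB => hsmall
          ((H23.TopDim.dim_le_dim_of_subset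
            (hη.def ▸ (isClosed_stableBaseLocus L).closure_subset_iff.2 (Set.singleton_subset_iff.2 hB) :
              (C : Set X) ⊆ W4c5asymptcohfn.stableBaseLocus X L)).trans hd)
        obtain ⟨m, s, hs⟩ : ∃ (m : ℕ) (s : Coh.structureModule X ⟶ CohB1.tensorPow L (m + 1)),
            η ∈ CohB1.genLocus _ s := by
          by_contra! hno
          exact hηB (Set.mem_iInter.2 fun m s => hno m s)
        let U := CohB1.genLocus _ s
        let φ := (AmpleVan.tw M).map s
        have hA : Coh.IsCoh ((AmpleVan.tw M).obj (Coh.structureModule X)) :=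
          AmpleVan.isCoh_tensor QCoh.isCoh_structureModule' hM
        have hB : Coh.IsCoh ((AmpleVan.tw M).obj (CohB1.tensorPow L (m + 1))) :=
          AmpleVan.isCoh_tensor (AmpleVan.isCoh_invertible (InvX.isInvertible_tensorPow hL _)) hM
        obtain ⟨hk, hc⟩ := support_subset_compl ((isoOn_genLocus s).tensor M)
        obtain ⟨hk', hc'⟩ := support_sub_of_map hA hB φ
        have hsub : ∀ N : X.Modules, CohB1.support ((AmpleVan.tw M).obj N) ⊆ (C : Set X) :=
          fun N x hx => hMC (CurveTensor.support_tensor_subset hx)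
        have hdim : topologicalKrullDim ↥((C : Set X) \ U) < (e : WithBot ℕ∞) := by
          haveI : IrreducibleSpace ↥(C : Set X) := isIrreducible_iff_irreducibleSpace.1 hirr
          let Y : Set ↥(C : Set X) := {y | (y : X) ∈ (U : Set X)ᶜ}
          have hlt := H23.TopDim.dim_lt_of_ssubset (X := ↥(C : Set X)) (fun h => by rw [h] at hC; exact not_top_lt hC)
            (Y := Y) (U.2.isClosed_compl.preimage continuous_subtype_val)
            (fun h => (h.ge (Set.mem_univ ⟨η, hηC⟩) : η ∈ (U : Set X)ᶜ) hs)
          have hle : topologicalKrullDim ↥((C : Set X) \ U) ≤ topologicalKrullDim ↥Y := by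
            let g : ↥((C : Set X) \ U) → ↥Y := fun p => ⟨⟨p.1, p.2.1⟩, p.2.2⟩
            have hcomp : Topology.IsInducing ((Subtype.val ∘ Subtype.val : ↥Y → X) ∘ g) :=
              show Topology.IsInducing (Subtype.val : ↥((C : Set X) \ U) → X) from Topology.IsInducing.subtypeVal
            exact ((Topology.IsInducing.subtypeVal.comp Topology.IsInducing.subtypeVal).of_comp_iff.1 hcomp).topologicalKrullDim_le
          refine lt_of_le_of_lt hle ?_
          revert hlt hC
          generalize topologicalKrullDim ↥Y = a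
          generalize topologicalKrullDim ↥(C : Set X) = b
          intro hC hlt
          cases a with
          | bot => exact WithBot.bot_lt_coe _
          | coe a =>
            cases b with
            | bot => exact absurd hlt not_lt_bot
            | coe b =>
              have h1 : a < b := WithBot.coe_lt_coe.1 hlt
              have h2 : b < ((e + 1 : ℕ) : ℕ∞) := WithBot.coe_lt_coe.1 hC
              refine WithBot.coe_lt_coe.2 (lt_of_lt_of_le h1 ?_)
              exact ENat.lt_add_one_iff (ENat.natCast_ne_top e) |>.1 (by exact_mod_cast h2)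
        have IK := IHe ⟨_, C.isClosed.sdiff U.2⟩ hdim _ (QCoh.isCoh_kernel hA hB φ)
          (fun x hx => ⟨hsub _ (hk' hx), hk hx⟩) (j + 1) (by omega)
        have IC := IHe ⟨_, C.isClosed.sdiff U.2⟩ hdim _ (QCoh.isCoh_cokernel hA.1 hB φ)
          (fun x hx => ⟨hsub _ (hc' hx), hc hx⟩) j hj
        obtain ⟨K, hK⟩ := IK.add IC
        have hstep : ∀ q, h k L j M (q + (m + 1)) ≤ h k L j M q + K * w (e - 1) q := fun q => by
          have h1 := map_le k hL hA hB φ j q
          have h2 : h k L j ((AmpleVan.tw M).obj (CohB1.tensorPow L (m + 1))) q = h k L j M (q + (m + 1)) :=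
            h_shift k hL M (m + 1) j q
          have h3 : h k L j ((AmpleVan.tw M).obj (Coh.structureModule X)) q = h k L j M q :=
            hgt_congr k (CurveTensor.structureTensorIso M) j _
          have h4 : h k L (j + 1) (kernel φ) q + h k L j (cokernel φ) q ≤ K * w (e - 1) q := hK q
          omega
        have hb := bd_of_step (Nat.succ_pos m) hstep
        rcases Nat.eq_zero_or_pos e with rfl | he
        · refine absurd ?_ hsmall
          revert hC
          generalize topologicalKrullDim ↥(C : Set X) = a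
          intro hC
          cases a with
          | bot => exact bot_le
          | coe a =>
            have h1 : a < ((0 + 1 : ℕ) : ℕ∞) := WithBot.coe_lt_coe.1 hC
            have h2 : a = 0 := ENat.lt_one_iff_eq_zero.1 (by simpa using h1)
            exact le_of_eq_of_le (congrArg _ h2) (by exact_mod_cast Nat.zero_le d)
        · rwa [Nat.sub_add_cancel he] at hb
      · rcases Set.eq_empty_or_nonempty (C : Set X) with h0 | hne
        · exact ⟨0, fun q => le_of_eq_of_le
            (hgt_eq_zero k (fun _ : Fin 1 => hL) hM (Set.subset_empty_iff.1 (h0 ▸ hMC)) j _) (Nat.zero_le _)⟩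
        obtain ⟨A, B, hA, hB, hsub, hnA, hnB⟩ : ∃ A B : Set X, IsClosed A ∧ IsClosed B ∧
            (C : Set X) ⊆ A ∪ B ∧ ¬ (C : Set X) ⊆ A ∧ ¬ (C : Set X) ⊆ B := by
          by_contra! hno
          exact hirr ⟨hne, isPreirreducible_iff_isClosed_union_isClosed.2 fun A B hA hB hs =>
            or_iff_not_imp_left.2 fun hA' => hno A B hA hB hs hA'⟩
        let C₁ : Closeds X := ⟨(C : Set X) ∩ A, C.isClosed.inter hA⟩
        let C₂ : Closeds X := ⟨(C : Set X) ∩ B, C.isClosed.inter hB⟩
        have h1 : C₁ < C := lt_of_le_of_ne (Set.inter_subset_left : (C : Set X) ∩ A ⊆ C)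
          fun h => hnA (Set.inter_eq_left.1 (congrArg (SetLike.coe) h))
        have h2 : C₂ < C := lt_of_le_of_ne (Set.inter_subset_left : (C : Set X) ∩ B ⊆ C)
          fun h => hnB (Set.inter_eq_left.1 (congrArg (SetLike.coe) h))
        have hdim : ∀ C' : Closeds X, C' ≤ C → topologicalKrullDim ↥(C' : Set X) < ((e + 1 : ℕ) : WithBot ℕ∞) :=
          fun C' h => lt_of_le_of_lt (H23.TopDim.dim_le_dim_of_subset (show (C' : Set X) ⊆ C from h)) hC
        let U : X.Opens := ⟨(C₂ : Set X)ᶜ, C₂.isClosed.isOpen_compl⟩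
        let φ := resMap U M
        have hQ : Coh.IsQCoh ((Scheme.Modules.pushforward U.ι).obj (M.restrict U.ι)) :=
          QCoh.isQCoh_pushforward U.ι (QCoh.isQCoh_restrict U.ι hM.1)
        have hco := QCoh.isQCoh_cokernel hM.1 hQ φ
        have hI : Coh.IsCoh (Abelian.image φ) :=
          QCoh.isCoh_of_epi (Abelian.factorThruImage φ) hM (QCoh.isQCoh_kernel hQ hco _)
        have hK : Coh.IsCoh (kernel φ) := QCoh.isCoh_of_mono (kernel.ι φ) hM (QCoh.isQCoh_kernel hM.1 hQ φ)
        have b₂ := IH C₂ h2 (hdim C₂ h2.le) _ hK (fun x hx =>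
          not_not.1 fun hx2 => (support_subset_compl (isoOn_resMap U M)).1 hx (show x ∈ U from hx2)) j hj
        have b₁ := IH C₁ h1 (hdim C₁ h1.le) _ hI (fun x hx => by
          by_contra hx1
          have hP := QCoh.mem_support_of_mono hI.1 hQ (Abelian.image.ι φ) hx
          refine notMem_support_push (W := ⟨(C₁ : Set X)ᶜ, C₁.isClosed.isOpen_compl⟩) hx1 ?_ hP
          refine Set.disjoint_left.2 fun y hy hyM => ?_
          rcases hsub (hMC hyM) with h | h
          · exact hy.1 ⟨hMC hyM, h⟩
          · exact hy.2 ⟨hMC hyM, h⟩) j hj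
        refine (b₂.add b₁).mono fun q => ?_
        obtain ⟨hK', hM', hI', f, g, w₁, hS₁⟩ := cohSES_tensorPows (fun _ : Fin 1 => L) (fun _ => hL)
          (fun _ : Fin 1 => q) (A := kernel φ) (B := M) (C := Abelian.image φ)
          ⟨hK, hM, hI, kernel.ι φ, Abelian.factorThruImage φ,
            (cancel_mono (Abelian.image.ι φ)).1 (by rw [Category.assoc, Abelian.image.fac, kernel.condition, zero_comp]),
            { exact := ShortComplex.exact_of_f_is_kernel _ (KernelFork.IsLimit.ofι' _ _ fun {T} t ht =>
                ⟨kernel.lift φ t (by rw [← Abelian.image.fac φ, reassoc_of% ht, zero_comp]), kernel.lift_ι _ _ _⟩)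
              mono_f := inferInstance
              epi_g := inferInstance }⟩
        exact finrank_mid_le' k (S := ShortComplex.mk f g w₁) hS₁ hK' hM' hI' j

include hL in
/-- **Asymptotic cohomology vanishes above the dimension of the stable base locus.** -/
theorem hhat_eq_zero {n d : ℕ} (hn : topologicalKrullDim X ≤ (n : WithBot ℕ∞))
    (hd : topologicalKrullDim ↥(W4c5asymptcohfn.stableBaseLocus X L) ≤ (d : WithBot ℕ∞)) {i : ℕ} (hi : d < i) :
    W4c5asymptcohfn.hhat k X n i L = 0 := by
  haveI := CurveCohLib.isNoetherian_of_proper (k := k) (X := X)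
  obtain ⟨C, hC⟩ := bd_of_dim_lt k hL hd (n + 1) ⊤
    (lt_of_le_of_lt ((Topology.IsInducing.subtypeVal).topologicalKrullDim_le.trans hn)
      (by exact_mod_cast Nat.lt_succ_self n)) (Coh.structureModule X) QCoh.isCoh_structureModule'
    (fun _ _ => trivial) i hi
  let f : ℕ → ℕ := fun m => Module.finrank k (Coh.HH X (CohB1.tensorPow L m) i)
  have hf : ∀ m, f m ≤ C * w n m := fun m => by
    have h1 := hC m
    simp only [h] at h1
    rwa [AsympCoh.finrank_pow_eq, Nat.add_sub_cancel] at h1
  have hfo : AsympCoh.IsOrd n f := ⟨C, fun m => (hf m).trans (Nat.mul_le_mul_left C (by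
    simpa [w_succ] using w_le_succ n m))⟩
  have h0 : AsympCoh.IsOrd n fun _ : ℕ => 0 := ⟨0, fun m => Nat.zero_le _⟩
  show Filter.limsup (AsympCoh.nseq (n.factorial : ℝ) n f) Filter.atTop = 0
  rw [AsympCoh.limsup_eq_of_dist (g := fun _ => 0) ⟨C, fun m => by rw [Nat.dist_zero_right]; exact hf m⟩
    hfo h0 (Nat.cast_nonneg _)]
  simp [show AsympCoh.nseq (n.factorial : ℝ) n (fun _ => 0) = fun _ => 0 from funext fun m => by simp [AsympCoh.nseq]]

end Groth.Agent.AsympBase
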