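import Groth.Agent.Lib.AsympCoh
import Groth.Agent.InvX.Pullback
import Groth.Agent.PicClLib.Basic

/-!
Growth of the cohomology of twists by pulled back modules: bounded by the dimension of the image.
-/

set_option autoImplicit false
set_option linter.style.haveILetI false
set_option linter.unusedSectionVars false
set_option backward.isDefEq.respectTransparency false
set_option backward.isDefEq.respectTransparency.types false
set_option maxHeartbeats 1000000

universe u

open CategoryTheory CategoryTheory.Limits AlgebraicGeometry TopologicalSpace Opposite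

noncomputable section

namespace Groth.Agent.CohGrowth

open Groth.Agent Groth.Agent.Snapper
open scoped Groth.Agent.H23.PicMul

/-- The pullbacks of a family. -/
def pull {X Y : Scheme.{u}} (f : Y ⟶ X) {r : ℕ} (K : Fin r → X.Modules) : Fin r → Y.Modules :=
  fun i => (Scheme.Modules.pullback f).obj (K i)

variable (k : Type u) [Field k] {X Y : Scheme.{u}} [X.Over (Spec (CommRingCat.of k))] [Y.Over (Spec (CommRingCat.of k))]
  [IsProper (X ↘ Spec (CommRingCat.of k))] [IsProper (Y ↘ Spec (CommRingCat.of k))] (f : Y ⟶ X) {r : ℕ}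
  {K : Fin r → X.Modules}

/-- **Twists by pullbacks grow like the dimension of the image.** -/
theorem isBdd_of_image_dim_lt (hK : ∀ i, PicF.IsInvertible (K i)) (d : ℕ) :
    ∀ (C : Closeds X), topologicalKrullDim ↥(C : Set X) < (d : WithBot ℕ∞) →
      ∀ M : Y.Modules, Coh.IsCoh M → CohB1.support M ⊆ f ⁻¹' (C : Set X) → ∀ j, IsBdd d (hgt k (pull f K) j M) := by
  have hL : ∀ i, PicF.IsInvertible (pull f K i) := fun i => PicClLib.isInvertible_pullback f (hK i)
  haveI := CurveCohLib.isNoetherian_of_proper (k := k) (X := X)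
  haveI := CurveCohLib.isNoetherian_of_proper (k := k) (X := Y)
  have hempty : ∀ (d : ℕ) (M : Y.Modules), Coh.IsCoh M → CohB1.support M = ∅ → ∀ j, IsBdd d (hgt k (pull f K) j M) :=
    fun d M hM h j => isBdd_of_eq_zero fun n => hgt_eq_zero k hL hM h j n
  induction d with
  | zero =>
    intro C hC M hM hMC
    refine hempty 0 M hM (Set.eq_empty_of_forall_notMem fun x hx => ?_)
    haveI : Nonempty ↥(C : Set X) := ⟨⟨f x, hMC hx⟩⟩
    haveI : Nonempty (IrreducibleCloseds ↥(C : Set X)) :=
      ⟨⟨closure {⟨f x, hMC hx⟩}, isIrreducible_singleton.closure, isClosed_closure⟩⟩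
    exact absurd hC (not_lt.2 (by exact_mod_cast Order.krullDim_nonneg))
  | succ d IHd =>
    intro C
    induction C using WellFoundedLT.induction with
    | ind C IH =>
      intro hC M hM hMC j
      rcases Set.eq_empty_or_nonempty (C : Set X) with h0 | hne
      · exact hempty _ M hM (Set.subset_empty_iff.1 (fun x hx => by simpa [h0] using hMC hx)) j
      by_cases hirr : IsIrreducible (C : Set X)
      · obtain ⟨η, hη⟩ := QuasiSober.sober hirr C.isClosed
        have hηC : η ∈ (C : Set X) := hη.mem
        refine isBdd_of_step _ fun i => ?_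
        obtain ⟨U, hηU, e, he⟩ := InvX.exists_frame (hK i) η
        refine isBdd_dist_bump k hL (C := ⟨f ⁻¹' (C : Set X), C.isClosed.preimage f.continuous⟩) i
          (InvX.isFrame_pullElt f he) (fun N hN hNs => IHd ⟨_, C.isClosed.sdiff U.2⟩ ?_ N hN hNs) hM hMC j
        haveI : IrreducibleSpace ↥(C : Set X) := isIrreducible_iff_irreducibleSpace.1 hirr
        let Y : Set ↥(C : Set X) := {y | (y : X) ∈ (U : Set X)ᶜ}
        have hlt := H23.TopDim.dim_lt_of_ssubset (X := ↥(C : Set X)) (fun h => by rw [h] at hC; exact not_top_lt hC)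
          (Y := Y) (U.2.isClosed_compl.preimage continuous_subtype_val)
          (fun h => (h.ge (Set.mem_univ ⟨η, hηC⟩) : η ∈ (U : Set X)ᶜ) hηU)
        have hle : topologicalKrullDim ↥((C : Set X) \ U) ≤ topologicalKrullDim ↥Y := by
          let g : ↥((C : Set X) \ U) → ↥Y := fun p => ⟨⟨p.1, p.2.1⟩, p.2.2⟩
          have hcomp : Topology.IsInducing ((Subtype.val ∘ Subtype.val : ↥Y → X) ∘ g) :=
            show Topology.IsInducing (Subtype.val : ↥((C : Set X) \ U) → X) from Topology.IsInducing.subtypeVal
          exact ((Topology.IsInducing.subtypeVal.comp Topology.IsInducing.subtypeVal).of_comp_iff.1 hcomp).topologicalKrullDim_le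
        refine lt_of_le_of_lt hle ?_
        revert hlt hC
        generalize topologicalKrullDim ↥Y = a
        generalize topologicalKrullDim ↥(C : Set X) = b
        intro hC hlt
        cases a with
        | bot => exact WithBot.bot_lt_coe _
        | coe a =>
          cases b with
          | bot => exact absurd hlt not_lt_bot
          | coe b =>
            have h1 : a < b := WithBot.coe_lt_coe.1 hlt
            have h2 : b < ((d + 1 : ℕ) : ℕ∞) := WithBot.coe_lt_coe.1 hC
            refine WithBot.coe_lt_coe.2 (lt_of_lt_of_le h1 ?_)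
            exact ENat.lt_add_one_iff (ENat.natCast_ne_top d) |>.1 (by exact_mod_cast h2)
      · obtain ⟨A, B, hA, hB, hsub, hnA, hnB⟩ : ∃ A B : Set X, IsClosed A ∧ IsClosed B ∧
            (C : Set X) ⊆ A ∪ B ∧ ¬ (C : Set X) ⊆ A ∧ ¬ (C : Set X) ⊆ B := by
          by_contra! hno
          exact hirr ⟨hne, isPreirreducible_iff_isClosed_union_isClosed.2 fun A B hA hB hs =>
            or_iff_not_imp_left.2 fun hA' => hno A B hA hB hs hA'⟩
        let C₁ : Closeds X := ⟨(C : Set X) ∩ A, C.isClosed.inter hA⟩
        let C₂ : Closeds X := ⟨(C : Set X) ∩ B, C.isClosed.inter hB⟩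
        have h1 : C₁ < C := lt_of_le_of_ne (Set.inter_subset_left : (C : Set X) ∩ A ⊆ C)
          fun h => hnA (Set.inter_eq_left.1 (congrArg (SetLike.coe) h))
        have h2 : C₂ < C := lt_of_le_of_ne (Set.inter_subset_left : (C : Set X) ∩ B ⊆ C)
          fun h => hnB (Set.inter_eq_left.1 (congrArg (SetLike.coe) h))
        have hdim : ∀ C' : Closeds X, C' ≤ C → topologicalKrullDim ↥(C' : Set X) < ((d + 1 : ℕ) : WithBot ℕ∞) :=
          fun C' h => lt_of_le_of_lt (H23.TopDim.dim_le_dim_of_subset (show (C' : Set X) ⊆ C from h)) hC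
        let U : Y.Opens := f ⁻¹ᵁ ⟨(C₂ : Set X)ᶜ, C₂.isClosed.isOpen_compl⟩
        let φ := resMap U M
        have hQ : Coh.IsQCoh ((Scheme.Modules.pushforward U.ι).obj (M.restrict U.ι)) :=
          QCoh.isQCoh_pushforward U.ι (QCoh.isQCoh_restrict U.ι hM.1)
        have hco := QCoh.isQCoh_cokernel hM.1 hQ φ
        have hI : Coh.IsCoh (Abelian.image φ) :=
          QCoh.isCoh_of_epi (Abelian.factorThruImage φ) hM (QCoh.isQCoh_kernel hQ hco _)
        have hKφ : Coh.IsCoh (kernel φ) := QCoh.isCoh_of_mono (kernel.ι φ) hM (QCoh.isQCoh_kernel hM.1 hQ φ)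
        have b₂ := IH C₂ h2 (hdim C₂ h2.le) _ hKφ fun x hx =>
          not_not.1 fun hx2 : f x ∉ (C₂ : Set X) => (support_subset_compl (isoOn_resMap U M)).1 hx (show x ∈ U from hx2)
        have b₁ := IH C₁ h1 (hdim C₁ h1.le) _ hI fun x hx => by
          by_contra hx1
          have hP := QCoh.mem_support_of_mono hI.1 hQ (Abelian.image.ι φ) hx
          refine notMem_support_push (W := f ⁻¹ᵁ ⟨(C₁ : Set X)ᶜ, C₁.isClosed.isOpen_compl⟩) hx1 ?_ hP
          refine Set.disjoint_left.2 fun y hy hyM => ?_
          rcases hsub (hMC hyM) with h | h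
          · exact hy.1 ⟨hMC hyM, h⟩
          · exact hy.2 ⟨hMC hyM, h⟩
        refine ((b₂ j).add (b₁ j)).mono fun n => ?_
        obtain ⟨hK', hM', hI', f, g, w₁, hS₁⟩ := cohSES_tensorPows (pull f K) hL n (A := kernel φ) (B := M)
          (C := Abelian.image φ) ⟨hKφ, hM, hI, kernel.ι φ, Abelian.factorThruImage φ,
            (cancel_mono (Abelian.image.ι φ)).1 (by rw [Category.assoc, Abelian.image.fac, kernel.condition, zero_comp]),
            { exact := ShortComplex.exact_of_f_is_kernel _ (KernelFork.IsLimit.ofι' _ _ fun {T} t ht =>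
                ⟨kernel.lift φ t (by rw [← Abelian.image.fac φ, reassoc_of% ht, zero_comp]), kernel.lift_ι _ _ _⟩)
              mono_f := inferInstance
              epi_g := inferInstance }⟩
        exact finrank_mid_le' k (S := ShortComplex.mk f g w₁) hS₁ hK' hM' hI' j

end Groth.Agent.CohGrowth
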