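import Groth.Agent.Lib.IntCoeff
import Groth.Agent.Lib.CurveAmple
import Groth.Agent.VarDim.Top
import Groth.Agent.NormalLib.Finite

/-!
Asymptotic Riemann-Roch for an ample module.
-/

set_option autoImplicit false
set_option linter.style.haveILetI false
set_option linter.unusedSectionVars false
set_option backward.isDefEq.respectTransparency false
set_option backward.isDefEq.respectTransparency.types false
set_option maxHeartbeats 800000

universe u

open CategoryTheory AlgebraicGeometry TopologicalSpace Groth.Agent.H23 Groth.Agent.H23.PicMul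
open scoped Polynomial fwdDiff

noncomputable section

namespace Groth.Agent.AsympRR

attribute [local instance] PicMul.clMonoid

/-- The coefficient of the product of all variables in `R(X₁ + ⋯ + X_d)`. -/
theorem coeff_sum {d : ℕ} (R : ℚ[X]) (hR : R.natDegree ≤ d) (P : MvPolynomial (Fin d) ℚ)
    (hP : P.totalDegree ≤ d)
    (h : ∀ n : Fin d → ℕ, MvPolynomial.eval (fun i => (n i : ℚ)) P = R.eval ((∑ i, n i : ℕ) : ℚ)) :
    P.coeff (IntCoeff.ones d) = (d.factorial : ℚ) * R.coeff d := by
  classical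
  rw [← IntCoeff.sum_diff P hP]
  have h1 : ∀ I : Finset (Fin d), (-1 : ℚ) ^ (Finset.univ \ I).card *
      MvPolynomial.eval (fun i => (IntCoeff.ind I i : ℚ)) P = (-1) ^ (d - I.card) * R.eval (I.card : ℚ) := by
    intro I
    rw [h, Finset.card_univ_sdiff, Fintype.card_fin]
    congr 3
    simp [IntCoeff.ind]
  rw [Finset.sum_congr rfl fun I _ => h1 I, ← Finset.powerset_univ,
    Finset.sum_powerset_apply_card (fun j => (-1 : ℚ) ^ (d - j) * R.eval (j : ℚ)), Finset.card_univ, Fintype.card_fin]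
  have h2 : (fwdDiff (1 : ℚ))^[d] R.eval 0 = (d.factorial : ℚ) * R.coeff d := by
    rcases lt_or_eq_of_le hR with hlt | heq
    · rw [Polynomial.fwdDiff_iter_eq_zero_of_degree_lt hlt, Polynomial.coeff_eq_zero_of_natDegree_lt hlt, mul_zero]
      rfl
    · subst heq
      rw [Polynomial.fwdDiff_iter_degree_eq_factorial]
      simp only [Pi.smul_apply, smul_eq_mul, Pi.natCast_apply, Polynomial.leadingCoeff]
      ring
  rw [← h2, fwdDiff_iter_eq_sum_shift]
  refine Finset.sum_congr rfl fun j _ => ?_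
  simp [zsmul_eq_mul]
  ring

variable {k : Type u} [Field k] {X : Scheme.{u}} [X.Over (Spec (CommRingCat.of k))]
  [IsProper (X ↘ Spec (CommRingCat.of k))]

variable (k) in
/-- Euler characteristics of powers of an ample module: degree at most the dimension, positive top coefficient. -/
theorem exists_poly {d : ℕ} (hX : topologicalKrullDim X = d) {L : X.Modules} (hL : CohB1.IsAmple L) :
    ∃ R : ℚ[X], R.natDegree ≤ d ∧ 0 < R.coeff d ∧
      (∀ m : ℕ, (Curv2.euler k X (CohB1.tensorPow L m) : ℚ) = R.eval (m : ℚ)) ∧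
      ∀ᶠ m : ℕ in Filter.atTop, (Module.finrank k (Coh.HH X (CohB1.tensorPow L m) 0) : ℚ) = R.eval (m : ℚ) := by
  haveI := CurveCohLib.isNoetherian_of_proper (k := k) (X := X)
  let π := X ↘ Spec (CommRingCat.of k)
  have hO : ∀ M : X.Modules, PicF.cl (CohB1.tensorMod (Coh.structureModule X) M) = PicF.cl M := fun M => by
    rw [cl_tensor, ← PicMul.one_def, one_mul]
  obtain ⟨R, hR, hRm⟩ := Snapper.isPolyLt_of_dim_lt k hL.1 (d + 1) ⊤
    (lt_of_le_of_lt ((Topology.IsInducing.subtypeVal).topologicalKrullDim_le.trans hX.le) (by exact_mod_cast Nat.lt_succ_self d))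
    (Coh.structureModule X) QCoh.isCoh_structureModule' (fun _ _ => trivial)
  have hdeg : R.natDegree ≤ d := by
    by_cases h0 : R = 0
    · simp [h0]
    · exact Nat.lt_succ_iff.1 ((Polynomial.natDegree_lt_iff_degree_lt h0).2 hR)
  have hRe : ∀ m : ℕ, (Curv2.euler k X (CohB1.tensorPow L m) : ℚ) = R.eval (m : ℚ) := fun m => by
    rw [← hRm m]
    obtain ⟨i⟩ := cl_eq_iff.1 (hO (CohB1.tensorPow L m))
    exact congrArg Int.cast (CurveCohLib.euler_congr (k := k) i).symm
  -- an integral subscheme of full dimension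
  obtain ⟨η, hη⟩ : ∃ η : X, VarDim.deg π η = d := by
    by_contra hne
    push Not at hne
    haveI : Nonempty X := by
      by_contra h
      haveI := not_nonempty_iff.1 h
      rw [VarDim.topologicalKrullDim_eq_iSup_deg π, iSup_of_empty] at hX
      simp at hX
    have hall : ∀ x, VarDim.deg π x ≤ d := fun x => by
      have h : ((VarDim.deg π x : ℕ∞) : WithBot ℕ∞) ≤ topologicalKrullDim X := by
        rw [VarDim.topologicalKrullDim_eq_iSup_deg π]; exact le_iSup (fun x => ((VarDim.deg π x : ℕ∞) : WithBot ℕ∞)) x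
      rw [hX] at h
      exact_mod_cast h
    rcases Nat.eq_zero_or_pos d with rfl | hd
    · exact hne (Classical.arbitrary X) (Nat.le_zero.1 (hall _))
    · have h : topologicalKrullDim X ≤ ((d - 1 : ℕ) : WithBot ℕ∞) := by
        rw [VarDim.topologicalKrullDim_eq_iSup_deg π]
        refine iSup_le fun x => ?_
        have := hall x
        have := hne x
        exact WithBot.coe_le_coe.2 (ENat.natCast_le_natCast.2 (show VarDim.deg π x ≤ d - 1 by omega))
      rw [hX] at h
      have : d ≤ d - 1 := by exact_mod_cast h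
      omega
  let D : Closeds X := ⟨closure {η}, isClosed_closure⟩
  let J := Scheme.IdealSheafData.vanishingIdeal D
  haveI := H23.RedSub.isReduced_vanishingIdeal D
  have hrange : Set.range J.subschemeι = closure {η} := AmpleVan.FiniteSurj.range_vanishingIdeal D
  haveI : IrreducibleSpace J.subscheme := by
    haveI := Subtype.irreducibleSpace (hrange ▸ isIrreducible_singleton.closure : IsIrreducible (Set.range J.subschemeι))
    exact J.subschemeι.isEmbedding.toHomeomorph.irreducibleSpace_iff.2 inferInstance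
  haveI : IsIntegral J.subscheme := isIntegral_of_irreducibleSpace_of_isReduced _
  have hJd : topologicalKrullDim (J.support : Set X) = d := by
    rw [← Scheme.IdealSheafData.range_subschemeι, hrange, VarDim.topologicalKrullDim_closure_singleton π, hη]
    rfl
  obtain ⟨Q, hQd, hQm⟩ := Nakai.exists_poly k hL.1 J hJd
  have hQpos : 0 < Q.coeff d := by
    have h1 := Nakai.coeff_pos hL J d hJd (Nakai.sumSubst d Q) fun n => by
      rw [Nakai.euler_tensorPows (k := k), hQm, Nakai.eval_sumSubst]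
    obtain ⟨c, hc, e⟩ := Nakai.coeff_sumSubst d Q
    rw [e] at h1
    exact pos_of_mul_pos_right h1 hc.le
  -- comparison
  have hI : Coh.IsCoh (ClSub.idealMod J) := NormalLib.isCoh_idealMod J
  obtain ⟨m₀, hm₀⟩ := AmpleVan.exists_vanishing (A := k) hL (M := ClSub.idealMod J) hI
  obtain ⟨m₁, hm₁⟩ := AmpleVan.exists_vanishing (A := k) hL (M := Coh.structureModule X) QCoh.isCoh_structureModule'
  refine ⟨R, hdeg, lt_of_lt_of_le hQpos (Nakai.coeff_le_of_eventually_le hdeg hQd ?_), hRe, ?_⟩
  · refine Filter.eventually_atTop.2 ⟨m₀, fun m hm => ?_⟩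
    rw [← hQm, ← hRm]
    show _ ≤ (Curv2.euler k X (CohB1.tensorMod (Coh.structureModule X) (CohB1.tensorPow L m)) : ℚ)
    have hP : PicF.IsInvertible (CohB1.tensorPow L m) := InvX.isInvertible_tensorPow hL.1 m
    haveI := AmpleVan.isEquivalence_tw hP
    haveI : (AmpleVan.tw (CohB1.tensorPow L m)).Additive := Functor.additive_of_preserves_binary_products _
    have hS := (DivisorExt.ideal_shortExact J).map_of_exact (AmpleVan.tw (CohB1.tensorPow L m))
    have hc := fun {M : X.Modules} (h : Coh.IsCoh M) => AmpleVan.isCoh_tensor h (AmpleVan.isCoh_invertible hP)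
    have hadd := CurveCohLib.euler_additive (k := k) hS (hc hI) (hc QCoh.isCoh_structureModule') (hc (ParShLib.isCoh_quotMod _))
    replace hadd : Curv2.euler k X (CohB1.tensorMod (Coh.structureModule X) (CohB1.tensorPow L m)) =
        Curv2.euler k X (CohB1.tensorMod (ClSub.idealMod J) (CohB1.tensorPow L m)) +
        Curv2.euler k X (CohB1.tensorMod (ClSub.quotMod J) (CohB1.tensorPow L m)) := hadd
    have hnn : 0 ≤ Curv2.euler k X (CohB1.tensorMod (ClSub.idealMod J) (CohB1.tensorPow L m)) := by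
      rw [CurveAmple.euler_eq_h0_of_vanishing (k := k) (hm₀ m hm)]
      exact_mod_cast Nat.zero_le _
    show (Curv2.euler k X (CohB1.tensorMod (ClSub.quotMod J) (CohB1.tensorPow L m)) : ℚ) ≤ _
    exact_mod_cast (by omega : Curv2.euler k X (CohB1.tensorMod (ClSub.quotMod J) (CohB1.tensorPow L m)) ≤
      Curv2.euler k X (CohB1.tensorMod (Coh.structureModule X) (CohB1.tensorPow L m)))
  · refine Filter.eventually_atTop.2 ⟨m₁, fun m hm => ?_⟩
    rw [← hRe m]
    have hv : ∀ q, Subsingleton (Coh.HH X (CohB1.tensorPow L m) (q + 1)) := fun q =>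
      QCoh.subsingleton_HH_of_iso (CurveTensor.structureTensorIso _) (q + 1) (hm₁ m hm q)
    rw [CurveAmple.euler_eq_h0_of_vanishing (k := k) hv]
    push_cast
    rfl

/-- A polynomial of degree at most `e` is bounded by a multiple of `(n+1)^e`. -/
theorem abs_eval_le (p : ℚ[X]) {e : ℕ} (hp : p.natDegree ≤ e) (n : ℕ) :
    |p.eval (n : ℚ)| ≤ (∑ i ∈ Finset.range (e + 1), |p.coeff i|) * ((n : ℚ) + 1) ^ e := by
  rw [Polynomial.eval_eq_sum_range' (Nat.lt_succ_of_le hp), Finset.sum_mul]
  refine (Finset.abs_sum_le_sum_abs _ _).trans (Finset.sum_le_sum fun i hi => ?_)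
  rw [abs_mul, abs_pow, Nat.abs_cast]
  refine mul_le_mul_of_nonneg_left ?_ (abs_nonneg _)
  have hn : (0 : ℚ) ≤ n := Nat.cast_nonneg _
  exact (pow_le_pow_left₀ hn (by linarith) i).trans
    (pow_le_pow_right₀ (by linarith) (Nat.lt_succ_iff.1 (Finset.mem_range.1 hi)))

variable (k) in
theorem main (d : ℕ) (hX : topologicalKrullDim X = d) {L : X.Modules} (hL : CohB1.IsAmple L)
    (P : MvPolynomial (Fin d) ℚ)
    (hP : ∀ n : Fin d → ℕ, (Curv2.euler k X (Curv2.tensorPows (Coh.structureModule X) d (fun _ => L) n) : ℚ) =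
      MvPolynomial.eval (fun i => (n i : ℚ)) P) :
    0 < P.coeff (IntCoeff.ones d) ∧
      ∃ C : ℚ, ∀ n : ℕ,
        |(Module.finrank k (Coh.HH X (CohB1.tensorPow L n) 0) : ℚ) -
            P.coeff (IntCoeff.ones d) / (d.factorial : ℚ) * (n : ℚ) ^ d| ≤
          C * ((n : ℚ) + 1) ^ (d - 1) := by
  haveI := CurveCohLib.isNoetherian_of_proper (k := k) (X := X)
  obtain ⟨R, hR, hpos, hRe, hev⟩ := exists_poly k hX hL
  have hdim : topologicalKrullDim ↥(CohB1.support (Coh.structureModule X)) ≤ ((d : ℕ) : WithBot ℕ∞) :=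
    ((Topology.IsInducing.subtypeVal).topologicalKrullDim_le).trans hX.le
  have hPd := IntCoeff.totalDegree_le k QCoh.isCoh_structureModule' (fun _ => hL.1) hdim P hP
  have hc : P.coeff (IntCoeff.ones d) = (d.factorial : ℚ) * R.coeff d := coeff_sum R hR P hPd fun n => by
    rw [← hP, ← hRe]
    obtain ⟨i⟩ := cl_eq_iff.1 (show PicF.cl (Curv2.tensorPows (Coh.structureModule X) d (fun _ => L) n) =
      PicF.cl (CohB1.tensorPow L (∑ i, n i)) by rw [Nakai.cl_tensorPows, cl_tensorPow, ← PicMul.one_def, one_mul])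
    exact congrArg Int.cast (CurveCohLib.euler_congr (k := k) i)
  have hf : (0 : ℚ) < d.factorial := by exact_mod_cast d.factorial_pos
  refine ⟨hc ▸ mul_pos hf hpos, ?_⟩
  rw [hc, mul_div_cancel_left₀ _ hf.ne']
  let p : ℚ[X] := R - Polynomial.C (R.coeff d) * Polynomial.X ^ d
  have hp : p.natDegree ≤ d - 1 := by
    refine Polynomial.natDegree_le_iff_coeff_eq_zero.2 fun N hN => ?_
    simp only [p, Polynomial.coeff_sub, Polynomial.coeff_C_mul, Polynomial.coeff_X_pow]
    rcases lt_trichotomy N d with h | h | h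
    · omega
    · simp [h]
    · rw [if_neg h.ne', Polynomial.coeff_eq_zero_of_natDegree_lt (lt_of_le_of_lt hR h)]
      ring
  obtain ⟨n₀, hn₀⟩ := Filter.eventually_atTop.1 hev
  let f : ℕ → ℚ := fun n => |(Module.finrank k (Coh.HH X (CohB1.tensorPow L n) 0) : ℚ) - R.coeff d * (n : ℚ) ^ d|
  refine ⟨(∑ i ∈ Finset.range (d - 1 + 1), |p.coeff i|) + ∑ i ∈ Finset.range n₀, f i, fun n => ?_⟩
  have h1 : (1 : ℚ) ≤ ((n : ℚ) + 1) ^ (d - 1) := one_le_pow₀ (by simp)
  have hA : 0 ≤ ∑ i ∈ Finset.range (d - 1 + 1), |p.coeff i| := Finset.sum_nonneg fun i _ => abs_nonneg _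
  have hB : 0 ≤ ∑ i ∈ Finset.range n₀, f i := Finset.sum_nonneg fun i _ => abs_nonneg _
  rw [add_mul]
  rcases lt_or_ge n n₀ with hn | hn
  · have h2 : f n ≤ ∑ i ∈ Finset.range n₀, f i :=
      Finset.single_le_sum (fun i _ => abs_nonneg _) (Finset.mem_range.2 hn)
    have h3 : 0 ≤ (∑ i ∈ Finset.range (d - 1 + 1), |p.coeff i|) * ((n : ℚ) + 1) ^ (d - 1) := mul_nonneg hA (by linarith)
    have h4 := le_mul_of_one_le_right hB h1
    show f n ≤ _
    linarith
  · rw [hn₀ n hn]
    have h2 : R.eval (n : ℚ) - R.coeff d * (n : ℚ) ^ d = p.eval (n : ℚ) := by simp [p]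
    rw [h2]
    exact (abs_eval_le p hp n).trans (le_add_of_nonneg_right (mul_nonneg hB (by linarith)))

end Groth.Agent.AsympRR
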