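import Mathlib
import Groth.Prelude.Def_CechTot
import Groth.Agent.SiteBase.CechInst
import Groth.Agent.Synt29.HyperSections
import Groth.Agent.H9Misc.TotalRowsQuasiIso

/-! Čech hypercohomology of a bounded below complex of sheaves, acyclic for a cover. -/

set_option autoImplicit false
set_option linter.style.haveILetI false
set_option backward.isDefEq.respectTransparency false

universe u

open CategoryTheory CategoryTheory.Limits Opposite TopologicalSpace

namespace Groth.Agent.Lib.CechHyper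

open Groth.Agent.SiteBase

variable {X : TopCat.{u}} {ι : Type u} (U : ι → Opens X)


/-- The Čech complex, indexed by the integers. -/
noncomputable abbrev Fc : ((Opens X)ᵒᵖ ⥤ AddCommGrpCat.{u}) ⥤ CochainComplex AddCommGrpCat.{u} ℤ :=
  cechComplexFunctor (A := AddCommGrpCat.{u}) U ⋙ ComplexShape.embeddingUpNat.extendFunctor AddCommGrpCat.{u}

theorem fc_isZero (P : ((Opens X)ᵒᵖ ⥤ AddCommGrpCat.{u})) (p : ℤ) (hp : p < 0) : IsZero (((Fc U).obj P).X p) :=
  HomologicalComplex.isZero_extend_X _ ComplexShape.embeddingUpNat p (fun n h => by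
    have : (n : ℤ) = p := h
    omega)

/-- Components of a cochain. -/
noncomputable def ev (P : ((Opens X)ᵒᵖ ⥤ AddCommGrpCat.{u})) (n : ℕ) (c : Fin (n + 1) → ι) :
    ((Fc U).obj P).X (n : ℤ) →+ P.obj (op (∏ᶜ fun k => U (c k))) :=
  (cev U P n c).comp
    (((cechComplexFunctor U).obj P).extendXIso ComplexShape.embeddingUpNat (show ComplexShape.embeddingUpNat.f n = (n : ℤ) from rfl)).hom.hom

theorem ev_ext (P : ((Opens X)ᵒᵖ ⥤ AddCommGrpCat.{u})) {n : ℕ} {x y : ((Fc U).obj P).X (n : ℤ)} (h : ∀ c, ev U P n c x = ev U P n c y) :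
    x = y :=
  (((cechComplexFunctor U).obj P).extendXIso ComplexShape.embeddingUpNat
    (show ComplexShape.embeddingUpNat.f n = (n : ℤ) from rfl)).addCommGroupIsoToAddEquiv.injective (cev_ext U P h)

theorem exists_ev (P : ((Opens X)ᵒᵖ ⥤ AddCommGrpCat.{u})) {n : ℕ} (g : ∀ c : Fin (n + 1) → ι, P.obj (op (∏ᶜ fun k => U (c k)))) :
    ∃ x, ∀ c, ev U P n c x = g c := by
  obtain ⟨x, hx⟩ := exists_cev U P g
  obtain ⟨z, rfl⟩ := (((cechComplexFunctor U).obj P).extendXIso ComplexShape.embeddingUpNat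
    (show ComplexShape.embeddingUpNat.f n = (n : ℤ) from rfl)).addCommGroupIsoToAddEquiv.surjective x
  exact ⟨z, hx⟩

theorem ev_map {P Q : ((Opens X)ᵒᵖ ⥤ AddCommGrpCat.{u})} (φ : P ⟶ Q) (n : ℕ) (c : Fin (n + 1) → ι) (x : ((Fc U).obj P).X (n : ℤ)) :
    ev U Q n c ((((Fc U).map φ).f (n : ℤ)).hom x) =
      (φ.app (op (∏ᶜ fun k => U (c k)))).hom (ev U P n c x) := by
  have h : ((Fc U).map φ).f (n : ℤ) = _ := HomologicalComplex.extendMap_f ((cechComplexFunctor U).map φ)
    ComplexShape.embeddingUpNat (show ComplexShape.embeddingUpNat.f n = (n : ℤ) from rfl)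
  rw [h]
  refine Eq.trans ?_ (cev_map U P φ n c _)
  refine congrArg (cev U Q n c) ?_
  simp only [AddCommGrpCat.hom_comp, AddMonoidHom.coe_comp, Function.comp_apply]
  exact Iso.inv_hom_id_apply _ _

/-- A short exact sequence of sheaves with surjective sections gives a short exact sequence of Čech complexes. -/
theorem shortExact_fc (E : ShortComplex (CohTop.Ab X)) (hE : E.ShortExact)
    (hsurj : ∀ (n : ℕ) (c : Fin (n + 1) → ι),
      Function.Surjective (E.g.hom.app (op (∏ᶜ fun k => U (c k)))).hom)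
    (w : (Fc U).map E.f.hom ≫ (Fc U).map E.g.hom = 0) :
    (ShortComplex.mk ((Fc U).map E.f.hom) ((Fc U).map E.g.hom) w).ShortExact := by
  refine HomologicalComplex.shortExact_of_degreewise_shortExact _ fun p => ?_
  by_cases hp : p < 0
  · exact ShortComplex.ShortExact.mk' (ShortComplex.exact_of_isZero_X₂ _ (fc_isZero U _ p hp))
      ⟨fun _ _ _ => (fc_isZero U E.X₁.obj p hp).eq_of_tgt _ _⟩
      ⟨fun _ _ _ => (fc_isZero U E.X₃.obj p hp).eq_of_src _ _⟩
  obtain ⟨n, rfl⟩ : ∃ n : ℕ, p = n := ⟨p.toNat, by omega⟩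
  have hm : Mono (((Fc U).map E.f.hom).f (n : ℤ)) := (AddCommGrpCat.mono_iff_injective _).2 fun a b hab =>
    ev_ext U _ fun c => sections_f_injective hE _ (by
      have := congrArg (ev U E.X₂.obj n c) hab
      rwa [ev_map, ev_map] at this)
  have he : Epi (((Fc U).map E.g.hom).f (n : ℤ)) := (AddCommGrpCat.epi_iff_surjective _).2 fun z => by
    choose t ht using fun c => hsurj n c (ev U E.X₃.obj n c z)
    obtain ⟨x, hx⟩ := exists_ev U E.X₂.obj t
    exact ⟨x, ev_ext U _ fun c => by rw [ev_map, hx]; exact ht c⟩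
  refine ShortComplex.ShortExact.mk' ?_ hm he
  rw [ShortComplex.ab_exact_iff]
  intro x hx
  choose t ht using fun c => sections_exact hE _ (ev U E.X₂.obj n c x) (by
    have := congrArg (ev U E.X₃.obj n c) hx
    exact (ev_map U _ n c x).symm.trans (this.trans (map_zero _)))
  obtain ⟨y, hy⟩ := exists_ev U E.X₁.obj t
  exact ⟨y, ev_ext U _ fun c => (ev_map U _ n c y).trans ((congrArg _ (hy c)).trans (ht c))⟩

/-- An exact complex of acyclic sheaves gives an exact complex of Čech complexes. -/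
theorem acyclic_cech₂ (Q : CochainComplex (CohTop.Ab X) ℤ) (hex : ∀ i, Q.ExactAt i) (a : ℤ)
    (hz : ∀ i, i < a → IsZero (Q.X i))
    (hac : ∀ (n : ℕ) (c : Fin (n + 1) → ι) (i : ℤ), Synt29.HyperSections.Acyclic (Q.X i) (∏ᶜ fun k => U (c k))) :
    (CechTot.cech₂ U ((CechTot.presheafCx X).obj Q)).Acyclic := by
  intro q
  rw [HomologicalComplex.exactAt_iff' _ (q - 1) q (q + 1) (by simp) (by simp),
    HomologicalComplex.exact_iff_degreewise_exact]
  intro p
  by_cases hp : p < 0
  · exact ShortComplex.exact_of_isZero_X₂ _ (fc_isZero U _ p hp)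
  obtain ⟨n, rfl⟩ : ∃ n : ℕ, p = n := ⟨p.toNat, by omega⟩
  rw [ShortComplex.ab_exact_iff]
  intro x hx
  have h2 : q - 1 + 2 = q + 1 := by omega
  obtain ⟨j, hj⟩ : ∃ j, q = j + 1 := ⟨q - 1, by omega⟩
  have key : ∀ c : Fin (n + 1) → ι, ∃ y : (Q.X (q - 1)).obj.obj (op (∏ᶜ fun k => U (c k))),
      ((Q.d (q - 1) q).hom.app (op (∏ᶜ fun k => U (c k)))).hom y = ev U (Q.X q).obj n c x := by
    intro c
    subst hj
    have h : ((Q.d (j + 1) (j + 1 + 1)).hom.app (op (∏ᶜ fun k => U (c k)))).hom (ev U (Q.X (j + 1)).obj n c x) = 0 :=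
      (ev_map U (Q.d (j + 1) (j + 1 + 1)).hom n c x).symm.trans ((congrArg (ev U _ n c) hx).trans (map_zero _))
    have h3 : j + 1 + 1 = j + 2 := by omega
    rw [h3] at h
    have h4 : j + 1 - 1 = j := by omega
    rw [h4]
    exact Synt29.HyperSections.exists_preimage Q hex a hz _ (fun i => hac n c i) j _ h
  choose t ht using key
  obtain ⟨y, hy⟩ := exists_ev U (Q.X (q - 1)).obj t
  exact ⟨y, ev_ext U _ fun c => (ev_map U (Q.d (q - 1) q).hom n c y).trans ((congrArg _ (hy c)).trans (ht c))⟩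

/-- Vanishing of the Čech bicomplex below `(a, 0)`. -/
theorem bdd_cech₂ (K : CochainComplex (CohTop.Ab X) ℤ) (a : ℤ) (hK : ∀ i, i < a → IsZero (K.X i)) :
    H9Misc.TotalRowsQuasiIso.Bdd (CechTot.cech₂ U ((CechTot.presheafCx X).obj K)) a 0 := by
  intro q p h
  by_cases hp : p < 0
  · exact fc_isZero U _ p hp
  exact (HomologicalComplex.eval AddCommGrpCat.{u} (ComplexShape.up ℤ) p).map_isZero ((Fc U).map_isZero
    ((sheafToPresheaf (Opens.grothendieckTopology X) AddCommGrpCat.{u}).map_isZero (hK q (by omega))))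

/-- Degreewise quasi-isomorphism criterion: the cokernel is acyclic. -/
theorem quasiIso_of_shortExact {A : Type*} [Category A] [Abelian A]
    {S : ShortComplex (CochainComplex A ℤ)} (hS : S.ShortExact) (h : S.X₃.Acyclic) : QuasiIso S.f where
  quasiIsoAt i := by
    rw [quasiIsoAt_iff_isIso_homologyMap]
    have h₂ : IsZero (S.X₃.homology i) := (h i).isZero_homology
    have h₁ : IsZero (S.X₃.homology (i - 1)) := (h (i - 1)).isZero_homology
    haveI : Mono (HomologicalComplex.homologyMap S.f i) :=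
      (hS.homology_exact₁ (i - 1) i (by simp)).mono_g (h₁.eq_of_src _ _)
    haveI : Epi (HomologicalComplex.homologyMap S.f i) :=
      (hS.homology_exact₂ i).epi_f (h₂.eq_of_tgt _ _)
    exact isIso_of_mono_of_epi _

/-- A monomorphic quasi-isomorphism of complexes of acyclic sheaves gives a quasi-isomorphism of Čech bicomplexes. -/
theorem quasiIso_cech₂ {K I : CochainComplex (CohTop.Ab X) ℤ} (φ : K ⟶ I) [Mono φ] [hqφ : QuasiIso φ] (a : ℤ)
    (hz : ∀ i, i < a → IsZero (I.X i))
    (hK : ∀ (n : ℕ) (c : Fin (n + 1) → ι) (i : ℤ), Synt29.HyperSections.Acyclic (K.X i) (∏ᶜ fun k => U (c k)))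
    (hI : ∀ i, Injective (I.X i)) :
    QuasiIso (((Fc U).mapHomologicalComplex (ComplexShape.up ℤ)).map ((CechTot.presheafCx X).map φ)) := by
  let S : ShortComplex (CochainComplex (CohTop.Ab X) ℤ) := ShortComplex.mk φ (cokernel.π φ) (cokernel.condition φ)
  haveI : CategoryWithHomology (CochainComplex (CohTop.Ab X) ℤ) :=
    categoryWithHomology_of_abelian (C := CochainComplex (CohTop.Ab X) ℤ)
  haveI : S.HasHomology := CategoryWithHomology.hasHomology S
  have hS : S.ShortExact :=
    { exact := ShortComplex.exact_of_g_is_cokernel S (cokernelIsCokernel φ)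
      mono_f := inferInstanceAs (Mono φ)
      epi_g := inferInstanceAs (Epi (cokernel.π φ)) }
  have hSi := fun i => (HomologicalComplex.shortExact_iff_degreewise_shortExact S).1 hS i
  have hex : ∀ i, (cokernel φ).ExactAt i := fun i => by
    rw [HomologicalComplex.exactAt_iff_isZero_homology]
    haveI : ∀ j, IsIso (HomologicalComplex.homologyMap φ j) := fun j =>
      (quasiIsoAt_iff_isIso_homologyMap φ j).1 (hqφ.quasiIsoAt j)
    have hf : HomologicalComplex.homologyMap (cokernel.π φ) i = 0 := by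
      rw [← cancel_epi (HomologicalComplex.homologyMap φ i), ← HomologicalComplex.homologyMap_comp,
        cokernel.condition, HomologicalComplex.homologyMap_zero, comp_zero]
    have hg : hS.δ i (i + 1) rfl = 0 := by
      rw [← cancel_mono (HomologicalComplex.homologyMap φ (i + 1)), zero_comp]
      exact hS.δ_comp i (i + 1) rfl
    exact (hS.homology_exact₃ i (i + 1) rfl).isZero_X₂ hf hg
  have hQac : ∀ (n : ℕ) (c : Fin (n + 1) → ι) (i : ℤ),
      Synt29.HyperSections.Acyclic ((cokernel φ).X i) (∏ᶜ fun k => U (c k)) := fun n c i => by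
    haveI := hI i
    exact Synt29.HyperSections.acyclic_X₃ (hSi i) _ (hK n c i) (Synt29.HyperSections.acyclic_of_injective (I.X i) _)
  have hQz : ∀ i, i < a → IsZero ((cokernel φ).X i) := fun i hi => by
    haveI : Epi ((cokernel.π φ).f i) := (hSi i).epi_g
    exact IsZero.of_epi ((cokernel.π φ).f i) (hz i hi)
  have w : ((Fc U).mapHomologicalComplex (ComplexShape.up ℤ)).map ((CechTot.presheafCx X).map φ) ≫
      ((Fc U).mapHomologicalComplex (ComplexShape.up ℤ)).map ((CechTot.presheafCx X).map (cokernel.π φ)) = 0 := by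
    rw [← Functor.map_comp, ← Functor.map_comp, cokernel.condition, Functor.map_zero, Functor.map_zero]
  refine quasiIso_of_shortExact (S := ShortComplex.mk _ _ w)
    (HomologicalComplex.shortExact_of_degreewise_shortExact _ fun q => ?_) (acyclic_cech₂ U (cokernel φ) hex a hQz hQac)
  exact shortExact_fc U _ (hSi q)
    (fun n c => Synt29.HyperSections.surjective_sections (hSi q) _ (hK n c q)) _

section Aug

/-- Sections over the space as degree zero cochains. -/
noncomputable def aug (P : ((Opens X)ᵒᵖ ⥤ AddCommGrpCat.{u})) : P.obj (op (⊤ : Opens X)) →+ ((Fc U).obj P).X 0 :=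
  AddMonoidHom.mk' (fun t => (exists_ev U P (n := 0) fun c => (P.map (homOfLE le_top).op).hom t).choose)
    (fun s t => ev_ext U P (n := 0) fun c => by
      rw [map_add, (exists_ev U P (n := 0) fun c => (P.map (homOfLE le_top).op).hom (s + t)).choose_spec c,
        (exists_ev U P (n := 0) fun c => (P.map (homOfLE le_top).op).hom s).choose_spec c,
        (exists_ev U P (n := 0) fun c => (P.map (homOfLE le_top).op).hom t).choose_spec c]
      exact map_add _ _ _)

theorem ev_aug (P : ((Opens X)ᵒᵖ ⥤ AddCommGrpCat.{u})) (t : P.obj (op (⊤ : Opens X))) (c : Fin 1 → ι) :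
    ev U P 0 c (aug U P t) = (P.map (homOfLE le_top).op).hom t :=
  (exists_ev U P (n := 0) fun c => (P.map (homOfLE le_top).op).hom t).choose_spec c

theorem aug_map {P Q : ((Opens X)ᵒᵖ ⥤ AddCommGrpCat.{u})} (φ : P ⟶ Q) (t : P.obj (op (⊤ : Opens X))) :
    (((Fc U).map φ).f 0).hom (aug U P t) = aug U Q ((φ.app (op ⊤)).hom t) :=
  ev_ext U Q (n := 0) fun c => by
    refine (ev_map U φ 0 c _).trans ?_
    rw [ev_aug, ev_aug]
    exact ConcreteCategory.congr_hom (φ.naturality (homOfLE (le_top : (∏ᶜ fun k => U (c k)) ≤ ⊤)).op) t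

theorem fc_d_ev (P : ((Opens X)ᵒᵖ ⥤ AddCommGrpCat.{u})) (n : ℕ) (x : ((Fc U).obj P).X (n : ℤ)) :
    (((cechComplexFunctor U).obj P).extendXIso ComplexShape.embeddingUpNat
      (show ComplexShape.embeddingUpNat.f (n + 1) = ((n : ℤ) + 1) from rfl)).hom.hom
        ((((Fc U).obj P).d (n : ℤ) ((n : ℤ) + 1)).hom x) =
      (((cechComplexFunctor U).obj P).d n (n + 1)).hom
        ((((cechComplexFunctor U).obj P).extendXIso ComplexShape.embeddingUpNat
          (show ComplexShape.embeddingUpNat.f n = (n : ℤ) from rfl)).hom.hom x) := by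
  have h : ((Fc U).obj P).d (n : ℤ) ((n : ℤ) + 1) = _ := ((cechComplexFunctor U).obj P).extend_d_eq
    ComplexShape.embeddingUpNat (show ComplexShape.embeddingUpNat.f n = (n : ℤ) from rfl)
      (show ComplexShape.embeddingUpNat.f (n + 1) = ((n : ℤ) + 1) from rfl)
  rw [h]
  simp only [AddCommGrpCat.hom_comp, AddMonoidHom.coe_comp, Function.comp_apply]
  exact Iso.inv_hom_id_apply _ _

variable (F : CohTop.Ab X) (hcov : iSup U = ⊤)
include hcov

theorem aug_injective : Function.Injective (aug U F.obj) := fun s t hst => by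
  obtain ⟨C, hC, -⟩ := exists_ctxOpens U hcov ⊤ (fun i => ⟨homOfLE le_top, trivial⟩)
  refine res0_injective C (F := F) hC fun i => ?_
  have h := congrArg (ev U F.obj 0 (fun _ => i)) hst
  rw [ev_aug, ev_aug] at h
  let j : U i ⟶ ∏ᶜ fun _ : Fin 1 => U i := Pi.lift fun _ => 𝟙 _
  have h' := congrArg (F.obj.map j.op).hom h
  rw [← map_op_comp_apply, ← map_op_comp_apply] at h'
  rwa [Subsingleton.elim (C.s i) (j ≫ homOfLE le_top)]

theorem aug_exact (x : ((Fc U).obj F.obj).X 0) :
    (((Fc U).obj F.obj).d 0 1).hom x = 0 ↔ ∃ t, aug U F.obj t = x := by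
  obtain ⟨C, hC, -⟩ := exists_ctxOpens U hcov ⊤ (fun i => ⟨homOfLE le_top, trivial⟩)
  let e0 := ((cechComplexFunctor U).obj F.obj).extendXIso ComplexShape.embeddingUpNat
      (show ComplexShape.embeddingUpNat.f 0 = (0 : ℤ) from rfl)
  let e1 := ((cechComplexFunctor U).obj F.obj).extendXIso ComplexShape.embeddingUpNat
      (show ComplexShape.embeddingUpNat.f 1 = (1 : ℤ) from rfl)
  have key : ∀ y, (((Fc U).obj F.obj).d 0 1).hom y = 0 ↔
      (((cechComplexFunctor U).obj F.obj).d 0 1).hom (e0.hom.hom y) = 0 := fun y => by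
    have h : e1.hom.hom ((((Fc U).obj F.obj).d 0 1).hom y) =
        (((cechComplexFunctor U).obj F.obj).d 0 1).hom (e0.hom.hom y) := fc_d_ev U F.obj 0 y
    rw [← h]
    exact (map_eq_zero_iff _ e1.addCommGroupIsoToAddEquiv.injective).symm
  have hres : ∀ t, comp0 U ((𝟭 (Opens X)).op ⋙ F.obj) (e0.hom.hom (aug U F.obj t)) =
      fun i => (F.obj.map (C.s i).op).hom t := fun t => funext fun i => by
    show (F.obj.map _).hom (ev U F.obj 0 (fun _ => i) (aug U F.obj t)) = _
    rw [ev_aug, ← map_op_comp_apply]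
    exact congrArg (fun g : U i ⟶ (⊤ : Opens X) => (F.obj.map g.op).hom t) (Subsingleton.elim _ _)
  rw [key]
  constructor
  · intro hx
    obtain ⟨t, ht⟩ := exists_glue C (F := F) hC (e0.hom.hom x) hx
    exact ⟨t, e0.addCommGroupIsoToAddEquiv.injective
      (comp0_ext U ((𝟭 (Opens X)).op ⋙ F.obj) ((hres t).trans (funext ht)))⟩
  · rintro ⟨t, rfl⟩
    exact res0_cocycle C (hres t)

end Aug

theorem fc_exactAt (F : CohTop.Ab X) [Injective F] (p : ℤ) (hp : p ≠ 0) : ((Fc U).obj F.obj).ExactAt p := by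
  by_cases hn : p < 0
  · exact HomologicalComplex.ExactAt.of_isZero (fc_isZero U _ p hn)
  obtain ⟨n, rfl⟩ : ∃ n : ℕ, p = (n + 1 : ℕ) := ⟨(p - 1).toNat, by omega⟩
  exact (HomologicalComplex.extend_exactAt_iff _ ComplexShape.embeddingUpNat
    (show ComplexShape.embeddingUpNat.f (n + 1) = ((n + 1 : ℕ) : ℤ) from rfl)).2 (injAcyclic_opens U F inferInstance n)

/-- Sections over the space of a complex of sheaves. -/
noncomputable abbrev secCx (I : CochainComplex (CohTop.Ab X) ℤ) : CochainComplex AddCommGrpCat.{u} ℤ :=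
  (((evaluation (Opens X)ᵒᵖ AddCommGrpCat.{u}).obj (op ⊤)).mapHomologicalComplex (ComplexShape.up ℤ)).obj
    ((CechTot.presheafCx X).obj I)

/-- The augmentation of the flipped Čech bicomplex. -/
noncomputable def augCx (I : CochainComplex (CohTop.Ab X) ℤ) :
    secCx I ⟶ (CechTot.cech₂ U ((CechTot.presheafCx X).obj I)).flip.X 0 where
  f q := AddCommGrpCat.ofHom (aug U (I.X q).obj)
  comm' q q' _ := by
    ext t
    exact aug_map U (I.d q q').hom t

theorem exists_tot_quasiIso (hcov : iSup U = ⊤) (I : CochainComplex (CohTop.Ab X) ℤ) (a : ℤ)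
    (hz : ∀ i, i < a → IsZero (I.X i)) (hI : ∀ i, Injective (I.X i)) (n : ℤ) :
    Nonempty (↑(CechTot.hyperH U ((CechTot.presheafCx X).obj I) n) ≃+ ↑((secCx I).homology n)) := by
  let B := CechTot.cech₂ U ((CechTot.presheafCx X).obj I)
  let L : H9Misc.TotalRowsQuasiIso.DC AddCommGrpCat.{u} := B.flip
  have hw : augCx U I ≫ L.d 0 1 = 0 := by
    ext q t
    exact (aug_exact U (I.X q) hcov _).2 ⟨t, rfl⟩
  let D : H9Misc.TotalRowsQuasiIso.DC AddCommGrpCat.{u} :=
    (HomologicalComplex.single (CochainComplex AddCommGrpCat.{u} ℤ) (ComplexShape.up ℤ) 0).obj (secCx I)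
  let φ : D ⟶ L := HomologicalComplex.mkHomFromSingle (augCx U I) (fun k hk => by
    obtain rfl : (0 : ℤ) + 1 = k := hk
    exact hw)
  have hL : ∀ p, p ≠ 0 → L.ExactAt p := fun p hp => by
    rw [HomologicalComplex.exactAt_iff, HomologicalComplex.exact_iff_degreewise_exact]
    intro q
    haveI := hI q
    exact fc_exactAt U (I.X q) p hp
  have hφ : QuasiIso φ := ⟨fun p => by
    by_cases hp : p = 0
    · subst hp
      rw [quasiIsoAt_iff' φ (-1) 0 1 (by simp) (by simp)]
      have h1 : IsZero (D.X 1) := HomologicalComplex.isZero_single_obj_X _ 0 _ _ (by simp)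
      have hm1 : IsZero (D.X (-1)) := HomologicalComplex.isZero_single_obj_X _ 0 _ _ (by simp)
      have hl : IsZero (L.X (-1)) := by
        rw [IsZero.iff_id_eq_zero]
        ext q : 1
        exact (fc_isZero U _ (-1) (by omega)).eq_of_src _ _
      rw [ShortComplex.quasiIso_iff_isIso_liftCycles _ (hm1.eq_of_src _ _) (h1.eq_of_tgt _ _) (hl.eq_of_src _ _)]
      have hcomp : φ.f 0 ≫ L.d 0 1 = 0 := by rw [φ.comm, h1.eq_of_tgt (D.d 0 1) 0, zero_comp]
      let S : ShortComplex (CochainComplex AddCommGrpCat.{u} ℤ) := ShortComplex.mk (φ.f 0) (L.d 0 1) hcomp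
      have hf0 : φ.f 0 = (HomologicalComplex.singleObjXSelf (ComplexShape.up ℤ) 0 _).hom ≫ augCx U I :=
        HomologicalComplex.mkHomFromSingle_f _ _
      haveI : Mono (augCx U I) := by
        haveI : ∀ q, Mono ((augCx U I).f q) := fun q =>
          (AddCommGrpCat.mono_iff_injective _).2 (aug_injective U (I.X q) hcov)
        exact HomologicalComplex.mono_of_mono_f _ inferInstance
      haveI : Mono (φ.f 0) := by rw [hf0]; exact mono_comp _ _
      have hS : S.Exact := by
        refine ShortComplex.exact_of_iso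
          (ShortComplex.isoMk (HomologicalComplex.singleObjXSelf (ComplexShape.up ℤ) 0 _).symm (Iso.refl _) (Iso.refl _)
            (by simp [S, hf0]) (by simp [S]) : ShortComplex.mk (augCx U I) (L.d 0 1) hw ≅ S) ?_
        rw [HomologicalComplex.exact_iff_degreewise_exact]
        intro q
        rw [ShortComplex.ab_exact_iff]
        intro x hx
        exact (aug_exact U (I.X q) hcov x).1 hx
      haveI : Mono S.f := inferInstanceAs (Mono (φ.f 0))
      refine ⟨hS.lift (ShortComplex.iCycles _) (ShortComplex.iCycles_g _), ?_, ?_⟩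
      · rw [← cancel_mono S.f, Category.assoc, hS.lift_f]
        exact (ShortComplex.liftCycles_i _ _ _).trans (Category.id_comp _).symm
      · rw [← cancel_mono (ShortComplex.iCycles _), Category.assoc, ShortComplex.liftCycles_i, Category.id_comp]
        exact hS.lift_f _ _
    · rw [quasiIsoAt_iff_exactAt' φ p (hL p hp)]
      exact HomologicalComplex.ExactAt.of_isZero (HomologicalComplex.isZero_single_obj_X _ 0 _ _ hp)⟩
  have hB : H9Misc.TotalRowsQuasiIso.Bdd B a 0 := bdd_cech₂ U I a hz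
  have hLb : H9Misc.TotalRowsQuasiIso.Bdd L 0 a := fun p q h => hB q p h.symm
  have hDb : H9Misc.TotalRowsQuasiIso.Bdd D 0 a := fun p q h => by
    by_cases hp : p = 0
    · subst hp
      refine IsZero.of_iso ?_ ((HomologicalComplex.eval AddCommGrpCat.{u} (ComplexShape.up ℤ) q).mapIso
        (HomologicalComplex.singleObjXSelf (ComplexShape.up ℤ) 0 (secCx I)))
      exact ((evaluation (Opens X)ᵒᵖ AddCommGrpCat.{u}).obj (op ⊤)).map_isZero
        ((sheafToPresheaf (Opens.grothendieckTopology X) AddCommGrpCat.{u}).map_isZero (hz q (by omega)))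
    · exact (HomologicalComplex.eval AddCommGrpCat.{u} (ComplexShape.up ℤ) q).map_isZero
        (HomologicalComplex.isZero_single_obj_X _ 0 _ _ hp)
  haveI := H9Misc.TotalRowsQuasiIso.hasTotal_of_bdd hDb
  haveI := H9Misc.TotalRowsQuasiIso.hasTotal_of_bdd hLb
  have hq := H9Misc.TotalRowsQuasiIso.quasiIso_total_map φ 0 a hDb hLb hφ
  let e : secCx I ≅ D.total (ComplexShape.up ℤ) := HomologicalComplex.Hom.isoOfComponents
    (fun q =>
      { hom := (HomologicalComplex.singleObjXSelf (ComplexShape.up ℤ) 0 (secCx I)).inv.f q ≫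
          D.ιTotal (ComplexShape.up ℤ) 0 q q (show (0 : ℤ) + q = q by omega)
        inv := H9Misc.TotalRowsQuasiIso.prj D 0 q q ≫
          (HomologicalComplex.singleObjXSelf (ComplexShape.up ℤ) 0 (secCx I)).hom.f q
        hom_inv_id := by
          rw [Category.assoc, ← Category.assoc (D.ιTotal _ _ _ _ _), H9Misc.TotalRowsQuasiIso.ι_prj,
            H9Misc.TotalRowsQuasiIso.δc_self, Category.id_comp, ← HomologicalComplex.comp_f, Iso.inv_hom_id]
          rfl
        inv_hom_id := by
          refine HomologicalComplex₂.total.hom_ext (ComplexShape.up ℤ) fun i j hij => ?_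
          have hij' : i + j = q := hij
          by_cases hi : i = 0
          · subst hi
            obtain rfl : q = j := by omega
            simp only [Category.assoc]
            rw [reassoc_of% (H9Misc.TotalRowsQuasiIso.ι_prj D 0 q 0 q q hij'),
              H9Misc.TotalRowsQuasiIso.δc_self, Category.id_comp, Category.comp_id,
              ← Category.assoc, ← HomologicalComplex.comp_f, Iso.hom_inv_id]
            exact Category.id_comp _
          · exact ((HomologicalComplex.eval AddCommGrpCat.{u} (ComplexShape.up ℤ) j).map_isZero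
              (HomologicalComplex.isZero_single_obj_X _ 0 _ _ hi)).eq_of_src _ _ })
    (fun q q' hq' => by
      obtain rfl : q + 1 = q' := hq'
      simp only [HomologicalComplex₂.total_d, Category.assoc, Preadditive.comp_add,
        HomologicalComplex₂.ι_D₁, HomologicalComplex₂.ι_D₂]
      rw [D.d₁_eq (ComplexShape.up ℤ) (show (ComplexShape.up ℤ).Rel (0 : ℤ) 1 from rfl) q (q + 1) (show (1 : ℤ) + q = q + 1 by omega),
        D.d₂_eq (ComplexShape.up ℤ) 0 (show (ComplexShape.up ℤ).Rel q (q + 1) from rfl) (q + 1) (show (0 : ℤ) + (q + 1) = q + 1 by omega),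
        HomologicalComplex.single_obj_d]
      simp
      exact HomologicalComplex.Hom.comm_assoc (HomologicalComplex.singleObjXSelf (ComplexShape.up ℤ) 0 (secCx I)).inv q (q + 1) _)
  haveI : IsIso (HomologicalComplex.homologyMap (HomologicalComplex₂.total.map φ (ComplexShape.up ℤ)) n) :=
    (quasiIsoAt_iff_isIso_homologyMap _ n).1 (hq.quasiIsoAt n)
  let H := HomologicalComplex.homologyFunctor AddCommGrpCat.{u} (ComplexShape.up ℤ) n
  exact ⟨(H.mapIso e ≪≫ asIso (HomologicalComplex.homologyMap (HomologicalComplex₂.total.map φ (ComplexShape.up ℤ)) n) ≪≫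
    H.mapIso (B.totalFlipIso (ComplexShape.up ℤ))).symm.addCommGroupIsoToAddEquiv⟩

end Groth.Agent.Lib.CechHyper

namespace Groth.Agent.Lib.CechHyper

open Groth.Agent.SiteBase

/-- The Čech hypercohomology of a cover computes hypercohomology for acyclic terms. -/
theorem nonempty_hyperH_addEquiv {X : TopCat.{u}} [HasDerivedCategory.{u} (CohTop.Ab X)]
    {ι : Type u} (U : ι → Opens X) (hcov : iSup U = ⊤) (K : CochainComplex (CohTop.Ab X) ℤ) (a : ℤ)
    (ha : ∀ i : ℤ, i < a → IsZero (K.X i))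
    (h : ∀ (p : ℕ) (c : Fin (p + 1) → ι) (i : ℤ) (q : ℕ),
      Subsingleton (CohTop.HU (K.X i) (q + 1) (iInf fun k => U (c k)))) (n : ℤ) :
    Nonempty (↑(CechTot.hyperH U ((CechTot.presheafCx X).obj K) n) ≃+
      CohCx.HDU (DerivedCategory.Q.obj K) n (⊤ : Opens X)) := by
  haveI : K.IsStrictlyGE a := (CochainComplex.isStrictlyGE_iff K a).2 ha
  obtain ⟨I, φ, hmono, hqis, hinj, hI⟩ :=
    CochainComplex.Plus.modelCategoryQuillen.exists_mono_quasiIso_injective K (a - 1) a (by omega)
  haveI := hmono; haveI := hqis; haveI := hinj; haveI := hI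
  have hzI : ∀ i, i < a - 1 → IsZero (I.X i) := fun i hi => I.isZero_of_isStrictlyGE (a - 1) i hi
  have hinjI : ∀ i, Injective (I.X i) := fun i => inferInstance
  have hKac : ∀ (n : ℕ) (c : Fin (n + 1) → ι) (i : ℤ),
      Synt29.HyperSections.Acyclic (K.X i) (∏ᶜ fun k => U (c k)) := fun n c i q => by
    rw [piObj_eq_iInf U c]
    exact h n c i q
  let F := (Fc U).mapHomologicalComplex (ComplexShape.up ℤ)
  haveI := quasiIso_cech₂ U φ (a - 1) hzI hKac hinjI
  have hbK : H9Misc.TotalRowsQuasiIso.Bdd (CechTot.cech₂ U ((CechTot.presheafCx X).obj K)) (a - 1) 0 :=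
    bdd_cech₂ U K (a - 1) fun i hi => ha i (by omega)
  have hq := H9Misc.TotalRowsQuasiIso.quasiIso_total_map (F.map ((CechTot.presheafCx X).map φ)) (a - 1) 0 hbK
    (bdd_cech₂ U I (a - 1) hzI) inferInstance
  haveI := (quasiIsoAt_iff_isIso_homologyMap _ n).1 (hq.quasiIsoAt n)
  let e₁ : ↑(CechTot.hyperH U ((CechTot.presheafCx X).obj K) n) ≃+ ↑(CechTot.hyperH U ((CechTot.presheafCx X).obj I) n) :=
    (asIso (HomologicalComplex.homologyMap
      (HomologicalComplex₂.total.map (F.map ((CechTot.presheafCx X).map φ)) (ComplexShape.up ℤ)) n)).addCommGroupIsoToAddEquiv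
  obtain ⟨e₂⟩ := exists_tot_quasiIso U hcov I (a - 1) hzI hinjI n
  haveI : IsIso (DerivedCategory.Q.map φ) := inferInstance
  let e₄ : CohCx.HDU (DerivedCategory.Q.obj I) n (⊤ : Opens X) ≃+
      CohCx.HDU (DerivedCategory.Q.obj K) n (⊤ : Opens X) :=
    { toFun := fun z => z ≫ (inv (DerivedCategory.Q.map φ))⟦n⟧'
      invFun := fun z => z ≫ (DerivedCategory.Q.map φ)⟦n⟧'
      left_inv := fun z => by simp [← Functor.map_comp]
      right_inv := fun z => by simp [← Functor.map_comp]
      map_add' := fun z z' => Preadditive.add_comp _ _ _ _ _ _ }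
  obtain ⟨Φ, hΦ, hker⟩ := Synt29.HyperSections.exists_hom I (a - 1) (⊤ : Opens X)
    (fun i => by haveI := hinjI i; exact Synt29.HyperSections.acyclic_of_injective _ _) n
  let S : ShortComplex AddCommGrpCat.{u} := (secCx I).sc' (n - 1) n (n + 1)
  have hk : AddMonoidHom.range S.abToCycles = Φ.ker := by
    refine AddSubgroup.ext fun x => ⟨?_, ?_⟩
    · rintro ⟨y, rfl⟩
      exact (hker _).2 ⟨y, rfl⟩
    · intro hx
      obtain ⟨y, hy⟩ := (hker x).1 hx
      exact ⟨y, Subtype.ext hy⟩
  let e₃ : ↑((secCx I).homology n) ≃+ CohCx.HDU (DerivedCategory.Q.obj I) n (⊤ : Opens X) :=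
    ((secCx I).homologyIsoSc' (n - 1) n (n + 1) (by simp) (by simp) ≪≫ S.abHomologyIso).addCommGroupIsoToAddEquiv.trans
      ((QuotientAddGroup.quotientAddEquivOfEq hk).trans (QuotientAddGroup.quotientKerEquivOfSurjective Φ hΦ))
  exact ⟨((e₁.trans e₂).trans e₃).trans e₄⟩

end Groth.Agent.Lib.CechHyper
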