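import Mathlib
import Groth.Prelude.Def_CechTot
import Groth.Prelude.Def_CohB1
import Groth.Prelude.Def_HTor
import Groth.Agent.SiteBase.CechInst
import Groth.Agent.SiteBase.KInjSections
import Groth.Agent.Synt29.HyperSections

/-! The filtration of hypercohomology induced by a cover (staircases in the Čech bicomplex). -/

set_option autoImplicit false
set_option linter.style.haveILetI false
set_option linter.unusedSectionVars false
set_option backward.isDefEq.respectTransparency false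
set_option backward.isDefEq.respectTransparency.types false

universe u

open CategoryTheory CategoryTheory.Limits Opposite TopologicalSpace

namespace Groth.Agent.Lib.CechSS

open Groth.Agent.SiteBase Groth.Agent.KInjSections

/-- A homomorphism out of a cover of `G`, injective modulo `G'`, makes `G/G'` a subquotient. -/
theorem isSubquotient_of_hom {H Z T : Type u} [AddCommGroup H] [AddCommGroup Z] [AddCommGroup T]
    (G G' : AddSubgroup H) (π : Z →+ H) (θ : Z →+ T) (hπ : ∀ z, π z ∈ G) (hsurj : ∀ x ∈ G, ∃ z, π z = x)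
    (hker : ∀ z, θ z = 0 → π z ∈ G') :
    HTor.IsSubquotient ℤ (↥(AddSubgroup.toIntSubmodule G) ⧸
      Submodule.comap (AddSubgroup.toIntSubmodule G).subtype (AddSubgroup.toIntSubmodule G')) T := by
  let π' : Z →ₗ[ℤ] ↥(AddSubgroup.toIntSubmodule G) := (π.codRestrict G hπ).toIntLinearMap
  let θl : Z →ₗ[ℤ] T := θ.toIntLinearMap
  let C := Submodule.comap (AddSubgroup.toIntSubmodule G).subtype (AddSubgroup.toIntSubmodule G')
  let a : Z →ₗ[ℤ] _ := C.mkQ.comp π'
  let S' : Submodule ℤ T := LinearMap.range θl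
  let S : Submodule ℤ T := (LinearMap.ker a).map θl
  let b : Z →ₗ[ℤ] (↥S' ⧸ Submodule.comap S'.subtype S) := (Submodule.comap S'.subtype S).mkQ.comp θl.rangeRestrict
  have ha : Function.Surjective a := fun x => by
    obtain ⟨⟨y, hy⟩, rfl⟩ := C.mkQ_surjective x
    obtain ⟨z, rfl⟩ := hsurj y hy
    exact ⟨z, rfl⟩
  have hb : Function.Surjective b := (Submodule.mkQ_surjective _).comp θl.surjective_rangeRestrict
  have hab : LinearMap.ker a = LinearMap.ker b := by
    refine Submodule.ext fun z => ?_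
    rw [LinearMap.mem_ker (f := b), show b z = Submodule.Quotient.mk (θl.rangeRestrict z) from rfl,
      Submodule.Quotient.mk_eq_zero, Submodule.mem_comap]
    refine ⟨fun hz => Submodule.mem_map.2 ⟨z, hz, rfl⟩, fun hz => ?_⟩
    obtain ⟨w, hw, e⟩ := Submodule.mem_map.1 hz
    have e' : θ w = θ z := e
    have h1 : π z - π w ∈ G' := by
      rw [← map_sub]
      exact hker _ (by rw [map_sub, e', sub_self])
    have h2 : π w ∈ G' := by
      rw [LinearMap.mem_ker, show a w = Submodule.Quotient.mk (π' w) from rfl, Submodule.Quotient.mk_eq_zero] at hw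
      exact hw
    rw [LinearMap.mem_ker, show a z = Submodule.Quotient.mk (π' z) from rfl, Submodule.Quotient.mk_eq_zero]
    show π z ∈ G'
    simpa using G'.add_mem h1 h2
  exact ⟨S, S', fun t ht => by obtain ⟨z, -, rfl⟩ := Submodule.mem_map.1 ht; exact ⟨z, rfl⟩,
    ⟨(a.quotKerEquivOfSurjective ha).symm.trans ((Submodule.quotEquivOfEq _ _ hab).trans (b.quotKerEquivOfSurjective hb))⟩⟩

variable {X : TopCat.{u}} {ι : Type u} (U : ι → Opens X)

local notation "J" => Opens.grothendieckTopology X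

section Cech

/-- The term of the Čech complex. -/
noncomputable abbrev A (P : (Opens X)ᵒᵖ ⥤ AddCommGrpCat.{u}) (j : ℕ) : AddCommGrpCat.{u} :=
  ((cechComplexFunctor U).obj P).X j

/-- The Čech differential. -/
noncomputable abbrev δ (P : (Opens X)ᵒᵖ ⥤ AddCommGrpCat.{u}) (j : ℕ) : A U P j →+ A U P (j + 1) :=
  (((cechComplexFunctor U).obj P).d j (j + 1)).hom

/-- Functoriality of cochains. -/
noncomputable abbrev cm {P Q : (Opens X)ᵒᵖ ⥤ AddCommGrpCat.{u}} (φ : P ⟶ Q) (j : ℕ) : A U P j →+ A U Q j :=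
  (((cechComplexFunctor U).map φ).f j).hom

theorem δ_cm {P Q : (Opens X)ᵒᵖ ⥤ AddCommGrpCat.{u}} (φ : P ⟶ Q) (j : ℕ) (x : A U P j) :
    δ U Q j (cm U φ j x) = cm U φ (j + 1) (δ U P j x) :=
  ConcreteCategory.congr_hom (((cechComplexFunctor U).map φ).comm j (j + 1)) x

theorem δ_δ (P : (Opens X)ᵒᵖ ⥤ AddCommGrpCat.{u}) (j : ℕ) (x : A U P j) : δ U P (j + 1) (δ U P j x) = 0 :=
  ConcreteCategory.congr_hom (((cechComplexFunctor U).obj P).d_comp_d j (j + 1) (j + 1 + 1)) x

theorem cm_cm_eq_zero {P Q R : (Opens X)ᵒᵖ ⥤ AddCommGrpCat.{u}} (φ : P ⟶ Q) (ψ : Q ⟶ R) (h : φ ≫ ψ = 0)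
    (j : ℕ) (x : A U P j) : cm U ψ j (cm U φ j x) = 0 :=
  cev_ext U R fun c => by
    rw [cev_map, cev_map, map_zero]
    exact ConcreteCategory.congr_hom (congrArg (fun t => t.app (op (∏ᶜ fun k => U (c k)))) h) _

theorem cm_injective {P Q : (Opens X)ᵒᵖ ⥤ AddCommGrpCat.{u}} (φ : P ⟶ Q) [Mono φ] (j : ℕ) :
    Function.Injective (cm U φ j) := fun x y hxy => cev_ext U P fun c => by
  refine (AddCommGrpCat.mono_iff_injective (φ.app _)).1 inferInstance ?_
  have := congrArg (cev U Q j c) hxy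
  rwa [cev_map, cev_map] at this

theorem cm_surjective {P Q : (Opens X)ᵒᵖ ⥤ AddCommGrpCat.{u}} (φ : P ⟶ Q)
    (h : ∀ W, Function.Surjective (φ.app (op W)).hom) (j : ℕ) : Function.Surjective (cm U φ j) := fun y => by
  choose t ht using fun c => h _ (cev U Q j c y)
  obtain ⟨x, hx⟩ := exists_cev U P t
  exact ⟨x, cev_ext U Q fun c => by rw [cev_map, hx]; exact ht c⟩

theorem exists_cm_of_exact {P Q R : (Opens X)ᵒᵖ ⥤ AddCommGrpCat.{u}} (φ : P ⟶ Q) (ψ : Q ⟶ R)
    (h : ∀ W (y : Q.obj (op W)), (ψ.app (op W)).hom y = 0 → ∃ x, (φ.app (op W)).hom x = y)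
    (j : ℕ) (y : A U Q j) (hy : cm U ψ j y = 0) : ∃ x, cm U φ j x = y := by
  choose t ht using fun c => h _ (cev U Q j c y) ((cev_map U Q ψ j c y).symm.trans
    ((congrArg (cev U R j c) hy).trans (map_zero _)))
  obtain ⟨x, hx⟩ := exists_cev U P t
  exact ⟨x, cev_ext U Q fun c => by rw [cev_map, hx]; exact ht c⟩

end Cech

/-- The cover as a Čech context over the whole space. -/
noncomputable def ctxTop : CechCtx (𝟭 (Opens X)) (⊤ : Opens X) U where
  s i := homOfLE le_top
  comm _ := Subsingleton.elim _ _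
  fact i W a b _ := ⟨Pi.lift (Fin.cases a (fun j => Fin.cases (motive := fun j => W ⟶ U (i j.succ))
      b (fun j => j.elim0) j)), Subsingleton.elim _ _, Subsingleton.elim _ _⟩

/-- Restriction to the cover. -/
noncomputable def aug0 (P : (Opens X)ᵒᵖ ⥤ AddCommGrpCat.{u}) : P.obj (op (⊤ : Opens X)) →+ A U P 0 :=
  AddMonoidHom.mk' (fun t => (exists_cev U P (n := 0) fun c => (P.map (homOfLE le_top).op).hom t).choose)
    (fun s t => cev_ext U P fun c => by
      rw [map_add, (exists_cev U P (n := 0) fun c => (P.map (homOfLE le_top).op).hom (s + t)).choose_spec c,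
        (exists_cev U P (n := 0) fun c => (P.map (homOfLE le_top).op).hom s).choose_spec c,
        (exists_cev U P (n := 0) fun c => (P.map (homOfLE le_top).op).hom t).choose_spec c]
      exact map_add _ _ _)

theorem cev_aug0 (P : (Opens X)ᵒᵖ ⥤ AddCommGrpCat.{u}) (t : P.obj (op (⊤ : Opens X))) (c : Fin 1 → ι) :
    cev U P 0 c (aug0 U P t) = (P.map (homOfLE le_top).op).hom t :=
  (exists_cev U P (n := 0) fun c => (P.map (homOfLE le_top).op).hom t).choose_spec c

theorem aug0_map {P Q : (Opens X)ᵒᵖ ⥤ AddCommGrpCat.{u}} (φ : P ⟶ Q) (t : P.obj (op (⊤ : Opens X))) :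
    cm U φ 0 (aug0 U P t) = aug0 U Q ((φ.app (op ⊤)).hom t) :=
  cev_ext U Q fun c => by
    refine (cev_map U P φ 0 c _).trans ?_
    rw [cev_aug0, cev_aug0]
    exact ConcreteCategory.congr_hom (φ.naturality (homOfLE (le_top : (∏ᶜ fun k => U (c k)) ≤ ⊤)).op) t

theorem comp0_aug0 (P : (Opens X)ᵒᵖ ⥤ AddCommGrpCat.{u}) (t : P.obj (op (⊤ : Opens X))) :
    comp0 U P (aug0 U P t) = fun i => (P.map ((ctxTop U).s i).op).hom t := funext fun i => by
  show (P.map _).hom (cev U P 0 (fun _ => i) (aug0 U P t)) = _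
  rw [cev_aug0, ← map_op_comp_apply]
  exact congrArg (fun g : U i ⟶ (⊤ : Opens X) => (P.map g.op).hom t) (Subsingleton.elim _ _)

theorem δ_aug0 (F : CohTop.Ab X) (t : F.obj.obj (op (⊤ : Opens X))) : δ U F.obj 0 (aug0 U F.obj t) = 0 :=
  res0_cocycle (ctxTop U) (F := F) (comp0_aug0 U F.obj t)

section Main

variable (hcov : iSup U = ⊤)
include hcov

theorem ctxTop_sieve_mem : (ctxTop U).sieve ∈ Opens.grothendieckTopology X (⊤ : Opens X) := by
  intro x _
  obtain ⟨i, hi⟩ := Opens.mem_iSup.1 (hcov.symm ▸ trivial : x ∈ iSup U)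
  exact ⟨U i, homOfLE le_top, Sieve.ofArrows_mk _ _ i, hi⟩

theorem exists_aug0 (F : CohTop.Ab X) (x : A U F.obj 0) (hx : δ U F.obj 0 x = 0) :
    ∃ t, aug0 U F.obj t = x := by
  obtain ⟨t, ht⟩ := exists_glue (ctxTop U) (F := F) (ctxTop_sieve_mem U hcov) x hx
  exact ⟨t, comp0_ext U F.obj ((comp0_aug0 U F.obj t).trans (funext ht))⟩

theorem aug0_injective (F : CohTop.Ab X) : Function.Injective (aug0 U F.obj) := fun s t h =>
  res0_injective (ctxTop U) (F := F) (ctxTop_sieve_mem U hcov) fun i => by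
    have := congrFun (congrArg (comp0 U F.obj) h) i
    rwa [comp0_aug0, comp0_aug0] at this

omit hcov in
theorem exists_δ (F : CohTop.Ab X) [Injective F] (j : ℕ) (x : A U F.obj (j + 1)) (hx : δ U F.obj (j + 1) x = 0) :
    ∃ w, δ U F.obj j w = x := by
  have h := injAcyclic_opens U F inferInstance j
  rw [HomologicalComplex.exactAt_iff' _ j (j + 1) (j + 1 + 1) (by simp) (by simp), ShortComplex.ab_exact_iff] at h
  exact h x hx

variable (I : CochainComplex (CohTop.Ab X) ℤ) (n : ℤ)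

/-- The presheaf differential. -/
abbrev dP (q q' : ℤ) : (I.X q).obj ⟶ (I.X q').obj := (I.d q q').hom

/-- The differential of the complex on cochains. -/
noncomputable abbrev dI (j : ℕ) (q q' : ℤ) : A U (I.X q).obj j →+ A U (I.X q').obj j := cm U (dP I q q') j

omit hcov in
theorem dI_dI (j : ℕ) (q q' q'' : ℤ) (x : A U (I.X q).obj j) : dI U I j q' q'' (dI U I j q q' x) = 0 :=
  cm_cm_eq_zero U (dP I q q') (dP I q' q'')
    (congrArg (fun t : I.X q ⟶ I.X q'' => t.hom) (I.d_comp_d q q' q'')) j x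

/-- Families of cochains. -/
abbrev Fam : Type u := ∀ j : ℕ, A U (I.X (n - 1 - j)).obj j

/-- The staircase conditions up to step `p`. -/
structure Cond (p : ℕ) (t : (I.X n).obj.obj (op (⊤ : Opens X))) (y : Fam U I n) : Prop where
  zero : 0 < p → aug0 U (I.X n).obj t = dI U I 0 (n - 1 - (0 : ℕ)) n (y 0)
  step : ∀ j, j + 1 < p → δ U (I.X (n - 1 - j)).obj j (y j) =
    dI U I (j + 1) (n - 1 - ((j + 1 : ℕ))) (n - 1 - j) (y (j + 1))

/-- Staircases of length `p`. -/
def stairs (p : ℕ) : AddSubgroup (((preCx I).cycles n).obj (op (⊤ : Opens X)) × Fam U I n) where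
  carrier := {z | Cond U I n p ((((preCx I).iCycles n).app _).hom z.1) z.2}
  zero_mem' := ⟨fun _ => by simp, fun j _ => by simp⟩
  add_mem' := fun {a b} ha hb => ⟨fun h => by
    simp only [Prod.fst_add, Prod.snd_add, Pi.add_apply, map_add]
    exact congrArg₂ (· + ·) (Cond.zero ha h) (Cond.zero hb h), fun j h => by
    simp only [Prod.snd_add, Pi.add_apply, map_add]
    exact congrArg₂ (· + ·) (Cond.step ha j h) (Cond.step hb j h)⟩
  neg_mem' := fun {a} ha => ⟨fun h => by
    simp only [Prod.fst_neg, Prod.snd_neg, Pi.neg_apply, map_neg]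
    exact congrArg Neg.neg (Cond.zero ha h), fun j h => by
    simp only [Prod.snd_neg, Pi.neg_apply, map_neg]
    exact congrArg Neg.neg (Cond.step ha j h)⟩

/-- Descent: a staircase closed at its last step bounds. -/
theorem exists_boundary (hI : ∀ i, Injective (I.X i)) (t : (I.X n).obj.obj (op (⊤ : Opens X))) (m : ℕ) :
    ∀ y : Fam U I n, Cond U I n (m + 1) t y → δ U (I.X (n - 1 - m)).obj m (y m) = 0 →
      ∃ s, ((dP I (n - 1 - (0 : ℕ)) n).app (op ⊤)).hom s = t := by
  induction m with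
  | zero =>
    intro y hy hδ
    obtain ⟨s, hs⟩ := exists_aug0 U hcov (I.X (n - 1 - (0 : ℕ))) (y 0) hδ
    refine ⟨s, aug0_injective U hcov (I.X n) ?_⟩
    rw [← aug0_map, hy.zero Nat.one_pos, ← hs]
  | succ m ih =>
    intro y hy hδ
    haveI := hI (n - 1 - (m + 1 : ℕ))
    obtain ⟨w, hw⟩ := exists_δ U (I.X (n - 1 - (m + 1 : ℕ))) m (y (m + 1)) hδ
    let y' : Fam U I n := Function.update y m (y m - dI U I m (n - 1 - (m + 1 : ℕ)) (n - 1 - m) w)
    have hm : y' m = y m - dI U I m (n - 1 - (m + 1 : ℕ)) (n - 1 - m) w := Function.update_self ..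
    have hne : ∀ j, j ≠ m → y' j = y j := fun j hj => Function.update_of_ne hj ..
    refine ih y' ⟨fun _ => ?_, fun j hj => ?_⟩ ?_
    · rw [hy.zero (Nat.succ_pos _)]
      by_cases h : 0 = m
      · subst h
        rw [hm, map_sub, dI_dI, sub_zero]
      · rw [hne 0 h]
    · rw [hne j (by omega), hy.step j (by omega)]
      by_cases h : j + 1 = m
      · subst h
        rw [hm, map_sub, dI_dI, sub_zero]
      · rw [hne (j + 1) h]
    · rw [hm, map_sub, hy.step m (by omega), ← hw, δ_cm, sub_self]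

omit hcov in
/-- Comparison of the differentials for two names of the previous degree. -/
theorem exists_dI_congr (j : ℕ) {q q₁ q₂ : ℤ} (e : q₁ = q₂) (z : A U (I.X q).obj j)
    (h : ∃ v, dI U I j q₁ q v = z) : ∃ v, dI U I j q₂ q v = z := by
  subst e; exact h

variable (h : ℤ → ((Opens X)ᵒᵖ ⥤ AddCommGrpCat.{u})) (cl : ∀ q, (preCx I).cycles q ⟶ h q)
  (hsurj : ∀ q W, Function.Surjective ((cl q).app (op W)).hom)
  (hker : ∀ q W x, ((cl q).app (op W)).hom x = 0 ↔
      ∃ y, ((dP I (q - 1) q).app (op W)).hom y = (((preCx I).iCycles q).app (op W)).hom x)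

/-- The classes supported on a staircase of length `p`. -/
noncomputable def G (p : ℕ) : AddSubgroup ((h n).obj (op (⊤ : Opens X))) :=
  ((stairs U I n p).map (AddMonoidHom.fst _ _)).map ((cl n).app (op ⊤)).hom

omit hcov in
theorem mem_G {p : ℕ} {x : (h n).obj (op (⊤ : Opens X))} :
    x ∈ G U I n h cl p ↔ ∃ t y, Cond U I n p ((((preCx I).iCycles n).app _).hom t) y ∧ ((cl n).app (op ⊤)).hom t = x := by
  constructor
  · rintro ⟨_, ⟨⟨t, y⟩, hty, rfl⟩, rfl⟩
    exact ⟨t, y, hty, rfl⟩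
  · rintro ⟨t, y, hty, rfl⟩
    exact ⟨t, ⟨⟨t, y⟩, hty, rfl⟩, rfl⟩

omit hcov in
theorem antitone_G : Antitone (G U I n h cl) := fun p p' hpp x hx => by
  obtain ⟨t, y, hy, rfl⟩ := (mem_G U I n h cl).1 hx
  exact (mem_G U I n h cl).2 ⟨t, y, ⟨fun hp => hy.zero (by omega), fun j hj => hy.step j (by omega)⟩, rfl⟩

omit hcov in
theorem iCycles_injective (q : ℤ) (W : Opens X) :
    Function.Injective (((preCx I).iCycles q).app (op W)).hom :=
  (AddCommGrpCat.mono_iff_injective (((preCx I).iCycles q).app (op W))).1 inferInstance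

include hsurj in
omit hcov in
theorem G_zero : G U I n h cl 0 = ⊤ := eq_top_iff.2 fun x _ => by
  obtain ⟨t, rfl⟩ := hsurj n ⊤ x
  exact (mem_G U I n h cl).2 ⟨t, 0, ⟨fun h => absurd h (lt_irrefl 0), fun j hj => absurd hj (by omega)⟩, rfl⟩

include hker in
theorem G_eq_bot (hI : ∀ i, Injective (I.X i)) (a : ℤ) (hz : ∀ i, i < a → IsZero (I.X i)) :
    G U I n h cl ((n - a).toNat + 2) = ⊥ := eq_bot_iff.2 fun x hx => by
  obtain ⟨t, y, hy, rfl⟩ := (mem_G U I n h cl).1 hx
  obtain ⟨m, hm⟩ : ∃ m, m = (n - a).toNat := ⟨_, rfl⟩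
  rw [← hm] at hy
  have h0 : dI U I (m + 1) (n - 1 - ((m + 1 : ℕ))) (n - 1 - m) (y (m + 1)) = 0 :=
    cev_ext U _ fun c => by
      rw [cev_map, map_zero]
      have hzero : (I.d (n - 1 - ((m + 1 : ℕ))) (n - 1 - m)).hom = 0 :=
        congrArg (fun t : I.X _ ⟶ I.X _ => t.hom) ((hz _ (by omega)).eq_of_src (I.d (n - 1 - ((m + 1 : ℕ))) (n - 1 - m)) 0)
      exact ConcreteCategory.congr_hom (congrArg (fun t => t.app (op (∏ᶜ fun k => U (c k)))) hzero) _
  obtain ⟨s, hs⟩ := exists_boundary U hcov I n hI _ m y ⟨hy.zero ∘ fun _ => by omega, fun j hj => hy.step j (by omega)⟩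
    ((hy.step m (by omega)).trans h0)
  refine AddSubgroup.mem_bot.2 ((hker n ⊤ t).2 ?_)
  have e : n - 1 - ((0 : ℕ) : ℤ) = n - 1 := by simp
  revert s
  rw [e]
  exact fun s hs => ⟨s, hs⟩

include hker hsurj in
omit hcov in
theorem G_one : G U I n h cl 1 =
    ⨅ i, (((h n).map (homOfLE le_top : U i ⟶ (⊤ : Opens X)).op).hom).ker := by
  have e : n - 1 - ((0 : ℕ) : ℤ) = n - 1 := by simp
  have nat : ∀ (i : ι) t, ((h n).map (homOfLE le_top : U i ⟶ (⊤ : Opens X)).op).hom (((cl n).app (op ⊤)).hom t) =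
      ((cl n).app (op (U i))).hom ((((preCx I).cycles n).map (homOfLE le_top : U i ⟶ (⊤ : Opens X)).op).hom t) :=
    fun i t => (ConcreteCategory.congr_hom ((cl n).naturality (homOfLE le_top : U i ⟶ (⊤ : Opens X)).op) t).symm
  have natI : ∀ (i : ι) t, (((preCx I).iCycles n).app (op (U i))).hom
      ((((preCx I).cycles n).map (homOfLE le_top : U i ⟶ (⊤ : Opens X)).op).hom t) =
      comp0 U (I.X n).obj (aug0 U (I.X n).obj ((((preCx I).iCycles n).app _).hom t)) i := fun i t => by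
    rw [comp0_aug0]
    exact ConcreteCategory.congr_hom (((preCx I).iCycles n).naturality (homOfLE le_top : U i ⟶ (⊤ : Opens X)).op) t
  refine le_antisymm (le_iInf fun i x hx => ?_) fun x hx => ?_
  · obtain ⟨t, y, hy, rfl⟩ := (mem_G U I n h cl).1 hx
    refine (nat i t).trans ((hker n _ _).2 ?_)
    rw [natI, hy.zero Nat.one_pos]
    have := comp0_map U _ (dP I (n - 1 - (0 : ℕ)) n) (y 0) i
    revert this
    generalize comp0 U (I.X (n - 1 - (0 : ℕ))).obj (y 0) i = s
    generalize comp0 U (I.X n).obj (dI U I 0 (n - 1 - (0 : ℕ)) n (y 0)) i = r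
    revert s
    rw [e]
    exact fun s hs => ⟨s, hs.symm⟩
  · obtain ⟨t, rfl⟩ := hsurj n ⊤ x
    have hv : ∀ i, ∃ v, ((dP I (n - 1) n).app (op (U i))).hom v =
        comp0 U (I.X n).obj (aug0 U (I.X n).obj ((((preCx I).iCycles n).app _).hom t)) i := fun i => by
      rw [← natI]
      exact (hker n _ _).1 ((nat i t).symm.trans (AddSubgroup.mem_iInf.1 hx i))
    choose v hv using hv
    obtain ⟨x₀, hx₀⟩ := exists_comp0 U (I.X (n - 1)).obj v
    obtain ⟨y₀, hy₀⟩ := exists_dI_congr U I 0 e.symm (dI U I 0 (n - 1) n x₀) ⟨x₀, rfl⟩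
    refine (mem_G U I n h cl).2 ⟨t, Function.update 0 0 y₀, ⟨fun _ => ?_, fun j hj => absurd hj (by omega)⟩, rfl⟩
    rw [Function.update_self, hy₀]
    exact comp0_ext U _ (funext fun i => by rw [comp0_map, hx₀, hv])

include hsurj hker in
omit hcov in
theorem isSubquotient_zero :
    HTor.IsSubquotient ℤ (HTor.grDesc (fun p => AddSubgroup.toIntSubmodule (G U I n h cl p)) 0)
      (CohB1.cechHTop U (h n) 0) := by
  let Cx := (cechComplexFunctor U).obj (h n)
  let S := Cx.sc' 0 0 1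
  let eH := (Cx.homologyIsoSc' 0 0 1 (by simp) (by simp) ≪≫ S.abHomologyIso).symm.addCommGroupIsoToAddEquiv
  let cls : S.g.hom.ker →+ Cx.homology 0 :=
    eH.toAddMonoidHom.comp (QuotientAddGroup.mk' (AddMonoidHom.range S.abToCycles))
  let ψ : stairs U I n 0 →+ A U (h n) 0 :=
    ((cm U (cl n) 0).comp (aug0 U ((preCx I).cycles n))).comp ((AddMonoidHom.fst _ _).comp (stairs U I n 0).subtype)
  have hψ : ∀ z, ψ z ∈ S.g.hom.ker := fun z => by
    show δ U (h n) 0 (cm U (cl n) 0 (aug0 U ((preCx I).cycles n) z.1.1)) = 0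
    rw [δ_cm, cm_injective U ((preCx I).iCycles n) 1 (a₁ := δ U _ 0 (aug0 U ((preCx I).cycles n) z.1.1)) (a₂ := 0) ?_,
      map_zero]
    rw [← δ_cm, aug0_map, map_zero]
    exact δ_aug0 U (I.X n) _
  refine isSubquotient_of_hom _ _ (((cl n).app (op ⊤)).hom.comp ((AddMonoidHom.fst _ _).comp (stairs U I n 0).subtype))
    (cls.comp (ψ.codRestrict _ hψ)) (fun z => ⟨_, ⟨z.1, z.2, rfl⟩, rfl⟩)
    (fun x hx => by
      obtain ⟨t, y, hy, rfl⟩ := (mem_G U I n h cl).1 hx
      exact ⟨⟨(t, y), hy⟩, rfl⟩) fun z hz => ?_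
  have hz' : (⟨ψ z, hψ z⟩ : S.g.hom.ker) ∈ AddMonoidHom.range S.abToCycles :=
    (QuotientAddGroup.eq_zero_iff _).1 (eH.map_eq_zero_iff.1 hz)
  obtain ⟨b, hb⟩ := hz'
  have hb0 : ψ z = 0 := by
    refine ((congrArg Subtype.val hb).symm.trans ?_)
    have : Cx.d 0 0 = 0 := Cx.shape 0 0 (by simp)
    exact ConcreteCategory.congr_hom this b
  have hv : ∀ c : Fin 1 → ι, ∃ v, ((dP I (n - 1) n).app _).hom v =
      cev U (I.X n).obj 0 c (aug0 U (I.X n).obj ((((preCx I).iCycles n).app _).hom z.1.1)) := fun c => by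
    obtain ⟨v, hv⟩ := (hker n _ (cev U ((preCx I).cycles n) 0 c (aug0 U ((preCx I).cycles n) z.1.1))).1
      ((cev_map U _ (cl n) 0 c _).symm.trans ((congrArg (cev U (h n) 0 c) hb0).trans (map_zero _)))
    exact ⟨v, hv.trans ((cev_map U _ ((preCx I).iCycles n) 0 c _).symm.trans
      (congrArg (cev U (I.X n).obj 0 c) (aug0_map U ((preCx I).iCycles n) z.1.1)))⟩
  choose v hv using hv
  obtain ⟨w, hw⟩ := exists_cev U (I.X (n - 1)).obj v
  have e : n - 1 - ((0 : ℕ) : ℤ) = n - 1 := by simp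
  obtain ⟨y₀, hy₀⟩ := exists_dI_congr U I 0 e.symm (dI U I 0 (n - 1) n w) ⟨w, rfl⟩
  refine (mem_G U I n h cl).2 ⟨z.1.1, Function.update 0 0 y₀, ⟨fun _ => ?_, fun j hj => absurd hj (by omega)⟩, rfl⟩
  rw [Function.update_self, hy₀]
  exact cev_ext U _ fun c => by rw [cev_map, hw, hv]

include hsurj hker in
omit hcov in
theorem isSubquotient_succ (m : ℕ) :
    HTor.IsSubquotient ℤ (HTor.grDesc (fun p => AddSubgroup.toIntSubmodule (G U I n h cl p)) (m + 1))
      (CohB1.cechHTop U (h (n - 1 - m)) (m + 1)) := by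
  let q : ℤ := n - 1 - m
  let Cx := (cechComplexFunctor U).obj (h q)
  let S := Cx.sc' m (m + 1) (m + 1 + 1)
  let eH := (Cx.homologyIsoSc' m (m + 1) (m + 1 + 1) (by simp) (by simp) ≪≫ S.abHomologyIso).symm.addCommGroupIsoToAddEquiv
  let cls : S.g.hom.ker →+ Cx.homology (m + 1) :=
    eH.toAddMonoidHom.comp (QuotientAddGroup.mk' (AddMonoidHom.range S.abToCycles))
  let P := (preCx I).cycles q
  let iC : P ⟶ (I.X q).obj := (preCx I).iCycles q
  haveI : Mono iC := inferInstanceAs (Mono ((preCx I).iCycles q))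
  have hex : ∀ W (w : (I.X q).obj.obj (op W)), ((dP I q (q + 1)).app (op W)).hom w = 0 →
      ∃ x, (iC.app (op W)).hom x = w := fun W w hw => by
    have h' : (ShortComplex.mk ((preCx I).iCycles q) ((preCx I).d q (q + 1))
        ((preCx I).iCycles_d q (q + 1))).Exact :=
      ShortComplex.exact_of_f_is_kernel _ ((preCx I).cyclesIsKernel q (q + 1) (by simp))
    exact (ShortComplex.ab_exact_iff _).1 (h'.map ((evaluation (Opens X)ᵒᵖ AddCommGrpCat.{u}).obj (op W))) w hw
  have hiC : iC ≫ dP I q (q + 1) = 0 := (preCx I).iCycles_d q (q + 1)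
  have hlift : ∀ z : stairs U I n (m + 1), ∃ ξ, cm U iC (m + 1) ξ = δ U (I.X q).obj m (z.1.2 m) := fun z => by
    refine exists_cm_of_exact U iC (dP I q (q + 1)) hex (m + 1) _ ?_
    rw [← δ_cm]
    obtain ⟨hzero, hstep⟩ := z.2
    cases m with
    | zero =>
      have e2 : q + 1 = n := by simp [q]
      rw [e2]
      show δ U (I.X n).obj 0 (dI U I 0 (n - 1 - (0 : ℕ)) n (z.1.2 0)) = 0
      rw [← hzero Nat.one_pos]
      exact δ_aug0 U (I.X n) _
    | succ j =>
      have e2 : q + 1 = n - 1 - j := by simp [q]; omega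
      rw [e2]
      show δ U (I.X (n - 1 - j)).obj (j + 1) (dI U I (j + 1) (n - 1 - (j + 1 : ℕ)) (n - 1 - j) (z.1.2 (j + 1))) = 0
      rw [← hstep j (by omega), δ_δ]
  choose ξ hξ using hlift
  let ξh : stairs U I n (m + 1) →+ A U P (m + 1) := AddMonoidHom.mk' ξ fun a b =>
    cm_injective U iC (m + 1) (by rw [map_add, hξ, hξ, hξ, ← map_add]; rfl)
  have hψ : ∀ z, ((cm U (cl q) (m + 1)).comp ξh) z ∈ S.g.hom.ker := fun z => by
    show δ U (h q) (m + 1) (cm U (cl q) (m + 1) (ξ z)) = 0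
    rw [δ_cm, cm_injective U iC (m + 1 + 1) (a₁ := δ U P (m + 1) (ξ z)) (a₂ := 0) ?_, map_zero]
    rw [← δ_cm, hξ, map_zero, δ_δ]
  refine isSubquotient_of_hom _ _
    (((cl n).app (op ⊤)).hom.comp ((AddMonoidHom.fst _ _).comp (stairs U I n (m + 1)).subtype))
    (cls.comp (((cm U (cl q) (m + 1)).comp ξh).codRestrict _ hψ)) (fun z => ⟨_, ⟨z.1, z.2, rfl⟩, rfl⟩)
    (fun x hx => by
      obtain ⟨t, y, hy, rfl⟩ := (mem_G U I n h cl).1 hx
      exact ⟨⟨(t, y), hy⟩, rfl⟩) fun z hz => ?_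
  have hz' : (⟨_, hψ z⟩ : S.g.hom.ker) ∈ AddMonoidHom.range S.abToCycles :=
    (QuotientAddGroup.eq_zero_iff _).1 (eH.map_eq_zero_iff.1 hz)
  obtain ⟨b, hb⟩ := hz'
  obtain ⟨ω, hω⟩ := cm_surjective U (cl q) (hsurj q) m b
  have hb' : cm U (cl q) (m + 1) (ξ z - δ U P m ω) = 0 := by
    rw [map_sub, ← δ_cm, hω]
    exact sub_eq_zero.2 (congrArg Subtype.val hb).symm
  have hv : ∀ c : Fin (m + 2) → ι, ∃ v, ((dP I (q - 1) q).app _).hom v =
      cev U (I.X q).obj (m + 1) c (cm U iC (m + 1) (ξ z - δ U P m ω)) := fun c => by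
    obtain ⟨v, hv⟩ := (hker q _ (cev U P (m + 1) c (ξ z - δ U P m ω))).1
      ((cev_map U _ (cl q) (m + 1) c _).symm.trans ((congrArg (cev U (h q) (m + 1) c) hb').trans (map_zero _)))
    exact ⟨v, hv.trans (cev_map U _ iC (m + 1) c _).symm⟩
  choose v hv using hv
  obtain ⟨w, hw⟩ := exists_cev U (I.X (q - 1)).obj v
  have e : n - 1 - ((m + 1 : ℕ) : ℤ) = q - 1 := by simp [q]; omega
  obtain ⟨y₁, hy₁⟩ := exists_dI_congr U I (m + 1) e.symm (dI U I (m + 1) (q - 1) q w) ⟨w, rfl⟩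
  let y' : Fam U I n := Function.update (Function.update z.1.2 m (z.1.2 m - cm U iC m ω)) (m + 1) y₁
  have hm : y' m = z.1.2 m - cm U iC m ω := by
    rw [show y' m = Function.update z.1.2 m (z.1.2 m - cm U iC m ω) m from Function.update_of_ne (by omega) ..,
      Function.update_self]
  have hm1 : y' (m + 1) = y₁ := Function.update_self ..
  have hne : ∀ j, j < m → y' j = z.1.2 j := fun j hj => by
    rw [show y' j = Function.update z.1.2 m (z.1.2 m - cm U iC m ω) j from Function.update_of_ne (by omega) ..,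
      Function.update_of_ne (by omega)]
  have hd0 : ∀ q', dI U I m q q' (cm U iC m ω) = 0 := fun q' =>
    cm_cm_eq_zero U iC (dP I q q') ((preCx I).iCycles_d q q') m ω
  refine (mem_G U I n h cl).2 ⟨z.1.1, y', ⟨fun _ => ?_, fun j hj => ?_⟩, rfl⟩
  · rw [Cond.zero z.2 (Nat.succ_pos _)]
    by_cases h0 : 0 = m
    · subst h0
      rw [hm, map_sub]
      exact (sub_eq_self.2 (hd0 n)).symm
    · rw [hne 0 (by omega)]
  · by_cases hj' : j + 1 = m + 1
    · obtain rfl : j = m := by omega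
      rw [hm, hm1, map_sub, hy₁]
      refine Eq.trans ?_ (cev_ext U _ (x := cm U iC (j + 1) (ξ z - δ U P j ω)) (y := dI U I (j + 1) (q - 1) q w)
        fun c => by rw [cev_map U _ (dP I (q - 1) q), hw, hv])
      rw [map_sub, hξ, δ_cm]
    · rw [hne j (by omega), Cond.step z.2 j (by omega)]
      by_cases h1 : j + 1 = m
      · subst h1
        rw [hm, map_sub]
        exact (sub_eq_self.2 (hd0 (n - 1 - j))).symm
      · rw [hne (j + 1) (by omega)]

end Main

end Groth.Agent.Lib.CechSS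

namespace Groth.Agent.Lib.CechSS

open Groth.Agent.SiteBase Groth.Agent.KInjSections

set_option maxHeartbeats 1000000 in
/-- The filtration on hypercohomology attached to a cover. -/
theorem exists_filtration {X : TopCat.{u}} [HasDerivedCategory.{u} (CohTop.Ab X)] {ι : Type u}
    (U : ι → Opens X) (hcov : iSup U = ⊤)
    (K : CochainComplex (CohTop.Ab X) ℤ) (a : ℤ) (ha : ∀ i : ℤ, i < a → IsZero (K.X i)) (n : ℤ) :
    ∃ (N : ℕ) (G : ℕ → Submodule ℤ (CohCx.HDU (DerivedCategory.Q.obj K) n (⊤ : Opens X))),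
      Antitone G ∧ G 0 = ⊤ ∧ G N = ⊥ ∧
      G 1 = ⨅ i, AddSubgroup.toIntSubmodule
        (CohCx.HDUres (DerivedCategory.Q.obj K) n (homOfLE le_top : U i ⟶ (⊤ : Opens X))).ker ∧
      ∀ p : ℕ, HTor.IsSubquotient ℤ (HTor.grDesc G p)
        (CohB1.cechHTop U (CohCx.HDUPresheaf (DerivedCategory.Q.obj K) (n - p)) p) := by
  haveI : K.IsStrictlyGE a := (CochainComplex.isStrictlyGE_iff K a).2 ha
  obtain ⟨I, φ, hmono, hqis, hinj, hI⟩ :=
    CochainComplex.Plus.modelCategoryQuillen.exists_mono_quasiIso_injective K (a - 1) a (by omega)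
  haveI := hmono; haveI := hqis; haveI := hinj; haveI := hI
  haveI : I.IsKInjective := CochainComplex.isKInjective_of_injective I (a - 1)
  haveI : IsIso (DerivedCategory.Q.map φ) := inferInstance
  let h : ℤ → ((Opens X)ᵒᵖ ⥤ AddCommGrpCat.{u}) := fun q => CohCx.HDUPresheaf (DerivedCategory.Q.obj K) q
  let e : ∀ q, CohCx.HDUPresheaf (DerivedCategory.Q.obj I) q ≅ h q := fun q =>
    Functor.isoWhiskerLeft _ (preadditiveYoneda.mapIso ((shiftFunctor _ q).mapIso (asIso (DerivedCategory.Q.map φ)).symm))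
  let cl : ∀ q, (preCx I).cycles q ⟶ h q := fun q => cycleMap I q ≫ (e q).hom
  have hbij : ∀ q W, Function.Bijective (((e q).hom).app (op W)).hom := fun q W =>
    ConcreteCategory.bijective_of_isIso (((e q).hom).app (op W))
  have hsurj : ∀ q W, Function.Surjective ((cl q).app (op W)).hom := fun q W =>
    (hbij q W).2.comp (cycleMap_surjective I q W)
  have hker : ∀ q W x, ((cl q).app (op W)).hom x = 0 ↔
      ∃ y, ((dP I (q - 1) q).app (op W)).hom y = (((preCx I).iCycles q).app (op W)).hom x := fun q W x =>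
    (map_eq_zero_iff _ (hbij q W).1).trans (cycleMap_eq_zero_iff I q W x)
  let G' := G U I n h cl
  refine ⟨(n - (a - 1)).toNat + 2, fun p => AddSubgroup.toIntSubmodule (G' p), ?_, ?_, ?_, ?_, fun p => ?_⟩
  · exact fun p p' hp => (OrderIso.monotone AddSubgroup.toIntSubmodule) (antitone_G U I n h cl hp)
  · show AddSubgroup.toIntSubmodule (G' 0) = ⊤
    rw [show G' 0 = ⊤ from G_zero U I n h cl hsurj]
    exact OrderIso.map_top _
  · show AddSubgroup.toIntSubmodule (G' _) = ⊥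
    rw [show G' _ = ⊥ from G_eq_bot U hcov I n h cl hker (fun i => inferInstance) (a - 1) (fun i hi => I.isZero_of_isStrictlyGE (a - 1) i hi)]
    exact OrderIso.map_bot _
  · show AddSubgroup.toIntSubmodule (G' 1) = _
    rw [show G' 1 = _ from G_one U I n h cl hsurj hker]
    refine (OrderIso.map_iInf AddSubgroup.toIntSubmodule _).trans (iInf_congr fun i => congrArg _ ?_)
    refine AddSubgroup.ext fun x => ?_
    rw [AddMonoidHom.mem_ker, AddMonoidHom.mem_ker]
    exact Iff.rfl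
  · cases p with
    | zero =>
      suffices ∀ q, q = n → HTor.IsSubquotient ℤ (HTor.grDesc (fun p => AddSubgroup.toIntSubmodule (G' p)) 0)
          (CohB1.cechHTop U (h q) 0) from this _ (by simp)
      rintro q rfl
      exact isSubquotient_zero U I q h cl hsurj hker
    | succ m =>
      suffices ∀ q, q = n - 1 - m → HTor.IsSubquotient ℤ (HTor.grDesc (fun p => AddSubgroup.toIntSubmodule (G' p)) (m + 1))
          (CohB1.cechHTop U (h q) (m + 1)) from this _ (by omega)
      rintro q rfl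
      exact isSubquotient_succ U I n h cl hsurj hker m

end Groth.Agent.Lib.CechSS
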