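import Groth.Agent.Lib.ChowGrpDescent
import Groth.Agent.GrpLimLib.Basic
import Groth.Agent.MorLib.BaseChangeLim
import Groth.Agent.S9208
import Groth.Agent.S17693
import Groth.Agent.AVTors.ChowExist
import Groth.Agent.AVTors.ChowKernel
import Groth.Agent.AGFLib.AntPart
import Groth.Agent.AGFLib.Semi
import Groth.Prelude.Def_WeilRes

/-!
# Homomorphisms to groups over finite extensions and the Chow image
-/

set_option autoImplicit false
set_option linter.style.haveILetI false
set_option linter.unusedSectionVars false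
set_option backward.isDefEq.respectTransparency false
set_option backward.isDefEq.respectTransparency.types false
set_option maxHeartbeats 4000000
set_option synthInstance.maxHeartbeats 100000

universe u

open CategoryTheory CategoryTheory.Limits MonoidalCategory CartesianMonoidalCategory MonObj AlgebraicGeometry
open Groth.Agent.GrpLimLib (cmp cmp_hom_fst cmp_inv_fst map_left_fst hom_ext₁ pr)

noncomputable section

namespace Groth.Agent.ChowFam

open Groth.Agent

section Pull

variable {SK U T T' : Scheme.{u}} {tK : T ⟶ SK} {tU : T ⟶ U} {tK' : T' ⟶ SK} {tU' : T' ⟶ U}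

/-- The projection between base changes. -/
def bcMap (g : T' ⟶ T) (ea : g ≫ tK = tK') (A : Over SK) : (Red.bc tK' A).left ⟶ (Red.bc tK A).left :=
  pullback.lift (pullback.fst A.hom tK') (pullback.snd A.hom tK' ≫ g)
    (by rw [Category.assoc, ea]; exact pullback.condition)

theorem cmp_inv_left_fst (g : T' ⟶ T) (ea : g ≫ tK = tK') (A : Over SK) :
    (cmp ea A).inv.left ≫ pullback.fst (Red.bc tK A).hom g = bcMap g ea A := by
  refine pullback.hom_ext ?_ ?_
  · rw [Category.assoc, bcMap, pullback.lift_fst]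
    exact cmp_inv_fst ea A
  · rw [Category.assoc, bcMap, pullback.lift_snd]
    refine (congrArg ((cmp ea A).inv.left ≫ ·) (pullback.condition (f := (Red.bc tK A).hom) (g := g))).trans ?_
    rw [← Category.assoc]
    exact congrArg (· ≫ g) (Over.w (cmp ea A).inv)

/-- The pullback of a family of morphisms. -/
def pullF (g : T' ⟶ T) (ea : g ≫ tK = tK') (eb : g ≫ tU = tU') {A : Over SK} {B : Over U}
    (f : Red.bc tK A ⟶ Red.bc tU B) : Red.bc tK' A ⟶ Red.bc tU' B :=
  (cmp ea A).inv ≫ (Over.pullback g).map f ≫ (cmp eb B).hom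

instance (g : T' ⟶ T) (ea : g ≫ tK = tK') (eb : g ≫ tU = tU') {A : Over SK} {B : Over U} [GrpObj A] [GrpObj B]
    (f : Red.bc tK A ⟶ Red.bc tU B) [IsMonHom f] : IsMonHom (pullF g ea eb f) := by
  haveI : IsMonHom (cmp ea A).inv := inferInstance
  haveI := H23.BcComp.isMonHom_bc_map (f := g) f
  unfold pullF
  infer_instance

theorem pullF_one (g : T' ⟶ T) (ea : g ≫ tK = tK') (eb : g ≫ tU = tU') {A : Over SK} {B : Over U} [GrpObj B] :
    pullF g ea eb (1 : Red.bc tK A ⟶ Red.bc tU B) = 1 := by
  rw [pullF, CategoryTheory.Functor.map_one, MonObj.one_comp, MonObj.comp_one]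

theorem pullF_fst (g : T' ⟶ T) (ea : g ≫ tK = tK') (eb : g ≫ tU = tU') {A : Over SK} {B : Over U}
    (f : Red.bc tK A ⟶ Red.bc tU B) :
    (pullF g ea eb f).left ≫ pullback.fst B.hom tU' = bcMap g ea A ≫ f.left ≫ pullback.fst B.hom tU := by
  rw [← cmp_inv_left_fst g ea A]
  simp only [pullF, Over.comp_left, Category.assoc, cmp_hom_fst, pr]
  congr 1
  exact (Category.assoc _ _ _).symm.trans ((congrArg (· ≫ pullback.fst B.hom tU) (map_left_fst f)).trans
    (Category.assoc _ _ _))

theorem bcMap_map (g : T' ⟶ T) (ea : g ≫ tK = tK') {A A' : Over SK} (i : A' ⟶ A) :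
    ((Over.pullback tK').map i).left ≫ bcMap g ea A = bcMap g ea A' ≫ ((Over.pullback tK).map i).left := by
  refine pullback.hom_ext ?_ ?_
  · simp only [Category.assoc, bcMap, pullback.lift_fst, map_left_fst]
    rw [← Category.assoc, pullback.lift_fst]
  · simp only [Category.assoc, bcMap, pullback.lift_snd]
    rw [← Category.assoc]
    refine (congrArg (· ≫ g) (Over.w ((Over.pullback tK').map i))).trans ?_
    refine Eq.trans ?_ (congrArg (pullback.lift _ _ _ ≫ ·) (Over.w ((Over.pullback tK).map i))).symm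
    exact (pullback.lift_snd _ _ _).symm

theorem pullF_comp (g : T' ⟶ T) (ea : g ≫ tK = tK') (eb : g ≫ tU = tU') {A A' : Over SK} {B : Over U}
    (i : A' ⟶ A) (f : Red.bc tK A ⟶ Red.bc tU B) :
    pullF g ea eb ((Over.pullback tK).map i ≫ f) = (Over.pullback tK').map i ≫ pullF g ea eb f := by
  refine hom_ext₁ ?_
  rw [pullF_fst, Over.comp_left, Over.comp_left, Category.assoc, Category.assoc, pullF_fst, ← Category.assoc,
    ← Category.assoc, ← bcMap_map g ea i, Category.assoc, Category.assoc]

theorem bcMap_comp {T'' : Scheme.{u}} {tK'' : T'' ⟶ SK} (g₁ : T'' ⟶ T') (g : T' ⟶ T) (e₁ : g₁ ≫ tK' = tK'')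
    (e : g ≫ tK = tK') (A : Over SK) :
    bcMap g₁ e₁ A ≫ bcMap g e A = bcMap (g₁ ≫ g) (by rw [Category.assoc, e, e₁]) A := by
  refine pullback.hom_ext ?_ ?_
  · simp only [Category.assoc, bcMap, pullback.lift_fst]
  · simp only [Category.assoc, bcMap, pullback.lift_snd, pullback.lift_snd_assoc]

theorem pullF_pullF {T'' : Scheme.{u}} {tK'' : T'' ⟶ SK} {tU'' : T'' ⟶ U} (g₁ : T'' ⟶ T') (g : T' ⟶ T)
    (ea₁ : g₁ ≫ tK' = tK'') (eb₁ : g₁ ≫ tU' = tU'') (ea : g ≫ tK = tK') (eb : g ≫ tU = tU')
    {A : Over SK} {B : Over U} (f : Red.bc tK A ⟶ Red.bc tU B) :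
    pullF g₁ ea₁ eb₁ (pullF g ea eb f) =
      pullF (g₁ ≫ g) (by rw [Category.assoc, ea, ea₁]) (by rw [Category.assoc, eb, eb₁]) f := by
  refine hom_ext₁ ?_
  rw [pullF_fst, pullF_fst, pullF_fst, ← Category.assoc, bcMap_comp]

end Pull

section Res

variable {S S' : Scheme.{u}} (f : S' ⟶ S)

/-- A representable Weil restriction of a group is a group, and the counit is a homomorphism. -/
theorem exists_grpObj {B : Over S'} [GrpObj B] [IsCommMonObj B] {R : Over S} {q : Red.bc f R ⟶ B}
    (hR : WeilRes.IsWeilRes f B R q) :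
    ∃ (_ : GrpObj R), IsMonHom q ∧ IsCommMonObj R := by
  let α : (((Over.pullback f).op ⋙ yonedaGrpObj B) ⋙ forget _).RepresentableBy R :=
    { homEquiv := fun {X} => Equiv.ofBijective (WeilRes.restr f q X) (hR X)
      homEquiv_comp := fun t g => WeilRes.restr_comp f q t g }
  letI inst := GrpObj.ofRepresentableBy R _ α
  have hmul : ∀ (X : Over S) (a b : X ⟶ R),
      WeilRes.restr f q X (a * b) = WeilRes.restr f q X a * WeilRes.restr f q X b := fun X a b => by
    have h : WeilRes.restr f q (R ⊗ R) μ[R] = WeilRes.restr f q _ (fst R R) * WeilRes.restr f q _ (snd R R) :=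
      α.homEquiv.apply_symm_apply _
    rw [Hom.mul_def, WeilRes.restr_comp, h, MonObj.comp_mul, ← WeilRes.restr_comp, ← WeilRes.restr_comp, lift_fst,
      lift_snd]
  refine ⟨inst, AGFLib.isMonHom_of_mul q fun X a b => ?_, ⟨?_⟩⟩
  · let ad := Over.mapPullbackAdj f
    obtain ⟨a, rfl⟩ := (ad.homEquiv X R).surjective a
    obtain ⟨b, rfl⟩ := (ad.homEquiv X R).surjective b
    simp only [Adjunction.homEquiv_unit]
    rw [← MonObj.comp_mul, Category.assoc, Category.assoc, Category.assoc, ← (Over.pullback f).map_mul,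
      ← MonObj.comp_mul]
    exact congrArg _ (hmul _ a b)
  · refine (hR _).injective ?_
    have h : μ[R] = fst R R * snd R R := by rw [Hom.mul_def, lift_fst_snd, Category.id_comp]
    show WeilRes.restr f q _ ((β_ R R).hom ≫ μ[R]) = WeilRes.restr f q _ μ[R]
    rw [h, MonObj.comp_mul, braiding_hom_fst, braiding_hom_snd, hmul, hmul,
      _root_.mul_comm]

/-- The Weil restriction of a scheme locally of finite presentation along a finite morphism is locally of
finite presentation. -/
theorem locallyOfFinitePresentation_res [IsAffineHom f] {B : Over S'} [LocallyOfFinitePresentation B.hom]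
    {R : Over S} {q : Red.bc f R ⟶ B} (hR : WeilRes.IsWeilRes f B R q) : LocallyOfFinitePresentation R.hom := by
  refine S9208.result R.hom fun J _ _ _ D t c hc haff j₀ g hg => ?_
  haveI : ∀ i, IsAffine (D.obj i) := haff
  haveI : ∀ {i j : Jᵒᵖ} (e : i ⟶ j), IsAffineHom (D.map e) := fun e => isAffineHom_of_isAffine _
  haveI : IsCofiltered Jᵒᵖ := by
    haveI : IsFiltered J := isFiltered_of_directed_le_nonempty J
    exact isCofiltered_op_of_isFiltered J
  let s : c.pt ⟶ S := c.π.app j₀ ≫ t.app j₀
  let Tl : Over S := Over.mk s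
  let gO : Tl ⟶ R := Over.homMk g hg
  let b := WeilRes.restr f q Tl gO
  let xi : pullback f (t.app j₀) ⟶ D.obj j₀ := pullback.snd f (t.app j₀)
  haveI : IsAffineHom xi := MorphismProperty.pullback_snd (P := @IsAffineHom) _ _ inferInstance
  haveI : IsAffine (pullback f (t.app j₀)) := isAffine_of_isAffineHom xi
  let qX : (Red.bc f Tl).left ⟶ pullback f (t.app j₀) :=
    pullback.lift (pullback.snd s f) (pullback.fst s f ≫ c.π.app j₀) (by
      rw [Category.assoc]; exact pullback.condition.symm)
  have hX : IsPullback qX (pullback.fst s f) xi (c.π.app j₀) := by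
    refine IsPullback.of_right ?_ (pullback.lift_snd _ _ _) (IsPullback.of_hasPullback f (t.app j₀))
    rw [pullback.lift_fst]
    exact (IsPullback.of_hasPullback s f).flip
  let t' : MorLib.BC.diag D xi ⟶ (Functor.const (Over j₀)).obj S' :=
    MorLib.BC.toStart D xi ≫ (Functor.const (Over j₀)).map (pullback.fst f (t.app j₀))
  obtain ⟨k, v, hv1, hv2⟩ := Scheme.exists_π_app_comp_eq_of_locallyOfFinitePresentation
    (MorLib.BC.diag D xi) t' B.hom (MorLib.BC.cone D xi hX) (MorLib.BC.isLimitCone D xi hX hc)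
    b.left (by
      ext l
      show MorLib.BC.proj D xi hX l ≫ pullback.fst _ _ ≫ pullback.fst f (t.app j₀) = b.left ≫ B.hom
      rw [MorLib.BC.proj_fst_assoc]
      exact (pullback.lift_fst _ _ _).trans (Over.w b).symm)
  let Tk : Over S := Over.mk (t.app k.left)
  have htk : D.map k.hom ≫ t.app j₀ = t.app k.left := (t.naturality k.hom).trans (Category.comp_id _)
  let θ : (Red.bc f Tk).left ⟶ pullback xi (D.map k.hom) :=
    pullback.lift (pullback.lift (pullback.snd (t.app k.left) f) (pullback.fst (t.app k.left) f ≫ D.map k.hom) (by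
      rw [Category.assoc, htk]; exact pullback.condition.symm)) (pullback.fst (t.app k.left) f)
      (pullback.lift_snd _ _ _)
  let gk' : Red.bc f Tk ⟶ B := Over.homMk (θ ≫ v) (by
    rw [Category.assoc]
    refine (congrArg (θ ≫ ·) hv2).trans ?_
    show θ ≫ pullback.fst _ _ ≫ pullback.fst f (t.app j₀) = pullback.snd (t.app k.left) f
    rw [pullback.lift_fst_assoc, pullback.lift_fst])
  let gk := hR.lift Tk gk'
  let m : Tl ⟶ Tk := Over.homMk (c.π.app k.left) (by
    show c.π.app k.left ≫ t.app k.left = c.π.app j₀ ≫ t.app j₀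
    rw [← htk, ← Category.assoc, c.w])
  refine ⟨k.left, gk.left, Over.w gk, ?_⟩
  have h : m ≫ gk = gO := (hR Tl).injective (by
    rw [WeilRes.restr_comp, WeilRes.IsWeilRes.restr_lift]
    refine Over.OverMorphism.ext ?_
    refine Eq.trans ?_ hv1
    rw [Over.comp_left]
    show _ ≫ θ ≫ v = MorLib.BC.proj D xi hX k ≫ v
    rw [← Category.assoc]
    congr 1
    have h1 : ((Over.pullback f).map m).left ≫ pullback.fst (t.app k.left) f =
        pullback.fst s f ≫ c.π.app k.left := map_left_fst m
    refine pullback.hom_ext (pullback.hom_ext ?_ ?_) ?_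
    · rw [Category.assoc, Category.assoc, pullback.lift_fst_assoc, pullback.lift_fst, MorLib.BC.proj_fst,
        pullback.lift_fst]
      exact Over.w ((Over.pullback f).map m)
    · rw [Category.assoc, Category.assoc, pullback.lift_fst_assoc, pullback.lift_snd, MorLib.BC.proj_fst,
        pullback.lift_snd, reassoc_of% h1, c.w]
    · rw [Category.assoc, pullback.lift_snd, MorLib.BC.proj_snd, h1])
  exact congrArg CommaMorphism.left h

variable {T : Scheme.{u}} {SK : Scheme.{u}} (σ : SK ⟶ S) {tK : T ⟶ SK} {tU : T ⟶ S'} (hT : IsPullback tK tU σ f)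

/-- The comparison to the base change of the counit. -/
def counit {B : Over S'} {R : Over S} (q : Red.bc f R ⟶ B) : Red.bc tK (Red.bc σ R) ⟶ Red.bc tU B :=
  (cmp (rfl : tK ≫ σ = tK ≫ σ) R).hom ≫ (cmp (hT.w.symm : tU ≫ f = tK ≫ σ) R).inv ≫ (Over.pullback tU).map q

theorem counit_fst {B : Over S'} {R : Over S} (q : Red.bc f R ⟶ B) :
    ∃ ω : (Red.bc tK (Red.bc σ R)).left ⟶ (Red.bc f R).left,
      ω ≫ pullback.fst R.hom f = pr σ tK R ∧ ω ≫ pullback.snd R.hom f = pullback.snd _ tK ≫ tU ∧
      (counit f σ hT q).left ≫ pullback.fst B.hom tU = ω ≫ q.left := by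
  refine ⟨(cmp (rfl : tK ≫ σ = tK ≫ σ) R).hom.left ≫ (cmp (hT.w.symm : tU ≫ f = tK ≫ σ) R).inv.left ≫
    pullback.fst (Red.bc f R).hom tU, ?_, ?_, ?_⟩
  · rw [Category.assoc, Category.assoc]
    exact (congrArg (_ ≫ ·) (cmp_inv_fst (hT.w.symm : tU ≫ f = tK ≫ σ) R)).trans (cmp_hom_fst _ R)
  · simp only [Category.assoc]
    refine (congrArg (fun z => _ ≫ _ ≫ z) (pullback.condition (f := (Red.bc f R).hom) (g := tU))).trans ?_
    simp only [← Category.assoc]
    congr 1
    rw [Category.assoc]
    exact (congrArg (_ ≫ ·) (Over.w (cmp (hT.w.symm : tU ≫ f = tK ≫ σ) R).inv)).trans (Over.w _)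
  · simp only [counit, Over.comp_left, Category.assoc, map_left_fst]

include hT in
/-- Base change of a Weil restriction. -/
theorem bijective_counit {B : Over S'} {R : Over S} {q : Red.bc f R ⟶ B} (hR : WeilRes.IsWeilRes f B R q)
    (Z : Over SK) :
    Function.Bijective fun x : Z ⟶ Red.bc σ R => (Over.pullback tK).map x ≫ counit f σ hT q := by
  obtain ⟨ω, hω₁, hω₂, hω₃⟩ := counit_fst f σ hT q
  let Z' : Over S := (Over.map σ).obj Z
  let d : (Red.bc f Z').left ⟶ (Red.bc tK Z).left :=
    pullback.lift (pullback.fst Z'.hom f) (hT.lift (pullback.fst Z'.hom f ≫ Z.hom) (pullback.snd Z'.hom f)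
      (by rw [Category.assoc]; exact pullback.condition)) (hT.lift_fst _ _ _).symm
  let d' : (Red.bc tK Z).left ⟶ (Red.bc f Z').left :=
    pullback.lift (pullback.fst Z.hom tK) (pullback.snd Z.hom tK ≫ tU) (by
      show _ ≫ Z.hom ≫ σ = _
      rw [pullback.condition_assoc, Category.assoc, hT.w])
  have hd : d ≫ d' = 𝟙 _ := by
    refine pullback.hom_ext ?_ ?_
    · simp only [Category.assoc, d, d', pullback.lift_fst, Category.id_comp]
    · simp only [Category.assoc, d', pullback.lift_snd, Category.id_comp]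
      rw [← Category.assoc, pullback.lift_snd, hT.lift_snd]
  have hd' : d' ≫ d = 𝟙 _ := by
    refine pullback.hom_ext ?_ ?_
    · simp only [Category.assoc, d, d', pullback.lift_fst, Category.id_comp]
    · simp only [Category.assoc, d, pullback.lift_snd, Category.id_comp]
      refine hT.hom_ext ?_ ?_
      · rw [Category.assoc, hT.lift_fst, ← Category.assoc, pullback.lift_fst]
        exact pullback.condition
      · rw [Category.assoc, hT.lift_snd]
        exact pullback.lift_snd _ _ _
  let out : (Z ⟶ Red.bc σ R) → (Z' ⟶ R) := fun x => Over.homMk (x.left ≫ pullback.fst R.hom σ) (by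
    show _ = Z.hom ≫ σ
    rw [Category.assoc, pullback.condition, ← Category.assoc]
    exact congrArg (· ≫ σ) (Over.w x))
  have key : ∀ x : Z ⟶ Red.bc σ R, ((Over.pullback tK).map x ≫ counit f σ hT q).left ≫ pullback.fst B.hom tU =
      d' ≫ ((Over.pullback f).map (out x)).left ≫ q.left := fun x => by
    rw [Over.comp_left, Category.assoc, hω₃, ← Category.assoc, ← Category.assoc]
    congr 1
    refine pullback.hom_ext ?_ ?_
    · simp only [Category.assoc, hω₁, pr, map_left_fst, d']
      rw [← Category.assoc ((Over.pullback tK).map x).left, map_left_fst, Category.assoc,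
        ← Category.assoc (pullback.lift _ _ _), pullback.lift_fst]
      rfl
    · simp only [Category.assoc, hω₂]
      rw [← Category.assoc]
      refine (congrArg (· ≫ tU) (Over.w ((Over.pullback tK).map x))).trans ?_
      exact (pullback.lift_snd _ _ _).symm.trans (congrArg (d' ≫ ·) (Over.w ((Over.pullback f).map (out x))).symm)
  refine ⟨fun x x' h => ?_, fun y => ?_⟩
  · have h1 := congrArg (fun z : Red.bc tK Z ⟶ Red.bc tU B => d ≫ z.left ≫ pullback.fst B.hom tU) h
    simp only [key, ← Category.assoc, hd] at h1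
    have h2 : out x = out x' := (hR Z').injective (Over.OverMorphism.ext (by simpa [WeilRes.restr] using h1))
    exact hom_ext₁ (congrArg CommaMorphism.left h2)
  · let g' : Red.bc f Z' ⟶ B := Over.homMk (d ≫ y.left ≫ pullback.fst B.hom tU) (by
      simp only [Category.assoc, pullback.condition]
      rw [← Category.assoc y.left]
      refine (congrArg (fun z => d ≫ z ≫ tU) (Over.w y)).trans ?_
      show d ≫ pullback.snd Z.hom tK ≫ tU = pullback.snd Z'.hom f
      rw [pullback.lift_snd_assoc, hT.lift_snd])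
    let g := hR.lift Z' g'
    let x : Z ⟶ Red.bc σ R := Over.homMk (pullback.lift g.left Z.hom (Over.w g)) (pullback.lift_snd _ _ _)
    refine ⟨x, hom_ext₁ ?_⟩
    have hx : out x = g := Over.OverMorphism.ext (pullback.lift_fst _ _ _)
    rw [key, hx]
    have hg : ((Over.pullback f).map g).left ≫ q.left = g'.left :=
      congrArg CommaMorphism.left (WeilRes.IsWeilRes.restr_lift hR Z' g')
    rw [hg]
    show d' ≫ d ≫ _ = _
    rw [reassoc_of% hd']

end Res

section MapOne

theorem map_one_comp {S T : Scheme.{u}} (t : T ⟶ S) {N Q : Over S} {W : Over T} [GrpObj Q] [GrpObj W]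
    (c : Red.bc t Q ⟶ W) [IsMonHom c] (x : N ⟶ Q) (hx : x = 1) : (Over.pullback t).map x ≫ c = 1 := by
  rw [hx, CategoryTheory.Functor.map_one, MonObj.one_comp]

end MapOne

section Finite

variable {k K : Type u} [Field k] [Field K] [Algebra k K]

/-- A homomorphism to a commutative group over a finite algebra kills the kernel of the image. -/
theorem kills_finite (hprim : ∀ x : K, IsSeparable k x → x ∈ (algebraMap k K).range)
    (E : Type u) [Field E] [Algebra k E] [Module.Finite k E]
    (B : Over (Spec (CommRingCat.of E))) [GrpObj B] [IsCommMonObj B] [LocallyOfFiniteType B.hom] [QuasiCompact B.hom]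
    {A N : Over (Spec (CommRingCat.of K))} [GrpObj A] [IsProper A.hom] [GeometricallyIntegral A.hom]
    (A₀ : Over (Spec (CommRingCat.of k))) [GrpObj A₀]
    (lam : A ⟶ Red.bc (AbVar.ext k K) A₀) (h : AbVar.IsChowImage k K A A₀ lam) (i : N ⟶ A) (hi : i ≫ lam = 1)
    {T : Scheme.{u}} {tK : T ⟶ Spec (CommRingCat.of K)} {tU : T ⟶ Spec (CommRingCat.of E)}
    (hT : IsPullback tK tU (AbVar.ext k K) (Spec.map (CommRingCat.ofHom (algebraMap k E))))
    (f : Red.bc tK A ⟶ Red.bc tU B) [IsMonHom f] : (Over.pullback tK).map i ≫ f = 1 := by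
  let σ : Spec (CommRingCat.of K) ⟶ Spec (CommRingCat.of k) := AbVar.ext k K
  let p := Spec.map (CommRingCat.ofHom (algebraMap k E))
  obtain ⟨R, q, hR⟩ := S17693.result k E B
  obtain ⟨_, hq, hRc⟩ := exists_grpObj p hR
  haveI := hq
  haveI := hRc
  haveI : IsAffineHom p := isAffineHom_of_isAffine _
  haveI : IsLocallyNoetherian (Spec (CommRingCat.of E)) := inferInstance
  haveI : LocallyOfFinitePresentation B.hom := LocallyOfFinitePresentation.iff_locallyOfFiniteType.2 inferInstance
  haveI := locallyOfFinitePresentation_res p hR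
  haveI : LocallyOfFiniteType R.hom := inferInstance
  haveI : LocallyOfFiniteType (Red.bc σ R).hom := inferInstanceAs (LocallyOfFiniteType (pullback.snd R.hom σ))
  haveI : IsMonHom (counit p σ hT q) := by
    haveI := H23.BcComp.isMonHom_bc_map (f := tU) q
    unfold counit
    infer_instance
  have hbij := fun Z => bijective_counit p σ hT hR Z
  obtain ⟨x, hx : (Over.pullback tK).map x ≫ counit p σ hT q = f⟩ := (hbij A).surjective f
  haveI hxm : IsMonHom x := AGFLib.isMonHom_of_mul x fun X a b => (hbij X).injective (by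
    simp only [Functor.map_comp, Functor.map_mul, Category.assoc, MonObj.mul_comp, hx])
  obtain ⟨H, _, j, hj, hjc, hHp, hHg, hjr⟩ := H23.MaxAbelian.exists_image x
    ⟨η[A], IsMonHom.one_hom x⟩
    ⟨μ[A], by rw [IsMonHom.mul_hom x]; simp [Hom.mul_def]⟩
    ⟨ι[A], by rw [GrpObj.inv_eq_inv, GrpObj.inv_comp, Category.id_comp]⟩
  haveI := hj
  haveI := hjc
  haveI := hHp
  haveI := hHg
  obtain ⟨l, hlp, hl⟩ : ∃ l : ℕ, l.Prime ∧ (l : k) ≠ 0 := by
    by_cases h2 : ((2 : ℕ) : k) = 0
    · refine ⟨3, Nat.prime_three, fun h3 => one_ne_zero (α := k) ?_⟩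
      have : ((3 : ℕ) : k) = ((2 : ℕ) : k) + 1 := by norm_num
      rw [h2, h3, zero_add] at this
      exact this.symm
    · exact ⟨2, Nat.prime_two, h2⟩
  haveI : Fact l.Prime := ⟨hlp⟩
  obtain ⟨H₀, _, j₀, hH₀p, hH₀g, hj₀, -, e, he⟩ := ChowDesc.exists_descent hprim R H j l hl
  haveI := hH₀p
  haveI := hH₀g
  haveI := hj₀
  haveI : IsReduced A.left := AVTors.ChowExist.isReduced_left A
  obtain ⟨a, ha⟩ := H23.RedSub.exists_lift_closed x.left j.left hjr.symm.subset
  let a' : A ⟶ Red.bc σ H₀ := Over.homMk a (by rw [← Over.w j, ← Category.assoc, ha, Over.w x]) ≫ e.inv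
  have ha' : a' ≫ (Over.pullback σ).map j₀ = x := by
    show (_ ≫ e.inv) ≫ _ = x
    rw [← he, Category.assoc, Iso.inv_hom_id_assoc]
    exact Over.OverMorphism.ext ha
  haveI : Mono j := (Over.forget _).mono_of_mono_map (inferInstanceAs (Mono j.left))
  haveI : Mono ((Over.pullback σ).map j₀) := by
    rw [← he]; infer_instance
  haveI : IsMonHom a' := AVTors.ChowKernel.mon_of a' ((Over.pullback σ).map j₀) (by rw [ha']; infer_instance)
  obtain ⟨α, hαm, hα⟩ := h.fac H₀ a'
  haveI := hαm
  haveI := H23.BcComp.isMonHom_bc_map (f := σ) α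
  have hix : i ≫ x = 1 := by
    rw [← ha', ← hα, ← Category.assoc, ← Category.assoc, hi, MonObj.one_comp, MonObj.one_comp]
  rw [← hx, ← Category.assoc, ← Functor.map_comp]
  exact map_one_comp tK (counit p σ hT q) _ hix

end Finite

end Groth.Agent.ChowFam
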