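import Groth.Agent.AVTors.DescSub
import Groth.Agent.GrpSchLib.OpenIndex
import Groth.Agent.GrpSchLib.UnramifiedFibre
import Groth.Agent.H23.MulEtale
import Groth.Agent.EtFound.Descent

/-!
# Abelian subvarieties of a commutative group descend along primary extensions
-/

set_option autoImplicit false
set_option linter.style.haveILetI false
set_option linter.unusedSectionVars false
set_option backward.isDefEq.respectTransparency false
set_option backward.isDefEq.respectTransparency.types false
set_option maxHeartbeats 1000000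
set_option synthInstance.maxHeartbeats 100000

universe u

open CategoryTheory CategoryTheory.Limits MonoidalCategory CartesianMonoidalCategory MonObj AlgebraicGeometry
open TopologicalSpace
open scoped CategoryTheory.Obj

namespace Groth.Agent.ChowDesc

attribute [local instance] Curv2.resAlgebra

open Groth.Agent Groth.Agent.AVTors

variable {k K : Type u} [Field k] [Field K] [Algebra k K]

/-- The power map is unramified on a commutative group. -/
theorem formallyUnramified_pow (A : Over (Spec (CommRingCat.of k))) [GrpObj A] [IsCommMonObj A]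
    [LocallyOfFiniteType A.hom] (N : ℕ) (hN : (N : k) ≠ 0) : FormallyUnramified (𝟙 A ^ N : A ⟶ A).left := by
  let Ω := AlgebraicClosure k
  let σ : Spec (CommRingCat.of Ω) ⟶ Spec (CommRingCat.of k) := Spec.map (CommRingCat.ofHom (algebraMap k Ω))
  let AΩ := (Over.pullback σ).obj A
  letI : GrpObj AΩ := Functor.grpObjObj
  haveI : IsCommMonObj AΩ := inferInstance
  haveI : LocallyOfFiniteType AΩ.hom := inferInstanceAs (LocallyOfFiniteType (pullback.snd A.hom σ))
  have hNΩ : (N : Ω) ≠ 0 := fun h => hN ((algebraMap k Ω).injective (by rwa [map_natCast, map_zero]))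
  have h : FormallyUnramified ((Over.pullback σ).map (𝟙 A ^ N)).left := by
    rw [H23.MulEtale.map_pow σ N]
    exact H23.MulTangent.formallyUnramified_pow AΩ N hNΩ
  haveI : Flat σ := (HasRingHomProperty.Spec_iff (P := @Flat)).2 (RingHom.flat_algebraMap_iff.2 inferInstance)
  haveI : Surjective σ := ⟨fun _ => ⟨IsLocalRing.closedPoint Ω, Subsingleton.elim _ _⟩⟩
  exact MorphismProperty.of_isPullback_of_descendsAlong (P := @FormallyUnramified)
    (Q := (@Surjective ⊓ @Flat ⊓ @QuasiCompact : MorphismProperty Scheme.{u}))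
    (H23.MulEtale.isPullback_map σ (𝟙 A ^ N)).flip
    ⟨⟨MorphismProperty.pullback_fst (P := @Surjective) _ _ inferInstance,
      MorphismProperty.pullback_fst (P := @Flat) _ _ inferInstance⟩,
      MorphismProperty.pullback_fst (P := @QuasiCompact) _ _ inferInstance⟩ h

theorem formallyUnramified_tors (A : Over (Spec (CommRingCat.of k))) [GrpObj A] [IsCommMonObj A]
    [LocallyOfFiniteType A.hom] (N : ℕ) (hN : (N : k) ≠ 0) :
    FormallyUnramified (pullback.fst η[A].left (𝟙 A ^ N : A ⟶ A).left) :=
  MorphismProperty.pullback_fst (P := @FormallyUnramified) _ _ (formallyUnramified_pow A N hN)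

/-- A point of an unramified scheme has only one point above it in a primary extension. -/
theorem injective_bcFst_of_unramified (hprim : ∀ x : K, IsSeparable k x → x ∈ (algebraMap k K).range)
    {W : Scheme.{u}} [W.Over (Spec (CommRingCat.of k))] [LocallyOfFiniteType (W ↘ Spec (CommRingCat.of k))]
    [FormallyUnramified (W ↘ Spec (CommRingCat.of k))] : Function.Injective (Curv2.bcFst k W K) := by
  intro u v huv
  let w := Curv2.bcFst k W K u
  let q := W ↘ Spec (CommRingCat.of k)
  haveI : LocallyQuasiFinite q := GrpSchLib.OpenIndex.locallyQuasiFinite_of_unramified q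
  haveI : IsClosedImmersion (W.fromSpecResidueField w) :=
    isClosed_singleton_iff_isClosedImmersion.1 (by
      haveI : DiscreteTopology W := isDiscrete_univ_iff.1 (by
        have h := q.isDiscrete_preimage_singleton (IsLocalRing.closedPoint k)
        rwa [show q ⁻¹' {IsLocalRing.closedPoint k} = Set.univ from
          Set.eq_univ_of_forall fun x => Subsingleton.elim (α := Spec (CommRingCat.of k)) _ _] at h)
      exact isClosed_discrete _)
  have hover := GeomField.fromSpecResidueField_over (k := k) w
  haveI h1 : FormallyUnramified (Spec.map (CommRingCat.ofHom (algebraMap k (W.residueField w)))) := by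
    rw [← hover]; exact MorphismProperty.comp_mem _ _ _ inferInstance inferInstance
  haveI h2 : LocallyOfFiniteType (Spec.map (CommRingCat.ofHom (algebraMap k (W.residueField w)))) := by
    rw [← hover]; infer_instance
  rw [HasRingHomProperty.Spec_iff (P := @LocallyOfFiniteType)] at h2
  rw [HasRingHomProperty.Spec_iff (P := @FormallyUnramified)] at h1
  haveI : Algebra.FiniteType k (W.residueField w) := RingHom.finiteType_algebraMap.1 h2
  haveI : Module.Finite k (W.residueField w) := finite_of_finite_type_of_isJacobsonRing k _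
  haveI : Algebra.FormallyUnramified k (W.residueField w) := RingHom.formallyUnramified_algebraMap.1 h1
  haveI : Algebra.IsSeparable k (W.residueField w) := Algebra.FormallyUnramified.isSeparable k _
  let jw := W.fromSpecResidueField w
  have hr : Curv2.bcFst k W K ⁻¹' {w} = Set.range (pullback.snd jw (Curv2.bcFst k W K)) := by
    rw [Scheme.Pullback.range_snd, Scheme.range_fromSpecResidueField]
  have : Subsingleton ↥(pullback jw (Curv2.bcFst k W K)) :=
    @Equiv.subsingleton _ _ (GeomField.fibreIso K w).hom.homeomorph.toEquiv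
      (subsingleton_primeSpectrum_tensor hprim (W.residueField w))
  exact (hr ▸ Set.subsingleton_range (pullback.snd jw (Curv2.bcFst k W K)))
    (show u ∈ Curv2.bcFst k W K ⁻¹' {w} from rfl) (show v ∈ Curv2.bcFst k W K ⁻¹' {w} from huv.symm)

/-- An abelian subvariety of the base change of a commutative group along a primary extension descends. -/
theorem exists_descent (hprim : ∀ x : K, IsSeparable k x → x ∈ (algebraMap k K).range)
    (A : Over (Spec (CommRingCat.of k))) [GrpObj A] [IsCommMonObj A] [LocallyOfFiniteType A.hom]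
    (B' : Over (Spec (CommRingCat.of K))) [GrpObj B'] [IsProper B'.hom] [GeometricallyIntegral B'.hom]
    (i' : B' ⟶ (Over.pullback (Spec.map (CommRingCat.ofHom (algebraMap k K)))).obj A) [IsMonHom i']
    [IsClosedImmersion i'.left] (l : ℕ) [Fact l.Prime] (hl : (l : k) ≠ 0) :
    ∃ (B : Over (Spec (CommRingCat.of k))) (_ : GrpObj B) (i : B ⟶ A), IsProper B.hom ∧ GeometricallyIntegral B.hom ∧
      IsMonHom i ∧ IsClosedImmersion i.left ∧
      ∃ e : (Over.pullback (Spec.map (CommRingCat.ofHom (algebraMap k K)))).obj B ≅ B',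
        e.hom ≫ i' = (Over.pullback (Spec.map (CommRingCat.ofHom (algebraMap k K)))).map i := by
  let b : Spec (CommRingCat.of K) ⟶ Spec (CommRingCat.of k) := Spec.map (CommRingCat.ofHom (algebraMap k K))
  haveI : IsSeparated A.hom :=
    (isSeparated_iff A.hom).mpr ((GrpSchLib.diagonal_iff_unit @IsClosedImmersion).mpr inferInstance)
  haveI : Flat b := (HasRingHomProperty.Spec_iff (P := @Flat)).2 (RingHom.flat_algebraMap_iff.2 inferInstance)
  haveI : Surjective b := ⟨fun _ => ⟨IsLocalRing.closedPoint K, Subsingleton.elim _ _⟩⟩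
  haveI : IsIntegral B'.left := H23.MaxAbelian.isIntegral_of_geometricallyIntegral (X := B')
  haveI : IsClosedImmersion (𝟙 B' : B' ⟶ B').left := by rw [Over.id_left]; infer_instance
  have hlK : (l : K) ≠ 0 := fun h => hl ((algebraMap k K).injective (by rwa [map_natCast, map_zero]))
  have hlpow : ∀ n, ((l ^ n : ℕ) : k) ≠ 0 := fun n => by rw [Nat.cast_pow]; exact pow_ne_zero _ hl
  have hpos : ∀ n, 0 < l ^ n := fun n => pow_pos (Fact.out : l.Prime).pos n
  let π : ((Over.pullback b).obj A).left ⟶ A.left := pullback.fst A.hom b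
  let p : ℕ → Set B'.left := fun n => Set.range (pullback.snd η[B'].left (𝟙 B' ^ (l ^ n) : B' ⟶ B').left)
  let S : Set ((Over.pullback b).obj A).left := i'.left '' ⋃ n, p n
  have hdense : closure S = Set.range i'.left := by
    have h := RedConn.dense_tors (𝟙 B') l hlK
    refine le_antisymm (closure_minimal (Set.image_subset_range _ _) i'.left.isClosedEmbedding.isClosed_range) ?_
    rw [← Set.image_univ, ← h.closure_eq]
    exact image_closure_subset_closure_image i'.left.continuous
  -- torsion points of `B'` lie over torsion points of `A`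
  have htors : ∀ n, ∀ x ∈ p n, π (i'.left x) ∈ Set.range (pullback.snd η[A].left (𝟙 A ^ (l ^ n) : A ⟶ A).left) := by
    rintro n _ ⟨t, rfl⟩
    let T : Over (Spec (CommRingCat.of K)) := Over.mk (pullback.fst η[B'].left (𝟙 B' ^ (l ^ n) : B' ⟶ B').left)
    obtain ⟨⟨a, ha⟩, hta⟩ : ∃ a : {a : T ⟶ B' // a ^ (l ^ n) = 1},
        a.1.left = pullback.snd η[B'].left (𝟙 B' ^ (l ^ n) : B' ⟶ B').left :=
      ⟨(H23.TorsRed.ptsEquiv B' (l ^ n) T).symm ⟨𝟙 _, Category.id_comp _⟩, Category.id_comp _⟩
    let q : (Over.map b).obj T ⟶ A := (bcPts b T A).symm (a ≫ i')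
    have hq : q ^ (l ^ n) = 1 := by rw [← map_pow, ← MonObj.pow_comp, ha, MonObj.one_comp, map_one]
    let f := H23.TorsRed.ptsEquiv A (l ^ n) _ ⟨q, hq⟩
    have hf : f.1 ≫ pullback.snd η[A].left (𝟙 A ^ (l ^ n) : A ⟶ A).left = q.left := pullback.lift_snd _ _ _
    have hqa : (a ≫ i').left ≫ π = q.left := by
      have h := ((bcPts b T A).apply_symm_apply (a ≫ i')).symm
      rw [h]
      show ((Over.mapPullbackAdj b).homEquiv T A q).left ≫ pullback.fst A.hom b = q.left
      simp [Adjunction.homEquiv_unit]
      exact Category.id_comp _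
    refine ⟨f.1 t, ?_⟩
    rw [← Scheme.Hom.comp_apply, hf, ← hqa, Over.comp_left, hta]
    rfl
  -- the fibres over torsion points are single points
  have hfib : ∀ n, ∀ y z : ((Over.pullback b).obj A).left,
      π y ∈ Set.range (pullback.snd η[A].left (𝟙 A ^ (l ^ n) : A ⟶ A).left) → π y = π z → y = z := by
    rintro n y z ⟨w, hw⟩ hyz
    let inc := pullback.snd η[A].left (𝟙 A ^ (l ^ n) : A ⟶ A).left
    haveI : IsSeparated A.hom := inferInstance
    haveI : IsClosedImmersion η[A].left := by
      haveI : IsClosedImmersion (η[A].left ≫ A.hom) := by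
        rw [Over.w η[A]]; exact inferInstanceAs (IsClosedImmersion (𝟙 _))
      exact IsClosedImmersion.of_comp η[A].left A.hom
    haveI : IsClosedImmersion inc := inferInstance
    letI : (H23.TorsRed.tors A (l ^ n)).Over (Spec (CommRingCat.of k)) := ⟨inc ≫ A.hom⟩
    have hinc : inc ≫ A.hom = pullback.fst η[A].left (𝟙 A ^ (l ^ n) : A ⟶ A).left := by
      rw [← Over.w (𝟙 A ^ (l ^ n) : A ⟶ A)]
      show inc ≫ (𝟙 A ^ (l ^ n) : A ⟶ A).left ≫ A.hom = _
      rw [← pullback.condition_assoc, Over.w η[A]]
      exact Category.comp_id _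
    haveI : LocallyOfFiniteType (H23.TorsRed.tors A (l ^ n) ↘ Spec (CommRingCat.of k)) := by
      show LocallyOfFiniteType (inc ≫ A.hom)
      infer_instance
    haveI : FormallyUnramified (H23.TorsRed.tors A (l ^ n) ↘ Spec (CommRingCat.of k)) := by
      show FormallyUnramified (inc ≫ A.hom)
      rw [hinc]
      exact formallyUnramified_tors A (l ^ n) (hlpow n)
    let e := pullbackRightPullbackFstIso A.hom b inc
    have hmem : ∀ x, π x = inc w → ∃ u : Curv2.bc k (H23.TorsRed.tors A (l ^ n)) K,
        Curv2.bcFst k (H23.TorsRed.tors A (l ^ n)) K u = w ∧ (e.inv ≫ pullback.snd inc π) u = x := by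
      intro x hx
      obtain ⟨d, hd1, hd2⟩ := Scheme.Pullback.exists_preimage_pullback (f := inc) (g := π) w x hx.symm
      refine ⟨e.hom d, ?_, ?_⟩
      · rw [← hd1]
        exact (Scheme.Hom.comp_apply e.hom (pullback.fst (inc ≫ A.hom) b) d).symm.trans
          (congrArg (fun f : pullback inc π ⟶ _ => f d) (pullbackRightPullbackFstIso_hom_fst A.hom b inc))
      · rw [← hd2]
        exact (Scheme.Hom.comp_apply e.hom (e.inv ≫ pullback.snd inc π) d).symm.trans
          (congrArg (fun f : pullback inc π ⟶ _ => f d) (e.hom_inv_id_assoc (pullback.snd inc π)))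
    obtain ⟨u, hu, rfl⟩ := hmem y hw.symm
    obtain ⟨v, hv, rfl⟩ := hmem z (hyz.symm.trans hw.symm)
    rw [injective_bcFst_of_unramified hprim (hu.trans hv.symm)]
  have hpre : π ⁻¹' (π '' S) = S := by
    refine le_antisymm ?_ (Set.subset_preimage_image _ _)
    rintro y ⟨s, hs, hsy⟩
    obtain ⟨x, hx, rfl⟩ := hs
    obtain ⟨n, hn⟩ := Set.mem_iUnion.1 hx
    rw [← hfib n _ y (htors n x hn) hsy]
    exact ⟨x, hx, rfl⟩
  -- the subscheme
  let Z : Closeds A.left := ⟨closure (π '' S), isClosed_closure⟩
  let j₀ := (Scheme.IdealSheafData.vanishingIdeal Z).subschemeι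
  let B : Over (Spec (CommRingCat.of k)) := Over.mk (j₀ ≫ A.hom)
  let j : B ⟶ A := Over.homMk j₀ rfl
  haveI : IsClosedImmersion j.left := inferInstanceAs (IsClosedImmersion j₀)
  haveI : AlgebraicGeometry.IsReduced B.left := H23.RedSub.isReduced_vanishingIdeal Z
  have hrj : Set.range j.left = Z := H23.RedSub.range_vanishingIdeal Z
  haveI : Mono j := Over.mono_of_mono_left j
  haveI : LocallyOfFiniteType B.hom := inferInstanceAs (LocallyOfFiniteType (j₀ ≫ A.hom))
  have hπopen : IsOpenMap π := by
    haveI : UniversallyOpen b := VarGeom.universallyOpen_of_field b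
    haveI : UniversallyOpen π := MorphismProperty.pullback_fst (P := @UniversallyOpen) _ _ inferInstance
    exact π.isOpenMap
  have hpreZ : π ⁻¹' (Z : Set A.left) = Set.range i'.left := by
    show π ⁻¹' closure (π '' S) = _
    rw [hπopen.preimage_closure_eq_closure_preimage π.continuous, hpre, hdense]
  -- geometric reducedness
  haveI hBred : GeometricallyReduced B.hom := by
    let W : ℕ → Scheme.{u} := fun n => pullback (pullback.snd η[A].left (𝟙 A ^ (l ^ n) : A ⟶ A).left) j₀
    letI : B.left.Over (Spec (CommRingCat.of k)) := ⟨B.hom⟩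
    letI : ∀ n, (W n).Over (Spec (CommRingCat.of k)) := fun n => ⟨pullback.snd _ _ ≫ B.hom⟩
    refine GrpSchLib.GeomRedDense.geometricallyReduced_of_dense W (fun n => pullback.snd _ _) (fun n => rfl) (fun n => ?_) ?_
    · show GeometricallyReduced (pullback.snd _ _ ≫ j₀ ≫ A.hom)
      rw [← pullback.condition_assoc]
      have hinc : pullback.snd η[A].left (𝟙 A ^ (l ^ n) : A ⟶ A).left ≫ A.hom =
          pullback.fst η[A].left (𝟙 A ^ (l ^ n) : A ⟶ A).left := by
        rw [← Over.w (𝟙 A ^ (l ^ n) : A ⟶ A)]
        show _ ≫ (𝟙 A ^ (l ^ n) : A ⟶ A).left ≫ A.hom = _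
        rw [← pullback.condition_assoc, Over.w η[A]]
        exact Category.comp_id _
      rw [hinc]
      haveI := formallyUnramified_tors A (l ^ n) (hlpow n)
      haveI : LocallyOfFiniteType (pullback.fst η[A].left (𝟙 A ^ (l ^ n) : A ⟶ A).left) := by
        rw [← hinc]; infer_instance
      haveI : IsClosedImmersion (pullback.fst (pullback.snd η[A].left (𝟙 A ^ (l ^ n) : A ⟶ A).left) j₀) :=
        inferInstance
      haveI : FormallyUnramified (pullback.fst (pullback.snd η[A].left (𝟙 A ^ (l ^ n) : A ⟶ A).left) j₀ ≫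
          pullback.fst η[A].left (𝟙 A ^ (l ^ n) : A ⟶ A).left) :=
        MorphismProperty.comp_mem _ _ _ inferInstance inferInstance
      exact RedConn.geometricallyReduced_of_unramified _
    · intro x
      rw [j₀.isEmbedding.isInducing.closure_eq_preimage_closure_image]
      show j₀ x ∈ closure _
      have hx : j₀ x ∈ closure (π '' S) := hrj.subset ⟨x, rfl⟩
      refine closure_mono ?_ hx
      rintro _ ⟨s, ⟨t, ht, rfl⟩, rfl⟩
      obtain ⟨n, hn⟩ := Set.mem_iUnion.1 ht
      obtain ⟨w, hw⟩ := htors n t hn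
      obtain ⟨c, hc⟩ : π (i'.left t) ∈ Set.range j.left := hrj.symm ▸ subset_closure ⟨_, ⟨t, ht, rfl⟩, rfl⟩
      obtain ⟨d, -, hd2⟩ := Scheme.Pullback.exists_preimage_pullback
        (f := pullback.snd η[A].left (𝟙 A ^ (l ^ n) : A ⟶ A).left) (g := j₀) w c (hw.trans hc.symm)
      exact ⟨c, Set.mem_iUnion.2 ⟨n, d, hd2⟩, hc⟩
  -- the base change is `B'`
  let jK : (Over.pullback b).obj B ⟶ (Over.pullback b).obj A := (Over.pullback b).map j
  haveI : IsClosedImmersion jK.left := MorphismProperty.overPullbackMap (P := @IsClosedImmersion) b j inferInstance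
  haveI : AlgebraicGeometry.IsReduced ((Over.pullback b).obj B).left :=
    GeometricallyReduced.geometrically_isReduced (f := B.hom) b _ _ (IsPullback.of_hasPullback B.hom b)
  have hfst : jK.left ≫ π = pullback.fst B.hom b ≫ j.left := by simp [jK, π]
  have hrjK : Set.range jK.left = Set.range i'.left := by
    rw [← hpreZ, ← hrj]
    refine Set.ext fun y => ⟨?_, ?_⟩
    · rintro ⟨z, rfl⟩
      exact ⟨pullback.fst B.hom b z, by rw [← Scheme.Hom.comp_apply, ← hfst]; rfl⟩
    · rintro ⟨z, hz⟩
      obtain ⟨d, -, hd2⟩ := Scheme.Pullback.exists_preimage_pullback (f := j.left) (g := π) z y hz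
      let E : pullback j.left π ⟶ ((Over.pullback b).obj B).left :=
        (pullbackRightPullbackFstIso A.hom b j.left ≪≫ pullback.congrHom (Over.w j) rfl).hom
      have hE : E ≫ jK.left = pullback.snd j.left π := by
        refine pullback.hom_ext ?_ ?_
        · rw [Category.assoc, hfst]
          simp [E, π, pullback.condition]
        · rw [Category.assoc, show jK.left ≫ pullback.snd A.hom b = pullback.snd B.hom b from Over.w jK]
          simp [E, π]
      exact ⟨E d, (Scheme.Hom.comp_apply E jK.left d).symm.trans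
        ((congrArg (fun f : pullback j.left π ⟶ _ => f d) hE).trans hd2)⟩
  obtain ⟨e₀, he₀⟩ := H23.RedSub.exists_iso_of_range_eq jK.left i'.left hrjK
  let e : (Over.pullback b).obj B ≅ B' := Over.isoMk e₀ (by rw [← Over.w i', ← Category.assoc, he₀]; exact Over.w jK)
  have he : e.hom ≫ i' = jK := Over.OverMorphism.ext he₀
  haveI : IsProper ((Over.pullback b).obj B).hom := by
    rw [← Over.w e.hom]; infer_instance
  haveI : IsProper B.hom := by
    haveI := EtFound.fpqc_isProper.{u}
    exact MorphismProperty.of_pullback_snd_of_descendsAlong (P := @IsProper)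
      (Q := (@Surjective ⊓ @Flat ⊓ @QuasiCompact : MorphismProperty Scheme.{u})) (f := B.hom) (g := b)
      ⟨⟨inferInstance, inferInstance⟩, inferInstance⟩ (inferInstanceAs (IsProper ((Over.pullback b).obj B).hom))
  -- the group law
  have hsub : ∀ {T : Over (Spec (CommRingCat.of k))} (h : T ⟶ A),
      Set.range ((Over.pullback b).map h).left ⊆ Set.range i'.left → Set.range h.left ⊆ Set.range j.left := by
    rintro T h hh _ ⟨t, rfl⟩
    haveI : Surjective (pullback.fst T.hom b) := inferInstance
    obtain ⟨s, rfl⟩ := (pullback.fst T.hom b).surjective t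
    rw [hrj]
    have : ((Over.pullback b).map h).left s ∈ π ⁻¹' (Z : Set A.left) := hpreZ.symm ▸ hh ⟨s, rfl⟩
    have h2 : ((Over.pullback b).map h).left ≫ π = pullback.fst T.hom b ≫ h.left := by simp [π]
    rw [← Scheme.Hom.comp_apply, ← h2]
    exact this
  have hfac : ∀ {T : Over (Spec (CommRingCat.of k))} (h : T ⟶ A), AlgebraicGeometry.IsReduced T.left →
      (∃ a : (Over.pullback b).obj T ⟶ B', a ≫ i' = (Over.pullback b).map h) → ∃ h₀ : T ⟶ B, h₀ ≫ j = h := by
    rintro T h _ ⟨a, ha⟩
    obtain ⟨g, hg⟩ := H23.RedSub.exists_lift_closed h.left j.left (hsub h (by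
      rintro _ ⟨y, rfl⟩
      exact ⟨a.left y, by rw [← Scheme.Hom.comp_apply, ← Over.comp_left, ha]⟩))
    exact ⟨Over.homMk g (by show g ≫ j₀ ≫ A.hom = _; rw [show g ≫ j₀ ≫ A.hom = (g ≫ j.left) ≫ A.hom from
      (Category.assoc _ _ _).symm, hg, Over.w]), Over.OverMorphism.ext hg⟩
  haveI : AlgebraicGeometry.IsReduced (B ⊗ B).left := by
    haveI : IsLocallyNoetherian B.left := LocallyOfFiniteType.isLocallyNoetherian B.hom
    exact inferInstanceAs (AlgebraicGeometry.IsReduced (pullback B.hom B.hom))
  obtain ⟨e₁, he₁⟩ := hfac η[A] (inferInstanceAs (AlgebraicGeometry.IsReduced (Spec (CommRingCat.of k))))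
    ⟨1, by
      rw [MonObj.one_comp]
      have h1 : η[A] = (1 : 𝟙_ (Over (Spec (CommRingCat.of k))) ⟶ A) := by
        rw [Hom.one_def, toUnit_unique (toUnit _) (𝟙 _), Category.id_comp]
      rw [h1]
      exact (map_one (Over.pullback b).homMonoidHom).symm⟩
  obtain ⟨m₁, hm₁⟩ := hfac ((fst B B ≫ j) * (snd B B ≫ j)) inferInstance
    ⟨((Over.pullback b).map (fst B B) ≫ e.hom) * ((Over.pullback b).map (snd B B) ≫ e.hom), by
      rw [MonObj.mul_comp, Category.assoc, Category.assoc, he, Functor.map_mul, Functor.map_comp, Functor.map_comp]⟩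
  obtain ⟨v₁, hv₁⟩ := hfac j⁻¹ inferInstance
    ⟨e.hom⁻¹, by
      rw [GrpObj.inv_comp, he]
      exact (map_inv (Over.pullback b).homMonoidHom j).symm⟩
  let inst : GrpObj B := GrpSchLib.grpObjOfFactor j e₁ he₁ m₁ hm₁ v₁ hv₁
  haveI : ConnectedSpace B.left := by
    haveI : Surjective (pullback.fst B.hom b) := inferInstance
    haveI : ConnectedSpace ↥(pullback B.hom b) :=
      e₀.hom.homeomorph.connectedSpace_iff.mpr inferInstance
    exact (pullback.fst B.hom b).surjective.connectedSpace (pullback.fst B.hom b).continuous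
  refine ⟨B, inst, j, inferInstance, H23.MaxAbelian.geometricallyIntegral_of_connected B, ⟨he₁, ?_⟩,
    inferInstance, e, he⟩
  show m₁ ≫ j = _
  rw [hm₁]
  simp [Hom.mul_def]

end Groth.Agent.ChowDesc
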