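import Groth.Agent.S13131
import Groth.Agent.GrpSchLib.AntiAffineHom
import Mathlib.CategoryTheory.Monoidal.Cartesian.Grp
import Mathlib.CategoryTheory.Monoidal.Cartesian.Over
import Mathlib.Topology.LocallyConstant.Algebra

/-!
The constant group scheme on an abstract group, with its functor of points and the homomorphisms out of it.
-/

set_option autoImplicit false
set_option backward.isDefEq.respectTransparency false
set_option backward.isDefEq.respectTransparency.types false
set_option linter.style.haveILetI false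
set_option linter.unusedSectionVars false

universe u

open CategoryTheory CategoryTheory.Limits MonoidalCategory CartesianMonoidalCategory MonObj AlgebraicGeometry
open KumFam TopologicalSpace

noncomputable section

namespace Groth.Agent.ConstGrpObj

open Groth.Agent

variable (S : Scheme.{u}) (M : Type u)

/-- The constant scheme. -/
abbrev cst : Over S := Over.mk (Sigma.desc fun _ : M => 𝟙 S)

/-- The piece of index `m`. -/
def pt (m : M) : 𝟙_ (Over S) ⟶ cst S M := Over.homMk (Sigma.ι (fun _ : M => S) m) (Sigma.ι_desc _ _)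

variable {S M}

/-- The index of a point. -/
def idx {T : Over S} (x : T ⟶ cst S M) (t : T.left) : M :=
  ((sigmaMk (fun _ : M => S)).symm (x.left.base t)).1

theorem idx_comp {T T' : Over S} (g : T' ⟶ T) (x : T ⟶ cst S M) (t : T'.left) :
    idx (g ≫ x) t = idx x (g.left t) := rfl

theorem idx_pt {T : Over S} (m : M) (t : T.left) : idx (toUnit T ≫ pt S M m) t = m := by
  show ((sigmaMk (fun _ : M => S)).symm ((Sigma.ι (fun _ : M => S) m).base ((toUnit T).left t))).1 = m
  rw [← sigmaMk_mk, Homeomorph.symm_apply_apply]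

theorem idx_unit_pt (m : M) (s : (𝟙_ (Over S)).left) : idx (pt S M m) s = m := by
  have h := idx_pt (S := S) (T := 𝟙_ (Over S)) m s
  rwa [toUnit_unique (toUnit (𝟙_ (Over S))) (𝟙 _), Category.id_comp] at h

theorem exists_equiv (T : Over S) : ∃ e : (T ⟶ cst S M) ≃ LocallyConstant T.left M,
    ∀ (x : T ⟶ cst S M) (t : T.left), e x t = idx x t := by
  obtain ⟨e, he⟩ := S13131.result S M T.left T.hom
  refine ⟨({ toFun := fun x => ⟨x.left, Over.w x⟩
             invFun := fun f => Over.homMk f.1 f.2
             left_inv := fun _ => Over.OverMorphism.ext rfl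
             right_inv := fun _ => rfl } :
      (T ⟶ cst S M) ≃ {f : T.left ⟶ ∐ (fun _ : M => S) // f ≫ Sigma.desc (fun _ : M => 𝟙 S) = T.hom}).trans e,
    fun x t => he _ t⟩

/-- Points of the constant scheme are locally constant functions. -/
def lcEquiv (T : Over S) : (T ⟶ cst S M) ≃ LocallyConstant T.left M := (exists_equiv T).choose

theorem lcEquiv_apply {T : Over S} (x : T ⟶ cst S M) (t : T.left) : lcEquiv T x t = idx x t :=
  (exists_equiv T).choose_spec x t

theorem hom_ext {T : Over S} {x y : T ⟶ cst S M} (h : ∀ t, idx x t = idx y t) : x = y :=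
  (lcEquiv T).injective (LocallyConstant.ext fun t => by rw [lcEquiv_apply, lcEquiv_apply, h])

/-- On the open set where the index is `m` a point is the piece of index `m`. -/
theorem exists_cover {T : Over S} (x : T ⟶ cst S M) (t : T.left) :
    ∃ (U : Over S) (j : U ⟶ T) (s : U.left), IsOpenImmersion j.left ∧ j.left s = t ∧
      ∀ m, idx x t = m → j ≫ x = toUnit U ≫ pt S M m := by
  let φ := lcEquiv T x
  let V : T.left.Opens := ⟨φ ⁻¹' {φ t}, φ.isLocallyConstant.isOpen_fiber _⟩
  refine ⟨Over.mk (V.ι ≫ T.hom), Over.homMk V.ι rfl, ⟨t, rfl⟩, inferInstanceAs (IsOpenImmersion V.ι), rfl,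
    fun m hm => hom_ext fun s => ?_⟩
  rw [idx_pt, idx_comp, ← lcEquiv_apply]
  have h : φ (V.ι s) = φ t := s.2
  exact h.trans ((lcEquiv_apply x t).trans hm)

theorem hom_ext_local {T X : Over S} {a b : T ⟶ X} (h : ∀ t : T.left, ∃ (U : Over S) (j : U ⟶ T),
    IsOpenImmersion j.left ∧ t ∈ Set.range j.left ∧ j ≫ a = j ≫ b) : a = b := by
  choose U j hj ht hab using h
  haveI := hj
  refine Over.OverMorphism.ext (Scheme.Cover.hom_ext (T.left.openCoverOfIsOpenCover (fun t => (j t).left.opensRange)
    (.mk (top_le_iff.1 fun t _ => Opens.mem_iSup.2 ⟨t, ht t⟩))) _ _ fun t => ?_)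
  show (j t).left.opensRange.ι ≫ a.left = (j t).left.opensRange.ι ≫ b.left
  rw [← (j t).left.isoOpensRange_inv_comp, Category.assoc, Category.assoc]
  exact congrArg (_ ≫ ·) (congrArg (fun m : U t ⟶ X => m.left) (hab t))

section Grp

variable [Group M]

variable (S M) in
/-- The functor of locally constant functions. -/
def fn : (Over S)ᵒᵖ ⥤ GrpCat.{u} where
  obj T := GrpCat.of (LocallyConstant T.unop.left M)
  map {T T'} g := GrpCat.ofHom
    { toFun := fun φ => φ.comap ⟨g.unop.left.base, g.unop.left.continuous⟩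
      map_one' := rfl
      map_mul' := fun _ _ => rfl }
  map_id T := by
    apply GrpCat.hom_ext
    apply MonoidHom.ext
    intro φ
    exact LocallyConstant.ext fun _ => rfl
  map_comp f g := by
    apply GrpCat.hom_ext
    apply MonoidHom.ext
    intro φ
    exact LocallyConstant.ext fun _ => rfl

variable (S M) in
/-- The constant scheme represents locally constant functions. -/
def rep : (fn S M ⋙ forget GrpCat).RepresentableBy (cst S M) where
  homEquiv {T} := lcEquiv T
  homEquiv_comp {T T'} f g := by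
    refine LocallyConstant.ext fun t => ?_
    show lcEquiv T (f ≫ g) t = lcEquiv T' g (f.left t)
    rw [lcEquiv_apply, lcEquiv_apply, idx_comp]

/-- The constant group scheme. -/
instance grp : GrpObj (cst S M) := GrpObj.ofRepresentableBy _ (fn S M) (rep S M)

theorem idx_mul {T : Over S} (x y : T ⟶ cst S M) (t : T.left) : idx (x * y) t = idx x t * idx y t := by
  have h : lcEquiv (cst S M ⊗ cst S M) μ[cst S M] =
      lcEquiv _ (fst (cst S M) (cst S M)) * lcEquiv _ (snd (cst S M) (cst S M)) :=
    (lcEquiv (cst S M ⊗ cst S M)).apply_symm_apply _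
  have h' := congrArg (fun φ : LocallyConstant _ M => φ ((lift x y).left t)) h
  simp only [LocallyConstant.coe_mul, Pi.mul_apply, lcEquiv_apply, ← idx_comp, lift_fst, lift_snd] at h'
  rw [Hom.mul_def]
  exact h'

theorem idx_one {T : Over S} (t : T.left) : idx (1 : T ⟶ cst S M) t = 1 := by
  have h := idx_mul (1 : T ⟶ cst S M) 1 t
  rw [_root_.one_mul] at h
  exact right_eq_mul.1 h

theorem one_eq_pt {T : Over S} : (1 : T ⟶ cst S M) = toUnit T ≫ pt S M 1 :=
  hom_ext fun t => by rw [idx_one, idx_pt]

theorem pt_one : pt S M 1 = η[cst S M] :=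
  hom_ext fun s => by
    rw [idx_unit_pt, show η[cst S M] = (1 : 𝟙_ (Over S) ⟶ cst S M) by
      rw [Hom.one_def, toUnit_unique (toUnit (𝟙_ (Over S))) (𝟙 _), Category.id_comp], idx_one]

variable {A : Over S} [GrpObj A] (Φ : M →* (𝟙_ (Over S) ⟶ A))

/-- The morphism out of the constant group given by a homomorphism. -/
def ext : cst S M ⟶ A :=
  Over.homMk (Sigma.desc fun m => (Φ m).left) (Sigma.hom_ext _ _ fun m => by
    show Sigma.ι (fun _ : M => S) m ≫ Sigma.desc (fun m => (Φ m).left) ≫ A.hom =
      Sigma.ι (fun _ : M => S) m ≫ Sigma.desc (fun _ : M => 𝟙 S)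
    rw [Sigma.ι_desc_assoc, Sigma.ι_desc, Over.w]
    rfl)

theorem pt_ext (m : M) : pt S M m ≫ ext Φ = Φ m :=
  Over.OverMorphism.ext (Sigma.ι_desc _ _)

theorem ext_mul {T : Over S} (x y : T ⟶ cst S M) : (x * y) ≫ ext Φ = (x ≫ ext Φ) * (y ≫ ext Φ) := by
  refine hom_ext_local fun t => ?_
  obtain ⟨U, j, s, hj, hs, hx⟩ := exists_cover x t
  obtain ⟨U', j', s', hj', hs', hy⟩ := exists_cover (j ≫ y) s
  haveI := hj; haveI := hj'
  refine ⟨U', j' ≫ j, inferInstanceAs (IsOpenImmersion (j'.left ≫ j.left)), ⟨s', by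
    show j.left (j'.left s') = t
    rw [hs', hs]⟩, ?_⟩
  have ex : (j' ≫ j) ≫ x = toUnit U' ≫ pt S M (idx x t) := by
    rw [Category.assoc, hx _ rfl, ← Category.assoc, comp_toUnit]
  have ey : (j' ≫ j) ≫ y = toUnit U' ≫ pt S M (idx (j ≫ y) s) := by rw [Category.assoc, hy _ rfl]
  have hmul : ∀ a b : M, (toUnit U' ≫ pt S M a) * (toUnit U' ≫ pt S M b) = toUnit U' ≫ pt S M (a * b) :=
    fun a b => hom_ext fun r => by rw [idx_mul, idx_pt, idx_pt, idx_pt]
  rw [← Category.assoc, MonObj.comp_mul, ex, ey, hmul, Category.assoc, pt_ext, map_mul, MonObj.comp_mul,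
    MonObj.comp_mul, ← Category.assoc (j' ≫ j) x, ← Category.assoc (j' ≫ j) y, ex, ey, Category.assoc,
    Category.assoc, pt_ext, pt_ext]

theorem one_ext : η[cst S M] ≫ ext Φ = η[A] := by
  rw [← pt_one, pt_ext, map_one, Hom.one_def, toUnit_unique (toUnit (𝟙_ (Over S))) (𝟙 _), Category.id_comp]

theorem isMonHom_ext : IsMonHom (ext Φ) where
  one_hom := one_ext Φ
  mul_hom := by
    have h := ext_mul Φ (fst (cst S M) (cst S M)) (snd (cst S M) (cst S M))
    rw [Hom.mul_def, lift_fst_snd, Category.id_comp] at h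
    rw [h, Hom.mul_def, tensorHom_def']
    congr 1
    ext <;> simp

end Grp

instance isCommMonObj [CommGroup M] : IsCommMonObj (cst S M) where
  mul_comm := by
    refine hom_ext fun t => ?_
    rw [show μ[cst S M] = fst (cst S M) (cst S M) * snd (cst S M) (cst S M) by rw [Hom.mul_def, lift_fst_snd, Category.id_comp],
      MonObj.comp_mul, CartesianMonoidalCategory.braiding_hom_fst, CartesianMonoidalCategory.braiding_hom_snd, idx_mul, idx_mul,
      _root_.mul_comm]

instance etale : Etale (cst S M).hom :=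
  IsZariskiLocalAtSource.sigmaDesc (P := @Etale) fun _ => inferInstance

instance isOpenImmersion_pt (m : M) : IsOpenImmersion (pt S M m).left :=
  inferInstanceAs (IsOpenImmersion (Sigma.ι (fun _ : M => S) m))

/-- Over a field the constant group is separated. -/
theorem isSeparated {k : Type u} [Field k] {N : Type u} [Group N] :
    IsSeparated (cst (Spec (CommRingCat.of k)) N).hom :=
  GrpSchLib.AntiAffine.isSeparated_grp _

end Groth.Agent.ConstGrpObj
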