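import Groth.Agent.Lib.CurveDualPrep
import Groth.Agent.Lib.CurveHiggs

/-!
Serre duality in degree one on a smooth proper curve, with an abstract dualizing line bundle: one of
largest degree among those with non-zero first cohomology.
-/

set_option linter.style.haveILetI false
set_option linter.unusedSectionVars false
set_option linter.unusedSimpArgs false
set_option backward.isDefEq.respectTransparency false
set_option backward.isDefEq.respectTransparency.types false
set_option synthInstance.maxHeartbeats 100000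

universe u

open CategoryTheory CategoryTheory.Limits AlgebraicGeometry TopologicalSpace Opposite
open Groth.Agent.PnCoh.Finite (mapLin)

namespace Groth.Agent.CurveDuality

open Groth.Agent.CurveBundle Groth.Agent.CurveSlope Groth.Agent.CurveStable Groth.Agent.CurveSpecial

variable {X : Scheme.{u}} (k : Type u) [Field k] [X.Over (Spec (CommRingCat.of k))]

/-- An invertible module of largest degree with a non-zero functional on its first cohomology. -/
structure IsDualizing (ω : X.Modules) (μ : Coh.HH X ω 1 →ₗ[k] k) : Prop where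
  inv : PicF.IsInvertible ω
  ne : μ ≠ 0
  max : ∀ P : X.Modules, PicF.IsInvertible P → ¬ Subsingleton (Coh.HH X P 1) →
    Curv2.deg k X P 1 ≤ Curv2.deg k X ω 1

/-- A section of `D ⊗ M` as a map `L ⟶ M`, for `L` inverse to `D`. -/
noncomputable def homOfTwist {L D : X.Modules}
    (e : (DCoh.tensorBi.obj L).obj D ≅ Coh.structureModule X) (M : X.Modules)
    (t : Coh.HH X ((DCoh.tensorBi.obj D).obj M) 0) : L ⟶ M :=
  (KFlatLib.tensorUnitIso L).inv ≫ (DCoh.tensorBi.obj L).map (homOfClass t) ≫
    (CurveRR.cancelIso e).hom.app M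

/-- The pairing of sections of `D ⊗ M` with the first cohomology of the inverse of `D`. -/
noncomputable def pairing {L D : X.Modules}
    (e : (DCoh.tensorBi.obj L).obj D ≅ Coh.structureModule X) (M : X.Modules)
    (g : Coh.HH X M 1 →ₗ[k] k) :
    Coh.HH X ((DCoh.tensorBi.obj D).obj M) 0 →ₗ[k] Module.Dual k (Coh.HH X L 1) where
  toFun t := g ∘ₗ mapLin k (homOfTwist e M t) 1
  map_add' s t := LinearMap.ext fun x => by
    show g (mapLin k (homOfTwist e M (s + t)) 1 x) = _
    have : homOfTwist e M (s + t) = homOfTwist e M s + homOfTwist e M t := by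
      unfold homOfTwist
      rw [homOfClass_add, Functor.map_add, Preadditive.add_comp, Preadditive.comp_add]
    rw [this, mapLin_add, map_add]
    rfl
  map_smul' a t := LinearMap.ext fun x => by
    show g (mapLin k (homOfTwist e M (a • t)) 1 x) = a • g (mapLin k (homOfTwist e M t) 1 x)
    rw [← map_smul g]
    congr 1
    have hs : (DCoh.tensorBi.obj L).map (Formal.smulMod k ((DCoh.tensorBi.obj D).obj M) a) =
        Formal.smulMod k ((DCoh.tensorBi.obj L).obj ((DCoh.tensorBi.obj D).obj M)) a :=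
      CurveLinear.tensor_map_smul L _ _
    have h2 : homOfTwist e M (a • t) = ((KFlatLib.tensorUnitIso L).inv ≫
        (DCoh.tensorBi.obj L).map (homOfClass t)) ≫
        Formal.smulMod k ((DCoh.tensorBi.obj L).obj ((DCoh.tensorBi.obj D).obj M)) a ≫
          (CurveRR.cancelIso e).hom.app M := by
      unfold homOfTwist
      rw [homOfClass_smul, Functor.map_comp, hs]
      simp only [Category.assoc]
    have h1 : homOfTwist e M t = ((KFlatLib.tensorUnitIso L).inv ≫
        (DCoh.tensorBi.obj L).map (homOfClass t)) ≫ (CurveRR.cancelIso e).hom.app M := by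
      unfold homOfTwist
      rw [Category.assoc]
    rw [h2, h1]
    simp only [← FFun.mapLin_comp, FFun.mapLin_smulMod, map_smul]

theorem homOfTwist_ne_zero {L D : X.Modules}
    (e : (DCoh.tensorBi.obj L).obj D ≅ Coh.structureModule X) {M : X.Modules}
    {t : Coh.HH X ((DCoh.tensorBi.obj D).obj M) 0} (ht : t ≠ 0) : homOfTwist e M t ≠ 0 := fun h => by
  refine homOfClass_ne_zero ht (CurveRR.eq_zero_of_map_eq_zero
    (CurveTensor.commIso D L ≪≫ e) _ ?_)
  rw [← cancel_epi (KFlatLib.tensorUnitIso L).inv, ← cancel_mono ((CurveRR.cancelIso e).hom.app M),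
    comp_zero, zero_comp, Category.assoc]
  exact h

variable [IsIntegral X] [IsProper (X ↘ Spec (CommRingCat.of k))]
  [Smooth (X ↘ Spec (CommRingCat.of k))]

set_option maxHeartbeats 1000000 in
theorem exists_isDualizing (hdim : topologicalKrullDim X = 1) :
    ∃ (ω : X.Modules) (μ : Coh.HH X ω 1 →ₗ[k] k), IsDualizing k ω μ := by
  haveI := CurveCohLib.isNoetherian_of_proper (k := k) (X := X)
  obtain ⟨L, hL, hd⟩ := exists_deg_le k hdim (min (-1) (- Curv2.euler k X (Coh.structureModule X) - 1))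
  have h0 := finrank_h0_of_deg_neg k hdim hL (by omega)
  have hLc := coh_of_free k (isFinLocFree_of_rank (InvEnd.isFinLocFreeOfRank_one hL))
  have hχ := euler_eq k hdim hLc
  have hne : ¬ Subsingleton (Coh.HH X L 1) := fun h => by
    haveI := h
    rw [h0, Module.finrank_zero_of_subsingleton (R := k) (M := Coh.HH X L 1)] at hχ
    unfold Curv2.deg at hd
    push_cast at hd hχ
    omega
  obtain ⟨d, ⟨ω, hω, hne', rfl⟩, hmax⟩ := Int.exists_greatest_of_bdd
    (P := fun d => ∃ P : X.Modules, PicF.IsInvertible P ∧ ¬ Subsingleton (Coh.HH X P 1) ∧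
      Curv2.deg k X P 1 = d)
    ⟨(Curv2.genus k X : ℤ) + 1 - Curv2.euler k X (Coh.structureModule X), fun d ⟨P, hP, hne, hd⟩ => by
      by_contra hlt
      exact hne (subsingleton_HH_one_of_deg_ge k hdim hP (by omega))⟩
    ⟨_, L, hL, hne, rfl⟩
  obtain ⟨y, hy⟩ : ∃ y : Coh.HH X ω 1, y ≠ 0 := by
    by_contra h
    push Not at h
    exact hne' (subsingleton_of_forall_eq 0 h)
  haveI : Module.Free k (Coh.HH X ω 1) := Module.Free.of_divisionRing k _
  obtain ⟨μ, hμ⟩ : ∃ μ : Coh.HH X ω 1 →ₗ[k] k, μ y ≠ 0 := by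
    by_contra h
    push Not at h
    exact hy ((Module.forall_dual_apply_eq_zero_iff k y).1 h)
  exact ⟨ω, μ, hω, fun h => hμ (by rw [h]; rfl), fun P hP hne => hmax _ ⟨P, hP, hne, rfl⟩⟩

variable {ω : X.Modules} {μ : Coh.HH X ω 1 →ₗ[k] k} (hω : IsDualizing k ω μ)
include hω

/-- A functional which comes from the dualizing module on a subsheaf of full rank does so globally. -/
theorem exists_extension (hdim : topologicalKrullDim X = 1) {A B : X.Modules}
    (hA : Coh.IsCoh A) (hB : Coh.IsCoh B) (f : A ⟶ B) [Mono f] (hrk : rk A = rk B)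
    (ψ : A ⟶ ω) (g : Coh.HH X B 1 →ₗ[k] k)
    (h : ∀ x, g (mapLin k f 1 x) = μ (mapLin k ψ 1 x)) :
    ∃ φ : B ⟶ ω, ∀ y, g y = μ (mapLin k φ 1 y) := by
  haveI := CurveCohLib.isNoetherian_of_proper (k := k) (X := X)
  have hω1 := InvEnd.isFinLocFreeOfRank_one hω.inv
  have hωc := coh_of_free k (isFinLocFree_of_rank hω1)
  have hsplit := (ShortComplex.Splitting.ofHasBinaryBiproduct B ω).shortExact
  have hBω : Coh.IsCoh (B ⊞ ω) := KZ.isCoh_X₂ hsplit hB hωc
  have hrBω : rk (B ⊞ ω) = rk B + 1 := by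
    have h1 := rk_add_coh k _ _ _ hsplit hBω
    rw [rk_eq hω1] at h1
    exact h1
  let ι : A ⟶ B ⊞ ω := biprod.lift f (-ψ)
  haveI : Mono (ι ≫ biprod.fst) := by simpa [ι] using (inferInstance : Mono f)
  haveI : Mono ι := mono_of_mono ι biprod.fst
  have hC : Coh.IsCoh (cokernel ι) := QCoh.isCoh_cokernel hA.1 hBω ι
  have hrC : rk (cokernel ι) = 1 := by
    have h1 := rk_add_coh k _ _ _ (shortExact_cokernel_of_mono ι) hBω
    omega
  obtain ⟨P, q₀, hq₀, hPf, hKc, hK0, hrP⟩ := exists_torsionFree_quot k hdim hC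
  haveI := hq₀
  let q : B ⊞ ω ⟶ P := cokernel.π ι ≫ q₀
  have hqsurj : Function.Surjective (mapLin k q 1) := fun y => by
    obtain ⟨z, hz⟩ := surjective_HH_one_g k hdim (shortExact_kernel_of_epi q₀) hKc.1 y
    obtain ⟨w, hw⟩ := surjective_HH_one_g k hdim (shortExact_cokernel_of_mono ι) hA.1 z
    refine ⟨w, ?_⟩
    rw [← FFun.mapLin_comp]
    exact (congrArg (mapLin k q₀ 1) hw).trans hz
  let G : Coh.HH X (B ⊞ ω) 1 →ₗ[k] k :=
    g ∘ₗ mapLin k (biprod.fst : B ⊞ ω ⟶ B) 1 + μ ∘ₗ mapLin k (biprod.snd : B ⊞ ω ⟶ ω) 1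
  have hker : LinearMap.ker (mapLin k q 1) ≤ LinearMap.ker G := by
    intro x hx
    rw [LinearMap.mem_ker, ← FFun.mapLin_comp] at hx
    haveI := subsingleton_HH_of_rk_zero k hdim hKc hK0 0
    obtain ⟨a, ha⟩ := (CurveCohLib.ker_mapLin_g k (shortExact_kernel_of_epi q₀) 1).le
      (LinearMap.mem_ker.2 hx)
    have hz : mapLin k (cokernel.π ι) 1 x = 0 := by
      rw [← ha, Subsingleton.elim a 0, map_zero]
    obtain ⟨b, hb⟩ := (CurveCohLib.ker_mapLin_g k (shortExact_cokernel_of_mono ι) 1).le
      (LinearMap.mem_ker.2 hz)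
    rw [LinearMap.mem_ker, ← hb]
    show g (mapLin k biprod.fst 1 (mapLin k ι 1 b)) + μ (mapLin k biprod.snd 1 (mapLin k ι 1 b)) = 0
    rw [FFun.mapLin_comp, FFun.mapLin_comp, biprod.lift_fst, biprod.lift_snd, mapLin_neg, map_neg, h,
      add_neg_cancel]
  let ν : Coh.HH X P 1 →ₗ[k] k :=
    ((LinearMap.ker (mapLin k q 1)).liftQ G hker) ∘ₗ
      ((mapLin k q 1).quotKerEquivOfSurjective hqsurj).symm.toLinearMap
  have hν : ∀ x, ν (mapLin k q 1 x) = G x := fun x => by
    show (LinearMap.ker (mapLin k q 1)).liftQ G hker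
      (((mapLin k q 1).quotKerEquivOfSurjective hqsurj).symm (mapLin k q 1 x)) = G x
    rw [show ((mapLin k q 1).quotKerEquivOfSurjective hqsurj).symm (mapLin k q 1 x) =
      Submodule.Quotient.mk x from (LinearEquiv.symm_apply_eq _).2 rfl]
    rfl
  let j : ω ⟶ P := biprod.inr ≫ q
  have hνj : ∀ z, ν (mapLin k j 1 z) = μ z := fun z => by
    rw [← FFun.mapLin_comp, hν]
    show g (mapLin k biprod.fst 1 (mapLin k biprod.inr 1 z)) +
      μ (mapLin k biprod.snd 1 (mapLin k biprod.inr 1 z)) = μ z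
    rw [FFun.mapLin_comp, FFun.mapLin_comp, biprod.inr_fst, biprod.inr_snd, mapLin_zero, mapLin_id,
      map_zero, zero_add]
  have hj : j ≠ 0 := fun h0 => hω.ne (LinearMap.ext fun z => by
    have := hνj z
    rw [h0, mapLin_zero, map_zero] at this
    rw [← this]
    rfl)
  have hP1 : FlatMod.IsFinLocFreeOfRank 1 P := (hrP.trans hrC) ▸ isFinLocFreeOfRank_rk hPf
  have hPi := isInvertible_of_rank_one hP1
  have hPne : ¬ Subsingleton (Coh.HH X P 1) := fun hs => hω.ne (LinearMap.ext fun z => by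
    haveI := hs
    rw [← hνj z, Subsingleton.elim (mapLin k j 1 z) 0, map_zero]
    rfl)
  obtain ⟨hle, hiso⟩ := CurveDeg.deg_le_and_isIso k hdim.le hω.inv hPi j hj
  haveI : IsIso j := hiso (le_antisymm hle (hω.max P hPi hPne))
  refine ⟨biprod.inl ≫ q ≫ inv j, fun y => ?_⟩
  rw [← hνj, FFun.mapLin_comp, Category.assoc, Category.assoc, IsIso.inv_hom_id, Category.comp_id,
    ← FFun.mapLin_comp, hν]
  show g y = g (mapLin k biprod.fst 1 (mapLin k biprod.inl 1 y)) +
    μ (mapLin k biprod.snd 1 (mapLin k biprod.inl 1 y))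
  rw [FFun.mapLin_comp, FFun.mapLin_comp, biprod.inl_fst, biprod.inl_snd, mapLin_zero, mapLin_id,
    map_zero, add_zero]

/-- Duality for invertible modules. -/
theorem exists_rep_line (hdim : topologicalKrullDim X = 1) {M : X.Modules} (hM : PicF.IsInvertible M)
    (g : Coh.HH X M 1 →ₗ[k] k) : ∃ φ : M ⟶ ω, ∀ y, g y = μ (mapLin k φ 1 y) := by
  by_cases hg : g = 0
  · exact ⟨0, fun y => by rw [mapLin_zero, map_zero, hg]; rfl⟩
  haveI := CurveCohLib.isNoetherian_of_proper (k := k) (X := X)
  have hMc := coh_of_free k (isFinLocFree_of_rank (InvEnd.isFinLocFreeOfRank_one hM))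
  obtain ⟨L, hL, hdL⟩ := exists_deg_le k hdim (min (-1)
    (Curv2.deg k X M 1 + Curv2.deg k X ω 1 + 3 * Curv2.euler k X (Coh.structureModule X) - 1))
  obtain ⟨D, hD, hdD, ⟨e⟩⟩ := exists_inverse_deg k hdim hL
  have hLc := coh_of_free k (isFinLocFree_of_rank (InvEnd.isFinLocFreeOfRank_one hL))
  haveI := S0002.result k X L hLc 1
  have hinj : ∀ {N : X.Modules}, PicF.IsInvertible N → ∀ (l : Coh.HH X N 1 →ₗ[k] k), l ≠ 0 →
      Function.Injective (pairing k e N l) := by
    intro N hN l hl
    refine (injective_iff_map_eq_zero _).2 fun t ht => ?_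
    by_contra ht0
    refine hl (LinearMap.ext fun y => ?_)
    obtain ⟨x, hx⟩ := surjective_mapLin_one k hdim hL hN (homOfTwist e N t) (homOfTwist_ne_zero e ht0) y
    rw [← hx]
    exact LinearMap.congr_fun ht x
  have hcount : ∀ {N : X.Modules}, PicF.IsInvertible N →
      Curv2.deg k X N 1 - Curv2.deg k X L 1 + Curv2.euler k X (Coh.structureModule X) ≤
        (Module.finrank k (Coh.HH X ((DCoh.tensorBi.obj D).obj N) 0) : ℤ) := by
    intro N hN
    have hT : PicF.IsInvertible ((DCoh.tensorBi.obj D).obj N) := InvX.isInvertible_tensorMod hD hN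
    have hle := euler_le_h0 k hdim.le (coh_of_free k (isFinLocFree_of_rank (InvEnd.isFinLocFreeOfRank_one hT)))
    have hdeg := CurveRR.deg_tensor k hdim hD hN
    unfold Curv2.deg at hdeg hdD ⊢
    push_cast at hdeg hdD ⊢
    omega
  have hfd : ∀ {N : X.Modules}, PicF.IsInvertible N →
      Module.Finite k (Coh.HH X ((DCoh.tensorBi.obj D).obj N) 0) := fun hN =>
    S0002.result k X _ (CurveTensor.isCoh_tensor (isFinLocFree_of_rank (InvEnd.isFinLocFreeOfRank_one hD))
      (coh_of_free k (isFinLocFree_of_rank (InvEnd.isFinLocFreeOfRank_one hN)))) 0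
  haveI := hfd hM
  haveI := hfd hω.inv
  have hlow : (Module.finrank k (Coh.HH X L 1) : ℤ) =
      - Curv2.deg k X L 1 - Curv2.euler k X (Coh.structureModule X) := by
    have hχ := euler_eq k hdim hLc
    rw [finrank_h0_of_deg_neg k hdim hL (by omega)] at hχ
    unfold Curv2.deg
    push_cast at hχ ⊢
    omega
  obtain ⟨⟨t, v⟩, htv, hne⟩ : ∃ p, (pairing k e M g).coprod (-(pairing k e ω μ)) p = 0 ∧ p ≠ 0 := by
    by_contra hc
    push Not at hc
    have h1 := LinearMap.finrank_le_finrank_of_injective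
      ((injective_iff_map_eq_zero ((pairing k e M g).coprod (-(pairing k e ω μ)))).2 hc)
    rw [Module.finrank_prod, Subspace.dual_finrank_eq] at h1
    have hM' := hcount hM
    have hω' := hcount hω.inv
    omega
  have heq : pairing k e M g t = pairing k e ω μ v := by
    simp only [LinearMap.coprod_apply, LinearMap.neg_apply] at htv
    exact eq_of_sub_eq_zero (by rw [sub_eq_add_neg]; exact htv)
  have ht0 : t ≠ 0 := by
    rintro rfl
    rw [map_zero] at heq
    refine hne ?_
    rw [hinj hω.inv μ hω.ne (heq.symm.trans (map_zero _).symm)]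
    rfl
  haveI : Mono (homOfTwist e M t) :=
    InvEnd.mono_of_ne_zero hL hM _ (homOfTwist_ne_zero e ht0)
  exact exists_extension k hω hdim hLc hMc (homOfTwist e M t)
    (by rw [rk_eq (InvEnd.isFinLocFreeOfRank_one hL), rk_eq (InvEnd.isFinLocFreeOfRank_one hM)])
    (homOfTwist e ω v) g fun x => LinearMap.congr_fun heq x

omit hω

/-- A sufficiently positive twist has no first cohomology. -/
theorem exists_twist_vanish (hdim : topologicalKrullDim X = 1) :
    ∀ (r : ℕ) (V : X.Modules), FlatMod.IsFinLocFree V → rk V = r →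
      ∃ N : ℤ, ∀ D : X.Modules, PicF.IsInvertible D → N ≤ Curv2.deg k X D 1 →
        Subsingleton (Coh.HH X ((DCoh.tensorBi.obj D).obj V) 1) := by
  haveI := CurveCohLib.isNoetherian_of_proper (k := k) (X := X)
  intro r
  induction r with
  | zero =>
    intro V hV hr
    refine ⟨0, fun D hD _ => ?_⟩
    have hDf := isFinLocFree_of_rank (InvEnd.isFinLocFreeOfRank_one hD)
    refine subsingleton_HH_of_rk_zero k hdim (CurveTensor.isCoh_tensor hDf (coh_of_free k hV)) ?_ 0
    exact rk_eq_zero_of_isZero ((DCoh.tensorBi.obj D).map_isZero (isZero_of_rk_zero hV hr))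
  | succ r ih =>
    intro V hV hr
    have hVc := coh_of_free k hV
    obtain ⟨D₀, hD₀, hd₀⟩ := exists_deg_ge k hdim (max 0 (1 - Curv2.euler k X V))
    obtain ⟨L, hL, -, ⟨e'⟩⟩ := exists_inverse_deg k hdim hD₀
    have e : (DCoh.tensorBi.obj L).obj D₀ ≅ Coh.structureModule X := CurveTensor.commIso L D₀ ≪≫ e'
    obtain ⟨t, ht⟩ : ∃ t : Coh.HH X ((DCoh.tensorBi.obj D₀).obj V) 0, t ≠ 0 := by
      have hDf := InvEnd.isFinLocFreeOfRank_one hD₀
      have h1 := CurveTensor.euler_tensor k hdim hDf hVc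
      rw [hr] at h1
      have h2 := euler_le_h0 k hdim.le (CurveTensor.isCoh_tensor (isFinLocFree_of_rank hDf) hVc)
      have h3 : (0 : ℤ) < Module.finrank k (Coh.HH X ((DCoh.tensorBi.obj D₀).obj V) 0) := by
        push_cast at h1
        have : 0 ≤ (r : ℤ) * Curv2.deg k X D₀ 1 := mul_nonneg (by positivity) (by omega)
        rw [add_mul] at h1
        omega
      haveI := Module.nontrivial_of_finrank_pos (R := k)
        (M := Coh.HH X ((DCoh.tensorBi.obj D₀).obj V) 0) (by exact_mod_cast h3)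
      exact exists_ne 0
    have hL1 := InvEnd.isFinLocFreeOfRank_one hL
    haveI := CurveSection.mono_of_ne_zero k hdim.le (isFinLocFree_of_rank hL1) (rk_eq hL1) hV _
      (homOfTwist_ne_zero e ht)
    obtain ⟨M, j, hj, hM, hrM, hmax⟩ := exists_max_sub k hdim.le hV (a := 1)
      ⟨L, homOfTwist e V t, inferInstance, isFinLocFree_of_rank hL1, rk_eq hL1⟩
    haveI := hj
    have hMc := coh_of_free k hM
    have hQc : Coh.IsCoh (cokernel j) := QCoh.isCoh_cokernel hMc.1 hVc j
    have hS := shortExact_cokernel_of_mono j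
    have hQ := isFinLocFree_of_max k hdim.le j (cokernel.π j) _ hS hMc hV hQc
      (fun F g hg hF hrF => hmax F g hg hF (hrF.trans hrM))
    obtain ⟨N, hN⟩ := ih (cokernel j) hQ (by
      have := rk_add_coh k _ _ _ hS hVc
      omega)
    have hMi := isInvertible_of_rank_one (hrM ▸ isFinLocFreeOfRank_rk hM)
    refine ⟨max N ((Curv2.genus k X : ℤ) + 1 - Curv2.euler k X (Coh.structureModule X) -
      Curv2.deg k X M 1), fun D hD hd => ?_⟩
    have hT := CurveTensor.shortExact_tensor
      (isFinLocFree_of_rank (InvEnd.isFinLocFreeOfRank_one hD)) _ _ _ hS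
    haveI := hN D hD (le_trans (le_max_left _ _) hd)
    haveI : Subsingleton (Coh.HH X ((DCoh.tensorBi.obj D).obj M) 1) :=
      subsingleton_HH_one_of_deg_ge k hdim (InvX.isInvertible_tensorMod hD hMi) (by
        rw [CurveRR.deg_tensor k hdim hD hMi]
        have := le_trans (le_max_right _ _) hd
        omega)
    refine subsingleton_of_forall_eq 0 fun x => ?_
    obtain ⟨a, ha⟩ := (CurveCohLib.ker_mapLin_g k hT 1).le
      (LinearMap.mem_ker.2 (Subsingleton.elim _ 0) : x ∈ _)
    rw [← ha, Subsingleton.elim a 0, map_zero]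

include k in
/-- Subbundles of every rank. -/
theorem exists_sub_of_rank (hdim : topologicalKrullDim X = 1) {V : X.Modules}
    (hV : FlatMod.IsFinLocFree V) :
    ∀ a, a ≤ rk V → ∃ (F : X.Modules) (i : F ⟶ V), Mono i ∧ FlatMod.IsFinLocFree F ∧ rk F = a := by
  haveI := CurveCohLib.isNoetherian_of_proper (k := k) (X := X)
  have hVc := coh_of_free k hV
  intro a
  induction a with
  | zero =>
    intro _
    exact ⟨kernel (𝟙 V), kernel.ι _, inferInstance,
      isFinLocFree_of_mono k hdim.le (QCoh.isCoh_kernel hVc hVc _) (kernel.ι (𝟙 V)) hV,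
      rk_eq_zero_of_isZero (isZero_kernel_of_mono (𝟙 V))⟩
  | succ a ih =>
    intro ha
    obtain ⟨G, j, hj, hG, hrG, hmax⟩ := exists_max_sub k hdim.le hV (ih (by omega))
    haveI := hj
    have hGc := coh_of_free k hG
    have hQc : Coh.IsCoh (cokernel j) := QCoh.isCoh_cokernel hGc.1 hVc j
    have hS := shortExact_cokernel_of_mono j
    have hQ := isFinLocFree_of_max k hdim.le j (cokernel.π j) _ hS hGc hV hQc
      (fun F g hg hF hrF => hmax F g hg hF (hrF.trans hrG))
    have hrQ : 1 ≤ rk (cokernel j) := by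
      have := rk_add_coh k _ _ _ hS hVc
      omega
    obtain ⟨D₀, hD₀, hd₀⟩ := exists_deg_ge k hdim (max 0 (1 - Curv2.euler k X (cokernel j)))
    obtain ⟨L, hL, -, ⟨e'⟩⟩ := exists_inverse_deg k hdim hD₀
    have e : (DCoh.tensorBi.obj L).obj D₀ ≅ Coh.structureModule X := CurveTensor.commIso L D₀ ≪≫ e'
    obtain ⟨t, ht⟩ : ∃ t : Coh.HH X ((DCoh.tensorBi.obj D₀).obj (cokernel j)) 0, t ≠ 0 := by
      have hDf := InvEnd.isFinLocFreeOfRank_one hD₀
      have h1 := CurveTensor.euler_tensor k hdim hDf hQc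
      have h2 := euler_le_h0 k hdim.le (CurveTensor.isCoh_tensor (isFinLocFree_of_rank hDf) hQc)
      have h4 : Curv2.deg k X D₀ 1 ≤ (rk (cokernel j) : ℤ) * Curv2.deg k X D₀ 1 :=
        le_mul_of_one_le_left (by omega) (by exact_mod_cast hrQ)
      haveI := Module.nontrivial_of_finrank_pos (R := k)
        (M := Coh.HH X ((DCoh.tensorBi.obj D₀).obj (cokernel j)) 0) (by omega)
      exact exists_ne 0
    have hL1 := InvEnd.isFinLocFreeOfRank_one hL
    haveI := CurveSection.mono_of_ne_zero k hdim.le (isFinLocFree_of_rank hL1) (rk_eq hL1) hQ _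
      (homOfTwist_ne_zero e ht)
    obtain ⟨P, i, hi, hP, hrP, -⟩ := exists_preimage k hdim.le j (cokernel.π j) _ hS hGc hV hQc
      (homOfTwist e (cokernel j) t) (coh_of_free k (isFinLocFree_of_rank hL1))
    exact ⟨P, i, hi, hP, by rw [hrP, hrG, rk_eq hL1]⟩

include hω

/-- Duality: every functional on the first cohomology of a bundle comes from a map to `ω`. -/
theorem exists_rep (hdim : topologicalKrullDim X = 1) :
    ∀ (r : ℕ) (V : X.Modules), FlatMod.IsFinLocFree V → rk V = r → ∀ g : Coh.HH X V 1 →ₗ[k] k,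
      ∃ φ : V ⟶ ω, ∀ y, g y = μ (mapLin k φ 1 y) := by
  haveI := CurveCohLib.isNoetherian_of_proper (k := k) (X := X)
  intro r
  induction r with
  | zero =>
    intro V hV hr g
    haveI := subsingleton_HH_of_rk_zero k hdim (coh_of_free k hV) hr 0
    exact ⟨0, fun y => by rw [Subsingleton.elim y 0, map_zero, map_zero, map_zero]⟩
  | succ r ih =>
    intro V hV hr g
    have hVc := coh_of_free k hV
    obtain ⟨W, i, hi, hW, hrW, hmax⟩ := exists_max_sub k hdim.le hV
      (exists_sub_of_rank k hdim hV r (by omega))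
    haveI := hi
    have hWc := coh_of_free k hW
    have hQc : Coh.IsCoh (cokernel i) := QCoh.isCoh_cokernel hWc.1 hVc i
    have hS := shortExact_cokernel_of_mono i
    have hQ := isFinLocFree_of_max k hdim.le i (cokernel.π i) _ hS hWc hV hQc
      (fun F g hg hF hrF => hmax F g hg hF (hrF.trans hrW))
    have hQ1 : FlatMod.IsFinLocFreeOfRank 1 (cokernel i) :=
      (show rk (cokernel i) = 1 by have := rk_add_coh k _ _ _ hS hVc; omega) ▸ isFinLocFreeOfRank_rk hQ
    obtain ⟨N, hN⟩ := exists_twist_vanish k hdim r W hW hrW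
    obtain ⟨D, hD, hdD⟩ := exists_deg_ge k hdim (max N (1 - Curv2.euler k X (cokernel i)))
    obtain ⟨L, hL, -, ⟨e'⟩⟩ := exists_inverse_deg k hdim hD
    have e : (DCoh.tensorBi.obj L).obj D ≅ Coh.structureModule X := CurveTensor.commIso L D ≪≫ e'
    haveI := hN D hD (le_trans (le_max_left _ _) hdD)
    have hDf := InvEnd.isFinLocFreeOfRank_one hD
    obtain ⟨t, ht⟩ : ∃ t : Coh.HH X ((DCoh.tensorBi.obj D).obj (cokernel i)) 0, t ≠ 0 := by
      have h1 := CurveTensor.euler_tensor k hdim hDf hQc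
      have h2 := euler_le_h0 k hdim.le (CurveTensor.isCoh_tensor (isFinLocFree_of_rank hDf) hQc)
      rw [rk_eq hQ1] at h1
      have h3 := le_trans (le_max_right _ _) hdD
      push_cast at h1
      haveI := Module.nontrivial_of_finrank_pos (R := k)
        (M := Coh.HH X ((DCoh.tensorBi.obj D).obj (cokernel i)) 0) (by omega)
      exact exists_ne 0
    obtain ⟨s, hs⟩ := CurveRR.exists_lift_of_HH_one
      (CurveTensor.shortExact_tensor (isFinLocFree_of_rank hDf) _ _ _ hS) inferInstance (homOfClass t)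
    let l : L ⟶ V := (KFlatLib.tensorUnitIso L).inv ≫ (DCoh.tensorBi.obj L).map s ≫
      (CurveRR.cancelIso e).hom.app V
    have hl : l ≫ cokernel.π i = homOfTwist e (cokernel i) t := by
      simp only [l, homOfTwist, Category.assoc]
      have hn := (CurveRR.cancelIso e).hom.naturality (cokernel.π i)
      simp only [Functor.id_map, Functor.comp_map] at hn
      rw [← hn, ← Functor.map_comp_assoc]
      congr 2
      exact congrArg _ hs
    have hL1 := InvEnd.isFinLocFreeOfRank_one hL
    haveI : Mono (l ≫ cokernel.π i) := hl.symm ▸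
      CurveSection.mono_of_ne_zero k hdim.le (isFinLocFree_of_rank hL1) (rk_eq hL1) hQ _
        (homOfTwist_ne_zero e ht)
    haveI : Mono (biprod.desc i l) := Preadditive.mono_of_cancel_zero _ fun u hu => by
      have h2 : (u ≫ biprod.snd) ≫ (l ≫ cokernel.π i) = 0 := by
        have := congrArg (· ≫ cokernel.π i) hu
        simp only [biprod.desc_eq, Preadditive.comp_add, Preadditive.add_comp, Category.assoc,
          cokernel.condition, comp_zero, zero_comp, zero_add] at this
        rw [Category.assoc]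
        exact this
      have hsnd : u ≫ biprod.snd = 0 := (cancel_mono (l ≫ cokernel.π i)).1 (h2.trans zero_comp.symm)
      refine biprod.hom_ext _ _ ?_ (by rw [hsnd, zero_comp])
      rw [zero_comp, ← cancel_mono i, zero_comp]
      have := hu
      rw [biprod.desc_eq, Preadditive.comp_add, ← Category.assoc, ← Category.assoc, hsnd, zero_comp,
        add_zero] at this
      exact this
    obtain ⟨φ', hφ'⟩ := ih W hW hrW (g ∘ₗ mapLin k i 1)
    obtain ⟨ψ', hψ'⟩ := exists_rep_line k hω hdim hL (g ∘ₗ mapLin k l 1)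
    have hsplit := (ShortComplex.Splitting.ofHasBinaryBiproduct W L).shortExact
    have hA : Coh.IsCoh (W ⊞ L) :=
      KZ.isCoh_X₂ hsplit hWc (coh_of_free k (isFinLocFree_of_rank hL1))
    refine exists_extension k hω hdim hA hVc (biprod.desc i l) ?_ (biprod.desc φ' ψ') g fun x => ?_
    · have h1 := rk_add_coh k _ _ _ hsplit hA
      rw [hrW, rk_eq hL1] at h1
      exact h1.trans hr.symm
    · have hx : x = mapLin k (biprod.inl : W ⟶ W ⊞ L) 1 (mapLin k biprod.fst 1 x) +
          mapLin k (biprod.inr : L ⟶ W ⊞ L) 1 (mapLin k biprod.snd 1 x) := by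
        rw [FFun.mapLin_comp, FFun.mapLin_comp, ← mapLin_add, biprod.total, mapLin_id]
      rw [hx]
      simp only [map_add, FFun.mapLin_comp, biprod.inl_desc, biprod.inr_desc]
      have a1 := hφ' (mapLin k biprod.fst 1 x)
      have a2 := hψ' (mapLin k biprod.snd 1 x)
      simp only [LinearMap.comp_apply, FFun.mapLin_comp] at a1 a2
      simp only [Category.assoc, biprod.inl_desc, biprod.inr_desc]
      rw [a1, a2]

/-- The duality pairing is faithful. -/
theorem surjective_of_ne_zero (hdim : topologicalKrullDim X = 1) {V : X.Modules}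
    (hV : FlatMod.IsFinLocFree V) (φ : V ⟶ ω) (hφ : φ ≠ 0) :
    Function.Surjective (mapLin k φ 1) := by
  haveI := CurveCohLib.isNoetherian_of_proper (k := k) (X := X)
  have hω1 := InvEnd.isFinLocFreeOfRank_one hω.inv
  obtain ⟨I, π, j, hj, hπ, hfac, hK, hI, -, -, hpos, hle⟩ :=
    exists_decomp k hdim.le hV (isFinLocFree_of_rank hω1) φ
  haveI := hj
  haveI := hπ
  rw [rk_eq hω1] at hle
  have hI1 : FlatMod.IsFinLocFreeOfRank 1 I :=
    (show rk I = 1 by have := hpos hφ; omega) ▸ isFinLocFreeOfRank_rk hI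
  have hj0 : j ≠ 0 := fun h0 => hφ (by rw [← hfac, h0, comp_zero])
  intro y
  obtain ⟨z, rfl⟩ := surjective_mapLin_one k hdim (isInvertible_of_rank_one hI1) hω.inv j hj0 y
  obtain ⟨x, hx⟩ := surjective_HH_one_g k hdim (shortExact_kernel_of_epi π)
    (QCoh.isCoh_kernel (coh_of_free k hV) (coh_of_free k hI) π).1 z
  exact ⟨x, by rw [← hfac, ← FFun.mapLin_comp]; exact congrArg (mapLin k j 1) hx⟩

/-- Vanishing criterion. -/
theorem subsingleton_HH_one_iff (hdim : topologicalKrullDim X = 1) {V : X.Modules}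
    (hV : FlatMod.IsFinLocFree V) :
    Subsingleton (Coh.HH X V 1) ↔ ∀ φ : V ⟶ ω, φ = 0 := by
  constructor
  · intro hs φ
    by_contra hφ
    refine hω.ne (LinearMap.ext fun y => ?_)
    obtain ⟨x, rfl⟩ := surjective_of_ne_zero k hω hdim hV φ hφ y
    rw [Subsingleton.elim x 0, map_zero, map_zero]
    rfl
  · intro h
    haveI : Module.Free k (Coh.HH X V 1) := Module.Free.of_divisionRing k _
    refine subsingleton_of_forall_eq 0 fun y => (Module.forall_dual_apply_eq_zero_iff k y).1 fun g => ?_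
    obtain ⟨φ, hφ⟩ := exists_rep k hω hdim _ V hV rfl g
    rw [hφ, h φ, mapLin_zero, map_zero]

end Groth.Agent.CurveDuality
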