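import Groth.Agent.GabberAff13.ExtZeroPush
import Groth.Agent.SiteBase.EtExcision.Compactify
import Groth.Agent.SiteBase.RpushD.Single
import Groth.Agent.SiteBase.KInjAdj
import Groth.Agent.S4329
import Groth.Agent.S1032
import Groth.Agent.BCCrit13.BC
import Groth.Agent.EtFound.AbRecollement
import Groth.Agent.ProperBC13.Main
import Groth.Prelude.Def_EtBC2

/-!
# Derived extension by zero, restriction and direct image on the small étale sites
-/

set_option autoImplicit false
set_option linter.style.haveILetI false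
set_option backward.isDefEq.respectTransparency false
set_option backward.isDefEq.respectTransparency.types false
set_option maxHeartbeats 1000000

universe w w' v v' t u

open CategoryTheory CategoryTheory.Limits AlgebraicGeometry Opposite DerivedCategory

attribute [local instance] HasDerivedCategory.standard

namespace Groth.Agent.DerAux12

open Groth.Agent.EtFound

section Generic

variable {A : Type t} [Category.{v} A] [Abelian A] {B : Type w} [Category.{v'} B] [Abelian B]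
  {C : Type w'} [Category.{v'} C] [Abelian C]

/-- Termwise isomorphic composites of exact functors agree on derived categories. -/
theorem nonempty_mapD_comp (F : A ⥤ B) (G : B ⥤ C) (H : A ⥤ C) [F.Additive] [G.Additive] [H.Additive]
    [PreservesFiniteLimits F] [PreservesFiniteColimits F] [PreservesFiniteLimits G] [PreservesFiniteColimits G]
    [PreservesFiniteLimits H] [PreservesFiniteColimits H] (e : F ⋙ G ≅ H) (D : DerivedCategory A) :
    Nonempty (G.mapDerivedCategory.obj (F.mapDerivedCategory.obj D) ≅ H.mapDerivedCategory.obj D) := by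
  obtain ⟨K, ⟨i⟩⟩ : ∃ K, Nonempty (Q.obj K ≅ D) := ⟨_, ⟨(Q (C := A)).objObjPreimageIso D⟩⟩
  exact ⟨G.mapDerivedCategory.mapIso (F.mapDerivedCategory.mapIso i.symm ≪≫ F.mapDerivedCategoryFactors.app K) ≪≫
    G.mapDerivedCategoryFactors.app _ ≪≫
    Q.mapIso ((Functor.mapHomologicalComplexCompIso e (ComplexShape.up ℤ)).app K) ≪≫
    (H.mapDerivedCategoryFactors.app K).symm ≪≫ H.mapDerivedCategory.mapIso i⟩

/-- A functor isomorphic to the identity is so on derived categories. -/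
theorem nonempty_mapD_id (F : A ⥤ A) [F.Additive] [PreservesFiniteLimits F] [PreservesFiniteColimits F]
    (e : F ≅ 𝟭 A) (D : DerivedCategory A) : Nonempty (F.mapDerivedCategory.obj D ≅ D) := by
  obtain ⟨K, ⟨i⟩⟩ : ∃ K, Nonempty (Q.obj K ≅ D) := ⟨_, ⟨(Q (C := A)).objObjPreimageIso D⟩⟩
  exact ⟨F.mapDerivedCategory.mapIso i.symm ≪≫ F.mapDerivedCategoryFactors.app K ≪≫
    Q.mapIso ((NatIso.mapHomologicalComplex e (ComplexShape.up ℤ) ≪≫
      Functor.mapHomologicalComplexIdIso A (ComplexShape.up ℤ)).app K) ≪≫ i⟩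

end Generic

section Et

variable {X Y : Scheme.{u}}

/-- Derived direct images exist. -/
theorem hasRpushEt (f : X ⟶ Y) : DCoh.HasRpushEt X f := by
  haveI : (EtCoh.push f).Additive := (EtCoh.pullPushAdj f).right_adjoint_additive
  exact (Groth.Agent.S1032.result (A := EtCoh.Ab X) (fun K => by
    obtain ⟨I, g, hI, hg, -, -⟩ := TriCat.exists_kInjective_resolution' K
    exact ⟨I, g, hI, hg⟩) (DCoh.pushEtKh X f)).1

/-- Every object is given by a K-injective complex. -/
theorem exists_kInj_model (D : DCoh.DEt X) :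
    ∃ I : CochainComplex (EtCoh.Ab X) ℤ, I.IsKInjective ∧ Nonempty (Q.obj I ≅ D) := by
  obtain ⟨I, g, hI, hg, -, -⟩ := TriCat.exists_kInjective_resolution' ((Q (C := EtCoh.Ab X)).objPreimage D)
  haveI := hg
  exact ⟨I, hI, ⟨(asIso (Q.map g)).symm ≪≫ (Q (C := EtCoh.Ab X)).objObjPreimageIso D⟩⟩

/-- Derived direct images compose. -/
theorem nonempty_Rpush_comp {Z : Scheme.{u}} (f : X ⟶ Y) (g : Y ⟶ Z) (h : X ⟶ Z) (w : f ≫ g = h)
    [DCoh.HasRpushEt X f] [DCoh.HasRpushEt Y g] [DCoh.HasRpushEt X h] (D : DCoh.DEt X) :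
    Nonempty ((DCoh.RpushEt Y g).obj ((DCoh.RpushEt X f).obj D) ≅ (DCoh.RpushEt X h).obj D) := by
  subst w
  haveI := Groth.Agent.S4329.result f g
  exact ⟨((asIso (EtSix.compMap f g)).app D).symm⟩

/-- The derived direct image along the identity. -/
theorem nonempty_Rpush_id [DCoh.HasRpushEt X (𝟙 X)] (D : DCoh.DEt X) :
    Nonempty ((DCoh.RpushEt X (𝟙 X)).obj D ≅ D) := by
  obtain ⟨I, hI, ⟨i⟩⟩ := exists_kInj_model D
  haveI : EtCoh.BCCont (𝟙 X) := EtCoh.bcCont _
  haveI : (EtCoh.push (𝟙 X)).Additive := (EtCoh.pullPushAdj (𝟙 X)).right_adjoint_additive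
  let e0 : EtCoh.push (𝟙 X) ≅ 𝟭 _ :=
    ((EtCoh.pullPushAdj (𝟙 X)).ofNatIsoLeft (GabberAff13.pullIdIso X)).rightAdjointUniq Adjunction.id
  obtain ⟨r⟩ := SiteBase.RpushD.nonempty_RD_Q_iso (EtCoh.push (𝟙 X)) I
  exact ⟨(DCoh.RpushEt X (𝟙 X)).mapIso i.symm ≪≫ r ≪≫
    Q.mapIso ((NatIso.mapHomologicalComplex e0 (ComplexShape.up ℤ) ≪≫
      Functor.mapHomologicalComplexIdIso (EtCoh.Ab X) (ComplexShape.up ℤ)).app I) ≪≫ i⟩

variable (j : X ⟶ Y) [IsOpenImmersion j] [EtShriek.JCont j]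

/-- Restriction to an open is exact. -/
theorem restrAlong_preservesFiniteColimits : PreservesFiniteColimits (EtShriek.restrAlong j) := by
  haveI : EtCoh.BCCont j := EtCoh.bcCont j
  haveI : (EtCoh.pull j).IsLeftAdjoint := (EtCoh.pullPushAdj j).isLeftAdjoint
  exact preservesFiniteColimits_of_natIso (EtMVLib.restrIsoPull j).symm

/-- Restricting an extension by zero gives the sheaf back. -/
theorem isIso_unit : IsIso (EtShriek.extZeroAdj j).unit := by
  haveI : ∀ F, IsIso ((EtShriek.extZeroAdj j).unit.app F) := fun F =>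
    (isIso_iff_stalks _).2 fun Ω _ _ z => isIso_stalk_unit j F z
  exact NatIso.isIso_of_isIso_app _

/-- An object vanishing outside an open is extended by zero from it. -/
theorem nonempty_extZero_restr [PreservesFiniteLimits (EtShriek.extZero j)]
    [PreservesFiniteColimits (EtShriek.restrAlong j)] (D : DCoh.DEt Y)
    (h : ∀ (r : ℤ) (Ω : Type u) [Field Ω] [IsSepClosed Ω] (ξ : Spec (CommRingCat.of Ω) ⟶ Y),
      ξ.base (default : Spec (CommRingCat.of Ω)) ∉ Set.range j.base →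
        IsZero ((EtCoh.stalk ξ).obj (DCoh.HDEt D r))) :
    Nonempty ((DEt.extZeroD j).obj ((DEt.restrD j).obj D) ≅ D) := by
  obtain ⟨K, ⟨i⟩⟩ : ∃ K, Nonempty (Q.obj K ≅ D) := ⟨_, ⟨(Q (C := EtCoh.Ab Y)).objObjPreimageIso D⟩⟩
  let R := EtShriek.restrAlong j
  let L := EtShriek.extZero j
  let ε : R ⋙ L ⟶ 𝟭 (EtCoh.Ab Y) := (EtShriek.extZeroAdj j).counit
  haveI : (R ⋙ L).Additive := inferInstance
  let θ : ((R ⋙ L).mapHomologicalComplex (ComplexShape.up ℤ)).obj K ⟶
      ((𝟭 (EtCoh.Ab Y)).mapHomologicalComplex (ComplexShape.up ℤ)).obj K :=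
    (NatTrans.mapHomologicalComplex ε _).app K
  haveI : QuasiIso θ := ⟨fun r => by
    refine (quasiIsoAt_iff_isIso_homologyMap θ r).2 ?_
    haveI : IsIso (ε.app (K.sc r).homology) :=
      EtFound.extZero_iso_of_outside j _ fun Ω _ _ ξ hξ => (h r Ω ξ hξ).of_iso
        ((EtCoh.stalk ξ).mapIso ((((homologyFunctorFactors (EtCoh.Ab Y) r).app K).symm) ≪≫
          (homologyFunctor (EtCoh.Ab Y) r).mapIso i))
    haveI : IsIso (((K.sc r).mapHomologyIso (R ⋙ L)).inv ≫ ShortComplex.homologyMap ((K.sc r).mapNatTrans ε) ≫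
        ((K.sc r).mapHomologyIso (𝟭 _)).hom) := by
      rw [← NatTrans.app_homology]; infer_instance
    haveI : IsIso (ShortComplex.homologyMap ((K.sc r).mapNatTrans ε) ≫ ((K.sc r).mapHomologyIso (𝟭 _)).hom) :=
      IsIso.of_isIso_comp_left ((K.sc r).mapHomologyIso (R ⋙ L)).inv _
    exact IsIso.of_isIso_comp_right (ShortComplex.homologyMap ((K.sc r).mapNatTrans ε))
      ((K.sc r).mapHomologyIso (𝟭 _)).hom⟩
  exact ⟨(DEt.extZeroD j).mapIso ((DEt.restrD j).mapIso i.symm ≪≫ R.mapDerivedCategoryFactors.app K) ≪≫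
    L.mapDerivedCategoryFactors.app _ ≪≫ asIso (Q.map θ) ≪≫
    Q.mapIso ((Functor.mapHomologicalComplexIdIso (EtCoh.Ab Y) (ComplexShape.up ℤ)).app K) ≪≫ i⟩

/-- Restricting a derived extension by zero gives the object back. -/
theorem nonempty_restr_extZero [PreservesFiniteLimits (EtShriek.extZero j)]
    [PreservesFiniteColimits (EtShriek.restrAlong j)] (D : DCoh.DEt X) :
    Nonempty ((DEt.restrD j).obj ((DEt.extZeroD j).obj D) ≅ D) := by
  haveI := isIso_unit j
  obtain ⟨a⟩ := nonempty_mapD_comp (EtShriek.extZero j) (EtShriek.restrAlong j) (𝟭 _)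
    (asIso (EtShriek.extZeroAdj j).unit).symm D
  obtain ⟨b⟩ := nonempty_mapD_id (𝟭 (EtCoh.Ab X)) (Iso.refl _) D
  exact ⟨a ≪≫ b⟩

omit [IsOpenImmersion j] [EtShriek.JCont j] in
/-- Extension by zero is transitive. -/
theorem nonempty_extZeroD_comp {Z : Scheme.{u}} (x : X ⟶ Y) (v : Y ⟶ Z) (y : X ⟶ Z) (w : x ≫ v = y)
    [IsOpenImmersion x] [IsOpenImmersion v] [IsOpenImmersion y]
    [PreservesFiniteLimits (EtShriek.extZero x)] [PreservesFiniteLimits (EtShriek.extZero v)]
    [PreservesFiniteLimits (EtShriek.extZero y)] (D : DCoh.DEt X) :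
    Nonempty ((DEt.extZeroD v).obj ((DEt.extZeroD x).obj D) ≅ (DEt.extZeroD y).obj D) := by
  subst w
  exact nonempty_mapD_comp _ _ _ (Functor.isoWhiskerRight (EtExcision.extZeroShrIso x) _ ≪≫
    Functor.isoWhiskerLeft _ (EtExcision.extZeroShrIso v) ≪≫ (EtExcision.lowerShriekCompIso x v).symm ≪≫
    (EtExcision.extZeroShrIso (x ≫ v)).symm) D

omit [IsOpenImmersion j] [EtShriek.JCont j] in
/-- Direct images commute with restriction to opens of the base. -/
theorem nonempty_restr_Rpush {U V : Scheme.{u}} (v : U ⟶ X) [IsOpenImmersion v] (jd : V ⟶ Y) [IsOpenImmersion jd]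
    (g : U ⟶ V) [IsProper g] (q : X ⟶ Y) [IsProper q] (sq : IsPullback v g q jd)
    [PreservesFiniteColimits (EtShriek.restrAlong v)] [PreservesFiniteColimits (EtShriek.restrAlong jd)]
    [DCoh.HasRpushEt X q] [DCoh.HasRpushEt U g] [PreservesFiniteLimits (EtShriek.extZero v)] (D : DCoh.DEt X) :
    Nonempty ((DEt.restrD jd).obj ((DCoh.RpushEt X q).obj D) ≅ (DCoh.RpushEt U g).obj ((DEt.restrD v).obj D)) := by
  haveI : EtCoh.BCCont q := EtCoh.bcCont q
  haveI : EtCoh.BCCont g := EtCoh.bcCont g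
  haveI : EtCoh.BCCont v := EtCoh.bcCont v
  haveI : EtCoh.BCCont jd := EtCoh.bcCont jd
  haveI : (EtCoh.push q).Additive := (EtCoh.pullPushAdj q).right_adjoint_additive
  haveI : (EtCoh.push g).Additive := (EtCoh.pullPushAdj g).right_adjoint_additive
  haveI : ∀ F, IsIso (EtCoh.baseChange0 q jd g v sq.w F) := fun F =>
    ProperBC13.isIso_baseChange0 q jd g v sq F
  let e : EtCoh.push q ⋙ EtShriek.restrAlong jd ≅ EtShriek.restrAlong v ⋙ EtCoh.push g :=
    Functor.isoWhiskerLeft _ (EtMVLib.restrIsoPull jd) ≪≫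
      (NatIso.ofComponents (fun F => (@asIso _ _ _ _ (EtCoh.baseChange0 q jd g v sq.w F) (this F) :
          (EtCoh.pull jd).obj ((EtCoh.push q).obj F) ≅ (EtCoh.push g).obj ((EtCoh.pull v).obj F)))
        (fun a => BCCrit13.baseChange0_naturality q jd g v sq.w a) :
        EtCoh.push q ⋙ EtCoh.pull jd ≅ EtCoh.pull v ⋙ EtCoh.push g) ≪≫
      Functor.isoWhiskerRight (EtMVLib.restrIsoPull v).symm _
  obtain ⟨I, hI, ⟨i⟩⟩ := exists_kInj_model D
  haveI : CochainComplex.IsKInjective (((EtShriek.restrAlong v).mapHomologicalComplex (ComplexShape.up ℤ)).obj I) :=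
    SiteBase.isKInjective_map (EtShriek.extZeroAdj v) I
  obtain ⟨r⟩ := SiteBase.RpushD.nonempty_RD_Q_iso (EtCoh.push q) I
  obtain ⟨r'⟩ := SiteBase.RpushD.nonempty_RD_Q_iso (EtCoh.push g)
    (((EtShriek.restrAlong v).mapHomologicalComplex (ComplexShape.up ℤ)).obj I)
  exact ⟨(DEt.restrD jd).mapIso ((DCoh.RpushEt X q).mapIso i.symm ≪≫ r) ≪≫
    (EtShriek.restrAlong jd).mapDerivedCategoryFactors.app _ ≪≫
    Q.mapIso ((NatIso.mapHomologicalComplex e (ComplexShape.up ℤ)).app I) ≪≫ r'.symm ≪≫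
    (DCoh.RpushEt U g).mapIso (((EtShriek.restrAlong v).mapDerivedCategoryFactors.app I).symm ≪≫
      (DEt.restrD v).mapIso i)⟩

end Et

end Groth.Agent.DerAux12
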