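import Mathlib.LinearAlgebra.Matrix.Charpoly.Basic
import Mathlib.FieldTheory.IsAlgClosed.AlgebraicClosure
import Mathlib.FieldTheory.SplittingField.Construction
import Mathlib.Algebra.Algebra.Rat

/-!
Determinants of polynomials in a matrix, and products over roots.
-/

set_option autoImplicit false
set_option linter.style.haveILetI false
set_option maxHeartbeats 1000000

open Polynomial

noncomputable section

namespace Groth.Agent.DetAeval

variable {n : Type*} [Fintype n] [DecidableEq n]

theorem det_aeval_of_isAlgClosed {L : Type*} [Field L] [IsAlgClosed L] (M : Matrix n n L) (F : L[X]) :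
    (Polynomial.aeval M F).det = (M.charpoly.roots.map fun a => F.eval a).prod := by
  have hF : F = C F.leadingCoeff * (F.roots.map (X - C ·)).prod := (IsAlgClosed.splits F).eq_prod_roots
  have hχ : M.charpoly = (M.charpoly.roots.map (X - C ·)).prod :=
    (IsAlgClosed.splits M.charpoly).eq_prod_roots_of_monic M.charpoly_monic
  have hcard : Multiset.card M.charpoly.roots = Fintype.card n := by
    rw [← (IsAlgClosed.splits M.charpoly).natDegree_eq_card_roots, M.charpoly_natDegree_eq_dim]
  let D : L[X] →* L :=
    { toFun := fun G => (Polynomial.aeval M G).det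
      map_one' := by simp
      map_mul' := fun a b => by simp }
  have hsub : ∀ b, D (X - C b) = (M.charpoly.roots.map fun a => a - b).prod := by
    intro b
    show (Polynomial.aeval M (X - C b)).det = _
    rw [map_sub, aeval_X, aeval_C, show M - algebraMap L (Matrix n n L) b = -(Matrix.scalar n b - M) by simp [Matrix.algebraMap_eq_diagonal],
      Matrix.det_neg, ← Matrix.eval_charpoly]
    conv_lhs => rw [hχ]
    rw [Polynomial.eval_multiset_prod, Multiset.map_map]
    have e : (Multiset.map ((fun p => p.eval b) ∘ fun a => X - C a) M.charpoly.roots) =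
        (M.charpoly.roots.map fun a => a - b).map Neg.neg := by
      rw [Multiset.map_map]
      exact Multiset.map_congr rfl fun a _ => by simp
    rw [e, Multiset.prod_map_neg, Multiset.card_map, hcard, ← mul_assoc, ← pow_add, (Even.add_self _).neg_one_pow,
      one_mul]
  show D F = _
  conv_lhs => rw [hF]
  rw [map_mul, map_multiset_prod, Multiset.map_map, Multiset.map_congr rfl fun b _ => (show (D ∘ fun x => X - C x) b = _ from hsub b)]
  have hC : D (C F.leadingCoeff) = F.leadingCoeff ^ Fintype.card n := by
    show (Polynomial.aeval M (C F.leadingCoeff)).det = _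
    rw [aeval_C, Matrix.algebraMap_eq_diagonal, Matrix.det_diagonal]
    simp
  have hev : ∀ a, F.eval a = F.leadingCoeff * (F.roots.map fun b => a - b).prod := fun a => by
    conv_lhs => rw [hF]
    simp [Polynomial.eval_multiset_prod, Multiset.map_map]
  rw [hC, Multiset.map_congr rfl fun a _ => hev a, Multiset.prod_map_mul, Multiset.map_const', Multiset.prod_replicate,
    hcard, Multiset.prod_map_prod_map]

/-- The determinant of a polynomial in a matrix through the roots in any splitting field. -/
theorem det_aeval {R : Type*} [CommRing R] {L : Type*} [Field L] (φ : R →+* L) (M : Matrix n n R) (F : R[X])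
    (hs : (M.charpoly.map φ).Splits) :
    φ (Polynomial.aeval M F).det = ((M.charpoly.map φ).roots.map fun a => (F.map φ).eval a).prod := by
  let L' := AlgebraicClosure L
  let ι : L →+* L' := algebraMap L L'
  apply ι.injective
  have h := det_aeval_of_isAlgClosed (M.map (ι.comp φ)) (F.map (ι.comp φ))
  rw [Matrix.charpoly_map, ← Polynomial.map_map φ ι M.charpoly, hs.roots_map ι, Multiset.map_map] at h
  have hl : (Polynomial.aeval (M.map (ι.comp φ)) (F.map (ι.comp φ))) = (ι.comp φ).mapMatrix (Polynomial.aeval M F) := by
    rw [Polynomial.aeval_def, Polynomial.eval₂_map, Polynomial.aeval_def, Polynomial.hom_eval₂]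
    congr 1
    ext r i j
    simp [Matrix.algebraMap_matrix_apply]
    split_ifs <;> simp
  rw [hl, ← RingHom.map_det, RingHom.comp_apply] at h
  rw [h, map_multiset_prod, Multiset.map_map]
  refine congrArg Multiset.prod (Multiset.map_congr rfl fun a _ => ?_)
  simp only [Function.comp_apply]
  rw [← Polynomial.map_map, Polynomial.eval_map, Polynomial.eval₂_at_apply]

/-- Products over roots commute with embeddings. -/
theorem map_prod_roots {P : ℚ[X]} {L0 : Type*} [Field L0] [CharZero L0] (hs : (P.map (algebraMap ℚ L0)).Splits) (F : ℤ[X])
    {E : Type*} [Field E] [CharZero E] (f : L0 →ₐ[ℚ] E) :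
    ((P.map (algebraMap ℚ E)).roots.map fun a => Polynomial.aeval a F).prod =
      f (((P.map (algebraMap ℚ L0)).roots.map fun a => Polynomial.aeval a F).prod) := by
  have e : P.map (algebraMap ℚ E) = (P.map (algebraMap ℚ L0)).map f.toRingHom := by
    rw [Polynomial.map_map]
    congr 1
    exact f.comp_algebraMap.symm
  rw [e, hs.roots_map, Multiset.map_map, map_multiset_prod, Multiset.map_map]
  refine congrArg Multiset.prod (Multiset.map_congr rfl fun a _ => ?_)
  exact (Polynomial.aeval_algHom_apply (f.restrictScalars ℤ) a F)

/-- A rational identity between products over roots holds in every splitting field. -/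
theorem prod_aeval_roots {P : ℚ[X]} (F : ℤ[X]) (z : ℚ) {C' : Type*} [Field C'] [CharZero C'] [IsAlgClosed C']
    (h : ((P.map (algebraMap ℚ C')).roots.map fun a => Polynomial.aeval a F).prod = algebraMap ℚ C' z)
    {L : Type*} [Field L] [CharZero L] (hL : (P.map (algebraMap ℚ L)).Splits) :
    ((P.map (algebraMap ℚ L)).roots.map fun a => Polynomial.aeval a F).prod = algebraMap ℚ L z := by
  let L0 := P.SplittingField
  let ψ : L0 →ₐ[ℚ] L := Polynomial.SplittingField.lift P hL
  let χ : L0 →ₐ[ℚ] C' := Polynomial.SplittingField.lift P (IsAlgClosed.splits _)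
  have hs : (P.map (algebraMap ℚ L0)).Splits := Polynomial.SplittingField.splits P
  have h0 : ((P.map (algebraMap ℚ L0)).roots.map fun a => Polynomial.aeval a F).prod = algebraMap ℚ L0 z := by
    apply χ.toRingHom.injective
    show χ _ = χ _
    refine Eq.trans ?_ (χ.commutes z).symm
    rw [← h]
    convert (map_prod_roots hs F χ).symm <;> exact Subsingleton.elim _ _
  refine Eq.trans ?_ (ψ.commutes z)
  rw [← h0]
  convert map_prod_roots hs F ψ <;> exact Subsingleton.elim _ _

end Groth.Agent.DetAeval
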