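import Groth.Agent.H28.PnCyc.Prod
import Groth.Agent.H23.MultCM
import Groth.Agent.H23.RedSub
import Groth.Agent.S1684
import Groth.Agent.Lib.IdealModMul
import Mathlib.RingTheory.Ideal.KrullsHeightTheorem

/-!
An effective Cartier divisor with irreducible support on a locally factorial scheme is a multiple of its support.
-/

set_option linter.style.haveILetI false
set_option linter.unusedSectionVars false
set_option backward.isDefEq.respectTransparency false
set_option backward.isDefEq.respectTransparency.types false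
set_option maxHeartbeats 800000

universe u

open CategoryTheory AlgebraicGeometry TopologicalSpace

noncomputable section

namespace Groth.Agent.DivIrred

open Groth.Agent.H23

variable {X : Scheme.{u}}

/-- The zero locus of the ideal of an ideal sheaf on a spectrum. -/
theorem support_eq_zeroLocus {R : CommRingCat.{u}} (K : (Spec R).IdealSheafData) :
    (K.support : Set (Spec R)) = PrimeSpectrum.zeroLocus (StalkIdeal.tI K : Set R) := by
  have h1 : (K.support : Set (Spec R)) = (Spec R).zeroLocus ((K.ideal ⟨⊤, isAffineOpen_top _⟩ : Ideal Γ(Spec R, ⊤)) : Set Γ(Spec R, ⊤)) := by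
    ext x
    exact K.mem_support_iff_of_mem (U := ⟨⊤, isAffineOpen_top _⟩) trivial
  rw [h1, Spec_zeroLocus, StalkIdeal.tI, Ideal.map, PrimeSpectrum.zeroLocus_span]
  congr 1
  ext r
  constructor
  · intro hr
    exact ⟨(Scheme.ΓSpecIso R).inv r, hr, congr($((Scheme.ΓSpecIso R).inv_hom_id) r)⟩
  · rintro ⟨s, hs, rfl⟩
    simpa using hs

/-- Ideal sheaves with the same support have stalks with the same zero locus. -/
theorem zeroLocus_sI_eq {I J : X.IdealSheafData} (h : I.support = J.support) (x : X) :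
    PrimeSpectrum.zeroLocus (StalkIdeal.sI I x : Set (X.presheaf.stalk x)) =
      PrimeSpectrum.zeroLocus (StalkIdeal.sI J x : Set (X.presheaf.stalk x)) := by
  rw [StalkIdeal.sI, StalkIdeal.sI, ← support_eq_zeroLocus, ← support_eq_zeroLocus,
    Scheme.IdealSheafData.support_comap, Scheme.IdealSheafData.support_comap, h]

theorem sI_pow (I : X.IdealSheafData) (n : ℕ) (x : X) : StalkIdeal.sI (I ^ n) x = StalkIdeal.sI I x ^ n := by
  obtain ⟨_, ⟨U, hU, rfl⟩, hxU, -⟩ := X.isBasis_affineOpens.exists_subset_of_mem_open (Set.mem_univ x) isOpen_univ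
  rw [StalkIdeal.sI_eq (I ^ n) ⟨U, hU⟩ hxU, StalkIdeal.sI_eq I ⟨U, hU⟩ hxU, CDivEq.stk, CDivEq.stk,
    Scheme.IdealSheafData.ideal_pow, Pi.pow_apply, Ideal.map_pow]

theorem sI_eq_top_iff (I : X.IdealSheafData) (x : X) : StalkIdeal.sI I x = ⊤ ↔ x ∉ I.support := by
  obtain ⟨_, ⟨U, hU, rfl⟩, hxU, -⟩ := X.isBasis_affineOpens.exists_subset_of_mem_open (Set.mem_univ x) isOpen_univ
  rw [StalkIdeal.sI_eq I ⟨U, hU⟩ hxU]
  exact ((not_iff_not.2 (CDivEq.mem_support_iff I ⟨U, hU⟩ hxU)).trans not_not).symm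

/-- In a factorial domain an element whose only prime factor is `π` is a power of it up to a unit. -/
theorem exists_pow_eq {A : Type*} [CommRing A] [IsDomain A] [UniqueFactorizationMonoid A] {f π : A} (hπ : Prime π)
    (hf0 : f ≠ 0) (h : ∀ q, Prime q → q ∣ f → Associated q π) : ∃ n : ℕ, Ideal.span {f} = Ideal.span {π} ^ n := by
  induction f using UniqueFactorizationMonoid.induction_on_prime with
  | h₁ => exact absurd rfl hf0
  | h₂ x hx => exact ⟨0, by rw [pow_zero, Ideal.one_eq_top, Ideal.span_singleton_eq_top.2 hx]⟩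
  | h₃ a p ha hp ih =>
    obtain ⟨n, hn⟩ := ih (fun h0 => hf0 (by rw [h0, mul_zero])) fun q hq hd => h q hq (hd.trans (dvd_mul_left a p))
    refine ⟨n + 1, ?_⟩
    rw [← Ideal.span_singleton_mul_span_singleton, Ideal.span_singleton_eq_span_singleton.2 (h p hp (dvd_mul_right p a)),
      hn, pow_succ']

theorem eq_of_span_pow_eq {A : Type*} [CommRing A] [IsDomain A] {π : A} (hπ : Prime π) {a b : ℕ}
    (h : Ideal.span {π} ^ a = Ideal.span {π} ^ b) : a = b := by
  rw [Ideal.span_singleton_pow, Ideal.span_singleton_pow, Ideal.span_singleton_eq_span_singleton] at h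
  exact le_antisymm ((pow_dvd_pow_iff hπ.ne_zero hπ.not_unit).1 h.dvd) ((pow_dvd_pow_iff hπ.ne_zero hπ.not_unit).1 h.symm.dvd)

theorem irreducibleSpace_of_range {Y Z : Scheme.{u}} (i : Z ⟶ X) [IsClosedImmersion i] (j : Y ⟶ X)
    [IrreducibleSpace Y] (h : Set.range i = Set.range j) : IrreducibleSpace Z := by
  have h2 : IsIrreducible (i '' Set.univ) := by
    rw [Set.image_univ, h, ← Set.image_univ]
    exact (IrreducibleSpace.isIrreducible_univ _).image _ j.continuous.continuousOn
  rw [irreducibleSpace_def, Set.top_eq_univ]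
  refine ⟨Set.image_nonempty.1 h2.1, ?_⟩
  intro A B hA hB h1 h2'
  obtain ⟨A', hA', rfl⟩ := i.isEmbedding.isInducing.isOpen_iff.1 hA
  obtain ⟨B', hB', rfl⟩ := i.isEmbedding.isInducing.isOpen_iff.1 hB
  obtain ⟨a, -, ha⟩ := h1
  obtain ⟨b, -, hb⟩ := h2'
  obtain ⟨_, ⟨c, -, rfl⟩, hc⟩ := h2.2 A' B' hA' hB' ⟨_, ⟨a, trivial, rfl⟩, ha⟩ ⟨_, ⟨b, trivial, rfl⟩, hb⟩
  exact ⟨c, trivial, hc⟩

/-- **A divisor with irreducible support is a multiple of its reduced support.** -/
theorem exists_pow [IsIntegral X] [IsLocallyNoetherian X]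
    (hufd : ∀ x : X, IsDomain (X.presheaf.stalk x) ∧ UniqueFactorizationMonoid (X.presheaf.stalk x))
    (I : X.IdealSheafData) (hI : BlowUp.IsEffCartierIdeal I) [IrreducibleSpace I.subscheme] :
    ∃ (J : X.IdealSheafData) (n : ℕ), BlowUp.IsEffCartierIdeal J ∧ IsReduced J.subscheme ∧ 1 ≤ n ∧ I = J ^ n ∧
      ∃ ξ : X, ξ ∈ J.support ∧ ringKrullDim (X.presheaf.stalk ξ) = 1 := by
  let J := Scheme.IdealSheafData.vanishingIdeal I.support
  have hsupp : I.support = J.support := by
    ext1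
    exact (Scheme.IdealSheafData.coe_support_vanishingIdeal _).symm
  have hle : I ≤ J := by
    show I ≤ Scheme.IdealSheafData.vanishingIdeal I.support
    rw [Scheme.IdealSheafData.vanishingIdeal_support]
    exact I.le_radical
  haveI hred : IsReduced J.subscheme := RedSub.isReduced_vanishingIdeal _
  haveI : IrreducibleSpace J.subscheme := irreducibleSpace_of_range J.subschemeι I.subschemeι (by
    rw [J.range_subschemeι, I.range_subschemeι, hsupp])
  haveI : IsIntegral J.subscheme := isIntegral_of_irreducibleSpace_of_isReduced _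
  set ξ : X := J.subschemeι (genericPoint J.subscheme) with hξ
  have hξJ : ξ ∈ J.support := by
    rw [← SetLike.mem_coe, ← J.range_subschemeι]
    exact ⟨_, rfl⟩
  have hgen : ∀ x ∈ J.support, ξ ⤳ x := by
    intro x hx
    rw [← SetLike.mem_coe, ← J.range_subschemeι] at hx
    obtain ⟨z, rfl⟩ := hx
    exact (genericPoint_specializes z).map J.subschemeι.continuous
  -- codimension one at the generic point
  haveI := (hufd ξ).1
  haveI := (hufd ξ).2
  have hprime : (StalkIdeal.sI J ξ).IsPrime := by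
    rw [← H28.PnCyc.stalkIdeal_eq_sI]
    exact MultCM.isPrime_stalkIdeal J hξJ
  have hmax : ∀ p : PrimeSpectrum (X.presheaf.stalk ξ),
      p ∈ PrimeSpectrum.zeroLocus (StalkIdeal.sI I ξ : Set (X.presheaf.stalk ξ)) → p = IsLocalRing.closedPoint _ := by
    intro p hp
    rw [StalkIdeal.sI, ← support_eq_zeroLocus, Scheme.IdealSheafData.support_comap] at hp
    have h1 : ξ ⤳ X.fromSpecStalk ξ p := hgen _ (hsupp ▸ hp)
    have h2 : X.fromSpecStalk ξ p ⤳ ξ := by
      have : X.fromSpecStalk ξ p ∈ Set.range (X.fromSpecStalk ξ) := ⟨p, rfl⟩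
      rwa [Scheme.range_fromSpecStalk] at this
    exact (X.fromSpecStalk ξ).isEmbedding.injective ((h2.antisymm h1).eq.trans Scheme.fromSpecStalk_closedPoint.symm)
  have hcodim : ringKrullDim (X.presheaf.stalk ξ) = 1 := by
    obtain ⟨f, hf, hfI⟩ := StalkIdeal.exists_gen hI ξ
    have hf0 : f ≠ 0 := nonZeroDivisors.ne_zero hf
    have hfu : ¬ IsUnit f := fun h => (sI_eq_top_iff I ξ).1 (hfI.trans (Ideal.span_singleton_eq_top.2 h)) (hsupp ▸ hξJ)
    obtain ⟨q, hq, hqf⟩ := WfDvdMonoid.exists_irreducible_factor hfu hf0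
    have hqp : Prime q := UniqueFactorizationMonoid.irreducible_iff_prime.1 hq
    have hqm : Ideal.span {q} = IsLocalRing.maximalIdeal (X.presheaf.stalk ξ) := by
      refine congrArg PrimeSpectrum.asIdeal (hmax ⟨_, (Ideal.span_singleton_prime hqp.ne_zero).2 hqp⟩ ?_)
      show (StalkIdeal.sI I ξ : Set (X.presheaf.stalk ξ)) ⊆ Ideal.span {q}
      rw [hfI]
      exact SetLike.coe_subset_coe.2 (Ideal.span_singleton_le_span_singleton.2 hqf)
    rw [← IsLocalRing.maximalIdeal_height_eq_ringKrullDim, ← hqm,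
      Ideal.height_span_singleton_eq_one_of_mem_nonZeroDivisors (mem_nonZeroDivisors_of_ne_zero hqp.ne_zero) hqp.not_unit]
    rfl
  have hJ : BlowUp.IsEffCartierIdeal J := S1684.result X J hcodim fun x _ => hufd x
  -- stalkwise powers
  have key : ∀ x ∈ J.support, ∃ n : ℕ, 1 ≤ n ∧ StalkIdeal.sI I x = StalkIdeal.sI J x ^ n := by
    intro x hx
    haveI := (hufd x).1
    haveI := (hufd x).2
    obtain ⟨f, hf, hfI⟩ := StalkIdeal.exists_gen hI x
    obtain ⟨π, hπ0, hπJ⟩ := StalkIdeal.exists_gen hJ x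
    have hp : (StalkIdeal.sI J x).IsPrime := by
      rw [← H28.PnCyc.stalkIdeal_eq_sI]
      exact MultCM.isPrime_stalkIdeal J hx
    have hπ : Prime π := (Ideal.span_singleton_prime (nonZeroDivisors.ne_zero hπ0)).1 (hπJ ▸ hp)
    obtain ⟨n, hn⟩ := exists_pow_eq hπ (nonZeroDivisors.ne_zero hf) fun q hq hqf => by
      have h1 : (⟨_, (Ideal.span_singleton_prime hq.ne_zero).2 hq⟩ : PrimeSpectrum (X.presheaf.stalk x)) ∈
          PrimeSpectrum.zeroLocus (StalkIdeal.sI I x : Set (X.presheaf.stalk x)) := by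
        show (StalkIdeal.sI I x : Set (X.presheaf.stalk x)) ⊆ Ideal.span {q}
        rw [hfI]
        exact SetLike.coe_subset_coe.2 (Ideal.span_singleton_le_span_singleton.2 hqf)
      rw [zeroLocus_sI_eq hsupp, hπJ] at h1
      exact hq.associated_of_dvd hπ (Ideal.mem_span_singleton.1 (h1 (Ideal.mem_span_singleton_self π)))
    refine ⟨n, ?_, by rw [hfI, hn, hπJ]⟩
    rcases Nat.eq_zero_or_pos n with rfl | h
    · rw [pow_zero, Ideal.one_eq_top, ← hfI, sI_eq_top_iff] at hn
      exact absurd (hsupp ▸ hx) hn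
    · exact h
  obtain ⟨n, hn1, hn⟩ := key ξ hξJ
  refine ⟨J, n, hJ, hred, hn1, StalkIdeal.ext_sI fun x => ?_, ξ, hξJ, hcodim⟩
  rw [sI_pow]
  by_cases hx : x ∈ J.support
  · obtain ⟨m, -, hm⟩ := key x hx
    have h := congrArg (Ideal.map (X.presheaf.stalkSpecializes (hgen x hx)).hom) hm
    rw [Ideal.map_pow, ← StalkIdeal.sI_spec, ← StalkIdeal.sI_spec, hn] at h
    obtain ⟨π, hπ0, hπJ⟩ := StalkIdeal.exists_gen hJ ξ
    rw [hπJ] at h
    rw [hm, eq_of_span_pow_eq ((Ideal.span_singleton_prime (nonZeroDivisors.ne_zero hπ0)).1 (hπJ ▸ hprime)) h]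
  · rw [(sI_eq_top_iff I x).2 (hsupp ▸ hx), (sI_eq_top_iff J x).2 hx, Ideal.top_pow]

/-- The class of the ideal of a power. -/
theorem cl_pow {J : X.IdealSheafData} (hJ : BlowUp.IsEffCartierIdeal J) : ∀ n : ℕ, 1 ≤ n →
    PicF.IsInvertible (ClSub.idealMod (J ^ n)) ∧
      (letI := PicMul.clMonoid X; PicF.cl (ClSub.idealMod (J ^ n)) = PicF.cl (ClSub.idealMod J) ^ n) := by
  letI := PicMul.clMonoid X
  intro n hn
  induction n with
  | zero => omega
  | succ n ih =>
    rcases Nat.eq_zero_or_pos n with rfl | hpos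
    · rw [pow_one, pow_one]
      exact ⟨(S8914.result J).2 hJ, rfl⟩
    · obtain ⟨h1, h2⟩ := ih hpos
      rw [pow_succ J, pow_succ]
      refine ⟨IdealModMul.isInvertible_mul h1 ((S8914.result J).2 hJ), ?_⟩
      rw [IdealModMul.cl_mul h1 ((S8914.result J).2 hJ), h2]

end Groth.Agent.DivIrred
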