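import Groth.Agent.Lib.RegImmExt
import Groth.Agent.Lib.ExtStalk2
import Groth.Agent.Lib.NegVanStalk
import Groth.Agent.LC.CdDim
import Mathlib.RingTheory.KrullDimension.NonZeroDivisors

/-!
The Ext sheaf in the codimension of a closed subscheme has no torsion.
-/

set_option linter.style.haveILetI false
set_option linter.unusedSectionVars false
set_option backward.isDefEq.respectTransparency false
set_option backward.isDefEq.respectTransparency.types false
set_option maxHeartbeats 1000000

universe u

open CategoryTheory CategoryTheory.Limits AlgebraicGeometry TopologicalSpace Opposite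
open CategoryTheory.Abelian RingTheory.Sequence

noncomputable section

namespace Groth.Agent.DualTorsion

theorem supportDim_localized_le {R : Type u} [CommRing R] (p : Ideal R) [p.IsPrime] (N : Type u) [AddCommGroup N]
    [Module R N] [Module.Finite R N] :
    Module.supportDim (Localization.AtPrime p) (LocalizedModule p.primeCompl N) ≤ Module.supportDim R N := by
  haveI : Module.Finite (Localization.AtPrime p) (LocalizedModule p.primeCompl N) :=
    Module.Finite.of_isLocalizedModule p.primeCompl (LocalizedModule.mkLinearMap _ N)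
  have hmem : ∀ q : PrimeSpectrum (Localization.AtPrime p),
      q ∈ Module.support (Localization.AtPrime p) (LocalizedModule p.primeCompl N) →
      PrimeSpectrum.comap (algebraMap R _) q ∈ Module.support R N := fun q hq => by
    rw [Module.mem_support_iff_of_finite] at hq ⊢
    refine fun a ha => hq (Module.mem_annihilator.2 fun z => ?_)
    obtain ⟨⟨m, s⟩, hm⟩ := IsLocalizedModule.surj p.primeCompl (LocalizedModule.mkLinearMap p.primeCompl N) z
    refine (IsLocalization.map_units (Localization.AtPrime p) s).smul_left_cancel.1 ?_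
    rw [smul_zero, smul_comm, algebraMap_smul, algebraMap_smul]
    refine (congrArg (a • ·) hm).trans ?_
    show a • LocalizedModule.mkLinearMap p.primeCompl N m = 0
    rw [← map_smul, Module.mem_annihilator.1 ha m, map_zero]
  refine Order.krullDim_le_of_strictMono (fun q => ⟨_, hmem q.1 q.2⟩) fun x y h => ?_
  exact (IsLocalization.orderEmbedding p.primeCompl (Localization.AtPrime p)).strictMono (show x.1.asIdeal < y.1.asIdeal from h)

/-- No Ext into the ring below the codimension, for a ring regular of dimension `n` at its maximal ideals. -/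
theorem subsingleton_ext {R : Type u} [CommRing R] [IsNoetherianRing R] (n : ℕ)
    (hreg : ∀ m : Ideal R, (hm : m.IsMaximal) → IsRegularLocalRing (Localization.AtPrime m))
    (hdim : ∀ m : Ideal R, (hm : m.IsMaximal) → ringKrullDim (Localization.AtPrime m) = (n : WithBot ℕ∞))
    (N : Type u) [AddCommGroup N] [Module R N] [Module.Finite R N] (q : ℕ)
    (h : Module.supportDim R N + q < (n : WithBot ℕ∞)) :
    Subsingleton (Ext.{u} (ModuleCat.of R N) (ModuleCat.of R R) q) := by
  refine ExtStalk.subsingleton_of_maximal (A := R) fun m hm => ?_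
  haveI := hreg m hm
  haveI := LC.gorenstein_of_isRegularLocalRing (R := Localization.AtPrime m)
  haveI : Module.Finite (Localization.AtPrime m) (LocalizedModule m.primeCompl N) :=
    Module.Finite.of_isLocalizedModule m.primeCompl (LocalizedModule.mkLinearMap m.primeCompl N)
  rw [ExtStalk.subsingleton_ext_localized m.primeCompl (S := Localization.AtPrime m) (LocalizedModule.mkLinearMap m.primeCompl N) q]
  rcases subsingleton_or_nontrivial (LocalizedModule m.primeCompl N) with hs | hs
  · refine subsingleton_of_forall_eq 0 fun e => ?_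
    rw [← Ext.mk₀_id_comp e, show 𝟙 (ModuleCat.of (Localization.AtPrime m) (LocalizedModule m.primeCompl N)) = 0 from
      ModuleCat.hom_ext (LinearMap.ext fun z => Subsingleton.elim _ _)]
    simp
  have h1 := supportDim_localized_le m N
  obtain ⟨D, hD, hDq⟩ : ∃ D : ℕ, Module.supportDim R N ≤ (D : WithBot ℕ∞) ∧ D + q < n := by
    have h0 : Module.supportDim R N ≠ ⊥ := fun hb => by
      rw [hb, le_bot_iff] at h1
      exact Module.supportDim_ne_bot_of_nontrivial _ _ h1
    revert h h0
    generalize Module.supportDim R N = d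
    intro h h0
    induction d with
    | bot => exact absurd rfl h0
    | coe a =>
      induction a with
      | top =>
        have h' : ((⊤ : ℕ∞) + (q : ℕ∞) : ℕ∞) < (n : ℕ∞) := by exact_mod_cast h
        simp at h'
      | coe a => exact ⟨a, le_rfl, by exact_mod_cast h⟩
  rw [NegVanStalk.subsingleton_ext_iff_H n (hdim m hm) _ (n - q) q (by omega)]
  refine LC.subsingleton_H_of_supportDim_lt _ _ _ ((h1.trans hD).trans_lt ?_)
  exact_mod_cast (show D < n - q by omega)

variable {P X : Scheme.{u}} [IsLocallyNoetherian P] [JacobsonSpace P] (ι : X ⟶ P) [IsClosedImmersion ι]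
  {L : P.Modules} (I : InjectiveResolution L) (n r c : ℕ)

theorem smul_injective (hnr : c + r = n)
    (hreg : ∀ p : P, IsRegularLocalRing (P.presheaf.stalk p))
    (hn : ∀ p : P, IsClosed ({p} : Set P) → ringKrullDim (P.presheaf.stalk p) = (n : WithBot ℕ∞))
    (hX : topologicalKrullDim ↥X ≤ (r : WithBot ℕ∞))
    {W : P.Opens} (hW : IsAffineOpen W) (eL : L.restrict hW.fromSpec ≅ FlatMod.freeMod (Spec Γ(P, W)) 1)
    (a : Γ(P, W)) (ha : ι.app W a ∈ nonZeroDivisors Γ(X, ι ⁻¹ᵁ W))
    (s : Γ(RegImmExt.G ι I c, W)) (hs : a • s = 0) : s = 0 := by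
  let R := Γ(P, W)
  haveI : IsNoetherianRing R := IsLocallyNoetherian.component_noetherian ⟨W, hW⟩
  haveI : IsLocallyNoetherian (Spec R) := isLocallyNoetherian_Spec.2 ‹_›
  let J := RingHom.ker (ι.app W).hom
  obtain ⟨S, hS⟩ := J.fg_of_isNoetherianRing
  let rs : List R := S.toList
  have hrs : J = Ideal.ofList rs := by
    rw [← hS]
    exact congrArg Ideal.span (Set.ext fun b => by simp [rs])
  let N0 : ModuleCat.{u} R := ModuleCat.of R R
  have hJ : ∀ b : R, (Submodule.Quotient.mk b : KoszulExt.Q N0 rs) = 0 ↔ ι.app W b = 0 := fun b => by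
    rw [Submodule.Quotient.mk_eq_zero, smul_eq_mul, Ideal.mul_top, ← hrs]
    rfl
  obtain ⟨hx, hg⟩ := KoszulExt.seq_exact N0 rs a
  haveI hm : Mono (a • 𝟙 (KoszulExt.Q N0 rs)) := (ModuleCat.mono_iff_injective _).2 <| by
    refine (injective_iff_map_eq_zero _).2 fun z hz => ?_
    obtain ⟨b, rfl⟩ := Submodule.mkQ_surjective _ z
    change Submodule.Quotient.mk (a • b) = 0 at hz
    rw [hJ, smul_eq_mul, map_mul] at hz
    exact (hJ b).2 (ha.1 _ hz)
  haveI : (tilde.functor R).Additive := inferInstanceAs (tilde.functor (CommRingCat.of R)).Additive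
  have hQ : (KoszulExt.seq N0 rs a).ShortExact := { exact := hx, mono_f := hm, epi_g := hg }
  have hSS := hQ.map_of_exact (tilde.functor R)
  -- the cokernel has no Ext in degree `c`
  have hdimQ : Module.supportDim R (KoszulExt.Q N0 (rs ++ [a])) + c < (n : WithBot ℕ∞) := by
    have h1 : ringKrullDim Γ(X, ι ⁻¹ᵁ W) ≤ (r : WithBot ℕ∞) := by
      rw [← PrimeSpectrum.topologicalKrullDim_eq_ringKrullDim]
      exact ((hW.preimage ι).fromSpec.isOpenEmbedding.isInducing.topologicalKrullDim_le).trans hX
    let K : Ideal Γ(X, ι ⁻¹ᵁ W) := Ideal.span {ι.app W a}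
    let φ : R →+* Γ(X, ι ⁻¹ᵁ W) ⧸ K := (Ideal.Quotient.mk K).comp (ι.app W).hom
    have hφ : Function.Surjective φ := Ideal.Quotient.mk_surjective.comp (ι.app_surjective W hW)
    have hker : RingHom.ker φ = Ideal.ofList (rs ++ [a]) := by
      rw [Ideal.ofList_append, Ideal.ofList_singleton, ← hrs, ← RingHom.comap_ker, Ideal.mk_ker]
      show Ideal.comap (ι.app W).hom K = _
      rw [show K = Ideal.map (ι.app W).hom (Ideal.span {a}) by rw [Ideal.map_span, Set.image_singleton],
        Ideal.comap_map_of_surjective _ (ι.app_surjective W hW), ← RingHom.ker_eq_comap_bot, sup_comm]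
    have h2 : Module.supportDim R (KoszulExt.Q N0 (rs ++ [a])) = ringKrullDim (Γ(X, ι ⁻¹ᵁ W) ⧸ K) := by
      rw [← ringKrullDim_eq_of_ringEquiv (RingHom.quotientKerEquivOfSurjective hφ), hker,
        ← Module.supportDim_quotient_eq_ringKrullDim]
      exact Module.supportDim_eq_of_equiv (Submodule.quotEquivOfEq _ _ (by rw [smul_eq_mul, Ideal.mul_top]))
    rw [h2]
    have h3 := (ringKrullDim_quotient_succ_le_of_nonZeroDivisor ha).trans h1
    revert h3
    generalize ringKrullDim (Γ(X, ι ⁻¹ᵁ W) ⧸ K) = d
    intro h3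
    induction d with
    | bot => simp
    | coe e =>
      induction e with
      | top =>
        have h' : ((⊤ : ℕ∞) + 1 : ℕ∞) ≤ (r : ℕ∞) := by exact_mod_cast h3
        simp at h'
      | coe e =>
        have : e + 1 ≤ r := by exact_mod_cast h3
        exact_mod_cast (show e + c < n by omega)
  let N : ModuleCat.{u} R := ModuleCat.of R (ULift.{u} (Fin 1) →₀ R)
  let eN : L.restrict hW.fromSpec ≅ tilde N := eL ≪≫ QCoh.freeModIso _ 1 ≪≫ (tildeFinsupp (R := R) _).symm
  let I' := ExtShLocal.restrictRes hW.fromSpec I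
  have hLq : Coh.IsQCoh (L.restrict hW.fromSpec) :=
    (QCoh.isQCoh_iff_iso eN.symm).1 (QCoh.isQCoh_spec_iff.2 ⟨_, ⟨Iso.refl _⟩⟩)
  have hvan : IsZero ((ExtShShift.cx I' (tilde (KoszulExt.Q N0 (rs ++ [a])))).homology c) := by
    have hcoh : Coh.IsCoh (tilde (KoszulExt.Q N0 (rs ++ [a]))) := ⟨QCoh.isQCoh_spec_iff.2 ⟨_, ⟨Iso.refl _⟩⟩, (QCoh.isFT_tilde_iff _).2 inferInstance⟩
    rw [ExtShLocal.isZero_cx_iff hLq I' c hcoh]
    have e1 : (moduleSpecΓFunctor (R := R)).obj (tilde (KoszulExt.Q N0 (rs ++ [a]))) ≅ KoszulExt.Q N0 (rs ++ [a]) :=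
      ((tilde.toTildeΓNatIso (R := R)).app _).symm
    have e2 : (moduleSpecΓFunctor (R := R)).obj (L.restrict hW.fromSpec) ≅ N :=
      moduleSpecΓFunctor.mapIso eN ≪≫ ((tilde.toTildeΓNatIso (R := R)).app _).symm
    rw [ExtStalk.subsingleton_ext_congr e1 e2]
    refine ExtShCodim.subsingleton_ext_free _ c (subsingleton_ext n (fun m hm => ?_) (fun m hm => ?_) _ c hdimQ)
    all_goals
      obtain ⟨y, hy, hyp⟩ := QCoh.exists_point hW ⟨m, hm.isPrime⟩
      letI := P.presheaf.algebra_section_stalk ⟨y, hy⟩
      haveI hloc : IsLocalization.AtPrime (P.presheaf.stalk y) m := by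
        have := hW.isLocalization_stalk ⟨y, hy⟩
        rwa [hyp] at this
      let ψ : Localization.AtPrime m ≃ₐ[R] P.presheaf.stalk y := IsLocalization.algEquiv m.primeCompl _ _
    · haveI := hreg y
      exact IsRegularLocalRing.of_ringEquiv ψ.symm.toRingEquiv
    · rw [ringKrullDim_eq_of_ringEquiv ψ.toRingEquiv]
      exact hn y (ExtStalk.isClosed_of_isMaximal hW hy (by rw [hyp]; exact hm))
  -- multiplication by `a` on the Ext sheaf of the chart
  obtain ⟨w, hc⟩ := ExtShShift.exists_shortExact I' hSS
  letI : (Spec R).Over (Spec (CommRingCat.of R)) := KoszulExt.overSelf R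
  let T := tilde (KoszulExt.Q N0 rs)
  have hmap : HomologicalComplex.homologyMap (ExtShShift.cxMap I' (tilde.map (a • 𝟙 (KoszulExt.Q N0 rs)))) c =
      Formal.smulMod R ((ExtShShift.cx I' T).homology c) a := by
    rw [KoszulExt.tilde_smul]
    exact KoszulExt.homologyMap_smulMod I' T a c
  haveI : Mono (Formal.smulMod R ((ExtShShift.cx I' T).homology c) a) := by
    rw [← hmap]
    exact (hc.homology_exact₂ c).mono_g (hvan.eq_of_src _ _)
  obtain ⟨eM⟩ := RegImmExt.nonempty_chart ι hW rs hrs
  obtain ⟨b⟩ := ExtShCoh.nonempty_homology_restrict hW.fromSpec I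
    ((Scheme.Modules.pushforward ι).obj (Coh.structureModule X)) c
  let g : (RegImmExt.G ι I c).restrict hW.fromSpec ≅ (ExtShShift.cx I' T).homology c :=
    b ≪≫ HomologicalComplex.homologyMapIso (KoszulExt.cxIso _ eM.symm) c
  haveI : Mono (Formal.smulMod R ((RegImmExt.G ι I c).restrict hW.fromSpec) a) := by
    rw [show Formal.smulMod R ((RegImmExt.G ι I c).restrict hW.fromSpec) a =
      g.hom ≫ Formal.smulMod R ((ExtShShift.cx I' T).homology c) a ≫ g.inv by
        rw [← Category.assoc, ← FFun.smulMod_naturality, Category.assoc, g.hom_inv_id, Category.comp_id]]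
    infer_instance
  haveI : PreservesLimitsOfSize.{0, 0} (moduleSpecΓFunctor (R := R)) :=
    (tilde.adjunction (R := R)).rightAdjoint_preservesLimits
  have hinj := (ModuleCat.mono_iff_injective _).1
    ((moduleSpecΓFunctor (R := R)).map_mono (Formal.smulMod R ((RegImmExt.G ι I c).restrict hW.fromSpec) a))
  apply (QCoh.chartEquiv hW (RegImmExt.G ι I c)).injective
  rw [map_zero]
  refine hinj (Eq.trans ?_ (map_zero _).symm)
  have h := congrArg (QCoh.chartEquiv hW (RegImmExt.G ι I c)) hs
  rw [map_smul, map_zero] at h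
  refine Eq.trans ?_ h
  refine (FFun.smulMod_app (A := R) _ a ⊤ _).trans ?_
  rw [Scheme.Modules.smul_Spec_def]
  congr 2

end Groth.Agent.DualTorsion
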