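import Groth.Agent.S0406
import Mathlib.RingTheory.Unramified.LocalRing
import Mathlib.RingTheory.Flat.TorsionFree
import Mathlib.RingTheory.RingHom.Etale
import Mathlib.RingTheory.Valuation.Extension
import Mathlib.RingTheory.Valuation.ValuationSubring
import Mathlib.RingTheory.Nakayama

/-!
Composition of two unramified extensions of valuation rings.
-/

set_option autoImplicit false
set_option linter.style.haveILetI false

universe u

namespace Groth.Agent.EtaleCompVal12

variable {R T : Type u} [CommRing R] [IsDomain R] [ValuationRing R] [CommRing T] [IsDomain T] [IsLocalRing T]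
  [Algebra R T] (P : Ideal T) [P.IsPrime]

/-- Elements off the prime divide elements of the base off the prime. -/
def HasDenoms : Prop :=
  ∀ s : T, s ∉ P → ∃ c : R, c ∉ P.comap (algebraMap R T) ∧ ∃ w : T, algebraMap R T c = s * w

omit [IsDomain T] [IsLocalRing T] [P.IsPrime] in
theorem dvd_of_mem {c π : R} (hc : c ∉ P.comap (algebraMap R T)) (hπ : π ∈ P.comap (algebraMap R T))
    (hP : (P.comap (algebraMap R T)).IsPrime) :
    ∃ π' ∈ P.comap (algebraMap R T), π = c * π' := by
  obtain ⟨q, hq⟩ := ValuationRing.cond c π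
  rcases hq with hq | hq
  · exact ⟨q, (hP.mem_or_mem (hq ▸ hπ)).resolve_left hc, hq.symm⟩
  · exact absurd (hq ▸ Ideal.mul_mem_right q _ hπ) hc

variable (hinj : Function.Injective (algebraMap R T)) (hden : HasDenoms (R := R) P)

include hden hinj in
/-- The prime is extended from the base. -/
theorem eq_map (hu : Ideal.map (Localization.localRingHom (P.comap (algebraMap R T)) P (algebraMap R T) rfl)
      (IsLocalRing.maximalIdeal _) = IsLocalRing.maximalIdeal _) :
    P = (P.comap (algebraMap R T)).map (algebraMap R T) := by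
  refine le_antisymm (fun x hx => ?_) Ideal.map_comap_le
  set p := P.comap (algebraMap R T)
  have h1 : algebraMap T (Localization.AtPrime P) x ∈ (p.map (algebraMap R T)).map (algebraMap T (Localization.AtPrime P)) := by
    have h2 : algebraMap T (Localization.AtPrime P) x ∈ IsLocalRing.maximalIdeal (Localization.AtPrime P) := by
      rw [← Localization.AtPrime.map_eq_maximalIdeal]
      exact Ideal.mem_map_of_mem _ hx
    rw [← hu, ← Localization.AtPrime.map_eq_maximalIdeal, Ideal.map_map] at h2
    rw [Ideal.map_map]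
    convert h2 using 2
    exact RingHom.ext fun r => (Localization.localRingHom_to_map p P (algebraMap R T) rfl r).symm
  obtain ⟨s, hs, hsx⟩ := (IsLocalization.algebraMap_mem_map_algebraMap_iff P.primeCompl _ _ _).1 h1
  obtain ⟨c, hc, w, hw⟩ := hden s hs
  have hcx : algebraMap R T c * x ∈ p.map (algebraMap R T) := by
    rw [hw, mul_comm s w, mul_assoc]
    exact Ideal.mul_mem_left _ _ hsx
  have hle : p.map (algebraMap R T) ≤ Ideal.span {algebraMap R T c} * p.map (algebraMap R T) := by
    refine Ideal.map_le_iff_le_comap.2 fun π hπ => ?_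
    obtain ⟨π', hπ', rfl⟩ := dvd_of_mem P hc hπ inferInstance
    rw [Ideal.mem_comap, map_mul]
    exact Ideal.mul_mem_mul (Ideal.mem_span_singleton_self _) (Ideal.mem_map_of_mem _ hπ')
  obtain ⟨y, hy, hyx⟩ := Ideal.mem_span_singleton_mul.1 (hle hcx)
  have hc0 : algebraMap R T c ≠ 0 := fun h => hc (show algebraMap R T c ∈ P by rw [h]; exact zero_mem _)
  rwa [← mul_left_cancel₀ hc0 hyx]

include hden hinj in
/-- The extension is of finite type. -/
theorem finiteType
    (hA : (Localization.localRingHom (P.comap (algebraMap R T)) P (algebraMap R T) rfl).FiniteType)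
    (hB : (Ideal.quotientMap P (algebraMap R T) (le_refl (P.comap (algebraMap R T)))).FiniteType)
    (hP : P = (P.comap (algebraMap R T)).map (algebraMap R T)) : Algebra.FiniteType R T := by
  classical
  set p := P.comap (algebraMap R T) with hp
  let f := Localization.localRingHom p P (algebraMap R T) rfl
  letI : Algebra (Localization.AtPrime p) (Localization.AtPrime P) := f.toAlgebra
  obtain ⟨Z, hZ⟩ := (show Algebra.FiniteType (Localization.AtPrime p) (Localization.AtPrime P) from hA).out
  have hz : ∀ z : Localization.AtPrime P, ∃ (t : T) (c : R), c ∉ p ∧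
      z * algebraMap T _ (algebraMap R T c) = algebraMap T _ t := fun z => by
    obtain ⟨a, ⟨s, hs⟩, rfl⟩ := IsLocalization.exists_mk'_eq P.primeCompl z
    obtain ⟨c, hc, w, hw⟩ := hden s hs
    refine ⟨a * w, c, hc, ?_⟩
    rw [hw, map_mul, map_mul, ← mul_assoc, IsLocalization.mk'_spec]
  choose t c hc ht using hz
  letI : Algebra (R ⧸ p) (T ⧸ P) := (Ideal.quotientMap P (algebraMap R T) le_rfl).toAlgebra
  obtain ⟨Y, hY⟩ := (show Algebra.FiniteType (R ⧸ p) (T ⧸ P) from hB).out
  choose y hy using fun q : T ⧸ P => Ideal.Quotient.mk_surjective q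
  let S := Algebra.adjoin R (((Z.image t) ∪ (Y.image y) : Finset T) : Set T)
  have hfrac : ∀ z : Localization.AtPrime P, ∃ (a : T) (e : R), e ∉ p ∧ a ∈ S ∧
      z * algebraMap T _ (algebraMap R T e) = algebraMap T _ a := fun z => by
    have hz : z ∈ Algebra.adjoin (Localization.AtPrime p) (Z : Set (Localization.AtPrime P)) := by
      rw [hZ]; trivial
    induction hz using Algebra.adjoin_induction with
    | mem z hz =>
      refine ⟨t z, c z, hc z, Algebra.subset_adjoin ?_, ht z⟩
      simp only [Finset.coe_union, Finset.coe_image]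
      exact Or.inl ⟨z, hz, rfl⟩
    | algebraMap r =>
      obtain ⟨a, ⟨e, he⟩, rfl⟩ := IsLocalization.exists_mk'_eq p.primeCompl r
      refine ⟨algebraMap R T a, e, he, Subalgebra.algebraMap_mem _ _, ?_⟩
      show f _ * _ = _
      rw [← Localization.localRingHom_to_map p P (algebraMap R T) rfl e,
        ← Localization.localRingHom_to_map p P (algebraMap R T) rfl a, ← map_mul, IsLocalization.mk'_spec]
    | add z z' _ _ h h' =>
      obtain ⟨a, e, he, ha, hz⟩ := h
      obtain ⟨a', e', he', ha', hz'⟩ := h'
      refine ⟨a * algebraMap R T e' + a' * algebraMap R T e, e * e',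
        fun h => ((inferInstance : p.IsPrime).mem_or_mem h).elim he he',
        add_mem (mul_mem ha (Subalgebra.algebraMap_mem _ _)) (mul_mem ha' (Subalgebra.algebraMap_mem _ _)), ?_⟩
      simp only [map_add, map_mul, ← hz, ← hz']
      ring
    | mul z z' _ _ h h' =>
      obtain ⟨a, e, he, ha, hz⟩ := h
      obtain ⟨a', e', he', ha', hz'⟩ := h'
      refine ⟨a * a', e * e', fun h => ((inferInstance : p.IsPrime).mem_or_mem h).elim he he',
        mul_mem ha ha', ?_⟩
      simp only [map_mul, ← hz, ← hz']
      ring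
  have hPS : ∀ x ∈ P, x ∈ S := by
    intro x hx
    rw [hP] at hx
    obtain ⟨π, hπ, b, hb⟩ : ∃ (n : List (R × T)), (∀ q ∈ n, q.1 ∈ p) ∧ ∃ b : T, b = x ∧
        b = (n.map fun q => algebraMap R T q.1 * q.2).sum := by
      refine Submodule.span_induction (p := fun x _ => ∃ (n : List (R × T)), (∀ q ∈ n, q.1 ∈ p) ∧ ∃ b : T, b = x ∧
        b = (n.map fun q => algebraMap R T q.1 * q.2).sum) ?_ ?_ ?_ ?_ hx
      · rintro _ ⟨π, hπ, rfl⟩
        exact ⟨[(π, 1)], by simpa using hπ, _, rfl, by simp⟩
      · exact ⟨[], by simp, 0, rfl, by simp⟩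
      · rintro _ _ _ _ ⟨n, hn, _, rfl, h⟩ ⟨n', hn', _, rfl, h'⟩
        exact ⟨n ++ n', fun q hq => (List.mem_append.1 hq).elim (hn q) (hn' q), _, rfl, by simp [h, h']⟩
      · rintro a _ _ ⟨n, hn, _, rfl, h⟩
        refine ⟨n.map fun q => (q.1, a * q.2), fun q hq => ?_, _, rfl, ?_⟩
        · obtain ⟨q', hq', rfl⟩ := List.mem_map.1 hq
          exact hn q' hq'
        · rw [h, smul_eq_mul, ← List.sum_map_mul_left, List.map_map]
          congr 1
          exact List.map_congr_left fun q _ => mul_left_comm _ _ _
    rw [← hb.1, hb.2]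
    refine Subalgebra.list_sum_mem _ fun v hv => ?_
    obtain ⟨⟨π', v'⟩, hq, rfl⟩ := List.mem_map.1 hv
    obtain ⟨a, e, he, ha, hv'⟩ := hfrac (algebraMap T _ v')
    rw [← map_mul] at hv'
    have hv'' : v' * algebraMap R T e = a :=
      IsLocalization.injective (Localization.AtPrime P) P.primeCompl_le_nonZeroDivisors hv'
    obtain ⟨π'', hπ'', rfl⟩ := dvd_of_mem P he (hπ _ hq) inferInstance
    show algebraMap R T (e * π'') * v' ∈ S
    rw [map_mul, mul_comm (algebraMap R T e), mul_assoc, mul_comm (algebraMap R T e) v', hv'']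
    exact mul_mem (Subalgebra.algebraMap_mem _ _) ha
  refine ⟨⟨Z.image t ∪ Y.image y, eq_top_iff.2 fun x _ => ?_⟩⟩
  show x ∈ S
  have hq : Ideal.Quotient.mk P x ∈ Algebra.adjoin (R ⧸ p) (Y : Set (T ⧸ P)) := by rw [hY]; trivial
  have key : ∀ q ∈ Algebra.adjoin (R ⧸ p) (Y : Set (T ⧸ P)), ∀ x : T, Ideal.Quotient.mk P x = q → x ∈ S := by
    intro q hq
    induction hq using Algebra.adjoin_induction with
    | mem q hq =>
      intro x hx
      rw [show x = y q + (x - y q) by ring]
      refine add_mem (Algebra.subset_adjoin ?_) (hPS _ (Ideal.Quotient.eq.1 (hx.trans (hy q).symm)))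
      simp only [Finset.coe_union, Finset.coe_image]
      exact Or.inr ⟨q, hq, rfl⟩
    | algebraMap r =>
      intro x hx
      obtain ⟨r, rfl⟩ := Ideal.Quotient.mk_surjective r
      rw [show x = algebraMap R T r + (x - algebraMap R T r) by ring]
      refine add_mem (Subalgebra.algebraMap_mem _ _) (hPS _ (Ideal.Quotient.eq.1 (hx.trans ?_)))
      exact Ideal.quotientMap_mk
    | add q q' _ _ h h' =>
      intro x hx
      obtain ⟨v, rfl⟩ := Ideal.Quotient.mk_surjective q
      rw [show x = v + (x - v) by ring]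
      exact add_mem (h v rfl) (h' _ (by rw [map_sub, hx]; ring))
    | mul q q' _ _ h h' =>
      intro x hx
      obtain ⟨v, rfl⟩ := Ideal.Quotient.mk_surjective q
      obtain ⟨v', rfl⟩ := Ideal.Quotient.mk_surjective q'
      rw [show x = v * v' + (x - v * v') by ring]
      exact add_mem (mul_mem (h v rfl) (h' v' rfl)) (hPS _ (Ideal.Quotient.eq.1 (by rw [hx, map_mul])))
  exact key _ hq x rfl

omit [IsDomain R] [ValuationRing R] [IsDomain T] in
/-- The extension is formally unramified. -/
theorem formallyUnramified [Algebra.FiniteType R T]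
    (hB : (Ideal.quotientMap P (algebraMap R T) (le_refl (P.comap (algebraMap R T)))).FormallyUnramified)
    (hP : P = (P.comap (algebraMap R T)).map (algebraMap R T)) : Algebra.FormallyUnramified R T := by
  set p := P.comap (algebraMap R T)
  letI : Algebra (R ⧸ p) (T ⧸ P) := (Ideal.quotientMap P (algebraMap R T) le_rfl).toAlgebra
  haveI : Algebra.FormallyUnramified (R ⧸ p) (T ⧸ P) := hB
  rw [Algebra.formallyUnramified_iff]
  let W : Submodule T (Ω[T⁄R]) := P • ⊤
  have hkill : ∀ x ∈ P, KaehlerDifferential.D R T x ∈ W := by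
    intro x hx
    rw [hP] at hx
    refine Submodule.span_induction (p := fun x _ => KaehlerDifferential.D R T x ∈ W) ?_ ?_ ?_ ?_ hx
    · rintro _ ⟨π, -, rfl⟩
      rw [Derivation.map_algebraMap]; exact zero_mem _
    · rw [map_zero]; exact zero_mem _
    · intro a b _ _ ha hb; rw [map_add]; exact add_mem ha hb
    · intro a b hb ih
      rw [smul_eq_mul, Derivation.leibniz]
      refine add_mem (Submodule.smul_mem _ _ ih) (Submodule.smul_mem_smul ?_ trivial)
      rw [hP]; exact hb
  let M := Ω[T⁄R] ⧸ W
  letI : Module (R ⧸ p) M := Module.compHom M (algebraMap (R ⧸ p) (T ⧸ P))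
  haveI : IsScalarTower (R ⧸ p) (T ⧸ P) M := IsScalarTower.of_algebraMap_smul fun _ _ => rfl
  let dq : T ⧸ P → M := Quotient.lift (fun x => W.mkQ (KaehlerDifferential.D R T x)) fun a b h => by
    refine (Submodule.Quotient.eq W).2 ?_
    rw [← map_sub]
    exact hkill _ ((Submodule.quotientRel_def P).1 h)
  have hdq : ∀ x, dq (Ideal.Quotient.mk P x) = W.mkQ (KaehlerDifferential.D R T x) := fun _ => rfl
  let dl : T ⧸ P →ₗ[R ⧸ p] M :=
    { toFun := dq
      map_add' := fun a b => by
        obtain ⟨a, rfl⟩ := Ideal.Quotient.mk_surjective a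
        obtain ⟨b, rfl⟩ := Ideal.Quotient.mk_surjective b
        rw [← map_add, hdq, hdq, hdq, map_add, map_add]
      map_smul' := fun r a => by
        obtain ⟨r, rfl⟩ := Ideal.Quotient.mk_surjective r
        obtain ⟨a, rfl⟩ := Ideal.Quotient.mk_surjective a
        have h0 : algebraMap (R ⧸ p) (T ⧸ P) (Ideal.Quotient.mk p r) = Ideal.Quotient.mk P (algebraMap R T r) :=
          Ideal.quotientMap_mk
        show dq (Ideal.Quotient.mk p r • Ideal.Quotient.mk P a) =
          algebraMap (R ⧸ p) (T ⧸ P) (Ideal.Quotient.mk p r) • dq (Ideal.Quotient.mk P a)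
        rw [Algebra.smul_def, h0, ← map_mul, hdq, hdq, Derivation.leibniz, Derivation.map_algebraMap,
          smul_zero, add_zero, map_smul]
        rfl }
  let δ : Derivation (R ⧸ p) (T ⧸ P) M := Derivation.mk' dl fun a b => by
    obtain ⟨a, rfl⟩ := Ideal.Quotient.mk_surjective a
    obtain ⟨b, rfl⟩ := Ideal.Quotient.mk_surjective b
    show dq (Ideal.Quotient.mk P a * Ideal.Quotient.mk P b) =
      Ideal.Quotient.mk P a • dq (Ideal.Quotient.mk P b) + Ideal.Quotient.mk P b • dq (Ideal.Quotient.mk P a)
    rw [← map_mul, hdq, hdq, hdq, Derivation.leibniz, map_add, map_smul, map_smul]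
    rfl
  haveI : Subsingleton Ω[(T ⧸ P)⁄(R ⧸ p)] := inferInstance
  have hD : ∀ x, KaehlerDifferential.D R T x ∈ W := fun x => by
    rw [← Submodule.Quotient.mk_eq_zero]
    show dq (Ideal.Quotient.mk P x) = 0
    show δ (Ideal.Quotient.mk P x) = 0
    rw [← δ.liftKaehlerDifferential_comp_D, Subsingleton.elim (KaehlerDifferential.D _ _ (Ideal.Quotient.mk P x)) 0,
      map_zero]
  have htop : (⊤ : Submodule T Ω[T⁄R]) ≤ P • ⊤ := by
    rw [← KaehlerDifferential.span_range_derivation R T, Submodule.span_le]
    rintro _ ⟨x, rfl⟩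
    rw [KaehlerDifferential.span_range_derivation]
    exact hD x
  haveI : Module.Finite T Ω[T⁄R] := inferInstance
  have hjac : P ≤ Ideal.jacobson ⊥ := by
    rw [IsLocalRing.jacobson_eq_maximalIdeal ⊥ bot_ne_top]
    exact IsLocalRing.le_maximalIdeal (Ideal.IsPrime.ne_top inferInstance)
  have := Submodule.eq_bot_of_le_smul_of_le_jacobson_bot P ⊤ Module.Finite.fg_top htop hjac
  exact Submodule.subsingleton_iff T |>.1 (subsingleton_of_bot_eq_top this.symm)

include hden hinj in
theorem etale
    (hA : (Localization.localRingHom (P.comap (algebraMap R T)) P (algebraMap R T) rfl).Etale)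
    (hB : (Ideal.quotientMap P (algebraMap R T) (le_refl (P.comap (algebraMap R T)))).Etale) :
    Algebra.Etale R T := by
  obtain ⟨-, hAu, hAp⟩ := RingHom.Etale.iff_flat_and_formallyUnramified.1 hA
  obtain ⟨-, hBu, hBp⟩ := RingHom.Etale.iff_flat_and_formallyUnramified.1 hB
  haveI hloc : IsLocalHom (Localization.localRingHom (P.comap (algebraMap R T)) P (algebraMap R T) rfl) :=
    Localization.isLocalHom_localRingHom _ _ _ _
  have hu : Ideal.map (Localization.localRingHom (P.comap (algebraMap R T)) P (algebraMap R T) rfl)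
      (IsLocalRing.maximalIdeal _) = IsLocalRing.maximalIdeal _ := by
    letI := (Localization.localRingHom (P.comap (algebraMap R T)) P (algebraMap R T) rfl).toAlgebra
    haveI : Algebra.FormallyUnramified (Localization.AtPrime (P.comap (algebraMap R T)))
      (Localization.AtPrime P) := hAu
    haveI : Algebra.FiniteType (Localization.AtPrime (P.comap (algebraMap R T)))
      (Localization.AtPrime P) := RingHom.FiniteType.of_finitePresentation hAp
    haveI : IsLocalHom (algebraMap (Localization.AtPrime (P.comap (algebraMap R T)))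
      (Localization.AtPrime P)) := hloc
    exact Algebra.FormallyUnramified.map_maximalIdeal
  have hP := eq_map P hinj hden hu
  haveI : Algebra.FiniteType R T := finiteType P hinj hden (RingHom.FiniteType.of_finitePresentation hAp)
    (RingHom.FiniteType.of_finitePresentation hBp) hP
  haveI : Algebra.FormallyUnramified R T := formallyUnramified P hBu hP
  haveI : Module.IsTorsionFree R T := Module.isTorsionFree_iff_algebraMap_injective.2 hinj
  haveI : Module.Flat R T := by
    rw [Module.Flat.flat_iff_torsion_eq_bot_of_isBezout]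
    exact Submodule.isTorsionFree_iff_torsion_eq_bot.1 inferInstance
  haveI : Algebra.FinitePresentation R T := Groth.Agent.S0406.result
  exact Algebra.Etale.of_formallyUnramified_of_flat

end Groth.Agent.EtaleCompVal12
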