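import Groth.Agent.Lib.EulerOneDeg
import Groth.Agent.CurveCohLib.Proper
import Groth.Agent.KFlatLib.Scheme.RpushBound
import Groth.Agent.S0036

/-!
The Euler characteristic is the alternating sum of the Euler characteristics of the higher direct images.
-/

set_option autoImplicit false
set_option linter.style.haveILetI false
set_option linter.unusedSectionVars false
set_option backward.isDefEq.respectTransparency false
set_option backward.isDefEq.respectTransparency.types false
set_option maxHeartbeats 1000000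

universe u

open CategoryTheory CategoryTheory.Limits AlgebraicGeometry TopologicalSpace Opposite
open Groth.Agent.PnCoh.Finite (mapLin deltaLin)

noncomputable section

namespace Groth.Agent.EulerLeray

open Groth.Agent Groth.Agent.QCoh

variable (k : Type u) [Field k]

/-- The dimension of a space mapped onto from the middle of an exact sequence. -/
theorem finrank_of_exact {B Z R T : Type u} [AddCommGroup B] [Module k B] [AddCommGroup Z] [Module k Z]
    [AddCommGroup R] [Module k R] [AddCommGroup T] [Module k T] [Module.Finite k T]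
    (f : B →ₗ[k] Z) (g : Z →ₗ[k] R) (a : Z →ₗ[k] T) (hfg : LinearMap.ker g = LinearMap.range f)
    (ha : Function.Surjective a) (hle : LinearMap.ker a ≤ LinearMap.ker g) :
    Module.finrank k T = Module.finrank k (LinearMap.range (a.comp f)) + Module.finrank k (LinearMap.range g) := by
  let g' : T →ₗ[k] R :=
    ((LinearMap.ker a).liftQ g hle).comp (a.quotKerEquivOfSurjective ha).symm.toLinearMap
  have hg' : ∀ z, g' (a z) = g z := fun z => by
    show (LinearMap.ker a).liftQ g hle ((a.quotKerEquivOfSurjective ha).symm (a z)) = g z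
    rw [show (a.quotKerEquivOfSurjective ha).symm (a z) = Submodule.Quotient.mk z from
      (LinearEquiv.symm_apply_eq _).2 rfl]
    rfl
  have h1 : LinearMap.range g' = LinearMap.range g := by
    ext r
    constructor
    · rintro ⟨t, rfl⟩
      obtain ⟨z, rfl⟩ := ha t
      exact ⟨z, (hg' z).symm⟩
    · rintro ⟨z, rfl⟩
      exact ⟨a z, hg' z⟩
  have h2 : LinearMap.ker g' = LinearMap.range (a.comp f) := by
    ext t
    constructor
    · intro ht
      obtain ⟨z, rfl⟩ := ha t
      obtain ⟨b, rfl⟩ : z ∈ LinearMap.range f := by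
        rw [← hfg]
        exact LinearMap.mem_ker.2 ((hg' z).symm.trans ht)
      exact ⟨b, rfl⟩
    · rintro ⟨b, rfl⟩
      refine LinearMap.mem_ker.2 ((hg' (f b)).trans (LinearMap.mem_ker.1 ?_))
      rw [hfg]
      exact LinearMap.mem_range_self f b
  have h := g'.finrank_range_add_finrank_ker
  rw [h1, h2] at h
  omega

theorem finrank_range_of_ker_eq {B T W : Type u} [AddCommGroup B] [Module k B] [AddCommGroup T] [Module k T]
    [AddCommGroup W] [Module k W] (φ : B →ₗ[k] T) (δ : B →ₗ[k] W) (hδ : Function.Surjective δ)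
    (h : LinearMap.ker φ = LinearMap.ker δ) :
    Module.finrank k (LinearMap.range φ) = Module.finrank k W :=
  (φ.quotKerEquivRange.symm.trans ((Submodule.quotEquivOfEq _ _ h).trans
    (δ.quotKerEquivOfSurjective hδ))).finrank_eq

theorem finite_middle {A B C : Type u} [AddCommGroup A] [Module k A] [AddCommGroup B] [Module k B]
    [AddCommGroup C] [Module k C] [Module.Finite k A] [Module.Finite k C] (f : A →ₗ[k] B) (g : B →ₗ[k] C)
    (h : LinearMap.ker g = LinearMap.range f) : Module.Finite k B := by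
  refine ⟨Submodule.fg_of_fg_map_of_fg_inf_ker g ?_ ?_⟩
  · exact IsNoetherian.noetherian _
  · rw [top_inf_eq, h]
    exact Module.Finite.iff_fg.1 inferInstance

section Seq

variable {X : Scheme.{u}} [X.Over (Spec (CommRingCat.of k))] {S : ShortComplex X.Modules}

/-- The long exact sequence in positive degrees. -/
theorem finrank_zero_eq (hS : S.ShortExact)
    (hfin₁ : ∀ j, Module.Finite k (Coh.HH X S.X₁ (j + 1))) (hfin₂ : ∀ j, Module.Finite k (Coh.HH X S.X₂ (j + 1)))
    (hfin₃ : ∀ j, Module.Finite k (Coh.HH X S.X₃ j)) {N : ℕ}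
    (h₁ : ∀ i, N < i → Subsingleton (Coh.HH X S.X₁ i)) :
    (Module.finrank k (Coh.HH X S.X₃ 0) : ℤ) = Module.finrank k (LinearMap.range (mapLin k S.g 0)) +
      ∑ j ∈ Finset.range N, (-1 : ℤ) ^ j * ((Module.finrank k (Coh.HH X S.X₁ (j + 1)) : ℤ) -
        Module.finrank k (Coh.HH X S.X₂ (j + 1)) + Module.finrank k (Coh.HH X S.X₃ (j + 1))) := by
  let d : ℕ → ℤ := fun j => Module.finrank k (LinearMap.ker (mapLin k S.f (j + 1)))
  have key : ∀ j, (Module.finrank k (Coh.HH X S.X₁ (j + 1)) : ℤ) -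
      Module.finrank k (Coh.HH X S.X₂ (j + 1)) + Module.finrank k (Coh.HH X S.X₃ (j + 1)) = d j + d (j + 1) := by
    intro j
    have := hfin₁ j
    have := hfin₂ j
    have := hfin₃ (j + 1)
    have e1 := LinearMap.finrank_range_add_finrank_ker (mapLin k S.f (j + 1))
    have e2 := LinearMap.finrank_range_add_finrank_ker (mapLin k S.g (j + 1))
    have e3 := LinearMap.finrank_range_add_finrank_ker (deltaLin k hS (j + 1))
    rw [CurveCohLib.ker_mapLin_g k hS (j + 1)] at e2
    rw [CurveCohLib.ker_deltaLin k hS (j + 1), ← CurveCohLib.ker_mapLin_f_succ k hS (j + 1)] at e3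
    simp only [d]
    omega
  have hdN : d N = 0 := by
    have := h₁ (N + 1) (by omega)
    show ((Module.finrank k (LinearMap.ker (mapLin k S.f (N + 1))) : ℕ) : ℤ) = 0
    rw [Submodule.eq_bot_of_subsingleton (p := LinearMap.ker (mapLin k S.f (N + 1))), finrank_bot]
    rfl
  have tele : ∀ M : ℕ, ∑ i ∈ Finset.range M, (-1 : ℤ) ^ i * (d i + d (i + 1)) = d 0 - (-1) ^ M * d M := by
    intro M
    induction M with
    | zero => simp
    | succ M ih => rw [Finset.sum_range_succ, ih, pow_succ]; ring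
  rw [Finset.sum_congr rfl fun j _ => congrArg ((-1 : ℤ) ^ j * ·) (key j), tele N, hdN]
  have := hfin₃ 0
  have := hfin₁ 0
  have e3 := LinearMap.finrank_range_add_finrank_ker (deltaLin k hS 0)
  rw [CurveCohLib.ker_deltaLin k hS 0, ← CurveCohLib.ker_mapLin_f_succ k hS 0] at e3
  simp only [d]
  omega

end Seq

variable {X Y : Scheme.{u}} [X.Over (Spec (CommRingCat.of k))] [Y.Over (Spec (CommRingCat.of k))]
  [IsProper (X ↘ Spec (CommRingCat.of k))] [IsProper (Y ↘ Spec (CommRingCat.of k))]
  (f : X ⟶ Y) [HasInjectiveResolutions X.Modules]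

theorem sec_mapLin {N N' : Y.Modules} (φ : N ⟶ N') (x : Coh.HH Y N 0) :
    Sheaf.H.equiv₀ (Coh.toAb N') isTerminalTop (mapLin k φ 0 x) =
      φ.app ⊤ (Sheaf.H.equiv₀ (Coh.toAb N) isTerminalTop x) :=
  (Sheaf.H.equiv₀_naturality isTerminalTop ((toAbFunctor Y).map φ) x).symm

open Groth.Agent.LerayCorner (Z B incl shortExact_one shortExact_two)

/-- Degree zero of the step. -/
theorem finrank_succ (hf : f ≫ (Y ↘ Spec (CommRingCat.of k)) = X ↘ Spec (CommRingCat.of k))
    {M : X.Modules} (hM : Coh.IsCoh M) (n : ℕ) :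
    Module.finrank k (Coh.HH X M (n + 1)) = Module.finrank k (Coh.HH Y (Z f M n) 1) +
      Module.finrank k (LinearMap.range (mapLin k (cokernel.π (incl f M n)) 0)) := by
  have hρ : f.appTop.hom.comp (Coh.toGlobal (A := k) (Y ↘ Spec (CommRingCat.of k))) =
      Coh.toGlobal (A := k) (X ↘ Spec (CommRingCat.of k)) := by
    rw [← hf]
    rfl
  haveI := S0002.result k X M hM (n + 1)
  let ρ := Coh.toGlobal (A := k) (Y ↘ Spec (CommRingCat.of k))
  obtain ⟨a, ha, hker⟩ := exists_classMap (Coh.toGlobal (A := k) (X ↘ Spec (CommRingCat.of k))) M (n + 1)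
  let := secModule ρ (Z f M (n + 1)) ⊤
  let := secModule (Coh.toGlobal (A := k) (X ↘ Spec (CommRingCat.of k))) (godQ M (n + 1)) ⊤
  let θ : Γ(Z f M (n + 1), ⊤) →ₗ[k] Coh.HH X M (n + 1) :=
    { toFun := fun z => a (show Γ(godQ M (n + 1), ⊤) from z)
      map_add' := fun z w => map_add a _ _
      map_smul' := fun r z => by
        refine Eq.trans (congrArg a ?_) (map_smul a r (show Γ(godQ M (n + 1), ⊤) from z))
        show (show Γ(X, ⊤) from (f.app ⊤).hom
            ((Y.presheaf.map (homOfLE (le_top : (⊤ : Y.Opens) ≤ ⊤)).op).hom (ρ r))) •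
            (show Γ(godQ M (n + 1), ⊤) from z) =
          (X.presheaf.map (homOfLE (le_top : (⊤ : X.Opens) ≤ ⊤)).op).hom
            (Coh.toGlobal (A := k) (X ↘ Spec (CommRingCat.of k)) r) • (show Γ(godQ M (n + 1), ⊤) from z)
        rw [show (homOfLE (le_top : (⊤ : X.Opens) ≤ ⊤)).op = 𝟙 (op (⊤ : X.Opens)) from rfl,
          show (homOfLE (le_top : (⊤ : Y.Opens) ≤ ⊤)).op = 𝟙 (op (⊤ : Y.Opens)) from rfl,
          X.presheaf.map_id, Y.presheaf.map_id, ← hρ]
        rfl }
  let a' : Coh.HH Y (Z f M (n + 1)) 0 →ₗ[k] Coh.HH X M (n + 1) :=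
    θ.comp (secH ρ (Z f M (n + 1))).symm.toLinearMap
  have ha' : Function.Surjective a' := Function.Surjective.comp (g := θ) ha (secH ρ _).symm.surjective
  let e : ∀ N : Y.Modules, Coh.HH Y N 0 ≃+ Γ(N, ⊤) := fun N => Sheaf.H.equiv₀ (Coh.toAb N) isTerminalTop
  let α := (Scheme.Modules.pushforward f).map (godπ M n)
  let π₁ : (Scheme.Modules.pushforward f).obj (God (godQ M n)) ⟶ B f M n := cokernel.π _
  have hS₁ := shortExact_one f M n
  have hS₂ := shortExact_two f M n
  have hα : ∀ x, (incl f M n).app ⊤ (π₁.app ⊤ x) = α.app ⊤ x := fun x =>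
    congr($(congrArg (fun m => Scheme.Modules.Hom.app m ⊤) (cokernel.π_desc
      ((Scheme.Modules.pushforward f).map (toGod (godQ M n))) ((Scheme.Modules.pushforward f).map (godπ M n))
      (LerayCorner.comp_eq_zero f M n))) x)
  have hcomp : ∀ y, e _ (mapLin k (incl f M n) 0 (mapLin k π₁ 0 y)) = α.app ⊤ (e _ y) := fun y =>
    (sec_mapLin k (incl f M n) (mapLin k π₁ 0 y)).trans
      ((congrArg ((incl f M n).app ⊤) (sec_mapLin k π₁ y)).trans (hα (e _ y)))
  have hnull : ∀ v, a' v = 0 ↔
      ∃ y, v = mapLin k (incl f M n) 0 (mapLin k π₁ 0 y) := fun v => by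
    refine (hker (e _ v)).trans ⟨?_, ?_⟩
    · rintro ⟨x, hx⟩
      obtain ⟨x', rfl⟩ := (e ((Scheme.Modules.pushforward f).obj (God (godQ M n)))).surjective x
      exact ⟨x', (e _).injective (hx.symm.trans (hcomp x').symm)⟩
    · rintro ⟨y, rfl⟩
      exact ⟨e _ y, (hcomp y).symm⟩
  have hle : LinearMap.ker a' ≤ LinearMap.ker (mapLin k (cokernel.π (incl f M n)) 0) := fun v hv => by
    obtain ⟨y, rfl⟩ := (hnull v).1 hv
    rw [CurveCohLib.ker_mapLin_g k hS₂ 0]
    exact LinearMap.mem_range_self _ _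
  rw [finrank_of_exact k (mapLin k (incl f M n) 0) (mapLin k (cokernel.π (incl f M n)) 0) a'
      (CurveCohLib.ker_mapLin_g k hS₂ 0) ha' hle,
    finrank_range_of_ker_eq k _ (deltaLin k hS₁ 0) (Ab.connecting_surjective (X := Y.toPresheafedSpace.carrier)
      (toAb_shortExact hS₁) 0 (LerayCorner.subsingleton_HH_God_push f M n 0))]
  refine SetLike.ext fun b => ?_
  rw [CurveCohLib.ker_deltaLin k hS₁ 0]
  refine (hnull _).trans ⟨?_, ?_⟩
  · rintro ⟨y, hy⟩
    exact ⟨y, (CurveCohLib.mapLin_f_zero_injective k hS₂ hy).symm⟩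
  · rintro ⟨y, rfl⟩
    exact ⟨y, rfl⟩

/-- Cohomology of the cocycles in positive degree is finite and eventually vanishes. -/
theorem finite_Z {M : X.Modules} (hR : ∀ n, Coh.IsCoh ((Coh.Rpush f n).obj M)) {N : ℕ}
    (hN : ∀ n j, N < j → Subsingleton (Coh.HH Y ((Coh.Rpush f n).obj M) j)) :
    ∀ n, (∀ j, Module.Finite k (Coh.HH Y (Z f M n) (j + 1))) ∧
      ∀ j, N < j → Subsingleton (Coh.HH Y (Z f M n) j) := by
  intro n
  induction n with
  | zero =>
    obtain ⟨e⟩ := LerayCorner.nonempty_Z_zero f M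
    refine ⟨fun j => ?_, fun j hj => QCoh.subsingleton_HH_of_iso e.symm j (hN 0 j hj)⟩
    haveI := S0002.result k Y _ (hR 0) (j + 1)
    exact Module.Finite.equiv (HHcongr (Coh.toGlobal (A := k) (Y ↘ Spec (CommRingCat.of k))) e (j + 1)).symm
  | succ n ih =>
    have hS₁ := shortExact_one f M n
    have hS₂ := shortExact_two f M n
    obtain ⟨e⟩ := LerayCorner.nonempty_cokernel_incl f M n
    refine ⟨fun j => ?_, fun j hj => ?_⟩
    · haveI := ih.1 (j + 1)
      haveI : Module.Finite k (Coh.HH Y (B f M n) (j + 1)) :=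
        Module.Finite.of_injective (deltaLin k hS₁ (j + 1))
          (Ab.connecting_bijective (X := Y.toPresheafedSpace.carrier) (toAb_shortExact hS₁) (j + 1)
            (LerayCorner.subsingleton_HH_God_push f M n j)
            (LerayCorner.subsingleton_HH_God_push f M n (j + 1))).1
      haveI := S0002.result k Y _ (hR (n + 1)) (j + 1)
      haveI : Module.Finite k (Coh.HH Y (cokernel (incl f M n)) (j + 1)) :=
        Module.Finite.equiv (HHcongr (Coh.toGlobal (A := k) (Y ↘ Spec (CommRingCat.of k))) e.symm (j + 1))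
      exact finite_middle k (mapLin k (incl f M n) (j + 1)) (mapLin k (cokernel.π (incl f M n)) (j + 1))
        (CurveCohLib.ker_mapLin_g k hS₂ (j + 1))
    · obtain ⟨i, rfl⟩ : ∃ i, j = i + 1 := ⟨j - 1, by omega⟩
      exact subsingleton_HH_X₂ hS₂ (i + 1)
        (LerayCorner.subsingleton_HH_X₃ hS₁ (i + 1) (LerayCorner.subsingleton_HH_God_push f M n i)
          (ih.2 _ (by omega)))
        (LerayCorner.subsingleton_HH_cokernel_incl f (hN (n + 1) _ hj))

/-- The Euler characteristic is the alternating sum of those of the higher direct images. -/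
theorem euler_eq (hf : f ≫ (Y ↘ Spec (CommRingCat.of k)) = X ↘ Spec (CommRingCat.of k))
    {M : X.Modules} (hM : Coh.IsCoh M) :
    Curv2.euler k X M = ∑ᶠ i : ℕ, (-1 : ℤ) ^ i * Curv2.euler k Y ((Coh.Rpush f i).obj M) := by
  haveI : IsProper f := by
    haveI : IsProper (f ≫ (Y ↘ Spec (CommRingCat.of k))) := by rw [hf]; infer_instance
    exact IsProper.of_comp f (Y ↘ Spec (CommRingCat.of k))
  haveI := CurveCohLib.isNoetherian_of_proper (k := k) (X := Y)
  obtain ⟨d₁, hd₁⟩ := Euler.exists_bound (X := X) k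
  obtain ⟨N, hd₂⟩ := Euler.exists_bound (X := Y) k
  obtain ⟨r₀, hr₀⟩ := KFlatLib.exists_Rpush_bound f
  let ρ := Coh.toGlobal (A := k) (Y ↘ Spec (CommRingCat.of k))
  let R : ℕ → Y.Modules := fun n => (Coh.Rpush f n).obj M
  have hRc : ∀ n, Coh.IsCoh (R n) := fun n => S0036.result f M hM n
  have hRN : ∀ n j, N < j → Subsingleton (Coh.HH Y (R n) j) := fun n j hj => hd₂ _ (hRc n).1 j hj.le
  have hZ := finite_Z k f hRc hRN
  let z : ℕ → ℕ → ℤ := fun n j => Module.finrank k (Coh.HH Y (Z f M n) j)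
  let τ : ℕ → ℤ := fun n => ∑ j ∈ Finset.range N, (-1 : ℤ) ^ j * z n (j + 1)
  let h : ℕ → ℤ := fun n => Module.finrank k (Coh.HH X M n)
  have hR : ∀ n, Curv2.euler k Y (R n) = (Module.finrank k (Coh.HH Y (R n) 0) : ℤ) -
      ∑ j ∈ Finset.range N, (-1 : ℤ) ^ j * (Module.finrank k (Coh.HH Y (R n) (j + 1)) : ℤ) := by
    intro n
    rw [Euler.euler_eq_sum k (R n) (N + 1) fun i hi => hRN n i (by omega), Finset.sum_range_succ',
      pow_zero, one_mul, add_comm, sub_eq_add_neg, ← Finset.sum_neg_distrib]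
    refine congrArg _ (Finset.sum_congr rfl fun j _ => ?_)
    rw [pow_succ]
    ring
  have hzero : Curv2.euler k Y (R 0) = h 0 - τ 0 := by
    obtain ⟨e⟩ := LerayCorner.nonempty_Z_zero f M
    have h0 : Module.finrank k (Coh.HH X M 0) = Module.finrank k (Coh.HH Y (R 0) 0) := by
      have hρ : f.appTop.hom.comp ρ = Coh.toGlobal (A := k) (X ↘ Spec (CommRingCat.of k)) := by
        rw [← hf]
        rfl
      let := modHH f.appTop.hom M 0
      let := secModule ρ (R 0) ⊤
      obtain ⟨l⟩ := LerayEdgeLin.nonempty_sections_HH f (M := M) 0 fun n hn => absurd hn n.not_lt_zero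
      have key : ∀ (σ : k →+* Coh.Γtop X), f.appTop.hom.comp ρ = σ →
          letI := modHH σ M 0
          Nonempty (Coh.HH X M 0 ≃ₗ[k] Coh.HH Y (R 0) 0) := by
        rintro σ rfl
        letI := modHH (f.appTop.hom.comp ρ) M 0
        refine ⟨((secH ρ (R 0)).symm.trans (AddEquiv.toLinearEquiv l.toAddEquiv fun r x => ?_)).symm⟩
        show l (((Y.presheaf.map (homOfLE (le_top : (⊤ : Y.Opens) ≤ ⊤)).op).hom (ρ r)) • x) = _
        rw [show (homOfLE (le_top : (⊤ : Y.Opens) ≤ ⊤)).op = 𝟙 (op (⊤ : Y.Opens)) from rfl, Y.presheaf.map_id]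
        exact l.map_smul _ x
      exact (key _ hρ).some.finrank_eq
    rw [hR 0]
    show _ = (Module.finrank k (Coh.HH X M 0) : ℤ) -
      ∑ j ∈ Finset.range N, (-1 : ℤ) ^ j * (Module.finrank k (Coh.HH Y (Z f M 0) (j + 1)) : ℤ)
    rw [h0]
    exact congrArg _ (Finset.sum_congr rfl fun j _ => by rw [(HHcongr ρ e (j + 1)).finrank_eq])
  have hsucc : ∀ n, Curv2.euler k Y (R (n + 1)) = h (n + 1) - τ n - τ (n + 1) := by
    intro n
    have hS₁ := shortExact_one f M n
    have hS₂ := shortExact_two f M n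
    obtain ⟨e⟩ := LerayCorner.nonempty_cokernel_incl f M n
    have hB : ∀ j, Module.finrank k (Coh.HH Y (B f M n) (j + 1)) =
        Module.finrank k (Coh.HH Y (Z f M n) (j + 2)) := fun j =>
      (LinearEquiv.ofBijective (deltaLin k hS₁ (j + 1))
        (Ab.connecting_bijective (X := Y.toPresheafedSpace.carrier) (toAb_shortExact hS₁) (j + 1)
          (LerayCorner.subsingleton_HH_God_push f M n j)
          (LerayCorner.subsingleton_HH_God_push f M n (j + 1)))).finrank_eq
    have hQ : ∀ j, Module.finrank k (Coh.HH Y (cokernel (incl f M n)) j) =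
        Module.finrank k (Coh.HH Y (R (n + 1)) j) := fun j => (HHcongr ρ e j).finrank_eq
    have hLES := finrank_zero_eq k hS₂ (N := N)
      (fun j => by
        haveI := (hZ n).1 (j + 1)
        exact Module.Finite.of_injective (deltaLin k hS₁ (j + 1))
          (Ab.connecting_bijective (X := Y.toPresheafedSpace.carrier) (toAb_shortExact hS₁) (j + 1)
            (LerayCorner.subsingleton_HH_God_push f M n j)
            (LerayCorner.subsingleton_HH_God_push f M n (j + 1))).1)
      (fun j => (hZ (n + 1)).1 j)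
      (fun j => by
        haveI := S0002.result k Y _ (hRc (n + 1)) j
        exact Module.Finite.equiv (HHcongr ρ e.symm j))
      (fun i hi => by
        obtain ⟨j, rfl⟩ : ∃ j, i = j + 1 := ⟨i - 1, by omega⟩
        exact LerayCorner.subsingleton_HH_X₃ hS₁ (j + 1) (LerayCorner.subsingleton_HH_God_push f M n j)
          ((hZ n).2 _ (by omega)))
    simp only [hB, hQ] at hLES
    have hfin := finrank_succ k f hf hM n
    have hz1 : z n (N + 1) = 0 := by
      haveI := (hZ n).2 (N + 1) (by omega)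
      simp only [z, Module.finrank_zero_of_subsingleton]
      rfl
    have hτ : τ n = z n 1 - ∑ j ∈ Finset.range N, (-1 : ℤ) ^ j * z n (j + 2) := by
      have : τ n = ∑ j ∈ Finset.range (N + 1), (-1 : ℤ) ^ j * z n (j + 1) := by
        rw [Finset.sum_range_succ, hz1, mul_zero, add_zero]
      rw [this, Finset.sum_range_succ', pow_zero, one_mul, add_comm, sub_eq_add_neg, ← Finset.sum_neg_distrib]
      refine congrArg _ (Finset.sum_congr rfl fun j _ => ?_)
      rw [pow_succ]
      ring
    rw [hR (n + 1), hLES, hτ]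
    simp only [h, z, τ, hfin, Nat.cast_add, mul_sub, mul_add, Finset.sum_sub_distrib, Finset.sum_add_distrib]
    ring
  have htele : ∀ m, ∑ i ∈ Finset.range (m + 1), (-1 : ℤ) ^ i * Curv2.euler k Y (R i) =
      ∑ i ∈ Finset.range (m + 1), (-1 : ℤ) ^ i * h i - (-1) ^ m * τ m := by
    intro m
    induction m with
    | zero => simp [hzero]
    | succ m ih =>
      rw [Finset.sum_range_succ _ (m + 1), Finset.sum_range_succ _ (m + 1), ih, hsucc m, pow_succ]
      ring
  let m := d₁ + r₀
  have hup : ∀ n, m < n → IsZero ((Coh.Rpush f n).obj M) := fun n hn => hr₀ M hM.1 n (by omega)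
  have hτm : τ m = 0 := Finset.sum_eq_zero fun j _ => by
    haveI : Subsingleton (Coh.HH Y (Z f M m) (j + 1)) := by
      obtain ⟨e₁⟩ := LerayOneDegree.nonempty_Z_shift ρ f (M := M) j m hup
      obtain ⟨e₂⟩ := LerayOneDegree.nonempty_Z_one ρ f (M := M) (m + j) (hup _ (by omega))
      haveI := hd₁ M hM.1 (m + j + 1) (by omega)
      exact (e₁.trans e₂).toEquiv.subsingleton
    simp only [z, Module.finrank_zero_of_subsingleton]
    simp
  have hsupp : (Function.support fun i : ℕ => (-1 : ℤ) ^ i * Curv2.euler k Y (R i)) ⊆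
      ↑(Finset.range (m + 1)) := fun i hi => by
    by_contra hm
    simp only [Finset.coe_range, Set.mem_Iio, not_lt] at hm
    refine hi ?_
    show (-1 : ℤ) ^ i * Curv2.euler k Y (R i) = 0
    haveI : ∀ j, Subsingleton (Coh.HH Y (R i) j) := fun j => Euler.subsingleton_HH_of_isZero (hup i hm) j
    rw [Euler.euler_eq_sum k (R i) 0 fun j _ => inferInstance]
    simp
  rw [finsum_eq_sum_of_support_subset _ hsupp, htele m, hτm, mul_zero, sub_zero,
    Euler.euler_eq_sum k M (m + 1) fun p hp => hd₁ M hM.1 p (by omega)]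

end Groth.Agent.EulerLeray
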