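import Groth.Agent.H23.MulEtale
import Groth.Agent.H23.RigidGamma
import Groth.Agent.H23.KerIsog
import Groth.Agent.FlatPtDesc.Graph

/-!
The points of exact order `N` of a group scheme with finite étale multiplication by `N`.
-/

set_option autoImplicit false
set_option linter.style.haveILetI false
set_option backward.isDefEq.respectTransparency false
set_option backward.isDefEq.respectTransparency.types false
set_option maxHeartbeats 1000000

universe u

open CategoryTheory CategoryTheory.Limits MonoidalCategory CartesianMonoidalCategory MonObj AlgebraicGeometry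
  TopologicalSpace Opposite

noncomputable section

namespace Groth.Agent.ExactOrderTors

open Groth.Agent

/-- A point of the source, with values in an algebraically closed field. -/
theorem exists_geomPoint {T : Scheme.{u}} (q : T) :
    ∃ (Ω : Type u) (_ : Field Ω) (_ : IsAlgClosed Ω) (t : Spec (CommRingCat.of Ω) ⟶ T),
      ∀ x, t x = q :=
  ⟨AlgebraicClosure (T.residueField q), inferInstance, inferInstance,
    Spec.map (CommRingCat.ofHom (algebraMap (T.residueField q) _)) ≫ T.fromSpecResidueField q,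
    fun x => by rw [Scheme.Hom.comp_apply]; exact Scheme.fromSpecResidueField_apply q _⟩

variable {S : Scheme.{u}} {E : Over S} [GrpObj E]

theorem exists_exactOrder [IsSeparated E.hom] (N : ℕ) (hN : 1 ≤ N) [IsFinite (𝟙 E ^ N : E ⟶ E).left]
    [Etale (𝟙 E ^ N : E ⟶ E).left] :
    ∃ (Z : Over S) (P : Z ⟶ E), IsFinite Z.hom ∧ Etale Z.hom ∧
      (P ^ N = 1 ∧ ∀ (Ω : Type u) [Field Ω] [IsAlgClosed Ω] (t : Spec (CommRingCat.of Ω) ⟶ Z.left),
        orderOf ((Over.homMk t rfl : Over.mk (t ≫ Z.hom) ⟶ Z) ≫ P) = N) ∧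
      ∀ (T : Over S) (Q : T ⟶ E), Q ^ N = 1 →
        (∀ (Ω : Type u) [Field Ω] [IsAlgClosed Ω] (t : Spec (CommRingCat.of Ω) ⟶ T.left),
          orderOf ((Over.homMk t rfl : Over.mk (t ≫ T.hom) ⟶ T) ≫ Q) = N) →
        ∃! v : T ⟶ Z, v ≫ P = Q := by
  classical
  let K : Over S := pullback (𝟙 E ^ N) η[E]
  let κ : K ⟶ E := pullback.fst (𝟙 E ^ N) η[E]
  have hκ : AlgGrp.IsKernel κ (𝟙 E ^ N) := by
    have h := IsPullback.of_hasPullback (𝟙 E ^ N) η[E]
    rwa [toUnit_unique (pullback.snd (𝟙 E ^ N) η[E]) (toUnit _)] at h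
  haveI : IsFinite K.hom := H23.KerIsog.prop_ker κ _ @IsFinite hκ inferInstance
  haveI : Etale K.hom := H23.KerIsog.prop_ker κ _ @Etale hκ inferInstance
  haveI : Mono κ := ⟨fun a b h => pullback.hom_ext h (toUnit_unique _ _)⟩
  have hκN : ∀ {T : Over S} (x : T ⟶ K), (x ≫ κ) ^ N = 1 := fun {T} x => by
    rw [← Category.comp_id (x ≫ κ), ← MonObj.comp_pow, Category.assoc,
      show κ ≫ (𝟙 E ^ N) = toUnit K ≫ η[E] from hκ.w, ← Category.assoc, toUnit_unique (x ≫ toUnit K) (toUnit T),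
      ← Hom.one_def]
  have hlift : ∀ {T : Over S} (x : T ⟶ E), x ^ N = 1 → ∃ y : T ⟶ K, y ≫ κ = x := fun {T} x hx =>
    ⟨pullback.lift x (toUnit T) (by rw [MonObj.comp_pow, Category.comp_id, hx, Hom.one_def]),
      pullback.lift_fst _ _ _⟩
  obtain ⟨e, he⟩ := hlift (1 : 𝟙_ (Over S) ⟶ E) (one_pow N)
  haveI : IsOpenImmersion e.left := by
    haveI : IsOpenImmersion (e.left ≫ K.hom) := by rw [Over.w e]; exact inferInstanceAs (IsOpenImmersion (𝟙 S))
    exact FlatPtDesc.isOpenImmersion_of_comp e.left K.hom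
  haveI : IsClosedImmersion e.left := by
    haveI : IsClosedImmersion (e.left ≫ K.hom) := by rw [Over.w e]; exact inferInstanceAs (IsClosedImmersion (𝟙 S))
    exact IsClosedImmersion.of_comp e.left K.hom
  choose kd hkd using fun d : ℕ => hlift (κ ^ d) (by
    rw [← pow_mul, mul_comm, pow_mul, ← Category.id_comp κ, hκN, one_pow])
  let bad : Set K.left := ⋃ d ∈ N.properDivisors, (kd d).left ⁻¹' Set.range e.left
  have hbadc : IsClosed bad := N.properDivisors.finite_toSet.isClosed_biUnion fun d _ =>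
    e.left.isClosedEmbedding.isClosed_range.preimage (kd d).left.continuous
  have hbado : IsOpen bad := isOpen_biUnion fun d _ =>
    e.left.isOpenEmbedding.isOpen_range.preimage (kd d).left.continuous
  let U : K.left.Opens := ⟨badᶜ, hbadc.isOpen_compl⟩
  haveI : IsClosedImmersion U.ι :=
    IsClosedImmersion.of_isPreimmersion _ (by
      rw [Scheme.Opens.range_ι]; exact hbado.isClosed_compl)
  let Z : Over S := Over.mk (U.ι ≫ K.hom)
  let j : Z ⟶ K := Over.homMk U.ι
  haveI : Mono j := (Over.forget S).mono_of_mono_map (inferInstanceAs (Mono U.ι))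
  -- a geometric point of `K` has order dividing `d` iff it lies in the bad set of `d`
  have key : ∀ (Ω : Type u) [Field Ω] (t : Spec (CommRingCat.of Ω) ⟶ K.left) (d : ℕ),
      ((Over.homMk t rfl : Over.mk (t ≫ K.hom) ⟶ K) ≫ κ) ^ d = 1 ↔
        (kd d).left (t (IsLocalRing.closedPoint Ω)) ∈ Set.range e.left := by
    intro Ω _ t d
    let x : Over.mk (t ≫ K.hom) ⟶ K := Over.homMk t rfl
    have hx : (x ≫ κ) ^ d = (x ≫ kd d) ≫ κ := by rw [Category.assoc, hkd, MonObj.comp_pow]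
    rw [hx]
    constructor
    · intro h
      have h' : x ≫ kd d = toUnit _ ≫ e := by rw [← cancel_mono κ, h, Category.assoc, he, MonObj.comp_one]
      refine ⟨(toUnit (Over.mk (t ≫ K.hom))).left (IsLocalRing.closedPoint Ω), ?_⟩
      exact (congrArg (fun m : Over.mk (t ≫ K.hom) ⟶ K => m.left (IsLocalRing.closedPoint Ω)) h').symm
    · intro h
      have hr : Set.range (x ≫ kd d).left ⊆ Set.range e.left := by
        rintro _ ⟨p, rfl⟩
        rw [show p = IsLocalRing.closedPoint Ω from Subsingleton.elim (α := PrimeSpectrum Ω) _ _]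
        exact h
      let w := IsOpenImmersion.lift e.left (x ≫ kd d).left hr
      have hw : w ≫ e.left = (x ≫ kd d).left := IsOpenImmersion.lift_fac _ _ _
      let w' : Over.mk (t ≫ K.hom) ⟶ 𝟙_ (Over S) := Over.homMk w (by
        have h2 : (w ≫ e.left) ≫ K.hom = (x ≫ kd d).left ≫ K.hom := by rw [hw]
        rwa [Category.assoc, Over.w e, Over.w (x ≫ kd d)] at h2)
      have h' : w' ≫ e = x ≫ kd d := Over.OverMorphism.ext hw
      rw [← h', Category.assoc, he, MonObj.comp_one]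
  refine ⟨Z, j ≫ κ, inferInstanceAs (IsFinite (U.ι ≫ K.hom)), inferInstanceAs (Etale (U.ι ≫ K.hom)),
    ⟨hκN j, fun Ω _ _ t => ?_⟩, fun T Q hQ hord => ?_⟩
  · have hg : ((Over.homMk t rfl : Over.mk (t ≫ Z.hom) ⟶ Z) ≫ j ≫ κ) ^ N = 1 := by
      rw [← Category.assoc]; exact hκN _
    by_contra hne
    have hdvd := orderOf_dvd_of_pow_eq_one hg
    have hlt := lt_of_le_of_ne (Nat.le_of_dvd (by omega) hdvd) hne
    have h1 : ((Over.homMk (t ≫ U.ι) rfl : Over.mk ((t ≫ U.ι) ≫ K.hom) ⟶ K) ≫ κ) ^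
        orderOf ((Over.homMk t rfl : Over.mk (t ≫ Z.hom) ⟶ Z) ≫ j ≫ κ) = 1 := by
      let i0 : Over.mk ((t ≫ U.ι) ≫ K.hom) ⟶ Over.mk (t ≫ Z.hom) :=
        Over.homMk (𝟙 _) (by simp [Z])
      have h2 : (Over.homMk (t ≫ U.ι) rfl : Over.mk ((t ≫ U.ι) ≫ K.hom) ⟶ K) ≫ κ =
          i0 ≫ ((Over.homMk t rfl : Over.mk (t ≫ Z.hom) ⟶ Z) ≫ j ≫ κ) := by
        apply Over.OverMorphism.ext
        simp [i0, j]
      rw [h2, ← MonObj.comp_pow, pow_orderOf_eq_one, MonObj.comp_one]
    have hmem : U.ι (t (IsLocalRing.closedPoint Ω)) ∈ bad :=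
      Set.mem_biUnion (Nat.mem_properDivisors.2 ⟨hdvd, hlt⟩) ((key Ω (t ≫ U.ι) _).1 h1)
    exact (t (IsLocalRing.closedPoint Ω)).2 hmem
  · obtain ⟨v₀, hv₀⟩ := hlift Q hQ
    have hr : Set.range v₀.left ⊆ Set.range U.ι := by
      rintro _ ⟨q, rfl⟩
      rw [Scheme.Opens.range_ι]
      intro hq
      obtain ⟨d, hd, hqd⟩ := Set.mem_iUnion₂.1 hq
      obtain ⟨Ω, _, _, t, ht⟩ := exists_geomPoint q
      obtain ⟨hdN, hlt⟩ := Nat.mem_properDivisors.1 hd
      have h1 := (key Ω (t ≫ v₀.left) d).2 (by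
        rw [Scheme.Hom.comp_apply, ht]; exact hqd)
      let i0 : Over.mk (t ≫ T.hom) ⟶ Over.mk ((t ≫ v₀.left) ≫ K.hom) :=
        Over.homMk (𝟙 _) (by simp)
      have h2 : (Over.homMk t rfl : Over.mk (t ≫ T.hom) ⟶ T) ≫ Q =
          i0 ≫ (Over.homMk (t ≫ v₀.left) rfl : Over.mk ((t ≫ v₀.left) ≫ K.hom) ⟶ K) ≫ κ := by
        rw [← hv₀]
        apply Over.OverMorphism.ext
        simp [i0]
      have h3 : ((Over.homMk t rfl : Over.mk (t ≫ T.hom) ⟶ T) ≫ Q) ^ d = 1 := by
        rw [h2, ← MonObj.comp_pow, h1, MonObj.comp_one]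
      have h4 := orderOf_dvd_of_pow_eq_one h3
      rw [hord Ω t] at h4
      have := Nat.le_of_dvd (Nat.pos_of_dvd_of_pos hdN (by omega)) h4
      omega
    let v : T ⟶ Z := Over.homMk (IsOpenImmersion.lift U.ι v₀.left hr) (by
      show IsOpenImmersion.lift U.ι v₀.left hr ≫ U.ι ≫ K.hom = T.hom
      rw [IsOpenImmersion.lift_fac_assoc, Over.w v₀])
    have hv : v ≫ j = v₀ := Over.OverMorphism.ext (IsOpenImmersion.lift_fac _ _ _)
    refine ⟨v, show v ≫ j ≫ κ = Q by rw [← Category.assoc, hv, hv₀], fun v' hv' => ?_⟩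
    rw [← cancel_mono j, hv, ← cancel_mono κ, hv₀, Category.assoc]
    exact hv'

end Groth.Agent.ExactOrderTors
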