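import Groth.Agent.SiteBase.ExtCompare
import Mathlib.Algebra.Homology.DerivedCategory.Ext.Linear

/-!
Comparing `Ext` along an exact functor, naturally in endomorphisms.
-/

set_option linter.style.haveILetI false
set_option linter.unusedSectionVars false

universe v v' w w' u u'

open CategoryTheory CategoryTheory.Limits Abelian

namespace Groth.Agent.ExtNat

open Groth.Agent.SiteBase

variable {A : Type u} [Category.{v} A] [Abelian A] [HasExt.{w} A]
  {B : Type u'} [Category.{v'} B] [Abelian B] [HasExt.{w'} B]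

theorem exists_addEquiv_comm {A' B' C' : Type*} [AddCommGroup A'] [AddCommGroup B'] [AddCommGroup C']
    (a : A' →+ B') (c : A' →+ C') (ha : Function.Surjective a)
    (hc : Function.Surjective c) (h : a.ker = c.ker) :
    ∃ e : B' ≃+ C', ∀ x, e (a x) = c x := by
  let e := ((QuotientAddGroup.quotientKerEquivOfSurjective a ha).symm.trans
    (QuotientAddGroup.quotientAddEquivOfEq h)).trans (QuotientAddGroup.quotientKerEquivOfSurjective c hc)
  refine ⟨e, fun x => ?_⟩
  have hx : (QuotientAddGroup.quotientKerEquivOfSurjective a ha).symm (a x) = QuotientAddGroup.mk x := by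
    rw [AddEquiv.symm_apply_eq]
    rfl
  show QuotientAddGroup.quotientKerEquivOfSurjective c hc
    (QuotientAddGroup.quotientAddEquivOfEq h
      ((QuotientAddGroup.quotientKerEquivOfSurjective a ha).symm (a x))) = c x
  rw [hx]
  rfl

/-- An exact functor with acyclic images of injectives compares `Ext`, naturally in endomorphisms. -/
theorem exists_natural_equiv [EnoughInjectives A] (G : A ⥤ B) [G.PreservesZeroMorphisms]
    (PA : A) (PB : B) (hG : ∀ E : ShortComplex A, E.ShortExact → (E.map G).ShortExact)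
    (hI : ∀ I : A, Injective I → ∀ q : ℕ, Subsingleton (Ext PB (G.obj I) (q + 1)))
    (e : ∀ X : A, (PA ⟶ X) ≃+ (PB ⟶ G.obj X))
    (he : ∀ (X Y : A) (φ : PA ⟶ X) (g : X ⟶ Y), e Y (φ ≫ g) = e X φ ≫ G.map g)
    (n : ℕ) : ∀ X : A, ∃ ε : Ext PA X n ≃+ Ext PB (G.obj X) n, ∀ (g : X ⟶ X) (x : Ext PA X n),
      ε (x.comp (Ext.mk₀ g) (add_zero n)) = (ε x).comp (Ext.mk₀ (G.map g)) (add_zero n) := by
  induction n with
  | zero =>
    refine fun X => ⟨Ext.addEquiv₀.trans ((e X).trans Ext.addEquiv₀.symm), fun g x => ?_⟩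
    obtain ⟨φ, rfl⟩ := (Ext.mk₀_bijective _ _).2 x
    show Ext.mk₀ (e X (Ext.addEquiv₀ _)) = (Ext.mk₀ (e X (Ext.addEquiv₀ _))).comp _ _
    have h : ∀ f : PA ⟶ X, Ext.addEquiv₀ (Ext.mk₀ f) = f := fun f => Ext.addEquiv₀.apply_symm_apply f
    rw [Ext.mk₀_comp_mk₀, h, h, he, Ext.mk₀_comp_mk₀]
  | succ n ih =>
    suffices H : ∀ E : ShortComplex A, E.ShortExact → Injective E.X₂ →
        ∃ ε : Ext PA E.X₁ (n + 1) ≃+ Ext PB (G.obj E.X₁) (n + 1), ∀ (g : E.X₁ ⟶ E.X₁) (x : Ext PA E.X₁ (n + 1)),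
          ε (x.comp (Ext.mk₀ g) (add_zero _)) = (ε x).comp (Ext.mk₀ (G.map g)) (add_zero _) from fun X => by
      obtain ⟨P⟩ := EnoughInjectives.presentation X
      exact H P.shortComplex P.shortExact_shortComplex P.injective
    intro E hE hIE
    haveI := hIE
    haveI := hE.mono_f
    haveI := hE.epi_g
    have hGE := hG E hE
    have h₂ : ∀ q, Subsingleton (Ext PA E.X₂ (q + 1)) := fun q => Ext.subsingleton_of_injective _ _ q
    have hext : ∀ g : E.X₁ ⟶ E.X₁, ∃ α : E ⟶ E, α.τ₁ = g := fun g => by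
      let ψ : E.X₂ ⟶ E.X₂ := Injective.factorThru (g ≫ E.f) E.f
      have hψ : E.f ≫ ψ = g ≫ E.f := Injective.comp_factorThru _ _
      have hz : E.f ≫ ψ ≫ E.g = 0 := by
        rw [← Category.assoc, hψ, Category.assoc, E.zero, comp_zero]
      exact ⟨{ τ₁ := g, τ₂ := ψ, τ₃ := hE.gIsCokernel.desc (CokernelCofork.ofπ (ψ ≫ E.g) hz)
               comm₁₂ := hψ.symm
               comm₂₃ := (hE.gIsCokernel.fac (CokernelCofork.ofπ (ψ ≫ E.g) hz)
                 WalkingParallelPair.one).symm }, rfl⟩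
    have hnatA : ∀ (α : E ⟶ E) {q : ℕ} (y : Ext PA E.X₃ q) {q' : ℕ} (hq : q + 1 = q'),
        (y.comp hE.extClass hq).comp (Ext.mk₀ α.τ₁) (add_zero q') =
          (y.comp (Ext.mk₀ α.τ₃) (add_zero q)).comp hE.extClass hq := fun α q y q' hq => by
      rw [Ext.comp_assoc_of_third_deg_zero, ShortComplex.ShortExact.extClass_naturality hE hE α,
        Ext.comp_assoc_of_second_deg_zero]
    have hnatB : ∀ (α : E ⟶ E) {q : ℕ} (y : Ext PB (G.obj E.X₃) q) {q' : ℕ} (hq : q + 1 = q'),
        (y.comp hGE.extClass hq).comp (Ext.mk₀ (G.map α.τ₁)) (add_zero q') =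
          (y.comp (Ext.mk₀ (G.map α.τ₃)) (add_zero q)).comp hGE.extClass hq := fun α q y q' hq => by
      refine (Ext.comp_assoc_of_third_deg_zero _ _ _ _).trans ?_
      refine Eq.trans ?_ (Ext.comp_assoc_of_second_deg_zero y (Ext.mk₀ (G.map α.τ₃)) hGE.extClass hq).symm
      refine congrArg (fun z => y.comp z hq) ?_
      exact ShortComplex.ShortExact.extClass_naturality hGE hGE (G.mapShortComplex.map α)
    rcases n with _ | n
    · let a : (PA ⟶ E.X₃) →+ Ext PA E.X₁ 1 :=
        AddMonoidHom.mk' (fun φ => (Ext.mk₀ φ).comp hE.extClass (zero_add 1))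
          fun x y => by rw [Ext.mk₀_add, Ext.add_comp]
      let b : (PA ⟶ E.X₃) →+ Ext PB (G.obj E.X₁) 1 :=
        AddMonoidHom.mk' (fun φ => (Ext.mk₀ (e E.X₃ φ)).comp hGE.extClass (zero_add 1))
          fun x y => by
            rw [map_add, Ext.mk₀_add]
            exact Ext.add_comp _ _ _ _
      have ha : Function.Surjective a := conn_surjective PA hE (h₂ 0)
      have hb : Function.Surjective b :=
        (conn_surjective PB hGE (hI E.X₂ hIE 0)).comp (e E.X₃).surjective
      have hker : a.ker = b.ker := AddSubgroup.ext fun φ => by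
        refine (conn_eq_zero_iff PA hE φ).trans (Iff.trans ?_ (conn_eq_zero_iff PB hGE _).symm)
        constructor
        · rintro ⟨ψ, rfl⟩
          exact ⟨e E.X₂ ψ, (he _ _ _ _).symm⟩
        · rintro ⟨ψ, hψ⟩
          obtain ⟨χ, rfl⟩ := (e E.X₂).surjective ψ
          exact ⟨χ, (e E.X₃).injective ((he _ _ _ _).trans hψ)⟩
      obtain ⟨ε, hε⟩ := exists_addEquiv_comm a b ha hb hker
      refine ⟨ε, fun g x => ?_⟩
      obtain ⟨α, rfl⟩ := hext g
      obtain ⟨φ, rfl⟩ := ha x
      have h1 : (a φ).comp (Ext.mk₀ α.τ₁) (add_zero 1) = a (φ ≫ α.τ₃) := by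
        refine (hnatA α (Ext.mk₀ φ) (zero_add 1)).trans ?_
        rw [Ext.mk₀_comp_mk₀]
        rfl
      rw [h1, hε, hε]
      refine Eq.trans ?_ (hnatB α (Ext.mk₀ (e E.X₃ φ)) (zero_add 1)).symm
      rw [Ext.mk₀_comp_mk₀, ← he]
      rfl
    · let a : Ext PA E.X₃ (n + 1) →+ Ext PA E.X₁ (n + 1 + 1) := hE.extClass.postcomp PA rfl
      let b : Ext PB (G.obj E.X₃) (n + 1) →+ Ext PB (G.obj E.X₁) (n + 1 + 1) := hGE.extClass.postcomp PB rfl
      have hab : Function.Bijective a ∧ Function.Bijective b := by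
        constructor
        · refine ⟨(injective_iff_map_eq_zero _).2 fun x hx => ?_,
            fun z => Ext.covariant_sequence_exact₁ PA hE z ((h₂ (n + 1)).elim _ _) rfl⟩
          obtain ⟨y, rfl⟩ := Ext.covariant_sequence_exact₃ PA hE x rfl hx
          rw [show y = 0 from (h₂ n).elim _ _, Ext.zero_comp]
        · refine ⟨(injective_iff_map_eq_zero _).2 fun x hx => ?_,
            fun z => Ext.covariant_sequence_exact₁ PB hGE z ((hI E.X₂ hIE (n + 1)).elim _ _) rfl⟩
          obtain ⟨y, rfl⟩ := Ext.covariant_sequence_exact₃ PB hGE x rfl hx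
          rw [show y = 0 from (hI E.X₂ hIE n).elim _ _]
          exact Ext.zero_comp _ _ _ _ _
      obtain ⟨e₃, he₃⟩ := ih E.X₃
      let a' := AddEquiv.ofBijective a hab.1
      let b' := AddEquiv.ofBijective b hab.2
      refine ⟨(a'.symm.trans e₃).trans b', fun g x => ?_⟩
      obtain ⟨α, rfl⟩ := hext g
      obtain ⟨y, rfl⟩ := a'.surjective x
      have h1 : (a' y).comp (Ext.mk₀ α.τ₁) (add_zero _) = a' (y.comp (Ext.mk₀ α.τ₃) (add_zero _)) :=
        hnatA α y rfl
      have h2 : ∀ z, (a'.symm.trans e₃).trans b' (a' z) = b' (e₃ z) := fun z =>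
        congrArg (fun w => b' (e₃ w)) (a'.symm_apply_apply z)
      rw [h1, h2, h2, he₃]
      exact (hnatB α (e₃ y) rfl).symm

end Groth.Agent.ExtNat
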