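import Groth.Agent.Lib.AffineResolution
import Groth.Agent.Lib.HomPushSections
import Groth.Agent.Lib.ConormalWedge
import Groth.Agent.Lib.BasisHom

/-!
The top local Ext sheaf of the structure sheaf of a regular immersion, along a pairing.
-/

set_option linter.style.haveILetI false
set_option linter.unusedSectionVars false
set_option backward.isDefEq.respectTransparency false
set_option backward.isDefEq.respectTransparency.types false
set_option maxHeartbeats 1000000

universe u

open CategoryTheory CategoryTheory.Limits AlgebraicGeometry TopologicalSpace Opposite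
open Groth.Agent.AModX

noncomputable section

namespace Groth.Agent.ExtPairing

open Groth.Agent.SheafHomX

variable {P X : Scheme.{u}} (ι : X ⟶ P) [IsClosedImmersion ι] {r : ℕ}

variable {F : P.Modules} (I : InjectiveResolution F)

/-- The complex. -/
abbrev cplx : CochainComplex P.Modules ℕ := ExtShShift.cx I (HomPushSections.pushO ι)

/-- Evaluation at one of a cocycle. -/
def cyc (W : P.Opens) (z : Γ((cplx ι I).cycles r, W)) : Γ(I.cocomplex.X r, W) :=
  (HomPushSections.eps ι (I.cocomplex.X r)).app W (((cplx ι I).iCycles r).app W z)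

theorem eps_d (W : P.Opens) (j : ℕ) (s : Γ((cplx ι I).X j, W)) :
    (I.cocomplex.d j (j + 1)).app W ((HomPushSections.eps ι (I.cocomplex.X j)).app W s) =
      (HomPushSections.eps ι (I.cocomplex.X (j + 1))).app W (((cplx ι I).d j (j + 1)).app W s) :=
  congr(($((HomPushSections.eps_naturality ι (I.cocomplex.d j (j + 1))).symm)).app W s)

theorem cyc_add (W : P.Opens) (z z' : Γ((cplx ι I).cycles r, W)) : cyc ι I W (z + z') = cyc ι I W z + cyc ι I W z' :=
  (congrArg ((HomPushSections.eps ι (I.cocomplex.X r)).app W) (map_add (((cplx ι I).iCycles r).app W).hom z z')).trans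
    (map_add _ _ _)

theorem cyc_smul (W : P.Opens) (a : Γ(P, W)) (z : Γ((cplx ι I).cycles r, W)) :
    cyc ι I W (a • z) = a • cyc ι I W z :=
  (congrArg ((HomPushSections.eps ι (I.cocomplex.X r)).app W)
    (Scheme.Modules.Hom.app_smul ((cplx ι I).iCycles r) a z)).trans (Scheme.Modules.Hom.app_smul _ _ _)

theorem cyc_res {W V : P.Opens} (h : V ≤ W) (z : Γ((cplx ι I).cycles r, W)) :
    cyc ι I V (res _ h z) = res _ h (cyc ι I W z) := by
  exact (congrArg ((HomPushSections.eps ι (I.cocomplex.X r)).app V) (app_res ((cplx ι I).iCycles r) h z)).trans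
    (app_res (HomPushSections.eps ι (I.cocomplex.X r)) h _)

theorem cyc_injective (W : P.Opens) : Function.Injective (cyc (r := r) ι I W) :=
  haveI := HomPushSections.mono_eps ι (I.cocomplex.X r)
  (QCoh.app_injective (HomPushSections.eps ι (I.cocomplex.X r)) W).comp
    (QCoh.app_injective ((cplx ι I).iCycles r) W)

theorem cyc_killed {W : P.Opens} (hW : IsAffineOpen W) (z : Γ((cplx ι I).cycles r, W)) (a : Γ(P, W))
    (ha : a ∈ RingHom.ker (ι.app W).hom) : a • cyc ι I W z = 0 :=
  (HomPushSections.eps_range ι (I.cocomplex.X r) hW _).1 ⟨_, rfl⟩ a ha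

theorem cyc_closed (W : P.Opens) (z : Γ((cplx ι I).cycles r, W)) :
    (I.cocomplex.d r (r + 1)).app W (cyc ι I W z) = 0 := by
  rw [cyc, eps_d]
  exact (congrArg ((HomPushSections.eps ι _).app W) congr(($((cplx ι I).iCycles_d r (r + 1))).app W z)).trans
    (map_zero _)

theorem exists_cyc {W : P.Opens} (hW : IsAffineOpen W) (x : Γ(I.cocomplex.X r, W))
    (hd : (I.cocomplex.d r (r + 1)).app W x = 0) (hk : ∀ a ∈ RingHom.ker (ι.app W).hom, a • x = 0) :
    ∃ z : Γ((cplx ι I).cycles r, W), cyc ι I W z = x := by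
  obtain ⟨s, rfl⟩ := (HomPushSections.eps_range ι (I.cocomplex.X r) hW x).2 hk
  haveI := HomPushSections.mono_eps ι (I.cocomplex.X (r + 1))
  have hs : ((cplx ι I).d r (r + 1)).app W s = 0 :=
    QCoh.app_injective (HomPushSections.eps ι (I.cocomplex.X (r + 1))) W
      (((eps_d ι I W r s).symm.trans hd).trans (map_zero _).symm)
  let S : ShortComplex P.Modules :=
    ShortComplex.mk ((cplx ι I).iCycles r) ((cplx ι I).d r (r + 1)) ((cplx ι I).iCycles_d r (r + 1))
  haveI : Mono S.f := inferInstanceAs (Mono ((cplx ι I).iCycles r))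
  obtain ⟨z, hz⟩ := BasisHom.exists_app_eq_of_exact (S := S)
    (ShortComplex.exact_of_f_is_kernel _ ((cplx ι I).cyclesIsKernel r (r + 1) (by simp))) W s hs
  exact ⟨z, congrArg ((HomPushSections.eps ι (I.cocomplex.X r)).app W) hz⟩

/-- A pairing of sections of the ideal with sections of a module, into the restriction of `F`. -/
structure Pairing (r : ℕ) (F : P.Modules) where
  /-- The module. -/
  H : X.Modules
  /-- The good opens. -/
  goods : Set P.Opens
  isBasis : Opens.IsBasis goods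
  affine : ∀ W ∈ goods, IsAffineOpen W
  /-- The pairing. -/
  pr : ∀ W : P.Opens, (Fin r → ConormalWedge.Id ι W) → Γ(H, ι ⁻¹ᵁ W) →
    Γ((Scheme.Modules.pullback ι).obj F, ι ⁻¹ᵁ W)
  pr_add : ∀ W ∈ goods, ∀ a h h', pr W a (h + h') = pr W a h + pr W a h'
  pr_smul : ∀ W ∈ goods, ∀ (a) (b : Γ(X, ι ⁻¹ᵁ W)) (h), pr W a (b • h) = b • pr W a h
  pr_res : ∀ W ∈ goods, ∀ V ∈ goods, ∀ (i : V ≤ W) (i' : ι ⁻¹ᵁ V ≤ ι ⁻¹ᵁ W), ∀ a h,
    res _ i' (pr W a h) = pr V (fun l => res (ClSub.idealMod ι.ker) i (a l)) (res _ i' h)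
  pr_det : ∀ W ∈ goods, ∀ (f a : Fin r → ConormalWedge.Id ι W), ConormalWedge.IsGens ι W f →
    ∀ (A : Matrix (Fin r) (Fin r) Γ(P, W)),
      (∀ i, ConormalWedge.fn ι (a i) = ∑ j, A i j * ConormalWedge.fn ι (f j)) →
      ∀ h, pr W a h = ι.app W A.det • pr W f h
  gens : ∀ W ∈ goods, ι ⁻¹ᵁ W = ⊥ ∨ ∃ f : Fin r → ConormalWedge.Id ι W, ConormalWedge.IsGens ι W f ∧
    ∀ V ∈ goods, ∀ (i : V ≤ W),
      Function.Bijective fun t => pr V (fun l => res (ClSub.idealMod ι.ker) i (f l)) t

/-- Restriction to the subscheme. -/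
abbrev u (W : P.Opens) (m : Γ(F, W)) : Γ((Scheme.Modules.pullback ι).obj F, ι ⁻¹ᵁ W) :=
  ((Scheme.Modules.pullbackPushforwardAdjunction ι).unit.app F).app W m

variable (Pr : Pairing ι r F)

/-- `h` is the section given by the residues of `z`. -/
def IsRes {W : P.Opens} (z : Γ((cplx ι I).cycles r, W)) (h : Γ(Pr.H, ι ⁻¹ᵁ W)) : Prop :=
  ∀ (a : Fin r → ConormalWedge.Id ι W) (m : Γ(F, W)),
    KoszulZigzag.Rel (fun j => Γ(I.cocomplex.X j, W)) (AffineResolution.linApp (AffineResolution.aug I) W)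
      (fun j => AffineResolution.linApp (I.cocomplex.d j (j + 1)) W) (fun i => ConormalWedge.fn ι (a i))
      (cyc ι I W z) m →
    Pr.pr W a h = u ι W m

variable (hF : Coh.IsQCoh F)

include hF in
theorem u_eq_zero {W : P.Opens} (hW : IsAffineOpen W) (m : Γ(F, W)) :
    u ι W m = 0 ↔ m ∈ RingHom.ker (ι.app W).hom • (⊤ : Submodule Γ(P, W) Γ(F, W)) := by
  rw [← Scheme.Hom.ker_apply ι ⟨W, hW⟩]
  exact (QCoh.unit_app_closed ι hF hW).2 m

theorem u_smul (W : P.Opens) (a : Γ(P, W)) (m : Γ(F, W)) : u ι W (a • m) = ι.app W a • u ι W m :=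
  (Scheme.Modules.Hom.app_smul ((Scheme.Modules.pullbackPushforwardAdjunction ι).unit.app F) a m).trans
    (QCoh.pushforward_smul ι W a _)

theorem span_fn_le {W : P.Opens} (a : Fin r → ConormalWedge.Id ι W) :
    Ideal.span (Set.range fun i => ConormalWedge.fn ι (a i)) ≤ RingHom.ker (ι.app W).hom :=
  Ideal.span_le.2 (Set.range_subset_iff.2 fun i => ConormalWedge.fn_mem ι (a i))

include hF in
theorem existsUnique_isRes {W : P.Opens} (hW : W ∈ Pr.goods) (z : Γ((cplx ι I).cycles r, W)) :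
    ∃! h, IsRes ι I Pr z h := by
  have hWa := Pr.affine W hW
  rcases Pr.gens W hW with hbot | ⟨f, hf, hbijf⟩
  · have hs : ∀ (N : X.Modules), Subsingleton Γ(N, ι ⁻¹ᵁ W) := fun N => by
      rw [hbot]
      exact Module.subsingleton Γ(X, (⊥ : X.Opens)) _
    haveI := hs Pr.H
    haveI := hs ((Scheme.Modules.pullback ι).obj F)
    exact ⟨0, fun a m _ => Subsingleton.elim _ _, fun y _ => Subsingleton.elim _ _⟩
  have hres := AffineResolution.isRes I hF hWa
  obtain ⟨m₀, hm₀⟩ := KoszulZigzag.Rel.exists_of_killed hres (fun i => ConormalWedge.fn ι (f i)) (cyc ι I W z)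
    (cyc_closed ι I W z) fun i => cyc_killed ι I hWa z _ (ConormalWedge.fn_mem ι (f i))
  have hbij := hbijf W hW le_rfl
  simp only [res_self] at hbij
  obtain ⟨h, hh⟩ := hbij.2 (u ι W m₀)
  refine ⟨h, fun a m ham => ?_, fun h' hh' => hbij.1 ((hh' f m₀ hm₀).trans hh.symm)⟩
  choose A hA using fun i => ConormalWedge.exists_coord ι hf (a i)
  have h1 := KoszulZigzag.Rel.unique hres ham (hm₀.comp (Matrix.of A) hA)
  have h2 : u ι W (m - (Matrix.of A).det • m₀) = 0 :=
    (u_eq_zero ι hF hWa _).2 (Submodule.smul_mono (span_fn_le ι a) le_rfl h1)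
  rw [u, map_sub, sub_eq_zero] at h2
  rw [u, h2]
  show _ = u ι W ((Matrix.of A).det • m₀)
  rw [Pr.pr_det W hW f a hf (Matrix.of A) hA, show Pr.pr W f h = u ι W m₀ from hh, u_smul]

include hF in
theorem isRes_res {W V : P.Opens} (hW : W ∈ Pr.goods) (hV : V ∈ Pr.goods) (i : V ≤ W)
    (i' : ι ⁻¹ᵁ V ≤ ι ⁻¹ᵁ W) (z : Γ((cplx ι I).cycles r, W))
    {h : Γ(Pr.H, ι ⁻¹ᵁ W)} (hh : IsRes ι I Pr z h)
    {h' : Γ(Pr.H, ι ⁻¹ᵁ V)}
    (hh' : IsRes ι I Pr (res _ i z) h') : res _ i' h = h' := by
  have hWa := Pr.affine W hW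
  have hVa := Pr.affine V hV
  obtain hbot | ⟨f, hf, hbijf⟩ := Pr.gens W hW
  · have : ι ⁻¹ᵁ V = ⊥ := bot_unique (hbot ▸ i')
    haveI : Subsingleton Γ(Pr.H, ι ⁻¹ᵁ V) := by
      rw [this]
      exact Module.subsingleton Γ(X, (⊥ : X.Opens)) _
    exact Subsingleton.elim _ _
  let f' : Fin r → ConormalWedge.Id ι V := fun l => res (ClSub.idealMod ι.ker) i (f l)
  refine (hbijf V hV i).1 ?_
  have hresW := AffineResolution.isRes I hF hWa
  have hresV := AffineResolution.isRes I hF hVa
  obtain ⟨m, hm⟩ := KoszulZigzag.Rel.exists_of_killed hresW (fun l => ConormalWedge.fn ι (f l)) (cyc ι I W z)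
    (cyc_closed ι I W z) fun l => cyc_killed ι I hWa z _ (ConormalWedge.fn_mem ι (f l))
  letI : Algebra Γ(P, W) Γ(P, V) := (resR i).toAlgebra
  letI : ∀ j, Module Γ(P, W) Γ(I.cocomplex.X j, V) := fun j => Module.compHom _ (resR i)
  haveI : ∀ j, IsScalarTower Γ(P, W) Γ(P, V) Γ(I.cocomplex.X j, V) := fun j =>
    IsScalarTower.of_algebraMap_smul fun _ _ => rfl
  letI : Module Γ(P, W) Γ(F, V) := Module.compHom _ (resR i)
  haveI : IsScalarTower Γ(P, W) Γ(P, V) Γ(F, V) := IsScalarTower.of_algebraMap_smul fun _ _ => rfl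
  let g : ∀ j, Γ(I.cocomplex.X j, W) →ₗ[Γ(P, W)] Γ(I.cocomplex.X j, V) := fun j =>
    { toFun := res (I.cocomplex.X j) i
      map_add' := map_add _
      map_smul' := fun a x => res_smul i a x }
  let g₀ : Γ(F, W) →ₗ[Γ(P, W)] Γ(F, V) :=
    { toFun := res F i, map_add' := map_add _, map_smul' := fun a x => res_smul i a x }
  obtain ⟨m', hm'⟩ := KoszulZigzag.Rel.exists_of_killed hresV (fun l => algebraMap Γ(P, W) Γ(P, V) (ConormalWedge.fn ι (f l)))
    (g r (cyc ι I W z))
    (by
      show (I.cocomplex.d r (r + 1)).app V (res _ i (cyc ι I W z)) = 0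
      rw [app_res, cyc_closed, map_zero])
    (fun l => by
      show resR i _ • res _ i (cyc ι I W z) = 0
      rw [← res_smul, cyc_killed ι I hWa z _ (ConormalWedge.fn_mem ι (f l)), map_zero])
  have hnat := KoszulZigzag.Rel.natural hresV g g₀ (fun j v => (app_res (I.cocomplex.d j (j + 1)) i v).symm)
    (fun v => (app_res (AffineResolution.aug I) i v).symm) hm hm'
  have hfn : ∀ l, ConormalWedge.fn ι (f' l) = algebraMap Γ(P, W) Γ(P, V) (ConormalWedge.fn ι (f l)) := fun l =>
    ConormalWedge.fn_res ι i (f l)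
  have hle : Ideal.span (Set.range fun l => algebraMap Γ(P, W) Γ(P, V) (ConormalWedge.fn ι (f l))) ≤
      RingHom.ker (ι.app V).hom := by
    simp only [← hfn]
    exact span_fn_le ι f'
  have h2 : u ι V (res F i m - m') = 0 := (u_eq_zero ι hF hVa _).2 (Submodule.smul_mono hle le_rfl hnat)
  rw [u, map_sub, sub_eq_zero] at h2
  have h3 : Pr.pr V f' h' = u ι V m' := by
    refine hh' f' m' ?_
    simp only [hfn]
    rw [cyc_res]
    exact hm'
  show Pr.pr V f' (res _ i' h) = Pr.pr V f' h'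
  rw [h3, ← Pr.pr_res W hW V hV i i', hh f m hm]
  exact (app_res ((Scheme.Modules.pullbackPushforwardAdjunction ι).unit.app F) i m).symm.trans h2

theorem IsRes.add {W : P.Opens} {hWg : W ∈ Pr.goods} {z z' : Γ((cplx ι I).cycles r, W)}
    {h h' : Γ(Pr.H, ι ⁻¹ᵁ W)} (hF : Coh.IsQCoh F)
    (H : IsRes ι I Pr z h) (H' : IsRes ι I Pr z' h') : IsRes ι I Pr (z + z') (h + h') := by
  intro a m ham
  have hW := Pr.affine W hWg
  have hres := AffineResolution.isRes I hF hW
  obtain ⟨m₁, h1⟩ := KoszulZigzag.Rel.exists_of_killed hres (fun i => ConormalWedge.fn ι (a i)) (cyc ι I W z)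
    (cyc_closed ι I W z) fun i => cyc_killed ι I hW z _ (ConormalWedge.fn_mem ι (a i))
  obtain ⟨m₂, h2⟩ := KoszulZigzag.Rel.exists_of_killed hres (fun i => ConormalWedge.fn ι (a i)) (cyc ι I W z')
    (cyc_closed ι I W z') fun i => cyc_killed ι I hW z' _ (ConormalWedge.fn_mem ι (a i))
  rw [cyc_add] at ham
  have h3 : u ι W (m - (m₁ + m₂)) = 0 :=
    (u_eq_zero ι hF hW _).2 (Submodule.smul_mono (span_fn_le ι a) le_rfl (KoszulZigzag.Rel.unique hres ham (h1.add h2)))
  rw [u, map_sub, sub_eq_zero] at h3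
  rw [Pr.pr_add W hWg, H a m₁ h1, H' a m₂ h2, u, u, u, h3, map_add]

theorem IsRes.smul {W : P.Opens} {hWg : W ∈ Pr.goods} {z : Γ((cplx ι I).cycles r, W)} (b : Γ(P, W))
    {h : Γ(Pr.H, ι ⁻¹ᵁ W)} (hF : Coh.IsQCoh F)
    (H : IsRes ι I Pr z h) : IsRes ι I Pr (b • z) (ι.app W b • h) := by
  intro a m ham
  have hW := Pr.affine W hWg
  have hres := AffineResolution.isRes I hF hW
  obtain ⟨m₁, h1⟩ := KoszulZigzag.Rel.exists_of_killed hres (fun i => ConormalWedge.fn ι (a i)) (cyc ι I W z)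
    (cyc_closed ι I W z) fun i => cyc_killed ι I hW z _ (ConormalWedge.fn_mem ι (a i))
  rw [cyc_smul] at ham
  have h3 : u ι W (m - b • m₁) = 0 :=
    (u_eq_zero ι hF hW _).2 (Submodule.smul_mono (span_fn_le ι a) le_rfl (KoszulZigzag.Rel.unique hres ham (h1.smul b)))
  rw [u, map_sub, sub_eq_zero] at h3
  rw [Pr.pr_smul W hWg, H a m₁ h1, ← u_smul, u, u, h3]

include hF in
/-- The comparison. -/
theorem nonempty_iso :
    Nonempty ((cplx ι I).homology r ≅
      (Scheme.Modules.pushforward ι).obj Pr.H) := by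
  let H := Pr.H
  let T := (Scheme.Modules.pushforward ι).obj H
  choose g hg hu using fun (W : P.Opens) (hW : W ∈ Pr.goods) (z : Γ((cplx ι I).cycles r, W)) =>
    existsUnique_isRes ι I Pr hF hW z
  have hB := Pr.isBasis
  obtain ⟨Φ, hΦ⟩ := BasisHom.exists_hom (M := (cplx ι I).cycles r) (N := T) hB g
    (fun W hW V hV i z => isRes_res ι I Pr hF hW hV i (fun y hy => i hy) z (hg W hW z) (hg V hV (res _ i z)))
    (fun W hW z z' => (hu W hW _ _ (IsRes.add ι I Pr (hWg := hW) hF (hg W hW z) (hg W hW z'))).symm)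
    (fun W hW b z => by
      refine (hu W hW _ _ (IsRes.smul ι I Pr (hWg := hW) b hF (hg W hW z))).symm.trans ?_
      exact (QCoh.pushforward_smul ι W b _).symm)
  obtain ⟨p, hpr⟩ : ∃ p, (ComplexShape.up ℕ).prev r = p := ⟨_, rfl⟩
  have hempty : ∀ W, ι ⁻¹ᵁ W = ⊥ → ∀ (z : Γ((cplx ι I).cycles r, W)), IsAffineOpen W → z = 0 := by
    intro W hbot z hW
    apply cyc_injective ι I W
    have h1 : (1 : Γ(P, W)) ∈ RingHom.ker (ι.app W).hom := by
      haveI : Subsingleton Γ(X, ι ⁻¹ᵁ W) := by rw [hbot]; infer_instance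
      exact Subsingleton.elim _ _
    rw [← one_smul Γ(P, W) (cyc ι I W z), cyc_killed ι I hW z 1 h1]
    exact (map_zero (AddMonoidHom.mk' (cyc (r := r) ι I W) (cyc_add ι I W))).symm
  have hzero : (cplx ι I).toCycles p r ≫ Φ = 0 := by
    refine Scheme.Modules.hom_ext _ _ fun V => ?_
    ext w
    refine BasisHom.eq_of_basis hB _ _ fun W hW i => ?_
    show res T i (((cplx ι I).toCycles p r ≫ Φ).app V w) = res T i 0
    rw [map_zero, ← app_res]
    generalize res ((cplx ι I).X p) i w = w'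
    show Φ.app W (((cplx ι I).toCycles p r).app W w') = 0
    rw [hΦ W hW]
    refine (hu W hW _ 0 fun a m ham => ?_).symm
    rw [show Pr.pr W a (0 : Γ(H, ι ⁻¹ᵁ W)) = 0 from (by
      have h0 := Pr.pr_add W hW a 0 0
      rw [add_zero] at h0
      exact left_eq_add.1 h0)]
    refine ((u_eq_zero ι hF (Pr.affine W hW) m).2 (Submodule.smul_mono (span_fn_le ι a) le_rfl ?_)).symm
    have hcy : cyc ι I W (((cplx ι I).toCycles p r).app W w') =
        (HomPushSections.eps ι (I.cocomplex.X r)).app W (((cplx ι I).d p r).app W w') :=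
      congrArg ((HomPushSections.eps ι (I.cocomplex.X r)).app W) congr(($((cplx ι I).toCycles_i p r)).app W w')
    rw [hcy] at ham
    have hp : p = r - 1 := by cases r <;> simp [← hpr]
    rcases r with - | q
    · obtain rfl : p = 0 := hp
      refine KoszulZigzag.Rel.mem_zero (AffineResolution.isRes I hF (Pr.affine W hW)) ?_
      convert ham using 1
      rw [show (cplx ι I).d 0 0 = 0 from (cplx ι I).shape _ _ (by simp)]
      exact (map_zero _).symm
    · obtain rfl : p = q := hp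
      refine KoszulZigzag.Rel.boundary (AffineResolution.isRes I hF (Pr.affine W hW)) rfl
        ((HomPushSections.eps ι (I.cocomplex.X p)).app W w') (fun l => ?_) ?_
      · exact (HomPushSections.eps_range ι (I.cocomplex.X p) (Pr.affine W hW) _).1 ⟨w', rfl⟩ _ (ConormalWedge.fn_mem ι (a l))
      · exact (congrArg (fun c => KoszulZigzag.Rel _ _ _ _ c m) (eps_d ι I W p w')).mpr ham
  haveI : Epi Φ := by
    refine BasisHom.epi_of_basis hB Φ fun W hW t => ?_
    let t' : Γ(H, ι ⁻¹ᵁ W) := t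
    rcases Pr.gens W hW with hbot | ⟨f, hf, hbijf⟩
    · haveI : Subsingleton Γ(H, ι ⁻¹ᵁ W) := by rw [hbot]; exact Module.subsingleton Γ(X, (⊥ : X.Opens)) _
      exact ⟨0, Subsingleton.elim (α := Γ(H, ι ⁻¹ᵁ W)) _ _⟩
    have hbij := hbijf W hW le_rfl
    simp only [res_self] at hbij
    obtain ⟨m, hm⟩ := (QCoh.unit_app_closed ι hF (Pr.affine W hW)).1 (Pr.pr W f t')
    obtain ⟨x, hx, hxk, hxm⟩ := KoszulZigzag.Rel.exists_preimage (AffineResolution.isRes I hF (Pr.affine W hW))
      (fun j => AffineResolution.divisible I j (Pr.affine W hW) _ hf.regular) m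
    obtain ⟨z, rfl⟩ := exists_cyc ι I (Pr.affine W hW) x hx fun b hb => by
      rw [← hf.span_eq] at hb
      induction hb using Submodule.span_induction with
      | mem b hb => obtain ⟨l, rfl⟩ := hb; exact hxk l
      | zero => exact zero_smul _ _
      | add a b _ _ ha hb => rw [add_smul, ha, hb, add_zero]
      | smul a b _ hb => rw [smul_eq_mul, mul_smul, hb, smul_zero]
    refine ⟨z, (hΦ W hW z).trans (hbij.1 ?_)⟩
    exact (hg W hW z f m hxm).trans hm
  let S : ShortComplex P.Modules := ShortComplex.mk ((cplx ι I).toCycles p r) Φ hzero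
  haveI : Epi S.g := ‹Epi Φ›
  have hS : S.Exact := by
    refine BasisHom.exact_of_basis hB S fun W hW z hz => ?_
    rcases Pr.gens W hW with hbot | ⟨f, hf, hbijf⟩
    · exact ⟨0, (map_zero _).trans (hempty W hbot z (Pr.affine W hW)).symm⟩
    have hres := AffineResolution.isRes I hF (Pr.affine W hW)
    obtain ⟨m, hm⟩ := KoszulZigzag.Rel.exists_of_killed hres (fun i => ConormalWedge.fn ι (f i)) (cyc ι I W z)
      (cyc_closed ι I W z) fun i => cyc_killed ι I (Pr.affine W hW) z _ (ConormalWedge.fn_mem ι (f i))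
    have hgz : g W hW z = 0 := (hΦ W hW z).symm.trans hz
    have hum : u ι W m = 0 := by
      rw [← hg W hW z f m hm, hgz]
      have h0 := Pr.pr_add W hW f 0 0
      rw [add_zero] at h0
      exact left_eq_add.1 h0
    have hmem := (u_eq_zero ι hF (Pr.affine W hW) m).1 hum
    rw [← hf.span_eq] at hmem
    rcases KoszulZigzag.Rel.exists_coboundary hres (fun j => AffineResolution.divisible I j (Pr.affine W hW) _ hf.regular)
      (cyc_closed ι I W z) (fun i => cyc_killed ι I (Pr.affine W hW) z _ (ConormalWedge.fn_mem ι (f i))) hmem hm with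
      h0 | ⟨q, hq, w, hwk, hw⟩
    · refine ⟨0, (map_zero _).trans ?_⟩
      apply cyc_injective ι I W
      rw [h0]
      exact map_zero (AddMonoidHom.mk' (cyc (r := r) ι I W) (cyc_add ι I W))
    · subst hq
      have hp : p = q := by simp [← hpr]
      obtain ⟨w', rfl⟩ := (HomPushSections.eps_range ι (I.cocomplex.X q) (Pr.affine W hW) w).2 fun b hb => by
        rw [← hf.span_eq] at hb
        induction hb using Submodule.span_induction with
        | mem b hb => obtain ⟨l, rfl⟩ := hb; exact hwk l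
        | zero => exact zero_smul _ _
        | add a b _ _ ha hb => rw [add_smul, ha, hb, add_zero]
        | smul a b _ hb => rw [smul_eq_mul, mul_smul, hb, smul_zero]
      show ∃ a, ((cplx ι I).toCycles p (q + 1)).app W a = z
      rw [hp]
      refine ⟨w', cyc_injective ι I W ?_⟩
      rw [← hw]
      show (HomPushSections.eps ι _).app W (((cplx ι I).iCycles (q + 1)).app W (((cplx ι I).toCycles q (q + 1)).app W w')) =
        (I.cocomplex.d q (q + 1)).app W _
      rw [eps_d]
      exact congrArg ((HomPushSections.eps ι _).app W) congr(($((cplx ι I).toCycles_i q (q + 1))).app W w')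
  exact ⟨IsColimit.coconePointUniqueUpToIso ((cplx ι I).homologyIsCokernel p r hpr) hS.gIsCokernel⟩

end Groth.Agent.ExtPairing
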