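import Groth.Agent.QCoh.FlatBC
import Groth.Agent.AModX.Res

/-!
Flat base change for global sections, through the pullback of sections.
-/

set_option backward.isDefEq.respectTransparency false
set_option backward.isDefEq.respectTransparency.types false
set_option linter.style.haveILetI false
set_option maxHeartbeats 400000

universe u

open CategoryTheory CategoryTheory.Limits AlgebraicGeometry TopologicalSpace Opposite
open scoped TensorProduct

namespace Groth.Agent.FlatSections

open Groth.Agent.QCoh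

variable {X X' : Scheme.{u}} (φ : X' ⟶ X) {A B : Type u} [CommRing A] [CommRing B] [Algebra A B]
  (ρ : A →+* Coh.Γtop X) (ρ' : B →+* Coh.Γtop X') (hρ : ∀ a, ρ' (algebraMap A B a) = φ.appTop (ρ a))
  {M : X.Modules} {M' : X'.Modules} (η : M ⟶ (Scheme.Modules.pushforward φ).obj M')

/-- The restriction as a linear map. -/
noncomputable def resL {V W : X.Opens} (h : W ≤ V) :
    letI := secModule ρ M V
    letI := secModule ρ M W
    Γ(M, V) →ₗ[A] Γ(M, W) :=
  letI := secModule ρ M V
  letI := secModule ρ M W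
  { toFun := AModX.res M h
    map_add' := map_add _
    map_smul' := fun a x => by
      refine (map_smul' (M := M) (homOfLE h) _ x).trans ?_
      exact congrArg (fun r : Γ(X, W) => r • _) (ringMap_map (homOfLE h) (homOfLE (le_top : V ≤ ⊤)) (ρ a)) }

/-- Restriction commutes with the change of base. -/
theorem res_lin {V W : X.Opens} (h : W ≤ V) :
    letI := secModule ρ M V
    letI := secModule ρ M W
    letI := secModule ρ' M' (φ ⁻¹ᵁ V)
    letI := secModule (ρ'.comp (algebraMap A B)) M' (φ ⁻¹ᵁ V)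
    letI := secModule ρ' M' (φ ⁻¹ᵁ W)
    letI := secModule (ρ'.comp (algebraMap A B)) M' (φ ⁻¹ᵁ W)
    haveI : IsScalarTower A B Γ(M', φ ⁻¹ᵁ V) := .of_algebraMap_smul fun _ _ => rfl
    haveI : IsScalarTower A B Γ(M', φ ⁻¹ᵁ W) := .of_algebraMap_smul fun _ _ => rfl
    ∀ z : B ⊗[A] Γ(M, V),
      AModX.res M' (φ.preimage_mono h) (LinearMap.liftBaseChange B (secLin ρ ρ' φ η hρ V _ le_rfl) z) =
        LinearMap.liftBaseChange B (secLin ρ ρ' φ η hρ W _ le_rfl) ((resL ρ h).baseChange B z) := by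
  letI := secModule ρ M V
  letI := secModule ρ M W
  letI := secModule ρ' M' (φ ⁻¹ᵁ V)
  letI := secModule (ρ'.comp (algebraMap A B)) M' (φ ⁻¹ᵁ V)
  letI := secModule ρ' M' (φ ⁻¹ᵁ W)
  letI := secModule (ρ'.comp (algebraMap A B)) M' (φ ⁻¹ᵁ W)
  haveI : IsScalarTower A B Γ(M', φ ⁻¹ᵁ V) := .of_algebraMap_smul fun _ _ => rfl
  haveI : IsScalarTower A B Γ(M', φ ⁻¹ᵁ W) := .of_algebraMap_smul fun _ _ => rfl
  intro z
  induction z using TensorProduct.induction_on with
  | zero => simp only [map_zero]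
  | add a b ha hb => simp only [map_add, ha, hb]
  | tmul b m =>
    rw [LinearMap.baseChange_tmul, LinearMap.liftBaseChange_tmul, LinearMap.liftBaseChange_tmul]
    refine (map_smul' (M := M') (homOfLE (φ.preimage_mono h)) _ _).trans ?_
    refine congr_arg₂ (fun (r : Γ(X', φ ⁻¹ᵁ W)) (x : Γ(M', φ ⁻¹ᵁ W)) => r • x)
      (ringMap_map (homOfLE (φ.preimage_mono h)) (homOfLE (le_top : φ ⁻¹ᵁ V ≤ ⊤)) (ρ' b)) ?_
    exact (map_secMap φ η le_rfl (homOfLE (φ.preimage_mono h)) m).trans (secMap_map φ η h le_rfl m).symm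

/-- On an open covered by finitely many affine opens the comparison is injective. -/
theorem injective_lift [Module.Flat A B] {V : X.Opens} (hV : IsCompact (V : Set X)) (hbc : IsAffineBC φ ρ ρ' hρ η) :
    letI := secModule ρ M V
    letI := secModule ρ' M' (φ ⁻¹ᵁ V)
    letI := secModule (ρ'.comp (algebraMap A B)) M' (φ ⁻¹ᵁ V)
    haveI : IsScalarTower A B Γ(M', φ ⁻¹ᵁ V) := .of_algebraMap_smul fun _ _ => rfl
    Function.Injective (LinearMap.liftBaseChange B (secLin ρ ρ' φ η hρ V _ le_rfl)) := by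
  classical
  letI : ∀ W : X.Opens, Module A Γ(M, W) := fun W => secModule ρ M W
  letI : ∀ W : X.Opens, Module B Γ(M', φ ⁻¹ᵁ W) := fun W => secModule ρ' M' (φ ⁻¹ᵁ W)
  letI : ∀ W : X.Opens, Module A Γ(M', φ ⁻¹ᵁ W) := fun W => secModule (ρ'.comp (algebraMap A B)) M' (φ ⁻¹ᵁ W)
  haveI : ∀ W : X.Opens, IsScalarTower A B Γ(M', φ ⁻¹ᵁ W) := fun W => .of_algebraMap_smul fun _ _ => rfl
  let I := {W : X.affineOpens // (W.1 : X.Opens) ≤ V}
  obtain ⟨s, hs⟩ := hV.elim_finite_subcover (fun W : I => (W.1.1 : Set X)) (fun W => W.1.1.2) fun x hx => by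
    obtain ⟨_, ⟨W, hW, rfl⟩, hxW, hWV⟩ := X.isBasis_affineOpens.exists_subset_of_mem_open hx V.2
    exact Set.mem_iUnion.2 ⟨⟨⟨W, hW⟩, hWV⟩, hxW⟩
  let U : s → X.Opens := fun i => i.1.1.1
  have hle : ∀ i, U i ≤ V := fun i => i.1.2
  have hcov : ∀ x ∈ V, ∃ i, x ∈ U i := fun x hx => by
    obtain ⟨W, hW, hxW⟩ := Set.mem_iUnion₂.1 (hs hx)
    exact ⟨⟨W, hW⟩, hxW⟩
  have hbij : ∀ i, Function.Bijective (LinearMap.liftBaseChange B (secLin ρ ρ' φ η hρ (U i) _ le_rfl)) := fun i =>
    (congrArg Function.Bijective (show ((LinearMap.liftBaseChange B (secLin ρ ρ' φ η hρ (U i) _ le_rfl)) :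
        B ⊗[A] Γ(M, U i) → Γ(M', φ ⁻¹ᵁ U i)) = (hbc (U i) i.1.1.2).equiv from
      funext fun z => by
        induction z using TensorProduct.induction_on with
        | zero => simp only [map_zero]
        | add a b ha hb => simp only [map_add, ha, hb]
        | tmul b m => rw [LinearMap.liftBaseChange_tmul, IsBaseChange.equiv_tmul])).mpr
      (hbc (U i) i.1.1.2).equiv.bijective
  let R : Γ(M, V) →ₗ[A] ∀ i, Γ(M, U i) := LinearMap.pi fun i => resL ρ (hle i)
  have hRinj : Function.Injective R := fun a b hab => by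
    obtain ⟨u, -, huniq⟩ := AModX.existsUnique_glue (M := M) U hle
      (fun x hx => hcov x hx) (fun i => AModX.res M (hle i) a) (fun i j => by rw [AModX.res_res, AModX.res_res])
    exact (huniq a fun i => rfl).trans (huniq b fun i => (congrFun hab i).symm).symm
  let P := TensorProduct.piRight A A B (fun i => Γ(M, U i))
  refine (injective_iff_map_eq_zero _).2 fun z hz => ?_
  refine Module.Flat.lTensor_preserves_injective_linearMap (M := B) R hRinj ?_
  rw [map_zero]
  refine P.injective (funext fun i => ?_)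
  rw [map_zero, Pi.zero_apply]
  have hP : P (R.lTensor B z) i = (resL ρ (hle i)).baseChange B z := by
    clear hz
    induction z using TensorProduct.induction_on with
    | zero => simp only [map_zero, Pi.zero_apply]
    | add a b ha hb => simp only [map_add, Pi.add_apply, ha, hb]
    | tmul b m =>
      show P (b ⊗ₜ[A] R m) i = _
      rw [LinearMap.baseChange_tmul]
      exact congrFun ((TensorProduct.piRight_apply A A B (fun i => Γ(M, U i)) _).trans (TensorProduct.piRightHom_tmul A A B (fun i => Γ(M, U i)) b (R m))) i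
  rw [hP]
  refine (hbij i).1 ?_
  rw [← res_lin φ ρ ρ' hρ η (hle i), map_zero, hz, map_zero]

/-- On a quasi-compact quasi-separated scheme global sections change base along flat maps of rings. -/
theorem bijective_global [Module.Flat A B] [CompactSpace X] [QuasiSeparatedSpace X] (hbc : IsAffineBC φ ρ ρ' hρ η) :
    letI := secModule ρ M ⊤
    letI := secModule ρ' M' (φ ⁻¹ᵁ ⊤)
    letI := secModule (ρ'.comp (algebraMap A B)) M' (φ ⁻¹ᵁ ⊤)
    haveI : IsScalarTower A B Γ(M', φ ⁻¹ᵁ ⊤) := .of_algebraMap_smul fun _ _ => rfl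
    Function.Bijective (LinearMap.liftBaseChange B (secLin ρ ρ' φ η hρ ⊤ _ le_rfl)) := by
  classical
  letI : ∀ V : X.Opens, Module A Γ(M, V) := fun V => secModule ρ M V
  letI : ∀ V : X.Opens, Module B Γ(M', φ ⁻¹ᵁ V) := fun V => secModule ρ' M' (φ ⁻¹ᵁ V)
  letI : ∀ V : X.Opens, Module A Γ(M', φ ⁻¹ᵁ V) := fun V => secModule (ρ'.comp (algebraMap A B)) M' (φ ⁻¹ᵁ V)
  haveI : ∀ V : X.Opens, IsScalarTower A B Γ(M', φ ⁻¹ᵁ V) := fun V => .of_algebraMap_smul fun _ _ => rfl
  let e : ∀ V : X.Opens, B ⊗[A] Γ(M, V) →ₗ[B] Γ(M', φ ⁻¹ᵁ V) := fun V =>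
    LinearMap.liftBaseChange B (secLin ρ ρ' φ η hρ V _ le_rfl)
  have hr : ∀ {V W : X.Opens} (h : W ≤ V) z, AModX.res M' (φ.preimage_mono h) (e V z) =
      e W ((resL ρ h).baseChange B z) := fun {V W} h z => res_lin φ ρ ρ' hρ η h z
  have he : ∀ V : X.Opens, IsAffineOpen V → Function.Bijective (e V) := fun V hV =>
    (congrArg Function.Bijective (show (e V : B ⊗[A] Γ(M, V) → Γ(M', φ ⁻¹ᵁ V)) = (hbc V hV).equiv from
      funext fun z => by
        induction z using TensorProduct.induction_on with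
        | zero => simp only [map_zero]
        | add a b ha hb => simp only [map_add, ha, hb]
        | tmul b m => rw [LinearMap.liftBaseChange_tmul, IsBaseChange.equiv_tmul])).mpr
      (hbc V hV).equiv.bijective
  obtain ⟨s, hcov⟩ : ∃ s : Finset X.affineOpens, ∀ x : X, ∃ V ∈ s, x ∈ (V.1 : X.Opens) := by
    obtain ⟨s, hs⟩ := isCompact_univ.elim_finite_subcover (fun V : X.affineOpens => (V.1 : Set X)) (fun V => V.1.2)
      (fun x _ => Set.mem_iUnion.2 (by
        obtain ⟨_, ⟨V, hV, rfl⟩, hxV, -⟩ := X.isBasis_affineOpens.exists_subset_of_mem_open (Set.mem_univ x) isOpen_univ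
        exact ⟨⟨V, hV⟩, hxV⟩))
    exact ⟨s, fun x => by simpa using hs (Set.mem_univ x)⟩
  let U : s → X.Opens := fun i => i.1.1
  let U2 : s × s → X.Opens := fun p => U p.1 ⊓ U p.2
  let R : Γ(M, ⊤) →ₗ[A] ∀ i, Γ(M, U i) := LinearMap.pi fun i => resL ρ le_top
  let D : (∀ i, Γ(M, U i)) →ₗ[A] ∀ p, Γ(M, U2 p) := LinearMap.pi fun p =>
    (resL ρ (inf_le_left : U2 p ≤ U p.1)).comp (LinearMap.proj p.1) -
      (resL ρ (inf_le_right : U2 p ≤ U p.2)).comp (LinearMap.proj p.2)
  have hglue := fun (N : X.Modules) => AModX.existsUnique_glue (M := N) U (fun _ => le_top)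
    (fun x _ => let ⟨V, hV, hx⟩ := hcov x; ⟨⟨V, hV⟩, hx⟩)
  have hRinj : Function.Injective R := fun a b hab => by
    obtain ⟨u, -, huniq⟩ := hglue M (fun i => AModX.res M le_top a) (fun i j => by rw [AModX.res_res, AModX.res_res])
    exact (huniq a fun i => rfl).trans (huniq b fun i => (congrFun hab i).symm).symm
  have hexact : Function.Exact R D := fun v => by
    constructor
    · intro hv
      obtain ⟨u, hu, -⟩ := hglue M v fun i j => sub_eq_zero.1 (congrFun hv (i, j))
      exact ⟨u, funext hu⟩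
    · rintro ⟨u, rfl⟩
      refine funext fun p => sub_eq_zero.2 ?_
      show AModX.res M _ (AModX.res M _ u) = AModX.res M _ (AModX.res M _ u)
      rw [AModX.res_res, AModX.res_res]
  have hglue' := AModX.existsUnique_glue (M := M') (V := φ ⁻¹ᵁ ⊤) (fun i => φ ⁻¹ᵁ U i) (fun _ => le_top)
    (fun x _ => let ⟨V, hV, hx⟩ := hcov (φ x); ⟨⟨V, hV⟩, hx⟩)
  let P := TensorProduct.piRight A A B (fun i => Γ(M, U i))
  have hP : ∀ (i : s) (z : B ⊗[A] Γ(M, ⊤)), P (R.lTensor B z) i = (resL ρ (le_top : U i ≤ ⊤)).baseChange B z := by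
    intro i z
    induction z using TensorProduct.induction_on with
    | zero => simp only [map_zero, Pi.zero_apply]
    | add a b ha hb => simp only [map_add, Pi.add_apply, ha, hb]
    | tmul b m =>
      show P (b ⊗ₜ[A] R m) i = _
      rw [LinearMap.baseChange_tmul]
      exact congrFun ((TensorProduct.piRight_apply A A B (fun i => Γ(M, U i)) _).trans (TensorProduct.piRightHom_tmul A A B (fun i => Γ(M, U i)) b (R m))) i
  refine ⟨(injective_iff_map_eq_zero _).2 fun z hz => ?_, fun w => ?_⟩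
  · refine Module.Flat.lTensor_preserves_injective_linearMap (M := B) R hRinj ?_
    rw [map_zero]
    refine P.injective (funext fun i => ?_)
    rw [hP, map_zero, Pi.zero_apply]
    refine (he _ i.1.2).1 ?_
    rw [← hr le_top, map_zero]
    exact (congrArg _ hz).trans (map_zero _)
  · choose v hv using fun i : s => (he _ i.1.2).2 (AModX.res M' (φ.preimage_mono le_top) w)
    let Q := TensorProduct.piRight A A B (fun p => Γ(M, U2 p))
    have hQ : ∀ (p : s × s) (z : B ⊗[A] ∀ i, Γ(M, U i)), Q (D.lTensor B z) p =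
        (resL ρ (inf_le_left : U2 p ≤ U p.1)).baseChange B (P z p.1) -
          (resL ρ (inf_le_right : U2 p ≤ U p.2)).baseChange B (P z p.2) := by
      intro p z
      induction z using TensorProduct.induction_on with
      | zero => simp only [map_zero, Pi.zero_apply, sub_zero]
      | add a b ha hb => simp only [map_add, Pi.add_apply, ha, hb]; abel
      | tmul b m =>
        show Q (b ⊗ₜ[A] D m) p = _
        rw [show P (b ⊗ₜ[A] m) = fun i => b ⊗ₜ[A] m i from (TensorProduct.piRight_apply A A B (fun i => Γ(M, U i)) _).trans (TensorProduct.piRightHom_tmul A A B (fun i => Γ(M, U i)) b m),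
          show Q (b ⊗ₜ[A] D m) = fun q => b ⊗ₜ[A] D m q from (TensorProduct.piRight_apply A A B (fun q => Γ(M, U2 q)) _).trans (TensorProduct.piRightHom_tmul A A B (fun q => Γ(M, U2 q)) b (D m))]
        simp only [LinearMap.baseChange_tmul, ← TensorProduct.tmul_sub]
        rfl
    have hD : D.lTensor B (P.symm v) = 0 := by
      refine Q.injective (funext fun p => ?_)
      rw [hQ, map_zero, Pi.zero_apply, sub_eq_zero, LinearEquiv.apply_symm_apply]
      refine injective_lift φ ρ ρ' hρ η
        (QuasiSeparatedSpace.inter_isCompact _ _ p.1.1.1.2 p.1.1.2.isCompact p.2.1.1.2 p.2.1.2.isCompact) hbc ?_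
      rw [← hr, ← hr, hv, hv, AModX.res_res, AModX.res_res]
    obtain ⟨z, hz⟩ := (Module.Flat.lTensor_exact B hexact _).1 hD
    refine ⟨z, ?_⟩
    obtain ⟨u, -, huniq⟩ := hglue' (fun i => AModX.res M' (φ.preimage_mono le_top) w)
      (fun i j => by rw [AModX.res_res, AModX.res_res])
    refine (huniq _ fun i => ?_).trans (huniq w fun i => rfl).symm
    rw [hr le_top, ← hP, hz, LinearEquiv.apply_symm_apply, hv]

end Groth.Agent.FlatSections
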