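import Groth.Agent.Lib.GenFinPush
import Groth.Agent.Lib.BigVol
import Groth.Agent.Lib.EulerOneDeg
import Groth.Agent.AmpleVan.Pull
import Groth.Agent.QCoh.RpushAbGod
import Groth.Agent.Lib.DegBirat

/-!
Generically finite maps of proper integral schemes: cohomology of pullbacks of powers in every degree.
-/

set_option autoImplicit false
set_option linter.style.haveILetI false
set_option linter.unusedSectionVars false
set_option backward.isDefEq.respectTransparency false
set_option backward.isDefEq.respectTransparency.types false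
set_option maxHeartbeats 1000000

universe u

open CategoryTheory CategoryTheory.Limits AlgebraicGeometry TopologicalSpace Opposite

noncomputable section

namespace Groth.Agent.GenFinPush

open Groth.Agent Groth.Agent.CohGrowth Groth.Agent.AsympCoh
open scoped Groth.Agent.H23.PicMul

variable {X Y : Scheme.{u}}

/-- Maps bijective on stalks over an open are bijective on its sections. -/
theorem bijective_app_of_isoOn {U : X.Opens} {A B : X.Modules} {φ : A ⟶ B} (h : Snapper.IsoOn U φ)
    {W : X.Opens} (hW : W ≤ U) : Function.Bijective (φ.app W) := by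
  let FA : TopCat.Sheaf Ab X.toTopCat := ⟨A.presheaf, A.isSheaf⟩
  let FB : TopCat.Sheaf Ab X.toTopCat := ⟨B.presheaf, B.isSheaf⟩
  let g : FA ⟶ FB := ⟨(Scheme.Modules.toPresheaf X).map φ⟩
  have hb : ∀ x ∈ W, Function.Bijective ((TopCat.Presheaf.stalkFunctor Ab x).map g.1) := fun x hx => by
    haveI := h x (hW hx)
    exact ConcreteCategory.bijective_of_isIso ((DerSch.stalkFunctor X x).map φ)
  exact ⟨TopCat.Presheaf.app_injective_of_stalkFunctor_map_injective g.1 W (fun x hx => (hb x hx).1),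
    TopCat.Presheaf.app_surjective_of_stalkFunctor_map_bijective g W hb⟩

/-- Direct images keep isomorphisms over opens. -/
theorem isoOn_push (f : Y ⟶ X) {U : X.Opens} {A B : Y.Modules} {φ : A ⟶ B} (h : Snapper.IsoOn (f ⁻¹ᵁ U) φ) :
    Snapper.IsoOn U ((Scheme.Modules.pushforward f).map φ) :=
  DegBirat.isoOn_of_bijective _ fun _W hW => bijective_app_of_isoOn h (f.preimage_mono hW)

/-- Vanishing of the abelian higher direct images gives that of the module ones. -/
theorem isZero_Rpush_of_Ab (f : Y ⟶ X) {M : Y.Modules} (q : ℕ)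
    (h : IsZero ((Coh.RpushAb f (q + 1)).obj (Coh.toAb M))) : IsZero ((Coh.Rpush f (q + 1)).obj M) := by
  obtain ⟨e⟩ := QCoh.nonempty_RpushAb_iso f M q
  obtain ⟨e'⟩ := QCoh.nonempty_Rpush_iso f M q
  refine IsZero.of_iso ?_ e'
  refine (IsZero.iff_id_eq_zero _).2 (Scheme.Modules.hom_ext _ _ fun W => ?_)
  refine AddCommGrpCat.hom_ext (AddMonoidHom.ext fun t => ?_)
  exact congr(($((IsZero.iff_id_eq_zero _).1 (h.of_iso e.symm))).hom.app (op W) t)

variable (k : Type u) [Field k] [X.Over (Spec (CommRingCat.of k))] [Y.Over (Spec (CommRingCat.of k))]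
  [IsProper (X ↘ Spec (CommRingCat.of k))] [IsProper (Y ↘ Spec (CommRingCat.of k))] [IsIntegral X] [IsIntegral Y]

theorem fibre_generic (f : Y ⟶ X) (hf : f ≫ (X ↘ Spec (CommRingCat.of k)) = Y ↘ Spec (CommRingCat.of k))
    (hξ : f (genericPoint Y) = genericPoint X) (hd : f.residueDegree (genericPoint Y) ≠ 0) :
    VarDim.deg (Y ↘ Spec (CommRingCat.of k)) (genericPoint Y) =
        VarDim.deg (X ↘ Spec (CommRingCat.of k)) (genericPoint X) ∧
      ∀ a, f a = genericPoint X → a = genericPoint Y := by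
  haveI := isProper_map k f hf
  have h2 := VarDim.deg_eq_add f (X ↘ Spec (CommRingCat.of k)) hf (genericPoint Y)
  have h0 : VarDim.fdeg f (genericPoint Y) = 0 := by
    rw [VarDim.fdeg, WeilLib.rdeg_eq_zero_of_residueDegree_ne_zero f _ hd, map_zero]
  rw [h0, hξ, add_zero] at h2
  refine ⟨h2, fun a ha => by_contra fun hne => ?_⟩
  have h1 := VarDim.deg_eq_add f (X ↘ Spec (CommRingCat.of k)) hf a
  rw [ha] at h1
  have h3 := NefCrit.deg_lt_of_mem_closure (k := k) (specializes_iff_mem_closure.1 (genericPoint_specializes a)) hne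
  omega

/-- **Cohomology of pullbacks of powers along a generically finite map.** -/
theorem exists_dist_pullback_HH (f : Y ⟶ X)
    (hf : f ≫ (X ↘ Spec (CommRingCat.of k)) = Y ↘ Spec (CommRingCat.of k))
    (hξ : f (genericPoint Y) = genericPoint X) {d : ℕ} (hd : f.residueDegree (genericPoint Y) = d) (hd0 : 0 < d)
    {n : ℕ} (hn : topologicalKrullDim X = n) {H : Y.Modules} (hH : CohB1.IsAmple H)
    {L : X.Modules} (hL : PicF.IsInvertible L) (i : ℕ) :
    ∃ C, ∀ m, Nat.dist (Module.finrank k (Coh.HH Y (CohB1.tensorPow ((Scheme.Modules.pullback f).obj L) m) i))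
      (d * Module.finrank k (Coh.HH X (CohB1.tensorPow L m) i)) ≤ C * w n m := by
  haveI := CurveCohLib.isNoetherian_of_proper (k := k) (X := X)
  haveI := CurveCohLib.isNoetherian_of_proper (k := k) (X := Y)
  haveI := isProper_map k f hf
  haveI : Y.IsSeparated := AmpleVan.isSeparated_of_proper (A := k)
  obtain ⟨hdeg, hfib⟩ := fibre_generic k f hf hξ (by omega)
  have hnY : topologicalKrullDim Y = n := by
    rw [VarDim.topologicalKrullDim_eq_deg_genericPoint (Y ↘ Spec (CommRingCat.of k)), hdeg,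
      ← VarDim.topologicalKrullDim_eq_deg_genericPoint (X ↘ Spec (CommRingCat.of k)), hn]
  have ha : ∀ W : X.Opens, IsAffineOpen W → CohB1.IsAmple (H.restrict (f ⁻¹ᵁ W).ι) := fun W hW => by
    haveI : CompactSpace (f ⁻¹ᵁ W).toScheme := isCompact_iff_compactSpace.1 (f.isCompact_preimage hW.isCompact)
    exact AmpleX.isAmple_of_iso ((Scheme.Modules.restrictFunctorIsoPullback (f ⁻¹ᵁ W).ι).app H).symm
      (AmpleVan.isAmple_pullback_of_isEmbedding (f ⁻¹ᵁ W).ι (f ⁻¹ᵁ W).ι.isOpenEmbedding.isEmbedding hH)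
  obtain ⟨n₀, hn₀⟩ := AmpleVan.RelVanish.exists_vanishing (f := f) hH.1 ha
    (M := Coh.structureModule Y) QCoh.isCoh_structureModule'
  obtain ⟨a₀, ha₀, hgen⟩ := NefBig.exists_generated k hH
  let B := CohB1.tensorPow H (a₀ + n₀)
  have hB : PicF.IsInvertible B := InvX.isInvertible_tensorPow hH.1 _
  obtain ⟨s, hs⟩ := NefBig.exists_section_of_generated hB (hgen _ (Nat.le_add_right _ _))
  haveI := CurveAmple.mono_ofSect hB hs
  have hBc := AmpleVan.isCoh_invertible hB
  have hOc : Coh.IsCoh (Coh.structureModule Y) := QCoh.isCoh_structureModule'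
  have hQ : Coh.IsCoh (cokernel (InvX.ofSect s)) := QCoh.isCoh_cokernel hOc.1 hBc _
  have hS : (ShortComplex.mk (InvX.ofSect s) (cokernel.π _) (cokernel.condition (InvX.ofSect s))).ShortExact :=
    .mk' (ShortComplex.exact_of_g_is_cokernel _ (cokernelIsCokernel _)) inferInstance inferInstance
  let P := (Scheme.Modules.pullback f).obj L
  have hP : PicF.IsInvertible P := PicClLib.isInvertible_pullback f hL
  obtain ⟨C₁, hC₁⟩ := exists_dist_left k hnY.le hS hOc hBc hQ (BigVol.dim_support_cokernel k hnY hB hs) hP i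
  -- over the complement of the image of the zero locus the map is an isomorphism
  let Z := CohB1.support (cokernel (InvX.ofSect s))
  let U : X.Opens := ⟨(f '' Z)ᶜ, (f.isClosedMap _ (QCoh.isClosed_support_of_isFT hQ.1 hQ.2)).isOpen_compl⟩
  have hU : (U : Set X).Nonempty := ⟨genericPoint X, fun ⟨a, haZ, hae⟩ =>
    CurveAmple.support_cokernel_subset s (hfib a hae ▸ haZ) (NefBig.generic_mem_locus hB hs)⟩
  have hiso : Snapper.IsoOn (f ⁻¹ᵁ U) (InvX.ofSect s) := fun x hx => by
    let F := DerSch.stalkFunctor Y x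
    haveI : Mono (F.map (InvX.ofSect s)) := inferInstance
    haveI : Epi (F.map (InvX.ofSect s)) := (hS.exact.map F).epi_f
      (((Snapper.notMem_support_iff (A := cokernel (InvX.ofSect s))).1 fun h => hx ⟨x, h, rfl⟩).eq_of_tgt _ _)
    exact isIso_of_mono_of_epi _
  have hc₀ := ExistEasy.isCoh_pushforward_proper f hOc
  have hc₁ := ExistEasy.isCoh_pushforward_proper f hBc
  obtain ⟨C₂, hC₂⟩ := isBdd_dist_of_isoOn k (L := fun _ : Fin 1 => L) (fun _ => hL) (d := n) (C := Set.univ) (U := U)
    (fun M hM hMs j => isBdd_outside k (fun _ => hL) hn.le hU M hM hMs j) hc₀ hc₁ (fun _ _ => trivial)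
    (fun _ _ => trivial) _ (isoOn_push f hiso) i
  obtain ⟨C₃, hC₃⟩ := exists_dist_rank k hn.le hL hc₀ (finrank_stalk_push_proper k f hf hξ hd hd0) i
  refine ⟨C₁ + C₂ + C₃, fun m => ?_⟩
  -- the twist by `B` has no higher direct images
  have key : Module.finrank k (Coh.HH Y (CohB1.tensorMod B (CohB1.tensorPow P m)) i) =
      Module.finrank k (Coh.HH X (CohB1.tensorMod ((Scheme.Modules.pushforward f).obj B) (CohB1.tensorPow L m)) i) := by
    let Lm := CohB1.tensorPow L m
    have hLf : FlatMod.IsFinLocFree Lm := H23.PullPush.isFinLocFree_of_isInvertible (InvX.isInvertible_tensorPow hL m)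
    let M := CohB1.tensorMod ((Scheme.Modules.pullback f).obj Lm) B
    haveI := SpObjSS.enoughInjectives_of_hasInjectiveResolutions (C := Y.Modules)
    have hR : ∀ q, q ≠ 0 → IsZero ((Coh.Rpush f q).obj M) := fun q hq => by
      obtain ⟨p, rfl⟩ : ∃ p, q = p + 1 := ⟨q - 1, by omega⟩
      obtain ⟨φ⟩ := S0927.result f B Lm hLf (p + 1)
      refine IsZero.of_iso ?_ φ.symm
      have hz : IsZero ((Coh.Rpush f (p + 1)).obj B) :=
        (isZero_Rpush_of_Ab f p (hn₀ (a₀ + n₀) (Nat.le_add_left _ _) (p + 1) (Nat.succ_pos _))).of_iso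
          ((Coh.Rpush f (p + 1)).mapIso (CurveTensor.structureTensorIso B).symm)
      exact Functor.map_isZero (DCoh.tensorBi.obj Lm) hz
    obtain ⟨t⟩ := AmpleVan.RelVanish.pullback_tensorPow f L m
    obtain ⟨e₀⟩ : Nonempty (CohB1.tensorMod B (CohB1.tensorPow P m) ≅ M) :=
      ⟨(DCoh.tensorBi.obj B).mapIso t.symm ≪≫ CurveTensor.commIso B ((Scheme.Modules.pullback f).obj Lm)⟩
    obtain ⟨φ⟩ := S0927.result f B Lm hLf 0
    let ψ := (Scheme.Modules.pushforward f).rightDerivedZeroIsoSelf
    let e₁ : (Coh.Rpush f 0).obj M ≅ CohB1.tensorMod ((Scheme.Modules.pushforward f).obj B) Lm :=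
      φ.symm ≪≫ (DCoh.tensorBi.obj Lm).mapIso (ψ.app B) ≪≫ CurveTensor.commIso Lm _
    have h := EulerOneDeg.finrank_eq k f hf (M := M) 0 hR i
    rw [Nat.zero_add] at h
    exact ((CurveCohLib.hhEquiv (k := k) e₀ i).finrank_eq.trans h).trans (CurveCohLib.hhEquiv (k := k) e₁ i).finrank_eq
  have e : Module.finrank k (Coh.HH Y (CohB1.tensorMod (Coh.structureModule Y) (CohB1.tensorPow P m)) i) =
      Module.finrank k (Coh.HH Y (CohB1.tensorPow P m) i) :=
    (CurveCohLib.hhEquiv (k := k) (CurveTensor.structureTensorIso (CohB1.tensorPow P m)) i).finrank_eq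
  have h1 : Nat.dist (Module.finrank k (Coh.HH Y (CohB1.tensorPow P m) i))
      (Module.finrank k (Coh.HH Y (CohB1.tensorMod B (CohB1.tensorPow P m)) i)) ≤ C₁ * w n m := by
    rw [← e]; exact hC₁ m
  have h2 : Nat.dist (hgt k (fun _ : Fin 1 => L) i ((Scheme.Modules.pushforward f).obj (Coh.structureModule Y)) fun _ => m)
      (hgt k (fun _ : Fin 1 => L) i ((Scheme.Modules.pushforward f).obj B) fun _ => m) ≤
        C₂ * w n (∑ _l : Fin 1, m) := hC₂ fun _ => m
  rw [hgt_one, hgt_one, sum_one, ← key] at h2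
  have h3 := hC₃ m
  rw [add_mul, add_mul]
  refine (Nat.dist.triangle_inequality _ _ _).trans (Nat.add_le_add ((Nat.dist.triangle_inequality _ _ _).trans
    (Nat.add_le_add h1 ((Nat.dist_comm _ _).trans_le h2))) h3)

end Groth.Agent.GenFinPush
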