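import Groth.Agent.Lib.AsympCoh
import Groth.Agent.Lib.DegPullFinite
import Groth.Agent.H23.SheafPush
import Groth.Agent.WeilLib.Geometry
import Groth.Agent.ExistEasy.PP.HatLemmas
import Groth.Agent.CurveCohLib.Skyscraper
import Groth.Agent.S0927
import Groth.Agent.AmpleVan.RelVanish
import Groth.Agent.H23.PullPush
import Groth.Agent.Nakai.Nef
import Groth.Prelude.Def_EGA4Misc

/-!
Generically finite maps of proper integral schemes: sections of pullbacks of powers.
-/

set_option autoImplicit false
set_option linter.style.haveILetI false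
set_option linter.unusedSectionVars false
set_option backward.isDefEq.respectTransparency false
set_option backward.isDefEq.respectTransparency.types false
set_option maxHeartbeats 1000000

universe u

open CategoryTheory CategoryTheory.Limits AlgebraicGeometry TopologicalSpace Opposite

noncomputable section

namespace Groth.Agent.GenFinPush

open Groth.Agent Groth.Agent.CohGrowth Groth.Agent.AsympCoh
open scoped Groth.Agent.H23.PicMul

variable {X Y : Scheme.{u}}

theorem finrank_congr_top (R M : Type u) {R' M' : Type u} [CommRing R] [AddCommGroup M] [Module R M] [CommRing R']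
    [AddCommGroup M'] [Module R' M'] (e : R → R') (he : Function.Bijective e) (g : M ≃+ M')
    (h : ∀ r m, g (r • m) = e r • g m) : Module.finrank R M = Module.finrank R' M' :=
  congrArg Cardinal.toNat (rank_eq_of_equiv_equiv e g he h)

/-- The rank of the direct image at the generic point. -/
theorem finrank_stalk_push [IsIntegral X] [IsIntegral Y] (f : X ⟶ Y) [QuasiCompact f] [QuasiSeparated f]
    (hξ : f (genericPoint X) = genericPoint Y) {U : Y.Opens} (hU : IsAffineOpen U) (hV : IsAffineOpen (f ⁻¹ᵁ U))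
    (hy : f (genericPoint X) ∈ U) :
    Module.finrank (Y.presheaf.stalk (genericPoint Y))
        (((Scheme.Modules.pushforward f).obj (Coh.structureModule X)).presheaf.stalk (genericPoint Y)) =
      f.residueDegree (genericPoint X) := by
  let ξ := genericPoint X
  let M := (Scheme.Modules.pushforward f).obj (Coh.structureModule X)
  have hM : Coh.IsQCoh M := QCoh.isQCoh_pushforward f QCoh.isQCoh_structureModule
  have hrk : Module.finrank (Y.presheaf.stalk (genericPoint Y)) (M.presheaf.stalk (genericPoint Y)) =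
      Module.finrank (Y.presheaf.stalk (f ξ)) (M.presheaf.stalk (f ξ)) := by
    rw [hξ]
  have hKY : IsField (Y.presheaf.stalk (f ξ)) := by
    show IsField (Y.presheaf.stalk (f (genericPoint X)))
    rw [hξ]; exact CurveBundle.isField_stalk_generic
  have hKX : IsField (X.presheaf.stalk ξ) := CurveBundle.isField_stalk_generic
  haveI : Nonempty U := ⟨⟨_, hy⟩⟩
  let V := f ⁻¹ᵁ U
  have hx : ξ ∈ V := hy
  haveI : Nonempty V := ⟨⟨_, hx⟩⟩
  let A := Γ(Y, U)
  let S := Γ(X, V)
  letI := QCoh.stalkAlg (X := Y) hy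
  letI := QCoh.stalkModule M hy
  haveI := QCoh.isScalarTower_stalk M hy
  haveI := QCoh.isLocalization_stalk' hU hy
  haveI := QCoh.isLocalizedModule_germLin hM hU hy
  let p := (hU.primeIdealOf ⟨f ξ, hy⟩).asIdeal.primeCompl
  have hp : p ≤ nonZeroDivisors A := fun a ha =>
    mem_nonZeroDivisors_iff_ne_zero.2 fun h0 => ha (h0 ▸ Ideal.zero_mem _)
  rw [hrk, IsLocalization.finrank_eq (Y.presheaf.stalk (f ξ)) p hp,
    IsLocalizedModule.finrank_eq p (QCoh.germLin M hy) hp]
  letI : Algebra A S := (f.app U).hom.toAlgebra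
  have h1 : Module.finrank A Γ(M, U) = Module.finrank A S :=
    congrArg Cardinal.toNat (rank_eq_of_equiv_equiv (R := A) (R' := A) (M := Γ(M, U)) (M₁ := S) id
      { toFun := fun m => (show S from m), invFun := fun m => (show Γ(M, U) from m),
        left_inv := fun _ => rfl, right_inv := fun _ => rfl, map_add' := fun _ _ => rfl }
      Function.bijective_id fun r m => rfl)
  rw [h1]
  haveI := functionField_isFractionRing_of_isAffineOpen X V hV
  let K' := X.functionField
  letI : Algebra (Y.presheaf.stalk (f ξ)) K' := (f.stalkMap ξ).hom.toAlgebra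
  letI : Algebra A K' := ((algebraMap S K').comp (algebraMap A S)).toAlgebra
  haveI : IsScalarTower A S K' := IsScalarTower.of_algebraMap_eq fun _ => rfl
  haveI : IsScalarTower A (Y.presheaf.stalk (f ξ)) K' := IsScalarTower.of_algebraMap_eq fun a =>
    (Scheme.Hom.germ_stalkMap_apply f U ξ hy a).symm
  rw [IsFractionRing.finrank_left_eq (R := A) (S := S) K',
    ← IsLocalization.finrank_eq (Y.presheaf.stalk (f ξ)) p hp (N := K')]
  exact DegPull.finrank_residue_of_field hKY hKX (f.stalkMap ξ).hom

variable (k : Type u) [Field k] [X.Over (Spec (CommRingCat.of k))] [Y.Over (Spec (CommRingCat.of k))]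

theorem isProper_map [IsProper (X ↘ Spec (CommRingCat.of k))] [IsProper (Y ↘ Spec (CommRingCat.of k))] (f : X ⟶ Y)
    (hf : f ≫ (Y ↘ Spec (CommRingCat.of k)) = X ↘ Spec (CommRingCat.of k)) : IsProper f := by
  haveI : IsProper (f ≫ (Y ↘ Spec (CommRingCat.of k))) := hf ▸ inferInstance
  exact IsProper.of_comp f (Y ↘ Spec (CommRingCat.of k))

/-- The generic rank of the direct image is the degree. -/
theorem finrank_stalk_push_proper [IsIntegral X] [IsIntegral Y] [IsProper (X ↘ Spec (CommRingCat.of k))]
    [IsProper (Y ↘ Spec (CommRingCat.of k))] (f : X ⟶ Y)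
    (hf : f ≫ (Y ↘ Spec (CommRingCat.of k)) = X ↘ Spec (CommRingCat.of k))
    (hξ : f (genericPoint X) = genericPoint Y) {d : ℕ} (hd : f.residueDegree (genericPoint X) = d) (hd0 : 0 < d) :
    Module.finrank (Y.presheaf.stalk (genericPoint Y))
        (((Scheme.Modules.pushforward f).obj (Coh.structureModule X)).presheaf.stalk (genericPoint Y)) = d := by
  haveI := isProper_map k f hf
  let p := X ↘ Spec (CommRingCat.of k)
  let q := Y ↘ Spec (CommRingCat.of k)
  have h0 : VarDim.fdeg f (genericPoint X) = 0 := by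
    rw [VarDim.fdeg, WeilLib.rdeg_eq_zero_of_residueDegree_ne_zero f _ (by omega), map_zero]
  have hfib : f ⁻¹' {genericPoint Y} = {genericPoint X} := by
    refine Set.eq_singleton_iff_unique_mem.2 ⟨hξ, fun a ha => by_contra fun hne => ?_⟩
    have h1 := VarDim.deg_eq_add f q hf a
    have h2 := VarDim.deg_eq_add f q hf (genericPoint X)
    rw [show f a = genericPoint Y from ha] at h1
    rw [h0, hξ, add_zero] at h2
    have h3 : VarDim.deg p a < VarDim.deg p (genericPoint X) :=
      NefCrit.deg_lt_of_mem_closure (k := k) (specializes_iff_mem_closure.1 (genericPoint_specializes a)) hne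
    change VarDim.deg p a = _ at h1
    change VarDim.deg p (genericPoint X) = _ at h2
    omega
  obtain ⟨V, hV, hηV, hfin⟩ := H23.ProjFormula.exists_affine_isFinite f (genericPoint Y) (hfib ▸ Set.finite_singleton _)
  have hV' : IsAffineOpen (f ⁻¹ᵁ V) := by
    haveI := hfin
    haveI : IsAffine V.toScheme := hV
    exact (isAffine_of_isAffineHom (f ∣_ V) : IsAffine _)
  rw [finrank_stalk_push f hξ hV hV' (hξ ▸ hηV), hd]

/-- Sections do not see the direct image. -/
theorem finrank_h0_push (f : X ⟶ Y) (hf : f ≫ (Y ↘ Spec (CommRingCat.of k)) = X ↘ Spec (CommRingCat.of k))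
    (M : X.Modules) :
    Module.finrank k (Coh.HH X M 0) = Module.finrank k (Coh.HH Y ((Scheme.Modules.pushforward f).obj M) 0) := by
  let e₁ : Coh.HH X M 0 ≃+ Γ(M, ⊤) := Sheaf.H.equiv₀ (Coh.toAb M) isTerminalTop
  let e₂ : Coh.HH Y ((Scheme.Modules.pushforward f).obj M) 0 ≃+ Γ(M, ⊤) :=
    Sheaf.H.equiv₀ (Coh.toAb ((Scheme.Modules.pushforward f).obj M)) isTerminalTop
  refine finrank_congr_top k _ id Function.bijective_id (e₁.trans e₂.symm) fun a m => ?_
  refine e₂.injective ?_
  rw [AddEquiv.trans_apply, e₂.apply_symm_apply]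
  refine (CurveCohLib.h0Equiv_smul M a m).trans (Eq.symm ?_)
  refine (CurveCohLib.h0Equiv_smul ((Scheme.Modules.pushforward f).obj M) a (e₂.symm (e₁ m))).trans ?_
  rw [show (Sheaf.H.equiv₀ (Coh.toAb ((Scheme.Modules.pushforward f).obj M)) isTerminalTop) (e₂.symm (e₁ m)) =
    e₁ m from e₂.apply_symm_apply _]
  refine congrArg (fun r : Γ(X, ⊤) => r • (show Γ(M, ⊤) from e₁ m)) ?_
  have h : (Y ↘ Spec (CommRingCat.of k)).appTop ≫ f.appTop = (X ↘ Spec (CommRingCat.of k)).appTop := by
    rw [← hf]; rfl
  have hid : ∀ (Z : Scheme.{u}) (r : Γ(Z, ⊤)), (show Γ(Z, ⊤) from Coh.resTop Z (op ⊤) r) = r := fun Z r =>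
    ConcreteCategory.congr_hom (Z.presheaf.map_id (op ⊤)) r
  change f.appTop.hom (show Γ(Y, ⊤) from Coh.resTop Y (op ⊤) (Coh.toGlobal (Y ↘ Spec (CommRingCat.of k)) a)) =
    (show Γ(X, ⊤) from Coh.resTop X (op ⊤) (Coh.toGlobal (X ↘ Spec (CommRingCat.of k)) a))
  rw [hid, hid]
  exact congr($h ((Scheme.ΓSpecIso (CommRingCat.of k)).inv a))

/-- The projection formula. -/
theorem nonempty_projection (f : X ⟶ Y) {P : Y.Modules} (hP : FlatMod.IsFinLocFree P) :
    Nonempty (CohB1.tensorMod ((Scheme.Modules.pushforward f).obj (Coh.structureModule X)) P ≅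
      (Scheme.Modules.pushforward f).obj ((Scheme.Modules.pullback f).obj P)) := by
  obtain ⟨φ⟩ := S0927.result f (Coh.structureModule X) P hP 0
  let ψ := (Scheme.Modules.pushforward f).rightDerivedZeroIsoSelf
  exact ⟨CurveTensor.commIso ((Scheme.Modules.pushforward f).obj (Coh.structureModule X)) P ≪≫
    (DCoh.tensorBi.obj P).mapIso (ψ.app (Coh.structureModule X)).symm ≪≫ φ ≪≫ ψ.app _ ≪≫
      (Scheme.Modules.pushforward f).mapIso (KFlatLib.tensorUnitIso ((Scheme.Modules.pullback f).obj P))⟩

/-- The twists of the direct image of the structure module are the pullbacks. -/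
theorem finrank_h0_pullback (f : X ⟶ Y)
    (hf : f ≫ (Y ↘ Spec (CommRingCat.of k)) = X ↘ Spec (CommRingCat.of k)) {P : Y.Modules}
    (hP : FlatMod.IsFinLocFree P) {Q : X.Modules} (t : Q ≅ (Scheme.Modules.pullback f).obj P) :
    Module.finrank k (Coh.HH X Q 0) =
      Module.finrank k (Coh.HH Y
        (CohB1.tensorMod ((Scheme.Modules.pushforward f).obj (Coh.structureModule X)) P) 0) := by
  obtain ⟨e⟩ := nonempty_projection f hP
  exact ((CurveCohLib.hhEquiv (k := k) t 0).finrank_eq.trans (finrank_h0_push k f hf _)).trans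
    (CurveCohLib.hhEquiv (k := k) e 0).finrank_eq.symm

/-- The twists of the direct image count sections of pullbacks of powers. -/
theorem finrank_h0_pullback_pow (f : X ⟶ Y)
    (hf : f ≫ (Y ↘ Spec (CommRingCat.of k)) = X ↘ Spec (CommRingCat.of k)) {L : Y.Modules}
    (hL : PicF.IsInvertible L) (m : ℕ) :
    Module.finrank k (Coh.HH X (CohB1.tensorPow ((Scheme.Modules.pullback f).obj L) m) 0) =
      Module.finrank k (Coh.HH Y
        (CohB1.tensorMod ((Scheme.Modules.pushforward f).obj (Coh.structureModule X)) (CohB1.tensorPow L m)) 0) :=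
  finrank_h0_pullback k f hf (H23.PullPush.isFinLocFree_of_isInvertible (InvX.isInvertible_tensorPow hL m))
    (AmpleVan.RelVanish.pullback_tensorPow f L m).some.symm

/-- Sections of pullbacks of powers along a generically finite map. -/
theorem exists_dist_pullback [IsIntegral X] [IsIntegral Y] [IsProper (X ↘ Spec (CommRingCat.of k))]
    [IsProper (Y ↘ Spec (CommRingCat.of k))] (f : X ⟶ Y)
    (hf : f ≫ (Y ↘ Spec (CommRingCat.of k)) = X ↘ Spec (CommRingCat.of k))
    (hξ : f (genericPoint X) = genericPoint Y) {d : ℕ} (hd : f.residueDegree (genericPoint X) = d) (hd0 : 0 < d)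
    {n : ℕ} (hn : topologicalKrullDim Y ≤ n) {L : Y.Modules} (hL : PicF.IsInvertible L) :
    ∃ C, ∀ m, Nat.dist (Module.finrank k (Coh.HH X (CohB1.tensorPow ((Scheme.Modules.pullback f).obj L) m) 0))
      (d * Module.finrank k (Coh.HH Y (CohB1.tensorPow L m) 0)) ≤ C * w n m := by
  haveI := CurveCohLib.isNoetherian_of_proper (k := k) (X := X)
  haveI := CurveCohLib.isNoetherian_of_proper (k := k) (X := Y)
  haveI := isProper_map k f hf
  obtain ⟨C, hC⟩ := exists_dist_rank k hn hL (ExistEasy.isCoh_pushforward_proper f QCoh.isCoh_structureModule')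
    (finrank_stalk_push_proper k f hf hξ hd hd0) 0
  exact ⟨C, fun m => le_of_eq_of_le (by rw [finrank_h0_pullback_pow k f hf hL m]) (hC m)⟩

end Groth.Agent.GenFinPush
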