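import Groth.Agent.GrpSchLib.CoincidenceBase
import Groth.Agent.GrpSchLib.WeilClosed
import Mathlib.CategoryTheory.Monoidal.Cartesian.Grp

/-! The closed locus of the base over which a finite flat closed subscheme of a group scheme is a subgroup. -/

set_option autoImplicit false
set_option backward.isDefEq.respectTransparency false
set_option linter.style.haveILetI false

universe u

open CategoryTheory CategoryTheory.Limits AlgebraicGeometry MonObj

namespace Groth.Agent.GrpSubgroupLocus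

open Groth.Agent

open MonoidalCategory CartesianMonoidalCategory

set_option maxHeartbeats 1000000

variable {S : Scheme.{u}}

/-- Points of `X` factoring through a closed subscheme are cut out by the kernel. -/
theorem exists_factor_iff {Z X T : Scheme.{u}} (i : Z ⟶ X) [IsClosedImmersion i] (g : T ⟶ X) :
    (∃ t : T ⟶ Z, t ≫ i = g) ↔ i.ker ≤ g.ker := by
  refine ⟨?_, fun h => ⟨IsClosedImmersion.lift i g h, IsClosedImmersion.lift_fac _ _ _⟩⟩
  rintro ⟨t, rfl⟩
  exact t.le_ker_comp i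

/-- The closed locus of the base over which all points of `W` map into a closed subscheme. -/
theorem exists_locus {W E : Over S} [IsFinite W.hom] [Flat W.hom] [LocallyOfFinitePresentation W.hom]
    (m : W ⟶ E) {Z : Scheme.{u}} (i : Z ⟶ E.left) [IsClosedImmersion i] :
    ∃ 𝓩 : S.IdealSheafData, ∀ (T : Scheme.{u}) (g : T ⟶ S),
      𝓩 ≤ g.ker ↔ ∀ (T' : Scheme.{u}) (a : T' ⟶ T) (w : Over.mk (a ≫ g) ⟶ W),
        ∃ d : T' ⟶ Z, d ≫ i = (w ≫ m).left := by
  let one : Over S := 𝟙_ (Over S)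
  let f : (W ⊗ one).left ⟶ E.left := (fst W one ≫ m).left
  haveI : IsClosedImmersion (pullback.fst f i) := MorphismProperty.pullback_fst _ _ inferInstance
  obtain ⟨Y, y, hy, huniv⟩ := GrpSchLib.exists_weilRestriction
    (GrpSchLib.hasIdeals_of_finite_flat (W := W) (X := one) (pullback.fst f i))
  haveI := hy
  refine ⟨y.ker, fun T g => ?_⟩
  rw [← exists_factor_iff y g, huniv T g]
  constructor
  · rintro ⟨l, hl⟩ T' a w
    let p : Over.mk (a ≫ g) ⟶ W ⊗ one := lift w (toUnit _)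
    have hp : a ≫ g = p.left ≫ (snd W one).left := by
      rw [← Over.comp_left]
      exact (Over.w (p ≫ snd W one)).symm.trans (Category.comp_id _)
    refine ⟨pullback.lift a p.left hp ≫ l ≫ pullback.snd f i, ?_⟩
    rw [Category.assoc, Category.assoc, ← pullback.condition, reassoc_of% hl, pullback.lift_snd_assoc]
    show p.left ≫ (fst W one ≫ m).left = _
    rw [← Over.comp_left, lift_fst_assoc]
  · intro h
    let q := pullback.snd g (snd W one).left
    have hw : (q ≫ (fst W one).left) ≫ W.hom = pullback.fst g (snd W one).left ≫ g := by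
      rw [Category.assoc, Over.w, pullback.condition]
      congr 1
      exact ((Over.w (snd W one)).symm.trans (Category.comp_id _))
    obtain ⟨d, hd⟩ := h (pullback g (snd W one).left) (pullback.fst _ _)
      (Over.homMk (q ≫ (fst W one).left) hw)
    refine ⟨pullback.lift q d ?_, pullback.lift_fst _ _ _⟩
    show q ≫ (fst W one ≫ m).left = d ≫ i
    rw [hd, Over.comp_left, Over.comp_left]
    exact (Category.assoc _ _ _).symm

/-- The closed locus of the base over which a finite flat closed subscheme of a group scheme is a subgroup. -/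
theorem closed_subgroup_locus (E : Over S) [GrpObj E] {Z : Scheme.{u}} (i : Z ⟶ E.left) [IsClosedImmersion i]
    [IsFinite (i ≫ E.hom)] [Flat (i ≫ E.hom)] [LocallyOfFinitePresentation (i ≫ E.hom)] :
    ∃ 𝓩 : S.IdealSheafData, ∀ (T : Scheme.{u}) (g : T ⟶ S),
      (∃ t : T ⟶ 𝓩.subscheme, t ≫ 𝓩.subschemeι = g) ↔
        ∀ (T' : Scheme.{u}) (a : T' ⟶ T), ∃ H : Subgroup (Over.mk (a ≫ g) ⟶ E),
          (H : Set (Over.mk (a ≫ g) ⟶ E)) = {x | ∃ d : T' ⟶ Z, d ≫ i = x.left} := by
  let D : Over S := Over.mk (i ≫ E.hom)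
  let inc : D ⟶ E := Over.homMk i rfl
  haveI : IsFinite D.hom := ‹IsFinite (i ≫ E.hom)›
  haveI : Flat D.hom := ‹Flat (i ≫ E.hom)›
  haveI : LocallyOfFinitePresentation D.hom := ‹LocallyOfFinitePresentation (i ≫ E.hom)›
  haveI : IsFinite (D ⊗ D).hom := inferInstanceAs (IsFinite (pullback.fst D.hom D.hom ≫ D.hom))
  haveI : Flat (D ⊗ D).hom := inferInstanceAs (Flat (pullback.fst D.hom D.hom ≫ D.hom))
  haveI : LocallyOfFinitePresentation (D ⊗ D).hom :=
    inferInstanceAs (LocallyOfFinitePresentation (pullback.fst D.hom D.hom ≫ D.hom))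
  haveI : IsFinite (𝟙_ (Over S)).hom := inferInstanceAs (IsFinite (𝟙 S))
  haveI : Flat (𝟙_ (Over S)).hom := inferInstanceAs (Flat (𝟙 S))
  haveI : LocallyOfFinitePresentation (𝟙_ (Over S)).hom := inferInstanceAs (LocallyOfFinitePresentation (𝟙 S))
  obtain ⟨Z₁, h₁⟩ := exists_locus (η[E] : 𝟙_ (Over S) ⟶ E) i
  obtain ⟨Z₂, h₂⟩ := exists_locus ((inc ⊗ₘ inc) ≫ μ[E]) i
  obtain ⟨Z₃, h₃⟩ := exists_locus (inc ≫ GrpObj.inv) i
  refine ⟨Z₁ ⊔ Z₂ ⊔ Z₃, fun T g => ?_⟩
  rw [exists_factor_iff, Scheme.IdealSheafData.ker_subschemeι, sup_le_iff, sup_le_iff, h₁, h₂, h₃]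
  have pt : ∀ {T' : Scheme.{u}} {a : T' ⟶ T} (x : Over.mk (a ≫ g) ⟶ E) (d : T' ⟶ Z),
      d ≫ i = x.left → ∃ w : Over.mk (a ≫ g) ⟶ D, w ≫ inc = x := fun {T' a} x d hd => by
    refine ⟨Over.homMk d (by show d ≫ i ≫ E.hom = _; rw [← Category.assoc, hd, Over.w]), ?_⟩
    ext
    exact hd
  constructor
  · rintro ⟨⟨hone, hmul⟩, hinv⟩ T' a
    refine ⟨{ carrier := {x | ∃ d : T' ⟶ Z, d ≫ i = x.left}, mul_mem' := ?_, one_mem' := ?_, inv_mem' := ?_ }, rfl⟩
    · rintro x y ⟨d, hd⟩ ⟨d', hd'⟩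
      obtain ⟨v, rfl⟩ := pt x d hd
      obtain ⟨v', rfl⟩ := pt y d' hd'
      obtain ⟨e, he⟩ := hmul T' a (lift v v')
      refine ⟨e, ?_⟩
      rw [Hom.mul_def, ← lift_map_assoc]
      exact he
    · obtain ⟨e, he⟩ := hone T' a (toUnit _)
      refine ⟨e, ?_⟩
      rw [Hom.one_def]
      exact he
    · rintro x ⟨d, hd⟩
      obtain ⟨v, rfl⟩ := pt x d hd
      obtain ⟨e, he⟩ := hinv T' a v
      refine ⟨e, ?_⟩
      rw [Hom.inv_def, Category.assoc]
      exact he
  · intro h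
    refine ⟨⟨fun T' a w => ?_, fun T' a w => ?_⟩, fun T' a w => ?_⟩ <;> obtain ⟨H, hH⟩ := h T' a
    · have h1 : (1 : Over.mk (a ≫ g) ⟶ E) ∈ (H : Set _) := H.one_mem
      rw [hH] at h1
      rw [toUnit_unique w (toUnit _), ← Hom.one_def]
      exact h1
    · have hfac : ∀ v : Over.mk (a ≫ g) ⟶ D, v ≫ inc ∈ H := fun v => by
        rw [← SetLike.mem_coe]
        rw [hH]
        exact ⟨v.left, rfl⟩
      have h1 : (w ≫ fst D D ≫ inc) * (w ≫ snd D D ≫ inc) ∈ (H : Set _) :=
        H.mul_mem (by rw [← Category.assoc]; exact hfac _) (by rw [← Category.assoc]; exact hfac _)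
      rw [hH, Hom.mul_def] at h1
      rw [show w ≫ (inc ⊗ₘ inc) ≫ μ[E] = lift (w ≫ fst D D ≫ inc) (w ≫ snd D D ≫ inc) ≫ μ[E] by
        rw [← Category.assoc]; congr 1; ext <;> simp]
      exact h1
    · have h1 : (w ≫ inc)⁻¹ ∈ (H : Set _) := H.inv_mem (by
        rw [← SetLike.mem_coe]
        rw [hH]
        exact ⟨w.left, rfl⟩)
      rw [hH, Hom.inv_def, Category.assoc] at h1
      exact h1

end Groth.Agent.GrpSubgroupLocus
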