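import Groth.Agent.Lib.IntPush
import Groth.Agent.Lib.DegPullFinite
import Groth.Agent.AlgSpLib.CartierRegular
import Groth.Agent.S2266

/-!
Intersection numbers: multiplicities of components and pullbacks.
-/

set_option autoImplicit false
set_option linter.style.haveILetI false
set_option linter.unusedSectionVars false
set_option backward.isDefEq.respectTransparency false
set_option backward.isDefEq.respectTransparency.types false
set_option maxHeartbeats 1000000

universe u

open CategoryTheory CategoryTheory.Limits AlgebraicGeometry TopologicalSpace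
open Groth.Agent.H23 Groth.Agent.H23.PicMul
open Groth.Agent.H23.IntNumCycle (alt)

noncomputable section

namespace Groth.Agent.IntAlt

variable (k : Type u) [Field k] {X : Scheme.{u}} [X.Over (Spec (CommRingCat.of k))]
  [IsProper (X ↘ Spec (CommRingCat.of k))]

theorem delta_eq_iff (ξ : X) (d : ℕ) :
    topologicalKrullDim ↥(closure ({ξ} : Set X)) = (d : WithBot ℕ∞) ↔ SnapLead.δ k ξ = (d : ℤ) := by
  rw [SnapLead.dim_closure k]
  simp only [SnapLead.δ]
  norm_cast

/-- The quotient by the ideal of a closure is its structure sheaf. -/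
theorem nonempty_quot_ptIdeal (ξ : X) :
    Nonempty (ClSub.quotMod (IntMult.ptIdeal ξ) ≅ Cyc.closureStructureSheaf ξ) := by
  obtain ⟨e⟩ := DivisorExt.nonempty_quotMod_iso (IntMult.ptIdeal ξ).subschemeι
  rw [Scheme.IdealSheafData.ker_subschemeι] at e
  first
    | exact ⟨e⟩
    | exact ⟨e.symm⟩

theorem coeff_closure {d : ℕ} {ξ : X} (h : SnapLead.δ k ξ = (d : ℤ)) {L : Fin d → X.Modules}
    (hL : ∀ i, PicF.IsInvertible (L i)) (Q : MvPolynomial (Fin d) ℚ)
    (hQ : ∀ n : Fin d → ℕ, (Curv2.euler k X (Curv2.tensorPows (ClSub.quotMod (IntMult.ptIdeal ξ)) d L n) : ℚ) =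
      MvPolynomial.eval (fun i => (n i : ℚ)) Q) :
    Q.coeff (IntCoeff.ones d) = (((-1 : ℤ) ^ d * alt k d L (Cyc.closureStructureSheaf ξ) : ℤ) : ℚ) := by
  haveI := CurveCohLib.isNoetherian_of_proper (k := k) (X := X)
  obtain ⟨e⟩ := nonempty_quot_ptIdeal ξ
  refine coeff_eq_alt k (SnapLead.cohLe_closure k h) hL Q fun n => ?_
  rw [← hQ n]
  exact congrArg Int.cast (CurveCohLib.euler_congr (k := k) (Snapper.tensorPows_congr L n e).some).symm

/-- Multiplicities of the components. -/
theorem coeff_eq_sum {d : ℕ} (D : X.IdealSheafData) (hD : topologicalKrullDim (D.support : Set X) = d)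
    {L : Fin d → X.Modules} (hL : ∀ i, PicF.IsInvertible (L i)) (P : MvPolynomial (Fin d) ℚ)
    (hP : ∀ n : Fin d → ℕ, (Curv2.euler k X (Curv2.tensorPows (ClSub.quotMod D) d L n) : ℚ) =
      MvPolynomial.eval (fun i => (n i : ℚ)) P)
    (Q : X → MvPolynomial (Fin d) ℚ)
    (hQ : ∀ ξ : X, topologicalKrullDim (closure ({ξ} : Set X)) = (d : WithBot ℕ∞) →
      ∀ n : Fin d → ℕ, (Curv2.euler k X (Curv2.tensorPows (ClSub.quotMod (IntMult.ptIdeal ξ)) d L n) : ℚ) =
        MvPolynomial.eval (fun i => (n i : ℚ)) (Q ξ)) :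
    P.coeff (IntCoeff.ones d) =
      ∑ᶠ ξ : X, (if topologicalKrullDim (closure ({ξ} : Set X)) = (d : WithBot ℕ∞) then
        ((Module.length (X.presheaf.stalk ξ) ((ClSub.quotMod D).presheaf.stalk ξ)).toNat : ℚ) *
          (Q ξ).coeff (IntCoeff.ones d) else 0) := by
  classical
  haveI := CurveCohLib.isNoetherian_of_proper (k := k) (X := X)
  have hle : Cyc.CohLe (SnapLead.δ k) d (ClSub.quotMod D) :=
    SnapLead.cohLe_of_dim k (ParShLib.isCoh_quotMod D) ((IntCoeff.dim_support_quotMod_le D).trans hD.le)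
  let S := (finite_sheafFun k hle).toFinset
  have hS : ∀ ξ ∈ S, SnapLead.δ k ξ = (d : ℤ) := fun ξ hξ => by
    have h := (finite_sheafFun k hle).mem_toFinset.1 hξ
    by_contra hne
    exact h (by simp only [Cyc.sheafFun, if_neg hne])
  rw [coeff_eq_alt k hle hL P hP,
    alt_eq_sum_closure k hL hle S hS fun ξ hξ => (finite_sheafFun k hle).mem_toFinset.2 hξ,
    finsum_eq_sum_of_support_subset _ (s := S) ?_, Finset.mul_sum, Int.cast_sum]
  · refine Finset.sum_congr rfl fun ξ hξ => ?_
    have hd := (delta_eq_iff k ξ d).2 (hS ξ hξ)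
    rw [if_pos hd, coeff_closure k (hS ξ hξ) hL (Q ξ) (hQ ξ hd), Cyc.sheafFun, if_pos (hS ξ hξ)]
    push_cast
    ring
  · intro ξ hξ
    simp only [Function.mem_support, ne_eq, ite_eq_right_iff, not_forall] at hξ
    obtain ⟨hdim, hne⟩ := hξ
    refine (finite_sheafFun k hle).mem_toFinset.2 ?_
    simp only [Function.mem_support, Cyc.sheafFun, (delta_eq_iff k ξ d).1 hdim, if_true, ne_eq, Nat.cast_eq_zero]
    intro h0
    exact hne (by simp [h0])

variable {Y : Scheme.{u}} [Y.Over (Spec (CommRingCat.of k))] [IsProper (Y ↘ Spec (CommRingCat.of k))]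

theorem residueDegree_preimmersion {Z : Scheme.{u}} (i : Z ⟶ Y) [IsPreimmersion i] (z : Z) :
    i.residueDegree z = 1 := CycLib.residueDegree_preimmersion i z

/-- Intersection numbers and pullback. -/
theorem coeff_pullback (f : Y ⟶ X)
    (hf : f ≫ (X ↘ Spec (CommRingCat.of k)) = Y ↘ Spec (CommRingCat.of k))
    (Z : Y.IdealSheafData) [IsIntegral Z.subscheme] {d : ℕ}
    (hZ : topologicalKrullDim (Z.support : Set Y) = d)
    {L : Fin d → X.Modules} (hL : ∀ i, PicF.IsInvertible (L i)) (PY PX : MvPolynomial (Fin d) ℚ)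
    (hPY : ∀ n : Fin d → ℕ, (Curv2.euler k Y (Curv2.tensorPows (ClSub.quotMod Z) d
      (fun i => (Scheme.Modules.pullback f).obj (L i)) n) : ℚ) = MvPolynomial.eval (fun i => (n i : ℚ)) PY)
    (hPX : ∀ n : Fin d → ℕ, (Curv2.euler k X (Curv2.tensorPows (ClSub.quotMod (Z.subschemeι ≫ f).ker) d L n) : ℚ) =
      MvPolynomial.eval (fun i => (n i : ℚ)) PX) :
    PY.coeff (IntCoeff.ones d) =
      ((Z.subschemeι ≫ f).residueDegree (genericPoint Z.subscheme) : ℚ) * PX.coeff (IntCoeff.ones d) := by
  classical
  haveI := CurveCohLib.isNoetherian_of_proper (k := k) (X := X)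
  haveI := CurveCohLib.isNoetherian_of_proper (k := k) (X := Y)
  haveI := IntPush.isProper k f hf
  let g := Z.subschemeι ≫ f
  let η := Z.subschemeι (genericPoint Z.subscheme)
  let ξ := f η
  have hclη : closure ({η} : Set Y) = (Z.support : Set Y) := by
    refine Set.Subset.antisymm (closure_minimal (Set.singleton_subset_iff.2 (Z.range_subschemeι ▸ ⟨_, rfl⟩))
      Z.support.isClosed) fun x hx => ?_
    obtain ⟨c, rfl⟩ : x ∈ Set.range Z.subschemeι := by rw [Z.range_subschemeι]; exact hx
    exact specializes_iff_mem_closure.1 ((genericPoint_specializes c).map Z.subschemeι.continuous)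
  have hηd : SnapLead.δ k η = (d : ℤ) := (delta_eq_iff k η d).1 (by rw [hclη]; exact hZ)
  have hZpt : Z = IntMult.ptIdeal η := by
    rw [IntMult.ptIdeal, AlgSpLib.CartierRegular.eq_vanishingIdeal_support Z]
    congr 1
    exact Closeds.ext hclη.symm
  have hker : g.ker = IntMult.ptIdeal ξ := by
    haveI : IsReduced g.image := (S2266.result g).1
    haveI : IsReduced g.ker.subscheme := ‹IsReduced g.image›
    rw [IntMult.ptIdeal, AlgSpLib.CartierRegular.eq_vanishingIdeal_support g.ker]
    congr 1
    refine Closeds.ext ?_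
    rw [Scheme.Hom.support_ker]
    show closure (Set.range g) = closure ({ξ} : Set X)
    refine Set.Subset.antisymm (closure_minimal ?_ isClosed_closure)
      (closure_mono (Set.singleton_subset_iff.2 ⟨genericPoint Z.subscheme, rfl⟩))
    rintro _ ⟨c, rfl⟩
    exact specializes_iff_mem_closure.1 ((genericPoint_specializes c).map g.continuous)
  have hres : g.residueDegree (genericPoint Z.subscheme) = f.residueDegree η := by
    show (Z.subschemeι ≫ f).residueDegree _ = _
    rw [CycLib.residueDegree_comp, residueDegree_preimmersion Z.subschemeι, mul_one]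
  have hle : Cyc.CohLe (SnapLead.δ k) d (Cyc.closureStructureSheaf η) := SnapLead.cohLe_closure k hηd
  obtain ⟨a, ha⟩ := IntNumCycle.main.exists_cycle (SnapLead.isDimFun k) hle
  have haη : ∀ x, a x = if x = η then 1 else 0 := fun x => by
    rw [ha, SnapLead.sheafFun_closure k hηd]
  have hmap : ∀ x, AlgebraicCycle.map f (SnapLead.δ k) (SnapLead.δ k) a x =
      if x = ξ then (AlgebraicCycle.mapCoeff f (SnapLead.δ k) (SnapLead.δ k) η : ℤ) else 0 := fun x => by
    rw [CycLib.map_apply']
    split_ifs with hx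
    · rw [finsum_mem_eq_sum_of_inter_support_eq (t := {η}) _ ?_, Finset.sum_singleton, haη, if_pos rfl, one_mul]
      ext y
      simp only [Set.mem_inter_iff, Set.mem_preimage, Set.mem_singleton_iff, Function.mem_support,
        Finset.coe_singleton]
      refine ⟨fun h => ⟨?_, h.2⟩, fun h => ⟨?_, h.2⟩⟩
      · by_contra hne
        exact h.2 (by rw [haη, if_neg hne, zero_mul])
      · rw [h.1, hx]
    · refine finsum_mem_eq_zero_of_forall_eq_zero fun y hy => ?_
      rw [haη, if_neg, zero_mul]
      rintro rfl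
      exact hx hy.symm
  rw [hres, coeff_eq_alt k hle (fun i => PicClLib.isInvertible_pullback f (hL i)) PY fun n => by
    obtain ⟨e⟩ := nonempty_quot_ptIdeal η
    rw [← hPY n, hZpt]
    exact congrArg Int.cast (CurveCohLib.euler_congr (k := k) (Snapper.tensorPows_congr _ n e).some).symm]
  by_cases hξd : SnapLead.δ k ξ = (d : ℤ)
  · rw [IntPush.alt_pullback k f hf hL hle a ha {ξ} (fun x hx => by rw [Finset.mem_singleton.1 hx]; exact hξd)
      (fun x hx => by
        rw [hmap] at hx
        exact Finset.mem_singleton.2 (by_contra fun hne => hx (if_neg hne))),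
      Finset.sum_singleton, hmap, if_pos rfl, coeff_closure k hξd hL PX (fun n => by rw [← hPX n, hker]),
      AlgebraicCycle.mapCoeff, if_pos (hηd.trans hξd.symm)]
    push_cast
    ring
  · rw [IntPush.alt_pullback k f hf hL hle a ha ∅ (by simp) (fun x hx => by
      rw [hmap] at hx
      refine absurd ?_ hx
      split_ifs
      · rw [AlgebraicCycle.mapCoeff, if_neg fun h => hξd (h.symm.trans hηd)]
        rfl
      · rfl)]
    have hrd : (f.residueDegree η : ℚ) * PX.coeff (IntCoeff.ones d) = 0 := by
      refine mul_eq_zero_of_left ?_ _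
      rw [Nat.cast_eq_zero]
      by_contra h0
      refine hξd ?_
      have h1 : VarDim.rdeg f η = 0 := by
        letI := (f.residueFieldMap η).hom.toAlgebra
        haveI : Module.Finite (X.residueField (f η)) (Y.residueField η) :=
          Module.finite_of_finrank_pos (Nat.pos_of_ne_zero h0)
        exact trdeg_eq_zero
      have h2 := CycLib.deltaCompat_eq f (IntPush.deltaCompat k f hf) η
      rw [← FibDim.rd_eq_rdeg] at h1
      rw [Nat.cast_eq_zero.1 h1] at h2
      show SnapLead.δ k (f η) = _
      omega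
    rw [hrd]
    simp

end Groth.Agent.IntAlt
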