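import Groth.Agent.Lib.IntCoeff
import Groth.Agent.Lib.SurfNegDef
import Groth.Agent.Nakai.SemiAmple
import Groth.Agent.AlgSpLib.CartierDim
import Groth.Agent.S8914

/-!
Intersection numbers with an effective Cartier divisor; intersection numbers on curves.
-/

set_option autoImplicit false
set_option linter.style.haveILetI false
set_option linter.unusedSectionVars false
set_option backward.isDefEq.respectTransparency false
set_option backward.isDefEq.respectTransparency.types false
set_option maxHeartbeats 800000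

universe u

open CategoryTheory AlgebraicGeometry TopologicalSpace Groth.Agent.H23 Groth.Agent.H23.PicMul

noncomputable section

namespace Groth.Agent.IntCoeff

attribute [local instance] PicMul.clMonoid

open MvPolynomial

variable {k : Type u} [Field k] {X : Scheme.{u}} [X.Over (Spec (CommRingCat.of k))]
  [IsProper (X ↘ Spec (CommRingCat.of k))]

/-- Splitting a sum over subsets according to the first element. -/
theorem sum_split {d : ℕ} {A : Type*} [AddCommMonoid A] (f : Finset (Fin (d + 1)) → A) :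
    ∑ I : Finset (Fin (d + 1)), f I =
      ∑ J : Finset (Fin d), (f (J.map (Fin.succEmb d)) + f (insert 0 (J.map (Fin.succEmb d)))) := by
  classical
  have h0 : ∀ J : Finset (Fin d), (0 : Fin (d + 1)) ∉ J.map (Fin.succEmb d) := fun J => by
    simp [Fin.succ_ne_zero]
  have hu : (Finset.univ : Finset (Fin (d + 1))) = insert 0 (Finset.univ.map (Fin.succEmb d)) := by
    ext i
    simp only [Finset.mem_univ, Finset.mem_insert, Finset.mem_map, true_iff]
    exact (Fin.eq_zero_or_eq_succ i).imp_right fun ⟨j, hj⟩ => ⟨j, trivial, hj.symm⟩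
  have hp : (Finset.univ.map (Fin.succEmb d)).powerset =
      Finset.univ.map ⟨fun J : Finset (Fin d) => J.map (Fin.succEmb d), Finset.map_injective _⟩ := by
    ext I
    simp only [Finset.mem_powerset, Finset.subset_map_iff, Finset.mem_map, Finset.mem_univ,
      Finset.subset_univ, true_and, Function.Embedding.coeFn_mk]
    exact ⟨fun ⟨J, h⟩ => ⟨J, h.symm⟩, fun ⟨J, h⟩ => ⟨J, h.symm⟩⟩
  rw [← Finset.powerset_univ, hu, Finset.sum_powerset_insert (h0 _), hp, Finset.sum_map, Finset.sum_map,
    Finset.sum_add_distrib]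
  rfl

theorem card_compl_map {d : ℕ} (J : Finset (Fin d)) :
    (Finset.univ \ J.map (Fin.succEmb d)).card = (Finset.univ \ J).card + 1 := by
  classical
  have := J.card_le_univ
  rw [Finset.card_univ_diff, Finset.card_univ_diff, Finset.card_map]
  simp only [Fintype.card_fin] at *
  omega

theorem card_compl_insert {d : ℕ} (J : Finset (Fin d)) :
    (Finset.univ \ insert 0 (J.map (Fin.succEmb d))).card = (Finset.univ \ J).card := by
  classical
  have := J.card_le_univ
  rw [Finset.card_univ_diff, Finset.card_univ_diff, Finset.card_insert_of_notMem (by simp [Fin.succ_ne_zero]),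
    Finset.card_map]
  simp only [Fintype.card_fin] at *
  omega

theorem ind_map {d : ℕ} (J : Finset (Fin d)) :
    ind (J.map (Fin.succEmb d)) = Fin.cons 0 (ind J) := by
  classical
  funext i
  induction i using Fin.cases with
  | zero => simp [ind, Fin.succ_ne_zero]
  | succ j => simp [ind]

theorem ind_insert {d : ℕ} (J : Finset (Fin d)) :
    ind (insert 0 (J.map (Fin.succEmb d))) = Fin.cons 1 (ind J) := by
  classical
  funext i
  induction i using Fin.cases with
  | zero => simp [ind]
  | succ j => simp [ind, Fin.succ_ne_zero]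

/-- The mixed difference in the first variable. -/
theorem sum_diff_succ {d : ℕ} (P : MvPolynomial (Fin (d + 1)) ℚ) (hP : P.totalDegree ≤ d + 1) :
    ∑ J : Finset (Fin d), (-1 : ℚ) ^ (Finset.univ \ J).card *
      (eval (fun i => ((Fin.cons 1 (ind J) : Fin (d + 1) → ℕ) i : ℚ)) P -
        eval (fun i => ((Fin.cons 0 (ind J) : Fin (d + 1) → ℕ) i : ℚ)) P) = P.coeff (ones (d + 1)) := by
  rw [← sum_diff P hP, sum_split]
  refine Finset.sum_congr rfl fun J _ => ?_
  rw [card_compl_map, card_compl_insert, ind_map, ind_insert, pow_succ]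
  ring

variable (k) in
/-- The Euler characteristic of the restriction to a divisor. -/
theorem euler_divisor (D : X.IdealSheafData) (hD : PicF.IsInvertible (ClSub.idealMod D)) {M : X.Modules}
    (hM : PicF.IsInvertible M) :
    Curv2.euler k X (CohB1.tensorMod (ClSub.quotMod D) M) =
      SurfPairing.χ k (PicF.cl M) - SurfPairing.χ k (PicF.cl (ClSub.idealMod D) * PicF.cl M) := by
  haveI := CurveCohLib.isNoetherian_of_proper (k := k) (X := X)
  have h := SurfNegDef.euler_quot_tensor (k := k) D hD hM
  have h2 := CurveCohLib.euler_additive (k := k) (DivisorExt.ideal_shortExact D)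
    (AmpleVan.isCoh_invertible hD) QCoh.isCoh_structureModule' (ParShLib.isCoh_quotMod _)
  replace h2 : Curv2.euler k X (Coh.structureModule X) =
      Curv2.euler k X (ClSub.idealMod D) + Curv2.euler k X (ClSub.quotMod D) := h2
  rw [SurfPairing.pair, SurfPairing.χ_one, SurfPairing.χ_cl] at h
  linarith

/-- An effective Cartier divisor has smaller dimension. -/
theorem dim_divisor_le {e : ℕ} (hX : topologicalKrullDim X = e + 1) (D : X.IdealSheafData)
    (hD : FGA.IsEffCartier D) : topologicalKrullDim (D.support : Set X) ≤ (e : WithBot ℕ∞) := by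
  haveI : Nonempty X := by
    by_contra h
    haveI := not_nonempty_iff.1 h
    haveI : IsEmpty (IrreducibleCloseds X) := ⟨fun Z => Z.isIrreducible.nonempty.elim fun x _ => isEmptyElim x⟩
    have h1 : topologicalKrullDim X ≤ ⊥ := le_of_eq Order.krullDim_eq_bot
    rw [hX] at h1
    simp at h1
  have h := AlgSpLib.CartierDim.topologicalKrullDim_lt (W := X) D.support.isClosed (fun z _ => ?_)
    (by rw [hX]; exact fun h => ENat.coe_ne_top (e + 1) (WithBot.coe_inj.1 ((show (((e + 1 : ℕ) : ℕ∞) : WithBot ℕ∞) = (e : WithBot ℕ∞) + 1 by push_cast; rfl).trans h)))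
  · rw [hX] at h
    revert h
    generalize topologicalKrullDim (D.support : Set X) = a
    intro h
    cases a with
    | bot => exact bot_le
    | coe a =>
      rw [show ((e : WithBot ℕ∞) + 1) = (((e + 1 : ℕ) : ℕ∞) : WithBot ℕ∞) by push_cast; rfl, WithBot.coe_lt_coe] at h
      rw [show ((e : WithBot ℕ∞)) = (((e : ℕ) : ℕ∞) : WithBot ℕ∞) by rfl, WithBot.coe_le_coe]
      cases a with
      | top => simp at h
      | coe a => exact_mod_cast Nat.lt_succ_iff.1 (by exact_mod_cast h)
  · obtain ⟨y, hy, hyz⟩ := ModPairLib.exists_specializes_mem_interior (I := D) hD z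
    exact ⟨y, hy, hyz⟩

variable (k) in
/-- The intersection number with a divisor. -/
theorem coeff_effCartier {e : ℕ} (hX : topologicalKrullDim X = e + 1) (D : X.IdealSheafData)
    (hD : FGA.IsEffCartier D) {L : Fin (e + 1) → X.Modules} (hL : ∀ j, PicF.IsInvertible (L j))
    (hLD : ClSub.IsInverseOf (L 0) (ClSub.idealMod D))
    (P : MvPolynomial (Fin (e + 1)) ℚ) (Q : MvPolynomial (Fin e) ℚ)
    (hP : ∀ n : Fin (e + 1) → ℕ, (Curv2.euler k X (Curv2.tensorPows (Coh.structureModule X) (e + 1) L n) : ℚ) =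
      eval (fun i => (n i : ℚ)) P)
    (hQ : ∀ n : Fin e → ℕ, (Curv2.euler k X (Curv2.tensorPows (ClSub.quotMod D) e (fun j => L j.succ) n) : ℚ) =
      eval (fun i => (n i : ℚ)) Q) : P.coeff (ones (e + 1)) = Q.coeff (ones e) := by
  haveI := CurveCohLib.isNoetherian_of_proper (k := k) (X := X)
  have hI : PicF.IsInvertible (ClSub.idealMod D) := (S8914.result D).2 hD
  have hdD := dim_divisor_le hX D hD
  have hq := ParShLib.isCoh_quotMod D
  have hdimO : topologicalKrullDim ↥(CohB1.support (Coh.structureModule X)) ≤ ((e + 1 : ℕ) : WithBot ℕ∞) := by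
    refine (Topology.IsInducing.topologicalKrullDim_le (Topology.IsInducing.subtypeVal)).trans ?_
    rw [hX]; norm_cast
  have hPd := totalDegree_le k QCoh.isCoh_structureModule' hL hdimO P hP
  have hdq := (dim_support_quotMod_le D).trans hdD
  have hQd := totalDegree_le k hq (fun j => hL j.succ) hdq Q hQ
  obtain ⟨R, hRd, hRn⟩ := Snapper.exists_mpoly k hL hq hdq
  have hR0 : R.coeff (ones (e + 1)) = 0 := by
    refine MvPolynomial.notMem_support_iff.1 fun hm => ?_
    have := (le_totalDegree hm).trans hRd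
    rw [Finsupp.sum_fintype _ _ (fun _ => rfl)] at this
    simp at this
  rw [← sum_diff_succ P hPd, ← sum_diff Q hQd, ← sub_eq_zero, ← hR0, ← sum_diff_succ R (hRd.trans e.le_succ),
    ← Finset.sum_sub_distrib]
  refine Finset.sum_congr rfl fun J _ => ?_
  rw [← hP, ← hP, ← hQ, ← hRn, ← hRn]
  let m := ∏ i : Fin e, PicF.cl (L i.succ) ^ ind J i
  let n₁ : Fin (e + 1) → ℕ := Fin.cons 1 (ind J)
  let n₀ : Fin (e + 1) → ℕ := Fin.cons 0 (ind J)
  have c1 : ∀ F : X.Modules, PicF.cl (Curv2.tensorPows F (e + 1) L n₁) = PicF.cl F * (PicF.cl (L 0) * m) := by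
    intro F
    rw [cl_tensorPows, Fin.prod_univ_succ]
    simp [n₁, m]
  have c0 : ∀ F : X.Modules, PicF.cl (Curv2.tensorPows F (e + 1) L n₀) = PicF.cl F * m := by
    intro F
    rw [cl_tensorPows, Fin.prod_univ_succ]
    simp [n₀, m]
  have cQ : PicF.cl (Curv2.tensorPows (ClSub.quotMod D) e (fun j => L j.succ) (ind J)) =
      PicF.cl (ClSub.quotMod D) * m := cl_tensorPows _ _ _
  obtain ⟨a⟩ := hLD
  have hinv : PicF.cl (ClSub.idealMod D) * PicF.cl (L 0) = 1 := by
    rw [mul_comm, ← cl_tensor, PicMul.one_def]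
    exact cl_eq_iff.2 ⟨a⟩
  have hO : PicF.cl (Coh.structureModule X) = 1 := PicMul.one_def.symm
  have hM : PicF.IsInvertible (Curv2.tensorPows (Coh.structureModule X) (e + 1) L n₁) :=
    isInvertible_tensorPows hL n₁
  have hdiv := euler_divisor k D hI hM
  rw [c1, hO, one_mul, ← mul_assoc, hinv, one_mul] at hdiv
  have e1 : Curv2.euler k X (CohB1.tensorMod (ClSub.quotMod D) (Curv2.tensorPows (Coh.structureModule X) (e + 1) L n₁)) =
      Curv2.euler k X (Curv2.tensorPows (ClSub.quotMod D) (e + 1) L n₁) := by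
    obtain ⟨i⟩ := cl_eq_iff.1 (show PicF.cl (CohB1.tensorMod (ClSub.quotMod D) (Curv2.tensorPows (Coh.structureModule X) (e + 1) L n₁)) =
      PicF.cl (Curv2.tensorPows (ClSub.quotMod D) (e + 1) L n₁) by rw [cl_tensor, c1, c1, hO, one_mul])
    exact CurveCohLib.euler_congr (k := k) i
  have e2 : Curv2.euler k X (Curv2.tensorPows (ClSub.quotMod D) e (fun j => L j.succ) (ind J)) =
      Curv2.euler k X (Curv2.tensorPows (ClSub.quotMod D) (e + 1) L n₀) := by
    obtain ⟨i⟩ := cl_eq_iff.1 (cQ.trans (c0 (ClSub.quotMod D)).symm)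
    exact CurveCohLib.euler_congr (k := k) i
  have eP1 : Curv2.euler k X (Curv2.tensorPows (Coh.structureModule X) (e + 1) L n₁) = SurfPairing.χ k (PicF.cl (L 0) * m) := by
    rw [← SurfPairing.χ_cl, c1, hO, one_mul]
  have eP0 : Curv2.euler k X (Curv2.tensorPows (Coh.structureModule X) (e + 1) L n₀) = SurfPairing.χ k m := by
    rw [← SurfPairing.χ_cl, c0, hO, one_mul]
  rw [eP1, eP0, e2, ← e1, hdiv]
  push_cast
  ring
where
  isInvertible_tensorPows : ∀ {d : ℕ} {L : Fin d → X.Modules}, (∀ i, PicF.IsInvertible (L i)) → ∀ n : Fin d → ℕ,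
      PicF.IsInvertible (Curv2.tensorPows (Coh.structureModule X) d L n)
    | 0, _, _, _ => InvX.isInvertible_structureModule
    | d + 1, L, hL, n => PicMul.isInvertible_tensor (isInvertible_tensorPows (fun i => hL _) _)
        (InvX.isInvertible_tensorPow (hL (Fin.last d)) (n (Fin.last d)))

variable (k) in
/-- On a subscheme of dimension at most one the intersection number is the degree. -/
theorem coeff_eq_deg (D : X.IdealSheafData) (hD : topologicalKrullDim (D.support : Set X) ≤ 1) {L : X.Modules}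
    (hL : PicF.IsInvertible L) (P : MvPolynomial (Fin 1) ℚ)
    (hP : ∀ n : Fin 1 → ℕ, (Curv2.euler k X (Curv2.tensorPows (ClSub.quotMod D) 1 (fun _ => L) n) : ℚ) =
      eval (fun i => (n i : ℚ)) P) :
    P.coeff (ones 1) = ((@Curv2.deg k _ D.subscheme ⟨D.subschemeι ≫ (X ↘ (Spec (CommRingCat.of k)))⟩
      ((Scheme.Modules.pullback D.subschemeι).obj L) 1 : ℤ) : ℚ) := by
  haveI := CurveCohLib.isNoetherian_of_proper (k := k) (X := X)
  have hPd := totalDegree_le k (ParShLib.isCoh_quotMod D) (fun _ => hL) (d := 1)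
    ((dim_support_quotMod_le D).trans (by exact_mod_cast hD)) P hP
  rw [← sum_diff_succ P hPd, Fintype.sum_unique, ← hP, ← hP,
    ← Nakai.euler_sub_eq_deg (k := k) hL D]
  have h1 : ∀ c : ℕ, Curv2.euler k X (Curv2.tensorPows (ClSub.quotMod D) 1 (fun _ => L) (Fin.cons c (ind (default : Finset (Fin 0))))) =
      SurfPairing.χ k (PicF.cl (ClSub.quotMod D) * PicF.cl L ^ c) := fun c => by
    rw [← SurfPairing.χ_cl, cl_tensorPows, Fin.prod_univ_one, Fin.cons_zero]
  rw [h1, h1, pow_one, pow_zero, mul_one, ← cl_tensor, SurfPairing.χ_cl, SurfPairing.χ_cl]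
  simp

end Groth.Agent.IntCoeff
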