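import Groth.Agent.Lib.IntAltApp

/-!
Numerical invariance of intersection numbers.
-/

set_option autoImplicit false
set_option linter.style.haveILetI false
set_option linter.unusedSectionVars false
set_option backward.isDefEq.respectTransparency false
set_option backward.isDefEq.respectTransparency.types false
set_option maxHeartbeats 1000000

universe u

open CategoryTheory CategoryTheory.Limits AlgebraicGeometry TopologicalSpace
open Groth.Agent.H23 Groth.Agent.H23.PicMul
open Groth.Agent.H23.IntNumCycle (alt)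

noncomputable section

namespace Groth.Agent.IntAlt

attribute [local instance] PicMul.clMonoid

variable (k : Type u) [Field k] {X : Scheme.{u}} [X.Over (Spec (CommRingCat.of k))]
  [IsProper (X ↘ Spec (CommRingCat.of k))]

/-- Same degree on every integral curve. -/
def NumEq (M M' : X.Modules) : Prop :=
  ∀ ξ : X, SnapLead.δ k ξ = 1 →
    Curv2.euler k X (CohB1.tensorMod (Cyc.closureStructureSheaf ξ) M) =
      Curv2.euler k X (CohB1.tensorMod (Cyc.closureStructureSheaf ξ) M')

theorem numEq_refl (M : X.Modules) : NumEq k M M := fun _ _ => rfl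

/-- The formulation with closed subschemes. -/
theorem numEq_of_ideal {M M' : X.Modules}
    (h : ∀ C : X.IdealSheafData, IsIntegral C.subscheme → topologicalKrullDim (C.support : Set X) = 1 →
      Curv2.euler k X (CohB1.tensorMod (ClSub.quotMod C) M) = Curv2.euler k X (CohB1.tensorMod (ClSub.quotMod C) M')) :
    NumEq k M M' := by
  intro ξ hξ
  obtain ⟨e⟩ := nonempty_quot_ptIdeal ξ
  rw [← CurveCohLib.euler_congr (k := k) (PicGrp.tensorModIso e (Iso.refl M)),
    ← CurveCohLib.euler_congr (k := k) (PicGrp.tensorModIso e (Iso.refl M'))]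
  refine h (IntMult.ptIdeal ξ) (QCoh.isIntegral_closure_point ξ) ?_
  rw [IntMult.ptIdeal, Scheme.IdealSheafData.coe_support_vanishingIdeal]
  exact (delta_eq_iff k ξ 1).2 (by exact_mod_cast hξ)

theorem alt_one (M : Fin 1 → X.Modules) (F : X.Modules) :
    alt k 1 M F = Curv2.euler k X F - Curv2.euler k X (CohB1.tensorMod F (M 0)) := rfl

theorem alt_succ {r : ℕ} (M : Fin (r + 1) → X.Modules) (F : X.Modules) :
    alt k (r + 1) M F = alt k r (fun i => M i.succ) F - alt k r (fun i => M i.succ) (CohB1.tensorMod F (M 0)) := rfl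

/-- The change of `alt` under a twist only involves lower dimensional modules. -/
theorem alt_twist_sub {r : ℕ} {t t' : Fin r → X.Modules} (ht : ∀ i, PicF.IsInvertible (t i))
    (ht' : ∀ i, PicF.IsInvertible (t' i))
    (IH : ∀ G, Cyc.CohLe (SnapLead.δ k) r G → alt k r t G = alt k r t' G)
    {A : X.Modules} (hA : PicF.IsInvertible A) {F : X.Modules} (hF : Cyc.CohLe (SnapLead.δ k) ((r : ℤ) + 1) F) :
    alt k r t F - alt k r t (CohB1.tensorMod F A) = alt k r t' F - alt k r t' (CohB1.tensorMod F A) := by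
  haveI := CurveCohLib.isNoetherian_of_proper (k := k) (X := X)
  have hd := SnapLead.isDimFun k (X := X)
  obtain ⟨s, hs⟩ := RatSec.exists_sections hA
  obtain ⟨a, ha⟩ := IntNumCycle.main.exists_cycle hd hF
  let γ := RatSec.c1CapCycle hA hd a s hs
  have hγ : ⇑γ = Cyc.c1CapFun (SnapLead.δ k) A (Cyc.sheafFun (SnapLead.δ k) ((r : ℤ) + 1) F) s := by
    rw [← ha]; exact RatSec.coe_c1CapCycle _ _ _ _ _
  have hγk : γ ∈ Cyc.Zk X (SnapLead.δ k) r := fun x hx => by
    rw [hγ]
    refine GysinLib.c1CapFun_degree (k := (r : ℤ) + 1) _ (fun ξ hξ => ?_) _ (by omega)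
    simp [Cyc.sheafFun, hξ]
  have hkey := K0TensorInv.tK_tensor_sub hd hA hF s hs γ hγk hγ
  obtain ⟨hP, hN⟩ := CycleClassK.cohLe_cyclePosNeg hd γ hγk
  have key : ∀ (u : Fin r → X.Modules), (∀ i, PicF.IsInvertible (u i)) →
      alt k r u F - alt k r u (CohB1.tensorMod F A) =
        alt k r u (Cyc.cycleSheafNeg ⇑γ) - alt k r u (Cyc.cycleSheafPos ⇑γ) := by
    intro u hu
    obtain ⟨Af, hAf⟩ := KZ.exists_liftSub (Cyc.CohLe (SnapLead.δ k) ((r : ℤ) + 1)) (alt k r u) fun S hS a b c =>
      IntNumCycle.alt_add k r u hu hS a.1 b.1 c.1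
    let Aq : Cyc.K0CohQuot (SnapLead.δ k (X := X)) ((r : ℤ) + 1) ((r : ℤ) - 1) →+ ℤ :=
      QuotientAddGroup.lift _ Af ((AddSubgroup.closure_le _).2 (by
        rintro _ ⟨G, hG, rfl⟩
        show Af _ = 0
        rw [hAf G (cohLe_mono k (by omega) hG), alt_eq_zero k hu hG]))
    have hAq : ∀ G, Cyc.CohLe (SnapLead.δ k) ((r : ℤ) + 1) G →
        Aq (Cyc.toK0CohQuot (SnapLead.δ k) ((r : ℤ) + 1) ((r : ℤ) - 1) G) = alt k r u G := hAf
    have h := congrArg Aq hkey
    rw [map_sub, map_sub, hAq _ (K0TensorInv.cohLe_ten hA hF), hAq _ hF, hAq _ (cohLe_mono k (by omega) hP),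
      hAq _ (cohLe_mono k (by omega) hN)] at h
    have e : alt k r u ((K0TensorInv.ten A).obj F) = alt k r u (CohB1.tensorMod F A) := rfl
    rw [e] at h
    linarith
  rw [key t ht, key t' ht', IH _ hP, IH _ hN]

/-- Changing the last factors. -/
theorem alt_eq_of_tail {r : ℕ}
    (IH : ∀ t t' : Fin r → X.Modules, (∀ i, PicF.IsInvertible (t i)) → (∀ i, PicF.IsInvertible (t' i)) →
      (∀ i, NumEq k (t i) (t' i)) → ∀ G, Cyc.CohLe (SnapLead.δ k) r G → alt k r t G = alt k r t' G)
    {M M' : Fin (r + 1) → X.Modules} (hM : ∀ i, PicF.IsInvertible (M i)) (hM' : ∀ i, PicF.IsInvertible (M' i))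
    (h0 : M 0 = M' 0) (hnum : ∀ i : Fin r, NumEq k (M i.succ) (M' i.succ)) {F : X.Modules}
    (hF : Cyc.CohLe (SnapLead.δ k) ((r + 1 : ℕ) : ℤ) F) : alt k (r + 1) M F = alt k (r + 1) M' F := by
  rw [alt_succ, alt_succ, ← h0]
  exact alt_twist_sub k (fun i => hM _) (fun i => hM' _)
    (IH _ _ (fun i => hM _) (fun i => hM' _) hnum) (hM 0) (by exact_mod_cast hF)

/-- Numerically equivalent modules have the same intersection numbers. -/
theorem alt_numEq : ∀ (r : ℕ) (M M' : Fin r → X.Modules), (∀ i, PicF.IsInvertible (M i)) →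
    (∀ i, PicF.IsInvertible (M' i)) → (∀ i, NumEq k (M i) (M' i)) →
    ∀ F, Cyc.CohLe (SnapLead.δ k) r F → alt k r M F = alt k r M' F := by
  classical
  intro r
  induction r with
  | zero => intro _ _ _ _ _ F _; rfl
  | succ r IH =>
    intro M M' hM hM' hnum F hF
    haveI := CurveCohLib.isNoetherian_of_proper (k := k) (X := X)
    rcases Nat.eq_zero_or_pos r with rfl | hr
    · have hfin := finite_sheafFun k hF
      have hS : ∀ ξ ∈ hfin.toFinset, SnapLead.δ k ξ = ((0 + 1 : ℕ) : ℤ) := fun ξ hξ => by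
        have h := hfin.mem_toFinset.1 hξ
        by_contra hne
        exact h (by simp only [Cyc.sheafFun, if_neg hne])
      rw [alt_eq_sum_closure k hM hF hfin.toFinset hS (fun ξ h => hfin.mem_toFinset.2 h),
        alt_eq_sum_closure k hM' hF hfin.toFinset hS (fun ξ h => hfin.mem_toFinset.2 h)]
      refine Finset.sum_congr rfl fun ξ hξ => ?_
      rw [alt_one, alt_one, hnum 0 ξ (by simpa using hS ξ hξ)]
    · let A : Fin (r + 1) → X.Modules := Fin.cons (M 0) fun i => M' i.succ
      have hA : ∀ i, PicF.IsInvertible (A i) := fun i => by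
        induction i using Fin.cases with
        | zero => exact hM 0
        | succ j => simpa [A] using hM' j.succ
      have e1 : alt k (r + 1) M F = alt k (r + 1) A F :=
        alt_eq_of_tail k IH hM hA (by simp [A]) (fun i => by simpa [A] using hnum i.succ) hF
      let o : Fin (r + 1) := (⟨0, hr⟩ : Fin r).succ
      let σ : Equiv.Perm (Fin (r + 1)) := Equiv.swap 0 o
      have e2 : alt k (r + 1) (fun i => A (σ i)) F = alt k (r + 1) (fun i => M' (σ i)) F := by
        refine alt_eq_of_tail k IH (fun i => hA _) (fun i => hM' _) ?_ (fun i => ?_) hF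
        · simp only [σ, Equiv.swap_apply_left, A, o, Fin.cons_succ]
        · by_cases hi : σ i.succ = 0
          · rw [hi]
            simpa [A] using hnum 0
          · obtain ⟨j, hj⟩ := Fin.exists_succ_eq.2 hi
            rw [← hj]
            simpa [A] using numEq_refl k (M' j.succ)
      rw [e1, ← alt_perm k σ A, e2, alt_perm]

end Groth.Agent.IntAlt
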