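import Groth.Agent.Koszul15.Basic
import Groth.Agent.Alg6.AssDepth
import Mathlib.Algebra.Homology.HomologySequence
import Mathlib.RingTheory.Ideal.AssociatedPrime.Finiteness
import Groth.Prelude.Def_CAlg

/-!
# Koszul cohomology and depth
-/

set_option autoImplicit false
set_option linter.style.haveILetI false

universe u

open CategoryTheory CategoryTheory.Limits CochainComplex

namespace Groth.Agent.Lib.KoszulDepth

variable {A : Type u} [CommRing A]

local notation "K(" fs ", " M ")" => CohIII.koszulCx M fs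

/-- Vectors killed by the sequence give cocycles in the bottom degree. -/
theorem exists_bottom (M : ModuleCat.{u} A) : ∀ xs : List A,
    ∃ ι : M →ₗ[A] K(xs, M).X (-(xs.length : ℤ)), Function.Injective ι ∧
      ∀ m : M, (∀ x ∈ xs, x • m = 0) → ∀ j, (K(xs, M).d (-(xs.length : ℤ)) j).hom (ι m) = 0
  | [] => by
    let e : K(([] : List A), M).X 0 ≃ₗ[A] M :=
      (HomologicalComplex.singleObjXSelf (ComplexShape.up ℤ) 0 M).toLinearEquiv
    refine ⟨e.symm.toLinearMap, e.symm.injective, fun m _ j => ?_⟩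
    by_cases hj : j = 1
    · subst hj
      have h0 : K(([] : List A), M).d (-(([] : List A).length : ℤ)) 1 = 0 :=
        (Koszul15.isZero_X M [] 1 (by simp)).eq_of_tgt _ _
      rw [h0]
      rfl
    · rw [K(([] : List A), M).shape _ _ (by simp; omega)]
      rfl
  | f :: fs => by
    obtain ⟨ι, hι, hd⟩ := exists_bottom M fs
    let φ := f • 𝟙 K(fs, M)
    let n : ℤ := -(((f :: fs).length : ℕ) : ℤ)
    have hn : n + 1 = -(fs.length : ℤ) := by simp [n]
    let ι' : M →ₗ[A] K(f :: fs, M).X n :=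
      ((mappingCone.inl φ).v (-(fs.length : ℤ)) n (by omega)).hom ∘ₗ ι
    refine ⟨ι', ?_, fun m hm j => ?_⟩
    · intro x y hxy
      have e := fun z => ConcreteCategory.congr_hom
        (mappingCone.inl_v_fst_v φ (-(fs.length : ℤ)) n (by omega)) z
      exact hι ((e (ι x)).symm.trans ((congrArg ((mappingCone.fst φ).1.v n (-(fs.length : ℤ)) (by omega)).hom hxy).trans (e (ι y))))
    · by_cases hj : j = -(fs.length : ℤ)
      · subst hj
        have h := ConcreteCategory.congr_hom (mappingCone.inl_v_d φ (-(fs.length : ℤ)) n (-(fs.length : ℤ) + 1)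
          (by omega) (by omega)) (ι m)
        refine h.trans ?_
        show ((mappingCone.inr φ).f _).hom (f • ι m) -
          ((mappingCone.inl φ).v (-(fs.length : ℤ) + 1) (-(fs.length : ℤ)) (by omega)).hom
            ((K(fs, M).d (-(fs.length : ℤ)) (-(fs.length : ℤ) + 1)).hom (ι m)) = 0
        rw [hd m (fun x hx => hm x (List.mem_cons_of_mem _ hx)), ← map_smul ι, hm f List.mem_cons_self, map_zero,
          map_zero, map_zero, sub_zero]
      · rw [K(f :: fs, M).shape _ _ (by simp only [ComplexShape.up_Rel]; exact fun h => hj (h.symm.trans hn))]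
        rfl

theorem not_isZero_bottom {M : ModuleCat.{u} A} {xs : List A} {m : M} (hm0 : m ≠ 0)
    (hm : ∀ x ∈ xs, x • m = 0) : ¬ IsZero (K(xs, M).homology (-(xs.length : ℤ))) := by
  intro hz
  obtain ⟨ι, hι, hd⟩ := exists_bottom M xs
  have hex := ((K(xs, M).exactAt_iff' (-(xs.length : ℤ) - 1) (-(xs.length : ℤ)) (-(xs.length : ℤ) + 1)
    (by simp) (by simp)).1 ((K(xs, M).exactAt_iff_isZero_homology _).2 hz))
  rw [ShortComplex.moduleCat_exact_iff] at hex
  obtain ⟨x, hx⟩ := hex (ι m) (hd m hm _)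
  have hx0 : x = 0 := (ModuleCat.subsingleton_of_isZero
    (Koszul15.isZero_X M xs (-(xs.length : ℤ) - 1) (Or.inr (by omega)))).elim x 0
  exact hm0 (hι (hx.symm.trans ((congrArg _ hx0).trans ((map_zero _).trans (map_zero ι).symm))))

/-- The long exact sequence of a regular element of the ideal. -/
theorem exists_shift {xs : List A} {M : ModuleCat.{u} A} {y : A} (hy : y ∈ Ideal.span {x | x ∈ xs})
    (hreg : IsSMulRegular M y) (q : ℤ) :
    (IsZero (K(xs, ModuleCat.of A (QuotSMulTop y M)).homology q) → IsZero (K(xs, M).homology (q + 1))) ∧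
    (IsZero (K(xs, M).homology q) → IsZero (K(xs, M).homology (q + 1)) →
      IsZero (K(xs, ModuleCat.of A (QuotSMulTop y M)).homology q)) := by
  let π : M ⟶ ModuleCat.of A (QuotSMulTop y M) := ModuleCat.ofHom (Y := QuotSMulTop y M) (Submodule.mkQ _)
  have hz : (y • 𝟙 M) ≫ π = 0 := ModuleCat.hom_ext (LinearMap.ext fun x =>
    (Submodule.Quotient.mk_eq_zero _).2 (Submodule.smul_mem_pointwise_smul x y ⊤ trivial))
  have hS : (ShortComplex.mk _ _ hz).ShortExact :=
    { exact := (ShortComplex.ShortExact.moduleCat_exact_iff_function_exact _).2 fun x => by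
        refine ⟨fun hx => ?_, ?_⟩
        · obtain ⟨w, -, hw⟩ := Submodule.mem_map.1 ((Submodule.Quotient.mk_eq_zero _).1 hx)
          exact ⟨w, hw⟩
        · rintro ⟨w, rfl⟩
          exact ConcreteCategory.congr_hom hz w
      mono_f := (ModuleCat.mono_iff_injective _).2 fun a b h => hreg h
      epi_g := (ModuleCat.epi_iff_surjective _).2 (Submodule.mkQ_surjective _) }
  obtain ⟨hz', hK⟩ := Koszul15.kmap_shortExact _ _ hz hS xs
  obtain ⟨H⟩ := Koszul15.homotopy_of_mem M xs y hy
  have h0 : ∀ p, HomologicalComplex.homologyMap (Koszul15.kmap (y • 𝟙 M) xs) p = 0 := fun p => by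
    rw [Koszul15.kmap_smul, H.homologyMap_eq, HomologicalComplex.homologyMap_zero]
  have e1 : Epi (hK.δ q (q + 1) rfl) := (hK.homology_exact₁ q (q + 1) rfl).epi_f (h0 (q + 1))
  refine ⟨fun h => ?_, fun h h' => (hK.homology_exact₃ q (q + 1) rfl).isZero_of_both_zeros ?_ ?_⟩
  · exact IsZero.of_epi (hK.δ q (q + 1) rfl) h
  · exact h.eq_of_src _ _
  · exact h'.eq_of_tgt _ _

theorem isZero_of_weaklyRegular (xs : List A) : ∀ (rs : List A) (M : ModuleCat.{u} A),
    RingTheory.Sequence.IsWeaklyRegular M rs → (∀ r ∈ rs, r ∈ Ideal.span {x | x ∈ xs}) →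
      ∀ q : ℤ, q < -(xs.length : ℤ) + rs.length → IsZero (K(xs, M).homology q) := by
  intro rs
  induction rs with
  | nil =>
    intro M _ _ q hq
    exact ShortComplex.isZero_homology_of_isZero_X₂ _
      (Koszul15.isZero_X M xs q (Or.inr (by simpa using hq)))
  | cons y rs ih =>
    intro M hreg hmem q hq
    rw [RingTheory.Sequence.isWeaklyRegular_cons_iff] at hreg
    simp only [List.length_cons, Nat.cast_add, Nat.cast_one] at hq
    have h := (exists_shift (M := M) (hmem y List.mem_cons_self) hreg.1 (q - 1)).1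
      (ih _ hreg.2 (fun r hr => hmem r (List.mem_cons_of_mem _ hr)) (q - 1) (by omega))
    rwa [sub_add_cancel] at h

theorem exists_ne_zero_killed [IsNoetherianRing A] {a : Ideal A} {M : Type u} [AddCommGroup M] [Module A M]
    [Module.Finite A M] (h : ∀ z ∈ a, ¬ IsSMulRegular M z) : ∃ m : M, m ≠ 0 ∧ ∀ z ∈ a, z • m = 0 := by
  have hsub : (a : Set A) ⊆ ⋃ p ∈ associatedPrimes A M, (p : Set A) := by
    intro z hz
    rw [biUnion_associatedPrimes_eq_zero_divisors]
    have := h z hz
    rw [isSMulRegular_iff_right_eq_zero_of_smul] at this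
    push Not at this
    obtain ⟨x, hx, hx0⟩ := this
    exact ⟨x, hx0, hx⟩
  obtain ⟨p, hp, hle⟩ := (Ideal.subset_union_prime_finite (associatedPrimes.finite A M) ⊤ ⊤
    (fun p hp _ _ => hp.1)).1 hsub
  obtain ⟨hprime, m, hm⟩ := isAssociatedPrime_iff.1 hp
  refine ⟨m, fun h0 => hprime.ne_top ?_, fun z hz => ?_⟩
  · rw [Ideal.eq_top_iff_one, hm, Submodule.mem_colon_singleton, one_smul, h0]
    exact zero_mem _
  · have := hle hz
    rw [hm, Submodule.mem_colon_singleton] at this
    exact (Submodule.mem_bot A).1 this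

theorem not_isZero_of_maximal [IsNoetherianRing A] (xs : List A) : ∀ (rs : List A) (M : ModuleCat.{u} A)
    [Module.Finite A M], RingTheory.Sequence.IsWeaklyRegular M rs → (∀ r ∈ rs, r ∈ Ideal.span {x | x ∈ xs}) →
      (∀ z ∈ Ideal.span {x | x ∈ xs}, ¬ RingTheory.Sequence.IsWeaklyRegular M (rs ++ [z])) →
        ¬ IsZero (K(xs, M).homology (-(xs.length : ℤ) + rs.length)) := by
  intro rs
  induction rs with
  | nil =>
    intro M _ _ _ hmax
    obtain ⟨m, hm0, hm⟩ := exists_ne_zero_killed (A := A) (a := Ideal.span {x | x ∈ xs}) (M := M) fun z hz hz' =>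
      hmax z hz ((RingTheory.Sequence.isWeaklyRegular_cons_iff M z []).2 ⟨hz', RingTheory.Sequence.IsWeaklyRegular.nil _ _⟩)
    simpa using not_isZero_bottom hm0 fun x hx => hm x (Ideal.subset_span hx)
  | cons y rs ih =>
    intro M _ hreg hmem hmax hz
    have hz' : IsZero (K(xs, M).homology (-(xs.length : ℤ) + rs.length + 1)) := by
      simpa [add_assoc] using hz
    have hreg' := (RingTheory.Sequence.isWeaklyRegular_cons_iff M y rs).1 hreg
    refine ih (ModuleCat.of A (QuotSMulTop y M)) hreg'.2 (fun r hr => hmem r (List.mem_cons_of_mem _ hr))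
      (fun z hz h => hmax z hz ((RingTheory.Sequence.isWeaklyRegular_cons_iff M y (rs ++ [z])).2 ⟨hreg'.1, h⟩)) ?_
    exact (exists_shift (M := M) (hmem y List.mem_cons_self) hreg'.1 _).2
      (isZero_of_weaklyRegular xs (y :: rs) M hreg hmem _ (by simp)) hz'

theorem main [IsNoetherianRing A] [IsLocalRing A] (M : Type u) [AddCommGroup M] [Module A M]
    [Module.Finite A M] [Nontrivial M] (xs : List A) (hxs : ∀ x ∈ xs, x ∈ IsLocalRing.maximalIdeal A) :
    LocCoh.idealDepth (Ideal.span {x | x ∈ xs}) M ≤ xs.length ∧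
      (∀ p : ℕ, (p : ℕ∞) < LocCoh.idealDepth (Ideal.span {x | x ∈ xs}) M →
        IsZero (CohIII.koszulH xs (ModuleCat.of A M) p)) ∧
      (∀ r : ℕ, LocCoh.idealDepth (Ideal.span {x | x ∈ xs}) M = r →
        ¬ IsZero (CohIII.koszulH xs (ModuleCat.of A M) r)) := by
  have hle : Ideal.span {x | x ∈ xs} ≤ IsLocalRing.maximalIdeal A := Ideal.span_le.2 fun x hx => hxs x hx
  have hne : Ideal.span {x | x ∈ xs} • (⊤ : Submodule A M) ≠ ⊤ := fun h =>
    top_ne_bot (Submodule.eq_bot_of_le_smul_of_le_jacobson_bot (Ideal.span {x | x ∈ xs}) (⊤ : Submodule A M)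
      Module.Finite.fg_top h.ge (hle.trans (IsLocalRing.maximalIdeal_le_jacobson _)))
  have key : ∀ d : ℕ, (d : ℕ∞) ≤ LocCoh.idealDepth (Ideal.span {x | x ∈ xs}) M →
      ∀ q : ℤ, q < -(xs.length : ℤ) + d → IsZero (K(xs, ModuleCat.of A M).homology q) := fun d hd q hq => by
    obtain ⟨rs, hreg, hmem, hlen⟩ := Alg6.exists_length_ge_of_le_idealDepth hne hd
    exact isZero_of_weaklyRegular xs rs _ hreg hmem q (by omega)
  have hn : LocCoh.idealDepth (Ideal.span {x | x ∈ xs}) M ≤ xs.length := by
    by_contra hlt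
    have hd : ((xs.length + 1 : ℕ) : ℕ∞) ≤ LocCoh.idealDepth (Ideal.span {x | x ∈ xs}) M := by
      rw [Nat.cast_add, Nat.cast_one]
      exact (ENat.add_one_le_iff (ENat.natCast_ne_top _)).2 (not_le.1 hlt)
    have h0 : IsZero (K(xs, ModuleCat.of A M).homology 0) := key _ hd 0 (by simp)
    obtain ⟨e⟩ := Koszul15.nonempty_top_equiv xs (ModuleCat.of A M)
    haveI := ModuleCat.subsingleton_of_isZero h0
    have hsub : Subsingleton (M ⧸ (Ideal.ofList xs • (⊤ : Submodule A M))) := e.symm.toEquiv.subsingleton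
    exact hne (Submodule.Quotient.subsingleton_iff.1 hsub)
  refine ⟨hn, fun p hp => ?_, fun r hr => ?_⟩
  · have h := key (p + 1) (by
      rw [Nat.cast_add, Nat.cast_one]
      exact (ENat.add_one_le_iff (ENat.natCast_ne_top _)).2 hp) ((p : ℤ) - xs.length) (by push_cast; omega)
    exact h
  · obtain ⟨rs, hreg, hmem, hlen⟩ := Alg6.exists_length_ge_of_le_idealDepth hne hr.ge
    have hlen' : rs.length = r := le_antisymm
      (by exact_mod_cast (Alg6.length_le_idealDepth hreg hmem).trans hr.le) hlen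
    have h := not_isZero_of_maximal xs rs (ModuleCat.of A M) hreg hmem fun z hz h => by
      have h2 := Alg6.length_le_idealDepth h (fun s hs => (List.mem_append.1 hs).elim (hmem s) fun hs => by
        rw [List.mem_singleton.1 hs]; exact hz)
      rw [hr, List.length_append, List.length_singleton, hlen'] at h2
      exact absurd (Nat.cast_le.1 h2) (by omega)
    rw [hlen', neg_add_eq_sub] at h
    exact h

end Groth.Agent.Lib.KoszulDepth
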