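import Groth.Agent.Lib.ExtShShift
import Groth.Agent.SheafHomX.Extra
import Groth.Agent.QCoh.Tilde
import Mathlib.RingTheory.Regular.RegularSequence

/-!
Local Ext sheaves out of the quotient by a regular sequence on an affine scheme.
-/

set_option linter.style.haveILetI false
set_option linter.unusedSectionVars false
set_option backward.isDefEq.respectTransparency false
set_option backward.isDefEq.respectTransparency.types false
set_option maxHeartbeats 1000000

universe u

open CategoryTheory CategoryTheory.Limits AlgebraicGeometry TopologicalSpace Opposite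
open RingTheory.Sequence

noncomputable section

namespace Groth.Agent.KoszulExt

open Groth.Agent.SheafHomX

section Smul

variable {A : Type u} [CommRing A] {X : Scheme.{u}} [X.Over (Spec (CommRingCat.of A))]

/-- Multiplication by a scalar passes to homology. -/
theorem homologyMap_smul (C : CochainComplex X.Modules ℕ) (φ : C ⟶ C) (a : A)
    (h : ∀ i, φ.f i = Formal.smulMod A (C.X i) a) (q : ℕ) :
    HomologicalComplex.homologyMap φ q = Formal.smulMod A (C.homology q) a := by
  rw [← cancel_epi (C.homologyπ q), HomologicalComplex.homologyπ_naturality, ← FFun.smulMod_naturality]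
  refine congrArg (· ≫ C.homologyπ q) ?_
  rw [← cancel_mono (C.iCycles q), HomologicalComplex.cyclesMap_i, h, ← FFun.smulMod_naturality, FFun.smulMod_naturality]

end Smul

variable (R : CommRingCat.{u})

/-- `Spec R` over itself. -/
abbrev overSelf : (Spec R).Over (Spec (CommRingCat.of R)) := ⟨𝟙 _⟩

attribute [local instance] overSelf

variable {R}

theorem tilde_smul (M : ModuleCat.{u} R) (f : R) :
    tilde.map (f • 𝟙 M) = Formal.smulMod R (tilde M) f := by
  refine ((tilde.adjunction (R := R)).homEquiv M (tilde M)).injective ?_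
  rw [Adjunction.homEquiv_unit, Adjunction.homEquiv_unit]
  refine ModuleCat.hom_ext (LinearMap.ext fun m => ?_)
  have h := congr(($((tilde.adjunction (R := R)).unit.naturality (f • 𝟙 M))).hom m)
  refine h.symm.trans ?_
  refine ((((tilde.adjunction (R := R)).unit.app M).hom).map_smul f m).trans ?_
  refine Eq.trans ?_ (FFun.smulMod_app (A := R) (tilde M) f ⊤ _).symm
  rw [Scheme.Modules.smul_Spec_def]
  congr 2

/-- The quotient by a sequence. -/
abbrev Q (N : ModuleCat.{u} R) (rs : List R) : ModuleCat.{u} R :=
  ModuleCat.of R (N ⧸ (Ideal.ofList rs • ⊤ : Submodule R N))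

/-- Passing to one more element. -/
def toQ (N : ModuleCat.{u} R) (rs : List R) (f : R) : Q N rs ⟶ Q N (rs ++ [f]) :=
  ModuleCat.ofHom (Submodule.factor (Submodule.smul_mono (by rw [Ideal.ofList_append]; exact le_sup_left) le_rfl))

/-- The sequence of multiplication. -/
abbrev seq (N : ModuleCat.{u} R) (rs : List R) (f : R) : ShortComplex (ModuleCat.{u} R) :=
  ShortComplex.mk (f • 𝟙 (Q N rs)) (toQ N rs f) (by
    refine ModuleCat.hom_ext (LinearMap.ext fun z => ?_)
    obtain ⟨m, rfl⟩ := Submodule.mkQ_surjective _ z
    show Submodule.Quotient.mk (f • m) = 0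
    rw [Submodule.Quotient.mk_eq_zero]
    exact Submodule.smul_mem_smul (by rw [Ideal.ofList_append, Ideal.ofList_singleton]
                                      exact Ideal.mem_sup_right (Ideal.mem_span_singleton_self f)) trivial)

theorem seq_exact (N : ModuleCat.{u} R) (rs : List R) (f : R) : (seq N rs f).Exact ∧ Epi (toQ N rs f) := by
  refine ⟨(ShortComplex.moduleCat_exact_iff _).2 fun z hz => ?_, (ModuleCat.epi_iff_surjective _).2 fun z => ?_⟩
  · obtain ⟨m, rfl⟩ := Submodule.mkQ_surjective _ z
    change Submodule.Quotient.mk m = 0 at hz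
    rw [Submodule.Quotient.mk_eq_zero, Ideal.ofList_append, Ideal.ofList_singleton, Submodule.sup_smul,
      Submodule.ideal_span_singleton_smul, Submodule.mem_sup] at hz
    obtain ⟨a, ha, b, hb, rfl⟩ := hz
    obtain ⟨n, -, rfl⟩ := Submodule.mem_smul_pointwise_iff_exists _ _ _ |>.1 hb
    refine ⟨Submodule.Quotient.mk n, ?_⟩
    show Submodule.Quotient.mk (f • n) = Submodule.Quotient.mk (a + f • n)
    rw [Submodule.Quotient.eq]
    simpa using ha
  · obtain ⟨m, rfl⟩ := Submodule.mkQ_surjective _ z
    exact ⟨Submodule.Quotient.mk m, rfl⟩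

theorem mono_smul (N : ModuleCat.{u} R) (rs : List R) (f : R) (h : IsWeaklyRegular N (rs ++ [f])) :
    IsWeaklyRegular N rs ∧ Mono (f • 𝟙 (Q N rs)) := by
  obtain ⟨h1, h2⟩ := (isWeaklyRegular_append_iff N rs [f]).1 h
  refine ⟨h1, (ModuleCat.mono_iff_injective _).2 ?_⟩
  exact ((isWeaklyRegular_singleton_iff _ f).1 h2)

variable {L : (Spec R).Modules} (I : InjectiveResolution L)

theorem homologyMap_smulMod (M : (Spec R).Modules) (f : R) (q : ℕ) :
    HomologicalComplex.homologyMap (ExtShShift.cxMap I (Formal.smulMod R M f)) q =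
      Formal.smulMod R ((ExtShShift.cx I M).homology q) f :=
  homologyMap_smul _ _ f (fun i => homMap_smulMod M (I.cocomplex.X i) f) q

/-- The base case: the quotient by the empty sequence. -/
def qNilIso (N : ModuleCat.{u} R) : Q N [] ≅ N :=
  (Submodule.quotEquivOfEqBot _ (by simp)).toModuleIso

theorem epi_hom_map_structure {X : Scheme.{u}} {A B : X.Modules} (u : A ⟶ B) [Epi u] :
    Epi ((hom (Coh.structureModule X)).map u) := by
  haveI : (ten (Coh.structureModule X)).IsEquivalence :=
    Functor.isEquivalence_of_iso (KFlatLib.tensorStructureIso X).symm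
  let α : ten (Coh.structureModule X) ⊣ (ten (Coh.structureModule X)).inv :=
    (ten (Coh.structureModule X)).asEquivalence.toAdjunction
  haveI : (hom (Coh.structureModule X)).IsEquivalence :=
    Functor.isEquivalence_of_iso (α.rightAdjointUniq (adj (Coh.structureModule X)))
  exact Functor.map_epi _ u

theorem nonempty_hom_structure {X : Scheme.{u}} (A : X.Modules) :
    Nonempty ((hom (Coh.structureModule X)).obj A ≅ A) :=
  ⟨(((adj (Coh.structureModule X)).ofNatIsoLeft (KFlatLib.tensorStructureIso X)).rightAdjointUniq
    Adjunction.id).app A⟩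

/-- Transporting along an isomorphism of the source. -/
def cxIso {X : Scheme.{u}} {L : X.Modules} (I : InjectiveResolution L) {M M' : X.Modules} (e : M ≅ M') :
    ExtShShift.cx I M' ≅ ExtShShift.cx I M where
  hom := ExtShShift.cxMap I e.hom
  inv := ExtShShift.cxMap I e.inv
  hom_inv_id := HomologicalComplex.hom_ext _ _ fun j => by
    show (homMap e.hom).app _ ≫ (homMap e.inv).app _ = 𝟙 _
    rw [← homMap_comp, e.inv_hom_id, homMap_id]
  inv_hom_id := HomologicalComplex.hom_ext _ _ fun j => by
    show (homMap e.inv).app _ ≫ (homMap e.hom).app _ = 𝟙 _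
    rw [← homMap_comp, e.hom_inv_id, homMap_id]

/-- Local Ext out of the quotient by a regular sequence: nothing above the length, the expected sheaf in
degree the length, and nothing below if the sequence is regular on the target. -/
theorem ext_quotient (N : ModuleCat.{u} R) (e : L ≅ tilde N) (rs : List R) :
    IsWeaklyRegular R rs →
    (∀ q, rs.length < q → IsZero ((ExtShShift.cx I (tilde (Q (ModuleCat.of R R) rs))).homology q)) ∧
    Nonempty ((ExtShShift.cx I (tilde (Q (ModuleCat.of R R) rs))).homology rs.length ≅ tilde (Q N rs)) ∧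
    (IsWeaklyRegular N rs → ∀ q < rs.length,
      IsZero ((ExtShShift.cx I (tilde (Q (ModuleCat.of R R) rs))).homology q)) := by
  induction rs using List.reverseRecOn with
  | nil =>
    intro _
    let u : tilde (Q (ModuleCat.of R R) []) ≅ Coh.structureModule (Spec R) :=
      (tilde.functor R).mapIso (qNilIso _) ≪≫ tildeSelf
    refine ⟨fun q hq => ?_, ?_, fun _ q hq => absurd hq (by simp)⟩
    · obtain ⟨q, rfl⟩ : ∃ q', q = q' + 1 := ⟨q - 1, by simp at hq; omega⟩
      exact (ExtShShift.isZero_of_exact I _ (fun v hv => epi_hom_map_structure (u := v)) q).of_iso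
        ((HomologicalComplex.homologyMapIso (cxIso I u) _).symm)
    · obtain ⟨a⟩ := nonempty_hom_structure L
      exact ⟨(HomologicalComplex.homologyMapIso (cxIso I u) _).symm ≪≫ (ExtShShift.zeroIso I _).symm ≪≫
        a ≪≫ e ≪≫ (tilde.functor R).mapIso (qNilIso N).symm⟩
  | append_singleton rs f ih =>
    intro h
    haveI : (tilde.functor R).Additive := inferInstanceAs (tilde.functor (CommRingCat.of R)).Additive
    obtain ⟨h0, hm⟩ := mono_smul (ModuleCat.of R R) rs f h
    obtain ⟨hz, ⟨a⟩, hl⟩ := ih h0
    obtain ⟨hx, hg⟩ := seq_exact (ModuleCat.of R R) rs f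
    let P := tilde (Q (ModuleCat.of R R) rs)
    let P' := tilde (Q (ModuleCat.of R R) (rs ++ [f]))
    let m : P ⟶ P := tilde.map (f • 𝟙 _)
    let g : P ⟶ P' := tilde.map (toQ _ rs f)
    have hmg : m ≫ g = 0 := by
      show tilde.map _ ≫ tilde.map _ = 0
      rw [← tilde.map_comp, (seq (ModuleCat.of R R) rs f).zero, tilde.map_zero]
    have hQ : (seq (ModuleCat.of R R) rs f).ShortExact := { exact := hx, mono_f := hm, epi_g := hg }
    have hS : (ShortComplex.mk m g hmg).ShortExact := hQ.map_of_exact (tilde.functor R)
    obtain ⟨w, hc⟩ := ExtShShift.exists_shortExact I hS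
    have hmap : ∀ q, HomologicalComplex.homologyMap (ExtShShift.cxMap I m) q =
        Formal.smulMod R ((ExtShShift.cx I P).homology q) f := fun q => by
      show HomologicalComplex.homologyMap (ExtShShift.cxMap I (tilde.map (f • 𝟙 _))) q = _
      rw [tilde_smul]
      exact homologyMap_smulMod I P f q
    have hlen : (rs ++ [f]).length = rs.length + 1 := by simp
    rw [hlen]
    refine ⟨fun q hq => ?_, ?_, fun hN q hq => ?_⟩
    · obtain ⟨q, rfl⟩ : ∃ q', q = q' + 1 := ⟨q - 1, by omega⟩
      have z₁ : IsZero ((ExtShShift.cx I P).homology q) := hz q (by omega)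
      have z₂ : IsZero ((ExtShShift.cx I P).homology (q + 1)) := hz (q + 1) (by omega)
      exact (hc.homology_exact₁ q (q + 1) rfl).isZero_of_both_zeros (z₁.eq_of_src _ _) (z₂.eq_of_tgt _ _)
    · have hex := hc.homology_exact₃ rs.length (rs.length + 1) rfl
      have z₂ : IsZero ((ExtShShift.cx I P).homology (rs.length + 1)) := hz _ (by omega)
      haveI : Epi (hc.δ rs.length (rs.length + 1) rfl) :=
        (hc.homology_exact₁ rs.length (rs.length + 1) rfl).epi_f (z₂.eq_of_tgt _ _)
      obtain ⟨hxN, hgN⟩ := seq_exact N rs f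
      let T : ShortComplex (Spec R).Modules := (seq N rs f).map (tilde.functor R)
      haveI : Epi (seq N rs f).g := hgN
      have hT : T.Exact := hxN.map_of_epi_of_preservesCokernel (tilde.functor R) inferInstance inferInstance
      haveI : Epi T.g := (tilde.functor R).map_epi (toQ N rs f)
      let a' : (ExtShShift.cx I P).homology rs.length ≅ tilde (Q N rs) := a
      exact ⟨(IsColimit.coconePointUniqueUpToIso (cokernelIsCokernel _) hex.gIsCokernel).symm ≪≫
        cokernel.mapIso _ T.f a' a' (by
          show HomologicalComplex.homologyMap (ExtShShift.cxMap I m) _ ≫ a'.hom =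
            a'.hom ≫ tilde.map (f • 𝟙 _)
          rw [hmap, tilde_smul]
          exact FFun.smulMod_naturality a'.hom f) ≪≫
        IsColimit.coconePointUniqueUpToIso (cokernelIsCokernel _) hT.gIsCokernel⟩
    · obtain ⟨hN0, hmN⟩ := mono_smul N rs f hN
      have hmono : ∀ j, j ≤ rs.length → Mono (HomologicalComplex.homologyMap (ExtShShift.cxMap I m) j) := by
        intro j hj
        rcases hj.lt_or_eq with hlt | heq
        · exact ⟨fun x y _ => (show IsZero ((ExtShShift.cx I P).homology j) from hl hN0 j hlt).eq_of_tgt x y⟩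
        · subst heq
          let a' : (ExtShShift.cx I P).homology rs.length ≅ tilde (Q N rs) := a
          rw [hmap]
          have ha : Formal.smulMod R ((ExtShShift.cx I P).homology rs.length) f =
              a'.hom ≫ tilde.map (f • 𝟙 (Q N rs)) ≫ a'.inv := by
            rw [tilde_smul, ← Category.assoc, ← FFun.smulMod_naturality a'.hom f, Category.assoc,
              a'.hom_inv_id, Category.comp_id]
          haveI := QCoh.tildeMap_mono (f • 𝟙 (Q N rs))
          rw [ha]
          infer_instance
      haveI := hmono q (by omega)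
      haveI : Mono (HomologicalComplex.homologyMap (ExtShShift.cxMap I g) q) := by
        rcases q with - | q
        · haveI : Epi (ShortComplex.mk m g hmg).g := hS.epi_g
          obtain ⟨w', hmg', -⟩ := ExtShShift.homMap_exact hS.exact L
          haveI : Mono ((homMap g).app L) := hmg'
          rw [show HomologicalComplex.homologyMap (ExtShShift.cxMap I g) 0 =
            (ExtShShift.zeroIso I P').inv ≫ (homMap g).app L ≫ (ExtShShift.zeroIso I P).hom by
              rw [ExtShShift.zeroIso_naturality, Iso.inv_hom_id_assoc]]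
          infer_instance
        · have z₁ : IsZero ((ExtShShift.cx I P).homology q) := hl hN0 q (by omega)
          exact (hc.homology_exact₁ q (q + 1) rfl).mono_g (z₁.eq_of_src _ _)
      show IsZero ((ExtShShift.cx I P').homology q)
      refine IsZero.of_mono_eq_zero (HomologicalComplex.homologyMap (ExtShShift.cxMap I g) q) ?_
      rw [← cancel_mono (HomologicalComplex.homologyMap (ExtShShift.cxMap I m) q), zero_comp]
      exact (HomologicalComplex.homologyMap_comp (ExtShShift.cxMap I g) (ExtShShift.cxMap I m) q).symm.trans (by rw [show ExtShShift.cxMap I g ≫ ExtShShift.cxMap I m = 0 from w, HomologicalComplex.homologyMap_zero])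

end Groth.Agent.KoszulExt
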