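import Groth.Agent.Koszul15.Basic
import Mathlib.Algebra.Colimit.Module
import Mathlib.RingTheory.MvPolynomial.Ideal
import Mathlib.RingTheory.MvPolynomial.Basic
import Mathlib.Algebra.Module.Basic
import Mathlib.Algebra.Homology.ShortComplex.Exact

/-!
# The limit Koszul cohomology of a polynomial ring in its variables
-/

set_option autoImplicit false
set_option linter.style.haveILetI false

universe u

open CategoryTheory CategoryTheory.Limits CochainComplex

namespace Groth.Agent.Lib.KoszulPoly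

section DirLim

variable {R : Type u} [CommRing R] {G : ℕ → Type u} [∀ n, AddCommGroup (G n)] [∀ n, Module R (G n)]
  (f : ∀ n m, n ≤ m → G n →ₗ[R] G m) [DirectedSystem G fun n m h => f n m h] {F : Type u} [AddCommGroup F]

theorem exists_addEquiv (Φ : ∀ n, G n →+ F) (hc : ∀ n m h x, Φ m (f n m h x) = Φ n x)
    (hinj : ∀ n x, Φ n x = 0 → x = 0) (hsurj : ∀ y, ∃ n x, Φ n x = y) :
    ∃ e : Module.DirectLimit G f ≃+ F, ∀ n x, e (Module.DirectLimit.of R ℕ G f n x) = Φ n x := by
  choose i x hx using fun z : Module.DirectLimit G f => Module.DirectLimit.exists_of (f := f) z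
  have key : ∀ n (a : G n), Φ (i (Module.DirectLimit.of R ℕ G f n a)) (x (Module.DirectLimit.of R ℕ G f n a)) = Φ n a := by
    intro n a
    set m := i (Module.DirectLimit.of R ℕ G f n a)
    set b := x (Module.DirectLimit.of R ℕ G f n a)
    have h0 : Module.DirectLimit.of R ℕ G f (max m n)
        (f m (max m n) (le_max_left _ _) b - f n (max m n) (le_max_right _ _) a) = 0 := by
      rw [map_sub, Module.DirectLimit.of_f, Module.DirectLimit.of_f, hx, sub_self]
    obtain ⟨k, hk, h1⟩ := Module.DirectLimit.of.zero_exact h0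
    have h2 := congrArg (Φ k) h1
    rw [map_zero, map_sub, map_sub, hc, hc, hc, hc, sub_eq_zero] at h2
    exact h2
  let e : Module.DirectLimit G f →+ F := AddMonoidHom.mk' (fun z => Φ (i z) (x z)) fun a b => by
    obtain ⟨n, a', b', rfl, rfl⟩ : ∃ n a' b', Module.DirectLimit.of R ℕ G f n a' = a ∧
        Module.DirectLimit.of R ℕ G f n b' = b := by
      refine ⟨max (i a) (i b), f _ _ (le_max_left _ _) (x a), f _ _ (le_max_right _ _) (x b), ?_, ?_⟩
      · rw [Module.DirectLimit.of_f, hx]
      · rw [Module.DirectLimit.of_f, hx]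
    rw [← map_add, key, key, key, map_add]
  have he : ∀ n a, e (Module.DirectLimit.of R ℕ G f n a) = Φ n a := key
  refine ⟨AddEquiv.ofBijective e ⟨(injective_iff_map_eq_zero e).2 fun z hz => ?_, fun y => ?_⟩, he⟩
  · obtain ⟨n, a, rfl⟩ := Module.DirectLimit.exists_of (f := f) z
    rw [he] at hz
    rw [hinj n a hz, map_zero]
  · obtain ⟨n, a, rfl⟩ := hsurj y
    exact ⟨_, he n a⟩

end DirLim

section Top

variable {A : Type u} [CommRing A]

local notation "K(" fs ", " M ")" => CohIII.koszulCx M fs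

/-- The degree zero term of a Koszul complex is the module. -/
noncomputable def p0 (M : ModuleCat.{u} A) : ∀ fs : List A, K(fs, M).X 0 →ₗ[A] M
  | [] => (HomologicalComplex.singleObjXSelf (ComplexShape.up ℤ) 0 M).hom.hom
  | f :: fs => p0 M fs ∘ₗ ((mappingCone.snd (f • 𝟙 K(fs, M))).v 0 0 (add_zero 0)).hom

theorem p0_bijective (M : ModuleCat.{u} A) : ∀ fs : List A, Function.Bijective (p0 M fs)
  | [] => ConcreteCategory.bijective_of_isIso (HomologicalComplex.singleObjXSelf (ComplexShape.up ℤ) 0 M).hom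
  | f :: fs => by
    refine (p0_bijective M fs).comp ⟨fun z z' h => Koszul15.cone_ext f fs ?_ h, fun y => ?_⟩
    · exact (ModuleCat.subsingleton_of_isZero (Koszul15.isZero_X M fs (0 + 1) (Or.inl (by omega)))).elim _ _
    · exact ⟨(mappingCone.inr (f • 𝟙 K(fs, M))).f 0 y,
        ConcreteCategory.congr_hom (mappingCone.inr_f_snd_v (f • 𝟙 K(fs, M)) 0) y⟩

theorem map_range_d (M : ModuleCat.{u} A) : ∀ fs : List A,
    (LinearMap.range (K(fs, M).d (-1) 0).hom).map (p0 M fs) = Ideal.ofList fs • (⊤ : Submodule A M)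
  | [] => by
    have h0 : K(([] : List A), M).d (-1) 0 = 0 := (Koszul15.isZero_X M [] (-1) (by simp)).eq_of_src _ _
    rw [h0, Ideal.ofList_nil, Submodule.bot_smul, ModuleCat.hom_zero, LinearMap.range_zero, Submodule.map_bot]
  | f :: fs => by
    let φ := f • 𝟙 K(fs, M)
    have hd : ∀ w : K(f :: fs, M).X (-1), p0 M (f :: fs) (K(f :: fs, M).d (-1) 0 w) =
        f • p0 M fs ((mappingCone.fst φ).1.v (-1) 0 (by norm_num) w) +
          p0 M fs (K(fs, M).d (-1) 0 ((mappingCone.snd φ).v (-1) (-1) (add_zero _) w)) := fun w => by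
      have := ConcreteCategory.congr_hom (mappingCone.d_snd_v φ (-1) 0 (by norm_num)) w
      refine (congrArg (p0 M fs) this).trans ?_
      rw [← map_smul, ← map_add]
      rfl
    rw [Ideal.ofList_cons, Submodule.sup_smul, Submodule.ideal_span_singleton_smul, ← map_range_d M fs]
    refine le_antisymm ?_ (sup_le ?_ ?_)
    · rintro _ ⟨_, ⟨w, rfl⟩, rfl⟩
      rw [hd]
      exact Submodule.add_mem_sup (Submodule.smul_mem_pointwise_smul _ f ⊤ trivial)
        (Submodule.mem_map_of_mem ⟨_, rfl⟩)
    · rintro _ ⟨m, -, rfl⟩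
      obtain ⟨y, rfl⟩ := (p0_bijective M fs).2 m
      refine ⟨_, ⟨(mappingCone.inl φ).v 0 (-1) (by norm_num) y, rfl⟩, (hd _).trans ?_⟩
      erw [ConcreteCategory.congr_hom (mappingCone.inl_v_fst_v φ 0 (-1) (by norm_num)) y,
        ConcreteCategory.congr_hom (mappingCone.inl_v_snd_v φ 0 (-1) (by norm_num)) y]
      simp
    · rintro _ ⟨_, ⟨v, rfl⟩, rfl⟩
      refine ⟨_, ⟨(mappingCone.inr φ).f (-1) v, rfl⟩, (hd _).trans ?_⟩
      erw [ConcreteCategory.congr_hom (mappingCone.inr_f_fst_v φ (-1) 0 (by norm_num)) v,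
        ConcreteCategory.congr_hom (mappingCone.inr_f_snd_v φ (-1)) v]
      simp

theorem p0_trans (M : ModuleCat.{u} A) (n m : ℕ) (h : n ≤ m) : ∀ (fs : List A) (x : K(fs.map (· ^ n), M).X 0),
    p0 M (fs.map (· ^ m)) ((CohIII.koszulTrans M n m h fs).f 0 x) =
      (fs.map (· ^ (m - n))).prod • p0 M (fs.map (· ^ n)) x
  | [], x => by
    show p0 M [] x = (1 : A) • p0 M [] x
    rw [one_smul]
  | f :: fs, x => by
    let φ := f ^ n • 𝟙 K(fs.map (· ^ n), M)
    let ψ := f ^ m • 𝟙 K(fs.map (· ^ m), M)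
    have e : (CohIII.koszulTrans M n m h (f :: fs)).f 0 ≫ (mappingCone.snd ψ).v 0 0 (add_zero 0) =
        (mappingCone.snd φ).v 0 0 (add_zero 0) ≫ (f ^ (m - n) • CohIII.koszulTrans M n m h fs).f 0 := by
      show (mappingCone.map _ _ _ _ _).f 0 ≫ _ = _
      simp [mappingCone.ext_from_iff _ (0 + 1) 0 rfl, mappingCone.map, φ, ψ]
    refine (congrArg (p0 M (fs.map (· ^ m))) (ConcreteCategory.congr_hom e x)).trans ?_
    show p0 M (fs.map (· ^ m)) (f ^ (m - n) • (CohIII.koszulTrans M n m h fs).f 0 _) = _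
    rw [map_smul, p0_trans M n m h fs, smul_smul, List.map_cons, List.prod_cons]
    rfl

theorem exists_ofHomology {F : Type u} [AddCommGroup F] (M : ModuleCat.{u} A) (fs : List A) (φ : M →+ F)
    (hker : ∀ x, φ x = 0 ↔ x ∈ Ideal.ofList fs • (⊤ : Submodule A M)) :
    ∃ Φ : K(fs, M).homology 0 →+ F, (∀ z, Φ z = 0 → z = 0) ∧
      ∀ c, Φ ((K(fs, M).homologyπ 0).hom c) = φ (p0 M fs ((K(fs, M).iCycles 0).hom c)) := by
  let K := K(fs, M)
  let π : K.cycles 0 →+ K.homology 0 := (K.homologyπ 0).hom.toAddMonoidHom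
  have hπ : Function.Surjective π := (ModuleCat.epi_iff_surjective (K.homologyπ 0)).1 inferInstance
  have hiff : ∀ c, π c = 0 ↔ φ (p0 M fs ((K.iCycles 0).hom c)) = 0 := by
    intro c
    have hex := ShortComplex.exact_of_g_is_cokernel
      (ShortComplex.mk (K.toCycles (-1) 0) (K.homologyπ 0) (by simp)) (K.homologyIsCokernel (-1) 0 (by simp))
    rw [ShortComplex.ShortExact.moduleCat_exact_iff_function_exact] at hex
    rw [hker, ← map_range_d]
    refine Iff.trans (hex c) ⟨?_, ?_⟩
    · rintro ⟨w, rfl⟩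
      refine ⟨_, ⟨w, rfl⟩, congrArg _ ?_⟩
      exact (ConcreteCategory.congr_hom (K.toCycles_i (-1) 0) w).symm
    · rintro ⟨_, ⟨w, rfl⟩, hw⟩
      refine ⟨w, (ModuleCat.mono_iff_injective (K.iCycles 0)).1 inferInstance ?_⟩
      exact (ConcreteCategory.congr_hom (K.toCycles_i (-1) 0) w).trans ((p0_bijective M fs).1 hw)
  let ψ : K.cycles 0 →+ F := φ.comp ((p0 M fs).toAddMonoidHom.comp (K.iCycles 0).hom.toAddMonoidHom)
  let Φ : K.homology 0 →+ F := π.liftOfSurjective hπ ⟨ψ, fun c hc => (hiff c).1 hc⟩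
  have hΦ : ∀ c, Φ (π c) = ψ c := fun c => AddMonoidHom.liftOfRightInverse_comp_apply π _ _ _ c
  refine ⟨Φ, fun z hz => ?_, hΦ⟩
  obtain ⟨c, rfl⟩ := hπ z
  exact (hiff c).2 ((hΦ c).symm.trans hz)

theorem iCycles_bijective (M : ModuleCat.{u} A) (fs : List A) :
    Function.Bijective (K(fs, M).iCycles 0).hom := by
  have h : K(fs, M).d 0 1 = 0 := (Koszul15.isZero_X M fs 1 (Or.inl (by omega))).eq_of_tgt _ _
  haveI := K(fs, M).isIso_iCycles 0 1 (by simp) h
  exact ConcreteCategory.bijective_of_isIso (K(fs, M).iCycles 0)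

theorem exists_lim_equiv {F : Type u} [AddCommGroup F] (M : ModuleCat.{u} A) (fs : List A)
    (φ : ℕ → (M →+ F)) (hker : ∀ n x, φ n x = 0 ↔ x ∈ Ideal.ofList (fs.map (· ^ n)) • (⊤ : Submodule A M))
    (hc : ∀ n m, n ≤ m → ∀ x, φ m ((fs.map (· ^ (m - n))).prod • x) = φ n x)
    (hsurj : ∀ y, ∃ n x, φ n x = y) (p : ℕ) (hp : p = fs.length) :
    ∃ e : CohIII.koszulHLim fs M p ≃+ F, ∀ z, ∃ n x, e z = φ n x ∧
      ∀ a : A, e (a • z) = φ n (a • x) := by
  suffices key : ∀ q : ℤ, q = 0 → ∃ e : Module.DirectLimit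
      (fun n : ℕ => (K(fs.map (· ^ n), M).homology q : Type u))
      (fun n m h => (HomologicalComplex.homologyMap (CohIII.koszulTrans M n m h fs) q).hom) ≃+ F,
      ∀ z, ∃ n x, e z = φ n x ∧ ∀ a : A, e (a • z) = φ n (a • x) from key _ (by omega)
  rintro q rfl
  choose Φ hΦ0 hΦ using fun n => exists_ofHomology M (fs.map (· ^ n)) (φ n) (hker n)
  have hc' : ∀ n m (h : n ≤ m) x,
      Φ m ((HomologicalComplex.homologyMap (CohIII.koszulTrans M n m h fs) 0).hom x) = Φ n x := by
    intro n m h x
    obtain ⟨c, rfl⟩ := (ModuleCat.epi_iff_surjective (K(fs.map (· ^ n), M).homologyπ 0)).1 inferInstance x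
    erw [ConcreteCategory.congr_hom (HomologicalComplex.homologyπ_naturality (CohIII.koszulTrans M n m h fs) 0) c]
    refine (hΦ m _).trans ((congrArg (fun t => φ m (p0 M _ t))
      (ConcreteCategory.congr_hom (HomologicalComplex.cyclesMap_i (CohIII.koszulTrans M n m h fs) 0) c)).trans ?_)
    refine Eq.trans ?_ (hΦ n c).symm
    rw [← hc n m h]
    exact congrArg (φ m) (p0_trans M n m h fs _)
  haveI : DirectedSystem (fun n : ℕ => (K(fs.map (· ^ n), M).homology 0 : Type u))
      fun n m h => (HomologicalComplex.homologyMap (CohIII.koszulTrans M n m h fs) 0).hom := by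
    constructor
    · intro n x
      exact sub_eq_zero.1 (hΦ0 n _ ((map_sub (Φ n) _ _).trans (sub_eq_zero.2 (hc' n n le_rfl x))))
    · intro l m n h₁ h₂ x
      exact sub_eq_zero.1 (hΦ0 l _ ((map_sub (Φ l) _ _).trans
        (sub_eq_zero.2 ((hc' m l h₂ _).trans ((hc' n m h₁ x).trans (hc' n l (h₁.trans h₂) x).symm)))))
  obtain ⟨e, he⟩ := exists_addEquiv
    (fun n m h => (HomologicalComplex.homologyMap (CohIII.koszulTrans M n m h fs) 0).hom) Φ hc' hΦ0 fun y => by
      obtain ⟨n, x, rfl⟩ := hsurj y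
      obtain ⟨z, rfl⟩ := (p0_bijective M (fs.map (· ^ n))).2 x
      obtain ⟨c, rfl⟩ := (iCycles_bijective M (fs.map (· ^ n))).2 z
      exact ⟨n, _, hΦ n c⟩
  refine ⟨e, fun z => ?_⟩
  obtain ⟨n, w, rfl⟩ := Module.DirectLimit.exists_of z
  obtain ⟨c, rfl⟩ := (ModuleCat.epi_iff_surjective (K(fs.map (· ^ n), M).homologyπ 0)).1 inferInstance w
  refine ⟨n, p0 M (fs.map (· ^ n)) ((K(fs.map (· ^ n), M).iCycles 0).hom c), (he n _).trans (hΦ n c), fun a => ?_⟩
  have h2 : p0 M (fs.map (· ^ n)) ((K(fs.map (· ^ n), M).iCycles 0).hom (a • c)) =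
      a • p0 M (fs.map (· ^ n)) ((K(fs.map (· ^ n), M).iCycles 0).hom c) := by
    rw [map_smul, map_smul]
  refine Eq.trans (congrArg e ?_) ((he n _).trans ((hΦ n (a • c)).trans (congrArg (φ n) h2)))
  exact ((congrArg _ (map_smul (K(fs.map (· ^ n), M).homologyπ 0).hom a c)).trans (map_smul _ a _)).symm

end Top

section Poly

open MvPolynomial

variable (A : Type u) [CommRing A] (r : ℕ)

local notation "S" => MvPolynomial (Fin (r + 1)) A

/-- Exponent vectors with positive entries. -/
abbrev Pos : Type := {c : Fin (r + 1) → ℕ // ∀ j, 1 ≤ c j}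

/-- The coefficient functions of the box of size `n`. -/
noncomputable def box (n : ℕ) : MvPolynomial (Fin (r + 1)) A →ₗ[A] (Pos r →₀ A) :=
  LinearMap.mk ⟨fun p => Finsupp.ofSupportFinite
    (fun c => if ∀ j, c.1 j ≤ n then coeff (Finsupp.equivFunOnFinite.symm fun j => n - c.1 j) p else 0)
    (((Set.Finite.pi (fun _ : Fin (r + 1) => Set.finite_Iic n)).preimage Subtype.val_injective.injOn).subset
      fun c hc => by
        simp only [Function.mem_support, ne_eq, ite_eq_right_iff, not_forall] at hc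
        exact fun j _ => hc.1 j),
    fun p q => by
      ext c
      simp only [Finsupp.ofSupportFinite_coe, Finsupp.coe_add, Pi.add_apply, coeff_add]
      split_ifs <;> simp⟩ fun a p => by
      ext c
      simp only [Finsupp.ofSupportFinite_coe, Finsupp.coe_smul, Pi.smul_apply, coeff_smul, RingHom.id_apply]
      split_ifs <;> simp

theorem box_apply (n : ℕ) (p : S) (c : Pos r) : box A r n p c =
    if ∀ j, c.1 j ≤ n then coeff (Finsupp.equivFunOnFinite.symm fun j => n - c.1 j) p else 0 := rfl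

theorem ofList_pow (n : ℕ) :
    Ideal.ofList ((List.ofFn fun j : Fin (r + 1) => (X j : S)).map (· ^ n)) =
      Ideal.span ((fun s => monomial s (1 : A)) '' Set.range fun j : Fin (r + 1) => Finsupp.single j n) := by
  rw [Ideal.ofList]
  congr 1
  ext x
  simp only [List.mem_map, List.mem_ofFn', Set.mem_range, exists_exists_eq_and, Set.mem_image]
  exact exists_congr fun j => by rw [X_pow_eq_monomial]

theorem box_eq_zero_iff (n : ℕ) (p : S) : box A r n p = 0 ↔
    p ∈ Ideal.ofList ((List.ofFn fun j : Fin (r + 1) => (X j : S)).map (· ^ n)) := by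
  rw [ofList_pow, mem_ideal_span_monomial_image, Finsupp.ext_iff]
  constructor
  · intro h a ha
    by_contra hne
    simp only [Set.mem_range, exists_exists_eq_and, not_exists] at hne
    have hlt : ∀ j, a j < n := fun j => by
      by_contra hj
      exact hne j (Finsupp.single_le_iff.2 (not_lt.1 hj))
    have h1 := h ⟨fun j => n - a j, fun j => by show 1 ≤ n - a j; have := hlt j; omega⟩
    rw [box_apply, if_pos (fun j => Nat.sub_le _ _)] at h1
    refine mem_support_iff.1 ha (Eq.trans ?_ h1)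
    congr 1
    ext j
    simp only [Finsupp.equivFunOnFinite_symm_apply_apply]
    have := hlt j
    omega
  · intro h c
    rw [box_apply]
    split_ifs with hc
    · by_contra hne
      obtain ⟨_, ⟨j, rfl⟩, hj⟩ := h _ (mem_support_iff.2 hne)
      have := Finsupp.single_le_iff.1 hj
      simp only [Finsupp.equivFunOnFinite_symm_apply_apply] at this
      have := c.2 j
      have := hc j
      omega
    · rfl

theorem prod_pow (k : ℕ) : ((List.ofFn fun j : Fin (r + 1) => (X j : S)).map (· ^ k)).prod =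
    monomial (Finsupp.equivFunOnFinite.symm fun _ => k) (1 : A) := by
  rw [List.map_ofFn, List.prod_ofFn, monomial_eq, map_one, one_mul, Finsupp.prod_fintype _ _ (fun i => by simp)]
  simp

theorem box_trans (n m : ℕ) (h : n ≤ m) (p : S) :
    box A r m (((List.ofFn fun j : Fin (r + 1) => (X j : S)).map (· ^ (m - n))).prod • p) = box A r n p := by
  ext c
  rw [smul_eq_mul, prod_pow, box_apply, box_apply, coeff_monomial_mul', one_mul]
  by_cases hc : ∀ j, c.1 j ≤ n
  · rw [if_pos (fun j => (hc j).trans h), if_pos hc, if_pos]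
    · congr 1
      ext j
      simp only [Finsupp.coe_tsub, Pi.sub_apply, Finsupp.equivFunOnFinite_symm_apply_apply]
      have := hc j
      omega
    · intro j
      simp only [Finsupp.equivFunOnFinite_symm_apply_apply]
      have := hc j
      omega
  · rw [if_neg hc]
    split_ifs with hm hle
    · refine absurd (fun j => ?_) hc
      have h1 := hle j
      simp only [Finsupp.equivFunOnFinite_symm_apply_apply] at h1
      have := hm j
      omega
    · rfl
    · rfl

theorem box_surj (y : Pos r →₀ A) : ∃ (n : ℕ) (p : S), box A r n p = y := by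
  induction y using Finsupp.induction with
  | zero => exact ⟨0, 0, map_zero _⟩
  | single_add c a y _ _ ih =>
    obtain ⟨n, p, rfl⟩ := ih
    let n' := max n (Finset.univ.sup c.1)
    refine ⟨n', monomial (Finsupp.equivFunOnFinite.symm fun j => n' - c.1 j) a +
      ((List.ofFn fun j : Fin (r + 1) => (X j : S)).map (· ^ (n' - n))).prod • p, ?_⟩
    rw [map_add, box_trans A r n n' (le_max_left _ _)]
    congr 1
    have hc : ∀ j, c.1 j ≤ n' := fun j => (Finset.le_sup (Finset.mem_univ j)).trans (le_max_right _ _)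
    ext d
    rw [box_apply, coeff_monomial, Finsupp.single_apply]
    by_cases hdc : c = d
    · subst hdc
      rw [if_pos hc, if_pos rfl, if_pos rfl]
    · rw [if_neg hdc]
      split_ifs with h1 h2
      · refine absurd (Subtype.ext (funext fun j => ?_)) hdc
        have h3 := DFunLike.congr_fun h2 j
        simp only [Finsupp.equivFunOnFinite_symm_apply_apply] at h3
        have := h1 j
        have := hc j
        omega
      · rfl
      · rfl

theorem free_top :
    Module.Free A (RestrictScalars A S (CohIII.koszulHLim (List.ofFn fun j : Fin (r + 1) => (X j : S))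
      (ModuleCat.of S S) (r + 1))) := by
  obtain ⟨e, he⟩ := exists_lim_equiv (ModuleCat.of S S) (List.ofFn fun j : Fin (r + 1) => (X j : S))
    (fun n => (box A r n).toAddMonoidHom)
    (fun n x => (box_eq_zero_iff A r n x).trans (by rw [smul_eq_mul, ← Ideal.one_eq_top, mul_one]))
    (fun n m h x => box_trans A r n m h x) (box_surj A r) (r + 1) (List.length_ofFn).symm
  let e' : RestrictScalars A S (CohIII.koszulHLim (List.ofFn fun j : Fin (r + 1) => (X j : S))
      (ModuleCat.of S S) (r + 1)) ≃ₗ[A] (Pos r →₀ A) :=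
    { (RestrictScalars.addEquiv A S _).trans e with
      map_smul' := fun a z => by
        obtain ⟨n, x, h1, h2⟩ := he (RestrictScalars.addEquiv A S _ z)
        show e (RestrictScalars.addEquiv A S _ (a • z)) = a • e (RestrictScalars.addEquiv A S _ z)
        rw [RestrictScalars.addEquiv_map_smul, h2, h1]
        show box A r n (algebraMap A S a * x) = a • box A r n x
        rw [← map_smul, Algebra.smul_def] }
  exact Module.Free.of_equiv e'.symm

theorem isWeaklyRegular_pow (n : ℕ) :
    RingTheory.Sequence.IsWeaklyRegular S ((List.ofFn fun j : Fin (r + 1) => (X j : S)).map (· ^ n)) := by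
  classical
  refine ⟨fun i hi => IsSMulRegular.of_right_eq_zero_of_smul fun f hf => ?_⟩
  obtain ⟨f, rfl⟩ := Submodule.Quotient.mk_surjective _ f
  rw [← Submodule.Quotient.mk_smul, Submodule.Quotient.mk_eq_zero] at hf
  rw [Submodule.Quotient.mk_eq_zero]
  have hin : i < r + 1 := by simpa using hi
  have hJ : (Ideal.ofList (((List.ofFn fun j : Fin (r + 1) => (X j : S)).map (· ^ n)).take i) •
      (⊤ : Submodule S S)) =
      Ideal.span ((fun s => monomial s (1 : A)) ''
        ((fun j : Fin (r + 1) => Finsupp.single j n) '' {j | (j : ℕ) < i})) := by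
    rw [smul_eq_mul, Ideal.mul_top]
    refine congrArg Ideal.span (Set.ext fun p => ?_)
    simp only [Set.mem_setOf_eq, Set.mem_image, exists_exists_and_eq_and, List.mem_take_iff_getElem,
      List.getElem_map, List.getElem_ofFn, List.length_map, List.length_ofFn]
    constructor
    · rintro ⟨j, hj, rfl⟩
      exact ⟨⟨j, by omega⟩, by simp; omega, X_pow_eq_monomial.symm⟩
    · rintro ⟨j, hj, rfl⟩
      exact ⟨j, by omega, X_pow_eq_monomial⟩
  rw [hJ, mem_ideal_span_monomial_image] at hf ⊢
  intro d hd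
  have hd' : Finsupp.single (⟨i, hin⟩ : Fin (r + 1)) n + d ∈
      ((((List.ofFn fun j : Fin (r + 1) => (X j : S)).map (· ^ n))[i]) • f).support := by
    rw [mem_support_iff, smul_eq_mul, List.getElem_map, List.getElem_ofFn, X_pow_eq_monomial, coeff_monomial_mul,
      one_mul]
    exact mem_support_iff.1 hd
  obtain ⟨_, ⟨j, hj, rfl⟩, hle⟩ := hf _ hd'
  refine ⟨_, ⟨j, hj, rfl⟩, Finsupp.single_le_iff.2 ?_⟩
  have h1 := Finsupp.single_le_iff.1 hle
  have hji : (⟨i, hin⟩ : Fin (r + 1)) ≠ j := fun h => lt_irrefl i (by rw [← h] at hj; exact hj)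
  rwa [Finsupp.add_apply, Finsupp.single_eq_of_ne' hji, zero_add] at h1

theorem subsingleton_ne (i : ℕ) (hi : i ≠ r + 1) :
    Subsingleton (CohIII.koszulHLim (List.ofFn fun j : Fin (r + 1) => (X j : S)) (ModuleCat.of S S) i) := by
  unfold CohIII.koszulHLim
  refine subsingleton_of_forall_eq 0 fun z => ?_
  obtain ⟨n, x, rfl⟩ := Module.DirectLimit.exists_of z
  haveI := ModuleCat.subsingleton_of_isZero (Koszul15.isZero_homology_of_isWeaklyRegular
    ((List.ofFn fun j : Fin (r + 1) => (X j : S)).map (· ^ n)) (ModuleCat.of S S) (isWeaklyRegular_pow A r n)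
    ((i : ℤ) - ((List.ofFn fun j : Fin (r + 1) => (X j : S)).length : ℤ)) (by rw [List.length_ofFn]; omega))
  rw [Subsingleton.elim x 0, map_zero]

end Poly

end Groth.Agent.Lib.KoszulPoly
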