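import Groth.Agent.QCoh.GodHH
import Groth.Agent.QCoh.RpushGod
import Groth.Agent.QCoh.ProperFinite

/-!
The lowest degree of the Leray spectral sequence.
-/

set_option autoImplicit false
set_option linter.style.haveILetI false
set_option backward.isDefEq.respectTransparency false
set_option backward.isDefEq.respectTransparency.types false

universe u

open CategoryTheory CategoryTheory.Limits AlgebraicGeometry TopologicalSpace Opposite

noncomputable section

set_option maxHeartbeats 300000

namespace Groth.Agent.LerayLow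

open Groth.Agent Groth.Agent.QCoh

variable {X Y : Scheme.{u}}

/-- A cohomology group vanishes iff the last map of the Godement resolution is surjective on global sections. -/
theorem subsingleton_iff_surjective (M : X.Modules) (q : ℕ) :
    Subsingleton (Coh.HH X M (q + 1)) ↔ Function.Surjective ((godπ M q).app ⊤) := by
  let ρ : ULift.{u} ℤ →+* Coh.Γtop X :=
    (Int.castRingHom (Coh.Γtop X)).comp (ULift.ringEquiv : ULift.{u} ℤ ≃+* ℤ).toRingHom
  obtain ⟨e⟩ := nonempty_shift ρ M q q 0 (Nat.zero_add q)
  have hd : Function.Surjective (Ab.connecting (X := X.toPresheafedSpace.carrier)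
      (toAb_shortExact (godSES_shortExact M q)) 0) :=
    Ab.connecting_surjective (X := X.toPresheafedSpace.carrier)
      (toAb_shortExact (godSES_shortExact M q)) 0 (subsingleton_HH_God (godQ M q) 0)
  let eA := Sheaf.H.equiv₀ (Coh.toAb (God (godQ M q))) isTerminalTop
  let eB := Sheaf.H.equiv₀ (Coh.toAb (godQ M (q + 1))) isTerminalTop
  have hnat : ∀ y, eB (Sheaf.H.map ((godSES M q).map (toAbFunctor X)).g 0 y) = (godπ M q).app ⊤ (eA y) :=
    fun y => (Sheaf.H.equiv₀_naturality isTerminalTop ((godSES M q).map (toAbFunctor X)).g y).symm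
  constructor
  · intro h v
    haveI : Subsingleton (Coh.HH X (godQ M q) 1) := e.toEquiv.subsingleton
    obtain ⟨y, hy⟩ := (Ab.connecting_eq_zero_iff (X := X.toPresheafedSpace.carrier)
      (toAb_shortExact (godSES_shortExact M q)) 0 (eB.symm v)).1
      (Subsingleton.elim (α := Coh.HH X (godQ M q) 1) _ _)
    refine ⟨eA y, (hnat y).symm.trans ?_⟩
    exact (congrArg eB hy).trans (eB.apply_symm_apply v)
  · intro h
    haveI : Subsingleton (Coh.HH X (godQ M q) 1) := subsingleton_of_forall_eq 0 fun z => by
      obtain ⟨x, rfl⟩ := hd z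
      obtain ⟨a, ha⟩ := h (eB x)
      refine (Ab.connecting_eq_zero_iff (X := X.toPresheafedSpace.carrier)
        (toAb_shortExact (godSES_shortExact M q)) 0 x).2 ⟨eA.symm a, eB.injective ?_⟩
      refine (hnat _).trans ?_
      exact (congrArg ((godπ M q).app ⊤) (eA.apply_symm_apply a)).trans ha
    exact e.symm.toEquiv.subsingleton

variable (f : X ⟶ Y)

theorem isFlasqueMod_push {N : X.Modules} (h : IsFlasqueMod N) :
    IsFlasqueMod ((Scheme.Modules.pushforward f).obj N) where
  epi i := h.epi ((Opens.map f.base).map i.unop).op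

theorem push_shortExact {S : ShortComplex X.Modules} (hS : S.ShortExact)
    (h : Epi ((Scheme.Modules.pushforward f).map S.g)) : (S.map (Scheme.Modules.pushforward f)).ShortExact := by
  haveI : PreservesFiniteLimits (Scheme.Modules.pushforward f) :=
    haveI := (Scheme.Modules.pullbackPushforwardAdjunction f).isRightAdjoint
    inferInstance
  haveI := hS.mono_f
  exact { exact := hS.exact.map_of_mono_of_preservesKernel _ inferInstance inferInstance
          mono_f := inferInstanceAs (Mono ((Scheme.Modules.pushforward f).map S.f))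
          epi_g := h }

/-- Left exact with flasque ends: the cokernel has no global sections iff the map is onto on global sections. -/
theorem subsingleton_cokernel_iff {A C B : Y.Modules} (k : A ⟶ C) [Mono k] (α : C ⟶ B) (hk : k ≫ α = 0)
    (hex : (ShortComplex.mk k α hk).Exact) (hA : IsFlasqueMod A) (hC : IsFlasqueMod C) :
    Subsingleton Γ(cokernel α, ⊤) ↔ Function.Surjective (α.app ⊤) := by
  obtain ⟨j, hj, hjm⟩ : ∃ j : cokernel k ⟶ B, cokernel.π k ≫ j = α ∧ Mono j :=
    ⟨_, cokernel.π_desc k α hk, (ShortComplex.exact_iff_mono_cokernel_desc _).1 hex⟩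
  haveI := hjm
  have hS₁ : (ShortComplex.mk k (cokernel.π k) (cokernel.condition _)).ShortExact :=
    { exact := ShortComplex.exact_of_g_is_cokernel _ (cokernelIsCokernel _) }
  have hS₂ : (ShortComplex.mk j (cokernel.π j) (cokernel.condition _)).ShortExact :=
    { exact := ShortComplex.exact_of_g_is_cokernel _ (cokernelIsCokernel _) }
  have hflI : IsFlasqueMod (cokernel k) := isFlasqueMod_X₃ hS₁ hA hC
  have hg₁ : Function.Surjective ((cokernel.π k).app ⊤) := fun t =>
    haveI := hA
    SiteBase.surjective_sections_of_HU_one (toAb_shortExact hS₁) ⊤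
      (SiteBase.subsingleton_HU_of_isFlasque (X := Y.toPresheafedSpace.carrier) (abSheaf A) ⊤ 0) t
  have hg₂ : Function.Surjective ((cokernel.π j).app ⊤) := fun t =>
    haveI := hflI
    SiteBase.surjective_sections_of_HU_one (toAb_shortExact hS₂) ⊤
      (SiteBase.subsingleton_HU_of_isFlasque (X := Y.toPresheafedSpace.carrier) (abSheaf (cokernel k)) ⊤ 0) t
  have hja : ∀ a, j.app ⊤ ((cokernel.π k).app ⊤ a) = α.app ⊤ a := fun a =>
    congr($(congrArg (fun m : C ⟶ B => m.app ⊤) hj) a)
  let e : cokernel α ≅ cokernel j := (cokernelIsoOfEq hj).symm ≪≫ cokernelEpiComp (cokernel.π k) j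
  have hid := fun c => congr($(congrArg (fun m : cokernel j ⟶ cokernel j => m.app ⊤) e.inv_hom_id) c)
  have hid' := fun c => congr($(congrArg (fun m : cokernel α ⟶ cokernel α => m.app ⊤) e.hom_inv_id) c)
  constructor
  · intro hs b
    haveI : Subsingleton Γ(cokernel j, ⊤) := ⟨fun x y =>
      (hid x).symm.trans ((congrArg (e.hom.app ⊤) (hs.elim _ _)).trans (hid y))⟩
    obtain ⟨c, hc⟩ := exists_app_f_eq hS₂ ⊤ b (Subsingleton.elim (α := Γ(cokernel j, ⊤)) _ _)
    obtain ⟨a, rfl⟩ := hg₁ c
    exact ⟨a, (hja a).symm.trans hc⟩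
  · intro hs
    haveI : Subsingleton Γ(cokernel j, ⊤) := subsingleton_of_forall_eq 0 fun r => by
      obtain ⟨b, rfl⟩ := hg₂ r
      obtain ⟨a, ha⟩ := hs b
      rw [← ha, ← hja]
      exact app_g_f (S := ShortComplex.mk j (cokernel.π j) (cokernel.condition _)) ⊤ _
    exact ⟨fun x y => (hid' x).symm.trans ((congrArg (e.inv.app ⊤) (Subsingleton.elim _ _)).trans (hid' y))⟩

theorem subsingleton_sections_congr {A B : Y.Modules} (e : A ≅ B) :
    Subsingleton Γ(A, ⊤) ↔ Subsingleton Γ(B, ⊤) :=
  ⟨fun h => ⟨fun x y => (congr($(congrArg (fun m : B ⟶ B => m.app ⊤) e.inv_hom_id) x)).symm.trans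
      ((congrArg (e.hom.app ⊤) (h.elim _ _)).trans (congr($(congrArg (fun m : B ⟶ B => m.app ⊤) e.inv_hom_id) y)))⟩,
    fun h => ⟨fun x y => (congr($(congrArg (fun m : A ⟶ A => m.app ⊤) e.hom_inv_id) x)).symm.trans
      ((congrArg (e.inv.app ⊤) (h.elim _ _)).trans (congr($(congrArg (fun m : A ⟶ A => m.app ⊤) e.hom_inv_id) y)))⟩⟩

variable [HasInjectiveResolutions X.Modules] {M : X.Modules}

/-- Below the first nonzero higher direct image the pushforwards of the cosyzygies are flasque. -/
theorem isFlasqueMod_push_godQ (h0 : IsFlasqueMod ((Scheme.Modules.pushforward f).obj M)) :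
    ∀ m : ℕ, (∀ n < m, IsZero ((Coh.Rpush f (n + 1)).obj M)) →
      IsFlasqueMod ((Scheme.Modules.pushforward f).obj (godQ M m)) := by
  intro m
  induction m with
  | zero => exact fun _ => h0
  | succ m ih =>
    intro h
    obtain ⟨e⟩ := nonempty_Rpush_iso f M m
    have hz : IsZero (rpushModel f M m) := (h m (Nat.lt_succ_self m)).of_iso e.symm
    have hepi : Epi ((Scheme.Modules.pushforward f).map (godπ M m)) :=
      Preadditive.epi_of_cokernel_zero (hz.eq_of_tgt _ _)
    exact isFlasqueMod_X₃ (push_shortExact f (godSES_shortExact M m) hepi)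
      (ih fun n hn => h n (Nat.lt_succ_of_lt hn)) (isFlasqueMod_push f (isFlasqueMod_God _))

/-- Below the first nonzero higher direct image, cohomology is the sections of the higher direct image. -/
theorem subsingleton_iff (h0 : IsFlasqueMod ((Scheme.Modules.pushforward f).obj M)) (q : ℕ)
    (h : ∀ n < q, IsZero ((Coh.Rpush f (n + 1)).obj M)) :
    Subsingleton (Coh.HH X M (q + 1)) ↔ Subsingleton Γ((Coh.Rpush f (q + 1)).obj M, ⊤) := by
  obtain ⟨e⟩ := nonempty_Rpush_iso f M q
  rw [subsingleton_iff_surjective M q, subsingleton_sections_congr e]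
  haveI := preservesFiniteLimits_push f
  haveI : Mono ((Scheme.Modules.pushforward f).map (toGod (godQ M q))) :=
    (Scheme.Modules.pushforward f).map_mono _
  exact (subsingleton_cokernel_iff ((Scheme.Modules.pushforward f).map (toGod (godQ M q)))
    ((Scheme.Modules.pushforward f).map (godπ M q))
    (by rw [← (Scheme.Modules.pushforward f).map_comp, toGod_godπ, (Scheme.Modules.pushforward f).map_zero])
    ((godSES_shortExact M q).exact.map_of_mono_of_preservesKernel (Scheme.Modules.pushforward f)
      (inferInstanceAs (Mono (toGod (godQ M q)))) inferInstance)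
    (isFlasqueMod_push_godQ f h0 q h) (isFlasqueMod_push f (isFlasqueMod_God _))).symm

end Groth.Agent.LerayLow
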