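import Groth.Agent.Lib.LerayOneDegree
import Groth.Agent.Lib.Euler
import Groth.Agent.Lib.GenFinPush
import Groth.Agent.QCoh.RpushProper

/-!
Direct images in the degrees zero and one: cohomology and Euler characteristics.
-/

set_option autoImplicit false
set_option linter.style.haveILetI false
set_option linter.unusedSectionVars false
set_option backward.isDefEq.respectTransparency false
set_option backward.isDefEq.respectTransparency.types false
set_option maxHeartbeats 1000000

universe u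

open CategoryTheory CategoryTheory.Limits AlgebraicGeometry TopologicalSpace Opposite

noncomputable section

namespace Groth.Agent.LerayTwoDeg

open Groth.Agent Groth.Agent.QCoh

variable {X Y : Scheme.{u}} {A : Type u} [CommRing A] (ρ : A →+* Coh.Γtop Y)

/-- Maps of global sections, linearly. -/
def secLin {N N' : Y.Modules} (φ : N ⟶ N') :
    letI := secModule ρ N ⊤
    letI := secModule ρ N' ⊤
    Γ(N, ⊤) →ₗ[A] Γ(N', ⊤) :=
  letI := secModule ρ N ⊤
  letI := secModule ρ N' ⊤
  { toFun := fun z => φ.app ⊤ z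
    map_add' := fun z w => map_add _ _ _
    map_smul' := fun r z => Scheme.Modules.Hom.app_smul φ _ z }

variable (f : X ⟶ Y) [HasInjectiveResolutions X.Modules] {M : X.Modules}
  (hR : ∀ n, 2 ≤ n → IsZero ((Coh.Rpush f n).obj M))
  (hY : ∀ j, Subsingleton (Coh.HH Y (LerayCorner.Z f M 0) (j + 2)))

include hY in
theorem subsingleton_B (j : ℕ) : Subsingleton (Coh.HH Y (LerayCorner.B f M 0) (j + 1)) :=
  LerayCorner.subsingleton_HH_X₃ (LerayCorner.shortExact_one f M 0) (j + 1)
    (LerayCorner.subsingleton_HH_God_push f M 0 j) (hY j)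

include hR hY in
/-- The upper cohomology comes from the first direct image. -/
theorem nonempty_high (j : ℕ) :
    letI := modHH ρ ((Coh.Rpush f 1).obj M) (j + 1)
    letI := modHH (f.appTop.hom.comp ρ) M (j + 2)
    Nonempty (Coh.HH Y ((Coh.Rpush f 1).obj M) (j + 1) ≃ₗ[A] Coh.HH X M (j + 2)) := by
  obtain ⟨e₁⟩ := LerayOneDegree.nonempty_Z_shift ρ f (M := M) j 1 fun n hn => hR n (by omega)
  obtain ⟨e₂⟩ := LerayOneDegree.nonempty_Z_one ρ f (M := M) (1 + j) (hR _ (by omega))
  let := modHH ρ ((Coh.Rpush f 1).obj M) (j + 1)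
  let := modHH ρ (LerayCorner.Z f M 1) (j + 1)
  let := modHH ρ (LerayCorner.Z f M (1 + j)) 1
  rw [show j + 2 = 1 + j + 1 by omega]
  let := modHH (f.appTop.hom.comp ρ) M (1 + j + 1)
  let := modHH ρ (cokernel (LerayCorner.incl f M 0)) (j + 1)
  let e₃ : Coh.HH Y (LerayCorner.Z f M 1) (j + 1) ≃ₗ[A] Coh.HH Y (cokernel (LerayCorner.incl f M 0)) (j + 1) :=
    LinearEquiv.ofBijective (LerayOneDegree.mapA ρ (cokernel.π (LerayCorner.incl f M 0)) (j + 1))
      (LerayOneDegree.bijective_mapA ρ (LerayCorner.shortExact_two f M 0) (j + 1)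
        (subsingleton_B f hY j) (subsingleton_B f hY (j + 1)))
  exact ⟨(HHcongr ρ (LerayCorner.nonempty_cokernel_incl f M 0).some.symm (j + 1)).trans
    (e₃.symm.trans (e₁.trans e₂))⟩

include hY in
/-- The first cohomology is an extension of the sections of the first direct image by the first
cohomology of the direct image. -/
theorem exists_middle :
    letI := modHH ρ (LerayCorner.Z f M 0) 1
    letI := modHH ρ ((Coh.Rpush f 1).obj M) 0
    letI := modHH (f.appTop.hom.comp ρ) M 1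
    ∃ I : Submodule A (Coh.HH X M 1), Nonempty (Coh.HH Y (LerayCorner.Z f M 0) 1 ≃ₗ[A] I) ∧
      Nonempty (Coh.HH Y ((Coh.Rpush f 1).obj M) 0 ≃ₗ[A] (Coh.HH X M 1 ⧸ I)) := by
  let := modHH ρ (LerayCorner.Z f M 0) 1
  let := modHH ρ (LerayCorner.B f M 0) 0
  let := modHH ρ ((Coh.Rpush f 1).obj M) 0
  let := modHH (f.appTop.hom.comp ρ) M 1
  let := secModule ρ (LerayCorner.B f M 0) ⊤
  let := secModule ρ (LerayCorner.Z f M 1) ⊤
  let := secModule ρ ((Coh.Rpush f 1).obj M) ⊤
  let := secModule ρ (cokernel (LerayCorner.incl f M 0)) ⊤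
  let := secModule (f.appTop.hom.comp ρ) (godQ M 1) ⊤
  obtain ⟨a, ha, hker⟩ := exists_classMap (f.appTop.hom.comp ρ) M 1
  let θ : Γ(LerayCorner.Z f M 1, ⊤) →ₗ[A] Coh.HH X M 1 :=
    { toFun := fun z => a (show Γ(godQ M 1, ⊤) from z)
      map_add' := fun z w => map_add a _ _
      map_smul' := fun r z => by
        refine Eq.trans (congrArg a ?_) (map_smul a r (show Γ(godQ M 1, ⊤) from z))
        show (show Γ(X, ⊤) from (f.app ⊤).hom
            ((Y.presheaf.map (homOfLE (le_top : (⊤ : Y.Opens) ≤ ⊤)).op).hom (ρ r))) •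
            (show Γ(godQ M 1, ⊤) from z) =
          (X.presheaf.map (homOfLE (le_top : (⊤ : X.Opens) ≤ ⊤)).op).hom (f.appTop.hom (ρ r)) •
            (show Γ(godQ M 1, ⊤) from z)
        rw [show (homOfLE (le_top : (⊤ : X.Opens) ≤ ⊤)).op = 𝟙 (op (⊤ : X.Opens)) from rfl,
          show (homOfLE (le_top : (⊤ : Y.Opens) ≤ ⊤)).op = 𝟙 (op (⊤ : Y.Opens)) from rfl,
          X.presheaf.map_id, Y.presheaf.map_id]
        rfl }
  let S₁ := ShortComplex.mk ((Scheme.Modules.pushforward f).map (toGod (godQ M 0))) (cokernel.π _)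
    (cokernel.condition _)
  have hS₁ : S₁.ShortExact := LerayCorner.shortExact_one f M 0
  let S₂ := ShortComplex.mk (LerayCorner.incl f M 0) (cokernel.π (LerayCorner.incl f M 0)) (cokernel.condition _)
  have hS₂ : S₂.ShortExact := LerayCorner.shortExact_two f M 0
  have hincl : ∀ z, (LerayCorner.incl f M 0).app ⊤ ((cokernel.π ((Scheme.Modules.pushforward f).map
      (toGod (godQ M 0)))).app ⊤ z) = (godπ M 0).app ⊤ z := fun z =>
    congr($(congrArg (fun φ => Scheme.Modules.Hom.app φ ⊤)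
      (cokernel.π_desc ((Scheme.Modules.pushforward f).map (toGod (godQ M 0)))
        ((Scheme.Modules.pushforward f).map (godπ M 0)) (LerayCorner.comp_eq_zero f M 0))) z)
  let eA := Sheaf.H.equiv₀ (Coh.toAb S₁.X₂) isTerminalTop
  let eB := Sheaf.H.equiv₀ (Coh.toAb S₁.X₃) isTerminalTop
  let θι : Γ(LerayCorner.B f M 0, ⊤) →ₗ[A] Coh.HH X M 1 := θ.comp (secLin ρ (LerayCorner.incl f M 0))
  let p : Γ(LerayCorner.B f M 0, ⊤) →ₗ[A] Coh.HH Y (LerayCorner.Z f M 0) 1 :=
    (connLin ρ hS₁ 0).comp (secH ρ (LerayCorner.B f M 0)).toLinearMap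
  have hp : Function.Surjective p := (Ab.connecting_surjective (X := Y.toPresheafedSpace.carrier)
    (toAb_shortExact hS₁) 0 (LerayCorner.subsingleton_HH_God_push f M 0 0)).comp (secH ρ _).surjective
  have hθ : ∀ z : Γ(LerayCorner.Z f M 1, ⊤), θ z = 0 →
      ∃ b, (LerayCorner.incl f M 0).app ⊤ b = z := fun z hz => by
    obtain ⟨c, hc⟩ := (hker _).1 hz
    exact ⟨_, (hincl c).trans hc⟩
  have hpker : ∀ b, p b = 0 ↔ θι b = 0 := fun b => by
    refine Iff.trans (Ab.connecting_eq_zero_iff (X := Y.toPresheafedSpace.carrier)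
      (toAb_shortExact hS₁) 0 _) ⟨?_, ?_⟩
    · rintro ⟨y, hy⟩
      refine (hker _).2 ⟨eA y, ?_⟩
      refine (hincl (eA y)).symm.trans (congrArg ((LerayCorner.incl f M 0).app ⊤) ?_)
      refine (Sheaf.H.equiv₀_naturality isTerminalTop (S₁.map (toAbFunctor Y)).g y).trans ?_
      exact (congrArg eB hy).trans (eB.apply_symm_apply b)
    · intro hb
      obtain ⟨c, hc⟩ := (hker _).1 hb
      refine ⟨eA.symm c, eB.injective ?_⟩
      refine (Sheaf.H.equiv₀_naturality isTerminalTop (S₁.map (toAbFunctor Y)).g _).symm.trans ?_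
      refine (congrArg _ (eA.apply_symm_apply c)).trans ?_
      exact (app_f_injective hS₂ ⊤ ((hincl c).trans hc)).trans (eB.apply_symm_apply b).symm
  refine ⟨LinearMap.range θι, nonempty_linearEquiv_of_surjective p θι.rangeRestrict hp
    θι.surjective_rangeRestrict fun b => (hpker b).trans ⟨fun h => Subtype.ext h, fun h => congrArg Subtype.val h⟩, ?_⟩
  have hg : Function.Surjective (secLin ρ (cokernel.π (LerayCorner.incl f M 0))) :=
    app_top_surjective_of_HH_one hS₂ (subsingleton_B f hY 0)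
  obtain ⟨l⟩ := nonempty_linearEquiv_of_surjective (secLin ρ (cokernel.π (LerayCorner.incl f M 0)))
    ((LinearMap.range θι).mkQ.comp θ) hg ((Submodule.mkQ_surjective _).comp ha) fun z => by
      refine Iff.trans ?_ (Submodule.Quotient.mk_eq_zero _).symm
      constructor
      · intro hz
        obtain ⟨b, hb⟩ := exists_app_f_eq hS₂ ⊤ z hz
        exact ⟨b, congrArg θ hb⟩
      · rintro ⟨b, hb⟩
        obtain ⟨b', hb'⟩ := hθ (z - (LerayCorner.incl f M 0).app ⊤ b) (by
          rw [map_sub, sub_eq_zero]; exact hb.symm)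
        have hz : z = (LerayCorner.incl f M 0).app ⊤ (b' + b) := by rw [map_add, hb', sub_add_cancel]
        rw [hz]
        exact app_g_f (S := S₂) ⊤ _
  obtain ⟨e⟩ := LerayCorner.nonempty_cokernel_incl f M 0
  exact ⟨(secH ρ ((Coh.Rpush f 1).obj M)).symm.trans ((LinearEquiv.ofBijective (secLin ρ e.inv)
    (ConcreteCategory.bijective_of_isIso (e.inv.app ⊤))).trans l)⟩

section Field

variable (k : Type u) [Field k] {S C : Scheme.{u}} [S.Over (Spec (CommRingCat.of k))]
  [C.Over (Spec (CommRingCat.of k))] [IsProper (S ↘ Spec (CommRingCat.of k))]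
  [IsProper (C ↘ Spec (CommRingCat.of k))]
  (g : S ⟶ C) [HasInjectiveResolutions S.Modules]
  (hg : g ≫ (C ↘ Spec (CommRingCat.of k)) = S ↘ Spec (CommRingCat.of k))
  {F : S.Modules} (hF : Coh.IsCoh F) (hR' : ∀ n, 2 ≤ n → IsZero ((Coh.Rpush g n).obj F))
  (hC : ∀ N : C.Modules, Coh.IsQCoh N → ∀ j, 2 ≤ j → Subsingleton (Coh.HH C N j))

include hg hF hR' hC in
/-- Cohomology through direct images in two degrees. -/
theorem finrank_all :
    Module.finrank k (Coh.HH S F 0) = Module.finrank k (Coh.HH C ((Coh.push g).obj F) 0) ∧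
    Module.finrank k (Coh.HH S F 1) = Module.finrank k (Coh.HH C ((Coh.push g).obj F) 1) +
      Module.finrank k (Coh.HH C ((Coh.Rpush g 1).obj F) 0) ∧
    Module.finrank k (Coh.HH S F 2) = Module.finrank k (Coh.HH C ((Coh.Rpush g 1).obj F) 1) ∧
    (∀ j, 3 ≤ j → Subsingleton (Coh.HH S F j)) ∧
    Curv2.euler k S F = Curv2.euler k C ((Coh.push g).obj F) - Curv2.euler k C ((Coh.Rpush g 1).obj F) := by
  haveI : IsProper g := by
    haveI : IsProper (g ≫ (C ↘ Spec (CommRingCat.of k))) := by rw [hg]; infer_instance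
    exact IsProper.of_comp g (C ↘ Spec (CommRingCat.of k))
  have hρ : g.appTop.hom.comp (Coh.toGlobal (A := k) (C ↘ Spec (CommRingCat.of k))) =
      Coh.toGlobal (A := k) (S ↘ Spec (CommRingCat.of k)) := by
    rw [← hg]
    rfl
  have hR0 : Coh.IsQCoh ((Coh.Rpush g 0).obj F) := QCoh.isQCoh_Rpush g hF.1 0
  obtain ⟨z⟩ := LerayCorner.nonempty_Z_zero g F
  have hP : Coh.IsQCoh ((Coh.push g).obj F) := (QCoh.isQCoh_iff_iso z).2 hR0
  have hY : ∀ j, Subsingleton (Coh.HH C (LerayCorner.Z g F 0) (j + 2)) := fun j => hC _ hP (j + 2) (by omega)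
  have h0 := GenFinPush.finrank_h0_push (k := k) g hg F
  have hm := exists_middle (Coh.toGlobal (A := k) (C ↘ Spec (CommRingCat.of k))) g (M := F) hY
  rw [hρ] at hm
  obtain ⟨I, ⟨eI⟩, ⟨eQ⟩⟩ := hm
  haveI : Module.Finite k (Coh.HH S F 1) := CurveCohLib.finite_HH hF 1
  have h1 := I.finrank_quotient_add_finrank
  rw [← eI.finrank_eq, ← eQ.finrank_eq] at h1
  change _ + Module.finrank k (Coh.HH C ((Coh.push g).obj F) 1) = _ at h1
  change _ = Module.finrank k (Coh.HH C ((Coh.push g).obj F) 0) at h0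
  have hhigh : ∀ j, Nonempty (Coh.HH C ((Coh.Rpush g 1).obj F) (j + 1) ≃ₗ[k] Coh.HH S F (j + 2)) := fun j => by
    have e := nonempty_high (Coh.toGlobal (A := k) (C ↘ Spec (CommRingCat.of k))) g (M := F) hR' hY j
    rw [hρ] at e
    exact e
  obtain ⟨e2⟩ := hhigh 0
  have h3 : ∀ j, 3 ≤ j → Subsingleton (Coh.HH S F j) := fun j hj => by
    obtain ⟨e⟩ := hhigh (j - 2)
    rw [show j - 2 + 2 = j by omega] at e
    haveI := hC _ (QCoh.isQCoh_Rpush g hF.1 1) (j - 2 + 1) (by omega)
    exact e.symm.toEquiv.subsingleton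
  refine ⟨h0, by omega, e2.finrank_eq.symm, h3, ?_⟩
  rw [Euler.euler_eq_sum k F 3 h3, Euler.euler_eq_sum k _ 2 (hC _ hP),
    Euler.euler_eq_sum k _ 2 (hC _ (QCoh.isQCoh_Rpush g hF.1 1))]
  simp only [Finset.sum_range_succ, Finset.sum_range_zero, ← e2.finrank_eq]
  rw [show Module.finrank k (Coh.HH S F 1) = _ from h1.symm, h0]
  push_cast
  ring

end Field

end Groth.Agent.LerayTwoDeg
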