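import Mathlib

/-!
# Maximal ideals of integral closures and separable degree
-/

set_option autoImplicit false
set_option linter.style.haveILetI false
set_option backward.isDefEq.respectTransparency false
set_option backward.isDefEq.respectTransparency.types false

universe u

namespace Groth.Agent.Lib.MaxCount

variable {O K N : Type u} [CommRing O] [Field K] [Field N] [Algebra O K] [Algebra O N] [Algebra K N]
  [IsScalarTower O K N] [FiniteDimensional K N] [IsGalois K N]

/-- The action of an automorphism on the integral closure. -/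
noncomputable abbrev act (σ : N ≃ₐ[K] N) : integralClosure O N →ₐ[O] integralClosure O N :=
  (σ.toAlgHom.restrictScalars O).mapIntegralClosure

theorem exists_act (hloc : IsLocalRing (integralClosure O K)) (P Q : Ideal (integralClosure O N))
    [P.IsMaximal] [Q.IsMaximal] : ∃ σ : N ≃ₐ[K] N, Q = P.comap (act (O := O) σ) := by
  classical
  let ι : integralClosure O K →ₐ[O] integralClosure O N :=
    (IsScalarTower.toAlgHom O K N).mapIntegralClosure
  have hint : ι.toRingHom.IsIntegral := by
    refine RingHom.IsIntegral.tower_top (f := algebraMap O (integralClosure O K)) ι.toRingHom ?_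
    rw [show ι.toRingHom.comp (algebraMap O (integralClosure O K)) = algebraMap O (integralClosure O N) from
      ι.comp_algebraMap]
    exact algebraMap_isIntegral_iff.mpr inferInstance
  have hactint : ∀ σ : N ≃ₐ[K] N, (act (O := O) σ).toRingHom.IsIntegral := fun σ => by
    refine RingHom.IsIntegral.tower_top (f := algebraMap O (integralClosure O N)) _ ?_
    rw [show (act (O := O) σ).toRingHom.comp (algebraMap O (integralClosure O N)) = algebraMap O (integralClosure O N) from
      (act (O := O) σ).comp_algebraMap]
    exact algebraMap_isIntegral_iff.mpr inferInstance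
  have hmaxι : ∀ (R : Ideal (integralClosure O N)) [R.IsMaximal], R.comap ι.toRingHom =
      IsLocalRing.maximalIdeal (integralClosure O K) := fun R _ =>
    IsLocalRing.eq_maximalIdeal (Ideal.isMaximal_comap_of_isIntegral_of_isMaximal' ι.toRingHom hint R)
  have hsub : (Q : Set (integralClosure O N)) ⊆
      ⋃ σ ∈ (↑(Finset.univ : Finset (N ≃ₐ[K] N)) : Set (N ≃ₐ[K] N)), (P.comap (act (O := O) σ) : Set (integralClosure O N)) := by
    intro x hx
    let y : integralClosure O N := ∏ σ : N ≃ₐ[K] N, act σ x
    have hyQ : y ∈ Q := by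
      refine Q.prod_mem (Finset.mem_univ (1 : N ≃ₐ[K] N)) ?_
      rw [show act (O := O) (1 : N ≃ₐ[K] N) x = x from Subtype.ext rfl]
      exact hx
    have hy : (y : N) = ∏ σ : N ≃ₐ[K] N, σ (x : N) := by
      show (integralClosure O N).val y = _
      rw [map_prod]; rfl
    obtain ⟨k, hk⟩ := (IsGalois.mem_range_algebraMap_iff_fixed (y : N)).mpr (fun τ => by
      rw [hy, map_prod]
      exact Fintype.prod_equiv (Equiv.mulLeft τ) _ _ fun σ => rfl)
    have hkint : k ∈ integralClosure O K := by
      have h1 : IsIntegral O (IsScalarTower.toAlgHom O K N k) := by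
        show IsIntegral O (algebraMap K N k)
        rw [hk]; exact y.2
      exact (isIntegral_algHom_iff _ (algebraMap K N).injective).mp h1
    have hyι : y = ι ⟨k, hkint⟩ := Subtype.ext hk.symm
    have hkm : (⟨k, hkint⟩ : integralClosure O K) ∈ Q.comap ι.toRingHom := by
      show ι ⟨k, hkint⟩ ∈ Q
      rw [← hyι]; exact hyQ
    rw [hmaxι Q, ← hmaxι P] at hkm
    have hyP : y ∈ P := by rw [hyι]; exact hkm
    obtain ⟨σ, -, hσ⟩ := ((‹P.IsMaximal›).isPrime.prod_mem_iff).mp hyP
    exact Set.mem_biUnion (Finset.mem_coe.mpr (Finset.mem_univ σ)) hσ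
  obtain ⟨σ, -, hσ⟩ := (Ideal.subset_union_prime (1 : N ≃ₐ[K] N) (1 : N ≃ₐ[K] N) fun σ _ _ _ =>
    Ideal.comap_isPrime (act (O := O) σ) P).mp hsub
  haveI : (P.comap (act (O := O) σ)).IsMaximal :=
    Ideal.isMaximal_comap_of_isIntegral_of_isMaximal' (act (O := O) σ).toRingHom (hactint σ) P
  exact ⟨σ, Ideal.IsMaximal.eq_of_le ‹Q.IsMaximal› (Ideal.IsMaximal.ne_top ‹_›) hσ⟩

/-- Over a unibranch base the number of maximal ideals is at most the separable degree. -/
theorem card_maximalSpectrum_le {O K F : Type u} [CommRing O] [Field K] [Field F] [Algebra O K] [Algebra O F]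
    [Algebra K F] [IsScalarTower O K F] (hloc : IsLocalRing (integralClosure O K)) (n : ℕ) (hn0 : 0 < n)
    (hn : Field.finSepDegree K ↥(algebraicClosure K F) = n) :
    Cardinal.mk (MaximalSpectrum (integralClosure O F)) ≤ (n : Cardinal) := by
  classical
  let L := algebraicClosure K F
  let Ls := separableClosure K L
  have hrank : Module.finrank K Ls = n := by
    rw [← hn, Field.finSepDegree_eq]; rfl
  haveI : FiniteDimensional K Ls := Module.finite_of_finrank_pos (hrank ▸ hn0)
  let Ω := SeparableClosure K
  let j : Ls →ₐ[K] Ω := IsSepClosed.lift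
  letI : Algebra Ls Ω := j.toRingHom.toAlgebra
  haveI : IsScalarTower K Ls Ω := IsScalarTower.of_algebraMap_eq fun x => (j.commutes x).symm
  let E := IntermediateField.normalClosure K Ls Ω
  haveI : FiniteDimensional K E := normalClosure.is_finiteDimensional K Ls Ω
  haveI : IsGalois K E := IsGalois.normalClosure K Ls Ω
  let jE : Ls →ₐ[K] E := j.codRestrict E.toSubalgebra fun x => j.fieldRange_le_normalClosure ⟨x, rfl⟩
  let vL : Ls →ₐ[O] F := ((L.val).comp Ls.val).restrictScalars O
  let ι : integralClosure O Ls →ₐ[O] integralClosure O F := vL.mapIntegralClosure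
  have hint : ι.toRingHom.IsIntegral := by
    refine RingHom.IsIntegral.tower_top (f := algebraMap O (integralClosure O Ls)) ι.toRingHom ?_
    rw [show ι.toRingHom.comp (algebraMap O (integralClosure O Ls)) = algebraMap O (integralClosure O F) from
      ι.comp_algebraMap]
    exact algebraMap_isIntegral_iff.mpr inferInstance
  -- a maximal ideal is determined by its trace on the separable part
  have hdet : Function.Injective fun M : MaximalSpectrum (integralClosure O F) => M.asIdeal.comap ι := by
    intro M M' h
    refine MaximalSpectrum.ext (M.isMaximal.eq_of_le M'.isMaximal.ne_top fun x hx => ?_)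
    have hxL : (x : F) ∈ L := (mem_algebraicClosure_iff.mpr ((IsIntegral.tower_top (A := K) x.2).isAlgebraic))
    obtain ⟨e, z, hz⟩ := IsPurelyInseparable.pow_mem Ls (ringExpChar Ls) (⟨(x : F), hxL⟩ : L)
    have hz' : vL z = (x : F) ^ ringExpChar Ls ^ e := congrArg Subtype.val hz
    have hzint : z ∈ integralClosure O Ls :=
      (isIntegral_algHom_iff vL vL.toRingHom.injective).mp (by rw [hz']; exact x.2.pow _)
    have hxz : x ^ ringExpChar Ls ^ e = ι ⟨z, hzint⟩ := Subtype.ext hz'.symm
    have hpos : 0 < ringExpChar Ls ^ e := pow_pos (expChar_pos Ls (ringExpChar Ls)) e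
    have hm : (⟨z, hzint⟩ : integralClosure O Ls) ∈ M.asIdeal.comap ι := by
      show ι ⟨z, hzint⟩ ∈ M.asIdeal
      rw [← hxz]; exact Ideal.pow_mem_of_mem _ hx _ hpos
    rw [show M.asIdeal.comap ι = M'.asIdeal.comap ι from h] at hm
    exact M'.isMaximal.isPrime.mem_of_pow_mem _ (by rw [hxz]; exact hm)
  -- the traces come from embeddings into the Galois closure
  let jB : integralClosure O Ls →ₐ[O] integralClosure O E := (jE.restrictScalars O).mapIntegralClosure
  have hjint : jB.toRingHom.IsIntegral := by
    refine RingHom.IsIntegral.tower_top (f := algebraMap O (integralClosure O Ls)) jB.toRingHom ?_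
    rw [show jB.toRingHom.comp (algebraMap O (integralClosure O Ls)) = algebraMap O (integralClosure O E) from
      jB.comp_algebraMap]
    exact algebraMap_isIntegral_iff.mpr inferInstance
  have hjinj : Function.Injective jB := fun a b h =>
    Subtype.ext (jE.toRingHom.injective (congrArg Subtype.val h))
  have hover : ∀ M : MaximalSpectrum (integralClosure O F),
      ∃ Q : Ideal (integralClosure O E), Q.IsMaximal ∧ Q.comap jB.toRingHom = M.asIdeal.comap ι.toRingHom := by
    intro M
    haveI := M.isMaximal
    haveI : (M.asIdeal.comap ι.toRingHom).IsMaximal :=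
      Ideal.isMaximal_comap_of_isIntegral_of_isMaximal' ι.toRingHom hint M.asIdeal
    letI := jB.toRingHom.toAlgebra
    haveI : Algebra.IsIntegral (integralClosure O Ls) (integralClosure O E) := ⟨hjint⟩
    exact Ideal.exists_ideal_over_maximal_of_isIntegral (M.asIdeal.comap ι.toRingHom)
      (le_of_eq_of_le ((RingHom.injective_iff_ker_eq_bot _).mp hjinj) bot_le)
  choose Q hQ hQc using hover
  have hemb : ∃ (s : MaximalSpectrum (integralClosure O F) → (Ls →ₐ[K] E)), Function.Injective s := by
    rcases isEmpty_or_nonempty (MaximalSpectrum (integralClosure O F)) with h | ⟨⟨M₀⟩⟩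
    · exact ⟨isEmptyElim, fun a => isEmptyElim a⟩
    have := fun M => @exists_act O K E _ _ _ _ _ _ _ _ _ hloc (Q M₀) (Q M) (hQ M₀) (hQ M)
    choose σ hσ using this
    refine ⟨fun M => (σ M).toAlgHom.comp jE, fun M M' h => hdet ?_⟩
    show M.asIdeal.comap ι.toRingHom = M'.asIdeal.comap ι.toRingHom
    rw [← hQc M, ← hQc M', hσ M, hσ M']
    refine Ideal.ext fun c => ?_
    show act (σ M) (jB c) ∈ Q M₀ ↔ act (σ M') (jB c) ∈ Q M₀
    rw [show act (O := O) (σ M) (jB c) = act (σ M') (jB c) from
      Subtype.ext (DFunLike.congr_fun h (c : Ls))]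
  obtain ⟨s, hs⟩ := hemb
  haveI : Finite (Ls →ₐ[K] E) := inferInstance
  haveI : Algebra.IsSeparable K Ls := inferInstance
  have hcard : Nat.card (Ls →ₐ[K] E) ≤ n := by
    let Ω' := AlgebraicClosure K
    let k : E →ₐ[K] Ω' := IsAlgClosed.lift
    refine (Nat.card_le_card_of_injective (fun g : Ls →ₐ[K] E => k.comp g) fun g g' h =>
      AlgHom.ext fun x => k.toRingHom.injective (DFunLike.congr_fun h x)).trans (le_of_eq ?_)
    rw [Nat.card_eq_fintype_card, AlgHom.card, hrank]
  calc Cardinal.mk (MaximalSpectrum (integralClosure O F)) ≤ Cardinal.mk (Ls →ₐ[K] E) :=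
        Cardinal.mk_le_of_injective hs
    _ = (Nat.card (Ls →ₐ[K] E) : Cardinal) := Nat.cast_card.symm
    _ ≤ (n : Cardinal) := by exact_mod_cast hcard

end Groth.Agent.Lib.MaxCount
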