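import Groth.Agent.Lib.NefTop
import Groth.Agent.VAmpleX.Ample
import Groth.Agent.Quiet5.AmpleFpqc
import Groth.Agent.S7409

/-!
Nefness and extensions of the base field.
-/

set_option autoImplicit false
set_option linter.style.haveILetI false
set_option linter.unusedSectionVars false
set_option backward.isDefEq.respectTransparency false
set_option backward.isDefEq.respectTransparency.types false
set_option maxHeartbeats 1000000

universe u

open CategoryTheory CategoryTheory.Limits AlgebraicGeometry TopologicalSpace Opposite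

noncomputable section

namespace Groth.Agent.NefTop

open Groth.Agent Groth.Agent.H23 Groth.Agent.Nakai Groth.Agent.NefBig Groth.Agent.NefCrit
open scoped Groth.Agent.H23.PicMul

variable (k : Type u) [Field k] {X : Scheme.{u}} [X.Over (Spec (CommRingCat.of k))]
  [IsProper (X ↘ Spec (CommRingCat.of k))]

theorem isNef_of_nefC {L : X.Modules} (hL : PicF.IsInvertible L) (h : NefC k L) : NefPull.IsNef k L := by
  intro C hC hdim
  haveI := hC
  let i := C.subschemeι
  letI : C.subscheme.Over (Spec (CommRingCat.of k)) := ⟨i ≫ (X ↘ (Spec (CommRingCat.of k)))⟩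
  haveI : IsProper (C.subscheme ↘ Spec (CommRingCat.of k)) :=
    inferInstanceAs (IsProper (i ≫ (X ↘ Spec (CommRingCat.of k))))
  haveI := CurveCohLib.isNoetherian_of_proper (k := k) (X := X)
  haveI := CurveCohLib.isNoetherian_of_proper (k := k) (X := C.subscheme)
  have hYd : topologicalKrullDim C.subscheme = 1 := by
    rw [IsHomeomorph.topologicalKrullDim_eq _
      ((i.isEmbedding.toHomeomorph).trans (Homeomorph.setCongr C.range_subschemeι)).isHomeomorph, hdim]
  have hh : ∀ N : C.subscheme.Modules, Coh.IsQCoh N → FGA.eulerCharLE k C.subscheme N 1 = Curv2.euler k C.subscheme N :=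
    fun N hN => (Euler.euler_eq_sum k N 2 fun q hq => by
      obtain ⟨n, rfl⟩ := Nat.exists_eq_add_of_le hq
      rw [add_comm]
      exact CurveVanish.subsingleton_HH_curve k hYd.le hN n).symm
  have h1 : 0 ≤ FGA.eulerCharLE k C.subscheme ((Scheme.Modules.pullback i).obj L) 1 -
      FGA.eulerCharLE k C.subscheme (Coh.structureModule C.subscheme) 1 := h _ i hC hYd
  rw [hh _ (AmpleVan.isCoh_invertible (PicClLib.isInvertible_pullback i hL)).1, hh _ QCoh.isQCoh_structureModule] at h1
  rw [Nakai.euler_sub_eq_deg (k := k) hL C]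
  unfold Curv2.deg
  push_cast
  linarith

variable {k} {E : Type u} [Field E] [Algebra k E] {X' : Scheme.{u}} [X'.Over (Spec (CommRingCat.of E))]
  [IsProper (X' ↘ Spec (CommRingCat.of E))]
  (g : X' ⟶ X) (sq : IsPullback g (X' ↘ Spec (CommRingCat.of E)) (X ↘ Spec (CommRingCat.of k))
    (Spec.map (CommRingCat.ofHom (algebraMap k E))))

omit [IsProper (X ↘ Spec (CommRingCat.of k))] [IsProper (X' ↘ Spec (CommRingCat.of E))] in
theorem cl_pull_twist (L A : X.Modules) (ν : ℕ) :
    PicF.cl ((Scheme.Modules.pullback g).obj (CohB1.tensorMod (CohB1.tensorPow L ν) A)) =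
      PicF.cl (CohB1.tensorMod (CohB1.tensorPow ((Scheme.Modules.pullback g).obj L) ν) ((Scheme.Modules.pullback g).obj A)) := by
  show PicF.pullCl g (PicF.cl _) = _
  rw [PicMul.cl_tensor, PicMul.cl_tensor, PicMul.pullCl_mul, PicMul.cl_tensorPow, PicMul.cl_tensorPow, PicMul.pullCl_pow]
  rfl

include sq in
theorem nef_iff_proj {A : X.Modules} (hA : CohB1.IsAmple A) {L : X.Modules} (hL : PicF.IsInvertible L) :
    NefPull.IsNef k L ↔ NefPull.IsNef E ((Scheme.Modules.pullback g).obj L) := by
  haveI : IsAffineHom g := MorphismProperty.of_isPullback sq.flip inferInstance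
  haveI : CompactSpace X' := QuasiCompact.compactSpace_of_compactSpace (X' ↘ Spec (CommRingCat.of E))
  have hs : Surjective (Spec.map (CommRingCat.ofHom (algebraMap k E))) :=
    ⟨fun x => ⟨IsLocalRing.closedPoint E, Subsingleton.elim _ _⟩⟩
  have hA' := AmpleVan.FiniteSurj.isAmple_pullback_of_isAffineHom g hA
  have hL' := PicClLib.isInvertible_pullback g hL
  refine ⟨fun h => isNef_of_nefC E hL' (nef_of_isAmple E hL' hA' fun ν hν => ?_),
    fun h => isNef_of_nefC k hL (nef_of_isAmple k hL hA fun ν hν => ?_)⟩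
  · exact AmpleX.isAmple_of_iso (PicMul.cl_eq_iff.1 (cl_pull_twist g L A ν)).some
      (AmpleVan.FiniteSurj.isAmple_pullback_of_isAffineHom g (isAmple_of_nef k hL hA (nefC_of_isNef k hL h) hν))
  · refine Quiet5.AmpleFpqc.isAmple_of_pullback sq hs
      (InvX.isInvertible_tensorMod (InvX.isInvertible_tensorPow hL ν) hA.1) ?_
    exact AmpleX.isAmple_of_iso (PicMul.cl_eq_iff.1 (cl_pull_twist g L A ν)).some.symm
      (isAmple_of_nef E hL' hA' (nefC_of_isNef E hL' h) hν)

include sq in
/-- **Nefness is insensitive to extensions of the base field.** -/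
theorem nef_iff_bc {L : X.Modules} (hL : PicF.IsInvertible L) :
    NefPull.IsNef k L ↔ NefPull.IsNef E ((Scheme.Modules.pullback g).obj L) := by
  obtain ⟨n, P, π, j, hj, hjf, hπ, hsurj⟩ := S7409.result (X ↘ Spec (CommRingCat.of k))
  letI : P.Over (Spec (CommRingCat.of k)) := ⟨π ≫ (X ↘ Spec (CommRingCat.of k))⟩
  haveI : IsProper (P ↘ Spec (CommRingCat.of k)) :=
    show IsProper (π ≫ (X ↘ Spec (CommRingCat.of k))) from inferInstance
  have hA : CohB1.IsAmple ((Scheme.Modules.pullback j).obj (Twist.twistOver n (Spec (CommRingCat.of k)) 1)) :=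
    VAmpleX.isAmple_of_isRelVeryAmplePn (P ↘ Spec (CommRingCat.of k)) ⟨n, j, hj, hjf, ⟨Iso.refl _⟩⟩
  letI : (pullback π g).Over (Spec (CommRingCat.of E)) := ⟨pullback.snd π g ≫ (X' ↘ Spec (CommRingCat.of E))⟩
  haveI : IsProper (pullback.snd π g) := MorphismProperty.pullback_snd (P := @IsProper) _ _ inferInstance
  haveI : Surjective (pullback.snd π g) := MorphismProperty.pullback_snd (P := @Surjective) _ _ inferInstance
  haveI : IsProper (pullback π g ↘ Spec (CommRingCat.of E)) :=
    show IsProper (pullback.snd π g ≫ (X' ↘ Spec (CommRingCat.of E))) from inferInstance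
  have hsq : IsPullback (pullback.fst π g) (pullback π g ↘ Spec (CommRingCat.of E)) (P ↘ Spec (CommRingCat.of k))
      (Spec.map (CommRingCat.ofHom (algebraMap k E))) := (IsPullback.of_hasPullback π g).paste_vert sq
  have hgL := PicClLib.isInvertible_pullback g hL
  have h1 : NefPull.IsNef k L ↔ NefPull.IsNef k ((Scheme.Modules.pullback π).obj L) :=
    ⟨NefPull.isNef_pullback π rfl hL, NefPull.isNef_of_pullback π rfl hL⟩
  have h2 := nef_iff_proj (pullback.fst π g) hsq hA (PicClLib.isInvertible_pullback π hL)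
  have h3 : NefPull.IsNef E ((Scheme.Modules.pullback g).obj L) ↔
      NefPull.IsNef E ((Scheme.Modules.pullback (pullback.snd π g)).obj ((Scheme.Modules.pullback g).obj L)) :=
    ⟨NefPull.isNef_pullback _ rfl hgL, NefPull.isNef_of_pullback _ rfl hgL⟩
  have hcl : PicF.cl ((Scheme.Modules.pullback (pullback.fst π g)).obj ((Scheme.Modules.pullback π).obj L)) =
      PicF.cl ((Scheme.Modules.pullback (pullback.snd π g)).obj ((Scheme.Modules.pullback g).obj L)) :=
    PicMul.cl_eq_iff.2 ⟨(Scheme.Modules.pullbackComp _ π).app L ≪≫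
      (Scheme.Modules.pullbackCongr pullback.condition).app L ≪≫ ((Scheme.Modules.pullbackComp _ g).app L).symm⟩
  have hcongr : ∀ {M N : (pullback π g).Modules}, PicF.cl M = PicF.cl N → NefPull.IsNef E M → NefPull.IsNef E N :=
    fun {M N} e h C hC hd => by
      have h' := h C hC hd
      rwa [CurveCohLib.euler_congr (k := E) (PicGrp.tensorModIso (Iso.refl (ClSub.quotMod C)) (PicMul.cl_eq_iff.1 e).some)] at h'
  rw [h1, h2, h3]
  exact ⟨hcongr hcl, hcongr hcl.symm⟩

end Groth.Agent.NefTop
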