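import Groth.Agent.Lib.GenFinCoh
import Groth.Agent.Lib.NefPull
import Groth.Agent.Lib.BigVol
import Groth.Agent.Nakai.Coeff
import Groth.Agent.Nakai.SemiAmple
import Groth.Agent.Nakai.ChainGrowth
import Groth.Agent.Nakai.NumTriv
import Groth.Agent.PnCoh.Chow.Exists
import Groth.Agent.Pic13Lib.SectBound
import Groth.Agent.WeilLib.Geometry
import Groth.Agent.RadPtLib.Basic

/-!
Nef modules have nonnegative top self intersection on proper schemes.
-/

set_option autoImplicit false
set_option linter.style.haveILetI false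
set_option linter.unusedSectionVars false
set_option backward.isDefEq.respectTransparency false
set_option backward.isDefEq.respectTransparency.types false
set_option maxHeartbeats 1000000

universe u

open CategoryTheory CategoryTheory.Limits AlgebraicGeometry TopologicalSpace Opposite

noncomputable section

namespace Groth.Agent.NefTop

open Groth.Agent Groth.Agent.H23 Groth.Agent.Nakai Groth.Agent.NefBig Groth.Agent.NefCrit Groth.Agent.NefPoly
open Groth.Agent.Pic13Lib.NumTriv (isAmple_twistProjSpace_one)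
open scoped Groth.Agent.H23.PicMul

/-- A birational morphism has residue degree one at the generic point. -/
theorem residueDegree_birat {X Y : Scheme.{u}} [IsIntegral X] [IsIntegral Y] (f : Y ⟶ X) (U : X.Opens)
    [Nonempty U.toScheme] [IsIso (f ∣_ U)] :
    f (genericPoint Y) = genericPoint X ∧ f.residueDegree (genericPoint Y) = 1 := by
  obtain ⟨⟨x₀, hx₀⟩⟩ := ‹Nonempty U.toScheme›
  obtain ⟨y₀, hy₀⟩ := (TopCat.homeoOfIso (asIso (f ∣_ U).base)).surjective ⟨x₀, hx₀⟩
  haveI : Nonempty (f ⁻¹ᵁ U).toScheme := ⟨y₀⟩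
  have hη : genericPoint Y ∈ f ⁻¹ᵁ U := ((genericPoint_spec Y).mem_open_set_iff (f ⁻¹ᵁ U).2).2 ⟨y₀.1, trivial, y₀.2⟩
  have hgen : f (genericPoint Y) = genericPoint X := by
    haveI : IsDominant f := ⟨by
      refine (((U.2.dense ⟨x₀, hx₀⟩).mono ?_) : Dense (Set.range f))
      intro x hx
      obtain ⟨y, hy⟩ := (TopCat.homeoOfIso (asIso (f ∣_ U).base)).surjective ⟨x, hx⟩
      exact ⟨(f ⁻¹ᵁ U).ι y, by
        rw [← Scheme.Hom.comp_apply, ← morphismRestrict_ι, Scheme.Hom.comp_apply]
        exact congrArg Subtype.val hy⟩⟩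
    exact (IsGenericPoint.eq ((genericPoint_spec Y).image f.continuous) (by
      rw [Set.image_univ, f.denseRange.closure_range]
      exact genericPoint_spec X))
  refine ⟨hgen, ?_⟩
  let η : (f ⁻¹ᵁ U).toScheme := ⟨genericPoint Y, hη⟩
  refine WeilLib.residueDegree_eq_one_of_surjective f _ ?_
  show Function.Surjective (f.residueFieldMap ((f ⁻¹ᵁ U).ι η))
  have h1 : Function.Bijective ((f ∣_ U ≫ U.ι).residueFieldMap η).hom :=
    RadPtLib.bijective_residueFieldMap _ η
  have h2 : Function.Bijective (((f ⁻¹ᵁ U).ι ≫ f).residueFieldMap η).hom := by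
    have e := morphismRestrict_ι f U
    revert h1
    generalize f ∣_ U ≫ U.ι = g at e
    subst e
    exact id
  rw [Scheme.residueFieldMap_comp] at h2
  intro b
  obtain ⟨a, ha⟩ := h2.2 (((f ⁻¹ᵁ U).ι.residueFieldMap η).hom b)
  exact ⟨a, ((f ⁻¹ᵁ U).ι.residueFieldMap η).hom.injective ha⟩

variable (k : Type u) [Field k] {X : Scheme.{u}} [X.Over (Spec (CommRingCat.of k))]
  [IsProper (X ↘ Spec (CommRingCat.of k))]

theorem nefC_of_isNef {L : X.Modules} (hL : PicF.IsInvertible L) (h : NefPull.IsNef k L) : NefC k L := by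
  intro Y i _ hY hYd
  haveI := hY
  haveI := CurveCohLib.isNoetherian_of_proper (k := k) (X := X)
  letI : Y.Over (Spec (CommRingCat.of k)) := ⟨i ≫ (X ↘ (Spec (CommRingCat.of k)))⟩
  haveI : IsProper (Y ↘ Spec (CommRingCat.of k)) := NefTriv.isProper_over i
  haveI := CurveCohLib.isNoetherian_of_proper (k := k) (X := Y)
  have h1 := NefPull.deg_nonneg (k := k) hYd i rfl hL h
  have hh : ∀ N : Y.Modules, Coh.IsQCoh N → FGA.eulerCharLE k Y N 1 = Curv2.euler k Y N := fun N hN =>
    (Euler.euler_eq_sum k N 2 fun q hq => by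
      obtain ⟨n, rfl⟩ := Nat.exists_eq_add_of_le hq
      rw [add_comm]
      exact CurveVanish.subsingleton_HH_curve k hYd.le hN n).symm
  show 0 ≤ FGA.eulerCharLE k Y ((Scheme.Modules.pullback i).obj L) 1 - FGA.eulerCharLE k Y (Coh.structureModule Y) 1
  rw [hh _ (AmpleVan.isCoh_invertible (PicClLib.isInvertible_pullback i hL)).1, hh _ QCoh.isQCoh_structureModule]
  unfold Curv2.deg at h1
  push_cast at h1
  linarith

theorem exists_powPoly [IsIntegral X] {L : X.Modules} (hL : PicF.IsInvertible L) {d : ℕ}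
    (hd : topologicalKrullDim X = d) :
    ∃ Q : Polynomial ℚ, Q.natDegree ≤ d ∧ ∀ m : ℕ, (Curv2.euler k X (CohB1.tensorPow L m) : ℚ) = Q.eval (m : ℚ) := by
  haveI := CurveCohLib.isNoetherian_of_proper (k := k) (X := X)
  obtain ⟨Q, hQ, hQm⟩ := Snapper.isPolyLt_of_dim_lt k hL (d + 1) ⊤
    (lt_of_le_of_lt ((Topology.IsInducing.subtypeVal).topologicalKrullDim_le.trans hd.le)
      (by exact_mod_cast Nat.lt_succ_self d)) _ QCoh.isCoh_structureModule' (fun _ _ => trivial)
  refine ⟨Q, ?_, fun m => ?_⟩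
  · by_cases h0 : Q = 0
    · simp [h0]
    · exact Nat.lt_succ_iff.1 ((Polynomial.natDegree_lt_iff_degree_lt h0).2 hQ)
  · rw [← hQm m]
    exact congrArg Int.cast (CurveCohLib.euler_congr (k := k) (CurveTensor.structureTensorIso _).symm)

/-- The projective case. -/
theorem coeff_nonneg_proj [IsIntegral X] {L A : X.Modules} (hL : PicF.IsInvertible L) (hA : CohB1.IsAmple A)
    (hnef : NefC k L) {d : ℕ} (hd : topologicalKrullDim X = d) {Q : Polynomial ℚ}
    (hQ : ∀ m : ℕ, (Curv2.euler k X (CohB1.tensorPow L m) : ℚ) = Q.eval (m : ℚ)) : 0 ≤ Q.coeff d := by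
  haveI := CurveCohLib.isNoetherian_of_proper (k := k) (X := X)
  have hg := deg_genericPoint_of_dim (k := k) hd
  obtain ⟨P, hdeg, hP⟩ := exists_hasP (k := k) hL hA.1 (F := Coh.structureModule X) QCoh.isCoh_structureModule'
    (d + 1) fun x _ => by have := deg_le_generic (k := k) x; omega
  have hpos := T_pos_of_nef k d X hg hL hA hnef P hP
  obtain ⟨-, hc⟩ := line_coeff 1 0 hdeg
  have hline : Q = line 1 0 P := Polynomial.eq_of_infinite_eval_eq _ _ (Set.Infinite.mono (by
    rintro _ ⟨m, rfl⟩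
    show Q.eval (m : ℚ) = (line 1 0 P).eval (m : ℚ)
    rw [← hQ, eval_line, euler_of_cl hP (a := m) (b := 0) (by rw [PicMul.cl_tensorPow, pow_zero, _root_.mul_one])]
    simp) (Set.infinite_range_of_injective (f := fun m : ℕ => (m : ℚ)) Nat.cast_injective))
  have hT : Continuous fun t : ℝ => T d P 1 t := by unfold T; fun_prop
  have h0 : 0 ≤ T d P 1 0 :=
    ge_of_tendsto (hT.continuousWithinAt (s := Set.Ioi (0 : ℝ)) (x := 0))
      (eventually_nhdsWithin_of_forall fun t ht => (hpos t ht).le)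
  rw [hline]
  simp only [Rat.cast_one, Rat.cast_zero] at hc
  rw [← hc] at h0
  exact_mod_cast h0

/-- The top self intersection of a nef module on an integral proper scheme. -/
theorem coeff_nonneg [IsIntegral X] {L : X.Modules} (hL : PicF.IsInvertible L) (hnef : NefPull.IsNef k L)
    {d : ℕ} (hd : topologicalKrullDim X = d) {Q : Polynomial ℚ} (hQd : Q.natDegree ≤ d)
    (hQ : ∀ m : ℕ, (Curv2.euler k X (CohB1.tensorPow L m) : ℚ) = Q.eval (m : ℚ)) : 0 ≤ Q.coeff d := by
  classical
  haveI := CurveCohLib.isNoetherian_of_proper (k := k) (X := X)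
  obtain ⟨N, X', π, p, hint, hp, hpf, hπ, U, hU, hiso⟩ := PnCoh.Chow.chow_integral (X ↘ Spec (CommRingCat.of k))
  haveI := hint
  haveI := hU
  haveI := hiso
  letI : X'.Over (Spec (CommRingCat.of k)) := ⟨π ≫ (X ↘ Spec (CommRingCat.of k))⟩
  haveI : IsProper (X' ↘ Spec (CommRingCat.of k)) :=
    show IsProper (π ≫ (X ↘ Spec (CommRingCat.of k))) from inferInstance
  haveI : CompactSpace X' := QuasiCompact.compactSpace_of_compactSpace (X' ↘ Spec (CommRingCat.of k))
  have hA : CohB1.IsAmple ((Scheme.Modules.pullback p).obj (Twist.twistProjSpace N k 1)) :=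
    AmpleVan.FiniteSurj.isAmple_pullback_of_isAffineHom p isAmple_twistProjSpace_one
  obtain ⟨hgen, hres⟩ := residueDegree_birat π U
  have hd' : topologicalKrullDim X' = d := by
    rw [VarDim.topologicalKrullDim_eq_deg_genericPoint (X' ↘ Spec (CommRingCat.of k)),
      (GenFinPush.fibre_generic k π rfl hgen (by rw [hres]; omega)).1,
      ← VarDim.topologicalKrullDim_eq_deg_genericPoint (X ↘ Spec (CommRingCat.of k)), hd]
  haveI := CurveCohLib.isNoetherian_of_proper (k := k) (X := X')
  have hL' := PicClLib.isInvertible_pullback π hL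
  obtain ⟨Q', hQ'd, hQ'⟩ := exists_powPoly k hL' hd'
  have h' := coeff_nonneg_proj k hL' hA (nefC_of_isNef k hL' (NefPull.isNef_pullback π rfl hL hnef)) hd' hQ'
  choose C hC using fun i => GenFinPush.exists_dist_pullback_HH k π rfl hgen hres Nat.one_pos hd hA hL i
  obtain ⟨b, hb⟩ := Euler.exists_bound (k := k) (X := X)
  obtain ⟨b', hb'⟩ := Euler.exists_bound (k := k) (X := X')
  let B := max b b'
  have hdiff : ∀ m : ℕ, |((Curv2.euler k X' (CohB1.tensorPow ((Scheme.Modules.pullback π).obj L) m) : ℤ) : ℝ) -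
      ((Curv2.euler k X (CohB1.tensorPow L m) : ℤ) : ℝ)| ≤ (((∑ i ∈ Finset.range B, C i) * CohGrowth.w d m : ℕ) : ℝ) := by
    intro m
    rw [Euler.euler_eq_sum k _ B fun i hi => hb' _ (AmpleVan.isCoh_invertible (InvX.isInvertible_tensorPow hL' m)).1 i
        ((le_max_right b b').trans hi),
      Euler.euler_eq_sum k _ B fun i hi => hb _ (AmpleVan.isCoh_invertible (InvX.isInvertible_tensorPow hL m)).1 i
        ((le_max_left b b').trans hi),
      Finset.sum_mul]
    push_cast
    rw [← Finset.sum_sub_distrib]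
    refine (Finset.abs_sum_le_sum_abs _ _).trans (Finset.sum_le_sum fun i _ => ?_)
    rw [← mul_sub, abs_mul, abs_pow, abs_neg, abs_one, one_pow, _root_.one_mul]
    have h := hC i m
    rw [_root_.one_mul] at h
    have h1 := (Nat.cast_le (α := ℝ)).2 h
    push_cast at h1
    rw [abs_sub_le_iff]
    constructor <;>
    · rcases le_total (Module.finrank k (Coh.HH X' (CohB1.tensorPow ((Scheme.Modules.pullback π).obj L) m) i))
        (Module.finrank k (Coh.HH X (CohB1.tensorPow L m) i)) with hle | hle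
      · rw [Nat.dist_eq_sub_of_le hle, Nat.cast_sub hle] at h1
        have := (Nat.cast_le (α := ℝ)).2 hle
        linarith
      · rw [Nat.dist_eq_sub_of_le_right hle, Nat.cast_sub hle] at h1
        have := (Nat.cast_le (α := ℝ)).2 hle
        linarith
  have hdeg : (Q' - Q).natDegree ≤ d := (Polynomial.natDegree_sub_le _ _).trans (max_le hQ'd hQd)
  refine h'.trans (le_of_not_gt fun hlt => ?_)
  have hq0 : (0 : ℚ) < (Q' - Q).coeff d := by
    rw [Polynomial.coeff_sub]; exact sub_pos.2 hlt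
  obtain ⟨c₀, hc₀, hev⟩ := NefBig.eventually_ge hdeg hq0
  obtain ⟨m₁, hm₁⟩ := Filter.eventually_atTop.1 hev
  obtain ⟨m₂, hm₂⟩ := Filter.eventually_atTop.1
    (BigVol.eventually_w_lt (∑ i ∈ Finset.range B, C i) (c := (c₀ : ℝ)) (by exact_mod_cast hc₀) d)
  have a := hm₁ (m₁ + m₂) (Nat.le_add_right _ _)
  have b1 := hm₂ (m₁ + m₂) (Nat.le_add_left _ _)
  have c := (le_abs_self _).trans (hdiff (m₁ + m₂))
  rw [Polynomial.eval_sub, ← hQ, ← hQ'] at a
  have a' := (Rat.cast_le (K := ℝ)).2 a
  push_cast at a' c b1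
  linarith

end Groth.Agent.NefTop
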