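import Groth.Agent.Lib.NormalPush
import Groth.Agent.Lib.ZarConn
import Groth.Agent.S1297

/-!
# Functions on a proper scheme near a normal point of the base
-/

set_option autoImplicit false
set_option linter.style.haveILetI false
set_option backward.isDefEq.respectTransparency false
set_option backward.isDefEq.respectTransparency.types false

universe u

open CategoryTheory CategoryTheory.Limits AlgebraicGeometry TopologicalSpace Opposite

namespace Groth.Agent.Lib.NormalPushLocal

variable {X Y : Scheme.{u}} [IsIntegral X] [IsIntegral Y]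

theorem exists_denominator (f : X ⟶ Y) [UniversallyClosed f] [QuasiSeparated f]
    (hdom : f.base (genericPoint X) ⤳ genericPoint Y)
    (halg : ∀ x : X.functionField,
      (∃ p : Polynomial Y.functionField, p ≠ 0 ∧
        Polynomial.eval₂ (CohIII.stalkToFunctionField f (genericPoint Y) hdom) x p = 0) →
      x ∈ Set.range (CohIII.stalkToFunctionField f (genericPoint Y) hdom))
    {V : Y.Opens} (hV : IsAffineOpen V) (y : Y) (hyV : y ∈ V)
    (hy : IsIntegrallyClosed (Y.presheaf.stalk y)) (s : Γ(X, f ⁻¹ᵁ V)) :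
    ∃ t a : Γ(Y, V), y ∈ Y.basicOpen t ∧ f.app V t * s = f.app V a := by
  have hη := NormalPush.eq_genericPoint f hdom
  haveI : Nonempty V := ⟨⟨y, hyV⟩⟩
  have hηV : genericPoint Y ∈ V :=
    ((genericPoint_spec Y).mem_open_set_iff V.2).mpr ⟨y, trivial, hyV⟩
  have hηW : genericPoint X ∈ f ⁻¹ᵁ V := by
    show f.base (genericPoint X) ∈ V
    rw [hη]; exact hηV
  haveI : Nonempty (f ⁻¹ᵁ V) := ⟨⟨_, hηW⟩⟩
  let φ : Y.functionField →+* X.functionField := CohIII.stalkToFunctionField f (genericPoint Y) hdom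
  let ψ : Γ(Y, V) →+* Y.functionField := (Y.germToFunctionField V).hom
  let χ : Γ(X, f ⁻¹ᵁ V) →+* X.functionField := (X.germToFunctionField (f ⁻¹ᵁ V)).hom
  have hcomm : φ.comp ψ = χ.comp (f.app V).hom := by
    refine RingHom.ext fun a => ?_
    show (f.stalkMap (genericPoint X)).hom ((Y.presheaf.stalkSpecializes hdom).hom
      ((Y.presheaf.germ V (genericPoint Y) hηV).hom a)) = _
    rw [show (Y.presheaf.stalkSpecializes hdom).hom ((Y.presheaf.germ V (genericPoint Y) hηV).hom a) =
      (Y.presheaf.germ V (f.base (genericPoint X)) (hdom.mem_open V.2 hηV)).hom a from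
      Y.presheaf.germ_stalkSpecializes_apply hηV hdom a]
    exact Scheme.Hom.germ_stalkMap_apply f V (genericPoint X) _ a
  obtain ⟨p, hp, hps⟩ := NormalPush.isIntegral_app f hV s
  have hs0 : Polynomial.eval₂ φ (χ s) (p.map ψ) = 0 := by
    rw [Polynomial.eval₂_map, hcomm, ← Polynomial.hom_eval₂, hps, map_zero]
  obtain ⟨c, hc⟩ := halg (χ s) ⟨p.map ψ, (hp.map ψ).ne_zero, hs0⟩
  let g : Γ(Y, V) →+* Y.presheaf.stalk y := (Y.presheaf.germ V y hyV).hom
  have hψg : ψ = (algebraMap (Y.presheaf.stalk y) Y.functionField).comp g :=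
    RingHom.ext fun a => (Y.presheaf.germ_stalkSpecializes_apply hyV _ a).symm
  have hci : IsIntegral (Y.presheaf.stalk y) c := by
    refine ⟨p.map g, hp.map g, φ.injective ?_⟩
    rw [map_zero]
    refine Eq.trans ?_ hs0
    rw [Polynomial.eval₂_map, Polynomial.eval₂_map, Polynomial.hom_eval₂, hc, hψg]
  obtain ⟨b, hb⟩ := IsIntegrallyClosed.isIntegral_iff.1 hci
  letI : Algebra Γ(Y, V) (Y.presheaf.stalk y) := g.toAlgebra
  haveI : IsLocalization.AtPrime (Y.presheaf.stalk y) (hV.primeIdealOf ⟨y, hyV⟩).asIdeal :=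
    hV.isLocalization_stalk ⟨y, hyV⟩
  obtain ⟨⟨a, t⟩, hat⟩ := IsLocalization.surj (hV.primeIdealOf ⟨y, hyV⟩).asIdeal.primeCompl b
  refine ⟨t.1, a, (Y.mem_basicOpen t.1 y hyV).mpr (IsLocalization.map_units (Y.presheaf.stalk y) t),
    Scheme.germToFunctionField_injective (X := X) (f ⁻¹ᵁ V) ?_⟩
  show χ (f.app V t.1 * s) = χ (f.app V a)
  have h1 : ∀ x, χ (f.app V x) = φ (ψ x) := fun x => (RingHom.congr_fun hcomm x).symm
  have hat' : b * g t.1 = g a := hat
  rw [map_mul, h1, h1, ← hc, ← map_mul]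
  refine congrArg φ ?_
  rw [hψg, RingHom.comp_apply, RingHom.comp_apply, ← hb, ← map_mul, mul_comm, hat']

/-- Near a normal point the pushforward of the structure sheaf is the structure sheaf. -/
theorem exists_isIso_app [IsLocallyNoetherian Y] (f : X ⟶ Y) [IsProper f]
    (hdom : f.base (genericPoint X) ⤳ genericPoint Y)
    (halg : ∀ x : X.functionField,
      (∃ p : Polynomial Y.functionField, p ≠ 0 ∧
        Polynomial.eval₂ (CohIII.stalkToFunctionField f (genericPoint Y) hdom) x p = 0) →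
      x ∈ Set.range (CohIII.stalkToFunctionField f (genericPoint Y) hdom))
    (y : Y) (hy : IsIntegrallyClosed (Y.presheaf.stalk y)) :
    ∃ U : Y.Opens, y ∈ U ∧ ∀ W : (U : Scheme.{u}).Opens, IsIso ((f ∣_ U).app W) := by
  classical
  have hη := NormalPush.eq_genericPoint f hdom
  haveI : IsDominant f := ⟨fun z => closure_mono ((Set.singleton_subset_iff.2 ⟨genericPoint X, hη⟩ : ({genericPoint Y} : Set Y) ⊆ Set.range f.base))
    (genericPoint_specializes z).mem_closure⟩
  obtain ⟨V, hV, hyV, -⟩ := exists_isAffineOpen_mem_and_subset (X := Y) (x := y) (U := ⊤) trivial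
  letI : Algebra Γ(Y, V) Γ(X, f ⁻¹ᵁ V) := (f.app V).hom.toAlgebra
  haveI : Module.Finite Γ(Y, V) Γ(X, f ⁻¹ᵁ V) := RingHom.finite_algebraMap.1 (S1297.finite_app f hV)
  obtain ⟨S, hS⟩ := (Module.Finite.fg_top : (⊤ : Submodule Γ(Y, V) Γ(X, f ⁻¹ᵁ V)).FG)
  choose t a ht hta using exists_denominator f hdom halg hV y hyV hy
  let T : Γ(Y, V) := ∏ b ∈ S, t b
  have hT : y ∈ Y.basicOpen T := by
    rw [Y.mem_basicOpen T y hyV, map_prod]
    exact IsUnit.prod_iff.mpr fun b _ => (Y.mem_basicOpen (t b) y hyV).mp (ht b)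
  have hinj := PnCoh.Chow.app_injective_of_isDominant f V
  have hr' : ∀ b : Γ(X, f ⁻¹ᵁ V), ∃ a : Γ(Y, V), f.app V a = f.app V T * b := by
    intro b
    have hb : b ∈ Submodule.span Γ(Y, V) (S : Set Γ(X, f ⁻¹ᵁ V)) := by rw [hS]; trivial
    induction hb using Submodule.span_induction with
    | mem b hb =>
      refine ⟨(∏ b' ∈ S.erase b, t b') * a b, ?_⟩
      rw [map_mul, ← hta, ← mul_assoc, ← map_mul]
      rw [Finset.prod_erase_mul S t hb]
    | zero => exact ⟨0, by rw [map_zero, mul_zero]⟩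
    | add b c _ _ hb hc =>
      obtain ⟨a₁, h₁⟩ := hb
      obtain ⟨a₂, h₂⟩ := hc
      exact ⟨a₁ + a₂, by rw [map_add, mul_add, h₁, h₂]⟩
    | smul r b _ hb =>
      obtain ⟨a₁, h₁⟩ := hb
      exact ⟨r * a₁, by rw [Algebra.smul_def, RingHom.algebraMap_toAlgebra, map_mul, h₁]; exact mul_left_comm _ _ _⟩
  have hbij : Function.Bijective (f.app (Y.basicOpen T)) :=
    FlatMisc.bijective_app_basicOpen f hV (r := T) (fun z hz => by rw [hinj (hz.trans (map_zero _).symm), mul_zero])
      hr' le_rfl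
  refine ⟨Y.basicOpen T, hT, FlatMisc.isIso_app_of_bijective_affine _ fun z => ?_⟩
  haveI : IsAffine (Y.basicOpen T : Scheme.{u}) := hV.basicOpen T
  refine ⟨⊤, isAffineOpen_top _, trivial, ?_⟩
  rw [morphismRestrict_app]
  have key : ∀ O : Y.Opens, O = Y.basicOpen T → Function.Bijective (f.app O) := by
    rintro O rfl; exact hbij
  exact (ConcreteCategory.bijective_of_isIso (X.presheaf.map (eqToHom _).op)).comp (key _ (Y.basicOpen T).ι_image_top)

/-- Isomorphism on the restriction gives isomorphism on the smaller opens. -/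
theorem isIso_app_of_le {X Y : Scheme.{u}} (f : X ⟶ Y) (U : Y.Opens)
    (h : ∀ W : (U : Scheme.{u}).Opens, IsIso ((f ∣_ U).app W)) {V : Y.Opens} (hVU : V ≤ U) : IsIso (f.app V) := by
  have key : ∀ O : Y.Opens, O = V → IsIso (f.app O) → IsIso (f.app V) := by rintro O rfl hO; exact hO
  refine key (U.ι ''ᵁ (U.ι ⁻¹ᵁ V)) ?_ ?_
  · rw [Scheme.Hom.image_preimage_eq_opensRange_inf, Scheme.Opens.opensRange_ι]
    exact inf_eq_right.mpr hVU
  · have h1 := h (U.ι ⁻¹ᵁ V)
    rw [morphismRestrict_app] at h1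
    exact @IsIso.of_isIso_comp_right _ _ _ _ _ _ _ (Functor.map_isIso _ _) h1

theorem geometricallyConnected_fibre [IsLocallyNoetherian Y] (f : X ⟶ Y) [IsProper f]
    (hdom : f.base (genericPoint X) ⤳ genericPoint Y)
    (halg : ∀ x : X.functionField,
      (∃ p : Polynomial Y.functionField, p ≠ 0 ∧
        Polynomial.eval₂ (CohIII.stalkToFunctionField f (genericPoint Y) hdom) x p = 0) →
      x ∈ Set.range (CohIII.stalkToFunctionField f (genericPoint Y) hdom))
    (y : Y) (hy : IsIntegrallyClosed (Y.presheaf.stalk y)) :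
    GeometricallyConnected (f.fiberToSpecResidueField y) := by
  obtain ⟨U, hyU, hU⟩ := exists_isIso_app f hdom halg y hy
  haveI : IsProper (f ∣_ U) := IsZariskiLocalAtTarget.restrict ‹IsProper f› U
  haveI := ZarConn.geometricallyConnected (f ∣_ U) hU
  let j : (Y.residueField y) ⟶ (U : Scheme.{u}).residueField ⟨y, hyU⟩ := U.ι.residueFieldMap ⟨y, hyU⟩
  let s : Spec (Y.residueField y) ⟶ (U : Scheme.{u}) :=
    inv (Spec.map j) ≫ (U : Scheme.{u}).fromSpecResidueField ⟨y, hyU⟩
  have hs : s ≫ U.ι = Y.fromSpecResidueField y := by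
    show (inv (Spec.map j) ≫ _) ≫ U.ι = _
    rw [Category.assoc, IsIso.inv_comp_eq]
    exact (Scheme.Hom.SpecMap_residueFieldMap_fromSpecResidueField U.ι ⟨y, hyU⟩).symm
  have w := (IsPullback.of_hasPullback (f ∣_ U) s).paste_horiz (isPullback_morphismRestrict f U).flip
  rw [hs] at w
  have he : w.isoPullback.inv ≫ pullback.snd (f ∣_ U) s = f.fiberToSpecResidueField y := w.isoPullback_inv_snd
  rw [← he]
  exact (MorphismProperty.cancel_left_of_respectsIso @GeometricallyConnected _ _).mpr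
    (MorphismProperty.pullback_snd _ _ ‹GeometricallyConnected (f ∣_ U)›)

end Groth.Agent.Lib.NormalPushLocal
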