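import Groth.Agent.Lib.NumTrivGrowth
import Groth.Agent.FibDim.BaseField

/-!
Vanishing and growth of numerically trivial twists over an arbitrary field.
-/

set_option autoImplicit false
set_option linter.style.haveILetI false
set_option linter.unusedSectionVars false
set_option backward.isDefEq.respectTransparency false
set_option backward.isDefEq.respectTransparency.types false
set_option maxHeartbeats 1000000

universe u

open CategoryTheory CategoryTheory.Limits AlgebraicGeometry TopologicalSpace Opposite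

noncomputable section

namespace Groth.Agent.NumTrivTw

open Groth.Agent Groth.Agent.H23 Groth.Agent.Pic13Lib Groth.Agent.Pic13Lib.NumTriv Groth.Agent.CohGrowth
open scoped Groth.Agent.H23.PicMul

variable {k : Type u} [Field k] {X : Scheme.{u}} [X.Over (Spec (CommRingCat.of k))]
  [IsProper (X ↘ Spec (CommRingCat.of k))]
  {E : Type u} [Field E] [Algebra k E] {X' : Scheme.{u}} [X'.Over (Spec (CommRingCat.of E))]
  (g : X' ⟶ X) (sq : IsPullback g (X' ↘ Spec (CommRingCat.of E)) (X ↘ Spec (CommRingCat.of k))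
    (Spec.map (CommRingCat.ofHom (algebraMap k E))))

include sq in
theorem finrank_bc {F : X.Modules} (hF : Coh.IsQCoh F) (q : ℕ) :
    Module.finrank E (Coh.HH X' ((Scheme.Modules.pullback g).obj F) q) = Module.finrank k (Coh.HH X F q) := by
  haveI := CurveCohLib.isNoetherian_of_proper (k := k) (X := X)
  haveI : X.IsSeparated := ⟨by
    rw [← Limits.terminal.comp_from (X ↘ Spec (CommRingCat.of k))]
    infer_instance⟩
  obtain ⟨e⟩ := QCoh.HH_flatBaseChange (A := k) (B := E) sq hF q
  exact e.finrank_eq.symm.trans Module.finrank_baseChange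

/-- Vanishing of the higher cohomology of large numerically trivial twists. -/
theorem exists_vanishing_any (k : Type u) [Field k] {X : Scheme.{u}} [X.Over (Spec (CommRingCat.of k))]
    [IsProper (X ↘ Spec (CommRingCat.of k))] {L : X.Modules} (hL : CohB1.IsAmple L) {G : X.Modules}
    (hG : Coh.IsCoh G) : ∃ d₀ : ℕ, ∀ d, d₀ ≤ d → ∀ N : X.Modules, IsNT k N → ∀ q,
      Module.finrank k (Coh.HH X (CohB1.tensorMod (CohB1.tensorMod G (CohB1.tensorPow L d)) N) (q + 1)) = 0 := by
  let K := AlgebraicClosure k
  let X' := pullback (X ↘ Spec (CommRingCat.of k)) (Spec.map (CommRingCat.ofHom (algebraMap k K)))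
  let g : X' ⟶ X := pullback.fst _ _
  letI : X'.Over (Spec (CommRingCat.of K)) := ⟨pullback.snd _ _⟩
  haveI : IsProper (X' ↘ Spec (CommRingCat.of K)) := MorphismProperty.pullback_snd (P := @IsProper) _ _ inferInstance
  have sq : IsPullback g (X' ↘ Spec (CommRingCat.of K)) (X ↘ Spec (CommRingCat.of k))
      (Spec.map (CommRingCat.ofHom (algebraMap k K))) := IsPullback.of_hasPullback _ _
  haveI := CurveCohLib.isNoetherian_of_proper (k := k) (X := X)
  haveI := CurveCohLib.isNoetherian_of_proper (k := K) (X := X')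
  haveI : IsAffineHom g := MorphismProperty.of_isPullback sq.flip inferInstance
  obtain ⟨d₀, h⟩ := exists_vanishing K (AmpleVan.FiniteSurj.isAmple_pullback_of_isAffineHom g hL)
    (ZClosLib.isCoh_pullback g hG)
  refine ⟨d₀, fun d hd N hN q => ?_⟩
  have hc : Coh.IsCoh (CohB1.tensorMod (CohB1.tensorMod G (CohB1.tensorPow L d)) N) :=
    AmpleVan.isCoh_tensor (AmpleVan.isCoh_tensor hG (AmpleVan.isCoh_invertible (InvX.isInvertible_tensorPow hL.1 d)))
      (AmpleVan.isCoh_invertible hN.1)
  haveI := h d hd _ (isNT_bc g sq hN) q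
  rw [← finrank_bc g sq hc.1, finrank_cl K (N := CohB1.tensorMod (CohB1.tensorMod ((Scheme.Modules.pullback g).obj G)
      (CohB1.tensorPow ((Scheme.Modules.pullback g).obj L) d)) ((Scheme.Modules.pullback g).obj N)) (by
    show PicF.pullCl g (PicF.cl _) = _
    rw [PicMul.cl_tensor, PicMul.cl_tensor, PicMul.cl_tensor, PicMul.cl_tensor, PicMul.pullCl_mul, PicMul.pullCl_mul,
      PicMul.cl_tensorPow, PicMul.cl_tensorPow, PicMul.pullCl_pow]
    rfl)]
  exact Module.finrank_zero_of_subsingleton

/-- Large twists by numerically trivial modules have the same number of sections. -/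
theorem exists_h0_eq (k : Type u) [Field k] {X : Scheme.{u}} [X.Over (Spec (CommRingCat.of k))]
    [IsProper (X ↘ Spec (CommRingCat.of k))] {L : X.Modules} (hL : CohB1.IsAmple L) :
    ∃ d₀ : ℕ, ∀ d, d₀ ≤ d → ∀ N : X.Modules, IsNT k N →
      Module.finrank k (Coh.HH X (CohB1.tensorMod (CohB1.tensorPow L d) N) 0) =
        Module.finrank k (Coh.HH X (CohB1.tensorPow L d) 0) := by
  haveI := CurveCohLib.isNoetherian_of_proper (k := k) (X := X)
  haveI : X.IsSeparated := ⟨by
    rw [← Limits.terminal.comp_from (X ↘ Spec (CommRingCat.of k))]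
    infer_instance⟩
  obtain ⟨d₀, h⟩ := exists_vanishing_any k hL (G := Coh.structureModule X) QCoh.isCoh_structureModule'
  refine ⟨d₀, fun d hd N hN => ?_⟩
  have hLd := InvX.isInvertible_tensorPow hL.1 d
  have hv : ∀ M : X.Modules, IsNT k M → ∀ q, Subsingleton (Coh.HH X (CohB1.tensorMod (CohB1.tensorPow L d) M) (q + 1)) :=
    fun M hM q => by
      have hc := AmpleVan.isCoh_invertible (InvX.isInvertible_tensorMod hLd hM.1)
      haveI := CurveCohLib.finite_HH (k := k) hc (q + 1)
      refine (Module.finrank_zero_iff (R := k)).1 (Eq.trans ?_ (h d hd M hM q))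
      exact (CurveCohLib.hhEquiv (k := k) (PicMul.cl_eq_iff.1 (show PicF.cl (CohB1.tensorMod (CohB1.tensorPow L d) M) =
        PicF.cl (CohB1.tensorMod (CohB1.tensorMod (Coh.structureModule X) (CohB1.tensorPow L d)) M) by
          simp only [PicMul.cl_tensor, ← PicMul.one_def, _root_.one_mul])).some (q + 1)).finrank_eq
  have h1 := CurveAmple.euler_eq_h0_of_vanishing (k := k) (hv N hN)
  have h0 := CurveAmple.euler_eq_h0_of_vanishing (k := k) (hv _ (isNT_one k))
  rw [euler_tensor_nt k hN (AmpleVan.isCoh_invertible hLd), ← euler_tensor_nt k (isNT_one k)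
    (AmpleVan.isCoh_invertible hLd), h0, Int.ofNat_inj] at h1
  rw [← h1]
  exact (CurveCohLib.hhEquiv (k := k) (PicMul.cl_eq_iff.1 (show PicF.cl (CohB1.tensorMod (CohB1.tensorPow L d)
    (Coh.structureModule X)) = PicF.cl (CohB1.tensorPow L d) by
      rw [PicMul.cl_tensor, ← PicMul.one_def, _root_.mul_one])).some 0).finrank_eq

include sq in
theorem dist_bc {F G : X.Modules} (hF : Coh.IsQCoh F) (hG : Coh.IsQCoh G) (q : ℕ) :
    Nat.dist (Module.finrank k (Coh.HH X F q)) (Module.finrank k (Coh.HH X G q)) =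
      Nat.dist (Module.finrank E (Coh.HH X' ((Scheme.Modules.pullback g).obj F) q))
        (Module.finrank E (Coh.HH X' ((Scheme.Modules.pullback g).obj G) q)) := by
  rw [finrank_bc g sq hF, finrank_bc g sq hG]

/-- The growth of numerically trivial twists over any field. -/
theorem exists_dist_any (k : Type u) [Field k] {X : Scheme.{u}} [X.Over (Spec (CommRingCat.of k))]
    [IsProper (X ↘ Spec (CommRingCat.of k))] {H : X.Modules} (hH : CohB1.IsAmple H) {n : ℕ}
    (hn : topologicalKrullDim X ≤ n) {L₀ : X.Modules} (hL₀ : PicF.IsInvertible L₀) (j : ℕ) :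
    ∃ C : ℕ, ∀ (m : ℕ) (P : X.Modules), IsNT k P → Nat.dist
      (Module.finrank k (Coh.HH X (CohB1.tensorMod (CohB1.tensorPow L₀ m) P) j))
      (Module.finrank k (Coh.HH X (CohB1.tensorPow L₀ m) j)) ≤ C * w n m := by
  let K := AlgebraicClosure k
  let X' := pullback (X ↘ Spec (CommRingCat.of k)) (Spec.map (CommRingCat.ofHom (algebraMap k K)))
  let g : X' ⟶ X := pullback.fst _ _
  letI : X'.Over (Spec (CommRingCat.of K)) := ⟨pullback.snd _ _⟩
  haveI : IsProper (X' ↘ Spec (CommRingCat.of K)) := MorphismProperty.pullback_snd (P := @IsProper) _ _ inferInstance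
  have sq : IsPullback g (X' ↘ Spec (CommRingCat.of K)) (X ↘ Spec (CommRingCat.of k))
      (Spec.map (CommRingCat.ofHom (algebraMap k K))) := IsPullback.of_hasPullback _ _
  haveI := CurveCohLib.isNoetherian_of_proper (k := k) (X := X)
  haveI := CurveCohLib.isNoetherian_of_proper (k := K) (X := X')
  haveI : IsAffineHom g := MorphismProperty.of_isPullback sq.flip inferInstance
  have hn' : topologicalKrullDim X' ≤ n := (FibDim.topologicalKrullDim_baseChange sq).trans_le hn
  obtain ⟨C, hC⟩ := exists_dist K (AmpleVan.FiniteSurj.isAmple_pullback_of_isAffineHom g hH) hn'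
    (PicClLib.isInvertible_pullback g hL₀) j
  refine ⟨C, fun m P hP => ?_⟩
  rw [dist_bc g sq (AmpleVan.isCoh_invertible (InvX.isInvertible_tensorMod (InvX.isInvertible_tensorPow hL₀ m) hP.1)).1
    (AmpleVan.isCoh_invertible (InvX.isInvertible_tensorPow hL₀ m)).1]
  have hp : PicF.pullCl g (PicF.cl (CohB1.tensorPow L₀ m)) =
      PicF.cl (CohB1.tensorPow ((Scheme.Modules.pullback g).obj L₀) m) := by
    rw [PicMul.cl_tensorPow, PicMul.cl_tensorPow, PicMul.pullCl_pow]
    rfl
  rw [finrank_cl K (N := CohB1.tensorMod (CohB1.tensorPow ((Scheme.Modules.pullback g).obj L₀) m)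
      ((Scheme.Modules.pullback g).obj P)) (by
      show PicF.pullCl g (PicF.cl _) = _
      rw [PicMul.cl_tensor, PicMul.cl_tensor, PicMul.pullCl_mul, hp]
      rfl),
    finrank_cl K (M := (Scheme.Modules.pullback g).obj (CohB1.tensorPow L₀ m))
      (N := CohB1.tensorPow ((Scheme.Modules.pullback g).obj L₀) m) hp]
  exact hC m _ (isNT_bc g sq hP)

end Groth.Agent.NumTrivTw
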