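import Groth.Agent.BigSiteLib.ProperPushTheta

/-!
# Proper direct images of sheaves of sets and the big etale site
-/

set_option autoImplicit false

universe u

open CategoryTheory CategoryTheory.Limits AlgebraicGeometry Opposite

noncomputable section

namespace Groth.Agent.PiPushSets

open Groth.Agent.BigSiteLib Groth.Agent.BigSiteLib.DescSec Groth.Agent.HenselConn

set_option backward.isDefEq.respectTransparency.types false

/-- Pullback of sheaves of sets to the big etale site. -/
abbrev piSh (S : Scheme.{u}) : EtDesc.Sh S ⥤ QuotSh.Sh Scheme.etalePrecoverage S :=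
  (EtFppf.a S).sheafPullback (Type (u + 1)) S.smallEtaleTopology (QuotSh.J Scheme.etalePrecoverage S)

/-- Restriction of sheaves of sets to the small etale site. -/
abbrev resSh (S : Scheme.{u}) : QuotSh.Sh Scheme.etalePrecoverage S ⥤ EtDesc.Sh S :=
  (EtFppf.a S).sheafPushforwardContinuous (Type (u + 1)) S.smallEtaleTopology (QuotSh.J Scheme.etalePrecoverage S)

/-- Their adjunction. -/
abbrev piShAdj (S : Scheme.{u}) : piSh S ⊣ resSh S :=
  (EtFppf.a S).sheafAdjunctionContinuous (Type (u + 1)) S.smallEtaleTopology (QuotSh.J Scheme.etalePrecoverage S)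

/-- Restriction along a morphism to the small etale site. -/
abbrev resShAlong {S T : Scheme.{u}} (f : T ⟶ S) : QuotSh.Sh Scheme.etalePrecoverage S ⥤ EtDesc.Sh T :=
  BigSite.pullBig Scheme.etalePrecoverage f (Type (u + 1)) ⋙ resSh T

section
variable {S T : Scheme.{u}} (f : T ⟶ S)

/-- Small and big direct images. -/
noncomputable def pushResSh : BigSite.pushBig Scheme.etalePrecoverage f (Type (u + 1)) ⋙ resSh S ≅
    resSh T ⋙ EtDesc.pushSh f :=
  haveI : (EtFppf.a S ⋙ Over.pullback f).IsContinuous S.smallEtaleTopology (QuotSh.J Scheme.etalePrecoverage T) :=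
    Functor.isContinuous_comp _ _ _ (QuotSh.J Scheme.etalePrecoverage S) _
  haveI : (EtCoh.bc f ⋙ EtFppf.a T).IsContinuous S.smallEtaleTopology (QuotSh.J Scheme.etalePrecoverage T) :=
    Functor.isContinuous_comp _ _ _ T.smallEtaleTopology _
  Functor.sheafPushforwardContinuousComp (EtFppf.a S) (Over.pullback f) (Type (u + 1))
      S.smallEtaleTopology (QuotSh.J Scheme.etalePrecoverage S) (QuotSh.J Scheme.etalePrecoverage T) ≪≫
    Functor.sheafPushforwardContinuousIso
      (F := EtFppf.a S ⋙ Over.pullback f) (F' := EtCoh.bc f ⋙ EtFppf.a T)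
      (MorphismProperty.Over.pullbackCompForgetIso (P := EtCoh.etaleMP.{u}) (Q := ⊤) f).symm (Type (u + 1)) _ _ ≪≫
    (Functor.sheafPushforwardContinuousComp (EtCoh.bc f) (EtFppf.a T) (Type (u + 1))
      S.smallEtaleTopology T.smallEtaleTopology (QuotSh.J Scheme.etalePrecoverage T)).symm

/-- Pullback from the small site commutes with localization. -/
noncomputable def piPullSh : EtDesc.pullSh f ⋙ piSh T ≅
    piSh S ⋙ BigSite.pullBig Scheme.etalePrecoverage f (Type (u + 1)) :=
  Adjunction.leftAdjointUniq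
    (((EtDesc.adjSh f).comp (piShAdj T)).ofNatIsoRight (pushResSh f).symm)
    ((piShAdj S).comp (BigSite.bigAdj Scheme.etalePrecoverage f (Type (u + 1))))

/-- Pullback from the small site, restricted along a morphism. -/
noncomputable def resAlongPiPullSh (F : EtDesc.Sh S) :
    (EtDesc.pullSh f).obj F ≅ (resShAlong f).obj ((piSh S).obj F) :=
  haveI := isIso_unit_types T ((EtDesc.pullSh f).obj F)
  asIso ((piShAdj T).unit.app ((EtDesc.pullSh f).obj F)) ≪≫
    (resSh T).mapIso ((piPullSh f).app F)

end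

section
variable {S T : Scheme.{u}} (g : T ⟶ S)

theorem unit_resAlongPiPullSh (F : EtDesc.Sh S) :
    (EtDesc.adjSh g).unit.app F ≫ (EtDesc.pushSh g).map (resAlongPiPullSh g F).hom =
      (piShAdj S).unit.app F ≫
        (resSh S).map ((BigSite.bigAdj Scheme.etalePrecoverage g (Type (u + 1))).unit.app
          ((piSh S).obj F)) ≫
        (pushResSh g).hom.app _ := by
  let A1 := (EtDesc.adjSh g).comp (piShAdj T)
  let A2 := (piShAdj S).comp (BigSite.bigAdj Scheme.etalePrecoverage g (Type (u + 1)))
  have h := Adjunction.unit_leftAdjointUniq_hom_app (A1.ofNatIsoRight (pushResSh g).symm) A2 F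
  have h1 : (A1.ofNatIsoRight (pushResSh g).symm).unit.app F = A1.unit.app F ≫ (pushResSh g).inv.app _ := by
    simp [Adjunction.ofNatIsoRight, Adjunction.mkOfHomEquiv, Adjunction.equivHomsetRightOfNatIso, A1, Adjunction.homEquiv_unit]
  rw [h1, Category.assoc] at h
  have h2 : (A1.unit.app F ≫ (resSh T ⋙ EtDesc.pushSh g).map ((piPullSh g).hom.app F)) ≫
      (pushResSh g).inv.app _ = A2.unit.app F := by
    rw [Category.assoc, (pushResSh g).inv.naturality]
    exact h
  have h3 := congrArg (· ≫ (pushResSh g).hom.app _) h2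
  simp only [Category.assoc, Iso.inv_hom_id_app, Category.comp_id] at h3
  refine Eq.trans ?_ (h3.trans ?_)
  · simp [resAlongPiPullSh, A1, Adjunction.comp_unit_app, Functor.map_comp]
  · simp [A2, Adjunction.comp_unit_app]

theorem unit_resAlongPiPullSh_app (F : EtDesc.Sh S) (V : S.Etale) :
    ((EtDesc.adjSh g).unit.app F).hom.app (op V) ≫ (resAlongPiPullSh g F).hom.hom.app (op ((EtCoh.bc g).obj V)) =
      ((piShAdj S).unit.app F).hom.app (op V) ≫
        ((piSh S).obj F).obj.map (bcProj g V).op := by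
  refine (congr($(unit_resAlongPiPullSh g F).hom.app (op V))).trans ?_
  show ((piShAdj S).unit.app F).hom.app (op V) ≫
    ((piSh S).obj F).obj.map ((Over.mapPullbackAdj g).counit.app ((EtFppf.a S).obj V)).op ≫
      ((pushResSh g).hom.app ((BigSite.pullBig Scheme.etalePrecoverage g (Type (u + 1))).obj ((piSh S).obj F))).hom.app (op V) = _
  congr 1
  simp only [pushResSh, Iso.trans_hom, NatTrans.comp_app]
  dsimp [Functor.sheafPushforwardContinuousComp, Functor.sheafPushforwardContinuousIso]
  refine (congrArg (((piSh S).obj F).obj.map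
    ((Over.mapPullbackAdj g).counit.app ((EtFppf.a S).obj V)).op ≫ ·) ((Category.id_comp _).trans (Category.comp_id _))).trans ?_
  refine (((piSh S).obj F).obj.map_comp _ _).symm.trans
    (congrArg ((piSh S).obj F).obj.map ?_)
  refine Quiver.Hom.unop_inj (Over.OverMorphism.ext ?_)
  simp [bcProj]
  rfl

end

section
variable {S T : Scheme.{u}} (f : T ⟶ S) {S' T' : Scheme.{u}} {g : S' ⟶ S} {g' : T' ⟶ T} {f' : T' ⟶ S'}

/-- Base change of big direct images, restricted to small sites. -/
noncomputable def resAlongPushSh (hsq : IsPullback g' f' f g) :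
    BigSite.pushBig Scheme.etalePrecoverage f (Type (u + 1)) ⋙ resShAlong g ≅
      resShAlong g' ⋙ EtDesc.pushSh f' :=
  haveI : (EtFppf.a S' ⋙ Over.map g).IsContinuous S'.smallEtaleTopology (QuotSh.J Scheme.etalePrecoverage S) :=
    Functor.isContinuous_comp _ _ _ (QuotSh.J Scheme.etalePrecoverage S') _
  haveI : (EtFppf.a T' ⋙ Over.map g').IsContinuous T'.smallEtaleTopology (QuotSh.J Scheme.etalePrecoverage T) :=
    Functor.isContinuous_comp _ _ _ (QuotSh.J Scheme.etalePrecoverage T') _
  haveI : ((EtFppf.a S' ⋙ Over.map g) ⋙ Over.pullback f).IsContinuous S'.smallEtaleTopology (QuotSh.J Scheme.etalePrecoverage T) :=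
    Functor.isContinuous_comp _ _ _ (QuotSh.J Scheme.etalePrecoverage S) _
  haveI : (EtCoh.bc f' ⋙ EtFppf.a T' ⋙ Over.map g').IsContinuous S'.smallEtaleTopology (QuotSh.J Scheme.etalePrecoverage T) :=
    Functor.isContinuous_comp _ _ _ T'.smallEtaleTopology _
  Functor.sheafPushforwardContinuousComp (EtFppf.a S' ⋙ Over.map g) (Over.pullback f) (Type (u + 1))
      S'.smallEtaleTopology (QuotSh.J Scheme.etalePrecoverage S) (QuotSh.J Scheme.etalePrecoverage T) ≪≫
    Functor.sheafPushforwardContinuousIso (bcSmallIso f hsq).symm (Type (u + 1)) _ _ ≪≫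
    (Functor.sheafPushforwardContinuousComp (EtCoh.bc f') (EtFppf.a T' ⋙ Over.map g') (Type (u + 1))
      S'.smallEtaleTopology T'.smallEtaleTopology (QuotSh.J Scheme.etalePrecoverage T)).symm

end

variable {X Y : Scheme.{u}} (f : X ⟶ Y) (F : EtDesc.Sh X)

/-- The pullback of the sheaf to the big site. -/
noncomputable abbrev piXSh : QuotSh.Sh Scheme.etalePrecoverage X := (piSh X).obj F

/-- Small direct image into the restriction of the big one. -/
noncomputable def pushToResSh : (EtDesc.pushSh f).obj F ⟶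
    (resSh Y).obj ((BigSite.pushBig Scheme.etalePrecoverage f (Type (u + 1))).obj (piXSh F)) :=
  (EtDesc.pushSh f).map ((piShAdj X).unit.app F) ≫ (pushResSh f).inv.app (piXSh F)

/-- The comparison of the small and big direct images. -/
noncomputable def thetaSh : (piSh Y).obj ((EtDesc.pushSh f).obj F) ⟶
    (BigSite.pushBig Scheme.etalePrecoverage f (Type (u + 1))).obj (piXSh F) :=
  ((piShAdj Y).homEquiv _ _).symm (pushToResSh f F)

theorem unit_thetaSh : (piShAdj Y).unit.app ((EtDesc.pushSh f).obj F) ≫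
    (resSh Y).map (thetaSh f F) = pushToResSh f F := by
  exact ((Adjunction.homEquiv_unit (piShAdj Y)) _ _ (thetaSh f F)).symm.trans
    (((piShAdj Y).homEquiv _ _).apply_symm_apply (pushToResSh f F))

variable {Y' X' : Scheme.{u}} {g : Y' ⟶ Y} {g' : X' ⟶ X} {f' : X' ⟶ Y'}

/-- The comparison along a square, on small sites. -/
noncomputable def smallCompSh (hsq : IsPullback g' f' f g) :
    (EtDesc.pullSh g).obj ((EtDesc.pushSh f).obj F) ⟶ (EtDesc.pushSh f').obj ((EtDesc.pullSh g').obj F) :=
  (resAlongPiPullSh g ((EtDesc.pushSh f).obj F)).hom ≫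
    (resShAlong g).map (thetaSh f F) ≫
    (resAlongPushSh f hsq).hom.app (piXSh F) ≫ (EtDesc.pushSh f').map (resAlongPiPullSh g' F).inv

theorem smallCompSh_unit (hsq : IsPullback g' f' f g) (V : Y.Etale) :
    ((EtDesc.adjSh g).unit.app ((EtDesc.pushSh f).obj F)).hom.app (op V) ≫
        (smallCompSh f F hsq).hom.app (op ((EtCoh.bc g).obj V)) =
      ((EtDesc.adjSh g').unit.app F).hom.app (op ((EtCoh.bc f).obj V)) ≫
        ((EtDesc.pullSh g').obj F).obj.map (EtFound.bcSquare hsq.w V).op := by
  let W := (EtCoh.bc g).obj V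
  let G := (BigSite.pushBig Scheme.etalePrecoverage f (Type (u + 1))).obj (piXSh F)
  let η := (piShAdj X).unit.app F
  haveI : IsIso ((resAlongPiPullSh g' F).hom.hom.app (op ((EtCoh.bc f').obj W))) :=
    ((((sheafToPresheaf _ _).mapIso (resAlongPiPullSh g' F)).app (op ((EtCoh.bc f').obj W))).isIso_hom)
  refine (cancel_mono ((resAlongPiPullSh g' F).hom.hom.app (op ((EtCoh.bc f').obj W)))).1 ?_
  have e1 := unit_resAlongPiPullSh_app g ((EtDesc.pushSh f).obj F) V
  have e2 : ((piShAdj Y).unit.app ((EtDesc.pushSh f).obj F)).hom.app (op V) ≫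
      (thetaSh f F).hom.app (op ((EtFppf.a Y).obj V)) = (pushToResSh f F).hom.app (op V) :=
    congr($(unit_thetaSh f F).hom.app (op V))
  have e3 := (thetaSh f F).hom.naturality (bcProj g V).op
  have e4 := (resAlongPiPullSh g' F).hom.hom.naturality (EtFound.bcSquare hsq.w V).op
  have e5 := unit_resAlongPiPullSh_app g' F ((EtCoh.bc f).obj V)
  have eL : ((EtDesc.adjSh g).unit.app ((EtDesc.pushSh f).obj F)).hom.app (op V) ≫
      (resAlongPiPullSh g ((EtDesc.pushSh f).obj F)).hom.hom.app (op W) ≫ (thetaSh f F).hom.app _ =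
      (pushToResSh f F).hom.app (op V) ≫ G.obj.map (bcProj g V).op := by
    refine (Category.assoc _ _ _).symm.trans ((congrArg (· ≫ _) e1).trans ?_)
    refine (Category.assoc _ _ _).trans ((congrArg (_ ≫ ·) e3).trans ?_)
    exact (Category.assoc _ _ _).symm.trans (congrArg (· ≫ _) e2)
  have eI : (resAlongPiPullSh g' F).inv.hom.app (op ((EtCoh.bc f').obj W)) ≫
      (resAlongPiPullSh g' F).hom.hom.app (op ((EtCoh.bc f').obj W)) = 𝟙 _ :=
    congr($((resAlongPiPullSh g' F).inv_hom_id).hom.app (op ((EtCoh.bc f').obj W)))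
  have eR : (((EtDesc.adjSh g').unit.app F).hom.app (op ((EtCoh.bc f).obj V)) ≫
        ((EtDesc.pullSh g').obj F).obj.map (EtFound.bcSquare hsq.w V).op) ≫
      (resAlongPiPullSh g' F).hom.hom.app (op ((EtCoh.bc f').obj W)) =
      η.hom.app (op ((EtCoh.bc f).obj V)) ≫ (piXSh F).obj.map ((Over.map g').map ((EtFppf.a X').map (EtFound.bcSquare hsq.w V)) ≫
        bcProj g' ((EtCoh.bc f).obj V)).op := by
    refine (Category.assoc _ _ _).trans ((congrArg (_ ≫ ·) e4).trans ?_)
    refine (Category.assoc _ _ _).symm.trans ((congrArg (· ≫ _) e5).trans ?_)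
    refine (Category.assoc _ _ _).trans (congrArg (_ ≫ ·) ?_)
    exact ((piXSh F).obj.map_comp _ _).symm.trans (congrArg (piXSh F).obj.map (op_comp).symm)
  refine Eq.trans ?_ eR.symm
  show (((EtDesc.adjSh g).unit.app ((EtDesc.pushSh f).obj F)).hom.app (op V) ≫
      (resAlongPiPullSh g ((EtDesc.pushSh f).obj F)).hom.hom.app (op W) ≫ (thetaSh f F).hom.app _ ≫
      ((resAlongPushSh f hsq).hom.app (piXSh F)).hom.app (op W) ≫
      (resAlongPiPullSh g' F).inv.hom.app (op ((EtCoh.bc f').obj W))) ≫ _ = _
  simp only [Category.assoc]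
  refine (congrArg (fun t => _ ≫ _ ≫ _ ≫ t) ((congrArg (_ ≫ ·) eI).trans (Category.comp_id _))).trans ?_
  refine (congrArg (_ ≫ ·) (Category.assoc _ _ _).symm).trans ?_
  refine (Category.assoc _ _ _).symm.trans ((congrArg (· ≫ _) eL).trans ?_)
  refine (Category.assoc _ _ _).trans ?_
  refine (Category.assoc _ _ _).trans (congrArg (η.hom.app (op ((EtCoh.bc f).obj V)) ≫ ·) ?_)
  simp only [pushResSh, resAlongPushSh, Iso.trans_inv, Iso.trans_hom, NatTrans.comp_app]
  dsimp [Functor.sheafPushforwardContinuousComp, Functor.sheafPushforwardContinuousIso]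
  refine (congrArg₂ (· ≫ ·) ((Category.id_comp _).trans (Category.comp_id _))
    (congrArg (_ ≫ ·) ((Category.id_comp _).trans (Category.comp_id _)))).trans ?_
  refine ((congrArg (_ ≫ ·) ((piXSh F).obj.map_comp _ _).symm).trans ((piXSh F).obj.map_comp _ _).symm).trans ?_
  refine congrArg (piXSh F).obj.map (Quiver.Hom.unop_inj (Over.OverMorphism.ext ?_))
  refine pullback.hom_ext ?_ ?_
  · simp [bcProj, bcSmallIso, bcIso]
    refine Eq.trans ?_ ((Category.assoc _ _ _).trans (EtFound.bcSquare_fst hsq.w V)).symm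
    refine (Category.assoc _ _ _).trans ?_
    erw [Category.id_comp, Category.assoc, Category.assoc, Category.id_comp, pullback.lift_fst,
      IsPullback.isoPullback_hom_fst_assoc]
    rfl
  · simp [bcProj, bcSmallIso, bcIso]
    refine Eq.trans ?_ ((Category.assoc _ _ _).trans ((congrArg (_ ≫ ·) pullback.condition).trans
      ((Category.assoc _ _ _).symm.trans (congrArg (· ≫ g') (MorphismProperty.Over.w (EtFound.bcSquare hsq.w V)))))).symm
    refine (Category.assoc _ _ _).trans ?_
    erw [Category.id_comp, Category.assoc, Category.assoc, Category.id_comp, pullback.lift_snd,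
      IsPullback.isoPullback_hom_snd]
    rfl

theorem hom_ext_up {Y Y' : Scheme.{u}} (g : Y' ⟶ Y) {G : EtDesc.Sh Y} {H : EtDesc.Sh Y'}
    (β₁ β₂ : (EtDesc.pullSh g).obj G ⟶ H)
    (h : ∀ (V : Y.Etale) (a : G.obj.obj (op V)), β₁.hom.app (op ((EtCoh.bc g).obj V)) (up g G V a) =
      β₂.hom.app (op ((EtCoh.bc g).obj V)) (up g G V a)) : β₁ = β₂ := by
  refine ((EtDesc.adjSh g).homEquiv _ _).injective ?_
  rw [Adjunction.homEquiv_unit, Adjunction.homEquiv_unit]
  refine ObjectProperty.hom_ext _ (NatTrans.ext (funext fun U => ?_))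
  apply ConcreteCategory.hom_ext
  intro a
  exact h U.unop a

theorem smallCompSh_eq (hsq : IsPullback g' f' f g) :
    smallCompSh f F hsq = EtBC.baseChange0Sh f g f' g' hsq.w F := by
  refine hom_ext_up g _ _ fun V a => ?_
  have hu := ConcreteCategory.congr_hom (smallCompSh_unit f F hsq V) a
  have h1 := baseChange_up f g f' g' hsq.w F (𝟙 ((EtCoh.bc g).obj V)) a
  rw [op_id, CategoryTheory.Functor.map_id] at h1
  rw [ConcreteCategory.id_apply] at h1
  rw [trA, CategoryTheory.Functor.map_id, Category.id_comp] at h1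
  refine hu.trans (Eq.trans ?_ h1.symm)
  exact ConcreteCategory.comp_apply (((EtDesc.adjSh g').unit.app F).hom.app (op ((EtCoh.bc f).obj V)))
    (((EtDesc.pullSh g').obj F).obj.map (EtFound.bcSquare hsq.w V).op) a

variable [IsProper f]

theorem isIso_thetaSh : IsIso (thetaSh f F) := by
  have hall : ∀ {Y' : Scheme.{u}} (g : Y' ⟶ Y), IsIso ((resShAlong g).map (thetaSh f F)) := fun {Y'} g => by
    have hsq := IsPullback.of_hasPullback f g
    haveI hβ : IsIso (smallCompSh f F hsq) := by
      rw [smallCompSh_eq f F hsq]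
      exact ProperBC13.isIso_baseChange0Sh f g (pullback.snd f g) (pullback.fst f g) hsq F
    have e : (resShAlong g).map (thetaSh f F) =
        (resAlongPiPullSh g ((EtDesc.pushSh f).obj F)).inv ≫ smallCompSh f F hsq ≫
          (EtDesc.pushSh (pullback.snd f g)).map (resAlongPiPullSh (pullback.fst f g) F).hom ≫
          (resAlongPushSh f hsq).inv.app (piXSh F) := by
      simp only [smallCompSh, Category.assoc, Iso.inv_hom_id_assoc]
      rw [← Functor.map_comp_assoc, Iso.inv_hom_id, CategoryTheory.Functor.map_id, Category.id_comp, Iso.hom_inv_id_app]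
      exact (Category.comp_id _).symm
    rw [e]
    infer_instance
  haveI : ∀ W, IsIso ((thetaSh f F).hom.app W) := fun W => by
    haveI := hall W.unop.hom
    let G := (piSh Y).obj ((EtDesc.pushSh f).obj F)
    let G' := (BigSite.pushBig Scheme.etalePrecoverage f (Type (u + 1))).obj (piXSh F)
    haveI h0 : IsIso (((resShAlong W.unop.hom).map (thetaSh f F)).hom.app (op (EtCoh.top W.unop.left))) :=
      inferInstanceAs (IsIso (((sheafToPresheaf _ _).map ((resShAlong W.unop.hom).map (thetaSh f F))).app _))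
    let W0 : Over Y := (Over.map W.unop.hom).obj ((EtFppf.a W.unop.left).obj (EtCoh.top W.unop.left))
    haveI h1 : IsIso ((thetaSh f F).hom.app (op W0)) := h0
    let e : W0 ≅ W.unop := Over.isoMk (Iso.refl _) ((Category.id_comp _).trans (Category.id_comp _).symm)
    have he : (thetaSh f F).hom.app W = G.obj.map e.hom.op ≫ (thetaSh f F).hom.app (op W0) ≫ G'.obj.map e.inv.op := by
      rw [← Category.assoc, (thetaSh f F).hom.naturality, Category.assoc, ← Functor.map_comp, ← op_comp, e.inv_hom_id, op_id,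
        CategoryTheory.Functor.map_id, Category.comp_id]
    rw [he]
    infer_instance
  haveI : IsIso ((sheafToPresheaf _ _).map (thetaSh f F)) := NatIso.isIso_of_isIso_app (thetaSh f F).hom
  exact isIso_of_reflects_iso (thetaSh f F) (sheafToPresheaf _ _)

/-- The comparison for all sheaves of sets. -/
def thetaIso : EtDesc.pushSh f ⋙ piSh Y ≅ piSh X ⋙ BigSite.pushBig Scheme.etalePrecoverage f (Type (u + 1)) :=
  NatIso.ofComponents (fun F => haveI := isIso_thetaSh f F; asIso (thetaSh f F)) fun {F G} φ => by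
    show (piSh Y).map ((EtDesc.pushSh f).map φ) ≫ thetaSh f G =
      thetaSh f F ≫ (BigSite.pushBig Scheme.etalePrecoverage f (Type (u + 1))).map ((piSh X).map φ)
    refine ((piShAdj Y).homEquiv _ _).injective ?_
    rw [Adjunction.homEquiv_naturality_left, Adjunction.homEquiv_naturality_right]
    simp only [thetaSh, Equiv.apply_symm_apply, pushToResSh, Category.assoc]
    rw [← Functor.map_comp_assoc]
    erw [(piShAdj X).unit.naturality φ]
    rw [Functor.map_comp, Category.assoc]
    exact congrArg (_ ≫ ·) ((pushResSh f).inv.naturality ((piSh X).map φ))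

end Groth.Agent.PiPushSets
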