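import Groth.Agent.Lib.PnDualSymbol
import Groth.Agent.PnCoh.TwistTop
import Mathlib.Algebra.Order.Antidiag.Finsupp

/-!
The top Čech cohomology of twisting sheaves pairs perfectly with morphisms.
-/

set_option linter.style.haveILetI false
set_option linter.unusedSectionVars false
set_option synthInstance.maxHeartbeats 400000
set_option maxHeartbeats 1600000

universe u

open CategoryTheory CategoryTheory.Limits AlgebraicGeometry MvPolynomial Opposite TopologicalSpace
open Groth.Agent.QCoh.Ab Groth.Agent.PnCoh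

noncomputable section

namespace Groth.Agent.PnDual

attribute [local instance] MvPolynomial.gradedAlgebra

variable {m : ℕ} {R : Type u} [CommRing R] {k : ℕ}

/-- The degree of `O(-(m+1+k))`. -/
abbrev deg (m k : ℕ) : ℤ := -((m : ℤ) + 1 + k)

/-- A morphism of twisting sheaves on abelian sheaves. -/
def presHom {a b : ℤ} (φ : O' (Fin (m + 1)) R a ⟶ O' (Fin (m + 1)) R b) :
    twPre (Fin (m + 1)) R a ⟶ twPre (Fin (m + 1)) R b :=
  ((SheafOfModules.toSheaf (PS (Fin (m + 1)) R).ringCatSheaf).map φ).hom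

theorem cochainTw_push {a b : ℤ} (φ : O' (Fin (m + 1)) R a ⟶ O' (Fin (m + 1)) R b) {p : ℕ}
    (c : TwCochain (Fin (m + 1)) R a (p + 1)) (σ : Fin (p + 1) → Fin (m + 1)) :
    cochainTw (push (presHom φ) c) σ = symb φ * cochainTw c σ :=
  secTw_app φ (tupExp σ) (tupExp_ne_zero σ) _

theorem iCycles_presHom (φ : O' (Fin (m + 1)) R (deg m k) ⟶ O' (Fin (m + 1)) R (deg m 0))
    (x : (topK R m k).cycles m) :
    ((topK R m 0).iCycles m (HomologicalComplex.cyclesMap (natCxMap _ (presHom φ)) m x) :
        natCochains _ _ (m + 1)).1 =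
      push (presHom φ) ((topK R m k).iCycles m x : natCochains _ _ (m + 1)).1 :=
  congrArg Subtype.val (ConcreteCategory.congr_hom
    (HomologicalComplex.cyclesMap_i (natCxMap _ (presHom φ)) m) x)

/-- The exponents of degree `k`. -/
def expSet (m k : ℕ) : Finset (Fin (m + 1) →₀ ℕ) := Finset.univ.finsuppAntidiag k

theorem mem_expSet (a : Fin (m + 1) →₀ ℕ) : a ∈ expSet m k ↔ a.degree = k := by
  rw [expSet, Finset.mem_finsuppAntidiag, Finsupp.degree_eq_sum]
  exact ⟨fun h => h.1, fun h => ⟨h, Finset.subset_univ _⟩⟩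

theorem exists_expSet (φ : O' (Fin (m + 1)) R (deg m k) ⟶ O' (Fin (m + 1)) R (deg m 0))
    (e : Expo (Fin (m + 1))) (he : (symb φ).coeff e ≠ 0) :
    ∃ a ∈ expSet m k, castExpo (Fin (m + 1)) a = e := by
  have hn := symb_nonneg φ (Or.inr (by show deg m k ≤ deg m 0; simp only [deg]; omega)) e he
  have hs := (symb_supp φ e he).1
  have h3 : castExpo (Fin (m + 1)) (e.mapRange Int.toNat rfl) = e := by
    ext j
    have := hn j
    simp [castExpo_apply, Finsupp.mapRange_apply]
    omega
  refine ⟨e.mapRange Int.toNat rfl, (mem_expSet _).2 ?_, h3⟩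
  have h4 := sum_castExpo (e.mapRange Int.toNat rfl)
  rw [h3, hs] at h4
  simp only [deg] at h4
  omega

theorem coeff_single_mul' {ι : Type} (e E : Expo ι) (r : R) (c : Laur ι R) :
    (AddMonoidAlgebra.single e r * c).coeff E = r * c.coeff (E - e) :=
  AddMonoidAlgebra.coeff_single_mul_eq_mul_coeff _ fun x _ => by
    constructor
    · rintro rfl; simp
    · rintro rfl; simp

theorem negExpo_zero_sub (a : Fin (m + 1) →₀ ℕ) :
    negExpo (0 : Fin (m + 1) →₀ ℕ) - castExpo (Fin (m + 1)) a = negExpo a := by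
  ext i
  simp [negExpo_apply, castExpo_apply]
  ring

theorem symb_eq_sum (φ : O' (Fin (m + 1)) R (deg m k) ⟶ O' (Fin (m + 1)) R (deg m 0)) :
    symb φ = ∑ a ∈ expSet m k,
      AddMonoidAlgebra.single (castExpo (Fin (m + 1)) a) ((symb φ).coeff (castExpo (Fin (m + 1)) a)) := by
  classical
  ext e
  rw [AddMonoidAlgebra.coeff_sum, Finsupp.finsetSum_apply]
  simp only [AddMonoidAlgebra.coeff_single]
  by_cases he : (symb φ).coeff e = 0
  · rw [he]
    refine (Finset.sum_eq_zero fun a _ => ?_).symm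
    rw [Finsupp.single_apply]
    split_ifs with h
    · rw [h, he]
    · rfl
  · obtain ⟨a, ha, hae⟩ := exists_expSet φ e he
    rw [Finset.sum_eq_single a (fun b _ hb => ?_) (fun h => absurd ha h), hae, Finsupp.single_eq_same]
    rw [Finsupp.single_eq_of_ne]
    rintro rfl
    exact hb (castExpo_injective hae.symm)

/-- The pairing of a multiplier with a bottom part. -/
theorem coeff_botHom_presHom (φ : O' (Fin (m + 1)) R (deg m k) ⟶ O' (Fin (m + 1)) R (deg m 0))
    (x : (topK R m k).cycles m) :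
    coeff 0 (botHom (HomologicalComplex.cyclesMap (natCxMap _ (presHom φ)) m x)).1 =
      ∑ a ∈ expSet m k, (symb φ).coeff (castExpo (Fin (m + 1)) a) * coeff a (botHom x).1 := by
  show coeff 0 (botPoly (cochainTw ((topK R m 0).iCycles m
    (HomologicalComplex.cyclesMap (natCxMap _ (presHom φ)) m x) : natCochains _ _ (m + 1)).1 id)) = _
  rw [iCycles_presHom, cochainTw_push, coeff_botPoly]
  conv_lhs => rw [symb_eq_sum φ]
  rw [Finset.sum_mul, AddMonoidAlgebra.coeff_sum, Finsupp.finsetSum_apply]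
  refine Finset.sum_congr rfl fun a _ => ?_
  rw [coeff_single_mul', negExpo_zero_sub]
  rfl

/-- The pairing on homology. -/
theorem homology_pairing (φ : O' (Fin (m + 1)) R (deg m k) ⟶ O' (Fin (m + 1)) R (deg m 0))
    (ek : ((topK R m k).homology m : AddCommGrpCat.{u}) ≃+ homogeneousSubmodule (Fin (m + 1)) R k)
    (hek : ∀ x, ek ((topK R m k).homologyπ m x) = botHom x)
    (e0 : ((topK R m 0).homology m : AddCommGrpCat.{u}) ≃+ homogeneousSubmodule (Fin (m + 1)) R 0)
    (he0 : ∀ x, e0 ((topK R m 0).homologyπ m x) = botHom x)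
    (y : (topK R m k).homology m) :
    coeff 0 (e0 (HomologicalComplex.homologyMap (natCxMap _ (presHom φ)) m y)).1 =
      ∑ a ∈ expSet m k, (symb φ).coeff (castExpo (Fin (m + 1)) a) * coeff a (ek y).1 := by
  obtain ⟨x, rfl⟩ := (AddCommGrpCat.epi_iff_surjective ((topK R m k).homologyπ m)).1 inferInstance y
  rw [hek, ← coeff_botHom_presHom, ← he0]
  refine congrArg (fun z => coeff 0 (e0 z).1) ?_
  exact ConcreteCategory.congr_hom
    (HomologicalComplex.homologyπ_naturality (natCxMap _ (presHom φ)) m) x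

end Groth.Agent.PnDual
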