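import Groth.Agent.Lib.PnDualCoh

/-!
Presentations by negative twisting sheaves.
-/

set_option linter.style.haveILetI false
set_option linter.unusedSectionVars false
set_option synthInstance.maxHeartbeats 400000
set_option maxHeartbeats 1600000

universe u

open CategoryTheory CategoryTheory.Limits AlgebraicGeometry TopologicalSpace Opposite
open Groth.Agent.PnCoh Groth.Agent.PnCoh.Finite

noncomputable section

namespace Groth.Agent.PnDual

attribute [local instance] MvPolynomial.gradedAlgebra Abelian.hasFiniteBiproducts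

variable {m : ℕ} {R : Type u} [CommRing R]

/-- `X_j ^ N` as a morphism. -/
def powHom (d : ℤ) (N : ℕ) (j : ULift.{u} (Fin (m + 1))) :
    Twist.twist (CohB1.polyGrading m R) (d - N) ⟶ Twist.twist (CohB1.polyGrading m R) d :=
  mulHom (𝒜 := CohB1.polyGrading m R) (a := (MvPolynomial.X j.down : MvPolynomial (Fin (m + 1)) R) ^ N)
    (e := N) (by simpa using (MvPolynomial.isHomogeneous_X R j.down).pow N) (by omega)

theorem surjective_powHom_app (d : ℤ) (N : ℕ) (j : ULift.{u} (Fin (m + 1))) :
    Function.Surjective ((powHom (R := R) d N j).app (D (CohB1.polyGrading m R) (coordsR R m j))) := by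
  classical
  let g : Fin (m + 1) →₀ ℕ := Finsupp.single j.down 1
  have hg : g ≠ 0 := single_one_ne_zero _
  have hp : ((MvPolynomial.X j.down : MvPolynomial (Fin (m + 1)) R) ^ N) ∈
      MvPolynomial.homogeneousSubmodule (Fin (m + 1)) R N := by
    simpa using (MvPolynomial.isHomogeneous_X R j.down).pow N
  let φ : O' (Fin (m + 1)) R (d - N) ⟶ O' (Fin (m + 1)) R d := mulHom hp (by omega)
  show Function.Surjective (φ.app (mOpen R g))
  intro y
  have hsy : symb φ = AddMonoidAlgebra.single (Finsupp.single j.down (N : ℤ)) 1 := by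
    rw [symb_mulHom hp _, map_pow, MvPolynomial.X, toLaur_monomial, AddMonoidAlgebra.single_pow, one_pow]
    congr 1
    ext i
    rw [Finsupp.smul_apply, castExpo_apply, Finsupp.single_apply, Finsupp.single_apply]
    split_ifs <;> simp
  have hsupp : AddMonoidAlgebra.single (Finsupp.single j.down (-(N : ℤ))) (1 : R) * secM d g hg y ∈
      AddMonoidAlgebra.supported R R (suppD (d - N) (g.support : Set (Fin (m + 1)))) := by
    refine single_mul_mem_supported (fun x hx => ?_) (secTw_mem d g hg y)
    have hmem : j.down ∈ g.support := by simp [g]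
    have := single_add_mem_suppD hmem (-(N : ℤ)) d hx
    rwa [show -(N : ℤ) + d = d - N by omega] at this
  obtain ⟨s, hs⟩ := exists_secTw_eq (d - N) g hg hsupp
  refine ⟨s, secM_injective d g hg ?_⟩
  refine (secM_app φ g hg s).trans ?_
  rw [hsy]
  refine (congrArg (_ * ·) hs).trans ?_
  rw [← mul_assoc, mul_comm (AddMonoidAlgebra.single _ _), single_neg_mul_single, one_mul]

theorem eq_of_powHom_comp [IsNoetherianRing R] (d : ℤ) (N : ℕ) {Z : (Proj (CohB1.polyGrading m R)).Modules}
    (φ ψ : Twist.twist (CohB1.polyGrading m R) d ⟶ Z)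
    (h : ∀ j, powHom d N j ≫ φ = powHom d N j ≫ ψ) : φ = ψ := by
  have hq : Coh.IsQCoh (Twist.twist (CohB1.polyGrading m R) d) :=
    isQCoh_twist (coordsR R m) coordsR_mem coordsR_cover d
  refine eq_of_app_eq_cover hq coordsR_mem coordsR_cover φ ψ fun j y => ?_
  obtain ⟨s, rfl⟩ := surjective_powHom_app d N j y
  exact congrArg (fun χ : _ ⟶ Z => χ.app (D (CohB1.polyGrading m R) (coordsR R m j)) s) (h j)

/-- A presentation by sums of twisting sheaves of degree less than a bound. -/
theorem exists_presentation_lt [IsNoetherianRing R] {F : (Proj (CohB1.polyGrading m R)).Modules}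
    (hF : Good (coordsR R m) F) (c : ℤ) :
    ∃ (ι : Type u) (_ : Fintype ι) (d : ι → ℤ) (_ : ∀ a, d a < c)
      (S : ShortComplex (Proj (CohB1.polyGrading m R)).Modules)
      (p : ∀ a, S.X₂ ⟶ Twist.twist (CohB1.polyGrading m R) (d a))
      (q : ∀ a, Twist.twist (CohB1.polyGrading m R) (d a) ⟶ S.X₂),
      S.ShortExact ∧ S.X₃ = F ∧ Good (coordsR R m) S.X₁ ∧ ∑ a, p a ≫ q a = 𝟙 S.X₂ := by
  classical
  obtain ⟨ι, _, d, S, p, q, hS, rfl, -, -, hpq⟩ :=
    exists_presentation coordsR_mem coordsR_cover coordsR_noetherian hF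
  let N : ι → ℕ := fun a => (d a - c + 1).toNat
  let β := ι × ULift.{u} (Fin (m + 1))
  let T : β → (Proj (CohB1.polyGrading m R)).Modules := fun b =>
    Twist.twist (CohB1.polyGrading m R) (d b.1 - N b.1)
  let φ : (⨁ T) ⟶ S.X₃ := biproduct.desc fun b => powHom (d b.1) (N b.1) b.2 ≫ q b.1 ≫ S.g
  haveI := hS.epi_g
  haveI : Epi φ := ⟨fun {Z} u v huv => by
    refine (cancel_epi S.g).1 ?_
    rw [← Category.id_comp (S.g ≫ u), ← Category.id_comp (S.g ≫ v), ← hpq, Preadditive.sum_comp,
      Preadditive.sum_comp]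
    refine Finset.sum_congr rfl fun a _ => ?_
    rw [Category.assoc, Category.assoc]
    refine congrArg (p a ≫ ·) (eq_of_powHom_comp (d a) (N a) _ _ fun j => ?_)
    have := congrArg (fun χ => biproduct.ι T (a, j) ≫ χ) huv
    simpa [φ] using this⟩
  let S' : ShortComplex (Proj (CohB1.polyGrading m R)).Modules :=
    ShortComplex.mk (kernel.ι φ) φ (kernel.condition φ)
  have hS' : S'.ShortExact :=
    { exact := ShortComplex.exact_of_f_is_kernel _ (kernelIsKernel φ) }
  refine ⟨β, inferInstance, fun b => d b.1 - N b.1, fun b => by simp only [N]; omega, S',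
    biproduct.π T, biproduct.ι T, hS', rfl, ?_, biproduct_total T⟩
  have hE : Coh.IsQCoh (⨁ T) := isQCoh_biproduct T fun b => isQCoh_twist (coordsR R m) coordsR_mem coordsR_cover _
  refine ⟨QCoh.isQCoh_kernel hE hF.1 φ, fun j => ?_⟩
  haveI := coordsR_noetherian (R := R) (m := m) j
  exact finite_sections_X₁ hS' _
    (finite_sections_biproduct T _ fun b => finite_twist_sections coordsR_mem (d b.1 - N b.1) j)

end Groth.Agent.PnDual
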