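import Groth.Agent.Lib.AffineHomExt
import Groth.Agent.Lib.RegDescent
import Groth.Agent.Lib.HorrocksPn
import Groth.Agent.Lib.PnDualCoh
import Groth.Agent.S0843
import Groth.Agent.Lib.SyzygyPn
import Groth.Agent.Lib.TwistSumInv
import Groth.Agent.SheafHomX.Main
import Mathlib.LinearAlgebra.Dual.Lemmas
import Mathlib.Order.Filter.AtTopBot.Basic

/-!
Vanishing of cohomology of very negative twists on projective space, read on the affine charts.
-/

set_option linter.style.haveILetI false
set_option linter.unusedSectionVars false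
set_option backward.isDefEq.respectTransparency false
set_option backward.isDefEq.respectTransparency.types false
set_option maxHeartbeats 1000000

universe u

open CategoryTheory CategoryTheory.Limits AlgebraicGeometry TopologicalSpace Opposite
open CategoryTheory.Abelian Filter
open Groth.Agent.PnCoh.Finite Groth.Agent.ProjRegular Groth.Agent.RegEpi Groth.Agent.SheafHomX

noncomputable section

namespace Groth.Agent.PnNegVan

variable {k : Type u} [Field k] {n : ℕ}

local notation "PP" => Proj (CohB1.polyGrading n k)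
local notation "OP" => Coh.structureModule (Proj (CohB1.polyGrading n k))
local notation "Ptw" => Twist.twist (CohB1.polyGrading n k)

section Charts

variable (c : ULift.{u} (Fin (n + 1)))

/-- The ring of a standard chart. -/
abbrev chartRing (k : Type u) [Field k] (n : ℕ) (c : ULift.{u} (Fin (n + 1))) : CommRingCat.{u} :=
  Γ(Proj (CohB1.polyGrading n k), D (CohB1.polyGrading n k) (coords k n c))

/-- A standard chart. -/
def chart (k : Type u) [Field k] (n : ℕ) (c : ULift.{u} (Fin (n + 1))) :
    Spec (chartRing k n c) ⟶ Proj (CohB1.polyGrading n k) :=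
  (isAffineOpen_D coords_mem c).fromSpec

instance : IsOpenImmersion (chart k n c) :=
  inferInstanceAs (IsOpenImmersion (isAffineOpen_D (coords_mem (k := k) (n := n)) c).fromSpec)

/-- Sections on a chart. -/
abbrev secMod (k : Type u) [Field k] {n : ℕ} (c : ULift.{u} (Fin (n + 1)))
    (M : (Proj (CohB1.polyGrading n k)).Modules) : ModuleCat.{u} (chartRing k n c) :=
  (moduleSpecΓFunctor (R := chartRing k n c)).obj ((Scheme.Modules.restrictFunctor (chart k n c)).obj M)

/-- Twisting sheaves are trivial on the charts. -/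
theorem nonempty_twist_chart (d : ℤ) :
    Nonempty ((Scheme.Modules.restrictFunctor (chart k n c)).obj (Ptw d) ≅
      Coh.structureModule (Spec (chartRing k n c))) := by
  let hD := isAffineOpen_D (coords_mem (k := k) (n := n)) c
  have hU : PnCoh.NonVan (𝒜 := CohB1.polyGrading n k) (coords k n c) (D (CohB1.polyGrading n k) (coords k n c)) :=
    fun y => y.2
  exact ⟨(Scheme.Modules.restrictFunctorCongr (show chart k n c = hD.isoSpec.inv ≫ (D (CohB1.polyGrading n k) (coords k n c)).ι
      from hD.isoSpec_inv_ι.symm)).app _ ≪≫ (Scheme.Modules.restrictFunctorComp _ _).app _ ≪≫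
      (Scheme.Modules.restrictFunctor hD.isoSpec.inv).mapIso
        ((@asIso _ _ _ _ _ (PnCoh.isIso_twTriv (coords_mem c) d _ hU)).symm) ≪≫
      Scheme.Modules.restrictUnitIso hD.isoSpec.inv⟩

theorem mem_range_chart (x : PP) : ∃ c, x ∈ Set.range (chart k n c).base := by
  obtain ⟨c, hc⟩ := Opens.mem_iSup.1 ((coords_cover (k := k) (n := n)).ge (trivial : x ∈ (⊤ : (PP).Opens)))
  exact ⟨c, ((isAffineOpen_D (coords_mem (k := k) (n := n)) c).range_fromSpec).ge hc⟩

end Charts

/-- Epimorphisms of quasi-coherent modules are read on sections over the charts. -/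
theorem epi_iff_charts {A B : (Proj (CohB1.polyGrading n k)).Modules} (hA : Coh.IsQCoh A) (hB : Coh.IsQCoh B)
    (v : A ⟶ B) :
    Epi v ↔ ∀ c, Function.Surjective
      (fun a : (KFlatLib.lsh (chart k n c)).obj (Coh.structureModule (Spec (chartRing k n c))) ⟶ A => a ≫ v) := by
  constructor
  · intro _ c
    rw [HomSections.surjective_postcomp_iff]
    haveI : Epi ((Scheme.Modules.restrictFunctor (chart k n c)).map v) := inferInstance
    exact HomSections.surjective_of_epi (QCoh.isQCoh_restrict _ hA) (QCoh.isQCoh_restrict _ hB) _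
  · intro h
    refine Preadditive.epi_of_cancel_zero _ fun {Z} g hg => ?_
    refine SheafHomX.eq_zero_of_restrict (fun c => chart k n c) mem_range_chart g fun c => ?_
    haveI : Epi ((Scheme.Modules.restrictFunctor (chart k n c)).map v) :=
      HomSections.epi_of_surjective (QCoh.isQCoh_restrict _ hB) _ ((HomSections.surjective_postcomp_iff _ v).1 (h c))
    haveI : (Scheme.Modules.restrictFunctor (chart k n c)).Additive :=
      Functor.additive_of_preserves_binary_products _
    apply (cancel_epi ((Scheme.Modules.restrictFunctor (chart k n c)).map v)).1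
    rw [← Functor.map_comp, hg, Functor.map_zero, comp_zero]

/-- Epimorphisms between internal homs into a twist, on the charts. -/
theorem epi_homMap_iff {M M' : (Proj (CohB1.polyGrading n k)).Modules} (hM : Coh.IsCoh M) (hM' : Coh.IsCoh M')
    (g : M ⟶ M') (d : ℤ) :
    Epi ((homMap g).app (Ptw d)) ↔ ∀ c, Function.Surjective
      (fun φ : secMod k c M' ⟶ ModuleCat.of (chartRing k n c) (chartRing k n c) =>
        (moduleSpecΓFunctor (R := chartRing k n c)).map ((Scheme.Modules.restrictFunctor (chart k n c)).map g) ≫ φ) := by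
  haveI hP : IsNoetherian (Proj (CohB1.polyGrading n k)) := Proj16.isNoetherian_proj _
  have hN : Coh.IsCoh (Ptw d) :=
    CurveDeg.isCoh_of_isInvertible (isInvertible_twist (coords k n) coords_mem coords_cover d)
  rw [epi_iff_charts (isCoh_hom hM' hN).1 (isCoh_hom hM hN).1]
  refine forall_congr' fun c => ?_
  rw [HomSections.surjective_homMap_iff]
  obtain ⟨e⟩ := nonempty_twist_chart (k := k) c d
  obtain ⟨r⟩ := AffineHomExt.nonempty_gamma_unit (R := chartRing k n c)
  exact AffineHomExt.surjective_precomp_iff (QCoh.isQCoh_restrict _ hM.1) (QCoh.isQCoh_restrict _ hM'.1) _ _ _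
    ((moduleSpecΓFunctor (R := chartRing k n c)).mapIso e ≪≫ r)

section Hom

/-- Morphisms into twists through global sections of internal homs. -/
theorem ev_homMap {M M' N : (Proj (CohB1.polyGrading n k)).Modules} (g : M ⟶ M') (a : OP ⟶ (hom M').obj N) :
    ev M N (a ≫ (homMap g).app N) = g ≫ ev M' N a := by
  show (tenUnitIso M).inv ≫ ((adj M).homEquiv _ _).symm (a ≫ (homMap g).app N) =
    g ≫ (tenUnitIso M').inv ≫ ((adj M').homEquiv _ _).symm a
  rw [homEquiv_homMap, ← Category.assoc, HomSections.tenUnitIso_inv_naturality, Category.assoc]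

theorem surjective_global_iff {M M' N : (Proj (CohB1.polyGrading n k)).Modules} (g : M ⟶ M') :
    (Function.Surjective fun a : OP ⟶ (hom M').obj N => a ≫ (homMap g).app N) ↔
      Function.Surjective fun φ : M' ⟶ N => g ≫ φ := by
  constructor
  · intro h ψ
    obtain ⟨a, ha⟩ := h ((ev M N).symm ψ)
    refine ⟨ev M' N a, ?_⟩
    show g ≫ ev M' N a = ψ
    rw [← ev_homMap, show a ≫ (homMap g).app N = _ from ha, AddEquiv.apply_symm_apply]
  · intro h b
    obtain ⟨φ, hφ⟩ := h (ev M N b)
    refine ⟨(ev M' N).symm φ, (ev M N).injective ?_⟩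
    show ev M N ((ev M' N).symm φ ≫ (homMap g).app N) = ev M N b
    rw [ev_homMap, AddEquiv.apply_symm_apply]
    exact hφ

/-- Onto on sections gives an epimorphism into a globally generated module. -/
theorem epi_of_surjective_sections {X : Scheme.{u}} {A B : X.Modules} (v : A ⟶ B)
    (hB : Curv2.IsGloballyGenerated B) (h : Function.Surjective fun a : Coh.structureModule X ⟶ A => a ≫ v) :
    Epi v := by
  obtain ⟨ι, p, hp⟩ := hB
  haveI := hp
  choose a ha using h
  let l : (SheafOfModules.free ι : X.Modules) ⟶ A :=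
    Sigma.desc fun x => a (Sigma.ι (fun _ : ι => Coh.structureModule X) x ≫ p)
  have hl : l ≫ v = p := Sigma.hom_ext _ _ fun x => by
    rw [← Category.assoc, show Sigma.ι (fun _ : ι => Coh.structureModule X) x ≫ l = _ from Sigma.ι_desc _ x]
    exact ha _
  exact epi_of_epi_fac hl

theorem surjective_sections_of_epi {X : Scheme.{u}} {A B : X.Modules} (v : A ⟶ B) [Epi v]
    (h : Subsingleton (Coh.HH X (kernel v) 1)) :
    Function.Surjective fun a : Coh.structureModule X ⟶ A => a ≫ v := by
  intro b
  obtain ⟨t, ht⟩ := QCoh.app_top_surjective_of_HH_one (S := ShortComplex.mk (kernel.ι v) v (kernel.condition v))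
    { exact := ShortComplex.exact_of_f_is_kernel _ (kernelIsKernel v) } h (InvX.one b)
  refine ⟨InvX.ofSect t, sub_eq_zero.1 (AmpleX.eq_zero_of_one_eq_zero _ ?_)⟩
  show v.app ⊤ (InvX.one (InvX.ofSect t)) - InvX.one b = 0
  rw [InvX.one_ofSect, sub_eq_zero]
  exact ht

end Hom

theorem nonempty_twist_unit (d : ℤ) : Nonempty ((twF d).obj OP ≅ Ptw d) := by
  obtain ⟨u⟩ := unitIso (k := k) (n := n)
  obtain ⟨t⟩ := twist_tensor_iso (coords k n) coords_mem coords_cover 0 d
  exact ⟨(twF d).mapIso u ≪≫ t ≪≫ eqToIso (by rw [zero_add])⟩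

/-- The internal hom into a twist is a twist of the internal hom. -/
theorem nonempty_hom_twist_gen {R A : Type u} [CommRing R] [CommRing A] [Algebra R A]
    {𝒜 : ℕ → Submodule R A} [GradedAlgebra 𝒜] {κ : Type u} (g : κ → A) (hg : ∀ j, g j ∈ 𝒜 1)
    (hcov : ⨆ j, D 𝒜 (g j) = ⊤) (M : (Proj 𝒜).Modules) (d : ℤ) :
    Nonempty ((hom M).obj (Twist.twist 𝒜 d) ≅
      (twistF (𝒜 := 𝒜) d).obj ((hom M).obj (Coh.structureModule (Proj 𝒜)))) := by
  let E := PnDual.twistEquivalence g hg hcov (-d) d (neg_add_cancel d)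
  let a : ten (Twist.twist 𝒜 (-d)) ⊣ ten (Twist.twist 𝒜 d) := E.toAdjunction
  obtain ⟨τ⟩ := HomSections.nonempty_hom_comm M (Twist.twist 𝒜 d) (Twist.twist 𝒜 (-d)) a
  obtain ⟨t⟩ := twist_tensor_iso g hg hcov 0 d
  let u : (twistF (𝒜 := 𝒜) d).obj (Coh.structureModule (Proj 𝒜)) ≅ Twist.twist 𝒜 d :=
    (twistF (𝒜 := 𝒜) d).mapIso (@asIso _ _ _ _ _ (isIso_oneHom g hg hcov)) ≪≫ t ≪≫
      eqToIso (by rw [zero_add])
  exact ⟨(hom M).mapIso u.symm ≪≫ (τ.app (Coh.structureModule (Proj 𝒜))).symm⟩

theorem nonempty_hom_twist (M : (Proj (CohB1.polyGrading n k)).Modules) (d : ℤ) :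
    Nonempty ((hom M).obj (Ptw d) ≅ (twF d).obj ((hom M).obj OP)) :=
  nonempty_hom_twist_gen (coords k n) coords_mem coords_cover M d

theorem isCoh_O : Coh.IsCoh OP := Horrocks.isCoh_unit

/-- Serre vanishing, eventually. -/
theorem eventually_vanish {M : (Proj (CohB1.polyGrading n k)).Modules} (hM : Coh.IsCoh M) (i : ℕ) (hi : 1 ≤ i) :
    ∀ᶠ m : ℤ in atTop, Subsingleton (Coh.HH PP ((twF m).obj M) i) := by
  obtain ⟨d, hd⟩ := RegDescent.exists_vanishing_twF (k := k) hM i hi
  exact eventually_atTop.2 ⟨d, hd⟩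

/-- Large twists are regular. -/
theorem eventually_reg {M : (Proj (CohB1.polyGrading n k)).Modules} (hM : Coh.IsCoh M) :
    ∀ᶠ m : ℤ in atTop, ∀ q : ℕ, 1 ≤ q → Subsingleton (Coh.HH PP ((twF (-(q : ℤ))).obj ((twF m).obj M)) q) := by
  have h : ∀ᶠ m : ℤ in atTop, ∀ q ∈ Finset.range (n + 1), 1 ≤ q →
      Subsingleton (Coh.HH PP ((twF (m + -(q : ℤ))).obj M) q) := by
    rw [eventually_all_finset]
    intro q _
    rcases Nat.eq_zero_or_pos q with rfl | hq
    · exact Eventually.of_forall fun m h => absurd h (by omega)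
    · filter_upwards [(tendsto_atTop_add_const_right atTop (-(q : ℤ)) tendsto_id).eventually
        (eventually_vanish hM q hq)] with m hm _
      exact hm
  filter_upwards [h] with m hm q hq
  obtain ⟨e⟩ := twF_twF_iso M m (-(q : ℤ)) (m + -(q : ℤ)) rfl
  refine QCoh.subsingleton_HH_of_iso e.symm q ?_
  rcases le_or_gt q n with h' | h'
  · exact hm q (Finset.mem_range.2 (by omega)) hq
  · exact Syzygy.subsingleton_high' hM _ q h'

theorem eventually_generated {M : (Proj (CohB1.polyGrading n k)).Modules} (hM : Coh.IsCoh M) :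
    ∀ᶠ m : ℤ in atTop, Curv2.IsGloballyGenerated ((twF m).obj M) := by
  filter_upwards [eventually_reg hM] with m hm
  exact ProjRegular.isGloballyGenerated coords_mem coords_cover coords_noetherian
    (good_of_isCoh coords_mem (Horrocks.isCoh_twF hM m)) hm

theorem isGloballyGenerated_of_iso {X : Scheme.{u}} {A B : X.Modules} (e : A ≅ B)
    (h : Curv2.IsGloballyGenerated A) : Curv2.IsGloballyGenerated B := by
  obtain ⟨ι, p, hp⟩ := h
  haveI := hp
  exact ⟨ι, p ≫ e.hom, epi_comp _ _⟩

/-- For large twists, surjectivity of restriction of morphisms makes the internal homs surject. -/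
theorem eventually_epi_of_surjective {M M' : (Proj (CohB1.polyGrading n k)).Modules} (hM : Coh.IsCoh M)
    (g : M ⟶ M') :
    ∀ᶠ d : ℤ in atTop, (Function.Surjective fun φ : M' ⟶ Ptw d => g ≫ φ) →
      Epi ((homMap g).app (Ptw d)) := by
  haveI hP : IsNoetherian (Proj (CohB1.polyGrading n k)) := Proj16.isNoetherian_proj _
  filter_upwards [eventually_generated (isCoh_hom hM isCoh_O)] with d hd hs
  obtain ⟨e⟩ := nonempty_hom_twist M d
  exact epi_of_surjective_sections _ (isGloballyGenerated_of_iso e.symm hd) ((surjective_global_iff g).2 hs)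

/-- For large twists, a surjection of internal homs gives surjectivity of restriction of morphisms. -/
theorem eventually_surjective_of_epi {S : ShortComplex (Proj (CohB1.polyGrading n k)).Modules} (hS : S.ShortExact)
    (h₃ : Coh.IsCoh S.X₃) :
    ∀ᶠ d : ℤ in atTop, Epi ((homMap S.f).app (Ptw d)) →
      Function.Surjective fun φ : S.X₂ ⟶ Ptw d => S.f ≫ φ := by
  haveI hP : IsNoetherian (Proj (CohB1.polyGrading n k)) := Proj16.isNoetherian_proj _
  haveI := hS.epi_g
  filter_upwards [eventually_vanish (isCoh_hom h₃ isCoh_O) 1 le_rfl] with d hd he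
  haveI := he
  obtain ⟨e⟩ := nonempty_hom_twist S.X₃ d
  obtain ⟨e'⟩ := exists_kernel_iso hS.exact (Ptw d)
  exact (surjective_global_iff S.f).1 (surjective_sections_of_epi _
    (QCoh.subsingleton_HH_of_iso (e.symm ≪≫ e') 1 hd))

end Groth.Agent.PnNegVan
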