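import Groth.Agent.Lib.KoszulChop
import Groth.Agent.Lib.ProjShift
import Groth.Agent.PnCoh.Finite.Projective
import Groth.Agent.PnCoh.Finite.ProjSpace
import Groth.Agent.InvX.Tensor
import Groth.Agent.InvX.GenEpi
import Groth.Agent.TwistX.Global
import Groth.Agent.KFlatLib.Scheme.TensorAssoc
import Groth.Agent.QCoh.Bound
import Groth.Agent.QCoh.OpenSub
import Groth.Agent.Lib.CurveTensor

/-!
Mumford's lemma on `Proj` of a ring generated by finitely many elements of degree one: regularity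
propagates, multiplication of sections is onto, and a regular module is globally generated.
-/

set_option linter.style.haveILetI false
set_option linter.unusedSectionVars false
set_option backward.isDefEq.respectTransparency false
set_option backward.isDefEq.respectTransparency.types false

universe u

open CategoryTheory CategoryTheory.Limits AlgebraicGeometry TopologicalSpace Opposite MonoidalCategory
open Groth.Agent.KFlatLib Groth.Agent.PnCoh.Finite

namespace Groth.Agent.ProjRegular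

open Groth.Agent.PnCoh Groth.Agent.KoszulChop Groth.Agent.ProjShift

variable {R A : Type u} [CommRing R] [CommRing A] [Algebra R A]
  {𝒜 : ℕ → Submodule R A} [GradedAlgebra 𝒜] {κ : Type u} {f : κ → A}

/-- The twists of a module. -/
noncomputable abbrev tw (G : (Proj 𝒜).Modules) (d : ℤ) : (Proj 𝒜).Modules :=
  (DCoh.tensorBi.obj G).obj (Twist.twist 𝒜 d)

/-- The multiplication maps between the twists. -/
noncomputable abbrev mulX (hf : ∀ i, f i ∈ 𝒜 1) (G : (Proj 𝒜).Modules) (j : κ) (d : ℤ) :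
    tw G (d - 1) ⟶ tw G d :=
  (DCoh.tensorBi.obj G).map (xHom (hf j) d)

/-- Castelnuovo–Mumford regularity in degree zero, all cohomological degrees. -/
def Reg0 (G : (Proj 𝒜).Modules) : Prop :=
  ∀ q : ℕ, 1 ≤ q → Subsingleton (Coh.HH (Proj 𝒜) (tw G (-(q : ℤ))) q)

variable (hf : ∀ i, f i ∈ 𝒜 1) (hcov : ⨆ j, D 𝒜 (f j) = ⊤) {G : (Proj 𝒜).Modules}

include hf in
theorem mulX_comm (i j : κ) (d : ℤ) :
    mulX hf G i (d - 1) ≫ mulX hf G j d = mulX hf G j (d - 1) ≫ mulX hf G i d := by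
  rw [← Functor.map_comp, ← Functor.map_comp, xHom_comm (hf i) (hf j) d]

include hf hcov in
theorem covered [Fintype κ] (y : (Proj 𝒜)) :
    ∃ j ∈ (Finset.univ : Finset κ).toList, ∀ d, Function.Bijective ((stalkAb y).map (mulX hf G j d)) := by
  obtain ⟨j, hj⟩ := Opens.mem_iSup.1 (hcov.ge (trivial : y ∈ (⊤ : (Proj 𝒜).Opens)))
  exact ⟨j, Finset.mem_toList.2 (Finset.mem_univ j), fun d => bijective_stalkAb (hf j) G hj d⟩

include hf hcov in
/-- Regularity propagates. -/
theorem reg_add [Finite κ] (hR : Reg0 G) :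
    ∀ (e : ℕ) (q : ℕ), 1 ≤ q → Subsingleton (Coh.HH (Proj 𝒜) (tw G ((e : ℤ) - q)) q) := by
  haveI := Fintype.ofFinite κ
  intro e
  induction e with
  | zero => intro q hq; simpa using hR q hq
  | succ e ih =>
    intro i hi
    refine subsingleton_HH_zero (tw G) (mulX hf G) (mulX_comm hf) _ (covered hf hcov) _ i fun p => ?_
    refine subsingleton_HH_obj (tw G) _ _ _ _ ?_
    have h := ih (i + p) (by omega)
    rwa [show ((e + 1 : ℕ) : ℤ) - (i : ℤ) - ((p + 1 : ℕ) : ℤ) = (e : ℤ) - ((i + p : ℕ) : ℤ) by omega]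

section Sections

/-- Global sections, as a functor. -/
noncomputable abbrev secTop (X : Scheme.{u}) : X.Modules ⥤ AddCommGrpCat.{u} :=
  Scheme.Modules.toPresheaf X ⋙ (evaluation _ _).obj (op ⊤)

instance additive_secTop (X : Scheme.{u}) : (secTop X).Additive := ⟨fun {_ _ _ _} => rfl⟩

/-- The span of the tensors of global sections. -/
noncomputable def tensors (G : (Proj 𝒜).Modules) (d : ℤ) : AddSubgroup Γ(tw G d, ⊤) :=
  AddSubgroup.closure (Set.range fun ts : Γ(G, ⊤) × Γ(Twist.twist 𝒜 d, ⊤) => InvX.tmul ts.1 ts.2)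

theorem app_tmul {T T' : (Proj 𝒜).Modules} (φ : T ⟶ T') (G : (Proj 𝒜).Modules) (t : Γ(G, ⊤)) (s : Γ(T, ⊤)) :
    ((DCoh.tensorBi.obj G).map φ).app ⊤ (InvX.tmul t s) = InvX.tmul t (φ.app ⊤ s) :=
  (congrArg (fun ψ : DCoh.toP.obj G ⊗ DCoh.toP.obj T ⟶ DCoh.toP.obj ((DCoh.tensorBi.obj G).obj T') =>
    ψ.app (op ⊤) (tm t s)) (unitShP_naturality (DCoh.toP.obj G ◁ DCoh.toP.map φ))).symm

include hf in
theorem mulX_mem (d : ℤ) (j : κ) (h : tensors G (d - 1) = ⊤) (w : Γ(tw G (d - 1), ⊤)) :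
    (mulX hf G j d).app ⊤ w ∈ tensors G d := by
  have hw : w ∈ tensors G (d - 1) := by rw [h]; trivial
  induction hw using AddSubgroup.closure_induction with
  | mem y hy =>
    obtain ⟨⟨t, s⟩, rfl⟩ := hy
    rw [app_tmul]
    exact AddSubgroup.subset_closure ⟨(t, (xHom (hf j) d).app ⊤ s), rfl⟩
  | zero => rw [map_zero]; exact zero_mem _
  | add a b _ _ ha hb => rw [map_add]; exact add_mem ha hb
  | neg a _ ha => rw [map_neg]; exact neg_mem ha

/-- `G ⟶ G ⊗ O(0)`. -/
noncomputable def intoTw (G : (Proj 𝒜).Modules) : G ⟶ tw G 0 :=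
  ⟨(ρ_ (DCoh.toP.obj G)).inv ≫ DCoh.toP.obj G ◁ DCoh.toP.map (oneHom (𝒜 := 𝒜)) ≫ unitShP _⟩

include hf hcov in
theorem tensors_zero : tensors G 0 = ⊤ := by
  haveI : IsIso (oneHom (𝒜 := 𝒜)) := isIso_oneHom f hf hcov
  haveI : IsIso (intoTw G) := by
    apply isIso_of_stalk
    intro y
    refine (NatIso.isIso_map_iff (stalkToPIso y) (intoTw G)).2 ?_
    show IsIso ((stalkP y).map ((ρ_ (DCoh.toP.obj G)).inv ≫ DCoh.toP.obj G ◁ DCoh.toP.map (oneHom (𝒜 := 𝒜)) ≫ unitShP _))
    rw [Functor.map_comp, Functor.map_comp]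
    infer_instance
  refine eq_top_iff.2 fun z _ => ?_
  obtain ⟨g, hg⟩ := (ConcreteCategory.bijective_of_isIso ((intoTw G).app ⊤)).2 z
  rw [← hg]
  exact AddSubgroup.subset_closure ⟨(g, (oneHom (𝒜 := 𝒜)).app ⊤ (1 : Γ(Proj 𝒜, ⊤))), rfl⟩

include hf hcov in
/-- Global sections of twists of a regular module are spanned by tensors. -/
theorem tensors_eq_top [Finite κ] (hR : Reg0 G) : ∀ (e : ℕ) (d : ℤ), d = e → tensors G d = ⊤ := by
  haveI := Fintype.ofFinite κ
  intro e
  induction e with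
  | zero => rintro d rfl; exact tensors_zero hf hcov
  | succ e ih =>
    intro d hd
    have hprev := ih (d - 1) (by omega)
    refine eq_top_iff.2 fun z _ => ?_
    let l := (Finset.univ : Finset κ).toList
    have hsurj := surjective_dd_zero (tw G) (mulX hf G) (mulX_comm hf) l (covered hf hcov) d (fun p => by
      refine subsingleton_HH_obj (tw G) _ _ _ _ ?_
      have h := reg_add hf hcov hR e (p + 1) (by omega)
      rwa [show d - ((p + 2 : ℕ) : ℤ) = (e : ℤ) - ((p + 1 : ℕ) : ℤ) by omega])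
    haveI := isIso_e0 (tw G) l d
    obtain ⟨z', hz'⟩ := (ConcreteCategory.bijective_of_isIso ((e0 (tw G) l d).app ⊤)).2 z
    obtain ⟨w, hw⟩ := hsurj z'
    rw [← hz', ← hw]
    exact dd_zero_mem (tw G) (mulX hf G) (secTop (Proj 𝒜)) l d (tensors G d)
      (fun j _ t => mulX_mem hf d j hprev t) w

include hf hcov in
/-- The map from the sectionwise tensor product is onto on global sections. -/
theorem surjective_toSheafify [Finite κ] (hR : Reg0 G) (e : ℕ) :
    Function.Surjective ((toSheafify (Opens.grothendieckTopology (Proj 𝒜))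
      (CohB1.tensorPre G (Twist.twist 𝒜 (e : ℤ))).presheaf).app (op ⊤)) := by
  intro z
  have hz : (z : Γ(tw G (e : ℤ), ⊤)) ∈ tensors G (e : ℤ) := by
    rw [tensors_eq_top hf hcov hR e e rfl]; trivial
  induction hz using AddSubgroup.closure_induction with
  | mem y hy => obtain ⟨⟨t, s⟩, rfl⟩ := hy; exact ⟨tm t s, rfl⟩
  | zero => exact ⟨0, map_zero _⟩
  | add a b _ _ ha hb =>
    obtain ⟨a', ha'⟩ := ha; obtain ⟨b', hb'⟩ := hb
    exact ⟨a' + b', by rw [map_add, ha', hb']⟩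
  | neg a _ ha =>
    obtain ⟨a', ha'⟩ := ha
    exact ⟨-a', by rw [map_neg, ha']⟩

end Sections

section Generated

/-- Tensoring with a twist is faithful. -/
theorem eq_zero_of_flip_map_eq_zero (hf : ∀ i, f i ∈ 𝒜 1) (hcov : ⨆ j, D 𝒜 (f j) = ⊤) {P Q : (Proj 𝒜).Modules}
    (α : P ⟶ Q) (d : ℤ) (h : (twistF d).map α = 0) : α = 0 := by
  refine Scheme.Modules.hom_ext _ _ fun V => ?_
  ext m
  refine TopCat.Presheaf.section_ext ⟨Q.presheaf, Q.isSheaf⟩ _ _ _ fun y hy => ?_
  obtain ⟨j, hj⟩ := Opens.mem_iSup.1 (hcov.ge (trivial : y ∈ (⊤ : (Proj 𝒜).Opens)))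
  let S := (DerSch.stalkFunctor (Proj 𝒜) y)
  have h0 : (S ⋙ tensorRight (S.obj (Twist.twist 𝒜 d))).map α = 0 := by
    have hn := (stalkTensorRightIso (Twist.twist 𝒜 d) y).hom.naturality α
    have h' : (DCoh.tensorBi.flip.obj (Twist.twist 𝒜 d) ⋙ S).map α = 0 := by
      show S.map ((twistF d).map α) = 0
      rw [h]
      haveI : S.Additive := Functor.additive_of_preserves_binary_products _
      exact S.map_zero _ _
    rw [h', zero_comp] at hn
    exact (cancel_epi ((stalkTensorRightIso (Twist.twist 𝒜 d) y).hom.app P)).1 (hn.symm.trans comp_zero.symm)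
  let e : stalkMod y (DCoh.toP.obj (Twist.twist 𝒜 d)) ≃ₗ[(Proj 𝒜).presheaf.stalk y] (Proj 𝒜).presheaf.stalk y :=
    (LinearEquiv.ofBijective _ (stalkGen_bijective (hf j) hj d)).symm
  have h1 : ∀ v, ((stalkP y).map (DCoh.toP.map α)) v = 0 := fun v => by
    have h2 : ((stalkP y).map (DCoh.toP.map α)) v ⊗ₜ[(Proj 𝒜).presheaf.stalk y] (stalkGen (hf j) hj d) = 0 := by
      have hS : S.map α v = ((stalkP y).map (DCoh.toP.map α)) v :=
        congrArg (fun g => g v) (show S.map α ≫ (stalkToPIso y).hom.app Q = (stalkToPIso y).hom.app P ≫ (stalkP y).map (DCoh.toP.map α) from (stalkToPIso y).hom.naturality α)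
      rw [← hS]
      exact congrArg (fun g => g (v ⊗ₜ[(Proj 𝒜).presheaf.stalk y] (stalkGen (hf j) hj d))) h0
    have h3 := congrArg (fun z => (TensorProduct.rid _ _) (LinearMap.lTensor _ e.toLinearMap z)) h2
    simp only [LinearMap.lTensor_tmul, map_zero, TensorProduct.rid_tmul] at h3
    rwa [show e.toLinearMap (stalkGen (hf j) hj d) = 1 from
      (LinearEquiv.symm_apply_eq _).2 (by simp [LinearEquiv.ofBijective_apply]), one_smul] at h3
  refine ((stalkModMap_germ (DCoh.toP.map α) V hy m).symm.trans (h1 _)).trans ?_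
  exact (map_zero _).symm

/-- Maps out of a non-negative twist are determined on global sections. -/
theorem eq_zero_of_app_top [Finite κ] (hf : ∀ i, f i ∈ 𝒜 1) (hcov : ⨆ j, D 𝒜 (f j) = ⊤) (n : ℤ) (hn : 0 ≤ n)
    {W : (Proj 𝒜).Modules} (φ : Twist.twist 𝒜 n ⟶ W) (h : ∀ z, φ.app ⊤ z = 0) : φ = 0 := by
  lift n to ℕ using hn
  exact InvX.hom_ext_of_generated (TwistX.generatedBy_pow f hf hcov n) fun j => h _

include hf hcov in
/-- A regular coherent module is globally generated. -/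
theorem isGloballyGenerated [Finite κ] (hnoeth : ∀ j, IsNoetherianRing Γ(Proj 𝒜, D 𝒜 (f j)))
    (hG : Good f G) (hR : Reg0 G) : Curv2.IsGloballyGenerated G := by
  classical
  obtain ⟨ι, _, dd, S, p, q, hS, rfl, -, -, hpq⟩ := exists_presentation hf hcov hnoeth hG
  obtain ⟨e, he⟩ : ∃ e : ℕ, ∀ a, 0 ≤ dd a + (e : ℤ) :=
    ⟨∑ a, (-dd a).toNat, fun a => by
      have := Finset.single_le_sum (f := fun a => (-dd a).toNat) (fun _ _ => Nat.zero_le _) (Finset.mem_univ a)
      omega⟩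
  obtain ⟨p', q', hpq'⟩ := exists_twisted_decomposition hf hcov dd p q hpq (e : ℤ)
  let φ : (SheafOfModules.free (ULift.{u} Γ(S.X₃, ⊤)) : (Proj 𝒜).Modules) ⟶ S.X₃ :=
    Sigma.desc fun t => InvX.ofSect t.down
  refine ⟨_, φ, ⟨fun {W} a b hab => sub_eq_zero.1 ?_⟩⟩
  obtain ⟨c, hc⟩ : ∃ c : S.X₃ ⟶ W, c = a - b := ⟨_, rfl⟩
  rw [← hc]
  refine eq_zero_of_flip_map_eq_zero hf hcov c (e : ℤ) ?_
  have hkill : ∀ t : Γ(S.X₃, ⊤), c.app ⊤ t = 0 := fun t => by
    have h1 : InvX.ofSect t ≫ c = 0 := by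
      have := congrArg (fun χ => Sigma.ι (fun _ : ULift.{u} Γ(S.X₃, ⊤) => Coh.structureModule (Proj 𝒜)) ⟨t⟩ ≫ χ) hab
      simp only [φ, ← Category.assoc, Sigma.ι_desc] at this
      rw [hc, Preadditive.comp_sub, sub_eq_zero]
      exact this
    have h2 := congrArg (fun χ => InvX.one χ) h1
    exact ((congrArg (c.app ⊤) (InvX.one_ofSect t)).symm.trans h2).trans rfl
  have hkill' : ∀ z : Γ((twistF (e : ℤ)).obj S.X₃, ⊤), ((twistF (e : ℤ)).map c).app ⊤ z = 0 := fun z => by
    have hz : z ∈ tensors S.X₃ (e : ℤ) := by rw [tensors_eq_top hf hcov hR e e rfl]; trivial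
    induction hz using AddSubgroup.closure_induction with
    | mem y hy =>
      obtain ⟨⟨t, s⟩, rfl⟩ := hy
      have h3 : ((twistF (e : ℤ)).map c).app ⊤ (InvX.tmul t s) = InvX.tmul (c.app ⊤ t) s :=
        (congrArg (fun ψ : DCoh.toP.obj S.X₃ ⊗ DCoh.toP.obj (Twist.twist 𝒜 (e : ℤ)) ⟶
            DCoh.toP.obj ((twistF (e : ℤ)).obj W) => ψ.app (op ⊤) (tm t s))
          (unitShP_naturality (DCoh.toP.map c ▷ DCoh.toP.obj (Twist.twist 𝒜 (e : ℤ))))).symm
      rw [h3, hkill t]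
      show InvX.tmul (0 : Γ(W, ⊤)) s = 0
      rw [← zero_smul Γ(Proj 𝒜, ⊤) (0 : Γ(W, ⊤)), InvX.tmul_smul_left, zero_smul]
    | zero => exact map_zero _
    | add u v _ _ hu hv => rw [map_add, hu, hv, add_zero]
    | neg u _ hu => rw [map_neg, hu, neg_zero]
  haveI : Epi ((twistF (e : ℤ)).map S.g) := (shortExact_twistBy f hf hcov (e : ℤ) hS).epi_g
  apply (cancel_epi ((twistF (e : ℤ)).map S.g)).1
  rw [comp_zero, ← Category.id_comp ((twistF (e : ℤ)).map S.g ≫ _), ← hpq', Preadditive.sum_comp]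
  refine Finset.sum_eq_zero fun i _ => ?_
  rw [Category.assoc]
  refine (congrArg (p' i ≫ ·) (eq_zero_of_app_top hf hcov _ (he i) _ fun z => ?_)).trans comp_zero
  exact hkill' _

end Generated

end Groth.Agent.ProjRegular
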