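import Groth.Agent.Pic13Lib.QuotKernel
import Groth.Agent.Pic13Lib.AlgEqEuler
import Groth.Agent.Pic13Lib.IntNum
import Groth.Agent.Pic13Lib.EulerInv
import Groth.Agent.Lib.Pic13Regular
import Groth.Agent.Lib.RegularSeq
import Groth.Agent.Lib.LerayCorner
import Groth.Agent.Lib.SyzygyPn
import Groth.Agent.Lib.HomPushSections
import Groth.Agent.AmpleVan.AdicBase
import Groth.Agent.Nakai.Big
import Groth.Agent.GenusOneSS.Free
import Groth.Prelude.Def_ShStab

/-!
Uniform vanishing and generation for the quotients of a free sheaf with given Hilbert polynomial.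
-/

set_option autoImplicit false
set_option linter.style.haveILetI false
set_option linter.unusedSectionVars false
set_option backward.isDefEq.respectTransparency false
set_option backward.isDefEq.respectTransparency.types false
set_option maxHeartbeats 1000000

universe u

open CategoryTheory CategoryTheory.Limits AlgebraicGeometry TopologicalSpace Opposite

noncomputable section

namespace Groth.Agent.QuotUniform

open Groth.Agent Groth.Agent.H23 Groth.Agent.Pic13Lib
open Groth.Agent.PnCoh.Finite (mapLin map_map)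
open scoped Groth.Agent.H23.PicMul

variable (k : Type u) [Field k] {n : ℕ} {X : Scheme.{u}} (i : X ⟶ CohB1.ProjSpace n k) [IsClosedImmersion i]

/-- The structure sheaf sections of a free sheaf pushed along `i`. -/
def unitFree (N : ℕ) : FlatMod.freeMod (CohB1.ProjSpace n k) N ⟶
    (Scheme.Modules.pushforward i).obj (FlatMod.freeMod X N) :=
  Sigma.desc fun j => ClSub.unitToPush i ≫ (Scheme.Modules.pushforward i).map (Sigma.ι (fun _ : Fin N => Coh.structureModule X) j)

theorem epi_unitFree (N : ℕ) : Epi (unitFree k i N) := by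
  haveI : (Scheme.Modules.pushforward i).Additive := inferInstance
  haveI : PreservesFiniteBiproducts (Scheme.Modules.pushforward i) := Functor.preservesFiniteBiproductsOfAdditive _
  haveI : PreservesColimit (Discrete.functor fun _ : Fin N => Coh.structureModule X) (Scheme.Modules.pushforward i) :=
    preservesCoproduct_of_preservesBiproduct _
  haveI := HomPushSections.epi_unitToPush i
  have e : unitFree k i N = Limits.Sigma.map (fun _ : Fin N => ClSub.unitToPush i) ≫
      sigmaComparison (Scheme.Modules.pushforward i) (fun _ : Fin N => Coh.structureModule X) := by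
    refine Sigma.hom_ext _ _ fun j => ?_
    simp [unitFree]
  rw [e]
  infer_instance

/-- The sheaf `O(t)`. -/
abbrev O (t : ℤ) : (CohB1.ProjSpace n k).Modules := Twist.twistProjSpace n k t

/-- Vanishing in every positive degree from a bound on. -/
theorem exists_bound (N : ℕ) (f : ℤ → ℤ) : ∃ B : ℤ, ∀ (F : X.Modules) (q : FlatMod.freeMod X N ⟶ F), Coh.IsCoh F → Epi q →
    (∀ t : ℤ, FGA.eulerCharLE k (CohB1.ProjSpace n k)
      (CohB1.tensorMod ((Scheme.Modules.pushforward i).obj F) (O k t)) n = f t) →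
    ∀ t : ℤ, B ≤ t →
      (∀ p : ℕ, Subsingleton (Coh.HH (CohB1.ProjSpace n k)
        (CohB1.tensorMod ((Scheme.Modules.pushforward i).obj F) (O k t)) (p + 1))) ∧
      ∀ S : ShortComplex X.Modules, S.ShortExact → ∀ (e : S.X₃ ≅ F) (e₂ : S.X₂ ≅ FlatMod.freeMod X N),
        e₂.inv ≫ S.g ≫ e.hom = q →
        (∀ p : ℕ, Subsingleton (Coh.HH (CohB1.ProjSpace n k)
          (CohB1.tensorMod ((Scheme.Modules.pushforward i).obj (FlatMod.freeMod X N)) (O k t)) (p + 1))) →
        ∀ p : ℕ, Subsingleton (Coh.HH (CohB1.ProjSpace n k)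
          (CohB1.tensorMod ((Scheme.Modules.pushforward i).obj S.X₁) (O k t)) (p + 1)) := by
  obtain ⟨m, hm⟩ := exists_kernel_regularity n N f
  refine ⟨|m| + n, fun F q hF hq h t ht => ?_⟩
  haveI := hq
  haveI hP : IsNoetherian (Proj (CohB1.polyGrading n k)) := Proj16.isNoetherian_proj _
  haveI : IsNoetherian (CohB1.ProjSpace n k) := hP
  haveI : IsLocallyNoetherian X := LocallyOfFiniteType.isLocallyNoetherian i
  haveI : CompactSpace X := i.isClosedEmbedding.compactSpace
  haveI : IsNoetherian X := {}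
  haveI : IsProper (CohB1.ProjSpace n k ↘ Spec (CommRingCat.of k)) := PnCoh.Chow.isProper_toSpec n _
  haveI := epi_unitFree k i N
  have hXN : Coh.IsCoh (FlatMod.freeMod X N) := QCoh.isCoh_iff_isFP.2 (QCoh.isFP_of_isFinLocFree (GenusOneSS.isFinLocFree_freeMod N))
  have hiF := Pic13Regular.isCoh_pushF i hF
  have hPN : Coh.IsCoh (FlatMod.freeMod (CohB1.ProjSpace n k) N) := Syzygy.isCoh_sigma_O N
  haveI : Epi ((Scheme.Modules.pushforward i).map q) := AmpleVan.epi_push i hXN.1 hF.1 q
  let φ := unitFree k i N ≫ (Scheme.Modules.pushforward i).map q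
  haveI : Epi φ := epi_comp _ _
  have hK : Coh.IsCoh (kernel φ) := QCoh.isCoh_kernel hPN hiF φ
  have hreg := hm k ((Scheme.Modules.pushforward i).obj F) φ hiF inferInstance h
  have hOi : ∀ s : ℤ, PicF.IsInvertible (O (n := n) k s) := fun s => DualRange.isInvertible_pn s
  have hdim : topologicalKrullDim (CohB1.ProjSpace n k) ≤ n := (S10829.result k n).le
  haveI : (CohB1.ProjSpace n k).IsSeparated := AmpleVan.isSeparated_of_proper (A := k)
  have hbig : ∀ (G : (CohB1.ProjSpace n k).Modules), Coh.IsQCoh G → ∀ p, n < p → Subsingleton (Coh.HH (CohB1.ProjSpace n k) G p) :=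
    fun G hG p hp => Snapper.subsingleton_HH_of_dim_le hdim hG (by omega)
  have hKv : ∀ p : ℕ, Subsingleton (Coh.HH (CohB1.ProjSpace n k) (CohB1.tensorMod (kernel φ) (O k t)) (p + 1)) := fun p => by
    rcases le_or_gt (p + 1) n with hp | hp
    · obtain ⟨a, ha⟩ : ∃ a : ℕ, (a : ℤ) = t - m + (p + 1) :=
        ⟨(t - m + (p + 1)).toNat, Int.toNat_of_nonneg (by have := le_abs_self m; omega)⟩
      have h0 : ProjRegular.Reg0 (𝒜 := CohB1.polyGrading n k) (CohB1.tensorMod (kernel φ) (O k m)) := by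
        intro q' hq'
        obtain ⟨φ'⟩ := ProjRegular.twist_twist_iso (kernel φ) m (-(q' : ℤ))
        refine QCoh.subsingleton_HH_of_iso φ'.symm q' ?_
        rw [show m + -(q' : ℤ) = m - q' by ring]
        rcases le_or_gt q' n with hq'' | hq''
        · exact hreg q' hq' hq''
        · exact hbig _ (AmpleVan.isCoh_tensor hK (AmpleVan.isCoh_invertible (hOi _))).1 q' hq''
      obtain ⟨φ'⟩ := ProjRegular.twist_twist_iso (kernel φ) m ((a : ℤ) - ((p + 1 : ℕ) : ℤ))
      have h2 := QCoh.subsingleton_HH_of_iso φ' (p + 1)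
        (ProjRegular.reg_add ProjRegular.coords_mem ProjRegular.coords_cover h0 a (p + 1) (Nat.succ_pos _))
      rwa [show m + ((a : ℤ) - ((p + 1 : ℕ) : ℤ)) = t by push_cast; omega] at h2
    · exact hbig _ (AmpleVan.isCoh_tensor hK (AmpleVan.isCoh_invertible (hOi _))).1 _ hp
  have hPv : ∀ p : ℕ, Subsingleton (Coh.HH (CohB1.ProjSpace n k)
      (CohB1.tensorMod (FlatMod.freeMod (CohB1.ProjSpace n k) N) (O k t)) (p + 1)) := fun p =>
    Syzygy.subsingleton_HH_sigma_O N (p + 1) t (Nat.succ_pos _) (by have := abs_nonneg m; omega)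
  have hS : (ShortComplex.mk (kernel.ι φ) φ (kernel.condition φ)).ShortExact :=
    { exact := ShortComplex.exact_of_f_is_kernel _ (kernelIsKernel φ) }
  obtain ⟨f₁, g₁, w₁, hS₁⟩ := NefBig.ses_twist hS (hOi t)
  refine ⟨fun p => PnCoh.Finite.subsingleton_HH_X₃ hS₁ (p + 1) (hPv p) (hKv (p + 1)), fun S hS' e e₂ he hXv => ?_⟩
  haveI : Epi S.g := hS'.epi_g
  haveI : Mono S.f := hS'.mono_f
  let S' : ShortComplex X.Modules := ShortComplex.mk (S.f ≫ e₂.hom) q (by
    rw [← he, Category.assoc, Iso.hom_inv_id_assoc, ← Category.assoc, S.zero, zero_comp])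
  have hS'' : S'.ShortExact := ShortComplex.shortExact_of_iso (show S ≅ S' from ShortComplex.isoMk (Iso.refl _) e₂ e
    (by simp [S']) (by simp [S', ← he])) hS'
  let T : ShortComplex (CohB1.ProjSpace n k).Modules := S'.map (Scheme.Modules.pushforward i)
  have hT : T.ShortExact :=
    { exact := (S'.map (Scheme.Modules.pushforward i)).exact_of_f_is_kernel
        (isLimitForkMapOfIsLimit' (Scheme.Modules.pushforward i) S'.zero hS''.fIsKernel)
      mono_f := by haveI := hS''.mono_f; exact inferInstanceAs (Mono ((Scheme.Modules.pushforward i).map S'.f))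
      epi_g := inferInstanceAs (Epi ((Scheme.Modules.pushforward i).map q)) }
  let W := AmpleVan.tw (O (n := n) k t)
  haveI := AmpleVan.isEquivalence_tw (hOi t)
  haveI : W.Additive := Functor.additive_of_preserves_binary_products _
  have hWT := hT.map_of_exact W
  have hWS := hS.map_of_exact W
  intro p
  rcases p with _ | p
  · have hsurj : Function.Surjective (mapLin k (W.map ((Scheme.Modules.pushforward i).map q)) 0) := by
      have h1 : Function.Surjective (mapLin k (W.map φ) 0) := by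
        intro y
        have hr := Euler.range_mapLin_g k hWS 0
        have hy : y ∈ LinearMap.ker (PnCoh.Finite.deltaLin k hWS 0) := LinearMap.mem_ker.2 ((hKv 0).elim _ _)
        rw [← hr] at hy
        exact hy
      intro y
      obtain ⟨x, hx⟩ := h1 y
      refine ⟨mapLin k (W.map (unitFree k i N)) 0 x, Eq.trans ?_ hx⟩
      exact map_map (Y := (CohB1.ProjSpace n k).toPresheafedSpace.carrier)
        (((QCoh.toAbFunctor _).map_comp _ _).symm.trans (congrArg (QCoh.toAbFunctor _).map (W.map_comp _ _).symm)) 0 x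
    refine subsingleton_of_forall_eq 0 fun x => ?_
    have h2 : x ∈ LinearMap.range (PnCoh.Finite.deltaLin k hWT 0) := by
      rw [Euler.range_deltaLin k hWT 0]
      exact LinearMap.mem_ker.2 ((hXv 0).elim _ _)
    obtain ⟨z, hz⟩ := h2
    obtain ⟨y, hy⟩ := hsurj z
    have h3 : z ∈ LinearMap.ker (PnCoh.Finite.deltaLin k hWT 0) := by
      rw [← Euler.range_mapLin_g k hWT 0]
      exact ⟨y, hy⟩
    rw [← hz]
    exact LinearMap.mem_ker.1 h3
  · exact LerayCorner.subsingleton_HH_X₁ hWT (p + 1)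
      (PnCoh.Finite.subsingleton_HH_X₃ hS₁ (p + 1) (hPv p) (hKv (p + 1))) (hXv (p + 1))

variable [X.Over (Spec (CommRingCat.of k))] [IsProper (X ↘ Spec (CommRingCat.of k))]

theorem cl_pow_tw {L : X.Modules} (hL : Nonempty (L ≅ (Scheme.Modules.pullback i).obj (O k 1))) (M : X.Modules) (l : ℕ) :
    PicF.cl (Pic13.twistOn k i M (l : ℤ)) = PicF.cl (ShStab.twist X L M l) := by
  have h1 : ∀ e : ℕ, Pic13Lib.tw i (e : ℤ) = PicF.cl L ^ e := fun e => by
    induction e with
    | zero => rw [Nat.cast_zero, Pic13Lib.tw_zero, pow_zero]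
    | succ e ih =>
      rw [Nat.cast_succ, Pic13Lib.tw_add, ih, pow_succ, Pic13Lib.tw_eq]
      exact congrArg (_ * ·) (PicMul.cl_eq_iff.2 hL).symm
  rw [Pic13Lib.cl_twistOn, h1, ShStab.twist, PicMul.cl_tensor, PicMul.cl_tensorPow]

theorem eulerCharLE_eq_hilb (hi : i ≫ CohB1.ProjSpace.toSpec n k = X ↘ Spec (CommRingCat.of k)) {L : X.Modules}
    (hL : Nonempty (L ≅ (Scheme.Modules.pullback i).obj (O k 1))) {F : X.Modules} (hF : Coh.IsCoh F) {P : Polynomial ℚ}
    (hP : ShStab.IsHilbPoly k X L F P) (t : ℤ) :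
    FGA.eulerCharLE k (CohB1.ProjSpace n k) (CohB1.tensorMod ((Scheme.Modules.pushforward i).obj F) (O k t)) n =
      ⌊P.eval (t : ℚ)⌋ := by
  haveI : IsProper (CohB1.ProjSpace n k ↘ Spec (CommRingCat.of k)) := PnCoh.Chow.isProper_toSpec n _
  haveI hP' : IsNoetherian (Proj (CohB1.polyGrading n k)) := Proj16.isNoetherian_proj _
  haveI : IsNoetherian (CohB1.ProjSpace n k) := hP'
  have hiF := Pic13Regular.isCoh_pushF i hF
  have hdim : topologicalKrullDim (CohB1.ProjSpace n k) ≤ n := (S10829.result k n).le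
  obtain ⟨R, -, hR⟩ := exists_poly_pn k n hiF
  have hRP : R = P := Polynomial.eq_of_infinite_eval_eq _ _ (Set.Infinite.mono (by
    rintro _ ⟨m, rfl⟩
    show R.eval (m : ℚ) = P.eval (m : ℚ)
    have hc := Pic13Regular.isCoh_twistOn i hF (m : ℤ)
    obtain ⟨e⟩ := Pic13Regular.push_twistOn i F (m : ℤ)
    have hR' := hR (m : ℤ)
    rw [Int.cast_natCast] at hR'
    rw [← hR', ← hP m,
      eulerCharLE_eq hdim (AmpleVan.isCoh_tensor hiF (AmpleVan.isCoh_invertible (DualRange.isInvertible_pn (m : ℤ)))).1,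
      CurveCohLib.euler_congr (k := k) e.symm]
    exact congrArg Int.cast ((Pic13Lib.euler_push i hi hc.1).trans
      (CurveCohLib.euler_congr (k := k) (PicMul.cl_eq_iff.1 (cl_pow_tw k i hL F m)).some)))
      (Set.infinite_range_of_injective (f := fun m : ℕ => (m : ℚ)) Nat.cast_injective))
  rw [← hRP, ← hR t, Int.floor_intCast]

/-- Uniform vanishing and generation. -/
theorem main (hi : i ≫ CohB1.ProjSpace.toSpec n k = X ↘ Spec (CommRingCat.of k)) {L : X.Modules}
    (hL : Nonempty (L ≅ (Scheme.Modules.pullback i).obj (O k 1))) (N : ℕ) (P : Polynomial ℚ) :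
    ∃ l₀ : ℕ, ∀ (F : X.Modules) (q : FlatMod.freeMod X N ⟶ F),
      Coh.IsCoh F → Epi q → ShStab.IsHilbPoly k X L F P →
        ∀ l : ℕ, l₀ ≤ l →
          (∀ j : ℕ, 0 < j → Subsingleton (Coh.HH X (ShStab.twist X L F l) j)) ∧
          (∀ j : ℕ, 0 < j → Subsingleton (Coh.HH X (ShStab.twist X L (kernel q) l) j)) ∧
          Curv2.IsGloballyGenerated (ShStab.twist X L (kernel q) l) := by
  haveI : IsProper (CohB1.ProjSpace n k ↘ Spec (CommRingCat.of k)) := PnCoh.Chow.isProper_toSpec n _
  haveI hP' : IsNoetherian (Proj (CohB1.polyGrading n k)) := Proj16.isNoetherian_proj _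
  haveI : IsNoetherian (CohB1.ProjSpace n k) := hP'
  haveI := CurveCohLib.isNoetherian_of_proper (k := k) (X := X)
  haveI : (CohB1.ProjSpace n k).IsSeparated := AmpleVan.isSeparated_of_proper (A := k)
  have hdim : topologicalKrullDim (CohB1.ProjSpace n k) ≤ n := (S10829.result k n).le
  have hXN : Coh.IsCoh (FlatMod.freeMod X N) :=
    QCoh.isCoh_iff_isFP.2 (QCoh.isFP_of_isFinLocFree (GenusOneSS.isFinLocFree_freeMod N))
  obtain ⟨B, hB⟩ := exists_bound k i N (fun t => ⌊P.eval (t : ℚ)⌋)
  obtain ⟨B₀, hB₀⟩ := exists_bound k i N (fun t => FGA.eulerCharLE k (CohB1.ProjSpace n k)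
    (CohB1.tensorMod ((Scheme.Modules.pushforward i).obj (FlatMod.freeMod X N)) (O k t)) n)
  refine ⟨(max B B₀ + n + 1).toNat, fun F q hF hq hP l hl => ?_⟩
  haveI := hq
  have hl' : max B B₀ + n + 1 ≤ (l : ℤ) := Int.toNat_le.1 hl
  have hG : Coh.IsCoh (kernel q) := QCoh.isCoh_kernel hXN hF q
  have hS : (ShortComplex.mk (kernel.ι q) q (kernel.condition q)).ShortExact :=
    { exact := ShortComplex.exact_of_f_is_kernel _ (kernelIsKernel q) }
  have hfree : ∀ t : ℤ, max B B₀ ≤ t → ∀ p : ℕ, Subsingleton (Coh.HH (CohB1.ProjSpace n k)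
      (CohB1.tensorMod ((Scheme.Modules.pushforward i).obj (FlatMod.freeMod X N)) (O k t)) (p + 1)) := fun t ht =>
    (hB₀ (FlatMod.freeMod X N) (𝟙 _) hXN inferInstance (fun _ => rfl) t ((le_max_right _ _).trans ht)).1
  have hboth : ∀ t : ℤ, max B B₀ ≤ t → _ := fun t ht =>
    hB F q hF hq (eulerCharLE_eq_hilb k i hi hL hF hP) t ((le_max_left _ _).trans ht)
  have hreg : Pic13.IsMRegular k i (kernel q) (max B B₀ + n) := fun j hj => by
    obtain ⟨p, rfl⟩ := Nat.exists_eq_add_of_le' hj
    refine (Pic13Regular.subsingleton_iff i hG _ _).2 ?_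
    rcases le_or_gt (p + 1) n with hp | hp
    · exact (hboth _ (by omega)).2 _ hS (Iso.refl _) (Iso.refl _) (by simp) (hfree _ (by omega)) p
    · exact Snapper.subsingleton_HH_of_dim_le hdim
        (AmpleVan.isCoh_tensor (Pic13Regular.isCoh_pushF i hG) (AmpleVan.isCoh_invertible (DualRange.isInvertible_pn _))).1 (by omega)
  have hiso : ∀ M : X.Modules, Nonempty (Pic13.twistOn k i M (l : ℤ) ≅ ShStab.twist X L M l) := fun M =>
    PicMul.cl_eq_iff.1 (cl_pow_tw k i hL M l)
  refine ⟨fun j hj => ?_, fun j hj => ?_, ?_⟩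
  · obtain ⟨p, rfl⟩ := Nat.exists_eq_add_of_le' hj
    exact QCoh.subsingleton_HH_of_iso (hiso F).some _
      ((Pic13Regular.subsingleton_iff i hF _ _).2 ((hboth (l : ℤ) (by omega)).1 p))
  · exact QCoh.subsingleton_HH_of_iso (hiso _).some _ (Pic13Regular.vanish i hG hreg j hj _ (by omega))
  · exact AmpleX.isGloballyGenerated_of_iso (hiso _).some
      (Pic13Regular.isGloballyGenerated_twistOn i hG (Pic13Regular.isMRegular_of_le i hG hreg (by omega)))

end Groth.Agent.QuotUniform
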