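import Groth.Agent.StratX.Sheaf
import Groth.Agent.FlatSyz5.FibreFree
import Groth.Agent.QCoh.FlatOver
import Mathlib

/-!
# The locus of the base over which a flat module is locally free of given rank
-/

set_option autoImplicit false
set_option linter.style.haveILetI false
set_option backward.isDefEq.respectTransparency false
set_option backward.isDefEq.respectTransparency.types false

universe u

open CategoryTheory CategoryTheory.Limits AlgebraicGeometry TopologicalSpace Opposite
open scoped TensorProduct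
open TensorProduct

namespace Groth.Agent.RankOpenBase

open Groth.Agent.QCoh

section ring

variable {A B M : Type u} [CommRing A] [CommRing B] [IsLocalRing B] [Algebra A B]
  [AddCommGroup M] [Module B M] [Module A M] [IsScalarTower A B M]

/-- A ring receiving compatibly two algebras over a field, faithfully flat over the first. -/
theorem exists_common {k : Type u} [Field k] (C L : Type u) [CommRing C] [Nontrivial C] [Algebra k C] [Field L]
    [Algebra k L] : ∃ (D : Type u) (_ : CommRing D) (_ : Algebra C D) (χ : L →+* D),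
      (∀ c, algebraMap C D (algebraMap k C c) = χ (algebraMap k L c)) ∧ Module.FaithfullyFlat C D ∧ Nontrivial D := by
  haveI hff : Module.FaithfullyFlat C (C ⊗[k] L) := inferInstance
  refine ⟨C ⊗[k] L, inferInstance, inferInstance,
    (Algebra.TensorProduct.includeRight : L →ₐ[k] C ⊗[k] L).toRingHom, fun c => ?_, hff, inferInstance⟩
  exact ((Algebra.TensorProduct.includeRight : L →ₐ[k] C ⊗[k] L).commutes c).symm

/-- A module over a local ring, flat over the base, which becomes locally free of rank `n` over every ring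
lying over a field point of the base below the closed point, is free of rank `n`. -/
theorem free_of_points [Module.FinitePresentation B M] [Module.Flat A M] (L : Type u) [Field L] (φ : A →+* L)
    (hker : RingHom.ker φ = (IsLocalRing.maximalIdeal B).comap (algebraMap A B)) (n : ℕ)
    (h : ∀ (D : Type u) [CommRing D] (ψ : B →+* D) (χ : L →+* D), ψ.comp (algebraMap A B) = χ.comp φ →
      letI := ψ.toAlgebra
      Module.Flat D (D ⊗[B] M) ∧ ∀ Q, Module.rankAtStalk (R := D) (D ⊗[B] M) Q = n) :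
    Module.Free B M ∧ Module.finrank B M = n := by
  let p : Ideal A := (IsLocalRing.maximalIdeal B).comap (algebraMap A B)
  haveI : p.IsPrime := inferInstance
  let J : Ideal B := p.map (algebraMap A B)
  have hJle : J ≤ IsLocalRing.maximalIdeal B := Ideal.map_comap_le
  have hJ : J ≠ ⊤ := fun e => (IsLocalRing.maximalIdeal.isMaximal B).ne_top (top_le_iff.1 (e.ge.trans hJle))
  let B'' := B ⧸ J
  haveI : Nontrivial B'' := Ideal.Quotient.nontrivial_iff.2 hJ
  haveI : IsLocalRing B'' := IsLocalRing.of_surjective' (Ideal.Quotient.mk J) Ideal.Quotient.mk_surjective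
  letI algL : Algebra A L := φ.toAlgebra
  let κ₀ : p.ResidueField →ₐ[A] B'' := Ideal.ResidueField.liftₐ p (Algebra.ofId A B'')
    (fun a ha => by
      show algebraMap A B'' a = 0
      rw [IsScalarTower.algebraMap_apply A B B'', Ideal.Quotient.algebraMap_eq, Ideal.Quotient.eq_zero_iff_mem]
      exact Ideal.mem_map_of_mem _ ha)
    (fun a ha => by
      show IsUnit (algebraMap A B'' a)
      rw [IsScalarTower.algebraMap_apply A B B'']
      exact (IsLocalRing.notMem_maximalIdeal.1 ha).map _)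
  let l₀ : p.ResidueField →ₐ[A] L := Ideal.ResidueField.liftₐ p (Algebra.ofId A L)
    (fun a ha => RingHom.mem_ker.1 (hker.ge ha))
    (fun a ha => isUnit_iff_ne_zero.2 fun e => ha (hker.le (RingHom.mem_ker.2 e)))
  letI : Algebra p.ResidueField B'' := κ₀.toRingHom.toAlgebra
  letI : Algebra p.ResidueField L := l₀.toRingHom.toAlgebra
  obtain ⟨D, _, _, χ, hD, hff, hnt⟩ := exists_common (k := p.ResidueField) B'' L
  let ψ : B →+* D := (algebraMap B'' D).comp (Ideal.Quotient.mk J)
  have hcomp : ψ.comp (algebraMap A B) = χ.comp φ := by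
    ext a
    have h1 : Ideal.Quotient.mk J (algebraMap A B a) =
        algebraMap p.ResidueField B'' (algebraMap A p.ResidueField a) := (κ₀.commutes a).symm
    have h2 : φ a = algebraMap p.ResidueField L (algebraMap A p.ResidueField a) := (l₀.commutes a).symm
    show algebraMap B'' D (Ideal.Quotient.mk J (algebraMap A B a)) = χ (φ a)
    rw [h1, h2]
    exact hD _
  letI : Algebra B D := ψ.toAlgebra
  haveI : IsScalarTower B B'' D := IsScalarTower.of_algebraMap_eq fun _ => rfl
  obtain ⟨hflat, hrank⟩ := h D ψ χ hcomp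
  haveI : Module.Flat D (D ⊗[B] M) := hflat
  haveI : Module.Flat D (D ⊗[B''] (B'' ⊗[B] M)) :=
    Module.Flat.of_linearEquiv (AlgebraTensorModule.cancelBaseChange B B'' D D M)
  haveI : Module.Flat B'' (B'' ⊗[B] M) := Module.Flat.of_flat_tensorProduct B'' (B'' ⊗[B] M) D
  haveI : Module.Finite B'' (B'' ⊗[B] M) := Module.Finite.base_change B B'' M
  haveI : Module.Free B M := FlatSyz5.free_of_fibre p hJ Module.free_of_flat_of_isLocalRing
  obtain ⟨Q⟩ : Nonempty (PrimeSpectrum D) := inferInstance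
  refine ⟨inferInstance, ?_⟩
  have e := hrank Q
  rw [Module.rankAtStalk_baseChange, Module.rankAtStalk_eq_finrank_of_free] at e
  exact e

end ring

variable {XT T : Scheme.{u}}

/-- The open set on which `E` is free of rank `n`. -/
def freeLocus (E : XT.Modules) (n : ℕ) : XT.Opens where
  carrier := {x | ∃ U : XT.Opens, x ∈ U ∧ Nonempty (E.restrict U.ι ≅ FlatMod.freeMod (U : Scheme.{u}) n)}
  is_open' := isOpen_iff_forall_mem_open.2 fun x ⟨U, hx, e⟩ => ⟨U, fun y hy => ⟨U, hy, e⟩, U.2, hx⟩

theorem mem_freeLocus_of_pullback {XB T' : Scheme.{u}} (q : XT ⟶ T) (g : XB ⟶ XT) (qb : XB ⟶ T') (b : T' ⟶ T)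
    (hpb : IsPullback g qb q b) (E : XT.Modules) (hflat : FlatMod.IsFlatOver q E) (hfp : CohB1.IsFP E) (n : ℕ)
    (hr : FlatMod.IsFinLocFreeOfRank n ((Scheme.Modules.pullback g).obj E)) (z : XB) :
    g z ∈ freeLocus E n := by
  have hM := isQCoh_of_isFP hfp
  let x := g z
  let t := qb z
  have hxt : q x = b t := congrArg (fun m => m.base z) hpb.w
  obtain ⟨_, ⟨V, hV, rfl⟩, hxV, -⟩ :=
    T.isBasis_affineOpens.exists_subset_of_mem_open (Set.mem_univ (q x)) isOpen_univ
  obtain ⟨_, ⟨U, hU, rfl⟩, hxU, hle⟩ :=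
    XT.isBasis_affineOpens.exists_subset_of_mem_open (show x ∈ q ⁻¹ᵁ V from hxV) (q ⁻¹ᵁ V).2
  have hV' : IsAffineOpen V := hV
  have hU' : IsAffineOpen U := hU
  let P := hU'.primeIdealOf ⟨x, hxU⟩
  let a := q.appLE V U hle
  -- the field point
  let L := T'.residueField t
  have hrg : Set.range (T'.fromSpecResidueField t ≫ b) ⊆ Set.range hV'.fromSpec := by
    rintro _ ⟨w, rfl⟩
    rw [IsAffineOpen.range_fromSpec, Scheme.Hom.comp_apply, Scheme.fromSpecResidueField_apply, ← hxt]
    exact hxV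
  let φ : Γ(T, V) ⟶ L := Spec.preimage (IsOpenImmersion.lift hV'.fromSpec (T'.fromSpecResidueField t ≫ b) hrg)
  have hφ : Spec.map φ ≫ hV'.fromSpec = T'.fromSpecResidueField t ≫ b := by
    rw [Spec.map_preimage, IsOpenImmersion.lift_fac]
  have hker : RingHom.ker φ.hom = P.asIdeal.comap a.hom := by
    obtain ⟨w⟩ : Nonempty (Spec L) := inferInstance
    have hP : hU'.fromSpec P = x := hU'.fromSpec_primeIdealOf ⟨x, hxU⟩
    have h1 : Spec.map φ w = Spec.map a P := hV'.fromSpec.isOpenEmbedding.injective (by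
      rw [← Scheme.Hom.comp_apply, hφ, ← Scheme.Hom.comp_apply, IsAffineOpen.SpecMap_appLE_fromSpec q hV' hU' hle,
        Scheme.Hom.comp_apply, Scheme.Hom.comp_apply, Scheme.fromSpecResidueField_apply, hP]
      exact hxt.symm)
    have hw : w.asIdeal = ⊥ := (Ideal.eq_bot_or_top w.asIdeal).resolve_right w.2.ne_top
    refine Eq.trans ?_ (congrArg PrimeSpectrum.asIdeal h1)
    ext r
    show φ.hom r = 0 ↔ φ.hom r ∈ w.asIdeal
    rw [hw, Ideal.mem_bot]
  -- the module
  let N := E.restrict hU'.fromSpec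
  haveI : IsIso N.fromTildeΓ := (isQuasicoherent_iff_isIso_fromTildeΓ N).1 (isQCoh_restrict hU'.fromSpec hM)
  let M := moduleSpecΓFunctor.obj N
  haveI := finitePresentation_of_isFP hfp hU'
  let ce : M ≃ₗ[Γ(XT, U)] Γ(E, U) := (chartEquiv hU' E).symm
  haveI : Module.FinitePresentation Γ(XT, U) M := Module.FinitePresentation.of_equiv ce.symm
  letI : Algebra Γ(T, V) Γ(XT, U) := a.hom.toAlgebra
  letI : Module Γ(T, V) Γ(E, U) := Module.compHom _ a.hom
  haveI : IsScalarTower Γ(T, V) Γ(XT, U) Γ(E, U) := IsScalarTower.of_algebraMap_smul fun _ _ => rfl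
  haveI : Module.Flat Γ(T, V) Γ(E, U) := (flat_appLE_iff q hM hU' hV' hle).2 fun y _ => hflat y
  letI := stalkAlg (X := XT) hxU
  letI := stalkModule E hxU
  haveI := isScalarTower_stalk E hxU
  haveI := isLocalization_stalk' hU' hxU
  haveI hloc := isLocalizedModule_germLin hM hU' hxU
  letI : Algebra Γ(T, V) (XT.presheaf.stalk x) :=
    ((algebraMap Γ(XT, U) (XT.presheaf.stalk x)).comp a.hom).toAlgebra
  letI : Module Γ(T, V) (E.presheaf.stalk x) :=
    Module.compHom _ ((algebraMap Γ(XT, U) (XT.presheaf.stalk x)).comp a.hom)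
  haveI : IsScalarTower Γ(T, V) Γ(XT, U) (E.presheaf.stalk x) := IsScalarTower.of_algebraMap_smul fun r m =>
    (algebraMap_smul (XT.presheaf.stalk x) (a.hom r) m).symm
  haveI : IsScalarTower Γ(T, V) (XT.presheaf.stalk x) (E.presheaf.stalk x) :=
    IsScalarTower.of_algebraMap_smul fun _ _ => rfl
  haveI : Module.Flat Γ(T, V) (E.presheaf.stalk x) := flat_base_of_isLocalizedModule P.asIdeal.primeCompl (germLin E hxU)
  have hbc : IsBaseChange (XT.presheaf.stalk x) (germLin E hxU) :=
    IsLocalizedModule.isBaseChange P.asIdeal.primeCompl (XT.presheaf.stalk x) (germLin E hxU)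
  haveI : Module.FinitePresentation (XT.presheaf.stalk x) (E.presheaf.stalk x) := Module.FinitePresentation.of_equiv hbc.equiv
  have hker' : RingHom.ker φ.hom = (IsLocalRing.maximalIdeal (XT.presheaf.stalk x)).comap (algebraMap Γ(T, V) (XT.presheaf.stalk x)) := by
    rw [hker]
    exact congrArg (Ideal.comap a.hom)
      (IsLocalization.AtPrime.under_maximalIdeal (XT.presheaf.stalk x) P.asIdeal).symm
  obtain ⟨hfree, hn⟩ := free_of_points (A := Γ(T, V)) (B := (XT.presheaf.stalk x)) (M := (E.presheaf.stalk x)) L φ.hom hker' n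
    fun D _ ψ χ hcomp => by
      letI := ψ.toAlgebra
      let ψ' : Γ(XT, U) ⟶ CommRingCat.of D := CommRingCat.ofHom (ψ.comp (algebraMap Γ(XT, U) (XT.presheaf.stalk x)))
      let χ' : L ⟶ CommRingCat.of D := CommRingCat.ofHom χ
      have hw' : a ≫ ψ' = φ ≫ χ' := CommRingCat.hom_ext hcomp
      let l : Spec (CommRingCat.of D) ⟶ XB := hpb.lift (Spec.map ψ' ≫ hU'.fromSpec)
        (Spec.map χ' ≫ T'.fromSpecResidueField t) (by
          rw [Category.assoc, ← IsAffineOpen.SpecMap_appLE_fromSpec q hV' hU' hle, ← Category.assoc, ← Spec.map_comp,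
            hw', Spec.map_comp, Category.assoc, hφ, Category.assoc])
      let M' : ModuleCat.{u} (CommRingCat.of D) := (ModuleCat.extendScalars.{_, _, u} ψ'.hom).obj M
      have e : (Scheme.Modules.pullback l).obj ((Scheme.Modules.pullback g).obj E) ≅ tilde M' :=
        (Scheme.Modules.pullbackComp l g).app E ≪≫
          (Scheme.Modules.pullbackCongr (hpb.lift_fst _ _ _)).app E ≪≫
          ((Scheme.Modules.pullbackComp (Spec.map ψ') hU'.fromSpec).app E).symm ≪≫
          (Scheme.Modules.pullback (Spec.map ψ')).mapIso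
            (((Scheme.Modules.restrictFunctorIsoPullback hU'.fromSpec).app E).symm ≪≫ (asIso N.fromTildeΓ).symm) ≪≫
          (tildePullbackIso ψ').app M
      obtain ⟨hfin, hproj, hrk⟩ := (ConsPropLib.isFinLocFreeOfRank_tilde_iff M' n).1
        ((ConsPropLib.isFinLocFreeOfRank_iso e).1 (TFOneX.isFinLocFreeOfRank_pullback l hr))
      letI : Algebra Γ(XT, U) D := ψ'.hom.toAlgebra
      haveI : IsScalarTower Γ(XT, U) (XT.presheaf.stalk x) D := IsScalarTower.of_algebraMap_eq fun _ => rfl
      have hfin' : Module.Finite D (D ⊗[Γ(XT, U)] M) := hfin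
      have hproj' : Module.Projective D (D ⊗[Γ(XT, U)] M) := hproj
      have hrk' : ∀ Q, Module.rankAtStalk (R := D) (D ⊗[Γ(XT, U)] M) Q = n := hrk
      let E1 : D ⊗[Γ(XT, U)] M ≃ₗ[D] D ⊗[(XT.presheaf.stalk x)] (E.presheaf.stalk x) :=
        ((ce.baseChange Γ(XT, U) D _ _).trans
          (AlgebraTensorModule.cancelBaseChange Γ(XT, U) (XT.presheaf.stalk x) D D Γ(E, U)).symm).trans
          (hbc.equiv.baseChange (XT.presheaf.stalk x) D _ _)
      haveI : Module.Flat D (D ⊗[Γ(XT, U)] M) := @Module.Flat.of_projective _ _ _ _ _ hproj'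
      refine ⟨Module.Flat.of_linearEquiv E1.symm, fun Q => ?_⟩
      rw [← Module.rankAtStalk_eq_of_equiv E1]
      exact hrk' Q
  haveI := hfree
  obtain ⟨U₁, m, hx₁, ⟨e₁⟩⟩ := exists_free_nhd_of_free_stalk hfp x
  obtain ⟨_, ⟨W, hW, rfl⟩, hxW, hle₁⟩ :=
    XT.isBasis_affineOpens.exists_subset_of_mem_open (show x ∈ U₁ from hx₁) U₁.2
  obtain ⟨l₁⟩ := free_sections hW hle₁ e₁
  obtain rfl : m = n := (finrank_stalk_of_freeChart hW hM l₁ hxW).symm.trans hn
  exact ⟨U₁, hx₁, ⟨e₁⟩⟩

/-- Over the points of the base above which `E` is free of rank `n` everywhere, the pullback has rank `n`. -/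
theorem isFinLocFreeOfRank_of_range_subset {XB : Scheme.{u}} (g : XB ⟶ XT) (E : XT.Modules) (n : ℕ)
    (h : Set.range g ⊆ (freeLocus E n : Set XT)) :
    FlatMod.IsFinLocFreeOfRank n ((Scheme.Modules.pullback g).obj E) := by
  let W := freeLocus E n
  have hW : FlatMod.IsFinLocFreeOfRank n ((Scheme.Modules.pullback W.ι).obj E) := by
    refine (ConsPropLib.isFinLocFreeOfRank_iso ((Scheme.Modules.restrictFunctorIsoPullback W.ι).app E)).1 ?_
    intro w
    obtain ⟨U, hwU, ⟨e⟩⟩ : W.ι w ∈ freeLocus E n := w.2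
    obtain ⟨e'⟩ : Nonempty (((E.restrict W.ι).restrict (W.ι ⁻¹ᵁ U).ι) ≅ FlatMod.freeMod _ n) :=
      ⟨restrictRestrict E _ W.ι ≪≫
        (Scheme.Modules.restrictFunctorCongr (morphismRestrict_ι W.ι U).symm).app E ≪≫
        (restrictRestrict E _ U.ι).symm ≪≫ (Scheme.Modules.restrictFunctor _).mapIso e ≪≫ freeModRestrict _ n⟩
    exact ⟨W.ι ⁻¹ᵁ U, hwU, ⟨e'⟩⟩
  let l : XB ⟶ (W : Scheme.{u}) := IsOpenImmersion.lift W.ι g (by rwa [Scheme.Opens.range_ι])
  refine (ConsPropLib.isFinLocFreeOfRank_iso ?_).1 (TFOneX.isFinLocFreeOfRank_pullback l hW)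
  exact (Scheme.Modules.pullbackComp l W.ι).app E ≪≫
    (Scheme.Modules.pullbackCongr (IsOpenImmersion.lift_fac W.ι g _)).app E

/-- For a closed structure map, the pullback along a base change has rank `n` exactly over the open locus. -/
theorem exists_open_of_isClosedMap (q : XT ⟶ T) (hq : IsClosedMap q.base) (E : XT.Modules)
    (hflat : FlatMod.IsFlatOver q E) (hfp : CohB1.IsFP E) (n : ℕ) :
    ∃ V : T.Opens, ∀ {XB T' : Scheme.{u}} (g : XB ⟶ XT) (qb : XB ⟶ T') (b : T' ⟶ T), IsPullback g qb q b →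
      (FlatMod.IsFinLocFreeOfRank n ((Scheme.Modules.pullback g).obj E) ↔ Set.range b ⊆ (V : Set T)) := by
  refine ⟨⟨(q.base '' (freeLocus E n : Set XT)ᶜ)ᶜ, (hq _ (freeLocus E n).2.isClosed_compl).isOpen_compl⟩,
    fun {XB T'} g qb b hpb => ⟨fun hr => ?_, fun h => isFinLocFreeOfRank_of_range_subset g E n ?_⟩⟩
  · rintro _ ⟨t, rfl⟩ ⟨x, hx, hxt⟩
    obtain ⟨w, hw, -⟩ := Scheme.Pullback.exists_preimage_pullback (f := q) (g := b) x t hxt
    refine hx ?_
    have : g (hpb.isoPullback.inv w) = x := by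
      rw [← Scheme.Hom.comp_apply, hpb.isoPullback_inv_fst]
      exact hw
    exact this ▸ mem_freeLocus_of_pullback q g qb b hpb E hflat hfp n hr _
  · rintro _ ⟨z, rfl⟩
    by_contra hc
    exact h ⟨qb z, rfl⟩ ⟨g z, hc, congrArg (fun m => m.base z) hpb.w⟩

end Groth.Agent.RankOpenBase
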