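import Groth.Agent.Lib.RegEpiPn
import Groth.Agent.Lib.PnDualTwist
import Groth.Agent.PnCoh.Finite.SerreVanishing

/-!
Vanishing of the cohomology of a module on projective space whose quotient by a twist is regular.
-/

set_option linter.style.haveILetI false
set_option linter.unusedSectionVars false
set_option backward.isDefEq.respectTransparency false
set_option backward.isDefEq.respectTransparency.types false
set_option maxHeartbeats 1000000

universe u

open CategoryTheory CategoryTheory.Limits AlgebraicGeometry TopologicalSpace Opposite MonoidalCategory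
open CategoryTheory.Abelian
open Groth.Agent.PnCoh Groth.Agent.PnCoh.Finite Groth.Agent.KFlatLib

noncomputable section

namespace Groth.Agent.RegDescent

section General

variable {k : Type u} [Field k] {X : Scheme.{u}} [X.Over (Spec (CommRingCat.of k))]

/-- An isomorphism induces a linear equivalence on cohomology. -/
def HHequiv {M N : X.Modules} (e : M ≅ N) (q : ℕ) : Coh.HH X M q ≃ₗ[k] Coh.HH X N q :=
  LinearEquiv.ofBijective (Canon.HHlin k e.hom q) ⟨fun x y h => by
      have h' := congrArg (Canon.HHlin k e.inv q) h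
      rwa [PnDual.HHlin_comp, PnDual.HHlin_comp, e.hom_inv_id, PnDual.HHlin_id,
        PnDual.HHlin_id] at h',
    fun y => ⟨Canon.HHlin k e.inv q y, by
      rw [PnDual.HHlin_comp, e.inv_hom_id, PnDual.HHlin_id]⟩⟩

theorem H_map_f_surjective {Y : TopCat.{u}} {T : ShortComplex (CohTop.Ab Y)} (hT : T.ShortExact) (q : ℕ)
    (h : Subsingleton (CohTop.H T.X₃ q)) : Function.Surjective (Sheaf.H.map T.f q) := fun x =>
  Ext.covariant_sequence_exact₂ _ hT x (h.elim _ _)

variable {S : ShortComplex X.Modules} (hS : S.ShortExact)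

include hS in
theorem HHlin_f_surjective (q : ℕ) (h : Subsingleton (Coh.HH X S.X₃ q)) :
    Function.Surjective (Canon.HHlin k S.f q) :=
  H_map_f_surjective (Y := X.toPresheafedSpace.carrier) (T := S.map (QCoh.toAbFunctor X))
    (QCoh.toAb_shortExact hS) q h

include hS in
theorem HHlin_f_succ_injective (q : ℕ) (h : Subsingleton (Coh.HH X S.X₃ q)) :
    Function.Injective (Canon.HHlin k S.f (q + 1)) := by
  refine (injective_iff_map_eq_zero _).2 fun x hx => ?_
  obtain ⟨y, rfl⟩ := (PnDual.HHlin_f_eq_zero_iff (k := k) hS q x).1 hx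
  rw [h.elim y 0, map_zero]

omit [X.Over (Spec (CommRingCat.of k))] in
include hS in
/-- A section lifts if the connecting map kills it. -/
theorem g_app_surjective
    (h : ∀ y, QCoh.Ab.connecting (X := X.toPresheafedSpace.carrier) (QCoh.toAb_shortExact hS) 0 y = 0) :
    Function.Surjective (S.g.app ⊤) := by
  intro q
  obtain ⟨y, hy⟩ := (QCoh.Ab.connecting_eq_zero_iff (X := X.toPresheafedSpace.carrier)
    (QCoh.toAb_shortExact hS) 0 _).1 (h ((Sheaf.H.equiv₀ (S.map (QCoh.toAbFunctor X)).X₃ isTerminalTop).symm q))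
  refine ⟨Sheaf.H.equiv₀ (S.map (QCoh.toAbFunctor X)).X₂ isTerminalTop y, ?_⟩
  refine (Sheaf.H.equiv₀_naturality isTerminalTop (S.map (QCoh.toAbFunctor X)).g y).trans ?_
  rw [show Sheaf.H.map (S.map (QCoh.toAbFunctor X)).g 0 y = _ from hy]
  exact AddEquiv.apply_symm_apply _ _

include hS in
/-- Injectivity on the first cohomology group makes sections lift. -/
theorem g_app_surjective_of_injective (h : Function.Injective (Canon.HHlin k S.f 1)) :
    Function.Surjective (S.g.app ⊤) := by
  refine g_app_surjective hS fun y => ?_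
  exact h (((PnDual.HHlin_f_eq_zero_iff (k := k) hS 0 (deltaLin k hS 0 y)).2 ⟨y, rfl⟩).trans
    (map_zero (Canon.HHlin k S.f 1)).symm)

include hS in
/-- If sections lift, the first cohomology group injects. -/
theorem HHlin_f_one_injective (h : Function.Surjective (S.g.app ⊤)) :
    Function.Injective (Canon.HHlin k S.f 1) := by
  refine (injective_iff_map_eq_zero _).2 fun x hx => ?_
  obtain ⟨y, rfl⟩ := (PnDual.HHlin_f_eq_zero_iff (k := k) hS 0 x).1 hx
  let T := S.map (QCoh.toAbFunctor X)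
  obtain ⟨a, ha⟩ := h (Sheaf.H.equiv₀ T.X₃ isTerminalTop y)
  refine (QCoh.Ab.connecting_eq_zero_iff (X := X.toPresheafedSpace.carrier)
    (QCoh.toAb_shortExact hS) 0 y).2 ⟨(Sheaf.H.equiv₀ T.X₂ isTerminalTop).symm a, ?_⟩
  apply (Sheaf.H.equiv₀ T.X₃ isTerminalTop).injective
  refine ((Sheaf.H.equiv₀_naturality isTerminalTop T.g _).symm).trans ?_
  rw [AddEquiv.apply_symm_apply]
  exact ha

end General

section Twisted

variable {R A : Type u} [CommRing R] [CommRing A] [Algebra R A]
  {𝒜 : ℕ → Submodule R A} [GradedAlgebra 𝒜] {κ : Type u}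

/-- A twisted short complex. -/
def twSeq (S : ShortComplex (Proj 𝒜).Modules) (d : ℤ) : ShortComplex (Proj 𝒜).Modules :=
  haveI : (twistF (𝒜 := 𝒜) d).Additive := Functor.additive_of_preserves_binary_products _
  S.map (twistF d)

theorem twSeq_exact (g : κ → A) (hg : ∀ j, g j ∈ 𝒜 1) (hcov : ⨆ j, D 𝒜 (g j) = ⊤)
    {S : ShortComplex (Proj 𝒜).Modules} (hS : S.ShortExact) (d : ℤ) : (twSeq S d).ShortExact :=
  shortExact_twistBy g hg hcov d hS

open Groth.Agent.ProjRegular

/-- Left naturality of the tensor of sections. -/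
theorem twistF_map_app_tmul {P Q : (Proj 𝒜).Modules} (α : P ⟶ Q) (d : ℤ) (t : Γ(P, ⊤))
    (s : Γ(Twist.twist 𝒜 d, ⊤)) :
    ((twistF d).map α).app ⊤ (InvX.tmul t s) = InvX.tmul (α.app ⊤ t) s :=
  (congrArg (fun ψ : DCoh.toP.obj P ⊗ DCoh.toP.obj (Twist.twist 𝒜 d) ⟶
      DCoh.toP.obj ((twistF d).obj Q) => ψ.app (op ⊤) (tm t s))
    (unitShP_naturality (DCoh.toP.map α ▷ DCoh.toP.obj (Twist.twist 𝒜 d)))).symm

/-- A map onto on sections stays onto after a twist, when tensors span. -/
theorem surjective_twistF_map {P Q : (Proj 𝒜).Modules} (α : P ⟶ Q) (d : ℤ)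
    (hQ : ProjRegular.tensors Q d = ⊤) (h : Function.Surjective (α.app ⊤)) :
    Function.Surjective (((twistF d).map α).app ⊤) := by
  intro z
  have hz : (z : Γ(ProjRegular.tw Q d, ⊤)) ∈ ProjRegular.tensors Q d := by rw [hQ]; trivial
  induction hz using AddSubgroup.closure_induction with
  | mem y hy =>
    obtain ⟨⟨t, s⟩, rfl⟩ := hy
    obtain ⟨t', ht'⟩ := h t
    refine ⟨InvX.tmul t' s, ?_⟩
    rw [twistF_map_app_tmul, ht']
  | zero => exact ⟨0, map_zero _⟩
  | add a b _ _ ha hb =>
    obtain ⟨a', ha'⟩ := ha; obtain ⟨b', hb'⟩ := hb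
    exact ⟨a' + b', by rw [map_add, ha', hb']⟩
  | neg a _ ha =>
    obtain ⟨a', ha'⟩ := ha
    exact ⟨-a', by rw [map_neg, ha']⟩

/-- Transport along an isomorphism of functors. -/
theorem surjective_app_of_natIso {Φ Ψ : (Proj 𝒜).Modules ⥤ (Proj 𝒜).Modules} (e : Φ ≅ Ψ)
    {P Q : (Proj 𝒜).Modules} (α : P ⟶ Q) (h : Function.Surjective ((Φ.map α).app ⊤)) :
    Function.Surjective ((Ψ.map α).app ⊤) := by
  intro z
  obtain ⟨w, hw⟩ := h ((e.inv.app Q).app ⊤ z)
  refine ⟨(e.hom.app P).app ⊤ w, ?_⟩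
  have h1 := congrArg (fun χ => χ.app ⊤ w) (e.hom.naturality α)
  simp only [Scheme.Modules.Hom.comp_app, ConcreteCategory.comp_apply] at h1
  rw [← h1, hw]
  exact congrArg (fun χ => χ.app ⊤ z) (e.inv_hom_id_app Q)

/-- Twisting once more keeps a twisted map onto on sections. -/
theorem surjective_twistF_succ (g : κ → A) (hg : ∀ j, g j ∈ 𝒜 1) (hcov : ⨆ j, D 𝒜 (g j) = ⊤)
    {P Q : (Proj 𝒜).Modules} (α : P ⟶ Q) (j : ℤ)
    (hQ : ProjRegular.tensors ((twistF j).obj Q) 1 = ⊤)
    (h : Function.Surjective (((twistF j).map α).app ⊤)) :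
    Function.Surjective (((twistF (j + 1)).map α).app ⊤) := by
  obtain ⟨φ⟩ := twist_tensor_iso g hg hcov j 1
  exact surjective_app_of_natIso (PnDual.twistFCompIso j 1 (j + 1) φ) α
    (surjective_twistF_map ((twistF j).map α) 1 hQ h)

end Twisted

end Groth.Agent.RegDescent
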