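import Groth.Agent.QCoh.LocalExchange
import Groth.Agent.CohBCX.TFunShape
import Groth.Agent.EGA41Lib.RegSeqPow
import Mathlib.RingTheory.Regular.Category
import Mathlib.RingTheory.LocalRing.ResidueField.Basic

/-!
Complexes of flat modules with finite length homology over a ring with a regular sequence.
-/

set_option autoImplicit false
set_option linter.style.haveILetI false
set_option linter.unusedSectionVars false
set_option backward.isDefEq.respectTransparency false
set_option backward.isDefEq.respectTransparency.types false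
set_option maxHeartbeats 400000

universe u

open CategoryTheory CategoryTheory.Limits RingTheory.Sequence

noncomputable section

namespace Groth.Agent.RegLocalCx

open Groth.Agent

variable {R : Type u} [CommRing R] {P : ChainComplex (ModuleCat.{u} R) ℤ}

theorem map_smul_id (q : ℤ) (M : ModuleCat.{u} R) (a : R) (z : CohIII.T P q M) :
    ((CohIII.TFun P q).map (a • 𝟙 M)).hom z = a • z :=
  QCoh.tfun_map_smul q M a z

/-- Elements killing a module kill its image. -/
theorem smul_eq_zero_of_module {q : ℤ} {M : ModuleCat.{u} R} {a : R} (h : ∀ m : M, a • m = 0)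
    (z : CohIII.T P q M) : a • z = 0 := by
  rw [← map_smul_id q M a z, show a • 𝟙 M = 0 from ModuleCat.hom_ext (LinearMap.ext fun m => h m),
    Functor.map_zero]
  rfl

section LES

variable (hfl : ∀ i, Module.Flat R (P.X i)) {M : ModuleCat.{u} R} {r : R} (hr : IsSMulRegular M r)

include hfl hr

theorem exact_smul (q : ℤ) {z : CohIII.T P q M} (hz : ((CohIII.TFun P q).map (M.smulShortComplex r).g).hom z = 0) :
    ∃ w : CohIII.T P q M, r • w = z := by
  obtain ⟨w, hw⟩ := (ShortComplex.moduleCat_exact_iff _).1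
    ((FlatCxLib.shortExact_tensorSC hfl hr.smulShortComplex_shortExact).homology_exact₂ q) z hz
  refine ⟨w, ?_⟩
  rw [← map_smul_id q M r w]
  exact hw

/-- Vanishing of the next functor on the quotient makes `r` injective. -/
theorem smul_injective (q : ℤ) (h : Subsingleton (CohIII.T P (q + 1) (ModuleCat.of R (QuotSMulTop r M))))
    {z : CohIII.T P q M} (hz : r • z = 0) : z = 0 := by
  obtain ⟨w, hw⟩ := (ShortComplex.moduleCat_exact_iff _).1
    ((FlatCxLib.shortExact_tensorSC hfl hr.smulShortComplex_shortExact).homology_exact₁ (q + 1) q rfl) z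
    (by rw [← map_smul_id q M r z] at hz; exact hz)
  haveI := h
  rw [← hw, show w = 0 from @Subsingleton.elim _ h w 0]
  exact map_zero _

/-- The connecting map lands in the part killed by `r`. -/
theorem smul_delta (q : ℤ) (z : CohIII.T P (q + 1) (ModuleCat.of R (QuotSMulTop r M))) :
    r • (((FlatCxLib.shortExact_tensorSC hfl hr.smulShortComplex_shortExact).δ (q + 1) q rfl).hom z) = 0 := by
  rw [← map_smul_id]
  exact ConcreteCategory.congr_hom
    ((FlatCxLib.shortExact_tensorSC hfl hr.smulShortComplex_shortExact).δ_comp (q + 1) q rfl) z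

theorem exact_delta (q : ℤ) {z : CohIII.T P (q + 1) (ModuleCat.of R (QuotSMulTop r M))}
    (hz : ((FlatCxLib.shortExact_tensorSC hfl hr.smulShortComplex_shortExact).δ (q + 1) q rfl).hom z = 0) :
    ∃ w : CohIII.T P (q + 1) M, ((CohIII.TFun P (q + 1)).map (M.smulShortComplex r).g).hom w = z :=
  (ShortComplex.moduleCat_exact_iff _).1
    ((FlatCxLib.shortExact_tensorSC hfl hr.smulShortComplex_shortExact).homology_exact₃ (q + 1) q rfl) z hz

theorem exists_delta (q : ℤ) {z : CohIII.T P q M} (hz : r • z = 0) :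
    ∃ w, ((FlatCxLib.shortExact_tensorSC hfl hr.smulShortComplex_shortExact).δ (q + 1) q rfl).hom w = z :=
  (ShortComplex.moduleCat_exact_iff _).1
    ((FlatCxLib.shortExact_tensorSC hfl hr.smulShortComplex_shortExact).homology_exact₁ (q + 1) q rfl) z
    (by rw [← map_smul_id q M r z] at hz; exact hz)

/-- Torsion passes to the quotient. -/
theorem torsion_quot (I : Ideal R) (h : ∀ (q : ℤ), ∀ a ∈ I, ∀ z : CohIII.T P q M, ∃ n : ℕ, a ^ n • z = 0)
    (q : ℤ) (a : R) (ha : a ∈ I) (z : CohIII.T P q (ModuleCat.of R (QuotSMulTop r M))) :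
    ∃ n : ℕ, a ^ n • z = 0 := by
  obtain ⟨q, rfl⟩ : ∃ q' : ℤ, q' + 1 = q := ⟨q - 1, by omega⟩
  obtain ⟨n, hn⟩ := h q a ha (((FlatCxLib.shortExact_tensorSC hfl hr.smulShortComplex_shortExact).δ (q + 1) q rfl).hom z)
  obtain ⟨w, hw⟩ := exact_delta hfl hr q (z := a ^ n • z) (by rw [map_smul, hn])
  obtain ⟨m, hm⟩ := h (q + 1) a ha w
  refine ⟨m + n, ?_⟩
  rw [pow_add, SemigroupAction.mul_smul, ← hw]
  exact ((((CohIII.TFun P (q + 1)).map (M.smulShortComplex r).g).hom.map_smul (a ^ m) w).symm.trans
    (congrArg _ hm)).trans (map_zero _)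

end LES

variable (hfl : ∀ i, Module.Flat R (P.X i))
include hfl

/-- Torsion homology functors vanish in degrees within the length of a regular sequence. -/
theorem vanish (h0 : ∀ q : ℤ, 0 < q → ∀ M : ModuleCat.{u} R, IsZero (CohIII.T P q M)) :
    ∀ (l : List R) (M : ModuleCat.{u} R), IsWeaklyRegular M l →
      (∀ q : ℤ, ∀ a ∈ Ideal.ofList l, ∀ z : CohIII.T P q M, ∃ n : ℕ, a ^ n • z = 0) →
      ∀ q : ℤ, -(l.length : ℤ) < q → Subsingleton (CohIII.T P q M)
  | [], M, _, _, q, hq => ModuleCat.subsingleton_of_isZero (h0 q (by simpa using hq) M)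
  | r :: l, M, hreg, htor, q, hq => by
    rw [isWeaklyRegular_cons_iff] at hreg
    have ih := vanish h0 l (ModuleCat.of R (QuotSMulTop r M)) hreg.2
      (fun q a ha z => torsion_quot hfl hreg.1 (Ideal.ofList (r :: l)) htor q a
        (by rw [Ideal.ofList_cons]; exact Ideal.mem_sup_right ha) z) (q + 1)
      (by simp only [List.length_cons] at hq; push_cast at hq; omega)
    refine subsingleton_of_forall_eq 0 fun z => ?_
    obtain ⟨n, hn⟩ := htor q r (by rw [Ideal.ofList_cons]; exact Ideal.mem_sup_left (Ideal.mem_span_singleton_self r)) z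
    induction n with
    | zero => rwa [pow_zero, one_smul] at hn
    | succ n ihn => exact ihn (smul_injective hfl hreg.1 q ih (by rwa [pow_succ', SemigroupAction.mul_smul] at hn))

/-- The lowest functor is a value of `T_0` when the sequence kills it. -/
theorem nonempty_equiv_T0 (h0 : ∀ q : ℤ, 0 < q → ∀ M : ModuleCat.{u} R, IsZero (CohIII.T P q M)) :
    ∀ (l : List R) (M : ModuleCat.{u} R), IsWeaklyRegular M l →
      (∀ q : ℤ, ∀ a ∈ Ideal.ofList l, ∀ z : CohIII.T P q M, ∃ n : ℕ, a ^ n • z = 0) →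
      (∀ a ∈ l, ∀ z : CohIII.T P (-(l.length : ℤ)) M, a • z = 0) →
      Nonempty (CohIII.T P (-(l.length : ℤ)) M ≃ₗ[R]
        CohIII.T P 0 (ModuleCat.of R (M ⧸ (Ideal.ofList l • ⊤ : Submodule R M))))
  | [], M, _, _, _ => by
    rw [show -((([] : List R).length : ℕ) : ℤ) = 0 from rfl]
    exact ⟨((CohIII.TFun P 0).mapIso (LinearEquiv.toModuleIso (Submodule.quotEquivOfEqBot _
      (by rw [Ideal.ofList_nil, Submodule.bot_smul])).symm)).toLinearEquiv⟩
  | r :: l, M, hreg, htor, hkill => by
    rw [isWeaklyRegular_cons_iff] at hreg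
    have htor' : ∀ q : ℤ, ∀ a ∈ Ideal.ofList l, ∀ z : CohIII.T P q (ModuleCat.of R (QuotSMulTop r M)),
        ∃ n : ℕ, a ^ n • z = 0 := fun q a ha z => torsion_quot hfl hreg.1 (Ideal.ofList (r :: l)) htor q a
      (by rw [Ideal.ofList_cons]; exact Ideal.mem_sup_right ha) z
    have hlen : -(((r :: l).length : ℕ) : ℤ) + 1 = -(l.length : ℤ) := by
      simp only [List.length_cons]; push_cast; omega
    let δ := ((FlatCxLib.shortExact_tensorSC hfl hreg.1.smulShortComplex_shortExact).δ
      (-(((r :: l).length : ℕ) : ℤ) + 1) (-(((r :: l).length : ℕ) : ℤ)) rfl).hom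
    have hsub : Subsingleton (CohIII.T P (-(((r :: l).length : ℕ) : ℤ) + 1) M) :=
      vanish hfl h0 (r :: l) M (IsWeaklyRegular.cons hreg.1 hreg.2) htor _ (by omega)
    have hbij : Function.Bijective δ := by
      refine ⟨(injective_iff_map_eq_zero δ).2 fun z hz => ?_, fun z => exists_delta hfl hreg.1 _ (hkill r (by simp) z)⟩
      obtain ⟨w, hw⟩ := exact_delta hfl hreg.1 _ hz
      rw [← hw, Subsingleton.elim w 0, map_zero]
    have hcast : Nonempty (CohIII.T P (-(((r :: l).length : ℕ) : ℤ)) M ≃ₗ[R]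
        CohIII.T P (-(l.length : ℤ)) (ModuleCat.of R (QuotSMulTop r M))) := by
      rw [← hlen]
      exact ⟨(LinearEquiv.ofBijective δ hbij).symm⟩
    obtain ⟨e₁⟩ := hcast
    obtain ⟨e₂⟩ := nonempty_equiv_T0 h0 l (ModuleCat.of R (QuotSMulTop r M)) hreg.2 htor' fun a ha z => by
      have := hkill a (List.mem_cons_of_mem r ha) (e₁.symm z)
      rw [← map_smul] at this
      exact (map_eq_zero_iff e₁.symm e₁.symm.injective).1 this
    exact ⟨e₁.trans (e₂.trans ((CohIII.TFun P 0).mapIso
      (LinearEquiv.toModuleIso (Submodule.quotOfListConsSMulTopEquivQuotSMulTopInner M r l).symm)).toLinearEquiv)⟩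

/-- An element killing the homology of a bounded below complex of projectives kills all the functors. -/
theorem smul_eq_zero_of_homology (hproj : ∀ i, Module.Projective R (P.X i)) {c : ℤ}
    (hbdd : ∀ i, i < c → IsZero (P.X i)) {b : ℤ} (hhom : ∀ q, q ≠ b → IsZero (P.homology q)) {a : R}
    (ha : ∀ z : P.homology b, a • z = 0) (q : ℤ) (M : ModuleCat.{u} R) (z : CohIII.T P q M) : a • z = 0 := by
  -- a local contraction below the non-zero degree
  have hexact : ∀ q, q ≠ b → LinearMap.ker (P.d q (q - 1)).hom ≤ LinearMap.range (P.d (q + 1) q).hom :=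
    fun q hq x hx => (FlatCxLib.isZero_homology_iff (FlatCxLib.prev_down rfl) (FlatCxLib.next_down (by omega))).1
      (hhom q hq) x hx
  have step : ∀ (q : ℤ) (φ : P.X q →ₗ[R] P.X q), LinearMap.range φ ≤ LinearMap.range (P.d (q + 1) q).hom →
      ∃ k : P.X q →ₗ[R] P.X (q + 1), (P.d (q + 1) q).hom ∘ₗ k = φ := by
    intro q φ hφ
    haveI := hproj q
    obtain ⟨k, hk⟩ := Module.projective_lifting_property (P.d (q + 1) q).hom.rangeRestrict
      (φ.codRestrict _ fun x => hφ ⟨x, rfl⟩) (LinearMap.surjective_rangeRestrict _)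
    exact ⟨k, LinearMap.ext fun x => congrArg Subtype.val (LinearMap.congr_fun hk x)⟩
  have split : ∀ q, q < b → ∃ (h1 : P.X (q - 1) →ₗ[R] P.X q) (h2 : P.X q →ₗ[R] P.X (q + 1)),
      LinearMap.id = h1 ∘ₗ (P.d q (q - 1)).hom + (P.d (q + 1) q).hom ∘ₗ h2 := by
    intro q
    obtain ⟨n, hn⟩ : ∃ n : ℕ, q < c + n := ⟨(q - c + 1).toNat, by omega⟩
    induction n generalizing q with
    | zero =>
      intro _
      haveI := ModuleCat.subsingleton_of_isZero (hbdd q (by omega))
      exact ⟨0, 0, LinearMap.ext fun x => Subsingleton.elim _ _⟩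
    | succ n ih =>
      intro hq
      obtain ⟨q, rfl⟩ : ∃ q' : ℤ, q' + 1 = q := ⟨q - 1, by omega⟩
      obtain ⟨h1, h2, hh⟩ := ih q (by omega) (by omega)
      rw [show (q + 1 : ℤ) - 1 = q by omega]
      obtain ⟨k, hk⟩ := step (q + 1) (LinearMap.id - h2 ∘ₗ (P.d (q + 1) q).hom) (by
        rintro _ ⟨x, rfl⟩
        refine hexact (q + 1) (by omega) ?_
        rw [LinearMap.mem_ker, show (q + 1 : ℤ) - 1 = q by omega]
        have e := LinearMap.congr_fun hh ((P.d (q + 1) q).hom x)
        simp only [LinearMap.sub_apply, LinearMap.id_apply, LinearMap.comp_apply, LinearMap.add_apply] at e ⊢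
        rw [← LinearMap.comp_apply (P.d q (q - 1)).hom, ← ModuleCat.hom_comp, HomologicalComplex.d_comp_d] at e
        rw [map_sub, sub_eq_zero]
        simpa using e)
      exact ⟨h2, k, by rw [hk]; abel⟩
  have main : ∀ q, ∃ (h1 : P.X (q - 1) →ₗ[R] P.X q) (h2 : P.X q →ₗ[R] P.X (q + 1)),
      a • LinearMap.id = h1 ∘ₗ (P.d q (q - 1)).hom + (P.d (q + 1) q).hom ∘ₗ h2 := by
    intro q
    obtain ⟨n, hn⟩ : ∃ n : ℕ, q < b + n := ⟨(q - b + 1).toNat, by omega⟩
    induction n generalizing q with
    | zero =>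
      obtain ⟨h1, h2, hh⟩ := split q (by omega)
      exact ⟨a • h1, a • h2, by rw [hh, smul_add, LinearMap.smul_comp, LinearMap.comp_smul]⟩
    | succ n ih =>
      by_cases hlt : q < b + n
      · exact ih q hlt
      obtain ⟨q, rfl⟩ : ∃ q' : ℤ, q' + 1 = q := ⟨q - 1, by omega⟩
      rw [show (q + 1 : ℤ) - 1 = q by omega]
      by_cases hb : q + 1 = b
      · obtain ⟨h1, h2, hh⟩ := split q (by omega)
        obtain ⟨k, hk⟩ := step (q + 1) (a • (LinearMap.id - h2 ∘ₗ (P.d (q + 1) q).hom)) (by
          rintro _ ⟨x, rfl⟩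
          let y := ((LinearMap.id : P.X (q + 1) →ₗ[R] P.X (q + 1)) - h2 ∘ₗ (P.d (q + 1) q).hom) x
          have hy : (P.d (q + 1) q).hom y = 0 := by
            have e := LinearMap.congr_fun hh ((P.d (q + 1) q).hom x)
            simp only [LinearMap.id_apply, LinearMap.comp_apply, LinearMap.add_apply] at e
            rw [← LinearMap.comp_apply (P.d q (q - 1)).hom, ← ModuleCat.hom_comp,
              HomologicalComplex.d_comp_d] at e
            simp only [y, LinearMap.sub_apply, LinearMap.id_apply, LinearMap.comp_apply]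
            rw [map_sub, sub_eq_zero]
            simpa using e
          subst hb
          refine (FlatCxLib.cls_eq_zero_iff (K := P) (FlatCxLib.prev_down rfl) (FlatCxLib.next_down rfl) _
            (show (P.d (q + 1) q).hom (a • y) = 0 by rw [map_smul, hy, smul_zero])).1 ?_
          exact (map_smul (FlatCxLib.clsHom P (q + 1) q (FlatCxLib.next_down rfl)).hom a
            (⟨y, hy⟩ : LinearMap.ker (P.d (q + 1) q).hom)).trans (ha _))
        refine ⟨a • h2, k, ?_⟩
        rw [hk, LinearMap.smul_comp, smul_sub]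
        abel
      · obtain ⟨h1, h2, hh⟩ := ih q (by omega)
        obtain ⟨k, hk⟩ := step (q + 1) (a • LinearMap.id - h2 ∘ₗ (P.d (q + 1) q).hom) (by
          rintro _ ⟨x, rfl⟩
          refine hexact (q + 1) hb ?_
          rw [LinearMap.mem_ker, show (q + 1 : ℤ) - 1 = q by omega]
          have e := LinearMap.congr_fun hh ((P.d (q + 1) q).hom x)
          simp only [LinearMap.sub_apply, LinearMap.smul_apply, LinearMap.id_apply, LinearMap.comp_apply,
            LinearMap.add_apply] at e ⊢
          rw [← LinearMap.comp_apply (P.d q (q - 1)).hom, ← ModuleCat.hom_comp, HomologicalComplex.d_comp_d] at e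
          rw [map_sub, sub_eq_zero, map_smul]
          simpa using e)
        exact ⟨h2, k, by rw [hk]; abel⟩
  obtain ⟨h1, h2, hh⟩ := main q
  obtain ⟨x, hx, rfl⟩ := FlatCxLib.cls_surjective (K := CohIII.tensorObj P M)
    (FlatCxLib.next_down (show q - 1 + 1 = q by omega)) z
  have e := LinearMap.congr_fun (congrArg (LinearMap.rTensor M) hh) x
  rw [LinearMap.rTensor_smul, LinearMap.rTensor_id, LinearMap.rTensor_add, LinearMap.rTensor_comp,
    LinearMap.rTensor_comp] at e
  simp only [LinearMap.smul_apply, LinearMap.id_apply, LinearMap.add_apply, LinearMap.comp_apply] at e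
  have hx' : (P.d q (q - 1)).hom.rTensor M x = 0 := hx
  rw [hx', map_zero, zero_add] at e
  have hax : ((CohIII.tensorObj P M).d q (q - 1)).hom (a • x) = 0 := by rw [map_smul, hx, smul_zero]
  have h0 := (FlatCxLib.cls_eq_zero_iff (K := CohIII.tensorObj P M) (FlatCxLib.prev_down rfl)
    (FlatCxLib.next_down (show q - 1 + 1 = q by omega)) (a • x) hax).2 ⟨_, e.symm⟩
  exact ((map_smul (FlatCxLib.clsHom (CohIII.tensorObj P M) q (q - 1)
    (FlatCxLib.next_down (show q - 1 + 1 = q by omega))).hom a
      (⟨x, hx⟩ : LinearMap.ker ((CohIII.tensorObj P M).d q (q - 1)).hom)).symm).trans h0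

/-- Lengths along a regular sequence killing all the functors. -/
theorem length_quot {g : ℕ} {c : ℕ∞} :
    ∀ (l : List R) (M : ModuleCat.{u} R) (i : ℕ), IsWeaklyRegular M l →
      (∀ a ∈ l, ∀ (q : ℤ) (N : ModuleCat.{u} R) (z : CohIII.T P q N), a • z = 0) →
      (∀ q : ℤ, q < -(g : ℤ) → Module.length R (CohIII.T P q M) = 0) →
      (∀ n : ℕ, Module.length R (CohIII.T P (-(g : ℤ) + n) M) = (i.choose n : ℕ∞) * c) →
      ∀ n : ℕ, Module.length R
        (CohIII.T P (-(g : ℤ) + n) (ModuleCat.of R (M ⧸ (Ideal.ofList l • ⊤ : Submodule R M)))) =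
          ((i + l.length).choose n : ℕ∞) * c
  | [], M, i, _, _, _, hc, n => by
    rw [List.length_nil, add_zero, ← hc n]
    exact ((CohIII.TFun P _).mapIso (LinearEquiv.toModuleIso (Submodule.quotEquivOfEqBot _
      (by rw [Ideal.ofList_nil, Submodule.bot_smul])))).toLinearEquiv.length_eq
  | r :: l, M, i, hreg, hkill, hlow, hc, n => by
    rw [isWeaklyRegular_cons_iff] at hreg
    have key : ∀ q : ℤ, Module.length R (CohIII.T P (q + 1) (ModuleCat.of R (QuotSMulTop r M))) =
        Module.length R (CohIII.T P (q + 1) M) + Module.length R (CohIII.T P q M) := fun q => by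
      have hS := FlatCxLib.shortExact_tensorSC hfl hreg.1.smulShortComplex_shortExact
      refine Module.length_eq_add_of_exact ((CohIII.TFun P (q + 1)).map (M.smulShortComplex r).g).hom
        (hS.δ (q + 1) q rfl).hom ((injective_iff_map_eq_zero _).2 fun z hz => ?_)
        (fun z => exists_delta hfl hreg.1 q (hkill r (by simp) q M z)) ?_
      · obtain ⟨w, rfl⟩ := exact_smul hfl hreg.1 (q + 1) hz
        exact hkill r (by simp) _ _ w
      · intro z
        refine ⟨fun hz => exact_delta hfl hreg.1 q hz, ?_⟩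
        rintro ⟨w, rfl⟩
        exact ConcreteCategory.congr_hom (hS.comp_δ (q + 1) q rfl) w
    have hlow' : ∀ q : ℤ, q < -(g : ℤ) → Module.length R (CohIII.T P q (ModuleCat.of R (QuotSMulTop r M))) = 0 := by
      intro q hq
      have := key (q - 1)
      rw [sub_add_cancel, hlow q hq, hlow (q - 1) (by omega), add_zero] at this
      exact this
    have hc' : ∀ n : ℕ, Module.length R (CohIII.T P (-(g : ℤ) + n) (ModuleCat.of R (QuotSMulTop r M))) =
        ((i + 1).choose n : ℕ∞) * c := by
      intro n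
      have := key (-(g : ℤ) + n - 1)
      rw [sub_add_cancel, hc n] at this
      rw [this]
      cases n with
      | zero => rw [hlow _ (by push_cast; omega), add_zero, Nat.choose_zero_right, Nat.choose_zero_right]
      | succ n =>
        rw [show -(g : ℤ) + ((n + 1 : ℕ) : ℤ) - 1 = -(g : ℤ) + n by push_cast; omega, hc n, ← add_mul,
          Nat.choose_succ_succ', Nat.cast_add, add_comm]
    have := length_quot l (ModuleCat.of R (QuotSMulTop r M)) (i + 1) hreg.2
      (fun a ha => hkill a (List.mem_cons_of_mem r ha)) hlow' hc' n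
    rw [show i + (r :: l).length = i + 1 + l.length by rw [List.length_cons]; omega, ← this]
    exact ((CohIII.TFun P _).mapIso (LinearEquiv.toModuleIso
      (Submodule.quotOfListConsSMulTopEquivQuotSMulTopInner M r l))).toLinearEquiv.length_eq

section Main

variable [IsNoetherianRing R] [IsLocalRing R] (hfin : ∀ i, Module.Finite R (P.X i))
  (hproj : ∀ i, Module.Projective R (P.X i)) {c : ℤ} (hbdd : ∀ i, i < c → IsZero (P.X i))
  (hpos : ∀ q : ℤ, 0 < q → ∀ M : ModuleCat.{u} R, IsZero (CohIII.T P q M))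
  (y : List R) (hreg : IsWeaklyRegular R y)
  (hdrank : ∀ q : ℤ, q < -(y.length : ℤ) → CohIII.dRank P q (IsLocalRing.closedPoint R) = 0)
  (htor : ∀ q : ℤ, ∀ a ∈ Ideal.ofList y, ∀ z : P.homology q, ∃ n : ℕ, a ^ n • z = 0)
  (hkill : ∀ (M : ModuleCat.{u} R), ∀ a ∈ Ideal.ofList y, ∀ z : CohIII.T P 0 M, a • z = 0)

include hfin hpos hreg hdrank htor hkill in
/-- The homology is concentrated in one degree, where the sequence kills it. -/
theorem concentrated :
    (∀ q : ℤ, q ≠ -(y.length : ℤ) → IsZero (P.homology q)) ∧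
      (∀ q : ℤ, q < -(y.length : ℤ) → ∀ M, IsZero (CohIII.T P q M)) ∧
      (∀ a ∈ Ideal.ofList y, ∀ z : P.homology (-(y.length : ℤ)), a • z = 0) ∧
      Nonempty (P.homology (-(y.length : ℤ)) ≃ₗ[R] CohIII.T P 0 (ModuleCat.of R (R ⧸ Ideal.ofList y))) := by
  have hneg : ∀ q : ℤ, q < -(y.length : ℤ) → ∀ M, IsZero (CohIII.T P q M) := fun q hq =>
    (QCoh.epi_and_isZero_of_dRank hfl hfin (hdrank q hq)).2.1
  let u := fun q : ℤ => (FlatCxLib.tUnitIso (P := P) q).toLinearEquiv
  have htor' : ∀ q : ℤ, ∀ a ∈ Ideal.ofList y, ∀ z : CohIII.T P q (ModuleCat.of R R), ∃ n : ℕ, a ^ n • z = 0 :=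
    fun q a ha z => by
      obtain ⟨n, hn⟩ := htor q a ha (u q z)
      exact ⟨n, (u q).injective (by rw [map_smul, map_zero]; exact hn)⟩
  have hzero : ∀ q : ℤ, q ≠ -(y.length : ℤ) → IsZero (P.homology q) := by
    intro q hq
    refine IsZero.of_iso ?_ (FlatCxLib.tUnitIso (P := P) q).symm
    rcases lt_or_gt_of_ne hq with h | h
    · exact hneg q h _
    · haveI := vanish hfl hpos y (ModuleCat.of R R) hreg htor' q h
      exact ModuleCat.isZero_of_subsingleton _
  let N := CohIII.T P (-(y.length : ℤ)) (ModuleCat.of R R)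
  haveI : Module.Finite R N := by
    haveI := hfin (-(y.length : ℤ))
    haveI : Module.Finite R (P.cycles (-(y.length : ℤ))) :=
      Module.Finite.of_injective (P.iCycles _).hom ((ModuleCat.mono_iff_injective _).1 inferInstance)
    haveI : Module.Finite R (P.homology (-(y.length : ℤ))) :=
      Module.Finite.of_surjective (P.homologyπ _).hom ((ModuleCat.epi_iff_surjective _).1 inferInstance)
    exact Module.Finite.equiv (u _).symm
  have hann : Ideal.ofList y ≤ (Module.annihilator R N).radical := fun a ha => by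
    obtain ⟨s, hs⟩ := Module.Finite.fg_top (R := R) (M := N)
    choose n hn using fun z => htor' (-(y.length : ℤ)) a ha z
    refine ⟨s.sup n, Module.mem_annihilator.2 fun z => ?_⟩
    have hz : z ∈ Submodule.span R (s : Set N) := hs ▸ Submodule.mem_top
    induction hz using Submodule.span_induction with
    | mem w hw =>
      obtain ⟨d, hd⟩ := Nat.exists_eq_add_of_le (Finset.le_sup (f := n) hw)
      rw [hd, add_comm, pow_add, SemigroupAction.mul_smul, hn, smul_zero]
    | zero => exact smul_zero _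
    | add v w _ _ hv hw => rw [smul_add, hv, hw, add_zero]
    | smul t w _ hw => rw [smul_comm, hw, smul_zero]
  choose e he using fun i : Fin y.length => hann (Ideal.subset_span (y.get_mem i))
  let ye := List.ofFn fun i : Fin y.length => y.get i ^ (e i + 1)
  have hlen : ye.length = y.length := List.length_ofFn
  have hye : IsWeaklyRegular R ye :=
    EGA41Lib.isWeaklyRegular_pow y.length y.get (fun i => e i + 1) (fun i => by omega) (by rw [List.ofFn_get]; exact hreg)
  have hsub : Ideal.ofList ye ≤ Ideal.ofList y := Ideal.span_le.2 fun a ha => by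
    obtain ⟨i, rfl⟩ := List.mem_ofFn.1 ha
    exact Ideal.pow_mem_of_mem (Ideal.ofList y) (Ideal.subset_span (y.get_mem i)) (e i + 1) (Nat.succ_pos _)
  have hyeN : ∀ a ∈ ye, ∀ z : CohIII.T P (-(ye.length : ℤ)) (ModuleCat.of R R), a • z = 0 := by
    rw [hlen]
    intro a ha z
    obtain ⟨i, rfl⟩ := List.mem_ofFn.1 ha
    rw [pow_succ', SemigroupAction.mul_smul, Module.mem_annihilator.1 (he i), smul_zero]
  obtain ⟨w⟩ := nonempty_equiv_T0 hfl hpos ye (ModuleCat.of R R) hye (fun q a ha => htor' q a (hsub ha)) hyeN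
  rw [hlen] at w
  have hN : ∀ a ∈ Ideal.ofList y, ∀ z : CohIII.T P (-(y.length : ℤ)) (ModuleCat.of R R), a • z = 0 :=
    fun a ha z => w.injective (by rw [map_smul, map_zero]; exact hkill _ a ha _)
  refine ⟨hzero, hneg, fun a ha z => (u _).symm.injective (by rw [map_smul, map_zero]; exact hN a ha _), ?_⟩
  obtain ⟨w'⟩ := nonempty_equiv_T0 hfl hpos y (ModuleCat.of R R) hreg htor'
    fun a ha => hN a (Ideal.subset_span ha)
  exact ⟨((u _).symm.trans w').trans ((CohIII.TFun P 0).mapIso (LinearEquiv.toModuleIso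
    (Submodule.quotEquivOfEq _ _ (by rw [smul_eq_mul, Ideal.mul_top])))).toLinearEquiv⟩

include hfin hproj hbdd hpos hreg hdrank htor hkill in
/-- The functors at the quotient by the sequence have binomial lengths. -/
theorem length_eq_choose (n : ℕ) :
    Module.length R (CohIII.T P (-(y.length : ℤ) + n) (ModuleCat.of R (R ⧸ Ideal.ofList y))) =
      (y.length.choose n : ℕ∞) * Module.length R (P.homology (-(y.length : ℤ))) := by
  obtain ⟨hzero, hneg, hN, -⟩ := concentrated hfl hfin hpos y hreg hdrank htor hkill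
  have hk : ∀ a ∈ y, ∀ (q : ℤ) (N : ModuleCat.{u} R) (z : CohIII.T P q N), a • z = 0 := fun a ha q N z =>
    smul_eq_zero_of_homology hfl hproj hbdd hzero (hN a (Ideal.subset_span ha)) q N z
  have hlow : ∀ q : ℤ, q < -(y.length : ℤ) → Module.length R (CohIII.T P q (ModuleCat.of R R)) = 0 := fun q hq =>
    Module.length_eq_zero_iff.2 (ModuleCat.subsingleton_of_isZero (hneg q hq _))
  have hc : ∀ m : ℕ, Module.length R (CohIII.T P (-(y.length : ℤ) + m) (ModuleCat.of R R)) =
      ((0 : ℕ).choose m : ℕ∞) * Module.length R (P.homology (-(y.length : ℤ))) := by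
    intro m
    rcases Nat.eq_zero_or_pos m with rfl | hm
    · rw [Nat.choose_self, Nat.cast_one, _root_.one_mul, Nat.cast_zero, add_zero]
      exact (FlatCxLib.tUnitIso _).toLinearEquiv.length_eq
    · rw [Nat.choose_eq_zero_of_lt hm, Nat.cast_zero, zero_mul]
      exact Module.length_eq_zero_iff.2 (ModuleCat.subsingleton_of_isZero
        ((hzero _ (by omega)).of_iso (FlatCxLib.tUnitIso _)))
  have := length_quot hfl y (ModuleCat.of R R) 0 hreg hk hlow hc n
  rw [zero_add] at this
  rw [← this]
  exact ((CohIII.TFun P _).mapIso (LinearEquiv.toModuleIso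
    (Submodule.quotEquivOfEq _ _ (by rw [smul_eq_mul, Ideal.mul_top])))).toLinearEquiv.length_eq.symm

end Main

end Groth.Agent.RegLocalCx
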