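import Groth.Agent.Lib.FramesTrans
import Groth.Prelude.Def_Pic
import Groth.Prelude.Def_AbDual

/-!
The normalised descent cocycle of a rigidified invertible module along a cover of the base.
-/

set_option autoImplicit false
set_option linter.unusedSectionVars false
set_option backward.isDefEq.respectTransparency false
set_option backward.isDefEq.respectTransparency.types false
set_option maxHeartbeats 800000

universe u

open CategoryTheory CategoryTheory.Limits AlgebraicGeometry TopologicalSpace Opposite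

noncomputable section

namespace Groth.Agent.RigDatum

open Groth.Agent.AModX Groth.Agent.InvX Groth.Agent.UnitDescent Groth.Agent.FramesTrans

section Alg

variable {G : Type*} [CommGroup G] (g g' g'' k k' k'' c : G)

theorem alg_cv (ha hb : G) : k * (g' * hb) / ha = g * k * g' * hb / (g * ha) := by
  rw [show k * (g' * hb) = k * g' * hb from (mul_assoc _ _ _).symm,
    show g * k * g' * hb = g * (k * g' * hb) by simp only [mul_assoc], mul_div_mul_left_eq_div]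

theorem alg_change : g * k * g' / c = g * (k / c) * g' := by
  simp only [div_eq_mul_inv, mul_assoc, mul_left_comm, mul_comm]

theorem alg_sec (ha hb : G) : k / (k * hb / ha) = ha / hb := by
  rw [div_div_eq_mul_div, mul_div_mul_left_eq_div]

theorem alg_triple : g * k * g' * (g'⁻¹ * k' * g'') / (g * k'' * g'') = k * k' / k'' := by
  rw [show g * k * g' * (g'⁻¹ * k' * g'') = g * (k * k') * g'' by simp [mul_assoc],
    show g * (k * k') * g'' = (k * k') * (g * g'') by simp only [mul_assoc, mul_left_comm, mul_comm],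
    show g * k'' * g'' = k'' * (g * g'') by simp only [mul_assoc, mul_left_comm, mul_comm],
    mul_div_mul_right_eq_div]

theorem alg_diag (ha hb : G) : ha / (g * ha) * g = 1 ∧ (g * k * g'⁻¹) * hb = g * (k * hb) * g'⁻¹ := by
  refine ⟨?_, by simp only [mul_assoc, mul_left_comm, mul_comm]⟩
  rw [div_mul_eq_mul_div, mul_comm g, div_self']

theorem alg_diag_compat : g * k * g'⁻¹ * (g'' * g') = k * (g * g'') := by
  rw [mul_comm g'' g', ← mul_assoc, inv_mul_cancel_right]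
  simp only [mul_assoc, mul_left_comm, mul_comm]

end Alg

/-- A descent cocycle along `v` for the frames. -/
structure Datum {X Y : Scheme.{u}} (v : X ⟶ Y) {L : X.Modules} (F : Frames L) where
  /-- The value. -/
  κ : ∀ {Z : Scheme.{u}} (x₁ x₂ : Z ⟶ X), x₁ ≫ v = x₂ ≫ v → ∀ (a b : X),
    (⊤ : Z.Opens) ≤ x₁ ⁻¹ᵁ F.U a → (⊤ : Z.Opens) ≤ x₂ ⁻¹ᵁ F.U b → Γ(Z, ⊤)ˣ
  nat : ∀ {Z W : Scheme.{u}} (y : W ⟶ Z) (x₁ x₂ : Z ⟶ X) (h : x₁ ≫ v = x₂ ≫ v) (a b : X)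
    (ha : (⊤ : Z.Opens) ≤ x₁ ⁻¹ᵁ F.U a) (hb : (⊤ : Z.Opens) ≤ x₂ ⁻¹ᵁ F.U b),
    uP y (κ x₁ x₂ h a b ha hb) = κ (y ≫ x₁) (y ≫ x₂) (by rw [Category.assoc, Category.assoc, h]) a b
      (fun _ _ => ha trivial) (fun _ _ => hb trivial)
  cocycle : ∀ {Z : Scheme.{u}} (x₁ x₂ x₃ : Z ⟶ X) (h₁₂ : x₁ ≫ v = x₂ ≫ v) (h₂₃ : x₂ ≫ v = x₃ ≫ v) (a b c : X)
    (ha : (⊤ : Z.Opens) ≤ x₁ ⁻¹ᵁ F.U a) (hb : (⊤ : Z.Opens) ≤ x₂ ⁻¹ᵁ F.U b) (hc : (⊤ : Z.Opens) ≤ x₃ ⁻¹ᵁ F.U c),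
    κ x₁ x₂ h₁₂ a b ha hb * κ x₂ x₃ h₂₃ b c hb hc = κ x₁ x₃ (h₁₂.trans h₂₃) a c ha hc
  diag : ∀ {Z : Scheme.{u}} (x : Z ⟶ X) (a b : X) (ha : (⊤ : Z.Opens) ≤ x ⁻¹ᵁ F.U a)
    (hb : (⊤ : Z.Opens) ≤ x ⁻¹ᵁ F.U b), κ x x rfl a b ha hb = τ F x b a hb ha

/-- The lift into an open. -/
def lp {X Z : Scheme.{u}} (O : X.Opens) (x : Z ⟶ X) (h : (⊤ : Z.Opens) ≤ x ⁻¹ᵁ O) : Z ⟶ O.toScheme :=
  IsOpenImmersion.lift O.ι x (by rw [Scheme.Opens.range_ι]; rintro _ ⟨z, rfl⟩; exact h trivial)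

theorem lp_ι {X Z : Scheme.{u}} (O : X.Opens) (x : Z ⟶ X) (h : (⊤ : Z.Opens) ≤ x ⁻¹ᵁ O) : lp O x h ≫ O.ι = x :=
  IsOpenImmersion.lift_fac _ _ _

theorem ι_le {X : Scheme.{u}} (O : X.Opens) {U : X.Opens} (h : O ≤ U) : (⊤ : O.toScheme.Opens) ≤ O.ι ⁻¹ᵁ U :=
  fun z _ => h z.2

variable {X S : Scheme.{u}} (f : X ⟶ S) (σ : S ⟶ X) (hσ : σ ≫ f = 𝟙 S)
  (ha : ∀ (T : Over S) (U : T.left.Opens), IsIso ((PicF.XTproj f T).app U))

include hσ ha in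
/-- A function on a base change is constant, so trivial if it is trivial on the section. -/
theorem eq_one_of_sec (Q : Over S) (D : Γ(PicF.XT f Q, ⊤)ˣ) (h : uP (PicF.secT f σ hσ Q) D = 1) : D = 1 := by
  haveI := ha Q ⊤
  obtain ⟨d, hd⟩ := ((ConcreteCategory.isIso_iff_bijective ((PicF.XTproj f Q).app ⊤)).1 inferInstance).2
    (D : Γ(PicF.XT f Q, ⊤))
  have e : PicF.secT f σ hσ Q ≫ PicF.XTproj f Q = 𝟙 _ := pullback.lift_snd _ _ _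
  have hd1 : d = 1 := by
    have h1 : (PicF.secT f σ hσ Q).appTop.hom ((PicF.XTproj f Q).appTop.hom d) = 1 :=
      (congrArg _ hd).trans (congrArg Units.val h)
    rw [← ConcreteCategory.comp_apply, ← Scheme.Hom.comp_appTop, e] at h1
    simpa using h1
  exact Units.ext (hd.symm.trans (by rw [hd1, map_one]; rfl))

include hσ ha in
/-- Compatible units on an open cover of a base change are trivial if they are so along the section. -/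
theorem triv_of (Q : Over S) {I : Type u} (O : I → (PicF.XT f Q).Opens) (hO : ∀ p, ∃ i, p ∈ O i)
    (δ : ∀ i, Γ((O i).toScheme, ⊤)ˣ)
    (hδ : ∀ i j (W : Scheme.{u}) (m : W ⟶ (O i).toScheme) (m' : W ⟶ (O j).toScheme),
      m ≫ (O i).ι = m' ≫ (O j).ι → uP m (δ i) = uP m' (δ j))
    (hsec : ∀ i (W : Scheme.{u}) (y : W ⟶ Q.left) (m : W ⟶ (O i).toScheme),
      m ≫ (O i).ι = y ≫ PicF.secT f σ hσ Q → uP m (δ i) = 1) (i : I) : δ i = 1 := by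
  obtain ⟨D, hD⟩ := UnitDescent.exists_unit (fun i => (O i).ι)
    (fun p => let ⟨i, hi⟩ := hO p; ⟨i, ⟨p, hi⟩, rfl⟩) δ hδ
  rw [← hD i, eq_one_of_sec f σ hσ ha Q D (UnitDescent.eq_of_uP
    (fun i => ((PicF.secT f σ hσ Q) ⁻¹ᵁ O i).ι)
    (fun q => let ⟨i, hi⟩ := hO (PicF.secT f σ hσ Q q); ⟨i, ⟨q, hi⟩, rfl⟩) fun i => ?_), map_one]
  let y := ((PicF.secT f σ hσ Q) ⁻¹ᵁ O i).ι
  let m := lp (O i) (y ≫ PicF.secT f σ hσ Q) (fun z _ => z.2)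
  rw [map_one, ← uP_comp, ← lp_ι (O i) (y ≫ PicF.secT f σ hσ Q) (fun z _ => z.2), uP_comp, hD]
  exact hsec i _ y m (lp_ι _ _ _)

variable (T : Over S) {U : Scheme.{u}} (u : U ⟶ T.left)

/-- The base change to the cover. -/
abbrev v : PicF.XT f (AbDual.ovr T u) ⟶ PicF.XT f T := PicF.XTmap f (AbDual.ovrHom T u)

/-- The double cover. -/
abbrev R₂ : Over S := AbDual.ovr (AbDual.ovr T u) (pullback.fst u u)

abbrev r₁ : R₂ T u ⟶ AbDual.ovr T u := AbDual.ovrHom (AbDual.ovr T u) (pullback.fst u u)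

abbrev r₂ : R₂ T u ⟶ AbDual.ovr T u := Over.homMk (pullback.snd u u) (pullback.condition_assoc T.hom).symm

theorem XTmap_fst {T' T'' : Over S} (g : T'' ⟶ T') :
    PicF.XTmap f g ≫ pullback.fst f T'.hom = pullback.fst f T''.hom :=
  (pullback.lift_fst _ _ _).trans (Category.comp_id _)

theorem XTmap_snd {T' T'' : Over S} (g : T'' ⟶ T') :
    PicF.XTmap f g ≫ pullback.snd f T'.hom = pullback.snd f T''.hom ≫ g.left :=
  pullback.lift_snd _ _ _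

variable {T u} {Z : Scheme.{u}} {x₁ x₂ : Z ⟶ PicF.XT f (AbDual.ovr T u)} (h : x₁ ≫ v f T u = x₂ ≫ v f T u)
include h

theorem fst_eq : x₁ ≫ pullback.fst f (AbDual.ovr T u).hom = x₂ ≫ pullback.fst f (AbDual.ovr T u).hom := by
  have := congrArg (· ≫ pullback.fst f T.hom) h
  simpa only [Category.assoc, XTmap_fst] using this

theorem snd_eq : (x₁ ≫ PicF.XTproj f (AbDual.ovr T u)) ≫ u = (x₂ ≫ PicF.XTproj f (AbDual.ovr T u)) ≫ u := by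
  have := congrArg (· ≫ pullback.snd f T.hom) h
  rw [Category.assoc, Category.assoc, XTmap_snd, ← Category.assoc, ← Category.assoc] at this
  exact this

/-- The lift to the base change to the double cover. -/
def lift₂ : Z ⟶ PicF.XT f (R₂ T u) :=
  pullback.lift (x₁ ≫ pullback.fst f (AbDual.ovr T u).hom)
    (pullback.lift (x₁ ≫ PicF.XTproj f _) (x₂ ≫ PicF.XTproj f _) (snd_eq f h)) (by
      rw [Category.assoc, pullback.condition]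
      show _ = pullback.lift _ _ _ ≫ pullback.fst u u ≫ (AbDual.ovr T u).hom
      rw [pullback.lift_fst_assoc, Category.assoc])

theorem lift₂_fst : lift₂ f h ≫ PicF.XTmap f (r₁ T u) = x₁ := by
  refine pullback.hom_ext ?_ ?_
  · rw [Category.assoc, XTmap_fst]; exact pullback.lift_fst _ _ _
  · rw [Category.assoc, XTmap_snd, lift₂, pullback.lift_snd_assoc]
    exact pullback.lift_fst _ _ _

theorem lift₂_snd : lift₂ f h ≫ PicF.XTmap f (r₂ T u) = x₂ := by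
  refine pullback.hom_ext ?_ ?_
  · rw [Category.assoc, XTmap_fst]; exact (pullback.lift_fst _ _ _).trans (fst_eq f h)
  · rw [Category.assoc, XTmap_snd, lift₂, pullback.lift_snd_assoc]
    exact pullback.lift_snd _ _ _

omit h

variable {L : (PicF.XT f (AbDual.ovr T u)).Modules} (F : Frames L)
  (φ : (Scheme.Modules.pullback (PicF.XTmap f (r₁ T u))).obj L ≅
    (Scheme.Modules.pullback (PicF.XTmap f (r₂ T u))).obj L)

/-- The matrix of the gluing isomorphism. -/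
def um (a b : PicF.XT f (AbDual.ovr T u)) :
    Γ(PicF.XT f (R₂ T u), PicF.XTmap f (r₂ T u) ⁻¹ᵁ F.U b ⊓ PicF.XTmap f (r₁ T u) ⁻¹ᵁ F.U a)ˣ :=
  tr (isFrame_pullElt (PicF.XTmap f (r₂ T u)) (F.he b)) ((isFrame_pullElt (PicF.XTmap f (r₁ T u)) (F.he a)).map_iso φ)

/-- The raw cocycle at a point. -/
def κ₀ (h : x₁ ≫ v f T u = x₂ ≫ v f T u) (a b : PicF.XT f (AbDual.ovr T u))
    (hx : (⊤ : Z.Opens) ≤ x₁ ⁻¹ᵁ F.U a) (hy : (⊤ : Z.Opens) ≤ x₂ ⁻¹ᵁ F.U b) : Γ(Z, ⊤)ˣ :=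
  ev (lift₂ f h) (U := PicF.XTmap f (r₂ T u) ⁻¹ᵁ F.U b ⊓ PicF.XTmap f (r₁ T u) ⁻¹ᵁ F.U a)
    (fun z _ => ⟨show (lift₂ f h ≫ PicF.XTmap f (r₂ T u)) z ∈ F.U b by rw [lift₂_snd f h]; exact hy trivial,
      show (lift₂ f h ≫ PicF.XTmap f (r₁ T u)) z ∈ F.U a by rw [lift₂_fst f h]; exact hx trivial⟩)
    (um f F φ a b)

theorem lift₂_comp {W : Scheme.{u}} (y : W ⟶ Z) (h : x₁ ≫ v f T u = x₂ ≫ v f T u)
    (h' : (y ≫ x₁) ≫ v f T u = (y ≫ x₂) ≫ v f T u) : y ≫ lift₂ f h = lift₂ f h' := by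
  refine pullback.hom_ext ?_ ?_
  · rw [Category.assoc, lift₂, pullback.lift_fst, lift₂, pullback.lift_fst, Category.assoc]
  · rw [Category.assoc, lift₂, pullback.lift_snd, lift₂, pullback.lift_snd]
    refine pullback.hom_ext ?_ ?_
    · rw [Category.assoc, pullback.lift_fst, pullback.lift_fst, Category.assoc]
    · rw [Category.assoc, pullback.lift_snd, pullback.lift_snd, Category.assoc]

theorem κ₀_nat {W : Scheme.{u}} (y : W ⟶ Z) (h : x₁ ≫ v f T u = x₂ ≫ v f T u) (a b : PicF.XT f (AbDual.ovr T u))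
    (hx : (⊤ : Z.Opens) ≤ x₁ ⁻¹ᵁ F.U a) (hy : (⊤ : Z.Opens) ≤ x₂ ⁻¹ᵁ F.U b) :
    uP y (κ₀ f F φ h a b hx hy) = κ₀ f F φ (x₁ := y ≫ x₁) (x₂ := y ≫ x₂)
      (by rw [Category.assoc, Category.assoc, h]) a b (fun _ _ => hx trivial) (fun _ _ => hy trivial) := by
  unfold κ₀
  rw [uP_ev, ev_congr (lift₂_comp f y h (by rw [Category.assoc, Category.assoc, h]))]

theorem κ₀_change (h : x₁ ≫ v f T u = x₂ ≫ v f T u) (a a' b b' : PicF.XT f (AbDual.ovr T u))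
    (hx : (⊤ : Z.Opens) ≤ x₁ ⁻¹ᵁ F.U a) (hx' : (⊤ : Z.Opens) ≤ x₁ ⁻¹ᵁ F.U a')
    (hy : (⊤ : Z.Opens) ≤ x₂ ⁻¹ᵁ F.U b) (hy' : (⊤ : Z.Opens) ≤ x₂ ⁻¹ᵁ F.U b') :
    κ₀ f F φ h a' b' hx' hy' = τ F x₁ a a' hx hx' * κ₀ f F φ h a b hx hy * τ F x₂ b' b hy' hy := by
  let P := PicF.XT f (R₂ T u)
  let p₁ := PicF.XTmap f (r₁ T u)
  let p₂ := PicF.XTmap f (r₂ T u)
  let W : P.Opens := (p₂ ⁻¹ᵁ F.U b ⊓ p₁ ⁻¹ᵁ F.U a) ⊓ (p₂ ⁻¹ᵁ F.U b' ⊓ p₁ ⁻¹ᵁ F.U a')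
  have wa : W ≤ p₁ ⁻¹ᵁ F.U a := inf_le_left.trans inf_le_right
  have wb : W ≤ p₂ ⁻¹ᵁ F.U b := inf_le_left.trans inf_le_left
  have wa' : W ≤ p₁ ⁻¹ᵁ F.U a' := inf_le_right.trans inf_le_right
  have wb' : W ≤ p₂ ⁻¹ᵁ F.U b' := inf_le_right.trans inf_le_left
  have e1 : lift₂ f h ≫ p₁ = x₁ := lift₂_fst f h
  have e2 : lift₂ f h ≫ p₂ = x₂ := lift₂_snd f h
  have hW : (⊤ : Z.Opens) ≤ lift₂ f h ⁻¹ᵁ W := fun z _ =>
    ⟨⟨show (lift₂ f h ≫ p₂) z ∈ F.U b by rw [e2]; exact hy trivial,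
      show (lift₂ f h ≫ p₁) z ∈ F.U a by rw [e1]; exact hx trivial⟩,
      show (lift₂ f h ≫ p₂) z ∈ F.U b' by rw [e2]; exact hy' trivial,
      show (lift₂ f h ≫ p₁) z ∈ F.U a' by rw [e1]; exact hx' trivial⟩
  let u₀ : Γ(P, W)ˣ := Units.map (resR (le_inf wb wa)).toMonoidHom (um f F φ a b)
  let u₁ : Γ(P, W)ˣ := Units.map (resR (le_inf wb' wa')).toMonoidHom (um f F φ a' b')
  let g₁ : Γ(P, W)ˣ := Units.map (p₁.appLE (F.U a ⊓ F.U a') W (le_inf wa wa')).hom.toMonoidHom (tr (F.he a) (F.he a'))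
  let g₂ : Γ(P, W)ˣ := Units.map (p₂.appLE (F.U b' ⊓ F.U b) W (le_inf wb' wb)).hom.toMonoidHom (tr (F.he b') (F.he b))
  have key : u₁ = g₁ * u₀ * g₂ := Units.ext ((isFrame_pullElt p₂ (F.he b')).coord_unique wb' (by
    show resR (le_inf wb' wa') (um f F φ a' b' : Γ(P, p₂ ⁻¹ᵁ F.U b' ⊓ p₁ ⁻¹ᵁ F.U a')) • _ = ((g₁ : Γ(P, W)) * (u₀ : Γ(P, W)) * (g₂ : Γ(P, W))) • _
    rw [show resR (le_inf wb' wa') (um f F φ a' b' : Γ(P, p₂ ⁻¹ᵁ F.U b' ⊓ p₁ ⁻¹ᵁ F.U a')) •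
        res _ wb' (pullElt p₂ (F.e b')) = _ from
        (tr_spec (isFrame_pullElt p₂ (F.he b')) ((isFrame_pullElt p₁ (F.he a')).map_iso φ) wb' wa').symm,
      ← app_res, pull_tr F p₁ a a' wa wa', Scheme.Modules.Hom.app_smul, app_res,
      tr_spec (isFrame_pullElt p₂ (F.he b)) ((isFrame_pullElt p₁ (F.he a)).map_iso φ) wb wa,
      pull_tr F p₂ b' b wb' wb, smul_smul, smul_smul]
    rfl))
  have hev := congrArg (ev (lift₂ f h) hW) key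
  rw [map_mul, map_mul, ev_eq (lift₂ f h) hW (le_inf wb wa) _ u₀ rfl,
    ev_eq (lift₂ f h) hW (le_inf wb' wa') _ u₁ rfl] at hev
  have hg : ∀ {p : P ⟶ PicF.XT f (AbDual.ovr T u)} {x : Z ⟶ PicF.XT f (AbDual.ovr T u)} (e : lift₂ f h ≫ p = x)
      {V : (PicF.XT f (AbDual.ovr T u)).Opens} (w : W ≤ p ⁻¹ᵁ V) (g : Γ(PicF.XT f (AbDual.ovr T u), V)ˣ)
      (hV : (⊤ : Z.Opens) ≤ x ⁻¹ᵁ V),
      ev (lift₂ f h) hW (Units.map (p.appLE V W w).hom.toMonoidHom g) = ev x hV g := by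
    intro p x e V w g hV
    subst e
    exact Units.ext (ConcreteCategory.congr_hom (Scheme.Hom.appLE_comp_appLE (lift₂ f h) p V W ⊤ w hW)
      (g : Γ(PicF.XT f (AbDual.ovr T u), V)))
  rw [hg e1 (V := F.U a ⊓ F.U a') (le_inf wa wa') _ (fun _ _ => ⟨hx trivial, hx' trivial⟩),
    hg e2 (V := F.U b' ⊓ F.U b) (le_inf wb' wb) _ (fun _ _ => ⟨hy' trivial, hy trivial⟩)] at hev
  exact hev

variable (θ : (Scheme.Modules.pullback (PicF.secT f σ hσ (AbDual.ovr T u))).obj L ≅ Coh.structureModule U)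

/-- The rigidification at a point. -/
abbrev hp {Z : Scheme.{u}} (y : Z ⟶ U) (a : PicF.XT f (AbDual.ovr T u))
    (hy : (⊤ : Z.Opens) ≤ (y ≫ PicF.secT f σ hσ (AbDual.ovr T u)) ⁻¹ᵁ F.U a) : Γ(Z, ⊤)ˣ :=
  coAt F (PicF.secT f σ hσ (AbDual.ovr T u)) θ y a hy

theorem hp_change {Z : Scheme.{u}} (y : Z ⟶ U) (a b : PicF.XT f (AbDual.ovr T u))
    (hy : (⊤ : Z.Opens) ≤ (y ≫ PicF.secT f σ hσ (AbDual.ovr T u)) ⁻¹ᵁ F.U a)
    (hy' : (⊤ : Z.Opens) ≤ (y ≫ PicF.secT f σ hσ (AbDual.ovr T u)) ⁻¹ᵁ F.U b) :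
    hp f σ hσ F θ y b hy' = τ F (y ≫ PicF.secT f σ hσ (AbDual.ovr T u)) a b hy hy' * hp f σ hσ F θ y a hy :=
  coAt_change F _ θ y a b hy hy'

theorem secT_snd {Z : Scheme.{u}} (y : Z ⟶ U) :
    (y ≫ PicF.secT f σ hσ (AbDual.ovr T u)) ≫ PicF.XTproj f (AbDual.ovr T u) = y := by
  rw [Category.assoc]
  show y ≫ pullback.lift _ _ _ ≫ pullback.snd _ _ = y
  rw [pullback.lift_snd]
  exact Category.comp_id _

theorem sec_over {Z : Scheme.{u}} {y₁ y₂ : Z ⟶ U} (h : y₁ ≫ u = y₂ ≫ u) :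
    (y₁ ≫ PicF.secT f σ hσ (AbDual.ovr T u)) ≫ v f T u = (y₂ ≫ PicF.secT f σ hσ (AbDual.ovr T u)) ≫ v f T u := by
  have e : ∀ y : Z ⟶ U, (y ≫ PicF.secT f σ hσ (AbDual.ovr T u)) ≫ v f T u = (y ≫ u) ≫ PicF.secT f σ hσ T := by
    intro y
    refine pullback.hom_ext ?_ ?_
    · rw [Category.assoc, Category.assoc, Category.assoc, XTmap_fst, Category.assoc]
      unfold PicF.secT
      rw [pullback.lift_fst, pullback.lift_fst]
      exact congrArg (y ≫ ·) (Category.assoc _ _ _)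
    · rw [Category.assoc, Category.assoc, Category.assoc, XTmap_snd, Category.assoc]
      unfold PicF.secT
      rw [pullback.lift_snd_assoc, pullback.lift_snd]
      exact congrArg (y ≫ ·) ((Category.id_comp _).trans (Category.comp_id _).symm)
  rw [e, e, h]

/-- The cover of the double base. -/
abbrev O₂ (i : PicF.XT f (AbDual.ovr T u) × PicF.XT f (AbDual.ovr T u)) : (pullback u u).Opens :=
  (pullback.fst u u ≫ PicF.secT f σ hσ (AbDual.ovr T u)) ⁻¹ᵁ F.U i.1 ⊓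
    (pullback.snd u u ≫ PicF.secT f σ hσ (AbDual.ovr T u)) ⁻¹ᵁ F.U i.2

/-- The defect along the section at a point. -/
def cv {Z : Scheme.{u}} {y₁ y₂ : Z ⟶ U} (h : y₁ ≫ u = y₂ ≫ u) (a b : PicF.XT f (AbDual.ovr T u))
    (ha' : (⊤ : Z.Opens) ≤ (y₁ ≫ PicF.secT f σ hσ (AbDual.ovr T u)) ⁻¹ᵁ F.U a)
    (hb' : (⊤ : Z.Opens) ≤ (y₂ ≫ PicF.secT f σ hσ (AbDual.ovr T u)) ⁻¹ᵁ F.U b) : Γ(Z, ⊤)ˣ :=
  κ₀ f F φ (sec_over f σ hσ h) a b ha' hb' * hp f σ hσ F θ y₂ b hb' / hp f σ hσ F θ y₁ a ha'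

theorem cv_indep {Z : Scheme.{u}} {y₁ y₂ : Z ⟶ U} (h : y₁ ≫ u = y₂ ≫ u) (a a' b b' : PicF.XT f (AbDual.ovr T u))
    (h1 : (⊤ : Z.Opens) ≤ (y₁ ≫ PicF.secT f σ hσ (AbDual.ovr T u)) ⁻¹ᵁ F.U a)
    (h1' : (⊤ : Z.Opens) ≤ (y₁ ≫ PicF.secT f σ hσ (AbDual.ovr T u)) ⁻¹ᵁ F.U a')
    (h2 : (⊤ : Z.Opens) ≤ (y₂ ≫ PicF.secT f σ hσ (AbDual.ovr T u)) ⁻¹ᵁ F.U b)
    (h2' : (⊤ : Z.Opens) ≤ (y₂ ≫ PicF.secT f σ hσ (AbDual.ovr T u)) ⁻¹ᵁ F.U b') :
    cv f σ hσ F φ θ h a b h1 h2 = cv f σ hσ F φ θ h a' b' h1' h2' := by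
  unfold cv
  rw [κ₀_change f F φ _ a a' b b' h1 h1' h2 h2', hp_change f σ hσ F θ y₁ a a' h1 h1',
    hp_change f σ hσ F θ y₂ b' b h2' h2]
  exact alg_cv _ _ _ _ _

theorem uP_cv {Z W : Scheme.{u}} (m : W ⟶ Z) {y₁ y₂ : Z ⟶ U} (h : y₁ ≫ u = y₂ ≫ u)
    (a b : PicF.XT f (AbDual.ovr T u))
    (h1 : (⊤ : Z.Opens) ≤ (y₁ ≫ PicF.secT f σ hσ (AbDual.ovr T u)) ⁻¹ᵁ F.U a)
    (h2 : (⊤ : Z.Opens) ≤ (y₂ ≫ PicF.secT f σ hσ (AbDual.ovr T u)) ⁻¹ᵁ F.U b) :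
    uP m (cv f σ hσ F φ θ h a b h1 h2) = cv f σ hσ F φ θ (y₁ := m ≫ y₁) (y₂ := m ≫ y₂)
      (by rw [Category.assoc, Category.assoc, h]) a b (fun _ _ => h1 trivial) (fun _ _ => h2 trivial) := by
  unfold cv
  rw [map_div, map_mul, κ₀_nat, uP_coAt, uP_coAt]

theorem exists_defect : ∃ c : Γ(pullback u u, ⊤)ˣ, ∀ {Z : Scheme.{u}} (y₁ y₂ : Z ⟶ U) (h : y₁ ≫ u = y₂ ≫ u)
    (a b : PicF.XT f (AbDual.ovr T u))
    (h1 : (⊤ : Z.Opens) ≤ (y₁ ≫ PicF.secT f σ hσ (AbDual.ovr T u)) ⁻¹ᵁ F.U a)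
    (h2 : (⊤ : Z.Opens) ≤ (y₂ ≫ PicF.secT f σ hσ (AbDual.ovr T u)) ⁻¹ᵁ F.U b),
    uP (pullback.lift y₁ y₂ h) c = cv f σ hσ F φ θ h a b h1 h2 := by
  let O := O₂ f σ hσ F
  let r : ∀ i, Γ((O i).toScheme, ⊤)ˣ := fun i =>
    cv f σ hσ F φ θ (y₁ := (O i).ι ≫ pullback.fst u u) (y₂ := (O i).ι ≫ pullback.snd u u)
      (by rw [Category.assoc, Category.assoc, pullback.condition]) i.1 i.2
      (fun z _ => z.2.1) (fun z _ => z.2.2)
  obtain ⟨c, hc⟩ := UnitDescent.exists_unit (fun i => (O i).ι)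
    (fun p => ⟨(_, _), ⟨p, F.mem _, F.mem _⟩, rfl⟩) r fun i j W m m' e => by
      rw [uP_cv, uP_cv]
      have e1 : m ≫ (O i).ι ≫ pullback.fst u u = m' ≫ (O j).ι ≫ pullback.fst u u := by rw [reassoc_of% e]
      have e2 : m ≫ (O i).ι ≫ pullback.snd u u = m' ≫ (O j).ι ≫ pullback.snd u u := by rw [reassoc_of% e]
      simp only [e1, e2]
      exact cv_indep f σ hσ F φ θ _ _ _ _ _ _ _ _ _
  refine ⟨c, fun {Z} y₁ y₂ h a b h1 h2 => ?_⟩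
  have hl : (⊤ : Z.Opens) ≤ pullback.lift y₁ y₂ h ⁻¹ᵁ O (a, b) := fun z _ =>
    ⟨show (pullback.lift y₁ y₂ h ≫ pullback.fst u u ≫ _) z ∈ F.U a by
      rw [pullback.lift_fst_assoc]; exact h1 trivial,
    show (pullback.lift y₁ y₂ h ≫ pullback.snd u u ≫ _) z ∈ F.U b by
      rw [pullback.lift_snd_assoc]; exact h2 trivial⟩
  rw [← lp_ι (O (a, b)) (pullback.lift y₁ y₂ h) hl, uP_comp, hc, uP_cv]
  simp only [← Category.assoc, lp_ι, pullback.lift_fst, pullback.lift_snd]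

/-- The normalised cocycle. -/
def κn (c : Γ(pullback u u, ⊤)ˣ) {Z : Scheme.{u}} {x₁ x₂ : Z ⟶ PicF.XT f (AbDual.ovr T u)}
    (h : x₁ ≫ v f T u = x₂ ≫ v f T u) (a b : PicF.XT f (AbDual.ovr T u))
    (hx : (⊤ : Z.Opens) ≤ x₁ ⁻¹ᵁ F.U a) (hy : (⊤ : Z.Opens) ≤ x₂ ⁻¹ᵁ F.U b) : Γ(Z, ⊤)ˣ :=
  κ₀ f F φ h a b hx hy /
    uP (pullback.lift (x₁ ≫ PicF.XTproj f _) (x₂ ≫ PicF.XTproj f _) (snd_eq f h)) c

theorem κn_nat (c : Γ(pullback u u, ⊤)ˣ) {W : Scheme.{u}} (y : W ⟶ Z) (h : x₁ ≫ v f T u = x₂ ≫ v f T u)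
    (a b : PicF.XT f (AbDual.ovr T u)) (hx : (⊤ : Z.Opens) ≤ x₁ ⁻¹ᵁ F.U a) (hy : (⊤ : Z.Opens) ≤ x₂ ⁻¹ᵁ F.U b) :
    uP y (κn f F φ c h a b hx hy) = κn f F φ c (x₁ := y ≫ x₁) (x₂ := y ≫ x₂)
      (by rw [Category.assoc, Category.assoc, h]) a b (fun _ _ => hx trivial) (fun _ _ => hy trivial) := by
  unfold κn
  rw [map_div, κ₀_nat, ← uP_comp]
  congr 3
  refine pullback.hom_ext ?_ ?_
  · simp only [Category.assoc, pullback.lift_fst]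
  · simp only [Category.assoc, pullback.lift_snd]

theorem κn_change (c : Γ(pullback u u, ⊤)ˣ) (h : x₁ ≫ v f T u = x₂ ≫ v f T u) (a a' b b' : PicF.XT f (AbDual.ovr T u))
    (hx : (⊤ : Z.Opens) ≤ x₁ ⁻¹ᵁ F.U a) (hx' : (⊤ : Z.Opens) ≤ x₁ ⁻¹ᵁ F.U a')
    (hy : (⊤ : Z.Opens) ≤ x₂ ⁻¹ᵁ F.U b) (hy' : (⊤ : Z.Opens) ≤ x₂ ⁻¹ᵁ F.U b') :
    κn f F φ c h a' b' hx' hy' = τ F x₁ a a' hx hx' * κn f F φ c h a b hx hy * τ F x₂ b' b hy' hy := by
  unfold κn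
  rw [κ₀_change f F φ h a a' b b' hx hx' hy hy']
  exact alg_change _ _ _ _

theorem κn_sec {c : Γ(pullback u u, ⊤)ˣ}
    (hc : ∀ {Z : Scheme.{u}} (y₁ y₂ : Z ⟶ U) (h : y₁ ≫ u = y₂ ≫ u) (a b : PicF.XT f (AbDual.ovr T u))
      (h1 : (⊤ : Z.Opens) ≤ (y₁ ≫ PicF.secT f σ hσ (AbDual.ovr T u)) ⁻¹ᵁ F.U a)
      (h2 : (⊤ : Z.Opens) ≤ (y₂ ≫ PicF.secT f σ hσ (AbDual.ovr T u)) ⁻¹ᵁ F.U b),
      uP (pullback.lift y₁ y₂ h) c = cv f σ hσ F φ θ h a b h1 h2)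
    {Z : Scheme.{u}} (y₁ y₂ : Z ⟶ U) {x₁ x₂ : Z ⟶ PicF.XT f (AbDual.ovr T u)}
    (e₁ : x₁ = y₁ ≫ PicF.secT f σ hσ (AbDual.ovr T u)) (e₂ : x₂ = y₂ ≫ PicF.secT f σ hσ (AbDual.ovr T u))
    (h : x₁ ≫ v f T u = x₂ ≫ v f T u) (a b : PicF.XT f (AbDual.ovr T u))
    (hx : (⊤ : Z.Opens) ≤ x₁ ⁻¹ᵁ F.U a) (hy : (⊤ : Z.Opens) ≤ x₂ ⁻¹ᵁ F.U b) :
    κn f F φ c h a b hx hy =
      hp f σ hσ F θ y₁ a (e₁ ▸ hx) / hp f σ hσ F θ y₂ b (e₂ ▸ hy) := by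
  subst e₁ e₂
  have h' : y₁ ≫ u = y₂ ≫ u := by simpa only [secT_snd] using snd_eq f h
  unfold κn
  simp only [secT_snd]
  rw [hc y₁ y₂ h' a b hx hy]
  exact alg_sec _ _ _

/-- The point over the base of a point of the base change. -/
abbrev base {Z : Scheme.{u}} (x : Z ⟶ PicF.XT f (AbDual.ovr T u)) : Over S :=
  Over.mk ((x ≫ PicF.XTproj f (AbDual.ovr T u)) ≫ u ≫ T.hom)

/-- A point through the base change to its base. -/
def through {Z : Scheme.{u}} (x : Z ⟶ PicF.XT f (AbDual.ovr T u)) : Z ⟶ PicF.XT f (base f x) :=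
  pullback.lift (x ≫ pullback.fst f _) (𝟙 Z) (by
    rw [Category.assoc, pullback.condition, Category.id_comp]
    exact (Category.assoc _ _ _).symm)

/-- A point over the same base. -/
def pt {Z : Scheme.{u}} {x x' : Z ⟶ PicF.XT f (AbDual.ovr T u)} (h : x ≫ v f T u = x' ≫ v f T u) :
    base f x ⟶ AbDual.ovr T u :=
  Over.homMk (x' ≫ PicF.XTproj f (AbDual.ovr T u)) (by
    show _ ≫ u ≫ T.hom = (_ ≫ _) ≫ u ≫ T.hom
    rw [← Category.assoc, ← Category.assoc, snd_eq f h, Category.assoc])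

theorem through_pt {Z : Scheme.{u}} {x x' : Z ⟶ PicF.XT f (AbDual.ovr T u)} (h : x ≫ v f T u = x' ≫ v f T u) :
    through f x ≫ PicF.XTmap f (pt f h) = x' := by
  refine pullback.hom_ext ?_ ?_
  · rw [Category.assoc, XTmap_fst]; exact (pullback.lift_fst _ _ _).trans (fst_eq f h)
  · rw [Category.assoc, XTmap_snd, through, pullback.lift_snd_assoc, Category.id_comp]
    rfl

theorem sec_pt {Z : Scheme.{u}} {x x' : Z ⟶ PicF.XT f (AbDual.ovr T u)} (h : x ≫ v f T u = x' ≫ v f T u) :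
    PicF.secT f σ hσ (base f x) ≫ PicF.XTmap f (pt f h) =
      (pt f h).left ≫ PicF.secT f σ hσ (AbDual.ovr T u) := by
  refine pullback.hom_ext ?_ ?_
  · rw [Category.assoc, XTmap_fst, Category.assoc]
    unfold PicF.secT
    rw [pullback.lift_fst, pullback.lift_fst, ← Category.assoc, Over.w (pt f h)]
  · rw [Category.assoc, XTmap_snd, Category.assoc]
    unfold PicF.secT
    rw [pullback.lift_snd_assoc, pullback.lift_snd, Category.id_comp]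
    exact (Category.comp_id _).symm

include ha in
theorem exists_datum (φ : (Scheme.Modules.pullback (PicF.XTmap f (r₁ T u))).obj L ≅
      (Scheme.Modules.pullback (PicF.XTmap f (r₂ T u))).obj L)
    (θ : (Scheme.Modules.pullback (PicF.secT f σ hσ (AbDual.ovr T u))).obj L ≅ Coh.structureModule U) :
    Nonempty (Datum (v f T u) F) := by
  obtain ⟨c, hc⟩ := exists_defect f σ hσ F φ θ
  refine ⟨⟨fun x₁ x₂ h a b h1 h2 => κn f F φ c h a b h1 h2,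
    fun y x₁ x₂ h a b h1 h2 => κn_nat f F φ c y h a b h1 h2, ?_, ?_⟩⟩
  · intro Z x₁ x₂ x₃ h₁₂ h₂₃ a b d h1 h2 h3
    let P := PicF.XT f (base f x₁)
    let p₁ := PicF.XTmap f (pt f (rfl : x₁ ≫ v f T u = x₁ ≫ v f T u))
    let p₂ := PicF.XTmap f (pt f h₁₂)
    let p₃ := PicF.XTmap f (pt f (h₁₂.trans h₂₃))
    have hp : ∀ {W : Scheme.{u}} (m : W ⟶ P), (m ≫ p₁) ≫ v f T u = (m ≫ p₂) ≫ v f T u ∧
        (m ≫ p₂) ≫ v f T u = (m ≫ p₃) ≫ v f T u := by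
      intro W m
      have e : ∀ {x' : Z ⟶ PicF.XT f (AbDual.ovr T u)} (h : x₁ ≫ v f T u = x' ≫ v f T u),
          PicF.XTmap f (pt f h) ≫ v f T u = PicF.XTmap f (pt f (rfl : x₁ ≫ v f T u = x₁ ≫ v f T u)) ≫ v f T u := by
        intro x' h
        refine pullback.hom_ext ?_ ?_
        · simp only [Category.assoc, XTmap_fst]
        · simp only [Category.assoc, XTmap_snd, reassoc_of% (XTmap_snd f (pt f h)),
            reassoc_of% (XTmap_snd f (pt f (rfl : x₁ ≫ v f T u = x₁ ≫ v f T u)))]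
          exact congrArg (pullback.snd f _ ≫ ·) (snd_eq f h).symm
      exact ⟨by rw [Category.assoc, Category.assoc, e h₁₂], by
        rw [Category.assoc, Category.assoc, e h₁₂, e (h₁₂.trans h₂₃)]⟩
    let I := PicF.XT f (AbDual.ovr T u) × PicF.XT f (AbDual.ovr T u) × PicF.XT f (AbDual.ovr T u)
    let O : I → P.Opens := fun i => p₁ ⁻¹ᵁ F.U i.1 ⊓ p₂ ⁻¹ᵁ F.U i.2.1 ⊓ p₃ ⁻¹ᵁ F.U i.2.2
    let δ : ∀ i, Γ((O i).toScheme, ⊤)ˣ := fun i =>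
      κn f F φ c (hp (O i).ι).1 i.1 i.2.1 (fun z _ => z.2.1.1) (fun z _ => z.2.1.2) *
        κn f F φ c (hp (O i).ι).2 i.2.1 i.2.2 (fun z _ => z.2.1.2) (fun z _ => z.2.2) /
        κn f F φ c ((hp (O i).ι).1.trans (hp (O i).ι).2) i.1 i.2.2 (fun z _ => z.2.1.1) (fun z _ => z.2.2)
    have hone := triv_of f σ hσ ha (base f x₁) O (fun p => ⟨(_, _, _), ⟨⟨F.mem _, F.mem _⟩, F.mem _⟩⟩) δ ?_ ?_
      (a, b, d)
    · let j := through f x₁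
      have hl : (⊤ : Z.Opens) ≤ j ⁻¹ᵁ O (a, b, d) := fun z _ =>
        ⟨⟨show (j ≫ p₁) z ∈ F.U a by rw [through_pt]; exact h1 trivial,
          show (j ≫ p₂) z ∈ F.U b by rw [through_pt]; exact h2 trivial⟩,
          show (j ≫ p₃) z ∈ F.U d by rw [through_pt]; exact h3 trivial⟩
      have := congrArg (uP (lp _ j hl)) hone
      simp only [δ, map_one, map_div, map_mul, κn_nat] at this
      simp only [← Category.assoc, lp_ι, j, p₁, p₂, p₃, through_pt] at this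
      exact div_eq_one.1 this
    · intro i i' W m m' e
      simp only [δ, map_div, map_mul, κn_nat]
      simp only [← Category.assoc, e]
      have k : ∀ {q : P ⟶ PicF.XT f (AbDual.ovr T u)} {O' : (PicF.XT f (AbDual.ovr T u)).Opens},
          O i' ≤ q ⁻¹ᵁ O' → (⊤ : W.Opens) ≤ ((m' ≫ (O i').ι) ≫ q) ⁻¹ᵁ O' := fun hq z _ => hq (m' z).2
      have k' : ∀ {q : P ⟶ PicF.XT f (AbDual.ovr T u)} {O' : (PicF.XT f (AbDual.ovr T u)).Opens},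
          O i ≤ q ⁻¹ᵁ O' → (⊤ : W.Opens) ≤ ((m' ≫ (O i').ι) ≫ q) ⁻¹ᵁ O' := fun hq z _ => by
        rw [← e]; exact hq (m z).2
      rw [κn_change f F φ c _ i.1 i'.1 i.2.1 i'.2.1 (k' (inf_le_left.trans inf_le_left))
          (k (inf_le_left.trans inf_le_left)) (k' (inf_le_left.trans inf_le_right)) (k (inf_le_left.trans inf_le_right)),
        κn_change f F φ c _ i.2.1 i'.2.1 i.2.2 i'.2.2 (k' (inf_le_left.trans inf_le_right))
          (k (inf_le_left.trans inf_le_right)) (k' inf_le_right) (k inf_le_right),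
        κn_change f F φ c _ i.1 i'.1 i.2.2 i'.2.2 (k' (inf_le_left.trans inf_le_left))
          (k (inf_le_left.trans inf_le_left)) (k' inf_le_right) (k inf_le_right),
        τ_symm F _ i'.2.1 i.2.1 (k (inf_le_left.trans inf_le_right)) (k' (inf_le_left.trans inf_le_right))]
      exact (alg_triple _ _ _ _ _ _).symm
    · intro i W y m e
      simp only [δ, map_div, map_mul, κn_nat]
      have hs : ∀ {x' : Z ⟶ PicF.XT f (AbDual.ovr T u)} (h : x₁ ≫ v f T u = x' ≫ v f T u),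
          m ≫ (O i).ι ≫ PicF.XTmap f (pt f h) = (y ≫ (pt f h).left) ≫ PicF.secT f σ hσ (AbDual.ovr T u) := by
        intro x' h
        rw [reassoc_of% e, sec_pt, Category.assoc]
      rw [κn_sec f σ hσ F φ θ hc _ _ (hs rfl) (hs h₁₂), κn_sec f σ hσ F φ θ hc _ _ (hs h₁₂) (hs (h₁₂.trans h₂₃)),
        κn_sec f σ hσ F φ θ hc _ _ (hs rfl) (hs (h₁₂.trans h₂₃)), div_mul_div_cancel, div_self']
  · intro Z x a b h1 h2
    let P := PicF.XT f (base f x)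
    let p := PicF.XTmap f (pt f (rfl : x ≫ v f T u = x ≫ v f T u))
    let I := PicF.XT f (AbDual.ovr T u) × PicF.XT f (AbDual.ovr T u)
    let O : I → P.Opens := fun i => p ⁻¹ᵁ F.U i.1 ⊓ p ⁻¹ᵁ F.U i.2
    let δ : ∀ i, Γ((O i).toScheme, ⊤)ˣ := fun i =>
      κn f F φ c (rfl : ((O i).ι ≫ p) ≫ v f T u = _) i.1 i.2 (fun z _ => z.2.1) (fun z _ => z.2.2) *
        τ F ((O i).ι ≫ p) i.1 i.2 (fun z _ => z.2.1) (fun z _ => z.2.2)
    have hone := triv_of f σ hσ ha (base f x) O (fun q => ⟨(_, _), ⟨F.mem _, F.mem _⟩⟩) δ ?_ ?_ (a, b)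
    · let j := through f x
      have hl : (⊤ : Z.Opens) ≤ j ⁻¹ᵁ O (a, b) := fun z _ =>
        ⟨show (j ≫ p) z ∈ F.U a by rw [through_pt]; exact h1 trivial,
          show (j ≫ p) z ∈ F.U b by rw [through_pt]; exact h2 trivial⟩
      have := congrArg (uP (lp _ j hl)) hone
      simp only [δ, map_one, map_mul, κn_nat, uP_τ] at this
      simp only [← Category.assoc, lp_ι, j, p, through_pt] at this
      rw [τ_symm F x a b h1 h2]
      exact eq_inv_of_mul_eq_one_left this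
    · intro i i' W m m' e
      simp only [δ, map_mul, κn_nat, uP_τ]
      simp only [← Category.assoc, e]
      have k : ∀ {O' : (PicF.XT f (AbDual.ovr T u)).Opens},
          O i' ≤ p ⁻¹ᵁ O' → (⊤ : W.Opens) ≤ ((m' ≫ (O i').ι) ≫ p) ⁻¹ᵁ O' := fun hq z _ => hq (m' z).2
      have k' : ∀ {O' : (PicF.XT f (AbDual.ovr T u)).Opens},
          O i ≤ p ⁻¹ᵁ O' → (⊤ : W.Opens) ≤ ((m' ≫ (O i').ι) ≫ p) ⁻¹ᵁ O' := fun hq z _ => by
        rw [← e]; exact hq (m z).2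
      rw [κn_change f F φ c _ i.1 i'.1 i.2 i'.2 (k' inf_le_left) (k inf_le_left) (k' inf_le_right) (k inf_le_right),
        ← τ_trans F _ i.1 i'.1 i.2 (k' inf_le_left) (k inf_le_left) (k' inf_le_right),
        ← τ_trans F _ i'.1 i.2 i'.2 (k inf_le_left) (k' inf_le_right) (k inf_le_right),
        τ_symm F _ i.2 i'.2 (k' inf_le_right) (k inf_le_right)]
      exact (alg_diag_compat _ _ _ _).symm
    · intro i W y m e
      simp only [δ, map_mul, κn_nat, uP_τ]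
      have hs : m ≫ (O i).ι ≫ p =
          (y ≫ (pt f (rfl : x ≫ v f T u = x ≫ v f T u)).left) ≫ PicF.secT f σ hσ (AbDual.ovr T u) := by
        rw [reassoc_of% e, sec_pt, Category.assoc]
      rw [κn_sec f σ hσ F φ θ hc _ _ hs hs]
      simp only [hs]
      rw [hp_change f σ hσ F θ _ i.1 i.2]
      exact (alg_diag _ 1 1 _ 1).1

end Groth.Agent.RigDatum
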