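import Groth.Agent.Lib.UniformGrowth
import Groth.Agent.Pic13Lib.NegTwistDrop
import Groth.Agent.Lib.DegBirat
import Groth.Agent.Lib.IntCoeff

/-!
Cutting modules by a section of an invertible module: exact on sequences avoiding the zeros at the
associated points.
-/

set_option autoImplicit false
set_option linter.style.haveILetI false
set_option linter.unusedSectionVars false
set_option backward.isDefEq.respectTransparency false
set_option backward.isDefEq.respectTransparency.types false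
set_option maxHeartbeats 1000000

universe u

open CategoryTheory CategoryTheory.Limits AlgebraicGeometry TopologicalSpace Opposite

noncomputable section

namespace Groth.Agent.SectCut

open Groth.Agent Groth.Agent.H23 Groth.Agent.UniformGrowth
open scoped Groth.Agent.H23.PicMul

variable {X : Scheme.{u}}

theorem wass_of_iso {M N : X.Modules} (e : M ≅ N) (hM : Coh.IsQCoh M) (hN : Coh.IsQCoh N) :
    wass N ⊆ wass M := fun _ h => Pic13Lib.NegTwistDrop.isWeakAssPoint_of_iso e.symm hN hM h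

theorem nonempty_cancel (M : X.Modules) {P P' : X.Modules}
    (e : CohB1.tensorMod P P' ≅ Coh.structureModule X) :
    Nonempty (CohB1.tensorMod (CohB1.tensorMod M P) P' ≅ M) := by
  refine PicMul.cl_eq_iff.1 ?_
  rw [PicMul.cl_tensor (CohB1.tensorMod M P) P', PicMul.cl_tensor M P, _root_.mul_assoc,
    ← PicMul.cl_tensor P P', PicMul.cl_eq_iff.2 ⟨e⟩, ← PicMul.one_def, _root_.mul_one]

theorem wass_cancel {M P P' : X.Modules} (hM : Coh.IsQCoh M) (hT : Coh.IsQCoh (CohB1.tensorMod M P))
    (hP' : PicF.IsInvertible P') (e : CohB1.tensorMod (CohB1.tensorMod M P) P' ≅ M) :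
    wass (CohB1.tensorMod M P) ⊆ wass M := by
  intro x h
  change Curv2.IsWeakAssPoint M x
  have hq : Coh.IsQCoh (CohB1.tensorMod (CohB1.tensorMod M P) P') :=
    KFlatLib.isQCoh_tensor (M := CohB1.tensorMod M P) (N := P') hT (QCoh.isQCoh_of_isFinLocFree (H23.PullPush.isFinLocFree_of_isInvertible hP'))
  have h2 : Curv2.IsWeakAssPoint (CohB1.tensorMod (CohB1.tensorMod M P) P') x :=
    Pic13Lib.NegTwistDrop.isWeakAssPoint_tensor (M := CohB1.tensorMod M P) (L := P') hT hP' h
  exact Pic13Lib.NegTwistDrop.isWeakAssPoint_of_iso (M := CohB1.tensorMod (CohB1.tensorMod M P) P') (L := M) e hq hM h2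

theorem wass_tensor {M P : X.Modules} (hM : Coh.IsQCoh M) (hP : PicF.IsInvertible P) :
    wass (CohB1.tensorMod M P) ⊆ wass M := by
  obtain ⟨P', hP', ⟨e⟩⟩ := PicInv.exists_inverse hP
  exact wass_cancel hM (KFlatLib.isQCoh_tensor hM (ProjUPX.isQCoh_of_isInvertible hP)) hP' (nonempty_cancel M e).some

theorem isoOn_ofSect {N : X.Modules} (s : Γ(N, ⊤)) : Snapper.IsoOn (TrivBasic.locus s) (InvX.ofSect s) := by
  refine DegBirat.isoOn_of_bijective _ fun W hW => ?_
  have h := (TrivBasic.isFrame_res_of_le_locus (s := s) hW) W le_rfl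
  have key : ∀ r : Γ(X, W), (InvX.ofSect s).app W (show Γ(Coh.structureModule X, W) from r) =
      r • AModX.res N le_rfl (AModX.res N (le_top : W ≤ ⊤) s) := fun r => by
    refine (InvX.app_eq_smul (InvX.ofSect s) r).trans ?_
    rw [InvX.one_ofSect, AModX.res_self]
  exact ⟨fun a b hab => h.1 (((key a).symm.trans hab).trans (key b)),
    fun y => let ⟨r, hr⟩ := h.2 y; ⟨r, (key r).trans hr⟩⟩

/-- Multiplication by a section. -/
def mulSect {N : X.Modules} (s : Γ(N, ⊤)) (M : X.Modules) :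
    CohB1.tensorMod (Coh.structureModule X) M ⟶ CohB1.tensorMod N M :=
  (DCoh.tensorBi.map (InvX.ofSect s)).app M

theorem isoOn_mulSect {N : X.Modules} (s : Γ(N, ⊤)) (M : X.Modules) :
    Snapper.IsoOn (TrivBasic.locus s) (mulSect s M) :=
  (isoOn_ofSect s).tensor M

/-- The cut by a section. -/
def cut {N : X.Modules} (s : Γ(N, ⊤)) (M : X.Modules) : X.Modules := cokernel (mulSect s M)

def cutMap {N : X.Modules} (s : Γ(N, ⊤)) {M M' : X.Modules} (g : M ⟶ M') : cut s M ⟶ cut s M' :=
  cokernel.map (mulSect s M) (mulSect s M') ((DCoh.tensorBi.obj (Coh.structureModule X)).map g)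
    ((DCoh.tensorBi.obj N).map g) ((DCoh.tensorBi.map (InvX.ofSect s)).naturality g).symm

/-- Isomorphic modules have isomorphic cuts. -/
def cutIso {N : X.Modules} (s : Γ(N, ⊤)) {M M' : X.Modules} (g : M ≅ M') : cut s M ≅ cut s M' :=
  cokernel.mapIso (mulSect s M) (mulSect s M') ((DCoh.tensorBi.obj (Coh.structureModule X)).mapIso g)
    ((DCoh.tensorBi.obj N).mapIso g) ((DCoh.tensorBi.map (InvX.ofSect s)).naturality g.hom).symm

variable [IsNoetherian X]

theorem isCoh_left {N M : X.Modules} (hN : PicF.IsInvertible N) (hM : Coh.IsCoh M) :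
    Coh.IsCoh (CohB1.tensorMod N M) := AmpleVan.isCoh_tensor (AmpleVan.isCoh_invertible hN) hM

theorem isCoh_cut {N : X.Modules} (hN : PicF.IsInvertible N) (s : Γ(N, ⊤)) {M : X.Modules} (hM : Coh.IsCoh M) :
    Coh.IsCoh (cut s M) :=
  QCoh.isCoh_cokernel (isCoh_left InvX.isInvertible_structureModule hM).1 (isCoh_left hN hM) _

theorem support_cut {N : X.Modules} (hN : PicF.IsInvertible N) (s : Γ(N, ⊤)) {M : X.Modules} (hM : Coh.IsCoh M) :
    CohB1.support (cut s M) ⊆ CohB1.support M \ TrivBasic.locus s := fun _ hx =>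
  ⟨CurveTensor.support_tensor_subset
    (QCoh.support_of_epi (isCoh_left hN hM).1 (isCoh_cut hN s hM).1 (cokernel.π (mulSect s M)) hx),
    (Snapper.support_subset_compl (isoOn_mulSect s M)).2 hx⟩

theorem isZero_cut {N : X.Modules} (hN : PicF.IsInvertible N) (s : Γ(N, ⊤)) {M : X.Modules} (hM : Coh.IsCoh M)
    (h : CohB1.support M ⊆ TrivBasic.locus s) : IsZero (cut s M) :=
  CurveCohLib.isZero_of_subsingleton_stalks fun _ =>
    not_not.1 fun hx => (support_cut hN s hM hx).2 (h (support_cut hN s hM hx).1)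

/-- Multiplication is injective away from the zeros at associated points. -/
theorem mono_mulSect {N : X.Modules} (s : Γ(N, ⊤)) {M : X.Modules} (hM : Coh.IsCoh M)
    (h : wass M ⊆ TrivBasic.locus s) : Mono (mulSect s M) := by
  have hO := isCoh_left (InvX.isInvertible_structureModule (X := X)) hM
  refine AssPtX.mono_of_stalk _ hO.1 fun x => ?_
  by_cases hx : x ∈ TrivBasic.locus s
  · refine Or.inl ?_
    haveI := isoOn_mulSect s M x hx
    exact (ConcreteCategory.bijective_of_isIso ((DerSch.stalkFunctor X x).map (mulSect s M))).1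
  · exact Or.inr fun hw => hx (h (wass_of_iso (CurveTensor.structureTensorIso M).symm hM.1 hO.1 hw))

theorem isEquivalence_left {N : X.Modules} (hN : PicF.IsInvertible N) :
    (DCoh.tensorBi.obj N : X.Modules ⥤ X.Modules).IsEquivalence := by
  haveI := AmpleVan.isEquivalence_tw hN
  exact Functor.isEquivalence_of_iso ((KFlatLib.tensorBiFlipIso X).app N)

/-- Cuts of a short exact sequence avoiding the zeros at associated points. -/
theorem shortExact_cut {N : X.Modules} (hN : PicF.IsInvertible N) (s : Γ(N, ⊤)) {S : ShortComplex X.Modules}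
    (hS : S.ShortExact) (h1 : Coh.IsCoh S.X₁) (h2 : Coh.IsCoh S.X₂) (h3 : Coh.IsCoh S.X₃)
    (a3 : wass S.X₃ ⊆ TrivBasic.locus s) :
    ∃ (f : cut s S.X₁ ⟶ cut s S.X₂) (g : cut s S.X₂ ⟶ cut s S.X₃) (w : f ≫ g = 0),
      (ShortComplex.mk f g w).ShortExact := by
  let F : X.Modules ⥤ X.Modules := DCoh.tensorBi.obj (Coh.structureModule X)
  let G : X.Modules ⥤ X.Modules := DCoh.tensorBi.obj N
  haveI hFe : F.IsEquivalence := isEquivalence_left InvX.isInvertible_structureModule
  haveI hGe : G.IsEquivalence := isEquivalence_left hN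
  haveI : F.Additive := Functor.additive_of_preserves_binary_products _
  haveI : G.Additive := Functor.additive_of_preserves_binary_products _
  let v : S.map F ⟶ S.map G := S.mapNatTrans (DCoh.tensorBi.map (InvX.ofSect s))
  have hF := hS.map_of_exact F
  have hG := hS.map_of_exact G
  let Q : ShortComplex.SnakeInput X.Modules :=
    { L₀ := kernel v, L₁ := S.map F, L₂ := S.map G, L₃ := cokernel v
      v₀₁ := kernel.ι v, v₁₂ := v, v₂₃ := cokernel.π v
      w₀₂ := kernel.condition v, w₁₃ := cokernel.condition v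
      h₀ := kernelIsKernel v, h₃ := cokernelIsCokernel v
      L₁_exact := hF.exact, epi_L₁_g := hF.epi_g
      L₂_exact := hG.exact, mono_L₂_f := hG.mono_f }
  haveI : Mono Q.v₁₂.τ₃ := mono_mulSect s h3 a3
  haveI : Mono Q.v₀₁.τ₃ := Q.mono_v₀₁_τ₃
  have h0 : IsZero Q.L₀.X₃ := IsZero.of_mono_eq_zero Q.v₀₁.τ₃ ((cancel_mono Q.v₁₂.τ₃).1 (by
    rw [zero_comp]; exact Q.w₀₂_τ₃))
  haveI : Mono Q.L₃.f := (Q.L₂'.exact_iff_mono (h0.eq_of_src Q.δ 0)).1 Q.L₂'_exact
  haveI : Epi Q.L₂.g := hG.epi_g
  haveI : Epi Q.L₃.g := Q.epi_L₃_g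
  have hQ : Q.L₃.ShortExact := { exact := Q.L₃_exact, mono_f := inferInstance, epi_g := inferInstance }
  let e₁ := (cokernelIsCokernel (mulSect s S.X₁)).coconePointUniqueUpToIso Q.h₃τ₁
  let e₂ := (cokernelIsCokernel (mulSect s S.X₂)).coconePointUniqueUpToIso Q.h₃τ₂
  let e₃ := (cokernelIsCokernel (mulSect s S.X₃)).coconePointUniqueUpToIso Q.h₃τ₃
  refine ⟨e₁.hom ≫ Q.L₃.f ≫ e₂.inv, e₂.hom ≫ Q.L₃.g ≫ e₃.inv, ?_, ?_⟩
  · simp [Q.L₃.zero_assoc]
  · exact ShortComplex.shortExact_of_iso (ShortComplex.isoMk e₁.symm e₂.symm e₃.symm (by simp) (by simp)) hQ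

end Groth.Agent.SectCut
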