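import Groth.Agent.S13986
import Groth.Agent.H23.RedSub
import Groth.Agent.KZ.LFRes

/-!
# Serre classes of coherent modules and supports
-/

set_option linter.style.haveILetI false
set_option backward.isDefEq.respectTransparency false
set_option backward.isDefEq.respectTransparency.types false

universe u

open CategoryTheory CategoryTheory.Limits AlgebraicGeometry TopologicalSpace

namespace Groth.Agent.SerreSupport

open Groth.Agent

variable {X : Scheme.{u}} [IsNoetherian X]

/-- A Serre class on coherent modules. -/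
abbrev IsSerre (P : ObjectProperty X.Modules) : Prop :=
  ∀ S : ShortComplex X.Modules, S.ShortExact → Coh.IsCoh S.X₁ → Coh.IsCoh S.X₂ → Coh.IsCoh S.X₃ →
    (P S.X₂ ↔ P S.X₁ ∧ P S.X₃)

/-- A coherent module with prescribed support. -/
theorem exists_support_eq (Z : Closeds X) :
    ∃ F : X.Modules, Coh.IsCoh F ∧ CohB1.support F = (Z : Set X) := by
  let J := Scheme.IdealSheafData.vanishingIdeal Z
  have hr : Set.range J.subschemeι = (Z : Set X) := H23.RedSub.range_vanishingIdeal Z
  refine ⟨(Coh.push J.subschemeι).obj (Coh.structureModule J.subscheme),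
    QCoh.isCoh_push_structure J.subschemeι, subset_antisymm
      ((QCoh.support_push_subset J.subschemeι QCoh.isQCoh_structureModule).trans hr.le) ?_⟩
  rw [← hr]
  rintro _ ⟨z, rfl⟩
  refine S13986.Aux.mem_support_push J.subschemeι QCoh.isQCoh_structureModule ?_
  obtain ⟨U, hU, hzU⟩ := QCoh.exists_affine_mem z
  refine (QCoh.mem_support_iff QCoh.isQCoh_structureModule hU hzU).2 ⟨(1 : Γ(J.subscheme, U)), fun f hf h0 => ?_⟩
  have hf0 : f = 0 := (mul_one f).symm.trans h0
  rw [hf0, Scheme.basicOpen_zero] at hf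
  exact hf

theorem isSerre_support (T : Set X) : IsSerre (X := X) fun M => CohB1.support M ⊆ T := by
  intro S hS h1 h2 h3
  refine ⟨fun h => ⟨?_, ?_⟩, fun h => ?_⟩
  · haveI := hS.mono_f
    exact (QCoh.mem_support_of_mono h1.1 h2.1 S.f).trans h
  · haveI := hS.epi_g
    exact (QCoh.support_of_epi h2.1 h3.1 S.g).trans h
  · exact (QCoh.support_subset_union hS h1.1 h2.1 h3.1).trans (Set.union_subset h.1 h.2)

theorem mem_of_support {P : ObjectProperty X.Modules} (hP : IsSerre P) {F M : X.Modules} (hF : Coh.IsCoh F)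
    (hM : Coh.IsCoh M) (hPF : P F) (h : CohB1.support M ⊆ CohB1.support F) : P M :=
  (S13986.result X F M hF hM).2 h P hPF hP

/-- A Serre class on coherent modules contains a module whose support is the union of two supports it contains. -/
theorem exists_union {Q : ObjectProperty X.Modules} (hQ : IsSerre Q) {E E' : X.Modules} (hE : Coh.IsCoh E)
    (hE' : Coh.IsCoh E') (h : Q E) (h' : Q E') :
    ∃ W : X.Modules, Coh.IsCoh W ∧ Q W ∧ CohB1.support E ∪ CohB1.support E' ⊆ CohB1.support W := by
  haveI := QCoh.hasFiniteBiproducts X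
  let S : ShortComplex X.Modules :=
    ShortComplex.mk (biprod.inl : E ⟶ E ⊞ E') (biprod.snd : E ⊞ E' ⟶ E') biprod.inl_snd
  let sp : S.Splitting :=
    { r := biprod.fst, s := biprod.inr, id := biprod.total }
  have hS : S.ShortExact := sp.shortExact
  have hW : Coh.IsCoh (E ⊞ E') := KZ.isCoh_X₂ hS hE hE'
  refine ⟨E ⊞ E', hW, (hQ S hS hE hW hE').2 ⟨h, h'⟩, Set.union_subset ?_ ?_⟩
  · exact QCoh.mem_support_of_mono hE.1 hW.1 (biprod.inl : E ⟶ E ⊞ E')
  · exact QCoh.mem_support_of_mono hE'.1 hW.1 (biprod.inr : E' ⟶ E ⊞ E')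

end Groth.Agent.SerreSupport
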