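import Groth.Agent.GabberAff13.BcPlus

/-!
# Comparison of homological functors on bounded below objects
-/

set_option autoImplicit false
set_option linter.style.haveILetI false
set_option backward.isDefEq.respectTransparency false
set_option backward.isDefEq.respectTransparency.types false
set_option maxHeartbeats 1000000

universe w v u

open CategoryTheory CategoryTheory.Limits Pretriangulated DerivedCategory

attribute [local instance] HasDerivedCategory.standard

namespace Groth.Agent.WayOut12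

variable {A : Type u} [Category.{v} A] [Abelian A]
  {B : Type*} [Category* B] [Abelian B]

/-- A functor exact in the middle of every distinguished triangle. -/
def MidExact (F : DerivedCategory A ⥤ B) : Prop :=
  ∀ T ∈ distTriang (DerivedCategory A), ∃ w : F.map T.mor₁ ≫ F.map T.mor₂ = 0, (ShortComplex.mk _ _ w).Exact

variable {F G : DerivedCategory A ⥤ B} (τ : F ⟶ G)

theorem isIso_app_obj₂ (hF : MidExact F) (hG : MidExact G) (T : Triangle (DerivedCategory A))
    (hT : T ∈ distTriang (DerivedCategory A)) [IsIso (τ.app T.obj₁)] [IsIso (τ.app T.obj₃)]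
    [Epi (τ.app T.invRotate.obj₁)] [Mono (τ.app T.rotate.obj₃)] : IsIso (τ.app T.obj₂) := by
  have hl := inv_rot_of_distTriang _ hT
  have hr := rot_of_distTriang _ hT
  obtain ⟨w₀, e₀⟩ := hF _ hl
  obtain ⟨w₁, e₁⟩ := hF _ hT
  obtain ⟨w₂, e₂⟩ := hF _ hr
  obtain ⟨v₀, d₀⟩ := hG _ hl
  obtain ⟨v₁, d₁⟩ := hG _ hT
  obtain ⟨v₂, d₂⟩ := hG _ hr
  haveI : IsIso (τ.app T.invRotate.obj₂) := inferInstanceAs (IsIso (τ.app T.obj₁))
  haveI : Mono (τ.app (T.obj₁⟦(1 : ℤ)⟧)) := inferInstanceAs (Mono (τ.app T.rotate.obj₃))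
  haveI : IsIso (τ.app T.rotate.obj₂) := inferInstanceAs (IsIso (τ.app T.obj₃))
  exact GabberAff13.isIso_middle (w₀ := w₀) (v₂ := v₂) e₁ e₂ d₀ d₁ (τ.naturality T.invRotate.mor₁)
    (τ.naturality T.mor₁) (τ.naturality T.mor₂) (τ.naturality T.mor₃)

variable {C : A → Prop} (hmono : ∀ {M N : A} (a : M ⟶ N) [Mono a], C N → C M)
  (hepi : ∀ {M N : A} (a : M ⟶ N) [Epi a], C M → C N)

include hmono hepi in
/-- Invertibility on bounded below objects follows from invertibility on their cohomology objects. -/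
theorem isIso_app_of_isGE (q : ℤ) (hF : MidExact F) (hG : MidExact G)
    (hFq : ∀ (E : DerivedCategory A) (n : ℤ), E.IsGE n → q < n → IsZero (F.obj E))
    (hGq : ∀ (E : DerivedCategory A) (n : ℤ), E.IsGE n → q < n → IsZero (G.obj E))
    (hs : ∀ (m : ℤ) (M : A), C M → IsIso (τ.app ((singleFunctor A m).obj M))) :
    ∀ (k : ℕ) (n : ℤ) (E : DerivedCategory A), E.IsGE n → q < n + k →
      (∀ i : ℤ, C ((homologyFunctor A i).obj E)) → IsIso (τ.app E) := by
  have hiso : ∀ {M N : A}, (M ≅ N) → C M → C N := fun e h => hepi e.hom h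
  intro k
  induction k with
  | zero =>
    intro n E hE hq _
    exact ⟨⟨(hGq E n hE (by simpa using hq)).to_ _, (hFq E n hE (by simpa using hq)).eq_of_src _ _,
      (hGq E n hE (by simpa using hq)).eq_of_src _ _⟩⟩
  | succ k ih =>
    intro n E hE hq htor
    let t := DerivedCategory.TStructure.t (C := A)
    let T := (t.triangleLEGE n (n + 1) rfl).obj E
    let H := DerivedCategory.homologyFunctor A
    have hT : T ∈ distTriang _ := t.triangleLEGE_distinguished n (n + 1) rfl E
    haveI : T.obj₁.IsLE n := t.isLE_truncLE_obj E n n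
    haveI : T.obj₃.IsGE (n + 1) := t.isGE_truncGE_obj E (n + 1) (n + 1)
    have z₃ : ∀ i, i ≤ n → IsZero ((H i).obj T.obj₃) := fun i hi =>
      (DerivedCategory.isGE_iff T.obj₃ (n + 1)).1 inferInstance i (by omega)
    have z₁ : ∀ i, n < i → IsZero ((H i).obj T.obj₁) := fun i hi =>
      (DerivedCategory.isLE_iff T.obj₁ n).1 inferInstance i hi
    have zE : ∀ i, i < n → IsZero ((H i).obj T.obj₂) := fun i hi => (DerivedCategory.isGE_iff E n).1 hE i hi
    have hm : ∀ i, i ≤ n → Mono ((H i).map T.mor₁) := fun i hi =>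
      (DerivedCategory.HomologySequence.exact₁ T hT (i - 1) i (by omega)).mono_g
        ((z₃ (i - 1) (by omega)).eq_of_src _ _)
    haveI : T.obj₁.IsGE n := (DerivedCategory.isGE_iff _ _).2 fun i hi =>
      haveI := hm i hi.le
      (zE i hi).of_mono ((H i).map T.mor₁)
    have htor₁ : C ((H n).obj T.obj₁) :=
      haveI := hm n le_rfl
      hmono ((H n).map T.mor₁) (htor n)
    have htor₃ : ∀ i, C ((H i).obj T.obj₃) := fun i => by
      rcases le_or_gt i n with hi | hi
      · haveI : Epi (0 : (H i).obj E ⟶ (H i).obj T.obj₃) := ⟨fun a b _ => (z₃ i hi).eq_of_src a b⟩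
        exact hepi (0 : (H i).obj E ⟶ (H i).obj T.obj₃) (htor i)
      · haveI : Epi ((H i).map T.mor₂) := (DerivedCategory.HomologySequence.exact₃ T hT i (i + 1) rfl).epi_f
          ((z₁ (i + 1) (by omega)).eq_of_tgt _ _)
        exact hepi ((H i).map T.mor₂) (htor i)
    obtain ⟨M, ⟨eM⟩⟩ := T.obj₁.exists_iso_singleFunctor_obj_of_isGE_of_isLE n
    have hM : C M := hiso
      ((H n).mapIso eM ≪≫ (DerivedCategory.singleFunctorCompHomologyFunctorIso A n).app M) htor₁
    haveI : IsIso (τ.app T.obj₁) := (NatTrans.isIso_app_iff_of_iso τ eM).2 (hs n M hM)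
    haveI : IsIso (τ.app T.rotate.obj₃) := (NatTrans.isIso_app_iff_of_iso τ
      ((shiftFunctor _ (1 : ℤ)).mapIso eM ≪≫
        ((DerivedCategory.singleFunctors A).shiftIso 1 (n - 1) n (by omega)).app M)).2 (hs (n - 1) M hM)
    haveI : IsIso (τ.app T.obj₃) := ih (n + 1) T.obj₃ inferInstance (by omega) htor₃
    haveI : IsIso (τ.app T.invRotate.obj₁) := ih (n + 2) (T.obj₃⟦(-1 : ℤ)⟧)
      (t.isGE_shift T.obj₃ (n + 1) (-1) (n + 2) (by omega)) (by omega) fun i =>
        hiso (((H 0).shiftIso (-1) i (i - 1) (by omega)).app T.obj₃).symm (htor₃ (i - 1))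
    exact isIso_app_obj₂ τ hF hG T hT

end Groth.Agent.WayOut12
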