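import Groth.Agent.Lib.DerAux12
import Groth.Agent.Lib.WayOut12
import Groth.Agent.SiteBase.RpushD.Devissage
import Groth.Agent.GabberAff13.ExtZeroPush
import Groth.Agent.EtFound.ExtZeroConstr
import Groth.Agent.BcMapZero.Et
import Groth.Prelude.Def_CxOX
import Mathlib.AlgebraicGeometry.Morphisms.Immersion

/-!
# Derived direct images with proper support
-/

set_option autoImplicit false
set_option linter.style.haveILetI false
set_option backward.isDefEq.respectTransparency false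
set_option backward.isDefEq.respectTransparency.types false
set_option maxHeartbeats 1000000

universe u

open CategoryTheory CategoryTheory.Limits AlgebraicGeometry Opposite Pretriangulated DerivedCategory

attribute [local instance] HasDerivedCategory.standard

namespace Groth.Agent.ShriekD12

open Groth.Agent.EtFound Groth.Agent.GabberAff13 Groth.Agent.DerAux12

variable {X Y : Scheme.{u}}

/-- Extension by zero along an open immersion keeps torsion. -/
theorem isTorsion_extZero (j : X ⟶ Y) [IsOpenImmersion j] [EtShriek.JCont j]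
    (F : EtCoh.Ab X) (hF : EtCoh.IsTorsion F) : EtCoh.IsTorsion ((EtShriek.extZero j).obj F) := by
  refine (BCCrit13.isTorsion_iff_stalks _).2 fun Ω _ _ ξ t => ?_
  haveI : Subsingleton (PtsOver j ξ) := ⟨fun a b => Subtype.ext ((cancel_mono j).1 (a.2.trans b.2.symm))⟩
  letI : Fintype (PtsOver j ξ) := Fintype.ofFinite _
  obtain ⟨x, rfl⟩ := (bijective_extZero_sum j ξ F id Function.bijective_id).2 t
  choose m hm h using fun k : PtsOver j ξ => (BCCrit13.isTorsion_iff_stalks F).1 hF Ω k.1 (x k)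
  refine ⟨∏ k, m k, Finset.prod_pos fun k _ => hm k, ?_⟩
  show (∏ k, m k) • ∑ k, extZeroι j ξ F k (x k) = 0
  rw [Finset.smul_sum]
  refine Finset.sum_eq_zero fun k hk => ?_
  obtain ⟨c, hc⟩ := Finset.dvd_prod_of_mem m hk
  rw [hc, mul_comm, mul_smul, ← map_nsmul, h k, map_zero, smul_zero]

/-- Cohomology of a derived extension by zero. -/
theorem isTorsion_HDEt_extZeroD (j : X ⟶ Y) [IsOpenImmersion j] [PreservesFiniteLimits (EtShriek.extZero j)]
    (K : DCoh.DEt X) (hK : ∀ n : ℤ, EtCoh.IsTorsion (DCoh.HDEt K n)) (n : ℤ) :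
    EtCoh.IsTorsion (DCoh.HDEt ((DEt.extZeroD j).obj K) n) := by
  obtain ⟨e⟩ := SiteBase.RpushD.nonempty_homology_mapDerived (EtShriek.extZero j) K n
  exact isTorsion_of_iso e.symm (isTorsion_extZero j _ (hK n))

/-- Derived extensions by zero respect lower bounds. -/
theorem isGE_extZeroD (j : X ⟶ Y) [IsOpenImmersion j] [PreservesFiniteLimits (EtShriek.extZero j)]
    (K : DCoh.DEt X) (n : ℤ) [K.IsGE n] : ((DEt.extZeroD j).obj K).IsGE n :=
  SiteBase.RpushD.isGE_mapDerived (EtShriek.extZero j) K n inferInstance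

/-- Bounded below. -/
theorem exists_isGE {K : DCoh.DEt X} (hb : ∃ a : ℤ, ∀ n : ℤ, n < a → IsZero (DCoh.HDEt K n)) :
    ∃ a : ℤ, K.IsGE a :=
  hb.imp fun _ h => (DerivedCategory.isGE_iff K _).2 h

variable {U V : Scheme.{u}} (v : U ⟶ X) [IsOpenImmersion v] (jd : V ⟶ Y) [IsOpenImmersion jd]
  (g : U ⟶ V) (q : X ⟶ Y) [IsProper q]

/-- Extensions by zero have vanishing direct images away from the image of the open part. -/
theorem isZero_stalk_HDEt_Rpush_extZero (w : v ≫ q = g ≫ jd) [DCoh.HasRpushEt X q]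
    [PreservesFiniteLimits (EtShriek.extZero v)] (M : DCoh.DEt U) (n : ℤ) [M.IsGE n]
    (hM : ∀ i : ℤ, EtCoh.IsTorsion (DCoh.HDEt M i))
    (r : ℤ) (Ω : Type u) [Field Ω] [IsSepClosed Ω] (ξ : Spec (CommRingCat.of Ω) ⟶ Y)
    (hξ : ξ.base (default : Spec (CommRingCat.of Ω)) ∉ Set.range jd.base) :
    IsZero ((EtCoh.stalk ξ).obj (DCoh.HDEt ((DCoh.RpushEt X q).obj ((DEt.extZeroD v).obj M)) r)) := by
  haveI : (EtCoh.stalk ξ).IsLeftAdjoint := (Scheme.pointSmallEtale ξ).skyscraperSheafAdjunction.isLeftAdjoint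
  let F : DCoh.DEt U ⥤ AddCommGrpCat.{u + 1} :=
    DEt.extZeroD v ⋙ DCoh.RpushEt X q ⋙ DerivedCategory.homologyFunctor (EtCoh.Ab Y) r ⋙ EtCoh.stalk ξ
  have hF : WayOut12.MidExact F := fun T hT => by
    obtain ⟨c, hc⟩ := exact_H_rpush q _ ((DEt.extZeroD v).map_distinguished T hT)
    have h := ((DerivedCategory.homologyFunctor (EtCoh.Ab Y) r).map_distinguished_exact _ hc).map (EtCoh.stalk ξ)
    exact ⟨_, h⟩
  have hFq : ∀ (E : DCoh.DEt U) (m : ℤ), E.IsGE m → r < m → IsZero (F.obj E) := fun E m _ hm => by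
    haveI := isGE_extZeroD v E m
    haveI : ((DCoh.RpushEt X q).obj ((DEt.extZeroD v).obj E)).IsGE m := SiteBase.RpushD.isGE_RD (EtCoh.push q) _ m
    exact (EtCoh.stalk ξ).map_isZero ((DerivedCategory.isGE_iff _ m).1 inferInstance r hm)
  have hs : ∀ (m : ℤ) (N : EtCoh.Ab U), EtCoh.IsTorsion N →
      IsIso ((0 : F ⟶ F).app ((singleFunctor (EtCoh.Ab U) m).obj N)) := fun m N hN => by
    suffices hz : IsZero (F.obj ((singleFunctor (EtCoh.Ab U) m).obj N)) from
      ⟨⟨hz.to_ _, hz.eq_of_src _ _, hz.eq_of_src _ _⟩⟩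
    let G := (EtShriek.extZero v).obj N
    let R := DCoh.RpushEt X q
    let H := DerivedCategory.homologyFunctor (EtCoh.Ab Y)
    let K₀ := (singleFunctor (EtCoh.Ab X) 0).obj G
    let eS : (DEt.extZeroD v).obj ((singleFunctor (EtCoh.Ab U) m).obj N) ≅ K₀⟦-m⟧ :=
      ((EtShriek.extZero v).mapDerivedCategorySingleFunctor m).app N ≪≫
        (((DerivedCategory.singleFunctors (EtCoh.Ab X)).shiftIso (-m) m 0 (by omega)).app G).symm
    obtain ⟨eR⟩ := SiteBase.RpushD.nonempty_RD_shift (EtCoh.push q) K₀ (-m)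
    let e : (H r).obj (R.obj ((DEt.extZeroD v).obj ((singleFunctor (EtCoh.Ab U) m).obj N))) ≅ (H (r - m)).obj (R.obj K₀) :=
      (H r).mapIso (R.mapIso eS ≪≫ eR) ≪≫ ((H 0).shiftIso (-m) r (r - m) (by omega)).app _
    refine IsZero.of_iso ?_ ((EtCoh.stalk ξ).mapIso e)
    rcases lt_or_ge (r - m) 0 with hlt | hge
    · haveI : (R.obj K₀).IsGE 0 := SiteBase.RpushD.isGE_RD (EtCoh.push q) _ 0
      exact (EtCoh.stalk ξ).map_isZero ((DerivedCategory.isGE_iff _ 0).1 inferInstance _ hlt)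
    obtain ⟨p, hp⟩ := Int.eq_ofNat_of_zero_le hge
    rw [hp]
    obtain ⟨e₁⟩ := BcMapZero.nonempty_H_rpush_single q G p
    refine IsZero.of_iso ?_ ((EtCoh.stalk ξ).mapIso e₁)
    have hG := isTorsion_extZero v N hN
    obtain ⟨e₂⟩ := nonempty_stalk_Rpush_geometric q ξ G hG p
    have hz : IsZero ((EtCoh.pull (pullback.fst q ξ)).obj G) := (isZero_iff_stalks _).2 fun Ω' _ _ z => by
      have h0 : IsZero ((EtCoh.stalk (z ≫ pullback.fst q ξ)).obj G) := by
        refine isZero_stalk_extZero v _ (fun ⟨t, ht⟩ => hξ ⟨g t, ?_⟩) N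
        have h1 : jd (g t) = q (v t) := (congr($w t)).symm
        refine h1.trans ((congrArg q ht).trans ?_)
        rw [← Scheme.Hom.comp_apply, Category.assoc, pullback.condition, ← Category.assoc, Scheme.Hom.comp_apply]
        exact congrArg ξ (Subsingleton.elim _ _)
      exact h0.of_iso ((stalkPullIso (pullback.fst q ξ) z).app G)
    haveI : Subsingleton (EtCoh.H (pullback q ξ) ((EtCoh.pull (pullback.fst q ξ)).obj G) p) :=
      AddCommGrpCat.subsingleton_of_isZero (G := (EtCoh.HF (pullback q ξ) p).obj _) (Functor.map_isZero _ hz)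
    exact (AddCommGrpCat.isZero_of_subsingleton _).of_iso e₂
  haveI hiso : IsIso ((0 : F ⟶ F).app M) :=
    WayOut12.isIso_app_of_isGE (C := fun N : EtCoh.Ab U => EtCoh.IsTorsion N) (0 : F ⟶ F)
      (fun a _ h => isTorsion_of_injective_map a h) (fun a _ h => BCCrit13.isTorsion_of_epi a h) r hF hF hFq hFq hs
      ((r - n).toNat + 1) n M inferInstance (by omega) hM
  rw [IsZero.iff_id_eq_zero]
  exact (IsIso.hom_inv_id ((0 : F ⟶ F).app M)).symm.trans zero_comp

/-- Extension by zero commutes with proper derived direct images on torsion objects. -/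
theorem nonempty_extZeroD_Rpush [IsProper g] (sq : IsPullback v g q jd)
    [DCoh.HasRpushEt X q] [DCoh.HasRpushEt U g] [PreservesFiniteLimits (EtShriek.extZero v)]
    [PreservesFiniteLimits (EtShriek.extZero jd)] (M : DCoh.DEt U) (n : ℤ) [M.IsGE n]
    (hM : ∀ i : ℤ, EtCoh.IsTorsion (DCoh.HDEt M i)) :
    Nonempty ((DEt.extZeroD jd).obj ((DCoh.RpushEt U g).obj M) ≅
      (DCoh.RpushEt X q).obj ((DEt.extZeroD v).obj M)) := by
  haveI := restrAlong_preservesFiniteColimits v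
  haveI := restrAlong_preservesFiniteColimits jd
  let H := (DCoh.RpushEt X q).obj ((DEt.extZeroD v).obj M)
  obtain ⟨a⟩ := nonempty_extZero_restr jd H (fun r Ω _ _ ξ hξ =>
    isZero_stalk_HDEt_Rpush_extZero v jd g q sq.w M n hM r Ω ξ hξ)
  obtain ⟨b⟩ := nonempty_restr_Rpush v jd g q sq ((DEt.extZeroD v).obj M)
  obtain ⟨c⟩ := nonempty_restr_extZero v M
  exact ⟨(DEt.extZeroD jd).mapIso ((DCoh.RpushEt U g).mapIso c.symm ≪≫ b.symm) ≪≫ a⟩

omit [IsProper q] in
/-- A dense open immersion over a proper morphism is the preimage. -/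
theorem isPullback_of_dense {P : Scheme.{u}} (v : U ⟶ P) [IsOpenImmersion v] [IsDominant v] (p : P ⟶ X)
    [IsProper p] (j : U ⟶ X) [IsOpenImmersion j] (w : v ≫ p = j) : IsPullback v (𝟙 U) p j := by
  let v' : U ⟶ pullback p j := pullback.lift v (𝟙 U) (by rw [w, Category.id_comp])
  have h1 : v' ≫ pullback.fst p j = v := pullback.lift_fst _ _ _
  have h2 : v' ≫ pullback.snd p j = 𝟙 U := pullback.lift_snd _ _ _
  haveI : IsOpenImmersion v' := by
    haveI : IsOpenImmersion (v' ≫ pullback.fst p j) := by rw [h1]; infer_instance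
    exact IsOpenImmersion.of_comp v' (pullback.fst p j)
  haveI : IsProper v' := by
    haveI : IsProper (v' ≫ pullback.snd p j) := by rw [h2]; infer_instance
    exact IsProper.of_comp v' (pullback.snd p j)
  haveI : Surjective v' := ⟨fun x => by
    by_contra hx
    let o := pullback.fst p j
    have ho : IsOpen ((Set.range v')ᶜ) := v'.isClosedMap.isClosed_range.isOpen_compl
    obtain ⟨_, ⟨z, hz, rfl⟩, t, ht⟩ := v.denseRange.exists_mem_open (o.isOpenEmbedding.isOpenMap _ ho)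
      ⟨o x, x, hx, rfl⟩ |>.elim fun t ht => (⟨v t, ht, t, rfl⟩ :
        ∃ y ∈ o '' (Set.range v')ᶜ, ∃ t, v t = y)
    refine hz ⟨t, o.isOpenEmbedding.injective ?_⟩
    rw [← Scheme.Hom.comp_apply, h1, ht]⟩
  haveI : IsIso v' := IsOpenImmersion.isIso v'
  exact IsPullback.of_iso_pullback ⟨by rw [w, Category.id_comp]⟩ (asIso v') h1 h2

/-- Comparison along a morphism of compactifications with dense open part. -/
theorem nonempty_Rshriek_of_map {f : X ⟶ Y} (c c' : DEt.Compactification f) [IsDominant c'.j]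
    (p : c'.Xbar ⟶ c.Xbar) [IsProper p] (w : c'.j ≫ p = c.j) (w' : p ≫ c.fbar = c'.fbar)
    [PreservesFiniteLimits (EtShriek.extZero c.j)] [DCoh.HasRpushEt c.Xbar c.fbar]
    [PreservesFiniteLimits (EtShriek.extZero c'.j)] [DCoh.HasRpushEt c'.Xbar c'.fbar]
    (K : DCoh.DEt X) (a : ℤ) [K.IsGE a] (ht : ∀ n : ℤ, EtCoh.IsTorsion (DCoh.HDEt K n)) :
    Nonempty ((DEt.Rshriek c').obj K ≅ (DEt.Rshriek c).obj K) := by
  haveI := hasRpushEt p
  haveI := hasRpushEt (𝟙 X)
  obtain ⟨e⟩ := nonempty_extZeroD_Rpush c'.j c.j (𝟙 X) p (isPullback_of_dense c'.j p c.j w) K a ht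
  obtain ⟨i⟩ := nonempty_Rpush_id K
  obtain ⟨b⟩ := nonempty_Rpush_comp p c.fbar c'.fbar w' ((DEt.extZeroD c'.j).obj K)
  exact ⟨b.symm ≪≫ (DCoh.RpushEt c.Xbar c.fbar).mapIso (e.symm ≪≫ (DEt.extZeroD c.j).mapIso i)⟩

/-- Two compactifications are dominated by one with dense open part. -/
theorem exists_dense_dominating [CompactSpace X] [QuasiSeparatedSpace Y] {f : X ⟶ Y} (c₁ c₂ : DEt.Compactification f) :
    ∃ (c : DEt.Compactification f) (p₁ : c.Xbar ⟶ c₁.Xbar) (p₂ : c.Xbar ⟶ c₂.Xbar),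
      IsDominant c.j ∧ IsProper p₁ ∧ IsProper p₂ ∧ c.j ≫ p₁ = c₁.j ∧ c.j ≫ p₂ = c₂.j ∧
        p₁ ≫ c₁.fbar = c.fbar ∧ p₂ ≫ c₂.fbar = c.fbar := by
  let P : Scheme.{u} := pullback c₁.fbar c₂.fbar
  let p : P ⟶ c₁.Xbar := pullback.fst _ _
  let q : P ⟶ c₂.Xbar := pullback.snd _ _
  let h : X ⟶ P := pullback.lift c₁.j c₂.j (by rw [c₁.fac, c₂.fac])
  have hp : h ≫ p = c₁.j := pullback.lift_fst _ _ _
  have hq : h ≫ q = c₂.j := pullback.lift_snd _ _ _
  have : IsImmersion (h ≫ p) := hp.symm ▸ inferInstance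
  have : IsImmersion h := IsImmersion.of_comp h p
  have : IsProper (p ≫ c₁.fbar) := inferInstance
  have : QuasiSeparatedSpace P := quasiSeparatedSpace_of_quasiSeparated (p ≫ c₁.fbar)
  have : QuasiCompact h := inferInstance
  have hI : h.toImage ≫ h.imageι = h := h.toImage_imageι
  refine ⟨⟨h.image, h.toImage, h.imageι ≫ p ≫ c₁.fbar, inferInstance, inferInstance, ?_⟩,
    h.imageι ≫ p, h.imageι ≫ q, (inferInstance : IsDominant h.toImage), inferInstance, inferInstance, ?_, ?_,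
    by simp, ?_⟩
  · rw [reassoc_of% hI, reassoc_of% hp, c₁.fac]
  · rw [reassoc_of% hI, hp]
  · rw [reassoc_of% hI, hq]
  · simp only [Category.assoc, p, q, pullback.condition]

/-- Derived direct images with proper support do not depend on the compactification. -/
theorem nonempty_Rshriek_congr [CompactSpace X] [QuasiSeparatedSpace Y] {f : X ⟶ Y}
    (c₁ c₂ : DEt.Compactification f)
    [PreservesFiniteLimits (EtShriek.extZero c₁.j)] [DCoh.HasRpushEt c₁.Xbar c₁.fbar]
    [PreservesFiniteLimits (EtShriek.extZero c₂.j)] [DCoh.HasRpushEt c₂.Xbar c₂.fbar]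
    (K : DCoh.DEt X) (a : ℤ) [K.IsGE a] (ht : ∀ n : ℤ, EtCoh.IsTorsion (DCoh.HDEt K n)) :
    Nonempty ((DEt.Rshriek c₁).obj K ≅ (DEt.Rshriek c₂).obj K) := by
  obtain ⟨c, p₁, p₂, _, _, _, w₁, w₂, w₁', w₂'⟩ := exists_dense_dominating c₁ c₂
  haveI := hasRpushEt c.fbar
  haveI : PreservesFiniteLimits (EtShriek.extZero c.j) := EtFound.extZero_preservesFiniteLimits c.j
  obtain ⟨e₁⟩ := nonempty_Rshriek_of_map c₁ c p₁ w₁ w₁' K a ht
  obtain ⟨e₂⟩ := nonempty_Rshriek_of_map c₂ c p₂ w₂ w₂' K a ht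
  exact ⟨e₁.symm ≪≫ e₂⟩

end Groth.Agent.ShriekD12
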