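import Groth.Agent.AModX.Res
import Groth.Agent.H23.Frame
import Mathlib.AlgebraicGeometry.Modules.Sheaf
import Mathlib.AlgebraicGeometry.Limits

/-!
Pushing forward along a morphism that is the identity on each piece of a finite disjoint union of copies of the
target gives the direct sum of the restrictions to the pieces.
-/

set_option autoImplicit false
set_option linter.style.haveILetI false
set_option backward.isDefEq.respectTransparency false
set_option backward.isDefEq.respectTransparency.types false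
set_option maxHeartbeats 1000000

universe u

open CategoryTheory CategoryTheory.Limits AlgebraicGeometry TopologicalSpace Opposite

noncomputable section

namespace Groth.Agent.SigmaPushForward

variable {Z W : Scheme.{u}} {J : Type u} (i : J → (W ⟶ Z)) [∀ a, IsOpenImmersion (i a)] (f : Z ⟶ W)
  (hf : ∀ a, i a ≫ f = 𝟙 W) (G : Z.Modules)

include hf

/-- The projection to a piece. -/
def proj (a : J) : (Scheme.Modules.pushforward f).obj G ⟶ (Scheme.Modules.restrictFunctor (i a)).obj G :=
  (Scheme.Modules.pushforward f).map ((Scheme.Modules.restrictAdjunction (i a)).unit.app G) ≫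
    (Scheme.Modules.pushforwardComp (i a) f).hom.app _ ≫
    (Scheme.Modules.pushforwardCongr (hf a)).hom.app _ ≫
    (Scheme.Modules.pushforwardId W).hom.app _

theorem image_le (a : J) (V : W.Opens) : i a ''ᵁ V ≤ f ⁻¹ᵁ V := by
  rintro z ⟨w, hw, rfl⟩
  show f (i a w) ∈ V
  rw [← Scheme.Hom.comp_apply, hf a]
  exact hw

theorem proj_app (a : J) (V : W.Opens) (x : Γ(G, f ⁻¹ᵁ V)) :
    (proj i f hf G a).app V x = AModX.res G (image_le i f hf a V) x := by
  have hV : V = i a ⁻¹ᵁ (f ⁻¹ᵁ V) := by rw [← Scheme.Hom.comp_preimage, hf a]; rfl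
  show G.presheaf.map ((i a).opensFunctor.map (eqToHom hV)).op
    (G.presheaf.map (homOfLE ((i a).image_preimage_le (f ⁻¹ᵁ V))).op x) = _
  rw [← ConcreteCategory.comp_apply, ← G.presheaf.map_comp]
  rfl

variable [Finite J] (hcov : ∀ z : Z, ∃ a w, i a w = z)
  (hdisj : ∀ a b, a ≠ b → ∀ w w', i a w ≠ i b w')
include hcov hdisj

/-- The pushforward is the sum of the restrictions. -/
theorem nonempty_iso :
    Nonempty ((Scheme.Modules.pushforward f).obj G ≅
      ∐ fun a => (Scheme.Modules.restrictFunctor (i a)).obj G) := by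
  classical
  haveI := Fintype.ofFinite J
  let R : J → W.Modules := fun a => (Scheme.Modules.restrictFunctor (i a)).obj G
  haveI : HasFiniteBiproducts W.Modules := HasFiniteBiproducts.of_hasFiniteProducts
  haveI : HasBiproduct R := HasBiproductsOfShape.has_biproduct R
  let ψ : (Scheme.Modules.pushforward f).obj G ⟶ ⨁ R := biproduct.lift (proj i f hf G)
  have hψ : ∀ (a : J) (V : W.Opens) (x : Γ(G, f ⁻¹ᵁ V)),
      (biproduct.π R a).app V (ψ.app V x) = AModX.res G (image_le i f hf a V) x := fun a V x => by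
    rw [← proj_app i f hf G a V x]
    exact congrArg (fun φ : (Scheme.Modules.pushforward f).obj G ⟶ R a => φ.app V x) (biproduct.lift_π _ a)
  have hext : ∀ (V : W.Opens) (w : Γ((⨁ R), V)), (∀ a, (biproduct.π R a).app V w = 0) → w = 0 :=
    fun V w h => by
      have h1 : (∑ a, biproduct.π R a ≫ biproduct.ι R a).app V w = w :=
        congrArg (fun φ : (⨁ R) ⟶ (⨁ R) => φ.app V w)
          (biproduct.hom_ext' _ _ fun j => by
            rw [Preadditive.comp_sum, Finset.sum_eq_single j, ← Category.assoc, biproduct.ι_π_self,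
              Category.id_comp, Category.comp_id]
            · intro b _ hb
              rw [← Category.assoc, biproduct.ι_π_ne R (Ne.symm hb), Limits.zero_comp]
            · intro h; exact absurd (Finset.mem_univ j) h : (∑ a, biproduct.π R a ≫ biproduct.ι R a) = 𝟙 (⨁ R))
      rw [← h1, H23.Frame.app_sum]
      refine Finset.sum_eq_zero fun a _ => ?_
      show (biproduct.ι R a).app V ((biproduct.π R a).app V w) = 0
      rw [h a, map_zero]
  suffices IsIso ψ from ⟨asIso ψ ≪≫ biproduct.isoCoproduct R⟩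
  refine Scheme.Modules.Hom.isIso_iff_isIso_app.mpr fun V => ?_
  rw [ConcreteCategory.isIso_iff_bijective]
  have hcov' : f ⁻¹ᵁ V ≤ ⨆ a, i a ''ᵁ V := fun z hz => by
    obtain ⟨a, w, rfl⟩ := hcov z
    refine Opens.mem_iSup.2 ⟨a, w, ?_, rfl⟩
    change f (i a w) ∈ V at hz
    rw [← Scheme.Hom.comp_apply, hf a] at hz
    exact hz
  refine ⟨(injective_iff_map_eq_zero _).2 fun x hx => ?_, fun w => ?_⟩
  · refine TopCat.Sheaf.eq_of_locally_eq' (⟨G.presheaf, Scheme.Modules.isSheaf G⟩ : TopCat.Sheaf Ab.{u} Z)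
      (fun a => i a ''ᵁ V) (f ⁻¹ᵁ V) (fun a => homOfLE (image_le i f hf a V)) hcov' x 0 fun a => ?_
    refine ((hψ a V x).symm.trans ?_).trans (map_zero _).symm
    rw [hx]; exact map_zero _
  · obtain ⟨x, hx, -⟩ := TopCat.Sheaf.existsUnique_gluing'
      (⟨G.presheaf, Scheme.Modules.isSheaf G⟩ : TopCat.Sheaf Ab.{u} Z)
      (fun a => i a ''ᵁ V) (f ⁻¹ᵁ V) (fun a => homOfLE (image_le i f hf a V)) hcov'
      (fun a => ((biproduct.π R a).app V w : Γ(G, i a ''ᵁ V))) fun a b => by
        by_cases hab : a = b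
        · subst hab; rfl
        · haveI : Subsingleton Γ(G, i a ''ᵁ V ⊓ i b ''ᵁ V) := ⟨fun s t => by
            refine TopCat.Sheaf.eq_of_locally_eq' (⟨G.presheaf, Scheme.Modules.isSheaf G⟩ : TopCat.Sheaf Ab.{u} Z)
              (fun e : PEmpty.{u + 1} => PEmpty.elim e) _ (fun e => PEmpty.elim e) (fun z hz => ?_) s t fun e => PEmpty.elim e
            obtain ⟨⟨w₁, -, h₁⟩, ⟨w₂, -, h₂⟩⟩ := hz
            exact absurd (h₁.trans h₂.symm) (hdisj a b hab w₁ w₂)⟩
          exact Subsingleton.elim _ _
    refine ⟨x, sub_eq_zero.1 (hext V _ fun a => ?_)⟩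
    rw [map_sub, sub_eq_zero]
    exact (hψ a V x).trans (hx a)

end Groth.Agent.SigmaPushForward
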