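import Groth.Agent.LciSmooth16.Alg
import Mathlib.RingTheory.RingHom.StandardSmooth
import Mathlib.RingTheory.RingHom.Locally
import Mathlib.RingTheory.Kaehler.TensorProduct
import Mathlib.RingTheory.LocalRing.Module
import Mathlib.RingTheory.Support
import Mathlib.RingTheory.FinitePresentation
import Mathlib.RingTheory.Smooth.StandardSmoothCotangent

/-!
Local equations for a lift of a smooth closed subscheme: the algebra at one prime.

Let `A → B` be smooth, `Bb = A' ⊗ B` its restriction to a quotient `A'` of `A`, and `B'` a quotient of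
`Bb` which is smooth over `A'`. Elements of `ker (B → B')` whose differentials form a basis of the
conormal space at a prime cut out a smooth algebra over `A` there and generate the kernel modulo `I B`.
-/

set_option autoImplicit false
set_option backward.isDefEq.respectTransparency false
set_option backward.isDefEq.respectTransparency.types false

universe u

open TensorProduct

noncomputable section

namespace Groth.Agent.SmoothLift12

/-- The fibres of the differentials of a locally standard smooth algebra of relative dimension `n`. -/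
theorem finrank_residue_kaehler_of_locally {A B : Type u} [CommRing A] [CommRing B] [Algebra A B]
    (n : ℕ) (h : RingHom.Locally (RingHom.IsStandardSmoothOfRelativeDimension n) (algebraMap A B))
    (P : Ideal B) [P.IsPrime] :
    Module.finrank P.ResidueField (P.ResidueField ⊗[B] Ω[B⁄A]) = n := by
  obtain ⟨s, hs, hs'⟩ := h
  obtain ⟨t, ht, htP⟩ : ∃ t ∈ s, t ∉ P := by
    by_contra! hc
    exact ‹P.IsPrime›.ne_top (top_le_iff.1 (hs ▸ Ideal.span_le.2 hc))
  let Bt := Localization.Away t
  let K := P.ResidueField
  have hu : IsUnit (algebraMap B K t) :=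
    IsUnit.mk0 _ fun h0 => htP (Ideal.algebraMap_residueField_eq_zero.1 h0)
  letI : Algebra Bt K := (IsLocalization.Away.lift t hu).toAlgebra
  haveI : IsScalarTower B Bt K :=
    IsScalarTower.of_algebraMap_eq fun x => (IsLocalization.Away.lift_eq t hu x).symm
  haveI : Algebra.IsStandardSmoothOfRelativeDimension n A Bt :=
    (RingHom.isStandardSmoothOfRelativeDimension_algebraMap n).1
      (by rw [IsScalarTower.algebraMap_eq A B Bt]; exact hs' t ht)
  haveI : Algebra.IsStandardSmooth A Bt :=
    Algebra.IsStandardSmoothOfRelativeDimension.isStandardSmooth n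
  haveI : Algebra.FormallyEtale B Bt := .of_isLocalization (Submonoid.powers t)
  haveI : Nontrivial Bt := (algebraMap Bt K).domain_nontrivial
  let e : K ⊗[Bt] Ω[Bt⁄A] ≃ₗ[K] K ⊗[B] Ω[B⁄A] :=
    AlgebraTensorModule.congr (LinearEquiv.refl K K)
        (KaehlerDifferential.tensorKaehlerEquivOfFormallyEtale A B Bt).symm ≪≫ₗ
      AlgebraTensorModule.cancelBaseChange B Bt K K Ω[B⁄A]
  rw [← e.finrank_eq, Module.finrank_baseChange]
  have := Algebra.IsStandardSmoothOfRelativeDimension.rank_kaehlerDifferential (R := A) (S := Bt) n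
  simp [Module.finrank, this]

section Point

variable {A B A' Bb B' : Type u} [CommRing A] [CommRing B] [CommRing A'] [CommRing Bb] [CommRing B']
  [Algebra A B] [Algebra A A'] [Algebra A Bb] [Algebra A' Bb] [Algebra B Bb]
  [Algebra A B'] [Algebra A' B'] [Algebra B B'] [Algebra Bb B']
  [IsScalarTower A B Bb] [IsScalarTower A A' Bb] [IsScalarTower A B B'] [IsScalarTower A A' B']
  [IsScalarTower B Bb B'] [IsScalarTower A' Bb B']
  (P : Ideal B') [P.IsPrime]

variable (A' Bb) in
/-- The differential at `P` of the image in `Bb`. -/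
def delta (x : B) : P.ResidueField ⊗[Bb] Ω[Bb⁄A'] :=
  (1 : P.ResidueField) ⊗ₜ[Bb] KaehlerDifferential.D A' Bb (algebraMap B Bb x)

omit [Algebra A B] [Algebra A A'] [Algebra A Bb] [Algebra A B'] [IsScalarTower A B Bb]
  [IsScalarTower A A' Bb] [IsScalarTower A B B'] [IsScalarTower A A' B'] [IsScalarTower A' Bb B'] in
theorem delta_mul {x : B} (hx : algebraMap B B' x = 0) (b : B) :
    delta A' Bb P (b * x) = algebraMap B P.ResidueField b • delta A' Bb P x := by
  have h0 : algebraMap Bb P.ResidueField (algebraMap B Bb x) = 0 := by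
    rw [IsScalarTower.algebraMap_apply Bb B' P.ResidueField, ← IsScalarTower.algebraMap_apply B Bb B',
      hx, map_zero]
  simp only [delta, map_mul, Derivation.leibniz, TensorProduct.tmul_add, TensorProduct.tmul_smul,
    TensorProduct.smul_tmul', Algebra.smul_def (R := Bb) (A := P.ResidueField), mul_one, h0,
    TensorProduct.zero_tmul, add_zero, smul_eq_mul]
  rw [← IsScalarTower.algebraMap_apply B Bb P.ResidueField]

omit [Algebra A B] [Algebra A A'] [Algebra A Bb] [Algebra A B'] [IsScalarTower A B Bb]
  [IsScalarTower A A' Bb] [IsScalarTower A B B'] [IsScalarTower A A' B'] [IsScalarTower B Bb B']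
  [Algebra B B'] [IsScalarTower A' Bb B'] [Algebra A' B'] in
theorem delta_add (x y : B) : delta A' Bb P (x + y) = delta A' Bb P x + delta A' Bb P y := by
  simp [delta, TensorProduct.tmul_add]

variable (hBb : Function.Surjective (algebraMap B Bb)) (hB' : Function.Surjective (algebraMap B B'))

include hBb hB' in
omit [Algebra A B] [Algebra A A'] [Algebra A Bb] [Algebra A B'] [IsScalarTower A B Bb]
  [IsScalarTower A A' Bb] [IsScalarTower A B B'] [IsScalarTower A A' B'] in
theorem finrank_span_delta {n e : ℕ} [Algebra.IsStandardSmoothOfRelativeDimension n A' Bb]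
    [Algebra.FinitePresentation A' B']
    (he : Module.finrank P.ResidueField (P.ResidueField ⊗[B'] Ω[B'⁄A']) = e) :
    e + Module.finrank P.ResidueField (Submodule.span P.ResidueField
      (delta A' Bb P '' (RingHom.ker (algebraMap B B') : Set B))) = n := by
  let K := P.ResidueField
  haveI : Algebra.IsStandardSmooth A' Bb :=
    Algebra.IsStandardSmoothOfRelativeDimension.isStandardSmooth n
  have hsurj : Function.Surjective (algebraMap Bb B') := fun y => by
    obtain ⟨x, rfl⟩ := hB' y
    exact ⟨algebraMap B Bb x, (IsScalarTower.algebraMap_apply B Bb B' x).symm⟩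
  haveI : Nontrivial Bb := (algebraMap Bb K).domain_nontrivial
  have hn : Module.finrank K (K ⊗[Bb] Ω[Bb⁄A']) = n := by
    rw [Module.finrank_baseChange]
    have := Algebra.IsStandardSmoothOfRelativeDimension.rank_kaehlerDifferential (R := A') (S := Bb) n
    simp [Module.finrank, this]
  have hfg : (RingHom.ker (algebraMap Bb B')).FG :=
    Algebra.FinitePresentation.ker_fG_of_surjective (IsScalarTower.toAlgHom A' Bb B') hsurj
  obtain ⟨c, f, hf⟩ := Submodule.fg_iff_exists_fin_generating_family.1 hfg
  have hspan : Submodule.span K (delta A' Bb P '' (RingHom.ker (algebraMap B B') : Set B)) =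
      Submodule.span K (Set.range fun i => (1 : K) ⊗ₜ[Bb] KaehlerDifferential.D A' Bb (f i)) := by
    refine le_antisymm (Submodule.span_le.2 ?_) (Submodule.span_le.2 ?_)
    · rintro _ ⟨x, hx, rfl⟩
      have hx' : algebraMap B Bb x ∈ RingHom.ker (algebraMap Bb B') := by
        rw [RingHom.mem_ker, ← IsScalarTower.algebraMap_apply B Bb B']
        exact hx
      rw [← hf] at hx'
      obtain ⟨a, ha⟩ := Ideal.mem_span_range_iff_exists_fun.1 hx'
      rw [SetLike.mem_coe, delta, ← ha, map_sum, TensorProduct.tmul_sum]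
      refine sum_mem fun i _ => ?_
      have hfi : f i ∈ RingHom.ker (algebraMap Bb B') := hf.le (Submodule.subset_span ⟨i, rfl⟩)
      have h0 : algebraMap Bb K (f i) = 0 := by
        rw [IsScalarTower.algebraMap_apply Bb B' K, RingHom.mem_ker.1 hfi, map_zero]
      rw [Derivation.leibniz, TensorProduct.tmul_add, TensorProduct.tmul_smul, TensorProduct.tmul_smul,
        ← algebraMap_smul K (f i), h0, zero_smul, add_zero, ← algebraMap_smul K (a i)]
      exact Submodule.smul_mem _ _ (Submodule.subset_span ⟨i, rfl⟩)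
    · rintro _ ⟨i, rfl⟩
      obtain ⟨x, hx⟩ := hBb (f i)
      refine Submodule.subset_span ⟨x, ?_, by rw [delta, hx]⟩
      rw [SetLike.mem_coe, RingHom.mem_ker, IsScalarTower.algebraMap_apply B Bb B', hx]
      exact RingHom.mem_ker.1 (hf.le (Submodule.subset_span ⟨i, rfl⟩))
  rw [hspan, ← he, ← hn]
  exact LciSmooth16.finrank_add hsurj f hf.symm K

variable {r : ℕ} (g : Fin r → B) (hg : ∀ i, algebraMap B B' (g i) = 0)
  (hli : LinearIndependent P.ResidueField (fun i => delta A' Bb P (g i)))

include hg hli in
omit [IsScalarTower A' Bb B'] in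
/-- The quotient by the equations is smooth over `A` at the prime. -/
theorem isSmoothAt_quotient [Algebra.Smooth A B] (C : Type u) [CommRing C] [Algebra A C] [Algebra B C]
    [Algebra C B'] [IsScalarTower A B C] [IsScalarTower B C B'] (hC : Function.Surjective (algebraMap B C))
    (hker : RingHom.ker (algebraMap B C) = Ideal.span (Set.range g)) :
    Algebra.IsSmoothAt A (P.comap (algebraMap C B')) := by
  let K := P.ResidueField
  let Q := P.comap (algebraMap C B')
  let Kc := Q.ResidueField
  letI : Algebra Kc K := (Ideal.ResidueField.map Q P (algebraMap C B') rfl).toAlgebra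
  haveI : IsScalarTower C Kc K := IsScalarTower.of_algebraMap_eq fun c => by
    rw [IsScalarTower.algebraMap_apply C B' K]
    exact (Ideal.ResidueField.map_algebraMap Q P (algebraMap C B') rfl c).symm
  haveI : IsScalarTower B Kc K := IsScalarTower.of_algebraMap_eq fun b => by
    rw [IsScalarTower.algebraMap_apply B C Kc, ← IsScalarTower.algebraMap_apply C Kc K,
      IsScalarTower.algebraMap_apply B B' K, IsScalarTower.algebraMap_apply B C B',
      IsScalarTower.algebraMap_apply C B' K]
  refine (LciSmooth16.isSmoothAt_iff_linearIndependent hC g hker Q ?_).2 ?_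
  · intro a ha i
    have h0 : ∑ j, algebraMap B K (a j) • delta A' Bb P (g j) = 0 := by
      rw [← Finset.sum_congr rfl fun j _ => delta_mul P (hg j) (a j)]
      simp only [delta]
      rw [← TensorProduct.tmul_sum, ← map_sum, ← map_sum, ha, map_zero, map_zero, TensorProduct.tmul_zero]
    have h1 := Fintype.linearIndependent_iff.1 hli _ h0 i
    rw [IsScalarTower.algebraMap_apply B B' K, Ideal.algebraMap_residueField_eq_zero,
      IsScalarTower.algebraMap_apply B C B'] at h1
    exact h1
  · let f : Ω[B⁄A] →ₗ[B] K ⊗[Bb] Ω[Bb⁄A'] :=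
      ((TensorProduct.mk Bb K Ω[Bb⁄A'] 1).restrictScalars B).comp (KaehlerDifferential.map A A' B Bb)
    let L := LinearMap.liftBaseChange Kc f
    refine LinearIndependent.of_comp L ?_
    have hfun : (L ∘ fun i => (1 : Kc) ⊗ₜ[B] KaehlerDifferential.D A B (g i)) =
        fun i => delta A' Bb P (g i) := by
      funext i
      simp [L, f, delta, KaehlerDifferential.map_D]
    rw [hfun]
    refine hli.restrict_scalars fun a b h => (algebraMap Kc K).injective ?_
    have h' : a • (1 : K) = b • (1 : K) := h
    rwa [Algebra.smul_def, Algebra.smul_def, mul_one, mul_one] at h'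

include hBb hB' hg hli in
omit [Algebra A A'] [IsScalarTower A A' Bb] [IsScalarTower A A' B'] [Algebra A B'] [IsScalarTower A B B'] in
/-- The kernel is generated near the prime by the equations and the kernel of `B → Bb`. -/
theorem exists_mul_mem_sup {n e : ℕ} [Algebra.IsStandardSmoothOfRelativeDimension n A' Bb]
    [Algebra.Smooth A' B'] (hre : e + r = n)
    (he : Module.finrank P.ResidueField (P.ResidueField ⊗[B'] Ω[B'⁄A']) = e) :
    ∃ h : B, algebraMap B B' h ∉ P ∧ ∀ x, algebraMap B B' x = 0 →
      h * x ∈ RingHom.ker (algebraMap B Bb) ⊔ Ideal.span (Set.range g) := by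
  let K := P.ResidueField
  haveI : Algebra.IsStandardSmooth A' Bb :=
    Algebra.IsStandardSmoothOfRelativeDimension.isStandardSmooth n
  have hsurj : Function.Surjective (algebraMap Bb B') := fun y => by
    obtain ⟨x, rfl⟩ := hB' y
    exact ⟨algebraMap B Bb x, (IsScalarTower.algebraMap_apply B Bb B' x).symm⟩
  let J := RingHom.ker (algebraMap Bb B')
  have hfg : J.FG :=
    Algebra.FinitePresentation.ker_fG_of_surjective (IsScalarTower.toAlgHom A' Bb B') hsurj
  have hspan : Submodule.span K (Set.range fun i => delta A' Bb P (g i)) =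
      Submodule.span K (delta A' Bb P '' (RingHom.ker (algebraMap B B') : Set B)) := by
    haveI : Module.Finite K (K ⊗[Bb] Ω[Bb⁄A']) := inferInstance
    refine Submodule.eq_of_le_of_finrank_le (Submodule.span_mono ?_) ?_
    · rintro _ ⟨i, rfl⟩
      exact ⟨g i, hg i, rfl⟩
    · rw [finrank_span_eq_card hli, Fintype.card_fin]
      have h1 := finrank_span_delta (n := n) P hBb hB' he
      change e + Module.finrank K (Submodule.span K (delta A' Bb P '' (RingHom.ker (algebraMap B B') : Set B))) = n at h1
      omega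
  haveI : Module.Finite Bb J := Module.Finite.iff_fg.2 hfg
  let N : Submodule Bb J := Submodule.comap (Submodule.subtype J)
    (Ideal.span (Set.range fun i => algebraMap B Bb (g i)))
  let M := J ⧸ N
  have hJK : ∀ a ∈ J, algebraMap Bb K a = 0 := fun a ha => by
    rw [IsScalarTower.algebraMap_apply Bb B' K, RingHom.mem_ker.1 ha, map_zero]
  let mkM : J →ₗ[Bb] K ⊗[Bb] M := (TensorProduct.mk Bb K M 1).comp N.mkQ
  let ψ : J.Cotangent →ₗ[Bb] K ⊗[Bb] M := Submodule.liftQ _ mkM (by
    rw [Submodule.smul_le]
    intro a ha y _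
    rw [LinearMap.mem_ker, map_smul]
    show a • ((1 : K) ⊗ₜ[Bb] N.mkQ y) = 0
    rw [TensorProduct.smul_tmul', Algebra.smul_def, hJK a ha, zero_mul, TensorProduct.zero_tmul])
  obtain ⟨l, hl⟩ := (Algebra.FormallySmooth.iff_split_injection hsurj).mp
    (inferInstance : Algebra.FormallySmooth A' B')
  let Λ : K ⊗[Bb] Ω[Bb⁄A'] →ₗ[K] K ⊗[Bb] M :=
    LinearMap.liftBaseChange K (ψ.comp (l.comp (TensorProduct.mk Bb B' Ω[Bb⁄A'] 1)))
  have hΛ : ∀ z : J, Λ ((1 : K) ⊗ₜ[Bb] KaehlerDifferential.D A' Bb z) = (1 : K) ⊗ₜ[Bb] N.mkQ z := by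
    intro z
    simp only [Λ, LinearMap.liftBaseChange_tmul, one_smul]
    show ψ (l ((1 : B') ⊗ₜ[Bb] KaehlerDifferential.D A' Bb (z : Bb))) = _
    rw [← KaehlerDifferential.kerCotangentToTensor_toCotangent A' Bb B' z]
    exact congrArg ψ (LinearMap.congr_fun hl (J.toCotangent z))
  have hzero : Submodule.span K (Set.range fun i => delta A' Bb P (g i)) ≤ LinearMap.ker Λ := by
    rw [Submodule.span_le]
    rintro _ ⟨i, rfl⟩
    have hgi : algebraMap B Bb (g i) ∈ J := by
      rw [RingHom.mem_ker, ← IsScalarTower.algebraMap_apply B Bb B', hg i]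
    show Λ ((1 : K) ⊗ₜ[Bb] KaehlerDifferential.D A' Bb (algebraMap B Bb (g i))) = 0
    have hN : N.mkQ ⟨_, hgi⟩ = 0 :=
      (Submodule.Quotient.mk_eq_zero N).2
        (Ideal.subset_span (Set.mem_range_self i) :
          algebraMap B Bb (g i) ∈ Ideal.span (Set.range fun i => algebraMap B Bb (g i)))
    rw [hΛ ⟨_, hgi⟩, hN, TensorProduct.tmul_zero]
  have hsub : Subsingleton (K ⊗[Bb] M) := by
    refine subsingleton_of_forall_eq 0 fun w => ?_
    induction w with
    | zero => rfl
    | add a b ha hb => rw [ha, hb, add_zero]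
    | tmul k m =>
      obtain ⟨z, rfl⟩ := N.mkQ_surjective m
      obtain ⟨x, hx⟩ := hBb (z : Bb)
      have hxk : x ∈ RingHom.ker (algebraMap B B') := by
        rw [RingHom.mem_ker, IsScalarTower.algebraMap_apply B Bb B', hx]
        exact RingHom.mem_ker.1 z.2
      have h1 : Λ (delta A' Bb P x) = 0 :=
        hzero (hspan.ge (Submodule.subset_span ⟨x, hxk, rfl⟩))
      simp only [delta, hx] at h1
      rw [hΛ] at h1
      have h2 : k ⊗ₜ[Bb] N.mkQ z = k • ((1 : K) ⊗ₜ[Bb] N.mkQ z) := by
        rw [TensorProduct.smul_tmul', smul_eq_mul, mul_one]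
      rw [h2, h1, smul_zero]
  let q : Ideal Bb := P.comap (algebraMap Bb B')
  letI : Algebra q.ResidueField K := (Ideal.ResidueField.map q P (algebraMap Bb B') rfl).toAlgebra
  haveI : IsScalarTower Bb q.ResidueField K := IsScalarTower.of_algebraMap_eq fun c => by
    rw [IsScalarTower.algebraMap_apply Bb B' K]
    exact (Ideal.ResidueField.map_algebraMap q P (algebraMap Bb B') rfl c).symm
  have hns : (⟨q, inferInstance⟩ : PrimeSpectrum Bb) ∉ Module.support Bb M := by
    rw [Module.mem_support_iff_nontrivial_residueField_tensorProduct]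
    intro hnt
    haveI : Module.Free q.ResidueField K := Module.Free.of_divisionRing _ _
    haveI : Module.FaithfullyFlat q.ResidueField K := Module.FaithfullyFlat.instOfNontrivialOfFree _ _
    have h1 : Nontrivial (K ⊗[q.ResidueField] (q.ResidueField ⊗[Bb] M)) :=
      Module.FaithfullyFlat.lTensor_nontrivial q.ResidueField K (q.ResidueField ⊗[Bb] M)
    exact not_subsingleton _
      (AlgebraTensorModule.cancelBaseChange Bb q.ResidueField K K M).toEquiv.subsingleton
  rw [Module.support_eq_zeroLocus, PrimeSpectrum.mem_zeroLocus, Set.not_subset] at hns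
  obtain ⟨h', hann, hh'⟩ := hns
  obtain ⟨h, rfl⟩ := hBb h'
  refine ⟨h, fun hc => hh' ?_, fun x hx => ?_⟩
  · show algebraMap Bb B' (algebraMap B Bb h) ∈ P
    rwa [← IsScalarTower.algebraMap_apply B Bb B']
  · have hxJ : algebraMap B Bb x ∈ J := by
      rw [RingHom.mem_ker, ← IsScalarTower.algebraMap_apply B Bb B', hx]
    have h1 := Module.mem_annihilator.1 hann (N.mkQ ⟨_, hxJ⟩)
    rw [← map_smul, Submodule.mkQ_apply, Submodule.Quotient.mk_eq_zero] at h1
    have h2 : algebraMap B Bb (h * x) ∈ Ideal.span (Set.range fun i => algebraMap B Bb (g i)) := by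
      rw [map_mul]
      exact h1
    have h3 : Ideal.span (Set.range fun i => algebraMap B Bb (g i)) =
        (Ideal.span (Set.range g)).map (algebraMap B Bb) := by
      rw [Ideal.map_span, ← Set.range_comp]
      rfl
    rw [h3, Ideal.mem_map_iff_of_surjective _ hBb] at h2
    obtain ⟨y, hy, hyx⟩ := h2
    rw [← sub_add_cancel (h * x) y]
    exact Submodule.add_mem_sup (by rw [RingHom.mem_ker, map_sub, hyx, sub_self]) hy

end Point

end Groth.Agent.SmoothLift12
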