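import Mathlib.LinearAlgebra.LinearIndependent.Lemmas
import Mathlib.LinearAlgebra.Dimension.Constructions
import Mathlib.RingTheory.Ideal.Maps

/-!
Choosing elements which are independent at finitely many primes.
-/

set_option autoImplicit false

universe u v w

namespace Groth.Agent.SmoothLift12

open Submodule

variable {R : Type u} [CommRing R] {J : Type v} [AddCommGroup J] [Module R J]

/-- A module is not covered by finitely many proper submodules saturated at distinct primes. -/
theorem exists_forall_notMem {ι : Type w} (p : ι → Ideal R) [∀ i, (p i).IsPrime] (W : ι → Submodule R J)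
    (hkill : ∀ i, ∀ a ∈ p i, ∀ x : J, a • x ∈ W i)
    (hsat : ∀ i, ∀ a, a ∉ p i → ∀ x : J, a • x ∈ W i → x ∈ W i)
    (hne : ∀ i, ∃ x, x ∉ W i) (hinj : Function.Injective p) (s : Finset ι) :
    ∃ x, ∀ i ∈ s, x ∉ W i := by
  classical
  induction s using Finset.strongInduction with
  | H s ih =>
    rcases s.eq_empty_or_nonempty with rfl | hs
    · exact ⟨0, by simp⟩
    obtain ⟨k, hk, hmin⟩ := s.exists_minimalFor p hs
    obtain ⟨x, hx⟩ := ih (s.erase k) (Finset.erase_ssubset hk)
    by_cases hxk : x ∈ W k
    · obtain ⟨y, hy⟩ := hne k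
      have h : ∀ i ∈ s.erase k, ∃ a ∈ p i, a ∉ p k := fun i hi => by
        by_contra! hle
        exact (Finset.mem_erase.1 hi).1 (hinj (le_antisymm hle (hmin (Finset.mem_erase.1 hi).2 hle)))
      choose a ha ha' using h
      let b := ∏ i ∈ (s.erase k).attach, a i.1 i.2
      have hbk : b ∉ p k := fun hb => by
        obtain ⟨i, -, hi⟩ := ((inferInstance : (p k).IsPrime).prod_mem_iff).1 hb
        exact ha' i.1 i.2 hi
      refine ⟨x + b • y, fun i hi hc => ?_⟩
      rcases eq_or_ne i k with rfl | hik
      · exact hy (hsat i b hbk y ((add_mem_cancel_left hxk).1 hc))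
      · have hi' : i ∈ s.erase k := Finset.mem_erase.2 ⟨hik, hi⟩
        have hb : b ∈ p i := (p i).mem_of_dvd (Finset.dvd_prod_of_mem (fun j : s.erase k => a j.1 j.2)
          (Finset.mem_attach _ ⟨i, hi'⟩)) (ha i hi')
        exact hx i hi' ((add_mem_cancel_right (hkill i b hb y)).1 hc)
    · refine ⟨x, fun i hi => ?_⟩
      rcases eq_or_ne i k with rfl | hik
      · exact hxk
      · exact hx i (Finset.mem_erase.2 ⟨hik, hi⟩)

/-- Elements with independent images at finitely many primes, and avoiding finitely many others. -/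
theorem exists_family {ι κ : Type w} [Finite ι] [Finite κ] (K : ι → Type u) [∀ i, Field (K i)]
    [∀ i, Algebra R (K i)] (V : ι → Type v) [∀ i, AddCommGroup (V i)] [∀ i, Module (K i) (V i)]
    [∀ i, Module R (V i)] [∀ i, IsScalarTower R (K i) (V i)] (φ : ∀ i, J →ₗ[R] V i)
    (J' : Submodule R R) (ε : J →ₗ[R] J') (q : κ → Ideal R) [∀ k, (q k).IsPrime]
    (hinj : Function.Injective (Sum.elim (fun i => RingHom.ker (algebraMap R (K i))) q))
    (r : ℕ) (hd : ∀ i, r ≤ Module.finrank (K i) (span (K i) (Set.range (φ i))))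
    (hq : 0 < r → ∀ k, ∃ x, (ε x : R) ∉ q k) :
    ∀ m ≤ r, ∃ g : Fin m → J, (∀ i, LinearIndependent (K i) (fun j => φ i (g j))) ∧
      ∀ k, ∀ j, (ε (g j) : R) ∉ q k := by
  classical
  cases nonempty_fintype ι
  cases nonempty_fintype κ
  intro m hm
  induction m with
  | zero => exact ⟨Fin.elim0, fun i => linearIndependent_empty_type, fun k j => j.elim0⟩
  | succ m ih =>
    obtain ⟨g, hg, hg'⟩ := ih (by omega)
    let W : ι ⊕ κ → Submodule R J := Sum.elim
      (fun i => ((span (K i) (Set.range fun j => φ i (g j))).restrictScalars R).comap (φ i))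
      (fun k => Submodule.comap ((Submodule.subtype J').comp ε) (q k))
    let p : ι ⊕ κ → Ideal R := Sum.elim (fun i => RingHom.ker (algebraMap R (K i))) q
    haveI : ∀ i, (p i).IsPrime := by
      rintro (i | k)
      · exact RingHom.ker_isPrime _
      · exact inferInstanceAs (q k).IsPrime
    have hkill : ∀ i, ∀ a ∈ p i, ∀ x : J, a • x ∈ W i := by
      rintro (i | k) a ha x
      · show φ i (a • x) ∈ span (K i) _
        rw [map_smul, ← algebraMap_smul (K i) a, RingHom.mem_ker.1 ha, zero_smul]
        exact zero_mem _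
      · show (ε (a • x) : R) ∈ q k
        rw [map_smul, Submodule.coe_smul, smul_eq_mul]
        exact (q k).mul_mem_right _ ha
    have hsat : ∀ i, ∀ a, a ∉ p i → ∀ x : J, a • x ∈ W i → x ∈ W i := by
      rintro (i | k) a ha x hx
      · have hx' : φ i (a • x) ∈ span (K i) (Set.range fun j => φ i (g j)) := hx
        rw [map_smul, ← algebraMap_smul (K i) a] at hx'
        show φ i x ∈ span (K i) (Set.range fun j => φ i (g j))
        exact (Submodule.smul_mem_iff _ (fun h0 : algebraMap R (K i) a = 0 => ha (RingHom.mem_ker.2 h0))).1 hx'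
      · have hx' : (ε (a • x) : R) ∈ q k := hx
        rw [map_smul, Submodule.coe_smul, smul_eq_mul] at hx'
        exact ((inferInstance : (q k).IsPrime).mem_or_mem hx').resolve_left ha
    have hne : ∀ i, ∃ x, x ∉ W i := by
      rintro (i | k)
      · by_contra! hc
        have hle : span (K i) (Set.range (φ i)) ≤ span (K i) (Set.range fun j => φ i (g j)) :=
          span_le.2 fun _ ⟨x, hx⟩ => hx ▸ hc x
        haveI : Module.Finite (K i) (span (K i) (Set.range fun j => φ i (g j))) :=
          Module.Finite.span_of_finite _ (Set.finite_range _)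
        have h2 := (hd i).trans (Submodule.finrank_mono hle)
        rw [finrank_span_eq_card (hg i), Fintype.card_fin] at h2
        omega
      · exact hq (by omega) k
    obtain ⟨x, hx⟩ := exists_forall_notMem p W hkill hsat hne hinj Finset.univ
    refine ⟨Fin.snoc g x, fun i => ?_, fun k => ?_⟩
    · have : (fun j => φ i (Fin.snoc (α := fun _ => J) g x j)) =
          Fin.snoc (fun j => φ i (g j)) (φ i x) := Fin.comp_snoc (φ i) g x
      rw [this]
      exact linearIndependent_finSnoc.2 ⟨hg i, hx (Sum.inl i) (Finset.mem_univ _)⟩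
    · refine Fin.lastCases ?_ (fun j => ?_)
      · rw [Fin.snoc_last]; exact hx (Sum.inr k) (Finset.mem_univ _)
      · rw [Fin.snoc_castSucc]; exact hg' k j

end Groth.Agent.SmoothLift12
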