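import Groth.Agent.Lib.SmoothLift12Point
import Groth.Agent.Lib.SmoothLift12Choice
import Mathlib.AlgebraicGeometry.Morphisms.QuasiCompact

/-!
Local equations for a lift of a smooth closed subscheme: the construction in an affine scheme.
-/

set_option autoImplicit false
set_option backward.isDefEq.respectTransparency false
set_option backward.isDefEq.respectTransparency.types false

universe u

open AlgebraicGeometry CategoryTheory

noncomputable section

namespace Groth.Agent.SmoothLift12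

variable {X X1 Z Z1 : Scheme.{u}}

/-- Off the closed subscheme some equation is a unit. -/
theorem exists_eq_nonzero [IsAffine X] (i : Z ⟶ X) [IsClosedImmersion i] {t : X}
    (ht : t ∉ Set.range i) : ∃ x, i.appTop x = 0 ∧ t ∈ X.basicOpen x := by
  haveI : IsAffine Z := isAffine_of_isAffineHom i
  obtain ⟨x, hx, htx⟩ := (isAffineOpen_top X).exists_basicOpen_le
    (V := ⟨(Set.range i)ᶜ, i.isClosedEmbedding.isClosed_range.isOpen_compl⟩) ⟨t, ht⟩ (Set.mem_univ _)
  have h0 : Z.basicOpen (i.appTop x) = ⊥ := by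
    rw [← Scheme.preimage_basicOpen_top, ← le_bot_iff]
    intro z hz
    exact absurd ⟨z, rfl⟩ (hx hz)
  obtain ⟨N, hN⟩ := (Scheme.isNilpotent_iff_basicOpen_eq_bot (i.appTop x)).2 h0
  refine ⟨x ^ (N + 1), by rw [map_pow, pow_succ, hN, zero_mul], ?_⟩
  rw [X.basicOpen_pow _ (Nat.succ_pos N)]
  exact htx

theorem exists_equations [IsAffine X] (f : X ⟶ X1) (i : Z ⟶ X) (i1 : Z1 ⟶ X1) (g : Z ⟶ Z1)
    [IsClosedImmersion i] [IsClosedImmersion i1] (n e : ℕ)
    [SmoothOfRelativeDimension n f] [SmoothOfRelativeDimension e g] (hsq : i ≫ f = g ≫ i1)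
    (T : Set X) (hT : T.Finite) (hcase : e < n ∨ T ⊆ Set.range i) :
    ∃ (U : X.Opens) (W0 : Scheme.{u}) (k0 : W0 ⟶ X) (_ : IsClosedImmersion k0) (m0 : Z ⟶ W0),
      T ⊆ (U : Set X) ∧ m0 ≫ k0 = i ∧ Smooth ((k0 ⁻¹ᵁ U).ι ≫ k0 ≫ f) ∧
        ∀ (S : Scheme.{u}) (a : S ⟶ W0) (b : S ⟶ Z1), (∀ p, k0 (a p) ∈ U) →
          a ≫ k0 ≫ f = b ≫ i1 → i.ker ≤ (a ≫ k0).ker := by
  classical
  haveI : IsAffine Z := isAffine_of_isAffineHom i
  let ι := {z : Z // i z ∈ T}
  let κ := {t : X // t ∈ T ∧ t ∉ Set.range i}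
  haveI : Finite ι := (hT.preimage i.isClosedEmbedding.injective.injOn).to_subtype
  haveI : Finite κ := (hT.subset fun t ht => ht.1).to_subtype
  let D : ∀ z : ι, PointData f i i1 (n - e) z.1 := fun z => (nonempty_pointData f i i1 g n e hsq z.1).some
  let hTop := isAffineOpen_top X
  let q : κ → Ideal Γ(X, ⊤) := fun t => (hTop.primeIdealOf ⟨t.1, trivial⟩).asIdeal
  have hker : ∀ z : ι, RingHom.ker (algebraMap Γ(X, ⊤) (D z).K) =
      (hTop.primeIdealOf ⟨i z.1, trivial⟩).asIdeal := fun z => by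
    ext x
    rw [RingHom.mem_ker, (D z).ker_K, mem_primeIdealOf_iff]
  have hprime : ∀ p p' : X,
      (hTop.primeIdealOf ⟨p, trivial⟩).asIdeal = (hTop.primeIdealOf ⟨p', trivial⟩).asIdeal → p = p' := by
    intro p p' h
    have := congrArg hTop.fromSpec (PrimeSpectrum.ext h)
    rwa [hTop.fromSpec_primeIdealOf, hTop.fromSpec_primeIdealOf] at this
  have hinj : Function.Injective (Sum.elim (fun z : ι => RingHom.ker (algebraMap Γ(X, ⊤) (D z).K)) q) := by
    rintro (z | t) (z' | t') h <;> simp only [Sum.elim_inl, Sum.elim_inr, hker] at h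
    · exact congrArg Sum.inl (Subtype.ext (i.isClosedEmbedding.injective (hprime _ _ h)))
    · exact absurd ⟨z.1, hprime _ _ h⟩ t'.2.2
    · exact absurd ⟨z'.1, (hprime _ _ h).symm⟩ t.2.2
    · exact congrArg Sum.inr (Subtype.ext (hprime _ _ h))
  obtain ⟨gg, hgg, hgg'⟩ := exists_family (fun z : ι => (D z).K) (fun z : ι => (D z).V) (fun z => (D z).φ)
    (RingHom.ker i.appTop.hom) LinearMap.id q hinj (n - e) (fun z => (D z).rank)
    (fun _ t => by
      obtain ⟨x, hx, htx⟩ := exists_eq_nonzero i t.2.2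
      exact ⟨⟨x, hx⟩, fun hc => (mem_primeIdealOf_iff hTop _ _).1 hc htx⟩)
    (n - e) le_rfl
  let G : Fin (n - e) → Γ(X, ⊤) := fun j => (gg j).1
  let W0 := (eqIdeal G).subscheme
  let k0 : W0 ⟶ X := (eqIdeal G).subschemeι
  have hk0 : k0.ker = eqIdeal G := Scheme.IdealSheafData.ker_subschemeι _
  have hG0 : ∀ j, k0.appTop (G j) = 0 := fun j => by
    have h := congrArg (fun I : X.IdealSheafData => I.ideal ⟨⊤, hTop⟩) hk0
    simp only [Scheme.Hom.ker_apply, Scheme.IdealSheafData.ofIdealTop_ideal] at h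
    refine RingHom.mem_ker.1 (h.ge ?_)
    have h2 := Ideal.mem_map_of_mem (X.presheaf.map (homOfLE (le_top : (⊤ : X.Opens) ≤ ⊤)).op).hom
      (Ideal.subset_span ⟨j, rfl⟩ : G j ∈ Ideal.span (Set.range G))
    simpa using h2
  have hle : k0.ker ≤ i.ker := by
    rw [hk0, Scheme.ker_of_isAffine]
    refine Scheme.IdealSheafData.le_of_isAffine ?_
    simp only [Scheme.IdealSheafData.ofIdealTop_ideal]
    exact Ideal.map_mono (Ideal.span_le.2 (by rintro _ ⟨j, rfl⟩; exact (gg j).2))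
  choose Oz hzO hsmz hvz using fun z : ι => (D z).good gg (hgg z) W0 k0 hk0
  -- off the subscheme the first equation is a unit
  let Ot : κ → X.Opens := fun t => if h : 0 < n - e then X.basicOpen (G ⟨0, h⟩) else ⊥
  have htO : ∀ t : κ, t.1 ∈ Ot t := fun t => by
    have h : 0 < n - e := by
      rcases hcase with h | h
      · omega
      · exact absurd (h t.2.1) t.2.2
    simp only [Ot, dif_pos h]
    by_contra hc
    exact hgg' t ⟨0, h⟩ ((mem_primeIdealOf_iff hTop _ _).2 hc)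
  have hOt : ∀ t : κ, k0 ⁻¹ᵁ Ot t = ⊥ := fun t => by
    simp only [Ot]
    split_ifs with h
    · rw [Scheme.preimage_basicOpen_top, hG0, Scheme.basicOpen_zero]
    · rfl
  let O : ι ⊕ κ → X.Opens := Sum.elim Oz Ot
  let U : X.Opens := iSup O
  have hTU : T ⊆ (U : Set X) := by
    intro t ht
    by_cases h : t ∈ Set.range i
    · obtain ⟨z, rfl⟩ := h
      exact TopologicalSpace.Opens.mem_iSup.2 ⟨Sum.inl ⟨z, ht⟩, hzO ⟨z, ht⟩⟩
    · exact TopologicalSpace.Opens.mem_iSup.2 ⟨Sum.inr ⟨t, ht, h⟩, htO ⟨t, ht, h⟩⟩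
  refine ⟨U, W0, k0, inferInstance, IsClosedImmersion.lift k0 i hle, hTU, IsClosedImmersion.lift_fac _ _ _,
    ?_, ?_⟩
  · let Wd : ι ⊕ κ → (k0 ⁻¹ᵁ U).toScheme.Opens := fun l => (k0 ⁻¹ᵁ U).ι ⁻¹ᵁ (k0 ⁻¹ᵁ O l)
    refine IsZariskiLocalAtSource.of_iSup_eq_top Wd ?_ fun l => ?_
    · rw [eq_top_iff]
      rintro ⟨w, hw⟩ -
      obtain ⟨l, hl⟩ := TopologicalSpace.Opens.mem_iSup.1 (show k0 w ∈ iSup O from hw)
      exact TopologicalSpace.Opens.mem_iSup.2 ⟨l, hl⟩
    · have hl : Smooth ((k0 ⁻¹ᵁ O l).ι ≫ k0 ≫ f) := by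
        rcases l with z | t
        · exact hsmz z
        · haveI : IsEmpty ↥((k0 ⁻¹ᵁ O (Sum.inr t) : W0.Opens) : Scheme.{u}) := ⟨fun p => by
            have hp := p.2
            simp only [O, Sum.elim_inr, hOt] at hp
            exact hp⟩
          exact IsZariskiLocalAtSource.of_iSup_eq_top (fun a : PEmpty.{1} => a.elim)
            (eq_top_iff.2 fun p _ => isEmptyElim p) (fun a => a.elim)
      let j : (Wd l : Scheme.{u}) ⟶ ((k0 ⁻¹ᵁ O l : W0.Opens) : Scheme.{u}) :=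
        IsOpenImmersion.lift (k0 ⁻¹ᵁ O l).ι ((Wd l).ι ≫ (k0 ⁻¹ᵁ U).ι) (by
          rintro _ ⟨p, rfl⟩
          rw [Scheme.Opens.range_ι]
          exact p.2)
      have hj : j ≫ (k0 ⁻¹ᵁ O l).ι = (Wd l).ι ≫ (k0 ⁻¹ᵁ U).ι := IsOpenImmersion.lift_fac _ _ _
      haveI : IsOpenImmersion j := by
        haveI : IsOpenImmersion (j ≫ (k0 ⁻¹ᵁ O l).ι) := by rw [hj]; infer_instance
        exact IsOpenImmersion.of_comp j (k0 ⁻¹ᵁ O l).ι
      rw [← Category.assoc (Wd l).ι, ← hj, Category.assoc]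
      infer_instance
  · intro S a b hU hab
    rw [Scheme.ker_of_isAffine i]
    refine Scheme.IdealSheafData.le_ofIdeals_iff.mpr fun V => ?_
    rw [Scheme.IdealSheafData.ofIdealTop_ideal, Ideal.map_le_iff_le_comap]
    intro x hx
    have h0 : (a ≫ k0).appTop x = 0 := by
      refine Scheme.zero_of_zero_cover _ (S.openCoverOfIsOpenCover
        (s := Set.range fun l => (a ≫ k0) ⁻¹ᵁ O l) Subtype.val ?_) ?_
      · show TopologicalSpace.IsOpenCover _
        rw [TopologicalSpace.IsOpenCover, eq_top_iff]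
        intro p _
        obtain ⟨l, hl⟩ := TopologicalSpace.Opens.mem_iSup.1 (show k0 (a p) ∈ iSup O from hU p)
        exact TopologicalSpace.Opens.mem_iSup.2 ⟨⟨_, l, rfl⟩, hl⟩
      · rintro ⟨_, l, rfl⟩
        let c := ((a ≫ k0) ⁻¹ᵁ O l).ι ≫ a ≫ k0
        show c.appTop x = 0
        rcases l with z | t
        · refine hvz z _ c (((a ≫ k0) ⁻¹ᵁ Oz z).ι ≫ b) (fun p => p.2)
            (by simp only [c, Category.assoc, hab]; rfl) (fun j => ?_) x hx
          show ((((a ≫ k0) ⁻¹ᵁ Oz z).ι ≫ a) ≫ k0).appTop (G j) = 0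
          rw [Scheme.Hom.comp_appTop, CommRingCat.comp_apply, hG0, map_zero]
        · haveI : IsEmpty ↥(((a ≫ k0) ⁻¹ᵁ O (Sum.inr t) : S.Opens) : Scheme.{u}) := ⟨fun p => by
            have hp : a p.1 ∈ k0 ⁻¹ᵁ O (Sum.inr t) := p.2
            simp only [O, Sum.elim_inr, hOt] at hp
            exact hp⟩
          exact Subsingleton.elim _ _
    rw [Ideal.mem_comap, RingHom.mem_ker]
    show (X.presheaf.map (homOfLE le_top).op ≫ (a ≫ k0).app V.1) x = 0
    rw [Scheme.Hom.naturality, CommRingCat.comp_apply]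
    show S.presheaf.map _ ((a ≫ k0).appTop x) = 0
    rw [h0, map_zero]

end Groth.Agent.SmoothLift12
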