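import Groth.Agent.Lib.SmoothLift12Alg
import Mathlib.AlgebraicGeometry.Morphisms.Smooth
import Mathlib.AlgebraicGeometry.Morphisms.ClosedImmersion
import Mathlib.AlgebraicGeometry.IdealSheaf.Subscheme

/-!
Local equations for a lift of a smooth closed subscheme: the data at one point.
-/

set_option autoImplicit false
set_option maxHeartbeats 1600000
set_option synthInstance.maxHeartbeats 100000
set_option backward.isDefEq.respectTransparency false
set_option backward.isDefEq.respectTransparency.types false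

universe u

open AlgebraicGeometry CategoryTheory TensorProduct

noncomputable section

namespace Groth.Agent.SmoothLift12

theorem mem_primeIdealOf_iff {X : Scheme.{u}} {U : X.Opens} (hU : IsAffineOpen U) (x : U) (r : Γ(X, U)) :
    r ∈ (hU.primeIdealOf x).asIdeal ↔ x.1 ∉ X.basicOpen r := by
  constructor
  · intro h hc
    rw [← hU.fromSpec_primeIdealOf x, ← Scheme.Hom.mem_preimage, hU.fromSpec_preimage_basicOpen] at hc
    exact hc h
  · intro h
    by_contra hr
    refine h ?_
    rw [← hU.fromSpec_primeIdealOf x, ← Scheme.Hom.mem_preimage, hU.fromSpec_preimage_basicOpen]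
    exact hr

variable {X X1 Z Z1 : Scheme.{u}} [IsAffine X] (f : X ⟶ X1) (i : Z ⟶ X) (i1 : Z1 ⟶ X1) (g : Z ⟶ Z1)

/-- The equations, as a sheaf of ideals. -/
abbrev eqIdeal {r : ℕ} (gg : Fin r → Γ(X, ⊤)) : X.IdealSheafData :=
  Scheme.IdealSheafData.ofIdealTop (Ideal.span (Set.range gg))

/-- What is used of one point of the closed subscheme. -/
structure PointData (r : ℕ) (z : Z) : Type (u + 1) where
  K : Type u
  [instField : Field K]
  [instAlg : Algebra Γ(X, ⊤) K]
  V : Type u
  [instGroup : AddCommGroup V]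
  [instMod : Module K V]
  [instModR : Module Γ(X, ⊤) V]
  [instTower : IsScalarTower Γ(X, ⊤) K V]
  φ : RingHom.ker i.appTop.hom →ₗ[Γ(X, ⊤)] V
  ker_K : ∀ x, algebraMap Γ(X, ⊤) K x = 0 ↔ i z ∉ X.basicOpen x
  rank : r ≤ Module.finrank K (Submodule.span K (Set.range φ))
  good : ∀ gg : Fin r → RingHom.ker i.appTop.hom, LinearIndependent K (fun j => φ (gg j)) →
    ∀ (W0 : Scheme.{u}) (k0 : W0 ⟶ X) [IsClosedImmersion k0], k0.ker = eqIdeal (fun j => (gg j : Γ(X, ⊤))) →
      ∃ O : X.Opens, i z ∈ O ∧ Smooth ((k0 ⁻¹ᵁ O).ι ≫ k0 ≫ f) ∧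
        ∀ (S : Scheme.{u}) (c : S ⟶ X) (b : S ⟶ Z1), (∀ p, c p ∈ O) → c ≫ f = b ≫ i1 →
          (∀ j, c.appTop (gg j : Γ(X, ⊤)) = 0) → ∀ x, i.appTop x = 0 → c.appTop x = 0

attribute [instance] PointData.instField PointData.instAlg PointData.instGroup PointData.instMod
  PointData.instModR PointData.instTower

/-- `Op.ι ≫ φ` is smooth once the map of sections on the affine `Op` is. -/
theorem smooth_ι_comp {W Y : Scheme.{u}} (φ : W ⟶ Y) {U : Y.Opens} (hU : IsAffineOpen U) {Op : W.Opens}
    (hOp : IsAffineOpen Op) (e : Op ≤ φ ⁻¹ᵁ U) (h : (φ.appLE U Op e).hom.Smooth) :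
    Smooth (Op.ι ≫ φ) := by
  have : IsAffine _ := hU
  have : IsAffine _ := hOp
  have : Smooth (φ.resLE U Op e) := by
    rw [HasRingHomProperty.iff_of_isAffine (P := @Smooth)]
    exact (RingHom.Smooth.propertyIsLocal.respectsIso.arrow_mk_iso_iff (arrowResLEAppIso φ U Op e)).mpr h
  rw [← φ.resLE_comp_ι e]
  infer_instance

theorem nonempty_pointData [IsClosedImmersion i] [IsClosedImmersion i1] (n e : ℕ)
    [SmoothOfRelativeDimension n f] [SmoothOfRelativeDimension e g]
    (hsq : i ≫ f = g ≫ i1) (z : Z) : Nonempty (PointData f i i1 (n - e) z) := by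
  classical
  obtain ⟨U, hU, V, hV, hxV, eVU, hf⟩ :=
    SmoothOfRelativeDimension.exists_isStandardSmoothOfRelativeDimension (n := n) (f := f) (i z)
  obtain ⟨a, s, has, hza⟩ := exists_basicOpen_le_affine_inter hV (isAffineOpen_top X) (i z) ⟨hxV, trivial⟩
  let O1 : X.Opens := X.basicOpen s
  have hO1 : IsAffineOpen O1 := (isAffineOpen_top X).basicOpen s
  have hO1V : O1 ≤ V := by
    show X.basicOpen s ≤ V
    rw [← has]; exact X.basicOpen_le a
  have eO1 : O1 ≤ f ⁻¹ᵁ U := hO1V.trans eVU
  have hz1 : i z ∈ O1 := by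
    show i z ∈ X.basicOpen s
    rwa [← has]
  have hf1 : (f.appLE U O1 eO1).hom.IsStandardSmoothOfRelativeDimension n := by
    let := (X.presheaf.map (homOfLE hO1V).op).hom.toAlgebra
    haveI : IsLocalization.Away a Γ(X, O1) :=
      hV.isLocalization_of_eq_basicOpen a (homOfLE hO1V) has.symm
    have h := (RingHom.isStandardSmoothOfRelativeDimension_stableUnderCompositionWithLocalizationAway n).right
      Γ(X, O1) a (f.appLE U V eVU).hom hf
    rw [show f.appLE U O1 eO1 = f.appLE U V eVU ≫ X.presheaf.map (homOfLE hO1V).op from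
      (f.appLE_map eVU (homOfLE hO1V).op).symm, CommRingCat.hom_comp]
    exact h
  let U' : Z1.Opens := i1 ⁻¹ᵁ U
  have hU' : IsAffineOpen U' := hU.preimage i1
  let O1' : Z.Opens := i ⁻¹ᵁ O1
  have hO1' : IsAffineOpen O1' := hO1.preimage i
  have eg : O1' ≤ g ⁻¹ᵁ U' := by
    show i ⁻¹ᵁ O1 ≤ g ⁻¹ᵁ i1 ⁻¹ᵁ U
    rw [← Scheme.Hom.comp_preimage, ← hsq, Scheme.Hom.comp_preimage]
    exact i.preimage_mono eO1
  -- the rings
  let A := Γ(X1, U)
  let B := Γ(X, O1)
  let A' := Γ(Z1, U')
  let B' := Γ(Z, O1')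
  let resO : Γ(X, ⊤) →+* B := (X.presheaf.map (homOfLE (le_top : O1 ≤ ⊤)).op).hom
  letI : Algebra A B := (f.appLE U O1 eO1).hom.toAlgebra
  letI : Algebra A A' := (i1.app U).hom.toAlgebra
  letI : Algebra A' B' := (g.appLE U' O1' eg).hom.toAlgebra
  letI : Algebra B B' := (i.app O1).hom.toAlgebra
  letI : Algebra A B' := ((i.app O1).hom.comp (f.appLE U O1 eO1).hom).toAlgebra
  haveI : IsScalarTower A B B' := IsScalarTower.of_algebraMap_eq fun _ => rfl
  haveI : IsScalarTower A A' B' := IsScalarTower.of_algebraMap_eq' (by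
    show (i.app O1).hom.comp (f.appLE U O1 eO1).hom = (g.appLE U' O1' eg).hom.comp (i1.app U).hom
    rw [← CommRingCat.hom_comp, ← CommRingCat.hom_comp, Scheme.Hom.app_eq_appLE,
      Scheme.Hom.app_eq_appLE, Scheme.Hom.appLE_comp_appLE, Scheme.Hom.appLE_comp_appLE]
    simp only [hsq]
    rfl)
  have hAA' : Function.Surjective (algebraMap A A') := i1.app_surjective U hU
  have hB' : Function.Surjective (algebraMap B B') := i.app_surjective O1 hO1
  haveI : Algebra.IsStandardSmoothOfRelativeDimension n A B := hf1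
  haveI : Algebra.IsStandardSmooth A B :=
    Algebra.IsStandardSmoothOfRelativeDimension.isStandardSmooth n
  haveI : Smooth g := SmoothOfRelativeDimension.smooth e g
  haveI : Algebra.Smooth A' B' := g.smooth_appLE hU' hO1' eg
  let Bb := A' ⊗[A] B
  letI : Algebra B Bb := Algebra.TensorProduct.rightAlgebra
  let π : Bb →ₐ[A'] B' := Algebra.TensorProduct.lift (Algebra.ofId A' B') (IsScalarTower.toAlgHom A B B')
    (fun _ _ => Commute.all _ _)
  letI : Algebra Bb B' := π.toRingHom.toAlgebra
  haveI : IsScalarTower A' Bb B' := IsScalarTower.of_algebraMap_eq fun x => (π.commutes x).symm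
  haveI : IsScalarTower B Bb B' := IsScalarTower.of_algebraMap_eq fun x => by
    show algebraMap B B' x = π ((1 : A') ⊗ₜ[A] x)
    exact ((Algebra.TensorProduct.lift_tmul _ _ _ (1 : A') x).trans (by rw [map_one, one_mul]; rfl)).symm
  have hBb : Function.Surjective (algebraMap B Bb) := fun w => by
    induction w using TensorProduct.induction_on with
    | zero => exact ⟨0, map_zero _⟩
    | add u v hu hv =>
      obtain ⟨u', rfl⟩ := hu
      obtain ⟨v', rfl⟩ := hv
      exact ⟨u' + v', map_add _ _ _⟩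
    | tmul a' b =>
      obtain ⟨a₀, rfl⟩ := hAA' a'
      refine ⟨a₀ • b, ?_⟩
      show (1 : A') ⊗ₜ[A] (a₀ • b) = _
      rw [TensorProduct.tmul_smul, TensorProduct.smul_tmul', Algebra.smul_def, mul_one]
  -- the prime
  let P : Ideal B' := (hO1'.primeIdealOf ⟨z, hz1⟩).asIdeal
  let K := P.ResidueField
  letI : Algebra Γ(X, ⊤) K := ((algebraMap B K).comp resO).toAlgebra
  let V' := K ⊗[Bb] Ω[Bb⁄A']
  letI : Module Γ(X, ⊤) V' := Module.compHom V' (algebraMap Γ(X, ⊤) K)
  haveI : IsScalarTower Γ(X, ⊤) K V' := IsScalarTower.of_algebraMap_smul fun _ _ => rfl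
  have hnat : ∀ x, algebraMap B B' (resO x) = Z.presheaf.map (homOfLE (le_top : O1' ≤ ⊤)).op (i.appTop x) :=
    fun x => (ConcreteCategory.congr_hom (i.naturality (homOfLE (le_top : O1 ≤ ⊤)).op) x :)
  have hJ : ∀ x, i.appTop x = 0 → algebraMap B B' (resO x) = 0 := fun x hx => by rw [hnat, hx, map_zero]
  let φ : RingHom.ker i.appTop.hom →ₗ[Γ(X, ⊤)] V' :=
    { toFun := fun x => delta A' Bb P (resO x.1)
      map_add' := fun x y => by rw [Submodule.coe_add, map_add, delta_add]
      map_smul' := fun c x => by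
        rw [Submodule.coe_smul, smul_eq_mul, map_mul, delta_mul P (hJ _ x.2)]
        rfl }
  have hP : ∀ y : B, algebraMap B K y = 0 ↔ i z ∉ X.basicOpen y := fun y => by
    rw [IsScalarTower.algebraMap_apply B B' K, Ideal.algebraMap_residueField_eq_zero, mem_primeIdealOf_iff,
      show Z.basicOpen (algebraMap B B' y) = i ⁻¹ᵁ X.basicOpen y from (Scheme.preimage_basicOpen i y).symm]
    rfl
  refine ⟨{ K := K, V := V', φ := φ, ker_K := ?_, rank := ?_, good := ?_ }⟩
  · intro x
    rw [show algebraMap Γ(X, ⊤) K x = algebraMap B K (resO x) from rfl, hP,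
      show X.basicOpen (resO x) = O1 ⊓ X.basicOpen x from X.basicOpen_res x _]
    exact ⟨fun h hc => h ⟨hz1, hc⟩, fun h hc => h hc.2⟩
  · have he : Module.finrank K (K ⊗[B'] Ω[B'⁄A']) = e :=
      finrank_residue_kaehler_of_locally e
        (HasRingHomProperty.appLE (P := @SmoothOfRelativeDimension e) g ‹_› ⟨U', hU'⟩ ⟨O1', hO1'⟩ eg) P
    have hsum := finrank_span_delta (n := n) P hBb hB' he
    haveI : Module.Finite K V' := inferInstance
    let := resO.toAlgebra
    haveI : IsLocalization.Away s B :=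
      (isAffineOpen_top X).isLocalization_of_eq_basicOpen s (homOfLE le_top) rfl
    let := (Z.presheaf.map (homOfLE (le_top : O1' ≤ ⊤)).op).hom.toAlgebra
    haveI : IsAffine Z := isAffine_of_isAffineHom i
    haveI : IsLocalization.Away (i.appTop s) B' :=
      (isAffineOpen_top Z).isLocalization_of_eq_basicOpen (i.appTop s) (homOfLE le_top)
        (Scheme.preimage_basicOpen_top i s)
    have hle : Submodule.span K (delta A' Bb P '' (RingHom.ker (algebraMap B B') : Set B)) ≤
        Submodule.span K (Set.range φ) := by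
      rw [Submodule.span_le]
      rintro _ ⟨x, hx, rfl⟩
      obtain ⟨⟨y, ⟨_, k, rfl⟩⟩, hxy⟩ := IsLocalization.surj (Submonoid.powers s) x
      have hxy' : resO y = resO (s ^ k) * x := hxy.symm.trans (mul_comm _ _)
      have h0 : algebraMap B B' (resO y) = 0 := by
        rw [hxy', map_mul, RingHom.mem_ker.1 hx, mul_zero]
      rw [hnat] at h0
      obtain ⟨⟨_, m, rfl⟩, hm⟩ := (IsLocalization.map_eq_zero_iff (Submonoid.powers (i.appTop s)) B' _).1 h0
      have hy' : s ^ m * y ∈ RingHom.ker i.appTop.hom := by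
        rw [RingHom.mem_ker, map_mul, map_pow]; exact hm
      have h1 : φ ⟨_, hy'⟩ = algebraMap B K (resO (s ^ m * s ^ k)) • delta A' Bb P x := by
        show delta A' Bb P (resO (s ^ m * y)) = _
        rw [map_mul, hxy', ← mul_assoc, ← map_mul, delta_mul P (RingHom.mem_ker.1 hx)]
      have h2 : algebraMap B K (resO (s ^ m * s ^ k)) ≠ 0 := by
        rw [← pow_add, map_pow, map_pow]
        refine pow_ne_zero _ fun hc => ?_
        rw [hP, show X.basicOpen (resO s) = O1 ⊓ X.basicOpen s from X.basicOpen_res s _] at hc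
        exact hc ⟨hz1, hz1⟩
      rw [SetLike.mem_coe, ← Submodule.smul_mem_iff _ h2, ← h1]
      exact Submodule.subset_span ⟨_, rfl⟩
    have h3 : Module.finrank K (Submodule.span K (delta A' Bb P '' (RingHom.ker (algebraMap B B') : Set B))) ≤
        Module.finrank K (Submodule.span K (Set.range φ)) := Submodule.finrank_mono hle
    have hsum' : e + Module.finrank K (Submodule.span K (delta A' Bb P '' (RingHom.ker (algebraMap B B') : Set B))) = n := hsum
    refine le_trans ?_ h3
    omega
  · intro gg hli W0 k0 _ hk0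
    let gB : Fin (n - e) → B := fun j => resO (gg j).1
    have hgB : ∀ j, algebraMap B B' (gB j) = 0 := fun j => hJ _ (gg j).2
    have hliB : LinearIndependent K (fun j => delta A' Bb P (gB j)) := hli
    have he : Module.finrank K (K ⊗[B'] Ω[B'⁄A']) = e :=
      finrank_residue_kaehler_of_locally e
        (HasRingHomProperty.appLE (P := @SmoothOfRelativeDimension e) g ‹_› ⟨U', hU'⟩ ⟨O1', hO1'⟩ eg) P
    have hre : e + (n - e) = n := by
      have := finrank_span_delta (n := n) P hBb hB' he
      omega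
    -- the quotient by the equations
    let C := Γ(W0, k0 ⁻¹ᵁ O1)
    letI : Algebra B C := (k0.app O1).hom.toAlgebra
    letI : Algebra A C := ((k0.app O1).hom.comp (f.appLE U O1 eO1).hom).toAlgebra
    haveI : IsScalarTower A B C := IsScalarTower.of_algebraMap_eq fun _ => rfl
    have hC : Function.Surjective (algebraMap B C) := k0.app_surjective O1 hO1
    have hkerC : RingHom.ker (algebraMap B C) = Ideal.span (Set.range gB) := by
      have h := congrArg (fun I : X.IdealSheafData => I.ideal ⟨O1, hO1⟩) hk0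
      simp only [Scheme.Hom.ker_apply, Scheme.IdealSheafData.ofIdealTop_ideal, Ideal.map_span,
        ← Set.range_comp] at h
      exact h
    have hkill : RingHom.ker (algebraMap B C) ≤ RingHom.ker (algebraMap B B') := by
      rw [hkerC, Ideal.span_le]; rintro _ ⟨j, rfl⟩; exact hgB j
    letI : Algebra C B' := (RingHom.liftOfSurjective (algebraMap B C) hC ⟨algebraMap B B', hkill⟩).toAlgebra
    haveI : IsScalarTower B C B' := IsScalarTower.of_algebraMap_eq fun x =>
      (RingHom.liftOfSurjective_comp_apply (algebraMap B C) hC ⟨algebraMap B B', hkill⟩ x).symm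
    haveI : Algebra.FinitePresentation A C :=
      Algebra.FinitePresentation.of_surjective (f := IsScalarTower.toAlgHom A B C) hC
        (by
          show (RingHom.ker (algebraMap B C)).FG
          rw [hkerC]; exact Submodule.fg_span (Set.finite_range _))
    haveI : Algebra.IsSmoothAt A (P.comap (algebraMap C B')) :=
      isSmoothAt_quotient (Bb := Bb) P gB hgB hliB C hC hkerC
    obtain ⟨r0, hr0P, hr0⟩ := Algebra.IsSmoothAt.exists_notMem_smooth A (P.comap (algebraMap C B'))
    obtain ⟨h2, rfl⟩ := hC r0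
    have hh2 : algebraMap B B' h2 ∉ P := by
      rw [IsScalarTower.algebraMap_apply B C B']; exact hr0P
    obtain ⟨h, hh, hmem⟩ := exists_mul_mem_sup (A' := A') (Bb := Bb) P hBb hB' gB hgB hliB hre he
    have hin : ∀ y : B, algebraMap B B' y ∉ P → i z ∈ X.basicOpen y := fun y hy => by
      by_contra hc
      exact hy (Ideal.algebraMap_residueField_eq_zero.1
        ((IsScalarTower.algebraMap_apply B B' K y).symm.trans ((hP y).2 hc)))
    refine ⟨X.basicOpen h2 ⊓ X.basicOpen h, ⟨hin _ hh2, hin _ hh⟩, ?_, ?_⟩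
    · have hOp : IsAffineOpen (k0 ⁻¹ᵁ X.basicOpen h2) := (hO1.basicOpen h2).preimage k0
      have eOp : k0 ⁻¹ᵁ X.basicOpen h2 ≤ (k0 ≫ f) ⁻¹ᵁ U :=
        k0.preimage_mono ((X.basicOpen_le h2).trans eO1)
      have hO1W : IsAffineOpen (k0 ⁻¹ᵁ O1) := hO1.preimage k0
      have hsm : Smooth ((k0 ⁻¹ᵁ X.basicOpen h2).ι ≫ k0 ≫ f) := by
        refine smooth_ι_comp (k0 ≫ f) hU hOp eOp ?_
        let rs := W0.presheaf.map (homOfLE (k0.preimage_mono (X.basicOpen_le h2))).op
        let := rs.hom.toAlgebra
        haveI : IsLocalization.Away (algebraMap B C h2) Γ(W0, k0 ⁻¹ᵁ X.basicOpen h2) :=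
          hO1W.isLocalization_of_eq_basicOpen _ (homOfLE (k0.preimage_mono (X.basicOpen_le h2)))
            (Scheme.preimage_basicOpen k0 h2)
        rw [← RingHom.smooth_algebraMap] at hr0
        convert RingHom.Smooth.propertyIsLocal.respectsIso.1 _
          (IsLocalization.algEquiv (.powers (algebraMap B C h2)) (Localization.Away (algebraMap B C h2))
            Γ(W0, k0 ⁻¹ᵁ X.basicOpen h2)).toRingEquiv hr0 using 1
        refine RingHom.ext fun x => ?_
        show (k0 ≫ f).appLE U _ eOp x = _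
        rw [← Scheme.Hom.appLE_comp_appLE k0 f U O1 _ eO1 (k0.preimage_mono (X.basicOpen_le h2)),
          RingHom.comp_apply, IsScalarTower.algebraMap_apply A C (Localization.Away (algebraMap B C h2))]
        show _ = IsLocalization.algEquiv _ _ _ _
        rw [AlgEquiv.commutes]
        show _ = rs (k0.app O1 (f.appLE U O1 eO1 x))
        rw [CommRingCat.comp_apply, ← CommRingCat.comp_apply (k0.app O1), Scheme.Hom.app_eq_appLE,
          Scheme.Hom.appLE_map]
      have hle : k0 ⁻¹ᵁ (X.basicOpen h2 ⊓ X.basicOpen h) ≤ k0 ⁻¹ᵁ X.basicOpen h2 :=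
        k0.preimage_mono inf_le_left
      rw [← W0.homOfLE_ι hle, Category.assoc]
      infer_instance
    · intro S c b hc hcb hg0 x hx
      have eS : ⊤ ≤ c ⁻¹ᵁ O1 := fun p _ => X.basicOpen_le h2 (hc p).1
      let χ : B →+* Γ(S, ⊤) := (c.appLE O1 ⊤ eS).hom
      have hχ : ∀ y, χ (resO y) = c.appTop y := fun y => by
        show (X.presheaf.map _ ≫ c.appLE O1 ⊤ eS) y = _
        rw [Scheme.Hom.map_appLE, Scheme.Hom.appTop, Scheme.Hom.app_eq_appLE]
        rfl
      have hu : IsUnit (χ h) := by
        have eh : ⊤ ≤ c ⁻¹ᵁ X.basicOpen h := fun p _ => (hc p).2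
        have h1 : χ h = c.appLE (X.basicOpen h) ⊤ eh (X.presheaf.map (homOfLE (X.basicOpen_le h)).op h) := by
          show c.appLE O1 ⊤ eS h = (X.presheaf.map _ ≫ c.appLE (X.basicOpen h) ⊤ eh) h
          rw [Scheme.Hom.map_appLE]
        rw [h1]
        exact (RingedSpace.isUnit_res_basicOpen (X := X.toRingedSpace) h).map _
      have hkerA : RingHom.ker (algebraMap B Bb) ≤ (RingHom.ker (algebraMap A A')).map (algebraMap A B) := by
        let I := RingHom.ker (algebraMap A A')
        let ψ : A' →ₐ[A] B ⧸ I.map (algebraMap A B) :=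
          { RingHom.liftOfSurjective (algebraMap A A') hAA'
              ⟨(Ideal.Quotient.mk (I.map (algebraMap A B))).comp (algebraMap A B), fun a ha => by
                rw [RingHom.mem_ker, RingHom.comp_apply, Ideal.Quotient.eq_zero_iff_mem]
                exact Ideal.mem_map_of_mem _ ha⟩ with
            commutes' := fun a => RingHom.liftOfSurjective_comp_apply _ _ _ a }
        let ρ := Algebra.TensorProduct.lift ψ (Ideal.Quotient.mkₐ A (I.map (algebraMap A B)))
          (fun _ _ => Commute.all _ _)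
        intro y hy
        have h1 : ρ ((1 : A') ⊗ₜ[A] y) = Ideal.Quotient.mk (I.map (algebraMap A B)) y :=
          (Algebra.TensorProduct.lift_tmul _ _ _ (1 : A') y).trans (by rw [map_one, one_mul]; rfl)
        have h0 : ((1 : A') ⊗ₜ[A] y : A' ⊗[A] B) = 0 := (RingHom.mem_ker (f := algebraMap B Bb)).1 hy
        rw [h0, map_zero] at h1
        exact Ideal.Quotient.eq_zero_iff_mem.1 h1.symm
      have hle : RingHom.ker (algebraMap B Bb) ⊔ Ideal.span (Set.range gB) ≤ RingHom.ker χ := by
        refine sup_le (hkerA.trans (Ideal.map_le_iff_le_comap.2 fun a ha => ?_)) (Ideal.span_le.2 ?_)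
        · rw [Ideal.mem_comap, RingHom.mem_ker]
          show c.appLE O1 ⊤ eS (f.appLE U O1 eO1 a) = 0
          rw [← CommRingCat.comp_apply, Scheme.Hom.appLE_comp_appLE]
          simp only [hcb]
          have eb : (⊤ : S.Opens) ≤ b ⁻¹ᵁ U' := fun p _ => by
            show i1 (b p) ∈ U
            rw [← Scheme.Hom.comp_apply, ← hcb, Scheme.Hom.comp_apply]
            exact eO1 (eS trivial)
          rw [← Scheme.Hom.appLE_comp_appLE b i1 U U' ⊤ le_rfl eb, CommRingCat.comp_apply,
            ← Scheme.Hom.app_eq_appLE, show i1.app U a = 0 from RingHom.mem_ker.1 ha, map_zero]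
        · rintro _ ⟨j, rfl⟩
          rw [SetLike.mem_coe, RingHom.mem_ker, hχ]
          exact hg0 j
      have h3 := RingHom.mem_ker.1 (hle (hmem (resO x) (hJ x hx)))
      rw [map_mul, hχ, hu.mul_right_eq_zero] at h3
      exact h3

end Groth.Agent.SmoothLift12
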