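import Groth.Agent.Lib.ExtPairing
import Groth.Agent.Lib.SmoothAdapted
import Groth.Agent.BigOpen.Ddual
import Groth.Agent.Lib.InvEnd
import Groth.Agent.CurvLocusLib.LocP
import Groth.Agent.S8656
import Groth.Agent.KRegLib.Kinds

/-!
The pairing of top differentials for a closed immersion of smooth schemes, with values in the restricted top
differentials.
-/

set_option autoImplicit false
set_option linter.style.haveILetI false
set_option linter.unusedSectionVars false
set_option backward.isDefEq.respectTransparency false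
set_option backward.isDefEq.respectTransparency.types false
set_option maxHeartbeats 1000000

universe u

open CategoryTheory CategoryTheory.Limits AlgebraicGeometry TopologicalSpace Opposite
open Groth.Agent.AModX Groth.Agent.H23

noncomputable section

namespace Groth.Agent.SmoothPairing

open Groth.Agent.SmoothAdapted

theorem map_sum_det {A : Type*} [CommRing A] {M N : Type*} [AddCommGroup M] [Module A M] [AddCommGroup N]
    [Module A N] {m : ℕ} (Φ : M [⋀^Fin m]→ₗ[A] N) (e : Fin m → M) (C : Matrix (Fin m) (Fin m) A) :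
    Φ (fun k => ∑ l, C k l • e l) = C.det • Φ e := by
  classical
  have h := KoszulZigzag.alt_top (Φ.compLinearMap (Fintype.linearCombination A e)) C
  rw [AlternatingMap.compLinearMap_apply, AlternatingMap.compLinearMap_apply] at h
  rw [show (Matrix.of C).det = C.det from rfl] at h
  refine Eq.trans (congrArg Φ (funext fun k => (Fintype.linearCombination_apply A e (C k)).symm))
    (h.trans (congrArg (fun w => C.det • Φ w) (funext fun l => ?_)))
  rw [KoszulZigzag.std, Fintype.linearCombination_apply_single, one_smul]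

section Top

variable {Y : Scheme.{u}} {m : ℕ} {E L : Y.Modules}
  (φ : ∀ U : Y.affineOpens, (L.val.obj (op U.1)) ≃ₗ[Γ(Y, U.1)] ↥(⋀[Γ(Y, U.1)]^m (E.val.obj (op U.1))))
  (hφ : ∀ (U V : Y.affineOpens) (h : V.1 ≤ U.1) (e : Fin m → E.val.obj (op U.1)),
    L.val.map (homOfLE h).op ((φ U).symm (exteriorPower.ιMulti _ m e)) =
      (φ V).symm (exteriorPower.ιMulti _ m (fun j => E.val.map (homOfLE h).op (e j))))

open Classical in
/-- The wedge of a family of sections, zero outside affine opens. -/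
def top (W : Y.Opens) (v : Fin m → Γ(E, W)) : Γ(L, W) :=
  if hW : IsAffineOpen W then (φ ⟨W, hW⟩).symm (exteriorPower.ιMulti Γ(Y, W) m (M := E.val.obj (op W)) v) else 0

theorem top_eq {W : Y.Opens} (hW : IsAffineOpen W) (v : Fin m → Γ(E, W)) :
    top φ W v = (φ ⟨W, hW⟩).symm (exteriorPower.ιMulti Γ(Y, W) m (M := E.val.obj (op W)) v) := dif_pos hW

theorem top_det {W : Y.Opens} (hW : IsAffineOpen W) (e : Fin m → Γ(E, W))
    (C : Matrix (Fin m) (Fin m) Γ(Y, W)) :
    top φ W (fun k => ∑ l, C k l • e l) = C.det • top φ W e := by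
  rw [top_eq φ hW, top_eq φ hW]
  exact (congrArg (φ ⟨W, hW⟩).symm (map_sum_det (exteriorPower.ιMulti Γ(Y, W) m (M := E.val.obj (op W))) e C)).trans
    (map_smul (φ ⟨W, hW⟩).symm _ _)

theorem top_bijective {W : Y.Opens} (hW : IsAffineOpen W) {e : Fin m → Γ(E, W)} (he : Frame.IsFrame E e) :
    Function.Bijective fun b : Γ(Y, W) => b • top φ W e := by
  let bas : Module.Basis (Fin m) Γ(Y, W) (E.val.obj (op W)) := basisOfFrame he
  refine (congrArg Function.Bijective (funext fun b => ?_)).mp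
    ((φ ⟨W, hW⟩).symm.bijective.comp (BigOpen.bijective_smul_topWedge bas))
  rw [top_eq φ hW]
  refine (map_smul (φ ⟨W, hW⟩).symm b _).trans ?_
  refine congrArg (fun t => b • (φ ⟨W, hW⟩).symm (exteriorPower.ιMulti Γ(Y, W) m (M := E.val.obj (op W)) t)) ?_
  funext i
  exact basisOfFrame_apply he i

include hφ in
theorem res_top {W V : Y.Opens} (hW : IsAffineOpen W) (hV : IsAffineOpen V) (h : V ≤ W) (v : Fin m → Γ(E, W)) :
    res L h (top φ W v) = top φ V (fun i => res E h (v i)) := by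
  rw [top_eq φ hW, top_eq φ hV]
  exact hφ ⟨W, hW⟩ ⟨V, hV⟩ h v

end Top

variable {S P X : Scheme.{u}} {g : P ⟶ S} {f : X ⟶ S} [QuasiSeparated g] [QuasiSeparated f]
  (ι : X ⟶ P) [IsClosedImmersion ι]
  (cm : (Scheme.Modules.pullback ι).obj (Omega.sheaf g) ⟶ Omega.sheaf f)
  (hc : OmegaSh.IsDiffCompat ι (OmegaSh.dOmega g) (OmegaSh.dOmega f) cm)
  {c r n : ℕ} (hn : c + r = n)
  {ΩP : P.Modules} (φP : ∀ U : P.affineOpens, (ΩP.val.obj (op U.1)) ≃ₗ[Γ(P, U.1)]
    ↥(⋀[Γ(P, U.1)]^n ((Omega.sheaf g).val.obj (op U.1))))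
  (hφP : ∀ (U V : P.affineOpens) (h : V.1 ≤ U.1) (e : Fin n → (Omega.sheaf g).val.obj (op U.1)),
    ΩP.val.map (homOfLE h).op ((φP U).symm (exteriorPower.ιMulti _ n e)) =
      (φP V).symm (exteriorPower.ιMulti _ n (fun j => (Omega.sheaf g).val.map (homOfLE h).op (e j))))
  {ΩX : X.Modules} (φX : ∀ U : X.affineOpens, (ΩX.val.obj (op U.1)) ≃ₗ[Γ(X, U.1)]
    ↥(⋀[Γ(X, U.1)]^r ((Omega.sheaf f).val.obj (op U.1))))
  (hφX : ∀ (U V : X.affineOpens) (h : V.1 ≤ U.1) (e : Fin r → (Omega.sheaf f).val.obj (op U.1)),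
    ΩX.val.map (homOfLE h).op ((φX U).symm (exteriorPower.ιMulti _ r e)) =
      (φX V).symm (exteriorPower.ιMulti _ r (fun j => (Omega.sheaf f).val.map (homOfLE h).op (e j))))

/-- The value of the pairing at lifts. -/
abbrev val (W : P.Opens) (a : Fin c → ConormalWedge.Id ι W) (v : Fin r → Γ(Omega.sheaf g, W)) :
    Γ((Scheme.Modules.pullback ι).obj ΩP, ι ⁻¹ᵁ W) :=
  ExtPairing.u ι W (top φP W (vec ι hn a v))

/-- The wedge of the restrictions of lifts. -/
abbrev tX (W : P.Opens) (v : Fin r → Γ(Omega.sheaf g, W)) : Γ(ΩX, ι ⁻¹ᵁ W) :=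
  top φX (ι ⁻¹ᵁ W) (fun k => rho ι cm W (v k))

include hφX in
theorem tX_res {W V : P.Opens} (hW : IsAffineOpen W) (hV : IsAffineOpen V) (h : V ≤ W)
    (h' : ι ⁻¹ᵁ V ≤ ι ⁻¹ᵁ W) (v : Fin r → Γ(Omega.sheaf g, W)) :
    res ΩX h' (tX ι cm φX W v) = tX ι cm φX V (fun k => res _ h (v k)) := by
  rw [tX, res_top φX hφX (hW.preimage ι) (hV.preimage ι) h']
  exact congrArg (top φX _) (funext fun k => rho_res ι cm h h' (v k))

include hφP in
theorem val_res {W V : P.Opens} (hW : IsAffineOpen W) (hV : IsAffineOpen V) (h : V ≤ W)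
    (h' : ι ⁻¹ᵁ V ≤ ι ⁻¹ᵁ W) (a : Fin c → ConormalWedge.Id ι W) (v : Fin r → Γ(Omega.sheaf g, W)) :
    res _ h' (val ι hn φP W a v) =
      val ι hn φP V (fun i => res (ClSub.idealMod ι.ker) h (a i)) (fun k => res _ h (v k)) := by
  refine (app_res ((Scheme.Modules.pullbackPushforwardAdjunction ι).unit.app ΩP) h _).symm.trans
    (congrArg (ExtPairing.u ι V) ?_)
  exact (res_top φP hφP hW hV h _).trans (congrArg (top φP V) (funext fun k => vec_res ι hn h a v k))

include hc in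
theorem key {W : P.Opens} (hW : IsAffineOpen W) (D : Adapted ι cm c r n W) (a : Fin c → ConormalWedge.Id ι W)
    (A : Matrix (Fin c) (Fin c) Γ(P, W))
    (hA : ∀ i, ConormalWedge.fn ι (a i) = ∑ j, A i j * ConormalWedge.fn ι (D.gen j))
    (v : Fin r → Γ(Omega.sheaf g, W)) :
    ∃ C : Matrix (Fin r) (Fin r) Γ(X, ι ⁻¹ᵁ W),
      tX ι cm φX W v = C.det • tX ι cm φX W D.om ∧
      val ι hn φP W a v = (ι.app W A.det * C.det) • val ι hn φP W D.gen D.om := by
  classical
  let e := vec ι hn D.gen D.om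
  let bas := basisOfFrame D.frameP
  have hbas : ∀ l, bas l = e l := basisOfFrame_apply D.frameP
  let Mtx : Matrix (Fin n) (Fin n) Γ(P, W) := fun k l => bas.repr (vec ι hn a v k) l
  let π : Γ(P, W) →+* Γ(X, ι ⁻¹ᵁ W) := (ι.app W).hom
  let σ : Fin c ⊕ Fin r ≃ Fin n := finSumFinEquiv.trans (finCongr hn)
  have hσl : ∀ i, σ (Sum.inl i) = Fin.cast hn (Fin.castAdd r i) := fun i => rfl
  have hσr : ∀ k, σ (Sum.inr k) = Fin.cast hn (Fin.natAdd c k) := fun k => rfl
  have hrow : ∀ (i : Fin c) (l : Fin c ⊕ Fin r),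
      π (Mtx (σ (Sum.inl i)) (σ l)) = Sum.elim (fun j => π (A i j)) (fun _ => 0) l := by
    intro i l
    have hd : vec ι hn a v (σ (Sum.inl i)) = ∑ j, (A i j • bas (σ (Sum.inl j)) +
        ConormalWedge.fn ι (D.gen j) • OmegaSh.dSect g W (A i j)) := by
      rw [hσl, vec_left, hA]
      refine (map_sum ((OmegaSh.dOmega g).app W) _ _).trans (Finset.sum_congr rfl fun j _ => ?_)
      rw [hbas, hσl, show e (Fin.cast hn (Fin.castAdd r j)) = OmegaSh.dSect g W (ConormalWedge.fn ι (D.gen j)) from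
        vec_left ι hn D.gen D.om j]
      exact OmegaSh.dSect_mul g W _ _
    have hker : ∀ j, π (ConormalWedge.fn ι (D.gen j)) = 0 := fun j =>
      RingHom.mem_ker.1 (ConormalWedge.fn_mem ι (D.gen j))
    show π (bas.repr (vec ι hn a v (σ (Sum.inl i))) (σ l)) = _
    simp only [hd, map_sum, map_add, map_smul, Finsupp.coe_finsetSum, Finset.sum_apply, Finsupp.coe_add,
      Pi.add_apply, Finsupp.coe_smul, Pi.smul_apply, smul_eq_mul, map_mul, hker, zero_mul, add_zero,
      Module.Basis.repr_self]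
    rcases l with j | k
    · rw [Finset.sum_eq_single j]
      · simp
      · intro b _ hb
        simp [Finsupp.single_eq_of_ne (fun h : σ (Sum.inl j) = σ (Sum.inl b) => hb (Sum.inl_injective (σ.injective h)).symm)]
      · exact fun h => absurd (Finset.mem_univ j) h
    · refine Finset.sum_eq_zero fun b _ => ?_
      simp [Finsupp.single_eq_of_ne (fun h : σ (Sum.inr k) = σ (Sum.inl b) => Sum.inr_ne_inl (σ.injective h))]
  let C : Matrix (Fin r) (Fin r) Γ(X, ι ⁻¹ᵁ W) := fun k l => π (Mtx (σ (Sum.inr k)) (σ (Sum.inr l)))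
  refine ⟨C, ?_, ?_⟩
  · rw [tX, tX, ← top_det φX (hW.preimage ι)]
    refine congrArg (top φX _) (funext fun k => ?_)
    have hk : v k = ∑ l, Mtx (σ (Sum.inr k)) l • e l := by
      conv_lhs => rw [show v k = vec ι hn a v (σ (Sum.inr k)) from ((hσr k).symm ▸ vec_right ι hn a v k).symm,
        ← bas.sum_repr (vec ι hn a v (σ (Sum.inr k)))]
      exact Finset.sum_congr rfl fun l _ => by rw [hbas]
    rw [hk, rho_sum, ← σ.sum_comp, Fintype.sum_sum_type]
    have h0 : ∀ j, rho ι cm W (e (σ (Sum.inl j))) = 0 := fun j => by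
      rw [hσl, show e (Fin.cast hn (Fin.castAdd r j)) = _ from vec_left ι hn D.gen D.om j, rho_d_zero ι cm hc]
    simp only [rho_smul, h0, smul_zero, Finset.sum_const_zero, zero_add]
    refine Finset.sum_congr rfl fun l _ => ?_
    rw [show e (σ (Sum.inr l)) = D.om l from (congrArg e (hσr l)).trans (vec_right ι hn D.gen D.om l)]
  · have hv : vec ι hn a v = fun k => ∑ l, Mtx k l • e l := funext fun k => by
      conv_lhs => rw [← bas.sum_repr (vec ι hn a v k)]
      exact Finset.sum_congr rfl fun l _ => by rw [hbas]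
    rw [val, hv, top_det φP hW, ExtPairing.u_smul]
    refine congrArg (· • _) ?_
    show π Mtx.det = π A.det * C.det
    rw [π.map_det, π.map_det, ← Matrix.det_submatrix_equiv_self σ (π.mapMatrix Mtx)]
    rw [show (π.mapMatrix Mtx).submatrix σ σ = Matrix.fromBlocks (π.mapMatrix A) 0
        (fun k l => π (Mtx (σ (Sum.inr k)) (σ (Sum.inl l)))) C from ?_, Matrix.det_fromBlocks_zero₁₂]
    ext (i | k) (j | l)
    · exact hrow i (Sum.inl j)
    · exact hrow i (Sum.inr l)
    · rfl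
    · rfl

open Classical in
/-- The pairing. -/
def pr (W : P.Opens) (a : Fin c → ConormalWedge.Id ι W) (ξ : Γ(ΩX, ι ⁻¹ᵁ W)) :
    Γ((Scheme.Modules.pullback ι).obj ΩP, ι ⁻¹ᵁ W) :=
  if h : ∃ (v : Fin r → Γ(Omega.sheaf g, W)) (b : Γ(X, ι ⁻¹ᵁ W)), ξ = b • tX ι cm φX W v then
    h.choose_spec.choose • val ι hn φP W a h.choose
  else 0

include hc in
theorem exists_coeff {W : P.Opens} (hW : IsAffineOpen W) (D : Adapted ι cm c r n W) (ξ : Γ(ΩX, ι ⁻¹ᵁ W)) :
    ∃ b : Γ(X, ι ⁻¹ᵁ W), ξ = b • tX ι cm φX W D.om := by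
  obtain ⟨b, hb⟩ := (top_bijective φX (hW.preimage ι) D.frameX).2 ξ
  exact ⟨b, hb.symm⟩

theorem exists_matrix {W : P.Opens} (D : Adapted ι cm c r n W) (a : Fin c → ConormalWedge.Id ι W) :
    ∃ A : Matrix (Fin c) (Fin c) Γ(P, W),
      ∀ i, ConormalWedge.fn ι (a i) = ∑ j, A i j * ConormalWedge.fn ι (D.gen j) := by
  have h : ∀ i, ∃ A : Fin c → Γ(P, W), ∑ j, A j * ConormalWedge.fn ι (D.gen j) = ConormalWedge.fn ι (a i) :=
    fun i => Ideal.mem_span_range_iff_exists_fun.1 (D.span_eq.symm ▸ ConormalWedge.fn_mem ι (a i))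
  choose A hA using h
  exact ⟨A, fun i => (hA i).symm⟩

include hc in
theorem pr_eq {W : P.Opens} (hW : IsAffineOpen W) (D : Adapted ι cm c r n W) (a : Fin c → ConormalWedge.Id ι W)
    (v : Fin r → Γ(Omega.sheaf g, W)) (b : Γ(X, ι ⁻¹ᵁ W)) :
    pr ι cm hn φP φX W a (b • tX ι cm φX W v) = b • val ι hn φP W a v := by
  have h : ∃ (v' : Fin r → Γ(Omega.sheaf g, W)) (b' : Γ(X, ι ⁻¹ᵁ W)),
      b • tX ι cm φX W v = b' • tX ι cm φX W v' := ⟨v, b, rfl⟩
  rw [pr, dif_pos h]
  have h3 := h.choose_spec.choose_spec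
  generalize h.choose_spec.choose = b₀ at h3 ⊢
  generalize h.choose = v₀ at h3 ⊢
  obtain ⟨A, hA⟩ := exists_matrix ι cm D a
  obtain ⟨C, h1, h2⟩ := key ι cm hc hn φP φX hW D a A hA v
  obtain ⟨C', h1', h2'⟩ := key ι cm hc hn φP φX hW D a A hA v₀
  rw [h1, h1', smul_smul, smul_smul] at h3
  have h4 : b * C.det = b₀ * C'.det := (top_bijective φX (hW.preimage ι) D.frameX).1 h3
  rw [h2, h2', smul_smul, smul_smul, mul_left_comm, ← h4, mul_left_comm]

include hc in
theorem pr_gen {W : P.Opens} (hW : IsAffineOpen W) (D : Adapted ι cm c r n W) (a : Fin c → ConormalWedge.Id ι W)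
    (A : Matrix (Fin c) (Fin c) Γ(P, W))
    (hA : ∀ i, ConormalWedge.fn ι (a i) = ∑ j, A i j * ConormalWedge.fn ι (D.gen j)) (b : Γ(X, ι ⁻¹ᵁ W)) :
    pr ι cm hn φP φX W a (b • tX ι cm φX W D.om) = (b * ι.app W A.det) • val ι hn φP W D.gen D.om := by
  obtain ⟨C, h1, h2⟩ := key ι cm hc hn φP φX hW D a A hA D.om
  have h3 : C.det = 1 := (top_bijective φX (hW.preimage ι) D.frameX).1 (h1.symm.trans (one_smul _ _).symm)
  rw [pr_eq ι cm hc hn φP φX hW D, h2, h3, mul_one, smul_smul]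

/-- The good opens. -/
def goods (c r n : ℕ) : Set P.Opens :=
  {W | IsAffineOpen W ∧ (ι ⁻¹ᵁ W = ⊥ ∨ ∃ D : Adapted ι cm c r n W, ConormalWedge.IsGens ι W D.gen)}

include hc in
theorem isBasis_goods [SmoothOfRelativeDimension n g] [SmoothOfRelativeDimension r f] [IsLocallyNoetherian P]
    (hfg : ι ≫ g = f) : Opens.IsBasis (goods ι cm (n - r) r n) := by
  haveI : Smooth g := SmoothOfRelativeDimension.smooth n g
  haveI : Smooth f := SmoothOfRelativeDimension.smooth r f
  have hreg := KRegLib.regImm_of_regImm _ RegImm.Kind.regular ι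
    (S8656.result f (fun x => CurvLocusLib.isKoszulAt_of_smooth f x) g ι hfg)
  refine Opens.isBasis_iff_nbhd.2 fun {U p} hp => ?_
  by_cases hpX : p ∈ Set.range ι
  · obtain ⟨x, rfl⟩ := hpX
    obtain ⟨W₀, hxW₀, -, rs, hseq, hker⟩ := hreg.2 x
    have hk : RingHom.ker (ι.app W₀.1).hom = Ideal.ofList rs := hker
    choose f₀ hf₀ using fun i : Fin rs.length =>
      ConormalWedge.exists_fn ι (rs[i]) (by rw [hk]; exact Ideal.subset_span (List.getElem_mem i.2))
    have hl : (List.ofFn fun i => ConormalWedge.fn ι (f₀ i)) = rs := by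
      simp only [hf₀]
      exact List.ofFn_getElem
    have hg₀ : ConormalWedge.IsGens ι W₀.1 f₀ := by
      refine ⟨by rw [hl]; exact RingTheory.Sequence.IsRegular.toIsWeaklyRegular hseq, ?_⟩
      rw [hk, ← congrArg Ideal.ofList hl]
      exact congrArg Ideal.span (Set.ext fun a => (List.mem_ofFn.trans Iff.rfl).symm)
    obtain ⟨W, hW, hxW, D, hD⟩ := exists_adapted ι cm hc (n := n) (r := r) hfg x W₀.2 hxW₀ hg₀
    obtain ⟨q, hq, hxq⟩ := hW.exists_basicOpen_le ⟨ι x, hp⟩ hxW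
    obtain hlen : rs.length = n - r := by have := D.hn; omega
    let D' := D.restrict ι cm hW (hW.basicOpen q) (P.basicOpen_le q)
    have hD' : ConormalWedge.IsGens ι _ D'.gen := hD.basicOpen ι hW q
    refine ⟨P.basicOpen q, ⟨hW.basicOpen q, Or.inr ?_⟩, hxq, hq⟩
    exact hlen ▸ ⟨D', hD'⟩
  · let O : P.Opens := U ⊓ ⟨(Set.range ι)ᶜ, ι.isClosedEmbedding.isClosed_range.isOpen_compl⟩
    obtain ⟨_, ⟨W, hW, rfl⟩, hpW, hWO⟩ := P.isBasis_affineOpens.exists_subset_of_mem_open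
      (show p ∈ O from ⟨hp, hpX⟩) O.2
    refine ⟨W, ⟨hW, Or.inl (bot_unique fun x hx => ?_)⟩, hpW, fun q hq => (hWO hq).1⟩
    exact ((hWO hx).2 ⟨x, rfl⟩).elim

omit hn in
theorem subsingleton_of_bot {W : P.Opens} (h : ι ⁻¹ᵁ W = ⊥) (N : X.Modules) : Subsingleton Γ(N, ι ⁻¹ᵁ W) := by
  rw [h]
  exact Module.subsingleton Γ(X, (⊥ : X.Opens)) _

/-- The pairing as data. -/
def pairing (hΩ : Coh.IsQCoh ΩP) (hB : Opens.IsBasis (goods ι cm c r n))
    (hc : OmegaSh.IsDiffCompat ι (OmegaSh.dOmega g) (OmegaSh.dOmega f) cm)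
    (hφP : ∀ (U V : P.affineOpens) (h : V.1 ≤ U.1) (e : Fin n → (Omega.sheaf g).val.obj (op U.1)),
      ΩP.val.map (homOfLE h).op ((φP U).symm (exteriorPower.ιMulti _ n e)) =
        (φP V).symm (exteriorPower.ιMulti _ n (fun j => (Omega.sheaf g).val.map (homOfLE h).op (e j))))
    (hφX : ∀ (U V : X.affineOpens) (h : V.1 ≤ U.1) (e : Fin r → (Omega.sheaf f).val.obj (op U.1)),
      ΩX.val.map (homOfLE h).op ((φX U).symm (exteriorPower.ιMulti _ r e)) =
        (φX V).symm (exteriorPower.ιMulti _ r (fun j => (Omega.sheaf f).val.map (homOfLE h).op (e j)))) :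
    ExtPairing.Pairing ι c ΩP where
  H := ΩX
  goods := goods ι cm c r n
  isBasis := hB
  affine W hW := hW.1
  pr := pr ι cm hn φP φX
  pr_add W hW a h h' := by
    rcases hW.2 with hbot | ⟨D, -⟩
    · haveI := subsingleton_of_bot ι hbot ((Scheme.Modules.pullback ι).obj ΩP)
      exact Subsingleton.elim _ _
    obtain ⟨b, rfl⟩ := exists_coeff ι cm hc φX hW.1 D h
    obtain ⟨b', rfl⟩ := exists_coeff ι cm hc φX hW.1 D h'
    rw [← add_smul, pr_eq ι cm hc hn φP φX hW.1 D, pr_eq ι cm hc hn φP φX hW.1 D, pr_eq ι cm hc hn φP φX hW.1 D,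
      add_smul]
  pr_smul W hW a b h := by
    rcases hW.2 with hbot | ⟨D, -⟩
    · haveI := subsingleton_of_bot ι hbot ((Scheme.Modules.pullback ι).obj ΩP)
      exact Subsingleton.elim _ _
    obtain ⟨b', rfl⟩ := exists_coeff ι cm hc φX hW.1 D h
    rw [smul_smul, pr_eq ι cm hc hn φP φX hW.1 D, pr_eq ι cm hc hn φP φX hW.1 D, smul_smul]
  pr_res W hW V hV i i' a h := by
    rcases hV.2 with hbot | ⟨D', -⟩
    · haveI := subsingleton_of_bot ι hbot ((Scheme.Modules.pullback ι).obj ΩP)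
      exact Subsingleton.elim _ _
    rcases hW.2 with hbot | ⟨D, -⟩
    · haveI := subsingleton_of_bot ι (W := V) (bot_unique (hbot ▸ i')) ((Scheme.Modules.pullback ι).obj ΩP)
      exact Subsingleton.elim _ _
    obtain ⟨b, rfl⟩ := exists_coeff ι cm hc φX hW.1 D h
    rw [pr_eq ι cm hc hn φP φX hW.1 D, res_smul, res_smul, val_res ι hn φP hφP hW.1 hV.1 i i',
      tX_res ι cm φX hφX hW.1 hV.1 i i', pr_eq ι cm hc hn φP φX hV.1 D']
  pr_det W hW f₁ a hf A hA h := by
    rcases hW.2 with hbot | ⟨D, -⟩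
    · haveI := subsingleton_of_bot ι hbot ((Scheme.Modules.pullback ι).obj ΩP)
      exact Subsingleton.elim _ _
    obtain ⟨b, rfl⟩ := exists_coeff ι cm hc φX hW.1 D h
    obtain ⟨B, hB'⟩ := exists_matrix ι cm D f₁
    have hAB : ∀ i, ConormalWedge.fn ι (a i) = ∑ j, (A * B) i j * ConormalWedge.fn ι (D.gen j) := fun i => by
      rw [hA]
      simp only [hB', Matrix.mul_apply, Finset.mul_sum, Finset.sum_mul, mul_assoc]
      exact Finset.sum_comm
    rw [pr_gen ι cm hc hn φP φX hW.1 D a (A * B) hAB, pr_gen ι cm hc hn φP φX hW.1 D f₁ B hB', smul_smul,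
      Matrix.det_mul, map_mul]
    congr 1
    ring
  gens W hW := by
    rcases hW.2 with hbot | ⟨D, hD⟩
    · exact Or.inl hbot
    refine Or.inr ⟨D.gen, hD, fun V hV i => ?_⟩
    let D' := D.restrict ι cm hW.1 hV.1 i
    have hD'1 : ∀ l, ConormalWedge.fn ι (D'.gen l) =
        ∑ j, (1 : Matrix (Fin c) (Fin c) Γ(P, V)) l j * ConormalWedge.fn ι (D'.gen j) := fun l => by
      simp [Matrix.one_apply]
    have hT := top_bijective φX (hV.1.preimage ι) D'.frameX
    let T := top φP V (vec ι hn D'.gen D'.om)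
    have hTP := top_bijective φP hV.1 (show Frame.IsFrame (Omega.sheaf g) (vec ι hn D'.gen D'.om) from D'.frameP)
    have hu : Function.Bijective fun b : Γ(X, ι ⁻¹ᵁ V) => b • ExtPairing.u ι V T := by
      refine ⟨fun b b' hbb => ?_, fun z => ?_⟩
      · obtain ⟨q, rfl⟩ := ι.app_surjective V hV.1 b
        obtain ⟨q', rfl⟩ := ι.app_surjective V hV.1 b'
        have h0 : ExtPairing.u ι V ((q - q') • T) = 0 := by
          rw [ExtPairing.u_smul, map_sub, sub_smul]
          exact sub_eq_zero.2 hbb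
        let Eq₀ : Γ(P, V) ≃ₗ[Γ(P, V)] Γ(ΩP, V) := LinearEquiv.ofBijective (LinearMap.toSpanSingleton _ _ T) hTP
        have h1 : (q - q') • T ∈ (RingHom.ker (ι.app V).hom : Ideal Γ(P, V)) •
            (⊤ : Submodule Γ(P, V) Γ(ΩP, V)) := (ExtPairing.u_eq_zero ι hΩ hV.1 _).1 h0
        have h2 := Submodule.mem_map_of_mem (f := Eq₀.symm.toLinearMap) h1
        rw [Submodule.map_smul'', Submodule.map_top, LinearEquiv.range, Ideal.smul_eq_mul, Ideal.mul_top] at h2
        have h3 : Eq₀.symm ((q - q') • T) = q - q' := Eq₀.symm_apply_eq.2 rfl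
        rw [LinearEquiv.coe_coe, h3] at h2
        exact sub_eq_zero.1 ((map_sub _ _ _).symm.trans (RingHom.mem_ker.1 h2))
      · obtain ⟨m, rfl⟩ := (QCoh.unit_app_closed ι hΩ hV.1).1 z
        obtain ⟨q, rfl⟩ := hTP.2 m
        exact ⟨ι.app V q, (ExtPairing.u_smul ι V q T).symm⟩
    have hval : ∀ b, pr ι cm hn φP φX V D'.gen (b • tX ι cm φX V D'.om) = b • ExtPairing.u ι V T := fun b => by
      rw [pr_eq ι cm hc hn φP φX hV.1 D']
    refine ⟨fun t t' htt => ?_, fun z => ?_⟩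
    · obtain ⟨b, rfl⟩ := exists_coeff ι cm hc φX hV.1 D' t
      obtain ⟨b', rfl⟩ := exists_coeff ι cm hc φX hV.1 D' t'
      exact congrArg (· • _) (hu.1 ((hval b).symm.trans (htt.trans (hval b'))))
    · obtain ⟨b, rfl⟩ := hu.2 z
      exact ⟨b • tX ι cm φX V D'.om, hval b⟩

include hφP in
theorem isQCoh_top [SmoothOfRelativeDimension n g] : Coh.IsQCoh ΩP := by
  have hinv : PicF.IsInvertible ΩP := InvX.isInvertible_of_frames fun p => by
    obtain ⟨U, hU, V, -, -, hpU, s, hs⟩ := exists_frame_omega g n p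
    obtain ⟨i⟩ := Frame.exists_iso_of_frame s hs
    have hr : FlatMod.IsFinLocFreeOfRank n ((Omega.sheaf g).restrict U.ι) := fun z =>
      ⟨⊤, trivial, ⟨(Scheme.Modules.restrictFunctor _).mapIso i ≪≫ QCoh.freeModRestrict _ n⟩⟩
    obtain ⟨W, t, hpW, ht⟩ := BigOpen.exists_frame (OmegaUniv.isQCoh_omega g) ⟨φP, hφP⟩ hr hpU
    exact ⟨W, hpW, t, ht⟩
  exact QCoh.isQCoh_of_isFinLocFree fun x =>
    let ⟨U, hx, e⟩ := InvEnd.isFinLocFreeOfRank_one hinv x
    ⟨U, 1, hx, e⟩

theorem isZero_of_basis {Y : Scheme.{u}} (N : Y.Modules)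
    (h : ∀ W : Y.Opens, IsAffineOpen W → ∀ s : Γ(N, W), s = 0) : IsZero N := by
  refine (IsZero.iff_id_eq_zero N).2 (Scheme.Modules.hom_ext _ _ fun V => ?_)
  ext s
  refine BasisHom.eq_of_basis (B := {W : Y.Opens | IsAffineOpen W}) Y.isBasis_affineOpens _ _ fun W hW i => ?_
  rw [h W hW (res N i _), h W hW (res N i _)]

theorem isZero_cplx_homology [IsEmpty X] {F : P.Modules} (I : InjectiveResolution F) (q : ℕ) :
    IsZero ((ExtPairing.cplx ι I).homology q) := by
  refine (HomologicalComplex.exactAt_iff_isZero_homology _ _).1 (ShortComplex.exact_of_isZero_X₂ _ ?_)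
  refine isZero_of_basis _ fun W hW s => ?_
  haveI := HomPushSections.mono_eps ι (I.cocomplex.X q)
  apply QCoh.app_injective (HomPushSections.eps ι (I.cocomplex.X q)) W
  have h1 : (1 : Γ(P, W)) ∈ RingHom.ker (ι.app W).hom := by
    haveI : Subsingleton Γ(X, ι ⁻¹ᵁ W) := by
      rw [show ι ⁻¹ᵁ W = ⊥ from bot_unique fun x _ => isEmptyElim x]
      infer_instance
    exact Subsingleton.elim _ _
  rw [← one_smul Γ(P, W) ((HomPushSections.eps ι (I.cocomplex.X q)).app W s),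
    (HomPushSections.eps_range ι (I.cocomplex.X q) hW _).1 ⟨s, rfl⟩ 1 h1]
  exact (map_zero _).symm

end Groth.Agent.SmoothPairing
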