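import Groth.Agent.H23.DblBuild
import Groth.Agent.RelSpecX.Gamma
import Groth.Agent.OmegaLib.IdealMod
import Groth.Agent.QCoh.ClosedPush
import Groth.Agent.RelSpecX.AffHom
import Groth.Prelude.Def_ClSub2
import Mathlib.AlgebraicGeometry.Morphisms.FiniteType

/-! The trivial square-zero extension of a scheme by an invertible module. -/

set_option linter.style.haveILetI false
set_option backward.isDefEq.respectTransparency false
set_option backward.isDefEq.respectTransparency.types false

universe u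

open CategoryTheory CategoryTheory.Limits AlgebraicGeometry TopologicalSpace Opposite

noncomputable section

namespace Groth.Agent.SplitRibbon12

/-- A section of an algebra as a function on the relative spectrum. -/
def gsec {X : Scheme.{u}} (A : RelSpec.QCAlg X) (U : X.Opens) : A.presheaf.obj (op U) →+* Γ(A.spec, A.π ⁻¹ᵁ U) :=
  haveI := RelSpecX.isIso_gammaMap A
  ((inv A.gammaMap).app (op U)).hom

theorem gammaMap_gsec {X : Scheme.{u}} (A : RelSpec.QCAlg X) (U : X.Opens) (a : A.presheaf.obj (op U)) :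
    (A.gammaMap.app (op U)).hom (gsec A U a) = a := by
  haveI := RelSpecX.isIso_gammaMap A
  exact ConcreteCategory.congr_hom ((asIso A.gammaMap).inv_hom_id_app (op U)) a

theorem gsec_gammaMap {X : Scheme.{u}} (A : RelSpec.QCAlg X) (U : X.Opens) (t : Γ(A.spec, A.π ⁻¹ᵁ U)) :
    gsec A U ((A.gammaMap.app (op U)).hom t) = t := by
  haveI := RelSpecX.isIso_gammaMap A
  exact ConcreteCategory.congr_hom ((asIso A.gammaMap).hom_inv_id_app (op U)) t

theorem gsec_bijective {X : Scheme.{u}} (A : RelSpec.QCAlg X) (U : X.Opens) : Function.Bijective (gsec A U) :=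
  ⟨fun a b h => by rw [← gammaMap_gsec A U a, h, gammaMap_gsec], fun t => ⟨_, gsec_gammaMap A U t⟩⟩

theorem gsec_str {X : Scheme.{u}} (A : RelSpec.QCAlg X) (U : X.Opens) (c : Γ(X, U)) :
    gsec A U ((A.str.app (op U)).hom c) = A.π.app U c := by
  have h := ConcreteCategory.congr_hom (NatTrans.congr_app A.π_c_gammaMap (op U)) c
  rw [← h]
  exact gsec_gammaMap A U _

theorem gsec_res {X : Scheme.{u}} (A : RelSpec.QCAlg X) {U V : X.Opens} (h : V ≤ U) (a : A.presheaf.obj (op U)) :
    gsec A V ((A.presheaf.map (homOfLE h).op).hom a) =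
      (A.spec.presheaf.map (homOfLE (A.π.preimage_mono h)).op).hom (gsec A U a) := by
  haveI := RelSpecX.isIso_gammaMap A
  exact ConcreteCategory.congr_hom ((inv A.gammaMap).naturality (homOfLE h).op) a

variable {X : Scheme.{u}} {L : X.Modules} (hL : PicF.IsInvertible L)

/-- The algebra `O ⊕ L` with `L² = 0`. -/
abbrev alg : RelSpec.QCAlg X := H23.DblBuild.dblAlg hL 0

/-- The total space. -/
abbrev tot : Scheme.{u} := (alg hL).spec

/-- The projection. -/
abbrev proj : tot hL ⟶ X := (alg hL).π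

instance : IsAffineHom (proj hL) :=
  ⟨fun U hU => by rw [(alg hL).π_preimage U hU]; exact isAffineOpen_opensRange _⟩

theorem b_zero (W : X.Opens) (l l' : Γ(L, W)) :
    H23.DblBuild.b (0 : CohB1.tensorMod L L ⟶ Coh.structureModule X) W l l' = 0 := rfl

/-- A section of the algebra. -/
abbrev pair (W : X.Opens) (r : Γ(X, W)) (l : Γ(L, W)) : (alg hL).presheaf.obj (op W) :=
  ((r, l) : H23.DblBuild.Pair hL 0 W)

/-- The augmentation. -/
def aug (W : X.Opens) : H23.DblBuild.Pair hL 0 W →+* Γ(X, W) where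
  toFun p := p.1
  map_one' := rfl
  map_mul' p q := show p.1 * q.1 + H23.DblBuild.b _ W p.2 q.2 = p.1 * q.1 by rw [b_zero, add_zero]
  map_zero' := rfl
  map_add' _ _ := rfl

/-- The augmentation on presheaves. -/
def augP : (alg hL).presheaf ⟶ X.presheaf where
  app W := CommRingCat.ofHom (aug hL W.unop)
  naturality _ _ _ := rfl

theorem ω_comm : (proj hL).c ≫ ((alg hL).gammaMap ≫ augP hL) = 𝟙 X.presheaf := by
  rw [← Category.assoc, (alg hL).π_c_gammaMap]
  rfl

/-- The algebra map defining the section. -/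
def ω : AffAlg.algHoms (proj hL) (𝟙 X) := ⟨(alg hL).gammaMap ≫ augP hL, ω_comm hL⟩

/-- The zero section. -/
def sec : X ⟶ tot hL := RelSpecX.ofAlgHom (proj hL) (𝟙 X) (ω hL)

theorem sec_proj : sec hL ≫ proj hL = 𝟙 X := RelSpecX.ofAlgHom_comp _ _ _

instance : IsClosedImmersion (sec hL) :=
  haveI : IsClosedImmersion (sec hL ≫ proj hL) := by rw [sec_proj]; infer_instance
  IsClosedImmersion.of_comp (sec hL) (proj hL)

theorem sec_app_gsec (W : X.Opens) (p : H23.DblBuild.Pair hL 0 W) (e : W ≤ sec hL ⁻¹ᵁ (proj hL ⁻¹ᵁ W)) :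
    (sec hL).appLE (proj hL ⁻¹ᵁ W) W e (gsec (alg hL) W p) = p.1 := by
  have h : (AffAlg.algHom (proj hL) (𝟙 X) (sec hL) (sec_proj hL)).app (op W) =
      ((alg hL).gammaMap ≫ augP hL).app (op W) :=
    congrArg (fun α : AffAlg.alg (proj hL) ⟶ AffAlg.alg (𝟙 X) => α.app (op W))
      (RelSpecX.algHom_ofAlgHom (proj hL) (𝟙 X) (ω hL))
  rw [RelSpecX.algHom_app] at h
  refine (ConcreteCategory.congr_hom h (gsec (alg hL) W p)).trans ?_
  show (aug hL W) (((alg hL).gammaMap.app (op W)).hom (gsec (alg hL) W p)) = p.1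
  rw [gammaMap_gsec]
  rfl

theorem preimage_sec (W : X.Opens) : sec hL ⁻¹ᵁ (proj hL ⁻¹ᵁ W) = W := by
  rw [← Scheme.Hom.comp_preimage, sec_proj]
  rfl

theorem sec_app_eq_zero_iff (W : X.Opens) (t : Γ(tot hL, proj hL ⁻¹ᵁ W)) :
    (sec hL).app (proj hL ⁻¹ᵁ W) t = 0 ↔ ((alg hL).gammaMap.app (op W) t : H23.DblBuild.Pair hL 0 W).1 = 0 := by
  set p : H23.DblBuild.Pair hL 0 W := (alg hL).gammaMap.app (op W) t with hp
  have ht : gsec (alg hL) W p = t := gsec_gammaMap _ W t
  have h := sec_app_gsec hL W p (preimage_sec hL W).ge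
  rw [ht, Scheme.Hom.appLE] at h
  have e : Function.Bijective (X.presheaf.map (homOfLE (preimage_sec hL W).ge).op) := by
    haveI : IsIso (homOfLE (preimage_sec hL W).ge) := homOfLE_isIso_of_eq _ (preimage_sec hL W).symm
    exact ConcreteCategory.bijective_of_isIso _
  constructor
  · intro h0
    rw [← h]
    exact (congrArg (X.presheaf.map (homOfLE (preimage_sec hL W).ge).op) h0).trans (map_zero _)
  · intro h0
    refine e.1 ?_
    rw [map_zero]
    exact h.trans h0

/-- The ideal of the zero section. -/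
abbrev ideal : (tot hL).IdealSheafData := (sec hL).ker

theorem sq_eq_bot : ideal hL ^ 2 = ⊥ := by
  refine Scheme.IdealSheafData.ext_of_iSup_eq_top
    (fun U : X.affineOpens => (⟨proj hL ⁻¹ᵁ U.1, U.2.preimage (proj hL)⟩ : (tot hL).affineOpens)) ?_ fun U => ?_
  · rw [eq_top_iff]
    intro x _
    have h : proj hL x ∈ (⊤ : X.Opens) := trivial
    rw [← iSup_affineOpens_eq_top X, Opens.mem_iSup] at h
    obtain ⟨U, hU⟩ := h
    exact Opens.mem_iSup.2 ⟨U, hU⟩
  · rw [Scheme.IdealSheafData.ideal_pow, Pi.pow_apply, Scheme.IdealSheafData.ideal_bot, Pi.bot_apply, pow_two,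
      eq_bot_iff, Ideal.mul_le]
    intro s hs t ht
    rw [Ideal.mem_bot]
    have hz : ∀ s ∈ (ideal hL).ideal ⟨proj hL ⁻¹ᵁ U.1, U.2.preimage (proj hL)⟩,
        ∃ l, s = gsec (alg hL) U.1 (pair hL U.1 0 l) := by
      intro s hs
      rw [Scheme.Hom.ker_apply] at hs
      have h1 := (sec_app_eq_zero_iff hL U.1 s).1 hs
      refine ⟨((alg hL).gammaMap.app (op U.1) s : H23.DblBuild.Pair hL 0 U.1).2, ?_⟩
      refine (gsec_gammaMap (alg hL) U.1 s).symm.trans (congrArg (gsec (alg hL) U.1) ?_)
      exact H23.DblBuild.Pair.ext (hL := hL) (m := 0) h1 rfl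
    obtain ⟨l, rfl⟩ := hz s hs
    obtain ⟨l', rfl⟩ := hz t ht
    rw [← map_mul, show pair hL U.1 0 l * pair hL U.1 0 l' = 0 from H23.DblBuild.Pair.ext (hL := hL) (m := 0)
      (show (0 : Γ(X, U.1)) * 0 + H23.DblBuild.b _ U.1 l l' = 0 by rw [b_zero, mul_zero, add_zero])
      (show (0 : Γ(X, U.1)) • l' + (0 : Γ(X, U.1)) • l = 0 by rw [zero_smul, zero_smul, add_zero]), map_zero]

instance locallyOfFiniteType_proj : LocallyOfFiniteType (proj hL) := by
  choose V g hV hg using H23.DblAlg.exists_gen hL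
  choose U hU hxU hUV using fun x : X => exists_isAffineOpen_mem_and_subset (hV x)
  refine IsZariskiLocalAtTarget.of_iSup_eq_top (fun x : X => U x) ?_ fun x => ?_
  · exact eq_top_iff.2 fun y _ => Opens.mem_iSup.2 ⟨y, hxU y⟩
  haveI : IsAffine (U x).toScheme := hU x
  haveI : IsAffine ((proj hL ⁻¹ᵁ U x).toScheme) := (hU x).preimage (proj hL)
  rw [HasRingHomProperty.iff_of_isAffine (P := @LocallyOfFiniteType), morphismRestrict_appTop]
  refine RingHom.FiniteType.comp
    (RingHom.FiniteType.of_surjective _ (ConcreteCategory.bijective_of_isIso _).2) ?_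
  let W : X.Opens := (U x).ι ''ᵁ ⊤
  have hW : W ≤ V x := le_trans (Scheme.Opens.ι_image_top (U x)).le (hUV x)
  let g' := L.presheaf.map (homOfLE hW).op (g x)
  have key : ((proj hL).app W).hom.Finite := by
    classical
    letI := ((proj hL).app W).hom.toAlgebra
    refine ⟨⟨{1, gsec (alg hL) W (pair hL W 0 g')}, eq_top_iff.2 fun t _ => ?_⟩⟩
    let p : H23.DblBuild.Pair hL 0 W := (alg hL).gammaMap.app (op W) t
    obtain ⟨c, hc⟩ := (hg x W hW).2 p.2
    rw [H23.Frame.comb, Fin.sum_univ_one] at hc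
    have ht : t = p.1 • (1 : Γ(tot hL, proj hL ⁻¹ᵁ W)) + c 0 • gsec (alg hL) W (pair hL W 0 g') := by
      rw [Algebra.smul_def, Algebra.smul_def, mul_one, RingHom.algebraMap_toAlgebra,
        ← gsec_str, ← gsec_str, ← map_mul, ← map_add]
      refine (gsec_gammaMap (alg hL) W t).symm.trans (congrArg (gsec (alg hL) W) ?_)
      rw [show ((alg hL).str.app (op W)).hom (c 0) * pair hL W 0 g' = (c 0 * 0, c 0 • g') from
        H23.DblBuild.str_mul hL 0 (c 0) (pair hL W 0 g')]
      exact H23.DblBuild.Pair.ext (hL := hL) (m := 0) (show p.1 = p.1 + c 0 * 0 by ring)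
        (show p.2 = 0 + c 0 • g' by rw [zero_add]; exact hc.symm)
    rw [ht, Finset.coe_pair]
    exact add_mem (Submodule.smul_mem _ _ (Submodule.subset_span (Set.mem_insert _ _)))
      (Submodule.smul_mem _ _ (Submodule.subset_span (Set.mem_insert_of_mem _ rfl)))
  exact key.finiteType

/-- Sections of the module as sections of the ideal. -/
theorem exists_lift (W : X.Opens) (l : Γ(L, W)) :
    ∃ k : Γ(ClSub.idealMod (ideal hL), proj hL ⁻¹ᵁ W),
      OmegaSh.idealSect (ideal hL) (proj hL ⁻¹ᵁ W) k = gsec (alg hL) W (pair hL W 0 l) := by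
  refine OmegaLib.exists_idealSect_eq _ _ _ ?_
  have h0 : (sec hL).app (proj hL ⁻¹ᵁ W) (gsec (alg hL) W (pair hL W 0 l)) = 0 :=
    (sec_app_eq_zero_iff hL W _).2 (congrArg Prod.fst (gammaMap_gsec (alg hL) W (pair hL W 0 l)))
  have h1 := Scheme.Hom.congr_app (sec hL).toImage_imageι (proj hL ⁻¹ᵁ W)
  refine (injective_iff_map_eq_zero _).1 (ConcreteCategory.bijective_of_isIso
    ((sec hL).toImage.app ((sec hL).imageι ⁻¹ᵁ (proj hL ⁻¹ᵁ W)))).1 _ ?_
  have h2 := ConcreteCategory.congr_hom h1 (gsec (alg hL) W (pair hL W 0 l))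
  rw [Scheme.Hom.comp_app, ConcreteCategory.comp_apply, ConcreteCategory.comp_apply, h0, map_zero] at h2
  exact h2

/-- Sections of the module as sections of the ideal. -/
def lift (W : X.Opens) (l : Γ(L, W)) : Γ(ClSub.idealMod (ideal hL), proj hL ⁻¹ᵁ W) := (exists_lift hL W l).choose

theorem idealSect_lift (W : X.Opens) (l : Γ(L, W)) :
    OmegaSh.idealSect (ideal hL) (proj hL ⁻¹ᵁ W) (lift hL W l) = gsec (alg hL) W (pair hL W 0 l) :=
  (exists_lift hL W l).choose_spec

theorem lift_bijective (W : X.Opens) : Function.Bijective (lift hL W) := by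
  constructor
  · intro l l' h
    have h1 := congrArg (OmegaSh.idealSect (ideal hL) (proj hL ⁻¹ᵁ W)) h
    rw [idealSect_lift, idealSect_lift] at h1
    exact congrArg Prod.snd ((gsec_bijective (alg hL) W).1 h1)
  · intro k
    set t := OmegaSh.idealSect (ideal hL) (proj hL ⁻¹ᵁ W) k with ht
    have h0 : (sec hL).app (proj hL ⁻¹ᵁ W) t = 0 := by
      have h1 := ConcreteCategory.congr_hom (Scheme.Hom.congr_app (sec hL).toImage_imageι (proj hL ⁻¹ᵁ W)) t
      have h2 : (sec hL).imageι.app (proj hL ⁻¹ᵁ W) t = 0 :=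
        OmegaLib.subschemeι_app_idealSect (ideal hL) (proj hL ⁻¹ᵁ W) k
      rw [Scheme.Hom.comp_app, ConcreteCategory.comp_apply, ConcreteCategory.comp_apply, h2, map_zero] at h1
      exact (ConcreteCategory.bijective_of_isIso _).1 (h1.symm.trans (map_zero _).symm)
    refine ⟨((alg hL).gammaMap.app (op W) t : H23.DblBuild.Pair hL 0 W).2,
      OmegaLib.idealSect_injective (ideal hL) _ ?_⟩
    rw [idealSect_lift, ← ht]
    refine Eq.trans (congrArg (gsec (alg hL) W) ?_) (gsec_gammaMap (alg hL) W t)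
    exact H23.DblBuild.Pair.ext (hL := hL) (m := 0) ((sec_app_eq_zero_iff hL W t).1 h0).symm rfl

/-- The module is the direct image of the ideal. -/
def liftHom : L ⟶ (Scheme.Modules.pushforward (proj hL)).obj (ClSub.idealMod (ideal hL)) :=
  ⟨PresheafOfModules.homMk
    { app := fun W => AddCommGrpCat.ofHom (AddMonoidHom.mk' (lift hL W.unop) fun l l' => by
        refine OmegaLib.idealSect_injective (ideal hL) _ ?_
        rw [map_add, idealSect_lift, idealSect_lift, idealSect_lift, ← map_add]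
        exact congrArg (gsec (alg hL) W.unop) (H23.DblBuild.Pair.ext (hL := hL) (m := 0) (add_zero 0).symm rfl))
      naturality := fun W W' i => by
        ext l
        refine OmegaLib.idealSect_injective (ideal hL) _ ?_
        refine (idealSect_lift hL W'.unop _).trans ?_
        refine Eq.trans ?_ (OmegaLib.idealSect_map (ideal hL) ((proj hL).preimage_mono i.unop.le) _).symm
        refine Eq.trans ?_ (congrArg ((tot hL).presheaf.map (homOfLE ((proj hL).preimage_mono i.unop.le)).op)
          (idealSect_lift hL W.unop l)).symm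
        refine Eq.trans ?_ (gsec_res (alg hL) i.unop.le (pair hL W.unop 0 l))
        exact congrArg (gsec (alg hL) W'.unop) (H23.DblBuild.Pair.ext (hL := hL) (m := 0) (map_zero _).symm rfl) }
    fun W r l => by
      refine OmegaLib.idealSect_injective (ideal hL) _ ?_
      refine (idealSect_lift hL W.unop _).trans ?_
      refine Eq.trans ?_ (OmegaLib.idealSect_smul (ideal hL) _ ((proj hL).app W.unop r) (lift hL W.unop l)).symm
      rw [idealSect_lift, ← gsec_str, ← map_mul]
      refine congrArg (gsec (alg hL) W.unop) (Eq.trans ?_ (H23.DblBuild.str_mul hL 0 r (pair hL W.unop 0 l)).symm)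
      exact H23.DblBuild.Pair.ext (hL := hL) (m := 0) (mul_zero _).symm rfl⟩

theorem isIso_liftHom : IsIso (liftHom hL) := by
  refine QCoh.isIso_of_isBasis _ X.isBasis_affineOpens fun U _ => ?_
  exact lift_bijective hL U

/-- The conormal module of the zero section is the module. -/
theorem nonempty_pullback_ideal :
    Nonempty ((Scheme.Modules.pullback (sec hL)).obj (ClSub.idealMod (ideal hL)) ≅ L) := by
  haveI := isIso_liftHom hL
  haveI : IsIso ((Scheme.Modules.pullbackPushforwardAdjunction (sec hL)).unit.app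
      (ClSub.idealMod (ideal hL))) := by
    refine (QCoh.isIso_unit_closed_iff (sec hL) (QCoh.isQCoh_kernel QCoh.isQCoh_structureModule
      (QCoh.isQCoh_pushforward (ideal hL).subschemeι QCoh.isQCoh_structureModule) _)).2 fun U a ha s => ?_
    refine OmegaLib.idealSect_injective (ideal hL) U.1 ?_
    rw [map_zero, OmegaLib.idealSect_smul]
    have h2 : (ideal hL ^ 2).ideal U = ⊥ := by rw [sq_eq_bot]; rfl
    rw [Scheme.IdealSheafData.ideal_pow, Pi.pow_apply, pow_two] at h2
    exact Ideal.mem_bot.1 (h2 ▸ Ideal.mul_mem_mul ha (OmegaLib.idealSect_mem (ideal hL) U s))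
  let P := (Scheme.Modules.pullback (sec hL)).obj (ClSub.idealMod (ideal hL))
  exact ⟨((asIso (liftHom hL)) ≪≫
    (Scheme.Modules.pushforward (proj hL)).mapIso
      (asIso ((Scheme.Modules.pullbackPushforwardAdjunction (sec hL)).unit.app (ClSub.idealMod (ideal hL)))) ≪≫
    (Scheme.Modules.pushforwardComp (sec hL) (proj hL)).app P ≪≫
    (Scheme.Modules.pushforwardCongr (sec_proj hL)).app P ≪≫
    (Scheme.Modules.pushforwardId X).app P).symm⟩

end Groth.Agent.SplitRibbon12

end
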