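import Groth.Agent.AmpleX.Pow

/-!
Base loci of the powers of an invertible module and their intersection.
-/

universe u

open CategoryTheory AlgebraicGeometry TopologicalSpace
open Groth.Agent.H23.PicMul

namespace Groth.Agent.StableBase

variable {X : Scheme.{u}}

/-- The base locus of `L^m`. -/
def bs (L : X.Modules) (m : ℕ) : Set X :=
  {x : X | ∀ s : Coh.structureModule X ⟶ CohB1.tensorPow L m, x ∉ CohB1.genLocus (CohB1.tensorPow L m) s}

/-- The stable base locus. -/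
def sbs (L : X.Modules) : Set X :=
  {x : X | ∀ m : ℕ, 0 < m → ∀ s : Coh.structureModule X ⟶ CohB1.tensorPow L m,
    x ∉ CohB1.genLocus (CohB1.tensorPow L m) s}

theorem sbs_subset (L : X.Modules) {m : ℕ} (hm : 0 < m) : sbs L ⊆ bs L m := fun _ hx s => hx m hm s

theorem bs_mul_subset {L : X.Modules} (hL : PicF.IsInvertible L) (m : ℕ) {j : ℕ} (hj : 0 < j) :
    bs L (m * j) ⊆ bs L m := by
  intro x hx s hxs
  obtain ⟨i, rfl⟩ := Nat.exists_eq_add_of_le' hj
  obtain ⟨t, ht⟩ := AmpleX.exists_section_of_cl_eq (B := CohB1.tensorPow L (m * (i + 1)))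
    (by simp only [cl_tensorPow, ← pow_mul]) (InvX.powHom s (i + 1))
  rw [InvX.genLocus_powHom (InvX.isInvertible_tensorPow hL m) s i] at ht
  exact hx t (by rw [ht]; exact hxs)

theorem isClosed_bs (L : X.Modules) (m : ℕ) : IsClosed (bs L m) := by
  have : bs L m = ⋂ s : Coh.structureModule X ⟶ CohB1.tensorPow L m,
      (CohB1.genLocus (CohB1.tensorPow L m) s : Set X)ᶜ := by
    ext x
    simp [bs]
  rw [this]
  exact isClosed_iInter fun s => (CohB1.genLocus (CohB1.tensorPow L m) s).isOpen.isClosed_compl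

theorem exists_eq_sbs [NoetherianSpace X] {L : X.Modules} (hL : PicF.IsInvertible L) :
    ∃ n₀ : ℕ, 0 < n₀ ∧ bs L n₀ = sbs L := by
  obtain ⟨C, ⟨n₀, hn₀, rfl⟩, hmin⟩ := wellFounded_lt.has_min
    {C : Closeds X | ∃ m, 0 < m ∧ C = ⟨bs L m, isClosed_bs L m⟩} ⟨_, 1, one_pos, rfl⟩
  refine ⟨n₀, hn₀, Set.Subset.antisymm (fun x hx m hm => ?_) (sbs_subset L hn₀)⟩
  have h1 : bs L (n₀ * m) ⊆ bs L n₀ := bs_mul_subset hL n₀ hm
  have h2 : bs L n₀ ⊆ bs L (n₀ * m) := by
    by_contra h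
    exact hmin ⟨bs L (n₀ * m), isClosed_bs L _⟩ ⟨_, Nat.mul_pos hn₀ hm, rfl⟩
      (lt_of_le_not_ge h1 h)
  rw [mul_comm] at h2
  exact bs_mul_subset hL m hn₀ (h2 hx)

theorem bs_mul_eq_sbs {L : X.Modules} (hL : PicF.IsInvertible L) {n : ℕ} (hn : 0 < n)
    (h : bs L n = sbs L) {k : ℕ} (hk : 0 < k) : bs L (k * n) = sbs L :=
  Set.Subset.antisymm (by rw [← h, mul_comm]; exact bs_mul_subset hL n hk)
    (sbs_subset L (Nat.mul_pos hk hn))

theorem bs_tensorPow {L : X.Modules} (p m : ℕ) :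
    bs (CohB1.tensorPow L p) m = bs L (p * m) := by
  have hcl : PicF.cl (CohB1.tensorPow (CohB1.tensorPow L p) m) = PicF.cl (CohB1.tensorPow L (p * m)) := by
    simp only [cl_tensorPow, ← pow_mul]
  refine Set.Subset.antisymm (fun x hx s hs => ?_) (fun x hx s hs => ?_)
  · obtain ⟨t, ht⟩ := AmpleX.exists_section_of_cl_eq hcl.symm s
    exact hx t (by rw [ht]; exact hs)
  · obtain ⟨t, ht⟩ := AmpleX.exists_section_of_cl_eq hcl s
    exact hx t (by rw [ht]; exact hs)

theorem sbs_tensorPow [NoetherianSpace X] {L : X.Modules} (hL : PicF.IsInvertible L) {p : ℕ}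
    (hp : 0 < p) : sbs (CohB1.tensorPow L p) = sbs L := by
  refine Set.Subset.antisymm (fun x hx => ?_) (fun x hx m hm => ?_)
  · obtain ⟨n, hn, h⟩ := exists_eq_sbs hL
    rw [← bs_mul_eq_sbs hL hn h hp, ← bs_tensorPow]
    exact fun s => hx n hn s
  · have h : x ∈ bs L (p * m) := sbs_subset L (Nat.mul_pos hp hm) hx
    rw [← bs_tensorPow] at h
    exact fun s => h s

end Groth.Agent.StableBase
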