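import Groth.Agent.Lib.CurveAmple
import Groth.Agent.AmpleVan.Components
import Groth.Agent.OmegaLib.IdealMod

/-!
Ample modules on surfaces pair positively with effective ones.
-/

set_option autoImplicit false
set_option linter.style.haveILetI false
set_option linter.unusedSectionVars false
set_option backward.isDefEq.respectTransparency false
set_option backward.isDefEq.respectTransparency.types false
set_option maxHeartbeats 1000000

universe u

open CategoryTheory CategoryTheory.Limits AlgebraicGeometry TopologicalSpace Opposite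
open Groth.Agent.H23 Groth.Agent.H23.TrivBasic

noncomputable section

namespace Groth.Agent.SurfAmple

attribute [local instance] PicMul.clMonoid

variable {k : Type u} [Field k] {X : Scheme.{u}} [X.Over (Spec (CommRingCat.of k))]
  [IsProper (X ↘ Spec (CommRingCat.of k))]

/-- The pairing is linear in tensor powers. -/
theorem pair_pow (hdim : topologicalKrullDim X ≤ 2) {A B : X.Modules} (hA : PicF.IsInvertible A)
    (hB : PicF.IsInvertible B) :
    ∀ n : ℕ, SurfPairing.pair k (PicF.cl A) (PicF.cl (CohB1.tensorPow B n)) =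
      n * SurfPairing.pair k (PicF.cl A) (PicF.cl B)
  | 0 => by
    show SurfPairing.pair k (PicF.cl A) (1 : PicF.Cl X) = _
    rw [SurfPairing.pair_one]
    simp
  | n + 1 => by
    show SurfPairing.pair k (PicF.cl A) (PicF.cl (CohB1.tensorPow B n) * PicF.cl B) = _
    rw [SurfPairing.pair_mul k hdim hA (PicMul.isInvertible_tensorPow hB n) hB, pair_pow hdim hA hB n]
    push_cast
    ring

variable [IsIntegral X]

/-- An effective module pairs nonnegatively with an ample one. -/
theorem pair_nonneg (hdim : topologicalKrullDim X ≤ 2) {L H : X.Modules} (hL : PicF.IsInvertible L)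
    (hH : CohB1.IsAmple H) {s : Γ(L, ⊤)} (hs : s ≠ 0) :
    0 ≤ SurfPairing.pair k (PicF.cl L) (PicF.cl H) := by
  haveI := CurveCohLib.isNoetherian_of_proper (k := k) (X := X)
  obtain ⟨d₁, h₁⟩ := AmpleVan.exists_vanishing (A := k) hH (M := Coh.structureModule X) QCoh.isCoh_structureModule'
  obtain ⟨d₂, h₂⟩ := AmpleVan.exists_vanishing (A := k) hH (M := L) (AmpleVan.isCoh_invertible hL)
  let c := Curv2.euler k X (Coh.structureModule X) - Curv2.euler k X L
  have hlow : ∀ m, d₁ ≤ m → d₂ ≤ m → c ≤ m * SurfPairing.pair k (PicF.cl L) (PicF.cl H) := by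
    intro m hm₁ hm₂
    let P := CohB1.tensorPow H m
    have hP : PicF.IsInvertible P := PicMul.isInvertible_tensorPow hH.1 m
    obtain ⟨u⟩ := PicMul.comm P (Coh.structureModule X)
    have hv : ∀ q, Subsingleton (Coh.HH X P (q + 1)) := fun q =>
      haveI := h₁ m hm₁ q
      (CurveCohLib.hhEquiv (k := k) (u.symm ≪≫ KFlatLib.tensorUnitIso P) (q + 1)).symm.injective.subsingleton
    haveI := CurveOnSurf.isEquivalence_tensor hP
    haveI := CurveAmple.mono_ofSect hL hs
    haveI : Mono ((DCoh.tensorBi.obj P).map (InvX.ofSect s)) := inferInstance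
    haveI : Mono (CurveAmple.mulBy P s) := mono_comp _ _
    have hle := CurveAmple.finrank_h0_le (k := k) (CurveAmple.mulBy P s)
      (AmpleVan.isCoh_invertible (PicMul.isInvertible_tensor hP hL))
    obtain ⟨w⟩ := PicMul.comm P L
    rw [(CurveCohLib.hhEquiv (k := k) w 0).finrank_eq] at hle
    have e₁ := CurveAmple.euler_eq_h0_of_vanishing (k := k) hv
    have e₂ := CurveAmple.euler_eq_h0_of_vanishing (k := k) (h₂ m hm₂)
    simp only [P] at e₁ hle
    rw [← pair_pow hdim hL hH.1 m, SurfPairing.pair, ← PicMul.cl_tensor, SurfPairing.χ_cl, SurfPairing.χ_cl,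
      SurfPairing.χ_cl, SurfPairing.χ_one, e₁, e₂]
    simp only [c]
    omega
  by_contra hneg
  push_neg at hneg
  have h := hlow (d₁ + d₂ + ((-c).toNat + 1)) (by omega) (by omega)
  have h2 := Int.self_le_toNat (-c)
  push_cast at h
  nlinarith

variable (k) in
include k in
theorem exists_curve (hdim : topologicalKrullDim X = 2) {L : X.Modules} (hL : PicF.IsInvertible L)
    {s : Γ(L, ⊤)} (hs : s ≠ 0) (hne : locus s ≠ ⊤) :
    ∃ J : X.IdealSheafData, IsIntegral J.subscheme ∧ topologicalKrullDim J.subscheme = 1 ∧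
      ∀ x ∈ J.support, x ∉ locus s := by
  let f := X ↘ Spec (CommRingCat.of k)
  haveI := CurveCohLib.isNoetherian_of_proper (k := k) (X := X)
  obtain ⟨x, hx⟩ : ∃ x, x ∉ locus s := by
    by_contra h
    push_neg at h
    exact hne (top_le_iff.1 fun y _ => h y)
  obtain ⟨U₀, hxU₀, ε₀, hε₀⟩ := InvX.exists_frame hL x
  obtain ⟨U, hU, hxU, hUU₀⟩ := exists_isAffineOpen_mem_and_subset (x := x) (U := U₀) hxU₀
  replace hUU₀ : U ≤ U₀ := hUU₀
  have hε := hε₀.res hUU₀
  obtain ⟨g, hg⟩ := hε.exists_coord le_rfl (AModX.res L (le_top : U ≤ ⊤) s)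
  rw [AModX.res_self] at hg
  have hloc := locus_eq_basicOpen hε hg
  obtain ⟨q, rfl⟩ := VarDim.exists_fromSpec_eq hU hxU
  have hgq : g ∈ q.asIdeal := by
    by_contra hgq
    have hmem : hU.fromSpec q ∈ X.basicOpen g := by
      have h' : q ∈ hU.fromSpec ⁻¹ᵁ X.basicOpen g := by
        rw [hU.fromSpec_preimage_basicOpen]
        exact hgq
      exact h'
    exact hx (hloc.ge hmem).1
  obtain ⟨P, hP, hPq⟩ := Ideal.exists_minimalPrimes_le ((Ideal.span_singleton_le_iff_mem _).2 hgq)
  haveI hPp := hP.1.1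
  haveI : Nonempty U := ⟨⟨_, hxU⟩⟩
  haveI : IsNoetherianRing Γ(X, U) := IsLocallyNoetherian.component_noetherian ⟨U, hU⟩
  haveI : (Ideal.span {g}).IsPrincipal := ⟨⟨g, rfl⟩⟩
  have hP1 : P.height ≤ 1 := Ideal.height_le_one_of_isPrincipal_of_mem_minimalPrimes (Ideal.span {g}) P hP
  let p : PrimeSpectrum Γ(X, U) := ⟨P, hPp⟩
  let η := hU.fromSpec p
  have hgP : g ∈ P := hP.1.2 (Ideal.mem_span_singleton_self g)
  have hηloc : η ∉ locus s := fun h => by
    have h2 : η ∈ X.basicOpen g := hloc.le ⟨h, VarDim.fromSpec_mem hU p⟩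
    have h3 : p ∈ hU.fromSpec ⁻¹ᵁ X.basicOpen g := h2
    rw [hU.fromSpec_preimage_basicOpen] at h3
    exact h3 hgP
  have hgen : genericPoint X ≠ η := fun h => hηloc (h ▸ by
    obtain ⟨z, hz⟩ := (Opens.ne_bot_iff_nonempty _).1 (locus_ne_bot hL hs)
    exact (genericPoint_specializes z).mem_open (locus s).isOpen hz)
  obtain ⟨b, hb, ⟨ξ, hξ, hξd⟩, hle⟩ := VarDim.exists_deg_add_stalk f η
  have hb1 : b ≤ 1 := by
    rw [VarDim.ringKrullDim_stalk_fromSpec hU, ← PrimeSpectrum.height_eq_orderHeight] at hb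
    have h : P.height = (b : ℕ∞) := WithBot.coe_inj.1 hb
    rw [h] at hP1
    exact_mod_cast hP1
  have h2 : VarDim.deg f (genericPoint X) = 2 := by
    have h : (VarDim.deg f (genericPoint X) : WithBot ℕ∞) = 2 :=
      (VarDim.topologicalKrullDim_eq_deg_genericPoint f).symm.trans hdim
    exact_mod_cast h
  have hη1 : VarDim.deg f η = 1 := by
    have hup := hle (genericPoint X) (genericPoint_specializes η)
    have hlt : VarDim.deg f η < 2 := by
      by_contra hcon
      exact hgen (VarDim.eq_of_specializes_of_deg_le f (genericPoint_specializes η) (by omega))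
    omega
  let Z : Closeds X := ⟨closure {η}, isClosed_closure⟩
  let J := Scheme.IdealSheafData.vanishingIdeal Z
  have hrange : Set.range J.subschemeι = closure {η} := RedSub.range_vanishingIdeal Z
  haveI : IrreducibleSpace J.subscheme := by
    haveI : IrreducibleSpace (Set.range J.subschemeι) := Subtype.irreducibleSpace (by
      rw [hrange]
      exact isIrreducible_singleton.closure)
    let e := J.subschemeι.isClosedEmbedding.isEmbedding.toHomeomorph
    exact e.symm.surjective.irreducibleSpace e.symm.continuous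
  haveI : IsReduced J.subscheme := RedSub.isReduced_vanishingIdeal Z
  haveI : IsIntegral J.subscheme := isIntegral_of_irreducibleSpace_of_isReduced _
  refine ⟨J, inferInstance, ?_, fun z hz hzl => hηloc ?_⟩
  · have hι : J.subschemeι (genericPoint J.subscheme) = η := by
      refine (Specializes.antisymm ?_ ?_).eq
      · obtain ⟨z, hz⟩ : η ∈ Set.range J.subschemeι := hrange ▸ subset_closure rfl
        rw [← hz]
        exact (genericPoint_specializes z).map J.subschemeι.continuous
      · have h : J.subschemeι (genericPoint J.subscheme) ∈ closure {η} := hrange ▸ ⟨_, rfl⟩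
        exact specializes_iff_mem_closure.2 h
    have h3 := VarDim.tdeg_comp J.subschemeι f (genericPoint J.subscheme)
    rw [VarDim.rdeg_preimmersion, add_zero, ← VarDim.deg_eq_tdeg, ← VarDim.deg_eq_tdeg, hι, hη1] at h3
    rw [VarDim.topologicalKrullDim_eq_deg_genericPoint (J.subschemeι ≫ f),
      show VarDim.deg (J.subschemeι ≫ f) (genericPoint J.subscheme) = 1 from mod_cast h3]
    rfl
  · have hz' : z ∈ closure {η} := by
      have : z ∈ (J.support : Set X) := hz
      rwa [Scheme.IdealSheafData.coe_support_vanishingIdeal] at this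
    exact (specializes_iff_mem_closure.2 hz').mem_open (locus s).isOpen hzl

omit [X.Over (Spec (CommRingCat.of k))] [IsProper (X ↘ Spec (CommRingCat.of k))] in
/-- A section vanishing on a subscheme comes from the twist by its ideal. -/
theorem exists_lift_section (K : X.IdealSheafData) [IsReduced K.subscheme] {L : X.Modules}
    (hL : PicF.IsInvertible L) {s : Γ(L, ⊤)} (hs : s ≠ 0) (hK : ∀ x ∈ K.support, x ∉ locus s) :
    ∃ t : Γ(CohB1.tensorMod L (ClSub.idealMod K), ⊤), t ≠ 0 := by
  haveI := CurveOnSurf.isEquivalence_tensor hL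
  haveI : Mono (ClSub.idealModι K) := inferInstanceAs (Mono (kernel.ι _))
  haveI : Mono ((DCoh.tensorBi.obj L).map (ClSub.idealModι K)) := inferInstance
  haveI : Mono (DivisorExt.mulIdeal K L) := mono_comp _ _
  let f := DivisorExt.mulIdeal K L
  have hz : (cokernel.π f).app ⊤ s = 0 := by
    refine AModX.eq_of_locally _ _ fun x _ => ?_
    obtain ⟨U₀, hxU₀, ε₀, hε₀⟩ := InvX.exists_frame hL x
    obtain ⟨U, hU, hxU, hUU₀⟩ := exists_isAffineOpen_mem_and_subset (x := x) (U := U₀) hxU₀
    replace hUU₀ : U ≤ U₀ := hUU₀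
    refine ⟨U, le_top, hxU, ?_⟩
    have hε := hε₀.res hUU₀
    obtain ⟨g, hg⟩ := hε.exists_coord le_rfl (AModX.res L (le_top : U ≤ ⊤) s)
    rw [AModX.res_self] at hg
    have hgK : K.subschemeι.app U g = 0 := by
      refine eq_zero_of_basicOpen_eq_bot _ (le_bot_iff.1 fun z hz => ?_)
      rw [← Scheme.preimage_basicOpen] at hz
      have h1 : K.subschemeι z ∈ K.support := by
        have : K.subschemeι z ∈ Set.range K.subschemeι := ⟨z, rfl⟩
        rwa [Scheme.IdealSheafData.range_subschemeι] at this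
      exact hK _ h1 ((locus_eq_basicOpen hε hg).ge hz).1
    obtain ⟨c, hc⟩ := OmegaLib.exists_idealSect_eq K U g hgK
    rw [← AModX.app_res, hg, map_zero]
    rw [← hc, ← DivisorExt.mulIdeal_tmS K L]
    exact ConcreteCategory.congr_hom (congrArg (fun q => Scheme.Modules.Hom.app q U) (cokernel.condition f)) _
  have hcomp : InvX.ofSect s ≫ cokernel.π f = 0 := by
    refine CurveRR.hom_ext_one ?_
    show (cokernel.π f).app ⊤ ((InvX.ofSect s).app ⊤ (1 : Γ(X, ⊤))) = _
    rw [show (InvX.ofSect s).app ⊤ (1 : Γ(X, ⊤)) = s from InvX.one_ofSect s, hz]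
    rfl
  let S := ShortComplex.mk f (cokernel.π f) (cokernel.condition f)
  have hex : S.Exact := ShortComplex.exact_of_g_is_cokernel _ (cokernelIsCokernel f)
  let φ : Coh.structureModule X ⟶ CohB1.tensorMod L (ClSub.idealMod K) := hex.lift (InvX.ofSect s) hcomp
  refine ⟨InvX.one φ, fun h0 => hs ?_⟩
  have h := hex.lift_f (InvX.ofSect s) hcomp
  rw [← InvX.one_ofSect s, ← h]
  show f.app ⊤ (InvX.one φ) = 0
  rw [h0, map_zero]

/-- An effective module which is not trivial pairs positively with an ample one. -/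
theorem pair_pos (hdim : topologicalKrullDim X = 2) (hreg : ∀ x : X, IsRegularLocalRing (X.presheaf.stalk x))
    {L H : X.Modules} (hL : PicF.IsInvertible L) (hH : CohB1.IsAmple H) {s : Γ(L, ⊤)} (hs : s ≠ 0)
    (hne : locus s ≠ ⊤) : 0 < SurfPairing.pair k (PicF.cl L) (PicF.cl H) := by
  obtain ⟨J, hJi, hJd, hJs⟩ := exists_curve k hdim hL hs hne
  haveI := hJi
  let C := J.subscheme
  let i : C ⟶ X := J.subschemeι
  letI : C.Over (Spec (CommRingCat.of k)) := ⟨i ≫ (X ↘ (Spec (CommRingCat.of k)))⟩
  haveI : IsProper (C ↘ Spec (CommRingCat.of k)) :=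
    show IsProper (i ≫ (X ↘ Spec (CommRingCat.of k))) from inferInstance
  haveI : CompactSpace C := QuasiCompact.compactSpace_of_compactSpace (C ↘ Spec (CommRingCat.of k))
  have hker : i.ker = J := Scheme.IdealSheafData.ker_subschemeι J
  have hI := CurveOnSurf.isInvertible_ideal (X ↘ Spec (CommRingCat.of k)) hdim hreg i hJd
  haveI : IsReduced i.ker.subscheme := hker ▸ (inferInstance : IsReduced J.subscheme)
  obtain ⟨t, ht⟩ := exists_lift_section i.ker hL hs (hker ▸ hJs)
  have hLI : PicF.IsInvertible (CohB1.tensorMod L (ClSub.idealMod i.ker)) := PicMul.isInvertible_tensor hL hI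
  have h1 := pair_nonneg (k := k) hdim.le hLI hH ht
  rw [SurfPairing.pair_comm, PicMul.cl_tensor, SurfPairing.pair_mul k hdim.le hH.1 hL hI,
    SurfPairing.pair_comm k (PicF.cl H) (PicF.cl L), SurfPairing.pair_comm k (PicF.cl H) (PicF.cl (ClSub.idealMod i.ker)),
    CurveOnSurf.pair_ideal (k := k) i hH.1 hI] at h1
  have h2 := CurveAmple.deg_pos_of_ample (k := k) hJd
    (AmpleVan.FiniteSurj.isAmple_pullback_of_isAffineHom i hH)
  linarith

end Groth.Agent.SurfAmple
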