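import Groth.Agent.Lib.SurfHodge
import Groth.Prelude.Def_NumR
import Mathlib.Topology.Algebra.Module.ModuleTopology
import Mathlib.LinearAlgebra.Matrix.ToLinearEquiv

/-!
The intersection form on real classes of a surface: Hodge index, nondegeneracy, the positive cone.
-/

set_option autoImplicit false
set_option linter.style.haveILetI false
set_option linter.unusedSectionVars false
set_option backward.isDefEq.respectTransparency false
set_option backward.isDefEq.respectTransparency.types false
set_option maxHeartbeats 1000000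

universe u

open CategoryTheory CategoryTheory.Limits AlgebraicGeometry TopologicalSpace Opposite
open Groth.Agent.H23

noncomputable section

namespace Groth.Agent.SurfCone

attribute [local instance] PicMul.clMonoid

variable {k : Type u} [Field k] {X : Scheme.{u}} [X.Over (Spec (CommRingCat.of k))]
  [IsProper (X ↘ Spec (CommRingCat.of k))] [Smooth (X ↘ Spec (CommRingCat.of k))] [IsIntegral X]
  [PicGrp.Law X]

variable (hdim : topologicalKrullDim X = 2) {B : NumR.N1R k X →ₗ[ℝ] NumR.N1R k X →ₗ[ℝ] ℝ}
  (hB : NumR.IsIntForm₂ k X B)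

include hdim hB in
theorem form_eq {L M : X.Modules} (hL : PicF.IsInvertible L) (hM : PicF.IsInvertible M) :
    B (NumR.clR k X L hL) (NumR.clR k X M hM) = (SurfPairing.pair k (PicF.cl L) (PicF.cl M) : ℝ) := by
  rw [hB L M hL hM, SurfPairing.intNum_eq_pair k hdim.le hL hM]

include hdim hB in
theorem form_comm (x y : NumR.N1R k X) : B x y = B y x := by
  have h : NumR.IsIntForm₂ k X B.flip := fun L M hL hM => by
    show B (NumR.clR k X M hM) (NumR.clR k X L hL) = _
    rw [hB M L hM hL, SurfPairing.intNum_eq_pair k hdim.le hM hL, SurfPairing.intNum_eq_pair k hdim.le hL hM,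
      SurfPairing.pair_comm]
  exact LinearMap.congr_fun (LinearMap.congr_fun (NumR.isIntForm₂_unique hB h) x) y

/-- An integral combination of classes is a class. -/
theorem exists_cl_sum {n : ℕ} (L : Fin n → X.Modules) (hL : ∀ i, PicF.IsInvertible (L i)) (a : Fin n → ℤ) :
    ∃ (M : X.Modules) (hM : PicF.IsInvertible M), NumR.cl k X M hM = ∑ i, a i • NumR.cl k X (L i) (hL i) ∧
      NumR.clR k X M hM = ∑ i, (a i : ℝ) • NumR.clR k X (L i) (hL i) := by
  obtain ⟨M, hM, h⟩ := NumR.exists_eq_cl (∑ i, a i • NumR.cl k X (L i) (hL i))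
  refine ⟨M, hM, h.symm, ?_⟩
  rw [NumR.clR_def, ← h, map_sum]
  simp only [map_zsmul, Int.cast_smul_eq_zsmul]
  rfl

variable {H : X.Modules} (hH : CohB1.IsAmple H)

include hdim hH in
theorem pair_self_pos : 0 < SurfPairing.pair k (PicF.cl H) (PicF.cl H) := by
  obtain ⟨c, hgc, hc⟩ := VarDim.exists_closed_specialization (X ↘ Spec (CommRingCat.of k)) (genericPoint X)
  have hne : genericPoint X ≠ c := fun h => by
    have h0 := DiagReg.deg_eq_zero (X ↘ Spec (CommRingCat.of k)) (h ▸ hc)
    have h1 := (VarDim.topologicalKrullDim_eq_deg_genericPoint (X ↘ Spec (CommRingCat.of k))).symm.trans hdim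
    rw [h0] at h1
    exact absurd h1 (by decide)
  obtain ⟨m, hm, s, hs, hsc⟩ := CurveAmple.exists_section_vanishing k hH hc hne
  have h := SurfAmple.pair_pos (k := k) hdim (SurfHodge.regular k) (PicMul.isInvertible_tensorPow hH.1 m) hH hs
    (fun ht => hsc (ht ▸ trivial))
  rw [SurfPairing.pair_comm, SurfAmple.pair_pow hdim.le hH.1 hH.1 m] at h
  exact pos_of_mul_pos_right h (by positivity)

include hdim hB hH in
theorem form_self_pos : 0 < B (NumR.clR k X H hH.1) (NumR.clR k X H hH.1) := by
  rw [form_eq hdim hB hH.1 hH.1]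
  exact_mod_cast pair_self_pos hdim hH

include hdim hB hH in
/-- The Hodge index theorem for real classes. -/
theorem hodge {x : NumR.N1R k X} (hx : B x (NumR.clR k X H hH.1) = 0) : B x x ≤ 0 := by
  set h := NumR.clR k X H hH.1
  obtain ⟨n, f, g, hfg⟩ : ∃ (n : ℕ) (f : Fin n → ℝ) (g : Fin n → {x : NumR.N1R k X |
      ∃ (L : X.Modules) (hL : PicF.IsInvertible L), x = NumR.clR k X L hL}), ∑ i, f i • (g i : NumR.N1R k X) = x :=
    Submodule.mem_span_set'.1 ((NumR.span_clR (k := k) (X := X)).symm ▸ Submodule.mem_top)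
  choose L hL hg using fun i => (g i).2
  let v : (Fin n → ℝ) → NumR.N1R k X := fun r =>
    B h h • (∑ i, r i • NumR.clR k X (L i) (hL i)) - (∑ i, r i * B (NumR.clR k X (L i) (hL i)) h) • h
  let F : (Fin n → ℝ) → ℝ := fun r => B (v r) (v r)
  have hF : ∀ r, F r = B h h * (B h h * ∑ i, ∑ j, r i * r j * B (NumR.clR k X (L i) (hL i)) (NumR.clR k X (L j) (hL j))
      - (∑ i, r i * B (NumR.clR k X (L i) (hL i)) h) ^ 2) := by
    intro r
    let u := ∑ i, r i • NumR.clR k X (L i) (hL i)
    have hs : B u h = ∑ i, r i * B (NumR.clR k X (L i) (hL i)) h := by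
      simp only [u, map_sum, map_smul, LinearMap.sum_apply, LinearMap.smul_apply, smul_eq_mul]
    have hQ : B u u = ∑ i, ∑ j, r i * r j * B (NumR.clR k X (L i) (hL i)) (NumR.clR k X (L j) (hL j)) := by
      simp only [u, map_sum, map_smul, LinearMap.sum_apply, LinearMap.smul_apply, smul_eq_mul, Finset.mul_sum]
      refine Finset.sum_congr rfl fun i _ => Finset.sum_congr rfl fun j _ => ?_
      rw [form_comm hdim hB (NumR.clR k X (L j) (hL j))]
      ring
    show B (B h h • u - _ • h) (B h h • u - _ • h) = _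
    rw [← hs, ← hQ]
    simp only [map_sub, map_smul, LinearMap.sub_apply, LinearMap.smul_apply, smul_eq_mul, form_comm hdim hB h u]
    ring
  have hcont : Continuous F := by
    rw [show F = _ from funext hF]
    fun_prop
  have hint : ∀ a : Fin n → ℤ, F (fun i => (a i : ℝ)) ≤ 0 := by
    intro a
    obtain ⟨A, hA, -, hA'⟩ := exists_cl_sum (k := k) L hL a
    let p := SurfPairing.pair k (PicF.cl H) (PicF.cl H)
    let q := SurfPairing.pair k (PicF.cl A) (PicF.cl H)
    obtain ⟨M, hM, -, hM'⟩ := exists_cl_sum (k := k) ![A, H] (fun i => by fin_cases i <;> [exact hA; exact hH.1])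
      ![p, -q]
    rw [Fin.sum_univ_two] at hM'
    simp only [Matrix.cons_val_zero, Matrix.cons_val_one, Int.cast_neg, neg_smul] at hM'
    have hv : v (fun i => (a i : ℝ)) = NumR.clR k X M hM := by
      have hq : ∑ i, (a i : ℝ) * B (NumR.clR k X (L i) (hL i)) h = (q : ℝ) := by
        rw [← form_eq hdim hB hA hH.1, hA', map_sum, LinearMap.sum_apply]
        simp [h]
      simp only [v]
      rw [hM', ← hA', hq, show B h h = (p : ℝ) from form_eq hdim hB hH.1 hH.1, sub_eq_add_neg]
    have horth : B (v fun i => (a i : ℝ)) h = 0 := by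
      simp only [v, map_sub, map_smul, map_sum, LinearMap.sub_apply, LinearMap.smul_apply, LinearMap.sum_apply,
        smul_eq_mul]
      ring
    rw [hv, form_eq hdim hB hM hH.1, Int.cast_eq_zero] at horth
    show B (v _) (v _) ≤ 0
    rw [hv, form_eq hdim hB hM hM]
    exact_mod_cast SurfHodge.hodge_index (k := k) hdim hH hM horth
  have hrat : ∀ r : Fin n → ℚ, F (fun i => (r i : ℝ)) ≤ 0 := by
    intro r
    obtain ⟨⟨b, hb⟩, hr⟩ := IsLocalization.exist_integer_multiples (nonZeroDivisors ℤ) Finset.univ r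
    choose a ha using fun i => hr i (Finset.mem_univ i)
    have hb0 : (b : ℝ) ≠ 0 := Int.cast_ne_zero.2 (nonZeroDivisors.ne_zero hb)
    have hai : ∀ i, (a i : ℝ) = (b : ℝ) * (r i : ℝ) := fun i => by
      have h1 := congrArg (Rat.cast : ℚ → ℝ) (ha i)
      simp only [algebraMap_int_eq, eq_intCast, zsmul_eq_mul, Rat.cast_intCast, Rat.cast_mul] at h1
      exact h1
    have h2 : (fun i => (a i : ℝ)) = (b : ℝ) • fun i => (r i : ℝ) := funext hai
    have h3 := hint a
    have hv : v ((b : ℝ) • fun i => (r i : ℝ)) = (b : ℝ) • v fun i => (r i : ℝ) := by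
      simp only [v, Pi.smul_apply, smul_eq_mul, mul_smul, ← Finset.smul_sum, smul_sub, mul_assoc, ← Finset.mul_sum]
      rw [smul_comm]
    rw [h2] at h3
    change B (v _) (v _) ≤ 0 at h3
    rw [hv, map_smul, map_smul, LinearMap.smul_apply, smul_eq_mul, smul_eq_mul, ← mul_assoc] at h3
    exact nonpos_of_mul_nonpos_right (by linarith) (mul_self_pos.2 hb0)
  have hall : ∀ r, F r ≤ 0 := fun r =>
    (DenseRange.piMap fun _ : Fin n => Rat.denseRange_cast (𝕜 := ℝ)).induction_on
      (p := fun r => F r ≤ 0) r (isClosed_le hcont continuous_const) fun q => hrat q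
  have hxv : v f = B h h • x := by
    have hsum : ∑ i, f i • NumR.clR k X (L i) (hL i) = x := by
      rw [← hfg]
      exact Finset.sum_congr rfl fun i _ => by rw [hg i]
    have hz : ∑ i, f i * B (NumR.clR k X (L i) (hL i)) h = 0 := by
      rw [← hx, ← hsum]
      simp
    simp only [v]
    rw [hsum, hz, zero_smul, sub_zero]
  have h4 : B (v f) (v f) ≤ 0 := hall f
  rw [hxv, map_smul, map_smul, LinearMap.smul_apply, smul_eq_mul, smul_eq_mul, ← mul_assoc] at h4
  exact nonpos_of_mul_nonpos_right (by linarith) (mul_self_pos.2 (form_self_pos hdim hB hH).ne')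

include hdim hB in
/-- The form is nondegenerate. -/
theorem eq_zero_of_orth [Module.Finite ℝ (NumR.N1R k X)] {x : NumR.N1R k X} (hx : ∀ y, B x y = 0) : x = 0 := by
  classical
  obtain ⟨S, hS, hspan, hli⟩ := exists_linearIndependent ℝ
    {x : NumR.N1R k X | ∃ (L : X.Modules) (hL : PicF.IsInvertible L), x = NumR.clR k X L hL}
  rw [NumR.span_clR] at hspan
  haveI : Fintype S := hli.setFinite.fintype
  let b : Module.Basis S ℝ (NumR.N1R k X) := Module.Basis.mk hli (by rw [Subtype.range_coe, hspan])
  choose L hL hLb using fun s : S => hS s.2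
  have hb : ∀ s, b s = NumR.clR k X (L s) (hL s) := fun s => (Module.Basis.mk_apply _ _ s).trans (hLb s)
  let G : Matrix S S ℤ := fun i j => SurfPairing.pair k (PicF.cl (L i)) (PicF.cl (L j))
  have hG : ∀ i j, B (b i) (b j) = (G i j : ℝ) := fun i j => by rw [hb, hb, form_eq hdim hB]
  have hdet : G.det ≠ 0 := by
    intro h0
    obtain ⟨a, ha0, ha⟩ := Matrix.exists_vecMul_eq_zero_iff.2 h0
    obtain ⟨M, hM, hMe⟩ := NumR.exists_eq_cl (∑ i, a i • NumR.cl k X (L i) (hL i))
    have hclR : NumR.clR k X M hM = ∑ i, (a i : ℝ) • b i := by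
      rw [NumR.clR_def, ← hMe, map_sum]
      simp only [map_zsmul, Int.cast_smul_eq_zsmul, hb]
      rfl
    have horth : B (NumR.clR k X M hM) = 0 := b.ext fun j => by
      rw [hclR, map_sum, LinearMap.sum_apply, LinearMap.zero_apply]
      simp only [map_smul, LinearMap.smul_apply, hG, smul_eq_mul]
      have h1 := congr_fun ha j
      simp only [Matrix.vecMul, dotProduct, Pi.zero_apply] at h1
      exact_mod_cast h1
    have htriv : Pic13.IsNumEquivZero k X M := by
      intro Y i hi hY hYd
      haveI := hY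
      letI : Y.Over (Spec (CommRingCat.of k)) := ⟨i ≫ (X ↘ (Spec (CommRingCat.of k)))⟩
      haveI : IsProper (Y ↘ Spec (CommRingCat.of k)) :=
        show IsProper (i ≫ (X ↘ Spec (CommRingCat.of k))) from inferInstance
      have hI := CurveOnSurf.isInvertible_ideal (X ↘ Spec (CommRingCat.of k)) hdim (SurfHodge.regular k) i hYd
      have h := form_eq hdim hB hM hI
      rw [horth, LinearMap.zero_apply, SurfPairing.pair_comm, CurveOnSurf.pair_ideal (k := k) i hM hI] at h
      have h0 : Curv2.deg k Y ((Scheme.Modules.pullback i).obj M) 1 = 0 := by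
        have : (0 : ℤ) = -Curv2.deg k Y ((Scheme.Modules.pullback i).obj M) 1 := by exact_mod_cast h
        omega
      exact (curveDeg_eq hYd.le ((Scheme.Modules.pullback i).obj M) (PicClLib.isInvertible_pullback i hM)).trans h0
    have hzero : ∑ i, (a i : ℝ) • b i = 0 := by
      rw [← hclR, NumR.clR_def, NumR.cl_eq_zero hM htriv, map_zero]
    refine ha0 (funext fun i => ?_)
    have := Fintype.linearIndependent_iff.1 b.linearIndependent _ hzero i
    exact_mod_cast this
  have hker : Matrix.vecMul (fun i => b.repr x i) (G.map (Int.cast : ℤ → ℝ)) = 0 := by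
    funext j
    have h1 := hx (b j)
    rw [← b.sum_repr x, map_sum, LinearMap.sum_apply] at h1
    simp only [map_smul, LinearMap.smul_apply, hG, smul_eq_mul] at h1
    simpa [Matrix.vecMul, dotProduct] using h1
  have hdet' : (G.map (Int.cast : ℤ → ℝ)).det ≠ 0 := by
    have h1 : ((Int.castRingHom ℝ).mapMatrix G).det = ((G.det : ℤ) : ℝ) := ((Int.castRingHom ℝ).map_det G).symm
    exact h1.trans_ne (Int.cast_ne_zero.2 hdet)
  have h0 : (fun i => b.repr x i) = 0 := by
    by_contra hne
    exact hdet' (Matrix.exists_vecMul_eq_zero_iff.1 ⟨_, hne, hker⟩)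
  rw [← b.sum_repr x]
  exact Finset.sum_eq_zero fun i _ => by rw [show b.repr x i = 0 from congr_fun h0 i, zero_smul]
where
  curveDeg_eq {Y : Scheme.{u}} [Y.Over (Spec (CommRingCat.of k))] [IsProper (Y ↘ Spec (CommRingCat.of k))]
      [IsIntegral Y]
      (hd : topologicalKrullDim Y ≤ 1) (M : Y.Modules) (hM : PicF.IsInvertible M) :
      Pic13.curveDeg k (Y ↘ Spec (CommRingCat.of k)) M = Curv2.deg k Y M 1 := by
    have h : ∀ N : Y.Modules, Coh.IsQCoh N → FGA.eulerCharLE k Y N 1 = Curv2.euler k Y N := fun N hN =>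
      (Euler.euler_eq_sum k N 2 fun i hi => by
        obtain ⟨n, rfl⟩ := Nat.exists_eq_add_of_le hi
        rw [add_comm]
        exact CurveVanish.subsingleton_HH_curve k hd hN n).symm
    haveI := CurveCohLib.isNoetherian_of_proper (k := k) (X := Y)
    show FGA.eulerCharLE k Y M 1 - FGA.eulerCharLE k Y (Coh.structureModule Y) 1 = _
    rw [h M (AmpleVan.isCoh_invertible hM).1, h _ QCoh.isQCoh_structureModule]
    unfold Curv2.deg
    push_cast
    ring

variable [Module.Finite ℝ (NumR.N1R k X)]

include hdim hB hH in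
/-- Strict Hodge index. -/
theorem eq_zero_of_orth_ample {x : NumR.N1R k X} (hx : B x (NumR.clR k X H hH.1) = 0) (hxx : 0 ≤ B x x) :
    x = 0 := by
  have h0 : B x x = 0 := le_antisymm (hodge hdim hB hH hx) hxx
  refine eq_zero_of_orth hdim hB fun y => ?_
  set h := NumR.clR k X H hH.1
  have hhh := form_self_pos hdim hB hH
  let z := y - (B y h / B h h) • h
  have hz : B z h = 0 := by
    simp only [z, map_sub, map_smul, LinearMap.sub_apply, LinearMap.smul_apply, smul_eq_mul]
    rw [div_mul_cancel₀ _ hhh.ne', sub_self]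
  have hxz : B x z = B x y := by
    simp only [z, map_sub, map_smul, smul_eq_mul, hx, mul_zero, sub_zero]
  have hq : ∀ t : ℝ, 2 * t * B x z + t ^ 2 * B z z ≤ 0 := fun t => by
    have h1 := hodge hdim hB hH (x := x + t • z) (by
      show B (x + t • z) h = 0
      simp only [map_add, map_smul, LinearMap.add_apply, LinearMap.smul_apply, smul_eq_mul, hx, hz, mul_zero, add_zero])
    simp only [map_add, map_smul, LinearMap.add_apply, LinearMap.smul_apply, smul_eq_mul, h0,
      form_comm hdim hB z x] at h1
    nlinarith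
  rw [← hxz]
  have hzz : B z z ≤ 0 := hodge hdim hB hH hz
  have h1 := hq (B x z / (1 - B z z))
  have hden : (0 : ℝ) < 1 - B z z := by linarith
  rw [div_pow] at h1
  field_simp at h1
  nlinarith [sq_nonneg (B x z)]

include hdim hB hH in
theorem ne_zero_pair {x : NumR.N1R k X} (hxx : 0 < B x x) : B x (NumR.clR k X H hH.1) ≠ 0 := fun h =>
  absurd (hodge hdim hB hH h) (not_le.2 hxx)

include hdim hB hH in
/-- The orthogonal of a positive class is negative definite. -/
theorem hodge_of_pos {x y : NumR.N1R k X} (hxx : 0 < B x x) (hxy : B x y = 0) :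
    B y y ≤ 0 ∧ (B y y = 0 → y = 0) := by
  set h := NumR.clR k X H hH.1
  have ha := ne_zero_pair hdim hB hH hxx
  let z := B x h • y - B y h • x
  have hz : B z h = 0 := by
    simp only [z, map_sub, map_smul, LinearMap.sub_apply, LinearMap.smul_apply, smul_eq_mul]
    ring
  have h1 := hodge hdim hB hH hz
  have hzz : B z z = B x h ^ 2 * B y y + B y h ^ 2 * B x x := by
    simp only [z, map_sub, map_smul, LinearMap.sub_apply, LinearMap.smul_apply, smul_eq_mul,
      form_comm hdim hB y x, hxy]
    ring
  have hpos : 0 < B x h ^ 2 := by positivity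
  refine ⟨?_, fun hyy => ?_⟩
  · nlinarith [mul_nonneg (sq_nonneg (B y h)) hxx.le]
  · refine eq_zero_of_orth_ample hdim hB hH ?_ hyy.ge
    have h2 : B y h ^ 2 * B x x ≤ 0 := by
      rw [hzz, hyy, mul_zero, zero_add] at h1
      exact h1
    exact pow_eq_zero_iff (two_ne_zero) |>.1 (le_antisymm (nonpos_of_mul_nonpos_left h2 hxx) (sq_nonneg _))

include hdim hB hH in
/-- Two classes in the closed positive cone, one of them interior, pair positively. -/
theorem form_pos {x y : NumR.N1R k X} (hxx : 0 < B x x) (hxh : 0 < B x (NumR.clR k X H hH.1)) (hyy : 0 ≤ B y y)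
    (hyh : 0 < B y (NumR.clR k X H hH.1)) : 0 < B x y := by
  set h := NumR.clR k X H hH.1
  let z := B x h • y - B y h • x
  have hz : B z h = 0 := by
    simp only [z, map_sub, map_smul, LinearMap.sub_apply, LinearMap.smul_apply, smul_eq_mul]
    ring
  have h1 := hodge hdim hB hH hz
  simp only [z, map_sub, map_smul, LinearMap.sub_apply, LinearMap.smul_apply, smul_eq_mul,
    form_comm hdim hB y x] at h1
  nlinarith [mul_pos (mul_pos hyh hyh) hxx, mul_nonneg (mul_nonneg hxh.le hxh.le) hyy, mul_pos hxh hyh]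

include hdim hB hH in
theorem isOpen_posCone : IsOpen (NumR.posCone k X B H hH.1) := by
  let b := Module.finBasis ℝ (NumR.N1R k X)
  have hco : ∀ i, Continuous fun x : NumR.N1R k X => b.repr x i := fun i =>
    IsModuleTopology.continuous_of_linearMap (b.coord i)
  have hq : Continuous fun x : NumR.N1R k X => B x x := by
    have heq : (fun x : NumR.N1R k X => B x x) = fun x => ∑ i, ∑ j, b.repr x i * b.repr x j * B (b i) (b j) := by
      funext x
      conv_lhs => rw [← b.sum_repr x]
      simp only [map_sum, map_smul, LinearMap.sum_apply, LinearMap.smul_apply, smul_eq_mul, Finset.mul_sum]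
      rw [Finset.sum_comm]
      exact Finset.sum_congr rfl fun i _ => Finset.sum_congr rfl fun j _ => by ring
    rw [heq]
    fun_prop
  have hl : Continuous fun x : NumR.N1R k X => B x (NumR.clR k X H hH.1) :=
    IsModuleTopology.continuous_of_linearMap (B.flip (NumR.clR k X H hH.1))
  exact (isOpen_lt continuous_const hq).inter (isOpen_lt continuous_const hl)

include hdim hB hH in
theorem convex_posCone : Convex ℝ (NumR.posCone k X B H hH.1) := by
  rintro x ⟨hxx, hxh⟩ y ⟨hyy, hyh⟩ a b ha hb hab
  have hxy := form_pos hdim hB hH hxx hxh hyy.le hyh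
  refine ⟨?_, ?_⟩
  · simp only [map_add, map_smul, LinearMap.add_apply, LinearMap.smul_apply, smul_eq_mul, form_comm hdim hB y x]
    rcases ha.eq_or_lt with rfl | ha'
    · rw [zero_add] at hab
      subst hab
      simpa using hyy
    · nlinarith [mul_pos (mul_pos ha' ha') hxx, mul_nonneg (mul_nonneg hb hb) hyy.le, mul_nonneg (mul_nonneg ha hb) hxy.le]
  · simp only [map_add, map_smul, LinearMap.add_apply, LinearMap.smul_apply, smul_eq_mul]
    rcases ha.eq_or_lt with rfl | ha'
    · rw [zero_add] at hab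
      subst hab
      simpa using hyh
    · nlinarith [mul_pos ha' hxh, mul_nonneg hb hyh.le]

include hdim hB hH in
/-- Classes spanning a negative definite lattice, together with an ample class, are independent. -/
theorem card_succ_le {r : ℕ} (L : Fin r → X.Modules) (hL : ∀ i, PicF.IsInvertible (L i))
    (hneg : ∀ a : Fin r → ℤ, a ≠ 0 → ∑ i, ∑ j, a i * a j * SurfPairing.pair k (PicF.cl (L i)) (PicF.cl (L j)) < 0) :
    r + 1 ≤ Module.finrank ℝ (NumR.N1R k X) := by
  classical
  set h := NumR.clR k X H hH.1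
  let e : Fin r → NumR.N1R k X := fun i => NumR.clR k X (L i) (hL i)
  let G : Matrix (Fin r) (Fin r) ℤ := fun i j => SurfPairing.pair k (PicF.cl (L i)) (PicF.cl (L j))
  have hG : ∀ i j, B (e i) (e j) = (G i j : ℝ) := fun i j => form_eq hdim hB (hL i) (hL j)
  have hdet : G.det ≠ 0 := by
    intro h0
    obtain ⟨a, ha0, ha⟩ := Matrix.exists_vecMul_eq_zero_iff.2 h0
    have h1 := hneg a ha0
    rw [Finset.sum_comm] at h1
    refine absurd h1 (not_lt.2 (Finset.sum_nonneg fun j _ => ?_))
    have h2 := congr_fun ha j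
    simp only [Matrix.vecMul, dotProduct, Pi.zero_apply] at h2
    have h3 : ∑ i, a i * a j * G i j = a j * ∑ i, a i * G i j := by
      rw [Finset.mul_sum]
      exact Finset.sum_congr rfl fun i _ => by ring
    exact (h3.trans (by rw [h2, mul_zero])).ge
  have hsemi : ∀ f : Fin r → ℝ, ∑ i, ∑ j, f i * f j * (G i j : ℝ) ≤ 0 := by
    have hcont : Continuous fun f : Fin r → ℝ => ∑ i, ∑ j, f i * f j * (G i j : ℝ) := by fun_prop
    refine fun f => (DenseRange.piMap fun _ : Fin r => Rat.denseRange_cast (𝕜 := ℝ)).induction_on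
      (p := fun f => ∑ i, ∑ j, f i * f j * (G i j : ℝ) ≤ 0) f (isClosed_le hcont continuous_const) fun q => ?_
    obtain ⟨⟨b, hb⟩, hr⟩ := IsLocalization.exist_integer_multiples (nonZeroDivisors ℤ) Finset.univ q
    choose a ha using fun i => hr i (Finset.mem_univ i)
    have hb0 : (b : ℝ) ≠ 0 := Int.cast_ne_zero.2 (nonZeroDivisors.ne_zero hb)
    have hai : ∀ i, (a i : ℝ) = (b : ℝ) * (q i : ℝ) := fun i => by
      have h1 := congrArg (Rat.cast : ℚ → ℝ) (ha i)
      simp only [algebraMap_int_eq, eq_intCast, zsmul_eq_mul, Rat.cast_intCast, Rat.cast_mul] at h1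
      exact h1
    have h3 : ((∑ i, ∑ j, a i * a j * G i j : ℤ) : ℝ) ≤ 0 := by
      rcases eq_or_ne a 0 with rfl | ha0
      · simp
      · exact_mod_cast (hneg a ha0).le
    push_cast at h3
    simp only [hai] at h3
    have h4 : ∑ i, ∑ j, (b : ℝ) * (q i : ℝ) * ((b : ℝ) * (q j : ℝ)) * (G i j : ℝ) =
        (b : ℝ) * b * ∑ i, ∑ j, (q i : ℝ) * (q j : ℝ) * (G i j : ℝ) := by
      rw [Finset.mul_sum]
      refine Finset.sum_congr rfl fun i _ => ?_
      rw [Finset.mul_sum]
      exact Finset.sum_congr rfl fun j _ => by ring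
    rw [h4] at h3
    exact nonpos_of_mul_nonpos_right h3 (mul_self_pos.2 hb0)
  have hli : LinearIndependent ℝ (Fin.snoc (α := fun _ => NumR.N1R k X) e h) := by
    refine Fintype.linearIndependent_iff.2 fun c hc => ?_
    rw [Fin.sum_univ_castSucc] at hc
    simp only [Fin.snoc_castSucc, Fin.snoc_last] at hc
    set t := c (Fin.last r)
    have hu : ∑ i, c i.castSucc • e i = -(t • h) := eq_neg_of_add_eq_zero_left hc
    have h1 := hsemi fun i => c i.castSucc
    have h2 : ∑ i, ∑ j, c i.castSucc * c j.castSucc * (G i j : ℝ) = t * t * B h h := by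
      have h3 : B (∑ i, c i.castSucc • e i) (∑ i, c i.castSucc • e i) =
          ∑ i, ∑ j, c i.castSucc * c j.castSucc * (G i j : ℝ) := by
        simp only [map_sum, map_smul, LinearMap.sum_apply, LinearMap.smul_apply, smul_eq_mul, hG, Finset.mul_sum]
        rw [Finset.sum_comm]
        exact Finset.sum_congr rfl fun i _ => Finset.sum_congr rfl fun j _ => by ring
      rw [← h3, hu]
      simp only [map_neg, map_smul, LinearMap.neg_apply, LinearMap.smul_apply, smul_eq_mul]
      ring
    rw [h2] at h1
    have ht : t = 0 := mul_self_eq_zero.1 (le_antisymm (nonpos_of_mul_nonpos_left h1 (form_self_pos hdim hB hH))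
      (mul_self_nonneg t))
    rw [ht, zero_smul, neg_zero] at hu
    have hker : Matrix.vecMul (fun i => c i.castSucc) (G.map (Int.cast : ℤ → ℝ)) = 0 := by
      funext j
      have h3 := congrArg (fun w => B w (e j)) hu
      simp only [map_sum, map_smul, LinearMap.sum_apply, LinearMap.smul_apply, smul_eq_mul, hG, map_zero,
        LinearMap.zero_apply] at h3
      simpa [Matrix.vecMul, dotProduct] using h3
    have hdet' : (G.map (Int.cast : ℤ → ℝ)).det ≠ 0 := by
      have h3 : ((Int.castRingHom ℝ).mapMatrix G).det = ((G.det : ℤ) : ℝ) := ((Int.castRingHom ℝ).map_det G).symm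
      exact h3.trans_ne (Int.cast_ne_zero.2 hdet)
    have h0 : (fun i : Fin r => c i.castSucc) = 0 := by
      by_contra hne
      exact hdet' (Matrix.exists_vecMul_eq_zero_iff.1 ⟨_, hne, hker⟩)
    exact fun i => Fin.lastCases ht (fun j => congr_fun h0 j) i
  simpa using hli.fintype_card_le_finrank

end Groth.Agent.SurfCone
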