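import Groth.Agent.Lib.SurfCone
import Groth.Agent.Lib.SurfAdj
import Groth.Agent.AmpleX.Generated
import Mathlib.Topology.NoetherianSpace

/-!
Nef classes, ample cone, and the criterion for ampleness of real classes on a surface.
-/

set_option autoImplicit false
set_option linter.style.haveILetI false
set_option linter.unusedSectionVars false
set_option backward.isDefEq.respectTransparency false
set_option backward.isDefEq.respectTransparency.types false
set_option maxHeartbeats 1000000

universe u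

open CategoryTheory CategoryTheory.Limits AlgebraicGeometry TopologicalSpace Opposite Topology
open Groth.Agent.H23 Groth.Agent.H23.TrivBasic

noncomputable section

namespace Groth.Agent.SurfNefCone

attribute [local instance] PicMul.clMonoid

variable {k : Type u} [Field k] {X : Scheme.{u}} [X.Over (Spec (CommRingCat.of k))]
  [IsProper (X ↘ Spec (CommRingCat.of k))] [Smooth (X ↘ Spec (CommRingCat.of k))] [IsIntegral X]
  [PicGrp.Law X]

instance isTopologicalAddGroup_N1R : IsTopologicalAddGroup (NumR.N1R k X) :=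
  IsModuleTopology.topologicalAddGroup ℝ _

theorem clR_congr {L M : X.Modules} (hL : PicF.IsInvertible L) (hM : PicF.IsInvertible M)
    (e : PicF.cl L = PicF.cl M) : NumR.clR k X L hL = NumR.clR k X M hM := by
  have h : PicGrp.cls L hL = PicGrp.cls M hM := Subtype.ext e
  rw [NumR.clR_def, NumR.clR_def, ← NumR.toN1_ofMul_cls L hL, ← NumR.toN1_ofMul_cls M hM, h]

theorem clR_tensor {L M : X.Modules} (hL : PicF.IsInvertible L) (hM : PicF.IsInvertible M)
    (hLM : PicF.IsInvertible (CohB1.tensorMod L M)) :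
    NumR.clR k X (CohB1.tensorMod L M) hLM = NumR.clR k X L hL + NumR.clR k X M hM := by
  have h : PicGrp.cls (CohB1.tensorMod L M) hLM = PicGrp.cls L hL * PicGrp.cls M hM :=
    Subtype.ext (PicGrp.cls_mul_cls_val hL hM).symm
  simp only [NumR.clR_def, ← NumR.toN1_ofMul_cls, h, ofMul_mul, map_add]

theorem clR_eq_zero {L : X.Modules} (hL : PicF.IsInvertible L) (e : Nonempty (L ≅ Coh.structureModule X)) :
    NumR.clR k X L hL = 0 := by
  have h : PicGrp.cls L hL = 1 := (PicGrp.cls_eq_one_iff hL).2 e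
  simp only [NumR.clR_def, ← NumR.toN1_ofMul_cls, h, ofMul_one, map_zero]

theorem clR_pow {L : X.Modules} (hL : PicF.IsInvertible L) (n : ℕ) :
    NumR.clR k X (CohB1.tensorPow L n) (PicMul.isInvertible_tensorPow hL n) = (n : ℝ) • NumR.clR k X L hL := by
  have h : PicGrp.cls (CohB1.tensorPow L n) (PicMul.isInvertible_tensorPow hL n) = PicGrp.cls L hL ^ n :=
    Subtype.ext (PicGrp.cls_pow_val hL n).symm
  simp only [NumR.clR_def, ← NumR.toN1_ofMul_cls, h, ofMul_pow, map_nsmul, Nat.cast_smul_eq_nsmul]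

theorem exists_neg {L : X.Modules} (hL : PicF.IsInvertible L) :
    ∃ (L' : X.Modules) (hL' : PicF.IsInvertible L'), NumR.clR k X L' hL' = -NumR.clR k X L hL := by
  obtain ⟨L', hL', e⟩ := PicInv.exists_inverse hL
  refine ⟨L', hL', eq_neg_of_add_eq_zero_right ?_⟩
  rw [← clR_tensor hL hL' (PicMul.isInvertible_tensor hL hL')]
  exact clR_eq_zero _ e

theorem exists_point {O : Set (NumR.N1R k X)} (hO : IsOpen O) (hne : O.Nonempty) :
    ∃ (N : ℕ) (L : X.Modules) (hL : PicF.IsInvertible L), 0 < N ∧ ((N : ℝ)⁻¹ • NumR.clR k X L hL) ∈ O := by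
  obtain ⟨x, hx⟩ := hne
  obtain ⟨n, f, g, hfg⟩ : ∃ (n : ℕ) (f : Fin n → ℝ) (g : Fin n → {x : NumR.N1R k X |
      ∃ (L : X.Modules) (hL : PicF.IsInvertible L), x = NumR.clR k X L hL}), ∑ i, f i • (g i : NumR.N1R k X) = x :=
    Submodule.mem_span_set'.1 ((NumR.span_clR (k := k) (X := X)).symm ▸ Submodule.mem_top)
  choose L hL hg using fun i => (g i).2
  let v : (Fin n → ℝ) → NumR.N1R k X := fun r => ∑ i, r i • (g i : NumR.N1R k X)
  have hv : Continuous v := continuous_finsetSum _ fun i _ => (continuous_apply i).smul continuous_const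
  obtain ⟨q, hq⟩ := (DenseRange.piMap fun _ : Fin n => Rat.denseRange_cast (𝕜 := ℝ)).exists_mem_open
    (hO.preimage hv) ⟨f, by show v f ∈ O; rw [show v f = x from hfg]; exact hx⟩
  obtain ⟨⟨b, hb⟩, hr⟩ := IsLocalization.exist_integer_multiples (nonZeroDivisors ℤ) Finset.univ q
  choose a ha using fun i => hr i (Finset.mem_univ i)
  have hb0 : b ≠ 0 := nonZeroDivisors.ne_zero hb
  have hai : ∀ i, ((b.sign * a i : ℤ) : ℝ) = (b.natAbs : ℝ) * (q i : ℝ) := fun i => by
    have h1 := congrArg (Rat.cast : ℚ → ℝ) (ha i)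
    simp only [algebraMap_int_eq, eq_intCast, zsmul_eq_mul, Rat.cast_intCast, Rat.cast_mul] at h1
    rw [Int.cast_mul, h1, ← mul_assoc, ← Int.cast_mul, Int.sign_mul_self_eq_abs, Int.abs_eq_natAbs, Int.cast_natCast]
  obtain ⟨M, hM, -, hM'⟩ := SurfCone.exists_cl_sum (k := k) L hL fun i => b.sign * a i
  refine ⟨b.natAbs, M, hM, Int.natAbs_pos.2 hb0, ?_⟩
  have hne' : ((b.natAbs : ℕ) : ℝ) ≠ 0 := Nat.cast_ne_zero.2 (Int.natAbs_pos.2 hb0).ne'
  rw [hM', Finset.smul_sum]
  have hv' : (∑ i, (q i : ℝ) • (g i : NumR.N1R k X)) ∈ O := hq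
  refine Eq.mp (congrArg (· ∈ O) (Finset.sum_congr rfl fun i _ => ?_)) hv'
  rw [hai i, smul_smul, ← mul_assoc, inv_mul_cancel₀ hne', one_mul, hg i]

variable (hdim : topologicalKrullDim X = 2) {B : NumR.N1R k X →ₗ[ℝ] NumR.N1R k X →ₗ[ℝ] ℝ}
  (hB : NumR.IsIntForm₂ k X B) {H : X.Modules} (hH : CohB1.IsAmple H)

include hdim hB in
theorem form_curve {L : X.Modules} (hL : PicF.IsInvertible L) (I : X.IdealSheafData)
    (hI : PicF.IsInvertible (ClSub.idealMod I)) :
    B (NumR.clR k X L hL) (NumR.curveCl k X I hI) =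
      -(SurfPairing.pair k (PicF.cl (ClSub.idealMod I)) (PicF.cl L) : ℝ) := by
  rw [NumR.curveCl, map_neg, SurfCone.form_eq hdim hB hL hI, SurfPairing.pair_comm]

include k hdim in
theorem invertible_ideal {I : X.IdealSheafData} (hint : IsIntegral I.subscheme)
    (hd : topologicalKrullDim (I.support : Set X) = 1) : PicF.IsInvertible (ClSub.idealMod I) := by
  haveI := hint
  let i := I.subschemeι
  have hd' : topologicalKrullDim I.subscheme = 1 := by
    rw [IsHomeomorph.topologicalKrullDim_eq _
      ((i.isEmbedding.toHomeomorph).trans (Homeomorph.setCongr I.range_subschemeι)).isHomeomorph, hd]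
  have h := CurveOnSurf.isInvertible_ideal (X ↘ Spec (CommRingCat.of k)) hdim (SurfHodge.regular k) i hd'
  rwa [Scheme.IdealSheafData.ker_subschemeι] at h

include hdim hB in
/-- A nef class is nonnegative on modules with a section. -/
theorem nef_section {x : NumR.N1R k X} (hx : x ∈ NumR.nefCone₂ k X B) {L : X.Modules} (hL : PicF.IsInvertible L)
    {s : Γ(L, ⊤)} (hs : s ≠ 0) : 0 ≤ B x (NumR.clR k X L hL) := by
  obtain ⟨H, hH⟩ := SurfAdj.exists_ample k hdim
  suffices h : ∀ n : ℕ, ∀ (L : X.Modules) (hL : PicF.IsInvertible L) (s : Γ(L, ⊤)), s ≠ 0 →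
      SurfPairing.pair k (PicF.cl L) (PicF.cl H) < n → 0 ≤ B x (NumR.clR k X L hL) from
    h _ L hL s hs (show _ < ((((SurfPairing.pair k (PicF.cl L) (PicF.cl H)).toNat + 1 : ℕ)) : ℤ) by push_cast; omega)
  intro n
  induction n with
  | zero => exact fun L hL s hs h => absurd h (not_lt.2 (SurfAmple.pair_nonneg (k := k) hdim.le hL hH hs))
  | succ n ih =>
    intro L hL s hs hlt
    by_cases htop : locus s = ⊤
    · rw [clR_eq_zero hL (triv_of_frame (locus_eq_top_iff.1 htop)), map_zero]
    obtain ⟨J, hJ, hJd, hJs⟩ := SurfAmple.exists_curve k hdim hL hs htop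
    haveI := hJ
    have hJd' : topologicalKrullDim (J.support : Set X) = 1 := by
      rw [← IsHomeomorph.topologicalKrullDim_eq _
        ((J.subschemeι.isEmbedding.toHomeomorph).trans (Homeomorph.setCongr J.range_subschemeι)).isHomeomorph, hJd]
    obtain ⟨t, ht⟩ := SurfAmple.exists_lift_section J hL hs hJs
    have hI := invertible_ideal (k := k) hdim hJ hJd'
    have hLI := PicMul.isInvertible_tensor hL hI
    have hneg := SurfNegDef.pair_curve_ample_neg (k := k) hdim (SurfHodge.regular k) hJd' hH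
    have hp : SurfPairing.pair k (PicF.cl (CohB1.tensorMod L (ClSub.idealMod J))) (PicF.cl H) < n := by
      rw [PicMul.cl_tensor, SurfPairing.pair_comm k _ (PicF.cl H), SurfPairing.pair_mul k hdim.le hH.1 hL hI,
        SurfPairing.pair_comm k (PicF.cl H) (PicF.cl L), SurfPairing.pair_comm k (PicF.cl H)]
      push_cast at hlt
      linarith
    have h1 := ih _ hLI t ht hp
    have h2 := hx J hJ hJd' hI
    rw [clR_tensor hL hI hLI, map_add] at h1
    rw [NumR.curveCl, map_neg] at h2
    linarith

include hdim hB in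
/-- A nef class is nonnegative on classes in the positive cone coming from modules. -/
theorem nef_pos_class (hH : CohB1.IsAmple H) {x : NumR.N1R k X} (hx : x ∈ NumR.nefCone₂ k X B) {L : X.Modules}
    (hL : PicF.IsInvertible L) (hpos : NumR.clR k X L hL ∈ NumR.posCone k X B H hH.1) :
    0 ≤ B x (NumR.clR k X L hL) := by
  obtain ⟨hLL, hLH⟩ := hpos
  rw [SurfCone.form_eq hdim hB hL hL] at hLL
  rw [SurfCone.form_eq hdim hB hL hH.1] at hLH
  obtain ⟨N, hN⟩ := SurfHodge.eventually_effective (k := k) hdim hH hL (by exact_mod_cast hLL) (by exact_mod_cast hLH)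
  obtain ⟨s, hs⟩ := CurveAmple.exists_section_ne_zero (hN (N + 1) (Nat.le_succ N))
  have h := nef_section hdim hB hx (PicMul.isInvertible_tensorPow hL (N + 1)) hs
  rw [clR_pow hL, map_smul, smul_eq_mul] at h
  exact nonneg_of_mul_nonneg_right h (by positivity)

include hdim hB in
/-- A nef class is nonnegative on ample modules. -/
theorem nef_ample {x : NumR.N1R k X} (hx : x ∈ NumR.nefCone₂ k X B) {A : X.Modules} (hA : CohB1.IsAmple A) :
    0 ≤ B x (NumR.clR k X A hA.1) :=
  nef_pos_class hdim hB hA hx hA.1 ⟨SurfCone.form_self_pos hdim hB hA, SurfCone.form_self_pos hdim hB hA⟩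

section Cone

variable [Module.Finite ℝ (NumR.N1R k X)]

include hdim hB in
theorem ample_deg_pos {z : NumR.N1R k X} (hz : z ∈ NumR.ampleCone k X) (I : X.IdealSheafData)
    (hint : IsIntegral I.subscheme) (hd : topologicalKrullDim (I.support : Set X) = 1)
    (hI : PicF.IsInvertible (ClSub.idealMod I)) : 0 < B z (NumR.curveCl k X I hI) := by
  let C : ConvexCone ℝ (NumR.N1R k X) :=
    { carrier := {z | 0 < B z (NumR.curveCl k X I hI)}
      smul_mem' := fun c hc z hz => by
        show 0 < B (c • z) _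
        rw [map_smul, LinearMap.smul_apply, smul_eq_mul]
        exact mul_pos hc hz
      add_mem' := fun a ha b hb => by
        show 0 < B (a + b) _
        rw [map_add, LinearMap.add_apply]
        exact add_pos ha hb }
  refine ConvexCone.hull_min (C := C) ?_ hz
  rintro _ ⟨L, hL, hA, rfl⟩
  show 0 < B _ _
  rw [form_curve hdim hB hL I hI]
  haveI := hint
  have := SurfNegDef.pair_curve_ample_neg (k := k) hdim (SurfHodge.regular k) hd hA
  rw [neg_pos]
  exact_mod_cast this

include hdim hB hH in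
theorem ampleCone_subset_posCone :
    (NumR.ampleCone k X : Set (NumR.N1R k X)) ⊆ NumR.posCone k X B H hH.1 := by
  let C : ConvexCone ℝ (NumR.N1R k X) :=
    { carrier := NumR.posCone k X B H hH.1
      smul_mem' := fun c hc z hz => by
        refine ⟨?_, ?_⟩
        · simp only [map_smul, LinearMap.smul_apply, smul_eq_mul]
          exact mul_pos hc (mul_pos hc hz.1)
        · simp only [map_smul, LinearMap.smul_apply, smul_eq_mul]
          exact mul_pos hc hz.2
      add_mem' := fun a ha b hb => by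
        have hab := SurfCone.form_pos hdim hB hH ha.1 ha.2 hb.1.le hb.2
        refine ⟨?_, ?_⟩
        · simp only [map_add, LinearMap.add_apply, SurfCone.form_comm hdim hB b a]
          linarith [ha.1, hb.1]
        · simp only [map_add, LinearMap.add_apply]
          linarith [ha.2, hb.2] }
  refine fun z hz => ConvexCone.hull_min (C := C) ?_ hz
  rintro _ ⟨L, hL, hA, rfl⟩
  refine ⟨SurfCone.form_self_pos hdim hB hA, ?_⟩
  have h0 : 0 ≤ B (NumR.clR k X L hL) (NumR.clR k X H hH.1) :=
    nef_ample hdim hB (fun I hint hd hI => (ample_deg_pos hdim hB (ConvexCone.subset_hull ⟨L, hL, hA, rfl⟩) I hint hd hI).le) hH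
  exact h0.lt_of_ne' (SurfCone.ne_zero_pair hdim hB hH (SurfCone.form_self_pos hdim hB hA))

theorem mem_cone {L : X.Modules} (hL : PicF.IsInvertible L) (hA : CohB1.IsAmple L) :
    NumR.clR k X L hL ∈ NumR.ampleCone k X := ConvexCone.subset_hull ⟨L, hL, hA, rfl⟩

/-- An ample class is interior to the ample cone along every line. -/
theorem exists_segment (hA : CohB1.IsAmple H) (y : NumR.N1R k X) :
    ∃ δ : ℝ, 0 < δ ∧ ∀ t : ℝ, |t| ≤ δ → NumR.clR k X H hA.1 + t • y ∈ NumR.ampleCone k X := by
  haveI := CurveCohLib.isNoetherian_of_proper (k := k) (X := X)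
  haveI : X.IsSeparated := ⟨by
    rw [← Limits.terminal.comp_from (X ↘ Spec (CommRingCat.of k))]
    infer_instance⟩
  set h := NumR.clR k X H hA.1
  set A := NumR.ampleCone k X
  have hhA : h ∈ A := mem_cone hA.1 hA
  have hy : y ∈ Submodule.span ℝ {x : NumR.N1R k X | ∃ (L : X.Modules) (hL : PicF.IsInvertible L), x = NumR.clR k X L hL} :=
    (NumR.span_clR (k := k) (X := X)).symm ▸ Submodule.mem_top
  induction hy using Submodule.span_induction with
  | mem y hy =>
    obtain ⟨L, hL, rfl⟩ := hy
    obtain ⟨L', hL', hneg⟩ := exists_neg (k := k) hL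
    obtain ⟨n₁, hn₁, h₁⟩ := AmpleX.eventually_ample_tensor hA hL
    obtain ⟨n₂, hn₂, h₂⟩ := AmpleX.eventually_ample_tensor hA hL'
    set n := n₁ + n₂
    have hm₁ := mem_cone (k := k) (h₁ n (Nat.le_add_right _ _)).1.1 (h₁ n (Nat.le_add_right _ _)).1
    have hm₂ := mem_cone (k := k) (h₂ n (Nat.le_add_left _ _)).1.1 (h₂ n (Nat.le_add_left _ _)).1
    rw [clR_tensor (PicMul.isInvertible_tensorPow hA.1 n) hL, clR_pow hA.1] at hm₁
    rw [clR_tensor (PicMul.isInvertible_tensorPow hA.1 n) hL', clR_pow hA.1, hneg] at hm₂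
    have hn : (0 : ℝ) < n := Nat.cast_pos.2 (Nat.add_pos_left hn₁ _)
    refine ⟨1 / (2 * n), by positivity, fun t ht => ?_⟩
    have hlt : (n : ℝ) * |t| < 1 := by
      have := mul_le_mul_of_nonneg_left ht hn.le
      rw [show (n : ℝ) * (1 / (2 * n)) = 1 / 2 by field_simp] at this
      linarith
    rcases lt_trichotomy t 0 with htn | rfl | htp
    · rw [abs_of_neg htn] at hlt
      have hmem := A.add_mem (A.smul_mem (show (0 : ℝ) < 1 + n * t by linarith) hhA)
        (A.smul_mem (neg_pos.2 htn) hm₂)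
      convert hmem using 1
      module
    · simpa using hhA
    · rw [abs_of_pos htp] at hlt
      have hmem := A.add_mem (A.smul_mem (show (0 : ℝ) < 1 - n * t by linarith) hhA) (A.smul_mem htp hm₁)
      convert hmem using 1
      module
  | zero => exact ⟨1, one_pos, fun t _ => by simpa using hhA⟩
  | add a b _ _ iha ihb =>
    obtain ⟨δ₁, hδ₁, h₁⟩ := iha
    obtain ⟨δ₂, hδ₂, h₂⟩ := ihb
    refine ⟨min δ₁ δ₂ / 2, by positivity, fun t ht => ?_⟩
    have hm := A.smul_mem (show (0 : ℝ) < 1 / 2 by norm_num) (A.add_mem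
      (h₁ (2 * t) (by rw [abs_mul, abs_two]; linarith [min_le_left δ₁ δ₂]))
      (h₂ (2 * t) (by rw [abs_mul, abs_two]; linarith [min_le_right δ₁ δ₂])))
    convert hm using 1
    module
  | smul c a _ iha =>
    obtain ⟨δ, hδ, h₁⟩ := iha
    refine ⟨δ / (|c| + 1), by positivity, fun t ht => ?_⟩
    rw [smul_smul]
    refine h₁ _ ?_
    rw [abs_mul]
    rw [le_div_iff₀ (by positivity)] at ht
    nlinarith [abs_nonneg t]

/-- The ample cone is a neighbourhood of each ample class. -/
theorem ampleCone_mem_nhds (hA : CohB1.IsAmple H) :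
    (NumR.ampleCone k X : Set (NumR.N1R k X)) ∈ 𝓝 (NumR.clR k X H hA.1) := by
  classical
  set h := NumR.clR k X H hA.1
  set A := NumR.ampleCone k X
  let b := Module.finBasis ℝ (NumR.N1R k X)
  have key : ∀ s : Finset (Fin (Module.finrank ℝ (NumR.N1R k X))), ∃ δ : ℝ, 0 < δ ∧
      ∀ c : Fin (Module.finrank ℝ (NumR.N1R k X)) → ℝ, (∀ i, |c i| < δ) → h + ∑ i ∈ s, c i • b i ∈ A := by
    intro s
    induction s using Finset.induction_on with
    | empty => exact ⟨1, one_pos, fun c _ => by simpa using mem_cone hA.1 hA⟩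
    | insert i s hi ih =>
      obtain ⟨δ, hδ, hs⟩ := ih
      obtain ⟨ε, hε, he⟩ := exists_segment hA (b i)
      refine ⟨min δ ε / 2, by positivity, fun c hc => ?_⟩
      have hm := A.smul_mem (show (0 : ℝ) < 1 / 2 by norm_num) (A.add_mem
        (hs (fun j => 2 * c j) (fun j => by rw [abs_mul, abs_two]; linarith [min_le_left δ ε, hc j]))
        (he (2 * c i) (by rw [abs_mul, abs_two]; linarith [min_le_right δ ε, hc i])))
      convert hm using 1
      rw [Finset.sum_insert hi, show (∑ j ∈ s, (2 * c j) • b j) = (2 : ℝ) • ∑ j ∈ s, c j • b j by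
        simp only [Finset.smul_sum, smul_smul]]
      module
  obtain ⟨δ, hδ, hu⟩ := key Finset.univ
  have hco : ∀ i, Continuous fun x : NumR.N1R k X => b.repr x i := fun i =>
    IsModuleTopology.continuous_of_linearMap (b.coord i)
  refine mem_nhds_iff.2 ⟨⋂ i, {z | |b.repr z i - b.repr h i| < δ}, fun z hz => ?_,
    isOpen_iInter_of_finite fun i => isOpen_lt ((hco i).sub continuous_const).abs continuous_const,
    Set.mem_iInter.2 fun i => by simpa using hδ⟩
  have hm := hu (fun i => b.repr z i - b.repr h i) (fun i => Set.mem_iInter.1 hz i)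
  simp only [sub_smul, Finset.sum_sub_distrib, b.sum_repr, add_sub_cancel] at hm
  exact hm

theorem isOpen_ampleCone : IsOpen (NumR.ampleCone k X : Set (NumR.N1R k X)) := by
  set A := NumR.ampleCone k X
  let C : ConvexCone ℝ (NumR.N1R k X) :=
    { carrier := interior (A : Set (NumR.N1R k X))
      smul_mem' := fun c hc z hz => by
        rw [mem_interior_iff_mem_nhds] at hz ⊢
        have hcont : Continuous fun w : NumR.N1R k X => c⁻¹ • w := continuous_id.const_smul c⁻¹
        have h := hcont.continuousAt.preimage_mem_nhds (x := c • z) (t := (A : Set (NumR.N1R k X)))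
          (by rwa [inv_smul_smul₀ hc.ne'])
        refine Filter.mem_of_superset h fun w hw => ?_
        have h' := A.smul_mem hc (show c⁻¹ • w ∈ A from hw)
        rwa [smul_inv_smul₀ hc.ne'] at h'
      add_mem' := fun a ha z hz => by
        rw [mem_interior_iff_mem_nhds] at ha hz ⊢
        have hcont : Continuous fun w : NumR.N1R k X => w + (-z) := continuous_id.add continuous_const
        have h := hcont.continuousAt.preimage_mem_nhds (x := a + z) (t := (A : Set (NumR.N1R k X)))
          (by rwa [add_neg_cancel_right])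
        refine Filter.mem_of_superset h fun w hw => ?_
        have h' := A.add_mem (show w + (-z) ∈ A from hw) (mem_of_mem_nhds hz)
        rwa [neg_add_cancel_right] at h' }
  refine isOpen_iff_mem_nhds.2 fun z hz => mem_interior_iff_mem_nhds.1 (ConvexCone.hull_min (C := C) ?_ hz)
  rintro _ ⟨L, hL, hA, rfl⟩
  exact mem_interior_iff_mem_nhds.2 (ampleCone_mem_nhds hA)

include hdim hB in
/-- Nef classes have nonnegative square. -/
theorem self_nonneg {x : NumR.N1R k X} (hx : x ∈ NumR.nefCone₂ k X B) : 0 ≤ B x x := by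
  obtain ⟨H, hH⟩ := SurfAdj.exists_ample k hdim
  by_contra hlt
  rw [not_le] at hlt
  set h := NumR.clR k X H hH.1
  have hhh : 0 < B h h := SurfCone.form_self_pos hdim hB hH
  have hxh : 0 ≤ B x h := nef_ample hdim hB hx hH
  set a := B x h / B h h with ha_def
  set w := x - a • h with hw_def
  have hxh' : B x h = a * B h h := by rw [ha_def, div_mul_cancel₀ _ hhh.ne']
  have hwh : B w h = 0 := by
    simp only [hw_def, map_sub, map_smul, LinearMap.sub_apply, LinearMap.smul_apply, smul_eq_mul, hxh']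
    ring
  have hww : B w w = B x x - a ^ 2 * B h h := by
    simp only [hw_def, map_sub, map_smul, LinearMap.sub_apply, LinearMap.smul_apply, smul_eq_mul,
      SurfCone.form_comm hdim hB h x, hxh']
    ring
  have hhw : B h w = 0 := by rw [SurfCone.form_comm hdim hB, hwh]
  have ha : 0 ≤ a := div_nonneg hxh hhh.le
  set m := -B w w / B h h with hm_def
  have hm : B w w = -(m * B h h) := by rw [hm_def, div_mul_cancel₀ _ hhh.ne', neg_neg]
  have hma : a ^ 2 < m := by
    rw [hm_def, lt_div_iff₀ hhh]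
    linarith
  obtain ⟨c, hc0, hc1, hc2⟩ : ∃ c : ℝ, 0 < c ∧ m < c ^ 2 ∧ c * a < m := by
    rcases ha.eq_or_lt with h0 | h0
    · refine ⟨m + 1, by nlinarith, by nlinarith, ?_⟩
      rw [← h0, mul_zero]
      nlinarith
    · have hm0 : 0 < m := lt_of_le_of_lt (sq_nonneg a) hma
      refine ⟨(m + a ^ 2) / (2 * a), by positivity, ?_, ?_⟩
      · rw [div_pow, lt_div_iff₀ (by positivity)]
        nlinarith [mul_pos (sub_pos.2 hma) (sub_pos.2 hma)]
      · rw [show (m + a ^ 2) / (2 * a) * a = (m + a ^ 2) / 2 by field_simp]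
        linarith
  set z := c • h + w with hz_def
  have hzh : 0 < B z h := by
    simp only [hz_def, map_add, map_smul, LinearMap.add_apply, LinearMap.smul_apply, smul_eq_mul, hwh, add_zero]
    exact mul_pos hc0 hhh
  have hzz : 0 < B z z := by
    simp only [hz_def, map_add, map_smul, LinearMap.add_apply, LinearMap.smul_apply, smul_eq_mul, hwh, hhw, hm]
    nlinarith [mul_pos (sub_pos.2 hc1) hhh]
  have hxz : B x z < 0 := by
    have hxw : B x w = B w w := by
      have : x = w + a • h := by rw [hw_def, sub_add_cancel]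
      conv_lhs => rw [this]
      simp only [map_add, map_smul, LinearMap.add_apply, LinearMap.smul_apply, smul_eq_mul, hhw, mul_zero, add_zero]
    simp only [hz_def, map_add, map_smul, smul_eq_mul, hxw, hxh', hm]
    nlinarith [mul_pos (sub_pos.2 hc2) hhh]
  obtain ⟨N, L, hL, hN, ⟨hLpos, hLneg⟩⟩ := exists_point (k := k)
    ((SurfCone.isOpen_posCone hdim hB hH).inter
      (isOpen_lt (IsModuleTopology.continuous_of_linearMap (B x)) continuous_const : IsOpen {z | B x z < 0}))
    ⟨z, ⟨hzz, hzh⟩, hxz⟩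
  have hN' : (0 : ℝ) < N := Nat.cast_pos.2 hN
  obtain ⟨h1, h2⟩ := hLpos
  simp only [Set.mem_setOf_eq, map_smul, LinearMap.smul_apply, smul_eq_mul] at h1 h2 hLneg
  have hinv : (0 : ℝ) < (N : ℝ)⁻¹ := inv_pos.2 hN'
  have := nef_pos_class hdim hB hH hx hL
    ⟨pos_of_mul_pos_right (pos_of_mul_pos_right h1 hinv.le) hinv.le, pos_of_mul_pos_right h2 hinv.le⟩
  nlinarith

include k hdim in
/-- The curves inside the zero locus of a nonzero section are finitely many. -/
theorem finite_curves {L : X.Modules} (hL : PicF.IsInvertible L) {s : Γ(L, ⊤)} (hs : s ≠ 0) :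
    {I : X.IdealSheafData | IsIntegral I.subscheme ∧ topologicalKrullDim (I.support : Set X) = 1 ∧
      (I.support : Set X) ⊆ (locus s : Set X)ᶜ}.Finite := by
  classical
  haveI := CurveCohLib.isNoetherian_of_proper (k := k) (X := X)
  let π := X ↘ Spec (CommRingCat.of k)
  have hgen : VarDim.deg π (genericPoint X) = 2 := by
    have h : (VarDim.deg π (genericPoint X) : WithBot ℕ∞) = 2 :=
      (VarDim.topologicalKrullDim_eq_deg_genericPoint π).symm.trans hdim
    exact_mod_cast h
  obtain ⟨S, hSf, hSc, hSi, hS⟩ := NoetherianSpace.exists_finite_set_isClosed_irreducible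
    (locus s).isOpen.isClosed_compl
  refine hSf.of_injOn (f := fun I : X.IdealSheafData => (I.support : Set X)) (fun I hI => ?_)
    (fun I hI J hJ h => ?_)
  · obtain ⟨hint, hd, hsub⟩ := hI
    haveI := hint
    have hirr : IsIrreducible (I.support : Set X) := by
      rw [← Scheme.IdealSheafData.range_subschemeι, ← Set.image_univ]
      exact (IrreducibleSpace.isIrreducible_univ _).image _ I.subschemeι.continuous.continuousOn
    obtain ⟨t, htS, ht⟩ := isIrreducible_iff_sUnion_isClosed.1 hirr hSf.toFinset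
      (fun t ht => hSc t (hSf.mem_toFinset.1 ht)) (by rw [hSf.coe_toFinset, ← hS]; exact hsub)
    rw [hSf.mem_toFinset] at htS
    obtain ⟨τ, hτ⟩ := QuasiSober.sober (hSi t htS) (hSc t htS)
    let η := I.subschemeι (genericPoint I.subscheme)
    have hηI : η ∈ (I.support : Set X) := by
      rw [← Scheme.IdealSheafData.range_subschemeι]
      exact ⟨_, rfl⟩
    have hη : VarDim.deg π η = 1 := by
      have h3 := VarDim.tdeg_comp I.subschemeι π (genericPoint I.subscheme)
      rw [VarDim.rdeg_preimmersion, add_zero, ← VarDim.deg_eq_tdeg, ← VarDim.deg_eq_tdeg] at h3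
      have h4 : VarDim.deg (I.subschemeι ≫ π) (genericPoint I.subscheme) = VarDim.deg π η := by exact_mod_cast h3
      have hdZ : topologicalKrullDim I.subscheme = 1 := by
        rw [IsHomeomorph.topologicalKrullDim_eq _
          ((I.subschemeι.isEmbedding.toHomeomorph).trans (Homeomorph.setCongr I.range_subschemeι)).isHomeomorph, hd]
      have h5 : (VarDim.deg (I.subschemeι ≫ π) (genericPoint I.subscheme) : WithBot ℕ∞) = 1 :=
        (VarDim.topologicalKrullDim_eq_deg_genericPoint (I.subschemeι ≫ π)).symm.trans hdZ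
      rw [← h4]
      exact_mod_cast h5
    have hτη : τ ⤳ η := hτ.specializes (ht hηI)
    have hne : genericPoint X ≠ τ := fun h => by
      obtain ⟨z, hz⟩ := (Opens.ne_bot_iff_nonempty _).1 (locus_ne_bot hL hs)
      exact (hS.ge ⟨t, htS, hτ.mem⟩ : τ ∈ (locus s : Set X)ᶜ)
        (h ▸ (genericPoint_specializes z).mem_open (locus s).isOpen hz)
    have hτd : VarDim.deg π τ ≤ 1 := by
      by_contra hcon
      exact hne (VarDim.eq_of_specializes_of_deg_le π (genericPoint_specializes τ) (by omega))
    have heq : τ = η := VarDim.eq_of_specializes_of_deg_le π hτη (by omega)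
    have hts : t ⊆ (I.support : Set X) := by
      rw [← hτ.def, heq]
      exact I.support.isClosed.closure_subset_iff.2 (Set.singleton_subset_iff.2 hηI)
    show (I.support : Set X) ∈ S
    rw [ht.antisymm hts]
    exact htS
  · haveI := hI.1
    haveI := hJ.1
    exact SurfNegDef.eq_of_support_subset (k := k) hI.2.1 hJ.2.1 h.le

include hdim hB in
/-- A class of positive square and positive on every curve lies in the ample cone. -/
theorem mem_ampleCone {x : NumR.N1R k X} (hxx : 0 < B x x)
    (hdeg : ∀ (I : X.IdealSheafData), IsIntegral I.subscheme →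
      topologicalKrullDim (I.support : Set X) = 1 → ∀ hI : PicF.IsInvertible (ClSub.idealMod I),
        0 < B x (NumR.curveCl k X I hI)) :
    x ∈ (NumR.ampleCone k X : Set (NumR.N1R k X)) := by
  classical
  obtain ⟨H, hH⟩ := SurfAdj.exists_ample k hdim
  set h := NumR.clR k X H hH.1
  set P := NumR.posCone k X B H hH.1
  set A := NumR.ampleCone k X
  have hxP : x ∈ P := ⟨hxx,
    (nef_ample hdim hB (fun I a b c => (hdeg I a b c).le) hH).lt_of_ne' (SurfCone.ne_zero_pair hdim hB hH hxx)⟩
  have hback : ∀ O : Set (NumR.N1R k X), IsOpen O → x ∈ O → (O ∩ {q | x - q ∈ A}).Nonempty := by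
    intro O hO hxO
    have hcont : Continuous fun t : ℝ => x - t • h := by fun_prop
    have h0 : (fun t : ℝ => x - t • h) ⁻¹' O ∈ 𝓝 (0 : ℝ) := hcont.continuousAt.preimage_mem_nhds (by simpa using hO.mem_nhds hxO)
    obtain ⟨ε, hε, hε'⟩ := Metric.mem_nhds_iff.1 h0
    refine ⟨x - (ε / 2) • h, hε' ?_, ?_⟩
    · rw [Metric.mem_ball, Real.dist_eq, sub_zero, abs_of_pos (by positivity)]
      linarith
    · show x - (x - (ε / 2) • h) ∈ A
      rw [sub_sub_cancel]
      exact A.smul_mem (by positivity) (mem_cone hH.1 hH)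
  have hPo : IsOpen P := SurfCone.isOpen_posCone hdim hB hH
  have hAo : IsOpen (A : Set (NumR.N1R k X)) := isOpen_ampleCone
  have hA1 : IsOpen {q | x - q ∈ A} := hAo.preimage (continuous_const.sub continuous_id)
  obtain ⟨N, L, hL, hN, ⟨heP, heA⟩⟩ := exists_point (k := k) (hPo.inter hA1) (hback P hPo hxP)
  set e := (N : ℝ)⁻¹ • NumR.clR k X L hL with he
  have hinv : (0 : ℝ) < (N : ℝ)⁻¹ := inv_pos.2 (Nat.cast_pos.2 hN)
  have hLP : 0 < SurfPairing.pair k (PicF.cl L) (PicF.cl L) ∧ 0 < SurfPairing.pair k (PicF.cl L) (PicF.cl H) := by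
    obtain ⟨h1, h2⟩ := heP
    simp only [he, map_smul, LinearMap.smul_apply, smul_eq_mul] at h1 h2
    have h1' := pos_of_mul_pos_right (pos_of_mul_pos_right h1 hinv.le) hinv.le
    have h2' := pos_of_mul_pos_right h2 hinv.le
    rw [SurfCone.form_eq hdim hB hL hL] at h1'
    rw [SurfCone.form_eq hdim hB hL hH.1] at h2'
    exact ⟨by exact_mod_cast h1', by exact_mod_cast h2'⟩
  obtain ⟨n, hn⟩ := SurfHodge.eventually_effective (k := k) hdim hH hL hLP.1 hLP.2
  obtain ⟨s, hs⟩ := CurveAmple.exists_section_ne_zero (hn (n + 1) (Nat.le_succ n))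
  have hLn := PicMul.isInvertible_tensorPow hL (n + 1)
  set F := {I : X.IdealSheafData | IsIntegral I.subscheme ∧ topologicalKrullDim (I.support : Set X) = 1 ∧
      (I.support : Set X) ⊆ (locus s : Set X)ᶜ} with hF
  have hFf : F.Finite := finite_curves (k := k) hdim hLn hs
  haveI := hFf.to_subtype
  have he0 : ∀ I : X.IdealSheafData, IsIntegral I.subscheme → topologicalKrullDim (I.support : Set X) = 1 →
      ∀ hI : PicF.IsInvertible (ClSub.idealMod I), I ∉ F → 0 ≤ B e (NumR.curveCl k X I hI) := by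
    intro I hint hd hI hIF
    haveI := hint
    obtain ⟨c, hc, hcl⟩ := Set.not_subset.1 fun hsub => hIF ⟨hint, hd, hsub⟩
    obtain ⟨c', rfl⟩ : c ∈ Set.range I.subschemeι := by rw [Scheme.IdealSheafData.range_subschemeι]; exact hc
    have hdI : topologicalKrullDim I.subscheme ≤ 1 := by
      rw [IsHomeomorph.topologicalKrullDim_eq _
        ((I.subschemeι.isEmbedding.toHomeomorph).trans (Homeomorph.setCongr I.range_subschemeι)).isHomeomorph, hd]
    have h1 := SurfNegDef.deg_nonneg_of_locus (k := k) I.subschemeι hdI hLn c' (Set.notMem_compl_iff.1 hcl)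
    have h2 := CurveOnSurf.pair_ideal (k := k) I.subschemeι hLn (by rw [Scheme.IdealSheafData.ker_subschemeι]; exact hI)
    rw [Scheme.IdealSheafData.ker_subschemeι] at h2
    have h3 : 0 ≤ B (NumR.clR k X (CohB1.tensorPow L (n + 1)) hLn) (NumR.curveCl k X I hI) := by
      rw [form_curve hdim hB hLn I hI, neg_nonneg]
      exact_mod_cast (by linarith : SurfPairing.pair k (PicF.cl (ClSub.idealMod I)) (PicF.cl (CohB1.tensorPow L (n + 1))) ≤ 0)
    rw [clR_pow hL, map_smul, LinearMap.smul_apply, smul_eq_mul] at h3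
    rw [he, map_smul, LinearMap.smul_apply, smul_eq_mul]
    exact mul_nonneg hinv.le (nonneg_of_mul_nonneg_right h3 (by positivity))
  let U : Set (NumR.N1R k X) := P ∩ {q | q - e ∈ A} ∩
    ⋂ I : F, {q | 0 < B q (NumR.curveCl k X I.1 (invertible_ideal (k := k) hdim I.2.1 I.2.2.1))}
  have hUo : IsOpen U := (hPo.inter (hAo.preimage (continuous_id.sub continuous_const))).inter
    (isOpen_iInter_of_finite fun I => isOpen_lt continuous_const
      (IsModuleTopology.continuous_of_linearMap (B.flip (NumR.curveCl k X I.1 (invertible_ideal (k := k) hdim I.2.1 I.2.2.1)))))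
  have hxU : x ∈ U := ⟨⟨hxP, heA⟩, Set.mem_iInter.2 fun I => hdeg I.1 I.2.1 I.2.2.1 _⟩
  have hUdeg : ∀ q ∈ U, ∀ (I : X.IdealSheafData), IsIntegral I.subscheme →
      topologicalKrullDim (I.support : Set X) = 1 → ∀ hI : PicF.IsInvertible (ClSub.idealMod I),
        0 < B q (NumR.curveCl k X I hI) := by
    intro q hq I hint hd hI
    by_cases hIF : I ∈ F
    · exact Set.mem_iInter.1 hq.2 ⟨I, hIF⟩
    · have h1 := ample_deg_pos hdim hB hq.1.2 I hint hd hI
      rw [map_sub, LinearMap.sub_apply] at h1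
      linarith [he0 I hint hd hI hIF]
  obtain ⟨N', L', hL', hN', ⟨hqU, hqA⟩⟩ := exists_point (k := k) (hUo.inter hA1) (hback U hUo hxU)
  set q := (N' : ℝ)⁻¹ • NumR.clR k X L' hL' with hq
  have hinv' : (0 : ℝ) < (N' : ℝ)⁻¹ := inv_pos.2 (Nat.cast_pos.2 hN')
  have hamp : CohB1.IsAmple L' := by
    refine Nakai.isAmple_of_surface k hdim hL' ?_ fun Z hZ hZd => ?_
    · have h1 := hqU.1.1.1
      simp only [hq, map_smul, LinearMap.smul_apply, smul_eq_mul] at h1
      have h1' := pos_of_mul_pos_right (pos_of_mul_pos_right h1 hinv'.le) hinv'.le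
      rw [SurfCone.form_eq hdim hB hL' hL'] at h1'
      exact_mod_cast h1'
    · haveI := hZ
      have hI := invertible_ideal (k := k) hdim hZ hZd
      have h1 := hUdeg q hqU Z hZ hZd hI
      rw [hq, map_smul, LinearMap.smul_apply, smul_eq_mul] at h1
      have h1' := pos_of_mul_pos_right h1 hinv'.le
      rw [form_curve hdim hB hL' Z hI, neg_pos] at h1'
      have h2 := CurveOnSurf.pair_ideal (k := k) Z.subschemeι hL' (by rw [Scheme.IdealSheafData.ker_subschemeι]; exact hI)
      rw [Scheme.IdealSheafData.ker_subschemeι] at h2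
      have h3 : SurfPairing.pair k (PicF.cl (ClSub.idealMod Z)) (PicF.cl L') < 0 := by exact_mod_cast h1'
      linarith
  have hfin := A.add_mem (A.smul_mem hinv' (mem_cone (k := k) hL' hamp)) (show x - q ∈ A from hqA)
  rw [← hq, add_sub_cancel] at hfin
  exact hfin

end Cone

end Groth.Agent.SurfNefCone
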