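import Groth.Agent.Lib.RegEpiGen
import Mathlib.Algebra.Homology.ShortComplex.Abelian
import Mathlib.Algebra.Homology.HomologicalComplex
import Mathlib.LinearAlgebra.FiniteDimensional.Basic

/-!
Minimal sets of global sections and gluing short exact sequences into a resolution.
-/

set_option linter.style.haveILetI false
set_option linter.unusedSectionVars false
set_option backward.isDefEq.respectTransparency false
set_option maxHeartbeats 1000000

universe v u

open CategoryTheory CategoryTheory.Limits AlgebraicGeometry TopologicalSpace Opposite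

noncomputable section

namespace Groth.Agent.Syzygy

section Glue

variable {C : Type u} [Category.{v} C] [Abelian C]

/-- Gluing short exact sequences. -/
theorem exists_glue (X K : ℕ → C) (p : ∀ s, X s ⟶ K s) (j : ∀ s, K (s + 1) ⟶ X s)
    (w : ∀ s, j s ≫ p s = 0) (h : ∀ s, (ShortComplex.mk (j s) (p s) (w s)).ShortExact)
    {F : C} (e : K 0 ≅ F) :
    ∃ (D : ChainComplex C ℕ) (π : D.X 0 ⟶ F) (wπ : D.d 1 0 ≫ π = 0),
      (∀ i, D.X i = X i) ∧ (∀ i : ℕ, 1 ≤ i → IsZero (D.homology i)) ∧ Epi π ∧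
        (ShortComplex.mk (D.d 1 0) π wπ).Exact := by
  haveI : ∀ s, Epi (p s) := fun s => (h s).epi_g
  haveI : ∀ s, Mono (j s) := fun s => (h s).mono_f
  have sq : ∀ s, (p (s + 1 + 1) ≫ j (s + 1)) ≫ p (s + 1) ≫ j s = 0 := fun s => by
    rw [Category.assoc, reassoc_of% (w (s + 1)), zero_comp, comp_zero]
  let D : ChainComplex C ℕ := ChainComplex.of X (fun s => p (s + 1) ≫ j s) sq
  have hd : ∀ s, D.d (s + 1) s = p (s + 1) ≫ j s := fun s => ChainComplex.of_d X (fun s => p (s + 1) ≫ j s) s
  have w0 : D.d 1 0 ≫ p 0 ≫ e.hom = 0 := by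
    rw [hd 0, Category.assoc, reassoc_of% (w 0), zero_comp, comp_zero]
  haveI : Epi (p 0 ≫ e.hom) := epi_comp _ _
  refine ⟨D, p 0 ≫ e.hom, w0, fun i => rfl, fun i hi => ?_, inferInstance, ?_⟩
  · obtain ⟨s, rfl⟩ : ∃ s, i = s + 1 := ⟨i - 1, by omega⟩
    rw [← HomologicalComplex.exactAt_iff_isZero_homology,
      D.exactAt_iff' (s + 2) (s + 1) s (by simp) (by simp)]
    let S₂ : ShortComplex C := ShortComplex.mk (j (s + 1)) (p (s + 1) ≫ j s)
      (by rw [reassoc_of% (w (s + 1)), zero_comp])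
    let φ₁ : ShortComplex.mk (j (s + 1)) (p (s + 1)) (w (s + 1)) ⟶ S₂ :=
      { τ₁ := 𝟙 _
        τ₂ := 𝟙 _
        τ₃ := j s
        comm₁₂ := by simp [S₂]
        comm₂₃ := by simp [S₂] }
    haveI : Epi φ₁.τ₁ := inferInstanceAs (Epi (𝟙 _))
    haveI : IsIso φ₁.τ₂ := inferInstanceAs (IsIso (𝟙 _))
    haveI : Mono φ₁.τ₃ := inferInstanceAs (Mono (j s))
    have h2 : S₂.Exact := (ShortComplex.exact_iff_of_epi_of_isIso_of_mono φ₁).1 (h (s + 1)).exact
    let φ₂ : D.sc' (s + 2) (s + 1) s ⟶ S₂ :=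
      { τ₁ := p (s + 1 + 1)
        τ₂ := 𝟙 _
        τ₃ := 𝟙 _
        comm₁₂ := by
          show p (s + 1 + 1) ≫ j (s + 1) = D.d (s + 1 + 1) (s + 1) ≫ 𝟙 _
          rw [hd, Category.comp_id]
        comm₂₃ := by
          show 𝟙 _ ≫ p (s + 1) ≫ j s = D.d (s + 1) s ≫ 𝟙 _
          rw [hd, Category.id_comp, Category.comp_id] }
    haveI : Epi φ₂.τ₁ := inferInstanceAs (Epi (p (s + 1 + 1)))
    haveI : IsIso φ₂.τ₂ := inferInstanceAs (IsIso (𝟙 _))
    haveI : Mono φ₂.τ₃ := inferInstanceAs (Mono (𝟙 _))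
    exact (ShortComplex.exact_iff_of_epi_of_isIso_of_mono φ₂).2 h2
  · let φ : ShortComplex.mk (D.d 1 0) (p 0 ≫ e.hom) w0 ⟶
        ShortComplex.mk (j 0) (p 0 ≫ e.hom) (by rw [reassoc_of% (w 0), zero_comp]) :=
      { τ₁ := p 1
        τ₂ := 𝟙 _
        τ₃ := 𝟙 _
        comm₁₂ := by
          show p 1 ≫ j 0 = D.d 1 0 ≫ 𝟙 _
          rw [hd 0, Category.comp_id]
        comm₂₃ := by simp }
    haveI : Epi φ.τ₁ := inferInstanceAs (Epi (p 1))
    haveI : IsIso φ.τ₂ := inferInstanceAs (IsIso (𝟙 _))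
    haveI : Mono φ.τ₃ := inferInstanceAs (Mono (𝟙 _))
    refine (ShortComplex.exact_iff_of_epi_of_isIso_of_mono φ).2 ?_
    exact (ShortComplex.exact_iff_of_iso (ShortComplex.isoMk (S₁ := ShortComplex.mk (j 0) (p 0) (w 0))
      (S₂ := ShortComplex.mk (j 0) (p 0 ≫ e.hom) (by rw [reassoc_of% (w 0), zero_comp]))
      (Iso.refl _) (Iso.refl _) e (by simp) (by simp))).1 (h 0).exact

end Glue

section Basis

open Groth.Agent.RegEpi Groth.Agent.PnCoh.Finite

variable {k : Type u} [Field k] {X : Scheme.{u}} [X.Over (Spec (CommRingCat.of k))]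

theorem endo_eq_smul_id (h1 : Module.finrank k (Coh.HH X (Coh.structureModule X) 0) = 1)
    (χ : Coh.structureModule X ⟶ Coh.structureModule X) : ∃ c : k, χ = c • 𝟙 _ := by
  let e := LinearEquiv.ofBijective _ (evalOneLin_bijective k (Coh.structureModule X))
  have h2 : Module.finrank k (Coh.structureModule X ⟶ Coh.structureModule X) = 1 := e.finrank_eq.trans h1
  have hne : (𝟙 (Coh.structureModule X) : Coh.structureModule X ⟶ Coh.structureModule X) ≠ 0 := by
    intro h
    have : Subsingleton (Coh.structureModule X ⟶ Coh.structureModule X) :=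
      ⟨fun a b => by rw [← Category.id_comp a, ← Category.id_comp b, h, zero_comp, zero_comp]⟩
    rw [Module.finrank_zero_of_subsingleton] at h2
    exact zero_ne_one h2
  obtain ⟨c, hc⟩ := exists_smul_eq_of_finrank_eq_one h2 hne χ
  exact ⟨c, hc.symm⟩

/-- Finitely many sections with a bijection on `H⁰`. -/
theorem exists_sigma_hom_bijective (h1 : Module.finrank k (Coh.HH X (Coh.structureModule X) 0) = 1)
    (G : X.Modules) [Module.Finite k (Coh.HH X G 0)] :
    ∃ (b : ℕ) (ψ : (∐ fun _ : Fin b => Coh.structureModule X) ⟶ G),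
      Function.Bijective (Canon.HHlin k ψ 0) ∧ (Curv2.IsGloballyGenerated G → Epi ψ) ∧
        b = Module.finrank k (Coh.HH X G 0) := by
  classical
  let e := LinearEquiv.ofBijective _ (evalOneLin_bijective k G)
  haveI : Module.Finite k (Coh.structureModule X ⟶ G) := Module.Finite.equiv e.symm
  let v := Module.finBasis k (Coh.structureModule X ⟶ G)
  let b := Module.finrank k (Coh.structureModule X ⟶ G)
  let ψ : (∐ fun _ : Fin b => Coh.structureModule X) ⟶ G := Sigma.desc fun i => v i
  have hspan : ∀ φ : Coh.structureModule X ⟶ G, φ ∈ Submodule.span k (Set.range v) :=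
    fun φ => v.span_eq.symm ▸ Submodule.mem_top
  refine ⟨b, ψ, ⟨(injective_iff_map_eq_zero _).2 fun y hy => ?_, fun x => ?_⟩, fun hG => ?_, e.finrank_eq⟩
  · obtain ⟨χ, rfl⟩ := (evalOneLin_bijective k _).2 y
    have hχ : χ ≫ ψ = 0 := by
      apply (evalOneLin_bijective k G).1
      rw [map_zero]
      exact (PnDual.HHlin_comp χ ψ 0 _).symm.trans hy
    haveI := Abelian.hasFiniteBiproducts (C := X.Modules)
    let T := fun _ : Fin b => Coh.structureModule X
    choose c hc using fun a => endo_eq_smul_id h1 (χ ≫ (biproduct.isoCoproduct T).inv ≫ biproduct.π T a)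
    have hsum : χ = ∑ a, c a • Sigma.ι T a := by
      have ht : ∑ a, ((biproduct.isoCoproduct T).inv ≫ biproduct.π T a) ≫ Sigma.ι T a = 𝟙 _ := by
        have : ∀ a, Sigma.ι T a = biproduct.ι T a ≫ (biproduct.isoCoproduct T).hom := fun a => by simp
        calc ∑ a, ((biproduct.isoCoproduct T).inv ≫ biproduct.π T a) ≫ Sigma.ι T a
            = ∑ a, (biproduct.isoCoproduct T).inv ≫ (biproduct.π T a ≫ biproduct.ι T a) ≫
                (biproduct.isoCoproduct T).hom :=
              Finset.sum_congr rfl fun a _ => by rw [this a]; simp only [Category.assoc]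
          _ = 𝟙 _ := by rw [← Preadditive.comp_sum, ← Preadditive.sum_comp, biproduct.total,
              Category.id_comp, Iso.inv_hom_id]
      conv_lhs => rw [← Category.comp_id χ, ← ht, Preadditive.comp_sum]
      refine Finset.sum_congr rfl fun a _ => ?_
      rw [← Category.assoc, hc a, Linear.smul_comp, Category.id_comp]
    rw [hsum, Preadditive.sum_comp] at hχ
    simp only [Linear.smul_comp, ψ, T, Sigma.ι_desc] at hχ
    rw [hsum, Finset.sum_eq_zero fun a _ => by
      rw [Fintype.linearIndependent_iff.1 v.linearIndependent c hχ a, zero_smul], map_zero]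
  · obtain ⟨φ, rfl⟩ := (evalOneLin_bijective k G).2 x
    have hφ := hspan φ
    induction hφ using Submodule.span_induction with
    | mem y hy =>
      obtain ⟨a, rfl⟩ := hy
      refine ⟨Canon.HHlin k (Sigma.ι (fun _ : Fin b => Coh.structureModule X) a) 0 (oneClass X), ?_⟩
      rw [PnDual.HHlin_comp, Sigma.ι_desc]
      rfl
    | zero => exact ⟨0, by rw [map_zero, map_zero]⟩
    | add y z _ _ hy hz =>
      obtain ⟨y', hy'⟩ := hy
      obtain ⟨z', hz'⟩ := hz
      exact ⟨y' + z', by rw [map_add, map_add, hy', hz']⟩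
    | smul c y _ hy =>
      obtain ⟨y', hy'⟩ := hy
      exact ⟨c • y', by rw [map_smul, map_smul, hy']⟩
  · obtain ⟨ι, p, hp⟩ := hG
    haveI : Epi p := hp
    refine ⟨fun {W} a c hac => (cancel_epi p).1 (Sigma.hom_ext _ _ fun i => ?_)⟩
    suffices h : ∀ φ : Coh.structureModule X ⟶ G, φ ≫ a = φ ≫ c by
      exact (Category.assoc _ _ _).symm.trans ((h _).trans (Category.assoc _ _ _))
    intro φ
    have hφ := hspan φ
    induction hφ using Submodule.span_induction with
    | mem y hy =>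
      obtain ⟨j, rfl⟩ := hy
      rw [← Sigma.ι_desc (fun i => v i) j, Category.assoc, Category.assoc, hac]
    | zero => rw [zero_comp, zero_comp]
    | add y z _ _ hy hz => rw [Preadditive.add_comp, Preadditive.add_comp, hy, hz]
    | smul c' y _ hy => rw [Linear.smul_comp, Linear.smul_comp, hy]

end Basis

end Groth.Agent.Syzygy
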