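import Groth.Prelude.Def_ThetaGrp
import Groth.Agent.InvX.Pullback
import Groth.Agent.InvX.GenLocusPull
import Groth.Agent.Lib.CurveEnd

/-!
Morphisms of pairs (scheme, module) in the Grothendieck construction of modules: cartesian lifts and
multiplication by functions.
-/

set_option autoImplicit false
set_option linter.style.haveILetI false
set_option linter.unusedSectionVars false
set_option backward.isDefEq.respectTransparency false
set_option backward.isDefEq.respectTransparency.types false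

universe u

open CategoryTheory CategoryTheory.Limits AlgebraicGeometry Opposite
open Pseudofunctor Bicategory

noncomputable section

namespace Groth.Agent.ThetaCo

open Groth.Agent

/-- Pairs of a scheme and a module on it. -/
abbrev Obj := CoGrothendieck (ThetaGrp.modPF.{u})

variable {X Y Z : Obj.{u}}

/-- The module part of a morphism. -/
def fib (f : X ⟶ Y) : X.fiber ⟶ (Scheme.Modules.pullback f.base).obj Y.fiber := f.fiber

/-- The morphism with given parts. -/
def mk' (b : X.base ⟶ Y.base) (φ : X.fiber ⟶ (Scheme.Modules.pullback b).obj Y.fiber) : X ⟶ Y := ⟨b, φ⟩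

theorem mk'_base (b : X.base ⟶ Y.base) (φ : X.fiber ⟶ (Scheme.Modules.pullback b).obj Y.fiber) :
    (mk' b φ).base = b := rfl

theorem fib_mk' (b : X.base ⟶ Y.base) (φ : X.fiber ⟶ (Scheme.Modules.pullback b).obj Y.fiber) :
    fib (mk' b φ) = φ := rfl

theorem comp_fib (f : X ⟶ Y) (g : Y ⟶ Z) : fib (f ≫ g) =
    fib f ≫ (Scheme.Modules.pullback f.base).map (fib g) ≫
      (Scheme.Modules.pullbackComp f.base g.base).hom.app Z.fiber := rfl

theorem id_fib (X : Obj.{u}) :
    fib (𝟙 X) = (Scheme.Modules.pullbackId X.base).inv.app X.fiber := rfl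

theorem congr_app {S T : Scheme.{u}} {f : S ⟶ T} (M : T.Modules) :
    (Scheme.Modules.pullbackCongr (rfl : f = f)).hom.app M = 𝟙 _ := by
  simp [Scheme.Modules.pullbackCongr]

theorem base_congr {f g : X ⟶ Y} (h : f = g) : g.base = f.base := by rw [h]

theorem fib_congr {f g : X ⟶ Y} (h : f = g) :
    fib f = fib g ≫ (Scheme.Modules.pullbackCongr (base_congr h) :
      Scheme.Modules.pullback g.base ≅ Scheme.Modules.pullback f.base).hom.app Y.fiber := by
  subst h
  rw [congr_app, Category.comp_id]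

theorem ext' {f g : X ⟶ Y} (h : f.base = g.base)
    (h' : fib f = fib g ≫ (Scheme.Modules.pullbackCongr h.symm).hom.app Y.fiber) : f = g := by
  obtain ⟨fb, ff⟩ := f
  obtain ⟨gb, gf⟩ := g
  change fb = gb at h
  subst h
  have e : ff = gf := h'.trans (by rw [congr_app]; exact Category.comp_id _)
  rw [e]

/-- A morphism is invertible in the module. -/
def IsCart (f : X ⟶ Y) : Prop := IsIso (fib f)

theorem isCart_comp {f : X ⟶ Y} {g : Y ⟶ Z} (hf : IsCart f) (hg : IsCart g) : IsCart (f ≫ g) := by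
  unfold IsCart at hf hg ⊢
  rw [comp_fib]
  infer_instance

theorem isCart_id (X : Obj.{u}) : IsCart (𝟙 X) := by
  unfold IsCart
  rw [id_fib]
  infer_instance

theorem isCart_of_comp {f : X ⟶ Y} {g : Y ⟶ Z} (hg : IsCart g) (hfg : IsCart (f ≫ g)) : IsCart f := by
  unfold IsCart at hfg hg ⊢
  rw [comp_fib] at hfg
  exact IsIso.of_isIso_comp_right (fib f) ((Scheme.Modules.pullback f.base).map (fib g) ≫
    (Scheme.Modules.pullbackComp f.base g.base).hom.app Z.fiber)

theorem isCart_congr {f g : X ⟶ Y} (h : f = g) (hg : IsCart g) : IsCart f := h ▸ hg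

/-- Lifting along a cartesian morphism. -/
theorem existsUnique_lift {g : Y ⟶ Z} (hg : IsCart g) (h : X ⟶ Z) (m : X.base ⟶ Y.base) (hm : m ≫ g.base = h.base) :
    ∃! f : X ⟶ Y, f.base = m ∧ f ≫ g = h := by
  haveI : IsIso (fib g) := hg
  let e := (Scheme.Modules.pullback m).map (fib g) ≫ (Scheme.Modules.pullbackComp m g.base).hom.app Z.fiber
  let φ : X.fiber ⟶ (Scheme.Modules.pullback m).obj Y.fiber :=
    (fib h ≫ (Scheme.Modules.pullbackCongr hm.symm).hom.app Z.fiber) ≫ inv e
  refine ⟨mk' m φ, ⟨rfl, ?_⟩, ?_⟩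
  · refine ext' hm ?_
    rw [comp_fib, fib_mk']
    show φ ≫ e = _
    rw [Category.assoc, IsIso.inv_hom_id, Category.comp_id]
  · rintro f ⟨hb, hf⟩
    obtain ⟨b, ff⟩ := f
    change b = m at hb
    subst hb
    have e1 : fib (⟨b, ff⟩ : X ⟶ Y) ≫ e = fib h ≫ (Scheme.Modules.pullbackCongr hm.symm).hom.app Z.fiber :=
      fib_congr hf
    rw [← IsIso.eq_comp_inv] at e1
    refine ext' rfl ?_
    rw [congr_app, Category.comp_id, fib_mk']
    exact e1

theorem cancel {f f' : X ⟶ Y} {g : Y ⟶ Z} (hg : IsCart g) (hb : f.base = f'.base) (h : f ≫ g = f' ≫ g) : f = f' :=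
  (existsUnique_lift hg (f' ≫ g) f'.base rfl).unique ⟨hb, h⟩ ⟨rfl, rfl⟩

theorem isIso_of_isCart (f : X ⟶ Y) (hf : IsCart f) [IsIso f.base] : IsIso f := by
  obtain ⟨g, ⟨hgb, hg⟩, -⟩ := existsUnique_lift hf (𝟙 Y) (inv f.base) (IsIso.inv_hom_id _)
  refine ⟨g, cancel hf ?_ ?_, hg⟩
  · show f.base ≫ g.base = 𝟙 _
    rw [hgb, IsIso.hom_inv_id]
  · rw [Category.assoc, hg, Category.comp_id, Category.id_comp]

/-- The part after `fib f` in a composite. -/
def tail (f : X ⟶ Y) (g : Y ⟶ Z) :
    (Scheme.Modules.pullback f.base).obj Y.fiber ⟶ (Scheme.Modules.pullback (f.base ≫ g.base)).obj Z.fiber :=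
  (Scheme.Modules.pullback f.base).map (fib g) ≫ (Scheme.Modules.pullbackComp f.base g.base).hom.app Z.fiber

theorem isIso_comp_inv (e : X ≅ Y) : IsIso (fib e.hom ≫ tail e.hom e.inv) := by
  have h : IsCart (e.hom ≫ e.inv) := isCart_congr e.hom_inv_id (isCart_id X)
  unfold IsCart at h
  rw [comp_fib] at h
  exact h

theorem isSplitMono_fib (e : X ≅ Y) : IsSplitMono (fib e.hom) := by
  have h := isIso_comp_inv e
  exact IsSplitMono.mk' ⟨tail e.hom e.inv ≫ inv (fib e.hom ≫ tail e.hom e.inv), by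
    rw [← Category.assoc]; exact IsIso.hom_inv_id _⟩

theorem isCart_hom (e : X ≅ Y) : IsCart e.hom := by
  have h := isIso_comp_inv e
  haveI : IsSplitMono (fib e.inv) := isSplitMono_fib e.symm
  haveI : IsSplitEpi (tail e.hom e.inv) :=
    IsSplitEpi.mk' ⟨inv (fib e.hom ≫ tail e.hom e.inv) ≫ fib e.hom, by
      rw [Category.assoc]; exact IsIso.inv_hom_id _⟩
  haveI : Mono (tail e.hom e.inv) := by
    unfold tail
    infer_instance
  haveI : IsIso (tail e.hom e.inv) := isIso_of_mono_of_isSplitEpi _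
  exact IsIso.of_isIso_comp_right (fib e.hom) (tail e.hom e.inv)

/-- Multiplication by a function of the source. -/
def smul (c : Γ(X.base, ⊤)) (f : X ⟶ Y) : X ⟶ Y :=
  mk' f.base (CurveEnd.smulMod X.fiber c ≫ fib f)

theorem smul_base (c : Γ(X.base, ⊤)) (f : X ⟶ Y) : (smul c f).base = f.base := rfl

theorem fib_smul (c : Γ(X.base, ⊤)) (f : X ⟶ Y) : fib (smul c f) = CurveEnd.smulMod X.fiber c ≫ fib f := rfl

theorem smul_comp (c : Γ(X.base, ⊤)) (f : X ⟶ Y) (g : Y ⟶ Z) : smul c f ≫ g = smul c (f ≫ g) := by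
  refine ext' rfl ?_
  rw [congr_app, Category.comp_id, comp_fib, fib_smul, fib_smul, comp_fib, Category.assoc]
  rfl

theorem smul_smul (c d : Γ(X.base, ⊤)) (f : X ⟶ Y) : smul c (smul d f) = smul (d * c) f := by
  refine ext' rfl ?_
  rw [congr_app, Category.comp_id, fib_smul, fib_smul, fib_smul, ← Category.assoc,
    show CurveEnd.smulMod X.fiber (d * c) = CurveEnd.smulMod X.fiber c ≫ CurveEnd.smulMod X.fiber d from
      (CurveEnd.scalar X.fiber).map_mul d c]

theorem one_smul (f : X ⟶ Y) : smul 1 f = f := by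
  refine ext' rfl ?_
  rw [congr_app, Category.comp_id, fib_smul,
    show CurveEnd.smulMod X.fiber 1 = 𝟙 X.fiber from (CurveEnd.scalar X.fiber).map_one, Category.id_comp]

/-- Multiplication commutes with the inverse image of an invertible module. -/
theorem pullback_map_smulMod {S T : Scheme.{u}} (r : S ⟶ T) {M : T.Modules} (hM : PicF.IsInvertible M)
    (c : Γ(T, ⊤)) : (Scheme.Modules.pullback r).map (CurveEnd.smulMod M c) =
      CurveEnd.smulMod ((Scheme.Modules.pullback r).obj M) (r.appTop c) := by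
  choose U hxU e he using InvX.exists_frame hM
  refine InvX.hom_ext_of_frames (fun x : T => r ⁻¹ᵁ U x) (fun y => ⟨r y, hxU (r y)⟩)
    (fun x => InvX.pullElt r (e x)) (fun x => InvX.isFrame_pullElt r (he x)) fun x => ?_
  rw [InvX.map_pullElt]
  show InvX.pullElt r ((T.presheaf.map (homOfLE le_top).op c : Γ(T, U x)) • e x) =
    (S.presheaf.map (homOfLE le_top).op (r.appTop c) : Γ(S, r ⁻¹ᵁ U x)) • InvX.pullElt r (e x)
  rw [InvX.pullElt_smul]
  congr 1
  exact congr(($(Scheme.Hom.naturality r (homOfLE (le_top : U x ≤ ⊤)).op)) c)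

/-- Endomorphisms commute with multiplication. -/
theorem smulMod_natural {S : Scheme.{u}} {M N : S.Modules} (φ : M ⟶ N) (c : Γ(S, ⊤)) :
    φ ≫ CurveEnd.smulMod N c = CurveEnd.smulMod M c ≫ φ := by
  apply Scheme.Modules.hom_ext
  intro W
  ext x
  exact (Scheme.Modules.Hom.app_smul φ _ x).symm

/-- Multiplication by a function of the target, transported. -/
theorem comp_smul (f : X ⟶ Y) (c : Γ(Y.base, ⊤)) (g : Y ⟶ Z) (hY : PicF.IsInvertible Y.fiber) :
    f ≫ smul c g = smul (f.base.appTop c) (f ≫ g) := by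
  refine ext' rfl ?_
  rw [congr_app, Category.comp_id, comp_fib, fib_smul, fib_smul, comp_fib, Functor.map_comp,
    pullback_map_smulMod f.base hY, Category.assoc, ← Category.assoc (fib f), smulMod_natural, Category.assoc]
  rfl

end Groth.Agent.ThetaCo
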