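import Groth.Agent.Lib.ThetaCo
import Groth.Agent.Lib.AVKerFam
import Groth.Agent.DivX.MeroMod
import Groth.Agent.PinchPO7.HomGlue

/-!
Cartesian morphisms over flat surjective quasi-compact maps are effective epimorphisms among pairs of a scheme
and an invertible module.
-/

set_option autoImplicit false
set_option linter.style.haveILetI false
set_option linter.unusedSectionVars false
set_option backward.isDefEq.respectTransparency false
set_option backward.isDefEq.respectTransparency.types false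
set_option maxHeartbeats 400000

universe u

open CategoryTheory CategoryTheory.Limits AlgebraicGeometry Opposite
open Pseudofunctor Bicategory

noncomputable section

namespace Groth.Agent.ThetaCo

open Groth.Agent Groth.Agent.AModX Groth.Agent.InvX

variable {X Y Z : Obj.{u}}

/-- The inverse image of a section along a cartesian morphism. -/
def pl (f : X ⟶ Y) (hf : IsCart f) {U : Y.base.Opens} (x : Γ(Y.fiber, U)) : Γ(X.fiber, f.base ⁻¹ᵁ U) :=
  haveI : IsIso (fib f) := hf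
  (inv (fib f)).app _ (pullElt f.base x)

theorem fib_pl (f : X ⟶ Y) (hf : IsCart f) {U : Y.base.Opens} (x : Γ(Y.fiber, U)) :
    (fib f).app _ (pl f hf x) = pullElt f.base x := by
  haveI : IsIso (fib f) := hf
  exact congrArg (fun φ => Scheme.Modules.Hom.app φ (f.base ⁻¹ᵁ U) (pullElt f.base x)) (IsIso.inv_hom_id (fib f))

theorem fib_injective (f : X ⟶ Y) (hf : IsCart f) (W : X.base.Opens) : Function.Injective ((fib f).app W) := by
  haveI : IsIso (fib f) := hf
  exact ((ConcreteCategory.isIso_iff_bijective _).1 (Scheme.Modules.Hom.isIso_iff_isIso_app.1 inferInstance W)).1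

theorem pl_res (f : X ⟶ Y) (hf : IsCart f) {U V : Y.base.Opens} (h : V ≤ U) (x : Γ(Y.fiber, U)) :
    AModX.res X.fiber (f.base.preimage_mono h) (pl f hf x) = pl f hf (AModX.res _ h x) := by
  refine fib_injective f hf _ ?_
  rw [AModX.app_res, fib_pl, fib_pl, InvX.res_pullElt]

theorem pl_smul (f : X ⟶ Y) (hf : IsCart f) {U : Y.base.Opens} (c : Γ(Y.base, U)) (x : Γ(Y.fiber, U)) :
    pl f hf (c • x) = f.base.app U c • pl f hf x := by
  refine fib_injective f hf _ ?_
  rw [Scheme.Modules.Hom.app_smul, fib_pl, fib_pl, InvX.pullElt_smul]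

theorem isFrame_pl (f : X ⟶ Y) (hf : IsCart f) {U : Y.base.Opens} {x : Γ(Y.fiber, U)} (hx : IsFrame x) :
    IsFrame (pl f hf x) := by
  haveI : IsIso (fib f) := hf
  exact (isFrame_pullElt f.base hx).map_iso (asIso (fib f)).symm

theorem pl_comp (f : X ⟶ Y) (g : Y ⟶ Z) (hf : IsCart f) (hg : IsCart g) {U : Z.base.Opens} (x : Γ(Z.fiber, U)) :
    pl (f ≫ g) (isCart_comp hf hg) x = pl f hf (pl g hg x) := by
  refine fib_injective (f ≫ g) (isCart_comp hf hg) _ ?_
  rw [fib_pl]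
  show _ = ((Scheme.Modules.pullbackComp f.base g.base).hom.app Z.fiber).app (f.base ⁻¹ᵁ (g.base ⁻¹ᵁ U))
    (((Scheme.Modules.pullback f.base).map (fib g)).app (f.base ⁻¹ᵁ (g.base ⁻¹ᵁ U))
      ((fib f).app (f.base ⁻¹ᵁ (g.base ⁻¹ᵁ U)) (pl f hf (pl g hg x))))
  rw [fib_pl, InvX.map_pullElt, fib_pl]
  exact (PinchPO7.comp_unitSec f.base g.base Z.fiber x).symm

theorem pl_congr {f g : X ⟶ Y} (h : f = g) (hf : IsCart f) (hg : IsCart g) {U : Y.base.Opens} (x : Γ(Y.fiber, U)) :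
    pl f hf x = AModX.res X.fiber (show f.base ⁻¹ᵁ U ≤ g.base ⁻¹ᵁ U by rw [h]) (pl g hg x) := by
  subst h
  exact (AModX.res_self _).symm

theorem res_pl_congr {f g : X ⟶ Y} (h : f = g) (hf : IsCart f) (hg : IsCart g) {U : Y.base.Opens}
    (x : Γ(Y.fiber, U)) {W : X.base.Opens} (h₁ : W ≤ f.base ⁻¹ᵁ U) (h₂ : W ≤ g.base ⁻¹ᵁ U) :
    AModX.res X.fiber h₁ (pl f hf x) = AModX.res X.fiber h₂ (pl g hg x) := by
  subst h
  rfl

theorem ext_pl {ι : Type u} {f g : X ⟶ Y} (hb : f.base = g.base) (hf : IsCart f) (hg : IsCart g)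
    (U : ι → Y.base.Opens) (e : ∀ a, Γ(Y.fiber, U a)) (he : ∀ a, IsFrame (e a)) (W : ι → X.base.Opens)
    (hcov : ∀ x, ∃ a, x ∈ W a) (h₁ : ∀ a, W a ≤ f.base ⁻¹ᵁ U a) (h₂ : ∀ a, W a ≤ g.base ⁻¹ᵁ U a)
    (h : ∀ a, AModX.res X.fiber (h₁ a) (pl f hf (e a)) = AModX.res X.fiber (h₂ a) (pl g hg (e a))) :
    f = g := by
  obtain ⟨b, ff⟩ := f
  obtain ⟨c, gf⟩ := g
  change b = c at hb
  subst hb
  haveI i1 : IsIso ff := hf
  haveI i2 : IsIso gf := hg
  have key : inv ff = inv gf :=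
    InvX.hom_ext_of_frames W hcov (fun a => AModX.res _ (h₁ a) (pullElt b (e a)))
      (fun a => (isFrame_pullElt b (he a)).res _) fun a => by
        rw [AModX.app_res, AModX.app_res]
        exact h a
  have : ff = gf := IsIso.inv_eq_inv.1 key
  rw [this]

theorem appLE_congr {S T : Scheme.{u}} {f g : S ⟶ T} (h : f = g) {U : T.Opens} {W : S.Opens} (h₁ : W ≤ f ⁻¹ᵁ U)
    (h₂ : W ≤ g ⁻¹ᵁ U) (c : Γ(T, U)) : resR h₁ (f.app U c) = resR h₂ (g.app U c) := by
  subst h
  rfl

/-- Descent of a morphism along a cartesian morphism over a faithfully flat quasi-compact map. -/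
theorem exists_descend {q : X ⟶ Y} {ψ : X ⟶ Z} (hq : IsCart q) (hψ : IsCart ψ) [Flat q.base] [Surjective q.base]
    [QuasiCompact q.base] (hY : PicF.IsInvertible Y.fiber) (hZ : PicF.IsInvertible Z.fiber) (h : Y.base ⟶ Z.base)
    (hb : ψ.base = q.base ≫ h)
    (hab : ∀ {T : Obj.{u}} (a b : T ⟶ X), IsCart a → IsCart b → a ≫ q = b ≫ q → a ≫ ψ = b ≫ ψ) :
    ∃ β : Y ⟶ Z, β.base = h ∧ IsCart β ∧ q ≫ β = ψ := by
  choose V' hV' eZ heZ using fun y : Y.base => InvX.exists_frame hZ (h y)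
  choose V₀ hV₀ eY₀ heY₀ using InvX.exists_frame hY
  let V : Y.base → Y.base.Opens := fun y => V₀ y ⊓ h ⁻¹ᵁ V' y
  have hV : ∀ y, y ∈ V y := fun y => ⟨hV₀ y, hV' y⟩
  let eY : ∀ y, Γ(Y.fiber, V y) := fun y => AModX.res _ inf_le_left (eY₀ y)
  have heY : ∀ y, IsFrame (eY y) := fun y => (heY₀ y).res inf_le_left
  have hle : ∀ y, q.base ⁻¹ᵁ V y ≤ ψ.base ⁻¹ᵁ V' y := fun y => by
    rw [hb, Scheme.Hom.comp_preimage]
    exact q.base.preimage_mono inf_le_right
  let fX : ∀ y, Γ(X.fiber, q.base ⁻¹ᵁ V y) := fun y => pl q hq (eY y)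
  let gX : ∀ y, Γ(X.fiber, q.base ⁻¹ᵁ V y) := fun y => AModX.res _ (hle y) (pl ψ hψ (eZ y))
  have hfX : ∀ y, IsFrame (fX y) := fun y => isFrame_pl q hq (heY y)
  have hgX : ∀ y, IsFrame (gX y) := fun y => (isFrame_pl ψ hψ (heZ y)).res _
  have hr : ∀ y, ∃ r : Γ(X.base, q.base ⁻¹ᵁ V y), fX y = r • gX y := fun y => by
    simpa only [AModX.res_self] using (hgX y).exists_coord le_rfl (fX y)
  choose r hr using hr
  -- the coordinate is invariant
  have hinv : ∀ y (T : Scheme.{u}) (u v : T ⟶ X.base) (huv : u ≫ q.base = v ≫ q.base),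
      AVKerCl.pb q.base (u ≫ q.base) huv.symm (V y) (r y) = AVKerCl.pb q.base (u ≫ q.base) (u := u) rfl (V y) (r y) := by
    intro y T u v huv
    let T' : Obj.{u} := ⟨T, (Scheme.Modules.pullback u).obj X.fiber⟩
    let a : T' ⟶ X := mk' u (𝟙 _)
    have ha : IsCart a := by
      unfold IsCart
      show IsIso (𝟙 _)
      infer_instance
    obtain ⟨b, ⟨hbb, hbq⟩, -⟩ := existsUnique_lift hq (a ≫ q) v huv.symm
    have hbc : IsCart b := isCart_of_comp hq (isCart_congr hbq (isCart_comp ha hq))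
    have hψab : a ≫ ψ = b ≫ ψ := hab a b ha hbc hbq.symm
    let O : T.Opens := (u ≫ q.base) ⁻¹ᵁ V y
    have hOv : O ≤ b.base ⁻¹ᵁ (q.base ⁻¹ᵁ V y) := by
      rw [hbb, ← Scheme.Hom.comp_preimage, ← huv]
    have e1 : AModX.res T'.fiber hOv (pl b hbc (fX y)) = pl a ha (fX y) := by
      show AModX.res T'.fiber hOv (pl b hbc (pl q hq (eY y))) = pl a ha (pl q hq (eY y))
      rw [← pl_comp, ← pl_comp]
      exact (res_pl_congr hbq _ _ _ hOv (le_refl O)).trans (AModX.res_self _)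
    have e2 : AModX.res T'.fiber hOv (pl b hbc (gX y)) = pl a ha (gX y) := by
      show AModX.res T'.fiber hOv (pl b hbc (AModX.res _ (hle y) (pl ψ hψ (eZ y)))) =
        pl a ha (AModX.res _ (hle y) (pl ψ hψ (eZ y)))
      rw [← pl_res, ← pl_res, ← pl_comp, ← pl_comp]
      exact (AModX.res_res _ _ _).trans (res_pl_congr hψab.symm _ _ _ _ _)
    rw [hr y, pl_smul, pl_smul, AModX.res_smul, e2] at e1
    have e3 := (isFrame_pl a ha (hgX y)).coord_unique (le_refl (a.base ⁻¹ᵁ (q.base ⁻¹ᵁ V y))) (by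
      simpa only [AModX.res_self] using e1)
    refine Eq.trans ?_ (e3.trans ?_)
    · show resR _ (v.app _ (r y)) = resR hOv (b.base.app _ (r y))
      exact appLE_congr hbb.symm _ _ _
    · show (u.app _).hom (r y) = (u.appLE _ _ _).hom (r y)
      rw [u.appLE_eq_app]
  have hg : ∀ y, ∃ g : Γ(Y.base, V y), q.base.app (V y) g = r y := fun y =>
    AVKerFam.exists_app_eq (V y) (r y) fun T u v huv => hinv y T u v huv
  choose g hg using hg
  have hgu : ∀ y, IsUnit (g y) := fun y => by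
    obtain ⟨s, hs⟩ := (hfX y).exists_coord le_rfl (gX y)
    rw [AModX.res_self] at hs
    have h1 : r y * s = 1 := (hfX y).coord_unique le_rfl (by
      rw [AModX.res_self, mul_smul, MulAction.one_smul, ← hs, ← hr])
    have hinv' : ∀ (T : Scheme.{u}) (u v : T ⟶ X.base) (huv : u ≫ q.base = v ≫ q.base),
        AVKerCl.pb q.base (u ≫ q.base) huv.symm (V y) s = AVKerCl.pb q.base (u ≫ q.base) (u := u) rfl (V y) s := by
      intro T u v huv
      refine ((IsUnit.of_mul_eq_one s h1).map (AVKerCl.pb q.base (u ≫ q.base) huv.symm (V y))).mul_left_cancel ?_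
      conv_rhs => rw [hinv y T u v huv, ← map_mul]
      rw [← map_mul, h1, map_one, map_one]
    obtain ⟨g', hg'⟩ := AVKerFam.exists_app_eq (V y) s hinv'
    exact IsUnit.of_mul_eq_one g' (AVKerFam.app_injective (V y) (by rw [map_mul, hg, hg', h1, map_one]))
  -- the morphism
  let n : ∀ y, Γ((Scheme.Modules.pullback h).obj Z.fiber, V y) := fun y =>
    g y • AModX.res _ (inf_le_right : V y ≤ h ⁻¹ᵁ V' y) (pullElt h (eZ y))
  have hn : ∀ y, IsFrame (n y) := fun y => ((isFrame_pullElt h (heZ y)).res _).isUnit_smul (hgu y)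
  let Y' : Obj.{u} := ⟨Y.base, (Scheme.Modules.pullback h).obj Z.fiber⟩
  let cZ : Y' ⟶ Z := mk' h (𝟙 _)
  have hcZ : IsCart cZ := by
    unfold IsCart
    show IsIso (𝟙 _)
    infer_instance
  obtain ⟨q', ⟨hq'b, hq'Z⟩, -⟩ := existsUnique_lift hcZ ψ q.base hb.symm
  have hq' : IsCart q' := isCart_of_comp hcZ (isCart_congr hq'Z hψ)
  have hq'n : ∀ y, AModX.res X.fiber (show q.base ⁻¹ᵁ V y ≤ q'.base ⁻¹ᵁ V y by rw [hq'b]) (pl q' hq' (n y)) = fX y := by
    intro y
    have e : pullElt h (eZ y) = pl cZ hcZ (eZ y) := (fib_pl cZ hcZ (eZ y)).symm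
    simp only [n, e]
    rw [pl_smul, ← pl_res, ← pl_comp, AModX.res_smul, hr y]
    refine congrArg₂ (· • ·) ?_ ((AModX.res_res _ _ _).trans
      ((res_pl_congr hq'Z _ hψ _ _ (hle y))))
    rw [← hg y]
    exact (appLE_congr hq'b _ le_rfl _).trans (AModX.resR_self _)
  have hc : ∀ (a b : Y.base) (W : Y.base.Opens) (ha : W ≤ V a) (hb' : W ≤ V b) (c : Γ(Y.base, W)),
      AModX.res Y.fiber hb' (eY b) = c • AModX.res Y.fiber ha (eY a) →
        AModX.res _ hb' (n b) = c • AModX.res _ ha (n a) := by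
    intro a b W ha hb' c hc
    obtain ⟨d, hd⟩ := ((hn a).res ha).exists_coord le_rfl (AModX.res _ hb' (n b))
    rw [AModX.res_self] at hd
    rw [hd]
    congr 1
    refine AVKerFam.app_injective (π := q.base) W (((hfX a).res (q.base.preimage_mono ha)).coord_unique le_rfl ?_)
    rw [AModX.res_self]
    have hW : q.base ⁻¹ᵁ W ≤ q'.base ⁻¹ᵁ W := by rw [hq'b]
    have e1 := congrArg (fun t => AModX.res X.fiber hW (pl q' hq' t)) hd
    have hd' : pl q' hq' (d • AModX.res _ ha (n a)) = q'.base.app W d • pl q' hq' (AModX.res _ ha (n a)) :=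
      pl_smul q' hq' d _
    have e1' := e1.trans ((congrArg (AModX.res X.fiber hW) hd').trans (AModX.res_smul hW _ _))
    have ha1 : AModX.res X.fiber hW (pl q' hq' (AModX.res _ ha (n a))) =
        AModX.res X.fiber (q.base.preimage_mono ha) (fX a) := by
      rw [← hq'n a, ← pl_res]
      exact (AModX.res_res _ _ _).trans (AModX.res_res _ _ _).symm
    have hb1 : AModX.res X.fiber hW (pl q' hq' (AModX.res _ hb' (n b))) =
        AModX.res X.fiber (q.base.preimage_mono hb') (fX b) := by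
      rw [← hq'n b, ← pl_res]
      exact (AModX.res_res _ _ _).trans (AModX.res_res _ _ _).symm
    have e2 := congrArg (pl q hq) hc
    have e2' : AModX.res X.fiber (q.base.preimage_mono hb') (fX b) =
        q.base.app W c • AModX.res X.fiber (q.base.preimage_mono ha) (fX a) :=
      (pl_res q hq hb' (eY b)).trans (e2.trans ((pl_smul q hq c _).trans
        (congrArg _ (pl_res q hq ha (eY a)).symm)))
    rw [e2'] at hb1
    have e1'' := (hb1.symm.trans e1').trans (congrArg _ ha1)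
    refine Eq.trans ?_ e1''.symm
    congr 1
    exact ((appLE_congr hq'b hW le_rfl d).trans (AModX.resR_self _)).symm
  let φ : Y.fiber ⟶ (Scheme.Modules.pullback h).obj Z.fiber := InvX.ofFrames (fun y => ⟨y, hV y⟩) heY hc
  haveI : IsIso φ := DivX.isIso_of_frames φ fun y => ⟨V y, hV y, eY y, heY y, by
    rw [InvX.ofFrames_app]; exact hn y⟩
  let β : Y ⟶ Z := mk' h φ
  have hβ : IsCart β := inferInstanceAs (IsIso φ)
  refine ⟨β, rfl, hβ, ?_⟩
  refine ext_pl hb.symm (isCart_comp hq hβ) hψ V' eZ heZ (fun y => q.base ⁻¹ᵁ V y) (fun x => ⟨q.base x, hV _⟩)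
    (fun y => q.base.preimage_mono inf_le_right) hle fun y => ?_
  have h1 : eY y = g y • AModX.res Y.fiber (inf_le_right : V y ≤ h ⁻¹ᵁ V' y) (pl β hβ (eZ y)) := by
    refine fib_injective β hβ _ ?_
    rw [Scheme.Modules.Hom.app_smul]
    refine Eq.trans (b := n y) (InvX.ofFrames_app (fun y => ⟨y, hV y⟩) heY hc y) ?_
    refine congrArg (g y • ·) ?_
    rw [AModX.app_res]
    exact congrArg (AModX.res _ (inf_le_right : V y ≤ h ⁻¹ᵁ V' y)) (fib_pl β hβ (eZ y)).symm
  have h2 : fX y = r y • AModX.res X.fiber (q.base.preimage_mono (inf_le_right : V y ≤ h ⁻¹ᵁ V' y)) (pl q hq (pl β hβ (eZ y))) := by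
    show pl q hq (eY y) = _
    rw [h1, pl_smul, hg, pl_res]
  have h3 := (hr y).symm.trans h2
  have hru : IsUnit (r y) := hg y ▸ (hgu y).map (q.base.app (V y)).hom
  obtain ⟨w, hw⟩ := hru
  rw [← hw] at h3
  have h4 := congrArg (fun t => (↑w⁻¹ : Γ(X.base, q.base ⁻¹ᵁ V y)) • t) h3
  simp only [← mul_smul, Units.inv_mul, MulAction.one_smul] at h4
  rw [pl_comp]
  exact h4.symm

end Groth.Agent.ThetaCo
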