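import Groth.Agent.Lib.ThetaDescend

/-!
Cartesian morphisms of invertible modules glue along open coverings.
-/

set_option autoImplicit false
set_option linter.style.haveILetI false
set_option linter.unusedSectionVars false
set_option backward.isDefEq.respectTransparency false
set_option backward.isDefEq.respectTransparency.types false
set_option maxHeartbeats 1200000

universe u

open CategoryTheory CategoryTheory.Limits AlgebraicGeometry Opposite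
open Pseudofunctor Bicategory

noncomputable section

namespace Groth.Agent.ThetaCo

open Groth.Agent Groth.Agent.AModX Groth.Agent.InvX

variable {X Y Z : Obj.{u}}

theorem app_bijective {S T : Scheme.{u}} (f : S ⟶ T) [IsOpenImmersion f] {U : T.Opens} (hU : U ≤ f.opensRange) :
    Function.Bijective (f.app U) := by
  haveI := f.isIso_app U hU
  exact ConcreteCategory.bijective_of_isIso _

theorem pl_injective (a : X ⟶ Y) (ha : IsCart a) [IsOpenImmersion a.base] {U : Y.base.Opens}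
    (hU : U ≤ a.base.opensRange) {e : Γ(Y.fiber, U)} (he : IsFrame e) :
    Function.Injective (fun x : Γ(Y.fiber, U) => pl a ha x) := by
  intro x y hxy
  obtain ⟨c, hc⟩ := he.exists_coord le_rfl x
  obtain ⟨d, hd⟩ := he.exists_coord le_rfl y
  rw [AModX.res_self] at hc hd
  subst hc hd
  have h2 : a.base.app U c • pl a ha e = a.base.app U d • pl a ha e :=
    (pl_smul a ha c e).symm.trans (hxy.trans (pl_smul a ha d e))
  have := (isFrame_pl a ha he).coord_unique le_rfl (by simpa only [AModX.res_self] using h2)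
  rw [(app_bijective a.base hU).1 this]

/-- The part of a pair over an open. -/
abbrev part (Y : Obj.{u}) (W : Y.base.Opens) : Obj.{u} := ⟨W.toScheme, (Scheme.Modules.pullback W.ι).obj Y.fiber⟩

/-- Its inclusion. -/
abbrev partHom (Y : Obj.{u}) (W : Y.base.Opens) : part Y W ⟶ Y := mk' W.ι (𝟙 _)

theorem isCart_partHom (Y : Obj.{u}) (W : Y.base.Opens) : IsCart (partHom Y W) := by
  unfold IsCart
  show IsIso (𝟙 _)
  infer_instance

theorem exists_factor {q : X ⟶ Y} (hq : IsCart q) [IsOpenImmersion q.base] {T : Obj.{u}} {a : T ⟶ Y} (ha : IsCart a)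
    (h : ∀ t, a.base t ∈ Set.range q.base) : ∃ b : T ⟶ X, IsCart b ∧ b ≫ q = a := by
  obtain ⟨b, ⟨-, hb⟩, -⟩ := existsUnique_lift hq a
    (IsOpenImmersion.lift q.base a.base (by rintro _ ⟨t, rfl⟩; exact h t)) (IsOpenImmersion.lift_fac _ _ _)
  exact ⟨b, isCart_of_comp hq (isCart_congr hb ha), hb⟩

theorem exists_coord_chart (q : X ⟶ Y) (hq : IsCart q) [IsOpenImmersion q.base] (ψ : X ⟶ Z) (hψ : IsCart ψ)
    {V : Y.base.Opens} (hV : V ≤ q.base.opensRange) {V' : Z.base.Opens} (hle : q.base ⁻¹ᵁ V ≤ ψ.base ⁻¹ᵁ V')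
    {eY : Γ(Y.fiber, V)} (heY : IsFrame eY) {eZ : Γ(Z.fiber, V')} (heZ : IsFrame eZ) :
    ∃ g : Γ(Y.base, V), IsUnit g ∧
      pl q hq eY = q.base.app V g • AModX.res X.fiber hle (pl ψ hψ eZ) := by
  have hfX := isFrame_pl q hq heY
  have hgX := (isFrame_pl ψ hψ heZ).res hle
  obtain ⟨r, hr⟩ := hgX.exists_coord le_rfl (pl q hq eY)
  obtain ⟨s, hs⟩ := hfX.exists_coord le_rfl (AModX.res X.fiber hle (pl ψ hψ eZ))
  rw [AModX.res_self] at hr hs
  have h1 : r * s = 1 := hfX.coord_unique le_rfl (by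
    rw [AModX.res_self, mul_smul, MulAction.one_smul, ← hs, ← hr])
  obtain ⟨g, hg⟩ := (app_bijective q.base hV).2 r
  obtain ⟨g', hg'⟩ := (app_bijective q.base hV).2 s
  exact ⟨g, IsUnit.of_mul_eq_one g' ((app_bijective q.base hV).1 (by
    rw [map_mul, hg, hg', h1, map_one])), by rw [hg]; exact hr⟩

/-- The inverse image of the target's pair. -/
abbrev back (Z : Obj.{u}) {S : Scheme.{u}} (h : S ⟶ Z.base) : Obj.{u} :=
  ⟨S, (Scheme.Modules.pullback h).obj Z.fiber⟩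

/-- Its map to the target. -/
abbrev backHom (Z : Obj.{u}) {S : Scheme.{u}} (h : S ⟶ Z.base) : back Z h ⟶ Z := mk' h (𝟙 _)

theorem isCart_backHom (Z : Obj.{u}) {S : Scheme.{u}} (h : S ⟶ Z.base) : IsCart (backHom Z h) := by
  unfold IsCart
  show IsIso (𝟙 _)
  infer_instance

theorem res_pl_res (f : X ⟶ Y) (hf : IsCart f) {U V : Y.base.Opens} (hVU : V ≤ U) (x : Γ(Y.fiber, U))
    {O : X.base.Opens} (hO : O ≤ f.base ⁻¹ᵁ V) :
    AModX.res X.fiber hO (pl f hf (AModX.res _ hVU x)) =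
      AModX.res X.fiber (hO.trans (f.base.preimage_mono hVU)) (pl f hf x) := by
  rw [← pl_res, AModX.res_res]

theorem chart_value (q : X ⟶ Y) (hq : IsCart q) (ψ : X ⟶ Z) (hψ : IsCart ψ) (h : Y.base ⟶ Z.base)
    {V : Y.base.Opens} {V' : Z.base.Opens} (hVh : V ≤ h ⁻¹ᵁ V') (hle : q.base ⁻¹ᵁ V ≤ ψ.base ⁻¹ᵁ V')
    (eY : Γ(Y.fiber, V)) (eZ : Γ(Z.fiber, V')) (g : Γ(Y.base, V))
    (hg : pl q hq eY = q.base.app V g • AModX.res X.fiber hle (pl ψ hψ eZ))
    {T : Obj.{u}} (j : T ⟶ Y) (hj : IsCart j) (O : T.base.Opens) (hO : O ≤ j.base ⁻¹ᵁ V)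
    (u : T ⟶ X) (hu : IsCart u) (huq : u ≫ q = j) (m : T ⟶ back Z h) (hm : IsCart m) (hmb : m.base = j.base)
    (hmc : m ≫ backHom Z h = u ≫ ψ) (hOm : O ≤ m.base ⁻¹ᵁ V) :
    AModX.res T.fiber hOm (pl m hm (g • AModX.res _ hVh (pullElt h eZ))) =
      AModX.res T.fiber hO (pl j hj eY) := by
  have hbase : u.base ≫ q.base = j.base := (congrArg (fun φ => φ.base) huq :)
  have hOu : O ≤ u.base ⁻¹ᵁ (q.base ⁻¹ᵁ V) := by
    rw [← Scheme.Hom.comp_preimage, hbase]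
    exact hO
  have e1 : AModX.res T.fiber hO (pl j hj eY) =
      resR hOu (u.base.app _ (q.base.app V g)) •
        AModX.res T.fiber hOu (pl u hu (AModX.res X.fiber hle (pl ψ hψ eZ))) := by
    rw [← AModX.res_smul, ← pl_smul, ← hg, ← pl_comp]
    exact res_pl_congr huq.symm _ _ _ _ _
  rw [e1, pl_smul, AModX.res_smul,
    show pullElt h eZ = pl (backHom Z h) (isCart_backHom Z h) eZ from (fib_pl _ (isCart_backHom Z h) eZ).symm,
    res_pl_res, res_pl_res, ← pl_comp, ← pl_comp]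
  refine congrArg₂ (· • ·) (appLE_congr (g := u.base ≫ q.base) (hmb.trans hbase.symm) _ hOu g) ?_
  exact res_pl_congr hmc _ _ _ _ _

theorem overlap {Xa Xb : Obj.{u}} (qa : Xa ⟶ Y) (hqa : IsCart qa) [IsOpenImmersion qa.base] (qb : Xb ⟶ Y)
    (hqb : IsCart qb) [IsOpenImmersion qb.base] (ψa : Xa ⟶ Z) (hψa : IsCart ψa) (ψb : Xb ⟶ Z) (hψb : IsCart ψb)
    (h : Y.base ⟶ Z.base) (hba : ψa.base = qa.base ≫ h)
    (hab : ∀ {T : Obj.{u}} (a : T ⟶ Xa) (b : T ⟶ Xb), IsCart a → IsCart b → a ≫ qa = b ≫ qb → a ≫ ψa = b ≫ ψb)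
    {Va Vb : Y.base.Opens} {Va' Vb' : Z.base.Opens} (hVa : Va ≤ qa.base.opensRange) (hVb : Vb ≤ qb.base.opensRange)
    (hha : Va ≤ h ⁻¹ᵁ Va') (hhb : Vb ≤ h ⁻¹ᵁ Vb') (hla : qa.base ⁻¹ᵁ Va ≤ ψa.base ⁻¹ᵁ Va')
    (hlb : qb.base ⁻¹ᵁ Vb ≤ ψb.base ⁻¹ᵁ Vb') (eYa : Γ(Y.fiber, Va)) (eYb : Γ(Y.fiber, Vb))
    {eZa : Γ(Z.fiber, Va')} (heZa : IsFrame eZa) (eZb : Γ(Z.fiber, Vb')) {ga : Γ(Y.base, Va)} (hgau : IsUnit ga)
    (hga : pl qa hqa eYa = qa.base.app Va ga • AModX.res Xa.fiber hla (pl ψa hψa eZa)) (gb : Γ(Y.base, Vb))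
    (hgb : pl qb hqb eYb = qb.base.app Vb gb • AModX.res Xb.fiber hlb (pl ψb hψb eZb))
    (W : Y.base.Opens) (ha : W ≤ Va) (hb' : W ≤ Vb) (c : Γ(Y.base, W))
    (hc : AModX.res Y.fiber hb' eYb = c • AModX.res Y.fiber ha eYa) :
    AModX.res _ hb' (gb • AModX.res _ hhb (pullElt h eZb)) =
      c • AModX.res _ ha (ga • AModX.res _ hha (pullElt h eZa)) := by
  let j := partHom Y W
  have hj := isCart_partHom Y W
  haveI : IsOpenImmersion j.base := inferInstanceAs (IsOpenImmersion W.ι)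
  obtain ⟨ua, hua, huaq⟩ := exists_factor hqa hj (fun t => hVa (ha t.2))
  obtain ⟨ub, hub, hubq⟩ := exists_factor hqb hj (fun t => hVb (hb' t.2))
  have hab' : ua ≫ ψa = ub ≫ ψb := hab ua ub hua hub (huaq.trans hubq.symm)
  obtain ⟨m, ⟨hmb, hmc⟩, -⟩ := existsUnique_lift (isCart_backHom Z h) (ua ≫ ψa) j.base (by
    show _ = ua.base ≫ ψa.base
    rw [hba, ← Category.assoc, show ua.base ≫ qa.base = j.base from (congrArg (fun φ => φ.base) huaq :)]
    rfl)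
  have hm : IsCart m := isCart_of_comp (isCart_backHom Z h) (isCart_congr hmc (isCart_comp hua hψa))
  haveI : IsOpenImmersion m.base := by rw [hmb]; infer_instance
  have hWr : W ≤ m.base.opensRange := by
    simp only [hmb]
    exact W.opensRange_ι.ge
  have hmj : m.base ⁻¹ᵁ W ≤ j.base ⁻¹ᵁ W := by rw [hmb]
  have ka := chart_value qa hqa ψa hψa h hha hla eYa eZa ga hga j hj (m.base ⁻¹ᵁ W)
    (hmj.trans (j.base.preimage_mono ha)) ua hua huaq m hm hmb hmc (m.base.preimage_mono ha)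
  have kb := chart_value qb hqb ψb hψb h hhb hlb eYb eZb gb hgb j hj (m.base ⁻¹ᵁ W)
    (hmj.trans (j.base.preimage_mono hb')) ub hub hubq m hm hmb (hmc.trans hab') (m.base.preimage_mono hb')
  refine pl_injective m hm (U := W) hWr
    ((((isFrame_pullElt h heZa).res hha).isUnit_smul hgau).res ha) ?_
  show pl m hm _ = pl m hm _
  refine (pl_res m hm hb' _).symm.trans (kb.trans ?_)
  refine Eq.trans ?_ ((pl_smul m hm c _).trans (congrArg _ ((pl_res m hm ha _).symm.trans ka))).symm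
  refine (res_pl_res j hj hb' eYb hmj).symm.trans ((congrArg (fun t => AModX.res _ hmj (pl j hj t)) hc).trans ?_)
  refine (congrArg (AModX.res _ hmj) (pl_smul j hj c _)).trans ((AModX.res_smul hmj _ _).trans ?_)
  refine congrArg₂ (· • ·) ?_ (res_pl_res j hj ha eYa hmj)
  exact ((appLE_congr hmb le_rfl hmj c).symm.trans (AModX.resR_self _))

theorem comp_value (q : X ⟶ Y) (hq : IsCart q) (β : Y ⟶ Z) (hβ : IsCart β) (ψ : X ⟶ Z) (hψ : IsCart ψ)
    {V : Y.base.Opens} {V' : Z.base.Opens} (hVh : V ≤ β.base ⁻¹ᵁ V') (hle : q.base ⁻¹ᵁ V ≤ ψ.base ⁻¹ᵁ V')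
    (eY : Γ(Y.fiber, V)) (eZ : Γ(Z.fiber, V')) (g : Γ(Y.base, V)) (hgu : IsUnit g)
    (hg : pl q hq eY = q.base.app V g • AModX.res X.fiber hle (pl ψ hψ eZ))
    (hβv : eY = g • AModX.res Y.fiber hVh (pl β hβ eZ)) (hle₂ : q.base ⁻¹ᵁ V ≤ (q ≫ β).base ⁻¹ᵁ V') :
    AModX.res X.fiber hle₂ (pl (q ≫ β) (isCart_comp hq hβ) eZ) = AModX.res X.fiber hle (pl ψ hψ eZ) := by
  have h2 : pl q hq eY = q.base.app V g • AModX.res X.fiber hle₂ (pl q hq (pl β hβ eZ)) := by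
    rw [hβv, pl_smul]
    exact congrArg _ (pl_res q hq hVh _).symm
  have h3 := hg.symm.trans h2
  obtain ⟨w, hw⟩ := hgu.map (q.base.app V).hom
  change (w : Γ(X.base, _)) = q.base.app V g at hw
  rw [← hw] at h3
  have h4 := congrArg (fun t => (↑w⁻¹ : Γ(X.base, q.base ⁻¹ᵁ V)) • t) h3
  simp only [← mul_smul, Units.inv_mul, MulAction.one_smul] at h4
  rw [pl_comp]
  exact h4.symm

theorem transfer_value {Xi Xy : Obj.{u}} (qi : Xi ⟶ Y) (hqi : IsCart qi) (qy : Xy ⟶ Y) (hqy : IsCart qy)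
    [IsOpenImmersion qy.base] (ψi : Xi ⟶ Z) (hψi : IsCart ψi) (ψy : Xy ⟶ Z) (hψy : IsCart ψy) (β : Y ⟶ Z)
    (hβ : IsCart β)
    (hab : ∀ {T : Obj.{u}} (a : T ⟶ Xy) (b : T ⟶ Xi), IsCart a → IsCart b → a ≫ qy = b ≫ qi → a ≫ ψy = b ≫ ψi)
    {V : Y.base.Opens} (hV : V ≤ qy.base.opensRange) {V' : Z.base.Opens} {eZ : Γ(Z.fiber, V')} (heZ : IsFrame eZ)
    (hly₂ : qy.base ⁻¹ᵁ V ≤ (qy ≫ β).base ⁻¹ᵁ V') (hly : qy.base ⁻¹ᵁ V ≤ ψy.base ⁻¹ᵁ V')
    (hy : AModX.res Xy.fiber hly₂ (pl (qy ≫ β) (isCart_comp hqy hβ) eZ) =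
      AModX.res Xy.fiber hly (pl ψy hψy eZ))
    (hli₂ : qi.base ⁻¹ᵁ V ≤ (qi ≫ β).base ⁻¹ᵁ V') (hli : qi.base ⁻¹ᵁ V ≤ ψi.base ⁻¹ᵁ V') :
    AModX.res Xi.fiber hli₂ (pl (qi ≫ β) (isCart_comp hqi hβ) eZ) = AModX.res Xi.fiber hli (pl ψi hψi eZ) := by
  let W := qi.base ⁻¹ᵁ V
  let a := partHom Xi W
  have ha := isCart_partHom Xi W
  haveI : IsOpenImmersion a.base := inferInstanceAs (IsOpenImmersion W.ι)
  obtain ⟨b, hb', hbq⟩ := exists_factor hqy (isCart_comp ha hqi) (fun t => hV t.2)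
  have hab' := hab b a hb' ha hbq
  refine pl_injective a ha (U := W) (le_of_eq W.opensRange_ι.symm) ((isFrame_pl ψi hψi heZ).res hli) ?_
  have hWb : a.base ⁻¹ᵁ W ≤ b.base ⁻¹ᵁ (qy.base ⁻¹ᵁ V) :=
    le_of_eq (congrArg (fun φ => φ ⁻¹ᵁ V) (show b.base ≫ qy.base = a.base ≫ qi.base from
      (congrArg (fun φ => φ.base) hbq :))).symm
  show pl a ha (AModX.res _ _ _) = pl a ha (AModX.res _ _ _)
  rw [← pl_res, ← pl_res, ← pl_comp a, ← pl_comp a]
  have h5 := congrArg (fun t => AModX.res _ hWb (pl b hb' t)) hy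
  have h6 := (res_pl_res b hb' _ _ hWb).symm.trans (h5.trans (res_pl_res b hb' _ _ hWb))
  rw [← pl_comp b, ← pl_comp b] at h6
  have e : a ≫ (qi ≫ β) = b ≫ (qy ≫ β) := by rw [← Category.assoc, ← hbq, Category.assoc]
  refine (res_pl_congr e (isCart_comp ha (isCart_comp hqi hβ)) (isCart_comp hb' (isCart_comp hqy hβ)) eZ _
    (hWb.trans (b.base.preimage_mono hly₂))).trans ?_
  refine h6.trans ?_
  exact res_pl_congr hab' (isCart_comp hb' hψy) (isCart_comp ha hψi) eZ _ _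

/-- Gluing of cartesian morphisms along an open covering. -/
theorem exists_glue {ι : Type u} {X : ι → Obj.{u}} (q : ∀ i, X i ⟶ Y) (hq : ∀ i, IsCart (q i))
    [∀ i, IsOpenImmersion (q i).base] (hcov : ∀ y : Y.base, ∃ i, y ∈ Set.range (q i).base)
    (hY : PicF.IsInvertible Y.fiber) (hZ : PicF.IsInvertible Z.fiber) (h : Y.base ⟶ Z.base) (ψ : ∀ i, X i ⟶ Z)
    (hψ : ∀ i, IsCart (ψ i)) (hb : ∀ i, (ψ i).base = (q i).base ≫ h)
    (hab : ∀ i j {T : Obj.{u}} (a : T ⟶ X i) (b : T ⟶ X j), IsCart a → IsCart b → a ≫ q i = b ≫ q j →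
      a ≫ ψ i = b ≫ ψ j) :
    ∃ β : Y ⟶ Z, β.base = h ∧ IsCart β ∧ ∀ i, q i ≫ β = ψ i := by
  choose ix hix using hcov
  choose V' hV' eZ heZ using fun y : Y.base => InvX.exists_frame hZ (h y)
  choose V₀ hV₀ eY₀ heY₀ using InvX.exists_frame hY
  let V : Y.base → Y.base.Opens := fun y => (V₀ y ⊓ h ⁻¹ᵁ V' y) ⊓ (q (ix y)).base.opensRange
  have hV : ∀ y, y ∈ V y := fun y => ⟨⟨hV₀ y, hV' y⟩, hix y⟩
  let eY : ∀ y, Γ(Y.fiber, V y) := fun y => AModX.res _ (inf_le_left.trans inf_le_left) (eY₀ y)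
  have heY : ∀ y, IsFrame (eY y) := fun y => (heY₀ y).res _
  have hVh : ∀ y, V y ≤ h ⁻¹ᵁ V' y := fun y => inf_le_left.trans inf_le_right
  have hle' : ∀ i y, (q i).base ⁻¹ᵁ V y ≤ (ψ i).base ⁻¹ᵁ V' y := fun i y => by
    rw [hb, Scheme.Hom.comp_preimage]
    exact (q i).base.preimage_mono (hVh y)
  choose g hgu hg using fun y => exists_coord_chart (q (ix y)) (hq _) (ψ (ix y)) (hψ _)
    (inf_le_right : V y ≤ _) (hle' (ix y) y) (heY y) (heZ y)
  let n : ∀ y, Γ((Scheme.Modules.pullback h).obj Z.fiber, V y) := fun y =>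
    g y • AModX.res _ (hVh y) (pullElt h (eZ y))
  have hn : ∀ y, IsFrame (n y) := fun y => ((isFrame_pullElt h (heZ y)).res _).isUnit_smul (hgu y)
  have hc : ∀ (a b : Y.base) (W : Y.base.Opens) (ha : W ≤ V a) (hb' : W ≤ V b) (c : Γ(Y.base, W)),
      AModX.res Y.fiber hb' (eY b) = c • AModX.res Y.fiber ha (eY a) →
        AModX.res _ hb' (n b) = c • AModX.res _ ha (n a) := fun a b W ha hb' c hc =>
    overlap (q (ix a)) (hq _) (q (ix b)) (hq _) (ψ (ix a)) (hψ _) (ψ (ix b)) (hψ _) h (hb _) (hab _ _)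
      inf_le_right inf_le_right (hVh a) (hVh b) (hle' _ a) (hle' _ b) (eY a) (eY b) (heZ a) (eZ b) (hgu a) (hg a)
      (g b) (hg b) W ha hb' c hc
  let φ : Y.fiber ⟶ (Scheme.Modules.pullback h).obj Z.fiber := InvX.ofFrames (fun y => ⟨y, hV y⟩) heY hc
  haveI : IsIso φ := DivX.isIso_of_frames φ fun y => ⟨V y, hV y, eY y, heY y, by
    rw [InvX.ofFrames_app]; exact hn y⟩
  let β : Y ⟶ Z := mk' h φ
  have hβ : IsCart β := inferInstanceAs (IsIso φ)
  refine ⟨β, rfl, hβ, fun i => ?_⟩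
  have hplβ : ∀ y, eY y = g y • AModX.res Y.fiber (hVh y) (pl β hβ (eZ y)) := fun y => by
    refine fib_injective β hβ _ ?_
    rw [Scheme.Modules.Hom.app_smul]
    refine Eq.trans (b := n y) (InvX.ofFrames_app (fun y => ⟨y, hV y⟩) heY hc y) ?_
    refine congrArg (g y • ·) ?_
    rw [AModX.app_res]
    exact congrArg (AModX.res _ (hVh y)) (fib_pl β hβ (eZ y)).symm
  refine ext_pl (hb i).symm (isCart_comp (hq i) hβ) (hψ i) (fun x => V' ((q i).base x)) (fun x => eZ _)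
    (fun x => heZ _) (fun x => (q i).base ⁻¹ᵁ V ((q i).base x)) (fun x => ⟨x, hV _⟩)
    (fun x => (q i).base.preimage_mono (hVh _)) (fun x => hle' i _) fun x => ?_
  generalize (q i).base x = y
  exact transfer_value (q i) (hq i) (q (ix y)) (hq _) (ψ i) (hψ i) (ψ (ix y)) (hψ _) β hβ (hab _ _)
    (inf_le_right : V y ≤ _) (heZ y) ((q (ix y)).base.preimage_mono (hVh y)) (hle' (ix y) y)
    (comp_value (q (ix y)) (hq _) β hβ (ψ (ix y)) (hψ _) (hVh y) (hle' (ix y) y) (eY y) (eZ y) (g y) (hgu y) (hg y)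
      (hplβ y) _) _ _

end Groth.Agent.ThetaCo
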