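import Groth.Agent.Lib.ThetaDescend
import Groth.Agent.Lib.ThetaRel
import Groth.Agent.GrpSchLib.HomFlat
import Groth.Agent.GrpSchLib.SmoothReduced

/-!
Points of the theta group commuting with the lifts of the kernel descend along an isogeny.
-/

set_option autoImplicit false
set_option linter.style.haveILetI false
set_option linter.unusedSectionVars false
set_option backward.isDefEq.respectTransparency false
set_option backward.isDefEq.respectTransparency.types false

universe u

open CategoryTheory CategoryTheory.Limits MonoidalCategory CartesianMonoidalCategory MonObj AlgebraicGeometry TopologicalSpace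
open Pseudofunctor Bicategory

noncomputable section

namespace Groth.Agent.ThetaKer

open Groth.Agent Groth.Agent.H23 ThetaGrp ThetaPts ThetaScalar ThetaLift ThetaRel

variable {k : Type u} [Field k] {A B : Over (Spec (CommRingCat.of k))} [GrpObj A] [GrpObj B] [IsCommMonObj A]
  [IsCommMonObj B] [IsProper A.hom] [IsProper B.hom] [GeometricallyIntegral A.hom] [GeometricallyIntegral B.hom]
  (f : A ⟶ B) [IsMonHom f] {L : A.left.Modules} {M : B.left.Modules} (hL : PicF.IsInvertible L)
  (hM : PicF.IsInvertible M) (e : L ≅ (Scheme.Modules.pullback f.left).obj M)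
  {N : Over (Spec (CommRingCat.of k))} [GrpObj N] {i : N ⟶ A} [IsMonHom i] (hN : AlgGrp.IsKernel i f)

omit [GrpObj A] [GrpObj B] [IsCommMonObj A] [IsCommMonObj B] [IsMonHom f] [GeometricallyIntegral A.hom]
  [GeometricallyIntegral B.hom] in
theorem isProper_left : IsProper f.left := by
  haveI : IsProper (f.left ≫ B.hom) := by rw [Over.w f]; infer_instance
  exact IsProper.of_comp f.left B.hom

theorem flat_left [Surjective f.left] : Flat f.left := by
  haveI := isProper_left f
  haveI : AlgebraicGeometry.IsIntegral B.left := GeometricallyIntegral.isIntegral_of_subsingleton B.hom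
  exact GrpSchLib.flat_of_surjective_hom f

include hN in
theorem comp_kernel {T : Over (Spec (CommRingCat.of k))} (n : T ⟶ N) : (n ≫ i) ≫ f = 1 := by
  rw [Category.assoc, hN.w, ← Category.assoc, comp_toUnit]
  rfl

include hL hM e hN

/-- A point commuting with the kernel's lifts descends. -/
theorem exists_rel_of_commute [Surjective f.left] {T : Over (Spec (CommRingCat.of k))} {α : thetaPts A L T}
    {x : T ⟶ A} (hα : IsOverPt α x)
    (hc : ∀ (T' : Over (Spec (CommRingCat.of k))) (g : T' ⟶ T) (n : T' ⟶ N) (δ : thetaPts A L T'),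
      IsOverPt δ (n ≫ i) → ThetaPts.Rel f e δ 1 → bc g α * δ = δ * bc g α) :
    ∃ β : thetaPts B M T, IsOverPt β (x ≫ f) ∧ ThetaPts.Rel f e α β := by
  haveI := isProper_left f
  haveI := flat_left f
  haveI hfl : Flat (funMap f e T).base := by
    rw [funMap_base]; exact GrpSchLib.property_whiskerRight f T @Flat inferInstance
  haveI hsu : Surjective (funMap f e T).base := by
    rw [funMap_base]; exact GrpSchLib.property_whiskerRight f T @Surjective inferInstance
  haveI hqc : QuasiCompact (funMap f e T).base := by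
    rw [funMap_base]; exact GrpSchLib.property_whiskerRight f T @QuasiCompact inferInstance
  obtain ⟨β₀, hβb, hβc, hβ⟩ := ThetaCo.exists_descend (q := funMap f e T) (ψ := α.1.hom ≫ funMap f e T)
    (isCart_funMap f e T) (ThetaCo.isCart_comp (isCart_hom α) (isCart_funMap f e T))
    (isInvertible_fiber T hM) (isInvertible_fiber T hM) (transl B (x ≫ f)).left (by
      show α.1.hom.base ≫ (funMap f e T).base = _
      rw [hα, funMap_base, ← Over.comp_left, ← Over.comp_left, whiskerRight_transl])
    (fun {P} a b ha hb hab => by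
      let P' : Over (Spec (CommRingCat.of k)) := Over.mk (a.base ≫ (A ⊗ T).hom)
      have hbase : a.base ≫ (f ▷ T).left = b.base ≫ (f ▷ T).left := by
        have := congrArg (fun φ => φ.base) hab
        rw [← funMap_base f e T]
        exact this
      let pa : P' ⟶ A ⊗ T := Over.homMk a.base rfl
      let pb : P' ⟶ A ⊗ T := Over.homMk b.base (by
        show b.base ≫ (A ⊗ T).hom = a.base ≫ (A ⊗ T).hom
        rw [← Over.w (f ▷ T), ← Category.assoc, ← hbase, Category.assoc])
      have hpab : pa ≫ (f ▷ T) = pb ≫ (f ▷ T) := Over.OverMorphism.ext hbase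
      have hsnd : pa ≫ snd A T = pb ≫ snd A T := by
        have := congrArg (fun φ => φ ≫ snd B T) hpab
        simpa using this
      have hfst : (pa ≫ fst A T) ≫ f = (pb ≫ fst A T) ≫ f := by
        have := congrArg (fun φ => φ ≫ fst B T) hpab
        simpa using this
      let g : P' ⟶ T := pa ≫ snd A T
      obtain ⟨n, hn⟩ : ∃ n : P' ⟶ N, n ≫ i = (pa ≫ fst A T)⁻¹ * (pb ≫ fst A T) :=
        ⟨hN.lift ((pa ≫ fst A T)⁻¹ * (pb ≫ fst A T)) (toUnit _) (by
          rw [MonObj.mul_comp, GrpObj.inv_comp, hfst, inv_mul_cancel]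
          rfl), hN.lift_fst _ _ _⟩
      obtain ⟨δ, ⟨hδ, hδr⟩, -⟩ := existsUnique_rel f e (x := n ≫ i) (β := (1 : thetaPts B M P')) (by
        rw [comp_kernel f hN n]; exact isOverPt_one P')
      let j : P' ⟶ A ⊗ P' := lift (pa ≫ fst A T) (𝟙 P')
      have hj : j ≫ (A ◁ g) = pa := by
        apply CartesianMonoidalCategory.hom_ext <;> simp [j, g]
      obtain ⟨a', ⟨ha'b, ha'⟩, -⟩ := ThetaCo.existsUnique_lift (isCart_bcLift A L g) a j.left (by
        show j.left ≫ (A ◁ g).left = a.base
        rw [← Over.comp_left, hj]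
        rfl)
      have hjb : j ≫ transl A (n ≫ i) ≫ (A ◁ g) = pb := by
        apply CartesianMonoidalCategory.hom_ext
        · simp only [Category.assoc, whiskerLeft_fst]
          rw [transl_fst, MonObj.comp_mul, lift_fst, ← Category.assoc, lift_snd, Category.id_comp, hn,
            mul_inv_cancel_left]
        · simp only [Category.assoc, whiskerLeft_snd]
          rw [← Category.assoc (transl A (n ≫ i)), transl_snd, ← Category.assoc, lift_snd, Category.id_comp, ← hsnd]
      have hδr' : δ.1.hom ≫ funMap f e P' = funMap f e P' := by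
        unfold ThetaPts.Rel at hδr
        rw [hδr]
        exact Category.comp_id _
      have hb' : a' ≫ δ.1.hom ≫ bcLift A L g = b := by
        refine ThetaCo.cancel (isCart_funMap f e T) ?_ ?_
        · show a'.base ≫ δ.1.hom.base ≫ (A ◁ g).left = b.base
          rw [ha'b, hδ, ← Over.comp_left, ← Over.comp_left, hjb]
          rfl
        · rw [← hab, ← ha', Category.assoc, Category.assoc, Category.assoc, bcLift_funMap, ← Category.assoc δ.1.hom,
            hδr']
      have hbc : (bc g α).1.hom ≫ bcLift A L g = bcLift A L g ≫ α.1.hom := isBaseChange_bc g α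
      have hcm : δ.1.hom ≫ (bc g α).1.hom = (bc g α).1.hom ≫ δ.1.hom :=
        congrArg (fun z : thetaPts A L P' => z.1.hom) (hc P' g n δ hδ hδr)
      symm
      calc b ≫ α.1.hom ≫ funMap f e T = a' ≫ δ.1.hom ≫ (bcLift A L g ≫ α.1.hom) ≫ funMap f e T := by
            rw [← hb']; simp only [Category.assoc]
        _ = a' ≫ δ.1.hom ≫ (bc g α).1.hom ≫ bcLift A L g ≫ funMap f e T := by
            rw [← hbc]; simp only [Category.assoc]
        _ = a' ≫ (bc g α).1.hom ≫ δ.1.hom ≫ funMap f e P' ≫ bcLift B M g := by
            rw [bcLift_funMap, ← Category.assoc δ.1.hom, hcm, Category.assoc]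
        _ = a' ≫ (bc g α).1.hom ≫ bcLift A L g ≫ funMap f e T := by
            rw [← Category.assoc δ.1.hom, hδr', bcLift_funMap]
        _ = a ≫ α.1.hom ≫ funMap f e T := by
            rw [← Category.assoc (bc g α).1.hom, hbc, ← ha']; simp only [Category.assoc])
  obtain ⟨β, hβh⟩ := exists_point β₀ hβc hβb
  exact ⟨β, by show β.1.hom.base = _; rw [hβh, hβb], by unfold ThetaPts.Rel; rw [hβh, hβ]⟩

/-- Over a point of `K(M)` every point commutes with the lifts of the kernel. -/
theorem commute_of_mumford {T : Over (Spec (CommRingCat.of k))} {x : T ⟶ A} (hx : IsMumfordTriv B M (x ≫ f))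
    {α δ : thetaPts A L T} (hα : IsOverPt α x) {n : T ⟶ N} (hδ : IsOverPt δ (n ≫ i)) : α * δ = δ * α := by
  rw [← cm_eq_one_iff hL]
  refine units_ext_of_cover fun t => ?_
  obtain ⟨U, htU, c0, hc0⟩ := exists_local hM hx t
  refine ⟨U, htU, ?_⟩
  rw [map_one, ← cm_bc hL]
  rw [← Category.assoc] at hc0
  obtain ⟨a, ⟨ha, hr⟩, -⟩ := existsUnique_rel f e hc0
  obtain ⟨d, ⟨hd, hdr⟩, -⟩ := existsUnique_rel f e (x := (inc U ≫ n) ≫ i) (β := (1 : thetaPts B M (opn T U))) (by
    rw [comp_kernel f hN]; exact isOverPt_one _)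
  have q := isOverPt_bc (inc U) hδ
  rw [← Category.assoc] at q
  rw [cm_congr hL ha (isOverPt_bc (inc U) hα) hd q, cm_rel f hL hM e ha hd hr hdr, cm_eq_one_iff hM,
    _root_.mul_one, _root_.one_mul]

end Groth.Agent.ThetaKer
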