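import Groth.Agent.Lib.ThetaRel

/-!
The translations by `K(L) × 1` lift canonically to the theta group of the Mumford module.
-/

set_option autoImplicit false
set_option linter.style.haveILetI false
set_option linter.unusedSectionVars false
set_option backward.isDefEq.respectTransparency false
set_option backward.isDefEq.respectTransparency.types false

universe u

open CategoryTheory CategoryTheory.Limits MonoidalCategory CartesianMonoidalCategory MonObj AlgebraicGeometry TopologicalSpace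
open Pseudofunctor Bicategory

noncomputable section

namespace Groth.Agent.ThetaLambda

open Groth.Agent Groth.Agent.H23 Groth.Agent.AVCube Groth.Agent.AVKLExist ThetaGrp ThetaPts ThetaScalar ThetaLift ThetaRel
open scoped Groth.Agent.H23.PicMul

variable {k : Type u} [Field k] {A : Over (Spec (CommRingCat.of k))} [GrpObj A] [IsProper A.hom]
  [GeometricallyIntegral A.hom]

theorem pc_lambda {L : A.left.Modules} (hL : PicF.IsInvertible L) {Λ : (A ⊗ A).left.Modules}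
    (hΛi : PicF.IsInvertible Λ) (hΛ : AgPol.IsLambdaSheaf μ[A].left (fst A A).left (snd A A).left L Λ)
    {T : Over (Spec (CommRingCat.of k))} (w : T ⟶ A ⊗ A) :
    pc hΛi w = pc hL ((w ≫ fst A A) * (w ≫ snd A A)) * (pc hL (w ≫ fst A A) * pc hL (w ≫ snd A A))⁻¹ := by
  have hμ : μ[A] = fst A A * snd A A := by rw [Hom.mul_def, lift_fst_snd, Category.id_comp]
  have h0 : PicF.cl Λ * (pc hL (fst A A) : PicF.Cl (A ⊗ A).left) * (pc hL (snd A A) : PicF.Cl (A ⊗ A).left) =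
      (pc hL (fst A A * snd A A) : PicF.Cl (A ⊗ A).left) := by
    rw [val_pc hL, val_pc hL, val_pc hL, ← PicMul.cl_tensor, ← PicMul.cl_tensor, ← hμ]
    exact (PicGrp.cl_eq_cl_iff _ _).2 hΛ
  have h1 : pc hΛi w * pc hL (w ≫ fst A A) * pc hL (w ≫ snd A A) =
      pc hL ((w ≫ fst A A) * (w ≫ snd A A)) := by
    rw [← MonObj.comp_mul, ← pull_pc hL w, ← pull_pc hL w, ← pull_pc hL w]
    refine Units.ext ?_
    have h2 := congrArg (PicMul.pullHom w.left) h0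
    rw [map_mul, map_mul] at h2
    simp only [Units.val_mul, Units.coe_map]
    rw [val_pc' hΛi]
    exact h2
  rw [← h1, _root_.mul_assoc (pc hΛi w), mul_inv_cancel_right]

theorem exists_pt_lambda {L : A.left.Modules} (hL : PicF.IsInvertible L) {Λ : (A ⊗ A).left.Modules}
    (hΛi : PicF.IsInvertible Λ) (hΛ : AgPol.IsLambdaSheaf μ[A].left (fst A A).left (snd A A).left L Λ)
    [IsCommMonObj A] [IsProper (A ⊗ A).hom] [GeometricallyIntegral (A ⊗ A).hom]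
    {T : Over (Spec (CommRingCat.of k))} {x : T ⟶ A} (hx : IsMumfordTriv A L x) :
    ∃ α : thetaPts (A ⊗ A) Λ T, IsOverPt α (lift x (1 : T ⟶ A)) := by
  obtain ⟨M, hM, hMx⟩ := (mumford_iff_mum hL x).1 hx
  refine exists_pt_of_eq hΛi ?_
  let a := fst (A ⊗ A) T ≫ fst A A
  let b := fst (A ⊗ A) T ≫ snd A A
  let z := snd (A ⊗ A) T ≫ x
  have e : ∀ c : (A ⊗ A) ⊗ T ⟶ A, Units.map (PicMul.pullHom (lift c (snd (A ⊗ A) T)).left :
      PicF.Cl (A ⊗ T).left →* PicF.Cl ((A ⊗ A) ⊗ T).left) (mum hL x) = pc hL (c * z) * (pc hL c)⁻¹ * (pc hL z)⁻¹ := fun c => by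
    simp only [mum, map_mul, map_inv, pull_pc, MonObj.comp_mul, lift_fst, lift_snd_assoc, z]
  have e' : Units.map (PicMul.pullHom (lift a (snd (A ⊗ A) T)).left :
      PicF.Cl (A ⊗ T).left →* PicF.Cl ((A ⊗ A) ⊗ T).left) (mum hL x) =
    Units.map (PicMul.pullHom (lift (a * b) (snd (A ⊗ A) T)).left :
      PicF.Cl (A ⊗ T).left →* PicF.Cl ((A ⊗ A) ⊗ T).left) (mum hL x) := by
    refine Units.ext ?_
    show PicF.pullCl _ (mum hL x : PicF.Cl (A ⊗ T).left) = PicF.pullCl _ (mum hL x : PicF.Cl (A ⊗ T).left)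
    rw [← hMx, PicClLib.pullCl_comp, PicClLib.pullCl_comp, ← Over.comp_left, ← Over.comp_left, lift_snd, lift_snd]
  rw [e, e, mul_left_inj, mul_inv_eq_iff_eq_mul, _root_.mul_right_comm, eq_mul_inv_iff_mul_eq] at e'
  rw [pc_lambda hL hΛi hΛ, pc_lambda hL hΛi hΛ]
  simp only [MonObj.mul_comp, Category.assoc, lift_fst, lift_snd, MonObj.comp_one, _root_.mul_one]
  show pc hL (a * z * b) * (pc hL (a * z) * pc hL b)⁻¹ = pc hL (a * b) * (pc hL a * pc hL b)⁻¹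
  rw [_root_.mul_right_comm a z b, ← div_eq_mul_inv, ← div_eq_mul_inv, div_eq_div_iff_mul_eq_mul,
    ← _root_.mul_assoc, ← _root_.mul_assoc]
  congr 1
  rw [_root_.mul_comm (pc hL (a * b))]
  exact e'.symm

/-- The slice `A × 1`. -/
abbrev slice (A : Over (Spec (CommRingCat.of k))) [GrpObj A] : A ⟶ A ⊗ A := lift (𝟙 A) (1 : A ⟶ A)

theorem exists_hom_lift {L : A.left.Modules} (hL : PicF.IsInvertible L) {Λ : (A ⊗ A).left.Modules}
    (hΛi : PicF.IsInvertible Λ) (hΛ : AgPol.IsLambdaSheaf μ[A].left (fst A A).left (snd A A).left L Λ)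
    [IsCommMonObj A] [IsProper (A ⊗ A).hom] [GeometricallyIntegral (A ⊗ A).hom] [IsMonHom (slice A)]
    {K : Over (Spec (CommRingCat.of k))} [GrpObj K] (iK : K ⟶ A) [IsMonHom iK] (hK : IsKL A L iK) :
    ∃ d : thetaPts (A ⊗ A) Λ K, IsOverPt d (lift iK (1 : K ⟶ A)) ∧
      ∀ (T : Over (Spec (CommRingCat.of k))) (m n : T ⟶ K), bc (m * n) d = bc m d * bc n d := by
  let Λ₀ : A.left.Modules := (Scheme.Modules.pullback (slice A).left).obj Λ
  have hΛ₀ : PicF.IsInvertible Λ₀ := PicClLib.isInvertible_pullback _ hΛi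
  let I : (Spec (CommRingCat.of k)).Modules := Coh.structureModule (Spec (CommRingCat.of k))
  have hcl : PicF.cl Λ₀ = PicF.cl ((Scheme.Modules.pullback A.hom).obj I) := by
    have h1 : PicF.cl ((Scheme.Modules.pullback A.hom).obj I) = 1 := PicMul.pullCl_one _
    rw [h1, ← val_pc hΛi, pc_lambda hL hΛi hΛ, lift_fst, lift_snd, _root_.mul_one, mul_inv_rev, ← _root_.mul_assoc,
      show (1 : A ⟶ A) = toUnit A ≫ (1 : 𝟙_ _ ⟶ A) from (MonObj.comp_one _).symm, pc_const,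
      inv_one, _root_.mul_one, mul_inv_cancel]
    rfl
  let ρ : (⟨A.left, Λ₀⟩ : ThetaCo.Obj.{u}) ⟶ ⟨Spec (CommRingCat.of k), I⟩ :=
    ThetaCo.mk' A.hom ((PicGrp.cl_eq_cl_iff _ _).1 hcl).some.hom
  have hρ : ThetaCo.IsCart ρ := inferInstanceAs (IsIso ((PicGrp.cl_eq_cl_iff _ _).1 hcl).some.hom)
  -- the canonical points of the slice
  have hc : ∀ {T : Over (Spec (CommRingCat.of k))} (x : T ⟶ A), ∃! c : thetaPts A Λ₀ T,
      IsOverPt c x ∧ c.1.hom ≫ proj A Λ₀ T ≫ ρ = proj A Λ₀ T ≫ ρ := by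
    intro T x
    have hq := ThetaCo.isCart_comp (isCart_proj A Λ₀ T) hρ
    obtain ⟨h, ⟨hh, hhq⟩, huniq⟩ := ThetaCo.existsUnique_lift hq (proj A Λ₀ T ≫ ρ) (transl A x).left (by
      show (transl A x).left ≫ (fst A T).left ≫ A.hom = (fst A T).left ≫ A.hom
      rw [Over.w (fst A T), Over.w (transl A x)])
    obtain ⟨c, hc⟩ := exists_point h (ThetaCo.isCart_of_comp hq (ThetaCo.isCart_congr hhq hq)) hh
    refine ⟨c, ⟨by show _ = _; rw [hc, hh], by rw [hc]; exact hhq⟩, fun c' hc' => hom_inj ?_⟩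
    rw [hc]
    exact huniq _ ⟨hc'.1, hc'.2⟩
  let Normal : ∀ {T : Over (Spec (CommRingCat.of k))}, (T ⟶ A) → thetaPts (A ⊗ A) Λ T → Prop := fun {T} x α =>
    IsOverPt α (x ≫ slice A) ∧ ∃ c : thetaPts A Λ₀ T, IsOverPt c x ∧
      c.1.hom ≫ proj A Λ₀ T ≫ ρ = proj A Λ₀ T ≫ ρ ∧ ThetaPts.Rel (slice A) (Iso.refl Λ₀) c α
  have huniq : ∀ {T : Over (Spec (CommRingCat.of k))} (x : T ⟶ A) (α α' : thetaPts (A ⊗ A) Λ T),
      Normal x α → Normal x α' → α = α' := by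
    rintro T x α α' ⟨hα, c, hc1, hc2, hr⟩ ⟨hα', c', hc1', hc2', hr'⟩
    obtain ⟨s, hs⟩ := exists_sc_mul hΛi hα hα'
    have hcc : c = c' := (hc x).unique ⟨hc1, hc2⟩ ⟨hc1', hc2'⟩
    subst hcc
    have h1 : IsOverPt (sc hΛ₀ s * c) x := by
      have := isOverPt_mul (isOverPt_sc hΛ₀ s (T := T)) hc1
      rwa [_root_.mul_one] at this
    have h2 := rel_mul (slice A) (Iso.refl Λ₀) (rel_sc (slice A) hΛ₀ hΛi (Iso.refl Λ₀) s) hr
    rw [← hs] at h2
    have h3 := (existsUnique_rel (slice A) (Iso.refl Λ₀) hα').unique ⟨hc1', hr'⟩ ⟨h1, h2⟩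
    have h4 : sc hΛ₀ s = (1 : thetaPts A Λ₀ T) := right_eq_mul.1 h3
    rw [← map_one (sc hΛ₀)] at h4
    rw [hs, sc_injective hΛ₀ T h4, map_one, _root_.one_mul]
  have hex : ∀ {T : Over (Spec (CommRingCat.of k))} (x : T ⟶ A), IsMumfordTriv A L x →
      ∃ α : thetaPts (A ⊗ A) Λ T, Normal x α := by
    intro T x hx
    obtain ⟨α, hα⟩ := exists_pt_lambda hL hΛi hΛ hx
    rw [show lift x (1 : T ⟶ A) = x ≫ slice A by rw [comp_lift, Category.comp_id, MonObj.comp_one]] at hα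
    obtain ⟨a, ⟨ha, hr⟩, -⟩ := existsUnique_rel (slice A) (Iso.refl Λ₀) hα
    obtain ⟨c, ⟨hc1, hc2⟩, -⟩ := hc x
    obtain ⟨s, hs⟩ := exists_sc_mul hΛ₀ ha hc1
    refine ⟨sc hΛi s * α, ?_, c, hc1, hc2, ?_⟩
    · have := isOverPt_mul (isOverPt_sc hΛi s (T := T)) hα
      rwa [_root_.mul_one] at this
    · rw [hs]
      exact rel_mul (slice A) (Iso.refl Λ₀) (rel_sc (slice A) hΛ₀ hΛi (Iso.refl Λ₀) s) hr
  have hbc : ∀ {T G : Over (Spec (CommRingCat.of k))} (g : T ⟶ G) (x : G ⟶ A) (α : thetaPts (A ⊗ A) Λ G),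
      Normal x α → Normal (g ≫ x) (bc g α) := by
    rintro T G g x α ⟨hα, c, hc1, hc2, hr⟩
    refine ⟨?_, bc g c, isOverPt_bc g hc1, ?_, rel_bc (slice A) (Iso.refl Λ₀) g hr hc1⟩
    · rw [Category.assoc]; exact isOverPt_bc g hα
    · have h1 : (bc g c).1.hom ≫ bcLift A Λ₀ g = bcLift A Λ₀ g ≫ c.1.hom := isBaseChange_bc g c
      rw [← bcLift_proj A Λ₀ g, Category.assoc, ← Category.assoc (bc g c).1.hom, h1, Category.assoc, hc2]
  have hmul : ∀ {T : Over (Spec (CommRingCat.of k))} (x y : T ⟶ A) (α β : thetaPts (A ⊗ A) Λ T),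
      Normal x α → Normal y β → Normal (y * x) (α * β) := by
    rintro T x y α β ⟨hα, c, hc1, hc2, hr⟩ ⟨hβ, c', hc1', hc2', hr'⟩
    refine ⟨by rw [MonObj.mul_comp]; exact isOverPt_mul hα hβ, c * c', isOverPt_mul hc1 hc1', ?_,
      rel_mul (slice A) (Iso.refl Λ₀) hr hr'⟩
    show (c'.1.hom ≫ c.1.hom) ≫ _ = _
    rw [Category.assoc, hc2, hc2']
  obtain ⟨d, hd⟩ := hex iK ((hK.univ _ _).2 ⟨𝟙 K, Category.id_comp iK⟩)
  refine ⟨d, ?_, fun T m n => huniq ((m * n) ≫ iK) _ _ (hbc _ _ _ hd) ?_⟩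
  · rw [show lift iK (1 : K ⟶ A) = iK ≫ slice A by rw [comp_lift, Category.comp_id, MonObj.comp_one]]
    exact hd.1
  · have := hmul _ _ _ _ (hbc m _ _ hd) (hbc n _ _ hd)
    rwa [_root_.mul_comm, ← MonObj.mul_comp] at this

end Groth.Agent.ThetaLambda
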