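import Groth.Agent.Lib.ThetaScalar
import Groth.Agent.Lib.AVKLExist
import Groth.Agent.H23.CubeField

/-!
The points of `K(L)` are the translations lifting locally to the theta group.
-/

set_option autoImplicit false
set_option linter.style.haveILetI false
set_option linter.unusedSectionVars false
set_option backward.isDefEq.respectTransparency false
set_option backward.isDefEq.respectTransparency.types false

universe u

open CategoryTheory CategoryTheory.Limits MonoidalCategory CartesianMonoidalCategory MonObj AlgebraicGeometry TopologicalSpace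
open Pseudofunctor Bicategory

noncomputable section

namespace Groth.Agent.ThetaLift

open Groth.Agent Groth.Agent.H23 Groth.Agent.AVCube Groth.Agent.AVKLExist ThetaGrp ThetaPts
open scoped Groth.Agent.H23.PicMul

variable {k : Type u} [Field k] {A : Over (Spec (CommRingCat.of k))} [GrpObj A] [IsProper A.hom]
  [GeometricallyIntegral A.hom] {L : A.left.Modules} (hL : PicF.IsInvertible L)

/-- An open subscheme of the parameter space. -/
abbrev opn (T : Over (Spec (CommRingCat.of k))) (U : T.left.Opens) : Over (Spec (CommRingCat.of k)) :=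
  Over.mk (U.ι ≫ T.hom)

/-- Its inclusion. -/
abbrev inc {T : Over (Spec (CommRingCat.of k))} (U : T.left.Opens) : opn T U ⟶ T := Over.homMk U.ι rfl

include hL

theorem pull_transl {T : Over (Spec (CommRingCat.of k))} (x : T ⟶ A) :
    PicF.pullCl (transl A x).left (PicF.cl ((Scheme.Modules.pullback (fst A T).left).obj L)) =
      (pc hL (fst A T * (snd A T ≫ x)) : PicF.Cl (A ⊗ T).left) := by
  rw [val_pc']
  show PicF.pullCl (transl A x).left (PicF.pullCl (fst A T).left (PicF.cl L)) = _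
  rw [PicClLib.pullCl_comp, ← Over.comp_left, transl_fst]

/-- Equality of the classes gives a point. -/
theorem exists_pt_of_eq {T : Over (Spec (CommRingCat.of k))} {x : T ⟶ A}
    (h : pc hL (fst A T * (snd A T ≫ x)) = pc hL (fst A T)) : ∃ α : thetaPts A L T, IsOverPt α x := by
  have e : Nonempty ((Scheme.Modules.pullback (fst A T).left).obj L ≅
      (Scheme.Modules.pullback (transl A x).left).obj ((Scheme.Modules.pullback (fst A T).left).obj L)) := by
    refine (PicGrp.cl_eq_cl_iff _ _).1 ?_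
    exact (val_pc hL _).symm.trans ((congrArg Units.val h.symm).trans (pull_transl hL x).symm)
  let φ : thetaObj A L T ⟶ thetaObj A L T := ThetaCo.mk' (transl A x).left e.some.hom
  have hφ : ThetaCo.IsCart φ := by
    show IsIso e.some.hom
    infer_instance
  obtain ⟨α, hα⟩ := exists_point φ hφ (x := x) rfl
  exact ⟨α, by show α.1.hom.base = _; rw [hα]; rfl⟩

/-- A point gives equality of the classes. -/
theorem eq_of_pt {T : Over (Spec (CommRingCat.of k))} {α : thetaPts A L T} {x : T ⟶ A} (hα : IsOverPt α x) :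
    pc hL (fst A T * (snd A T ≫ x)) = pc hL (fst A T) := by
  haveI : IsIso (ThetaCo.fib α.1.hom) := ThetaPts.isCart_hom α
  refine Units.ext ?_
  rw [← pull_transl hL, val_pc]
  refine ((PicGrp.cl_eq_cl_iff _ _).2 ⟨asIso (ThetaCo.fib α.1.hom) ≪≫ ?_⟩).symm
  exact (Scheme.Modules.pullbackCongr hα).app _

theorem mumford_of_eq {T : Over (Spec (CommRingCat.of k))} {x : T ⟶ A}
    (h : pc hL (fst A T * (snd A T ≫ x)) = pc hL (fst A T)) : IsMumfordTriv A L x := by
  obtain ⟨D, hD, hDcl⟩ := inv_pc hL x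
  refine (mumford_iff_mum hL x).2 ⟨D, hD, ?_⟩
  rw [mum, h, mul_inv_cancel, _root_.one_mul, hDcl]
  show PicMul.pullHom (snd A T).left _ = _
  exact congrArg Units.val (show Units.map (PicMul.pullHom (snd A T).left : _ →* _) (pc hL x)⁻¹ =
    (pc hL (snd A T ≫ x))⁻¹ by rw [map_inv, pull_pc])

/-- A point of `K(L)` lifts locally. -/
theorem exists_local {T : Over (Spec (CommRingCat.of k))} {x : T ⟶ A} (h : IsMumfordTriv A L x) (t : T.left) :
    ∃ U : T.left.Opens, t ∈ U ∧ ∃ α : thetaPts A L (opn T U), IsOverPt α (inc U ≫ x) := by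
  obtain ⟨M, hM, hMx⟩ := (mumford_iff_mum hL x).1 h
  obtain ⟨D, hD, hDcl⟩ := inv_pc hL x
  obtain ⟨U, htU, ⟨e⟩⟩ := hM t
  obtain ⟨V, htV, ⟨e'⟩⟩ := PicClLib.isInvertible_pullback x.left hL t
  refine ⟨U ⊓ V, ⟨htU, htV⟩, exists_pt_of_eq hL ?_⟩
  let W := U ⊓ V
  let jW := inc W
  have triv : ∀ {N : T.left.Modules} {O : T.left.Opens}, W ≤ O → (N.restrict O.ι ≅ Coh.structureModule O.toScheme) →
      PicF.pullCl W.ι (PicF.cl N) = 1 := fun {N O} hle eO => by
    have h1 : PicF.pullCl O.ι (PicF.cl N) = 1 :=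
      (PicGrp.cl_eq_cl_iff _ _).2 ⟨((Scheme.Modules.restrictFunctorIsoPullback O.ι).app N).symm ≪≫ eO⟩
    rw [← T.left.homOfLE_ι hle, ← PicClLib.pullCl_comp, h1]
    exact PicMul.pullCl_one _
  have hm : Units.map (PicMul.pullHom (A ◁ jW).left : _ →* _) (mum hL x) = 1 := by
    refine Units.ext ?_
    show PicF.pullCl (A ◁ jW).left (mum hL x : PicF.Cl (A ⊗ T).left) = 1
    rw [← hMx, PicClLib.pullCl_comp, ← Over.comp_left, whiskerLeft_snd, Over.comp_left, ← PicClLib.pullCl_comp,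
      show PicF.pullCl jW.left (PicF.cl M) = 1 from triv inf_le_left e]
    exact PicMul.pullCl_one _
  rw [map_mum] at hm
  have hx : pc hL (snd A (opn T W) ≫ jW ≫ x) = 1 := by
    refine Units.ext ?_
    rw [val_pc', Over.comp_left, Over.comp_left, ← PicClLib.pullCl_comp, ← PicClLib.pullCl_comp,
      show PicF.pullCl jW.left (PicF.pullCl x.left (PicF.cl L)) = 1 from triv inf_le_right e']
    exact PicMul.pullCl_one _
  rw [mum, hx, inv_one, _root_.mul_one, mul_inv_eq_one] at hm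
  exact hm

/-- Local lifts put a point in `K(L)`. -/
theorem factors_of_local {K : Over (Spec (CommRingCat.of k))} {i : K ⟶ A} (hK : IsKL A L i)
    {T : Over (Spec (CommRingCat.of k))} {x : T ⟶ A}
    (h : ∀ t : T.left, ∃ U : T.left.Opens, t ∈ U ∧ ∃ α : thetaPts A L (opn T U), IsOverPt α (inc U ≫ x)) :
    ∃ y : T ⟶ K, y ≫ i = x := by
  choose U htU α hα using h
  have hy : ∀ t, ∃ y : opn T (U t) ⟶ K, y ≫ i = inc (U t) ≫ x := fun t =>
    (hK.univ _ _).1 (mumford_of_eq hL (eq_of_pt hL (hα t)))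
  choose y hy using hy
  haveI := hK.closed
  let 𝒰 := T.left.openCoverOfIsOpenCover U (IsOpenCover.mk (top_le_iff.1 fun t _ => Opens.mem_iSup.2 ⟨t, htU t⟩))
  have hyl : ∀ t, (y t).left ≫ i.left = (U t).ι ≫ x.left := fun t => congrArg (fun φ => φ.left) (hy t)
  let f : T.left ⟶ K.left := 𝒰.glueMorphisms (fun t => (y t).left) fun a b => by
    rw [← cancel_mono i.left]
    show (pullback.fst (U a).ι (U b).ι ≫ (y a).left) ≫ i.left = (pullback.snd (U a).ι (U b).ι ≫ (y b).left) ≫ i.left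
    rw [Category.assoc, Category.assoc, hyl, hyl, pullback.condition_assoc]
  have hf : f ≫ i.left = x.left := 𝒰.hom_ext _ _ fun t => by
    rw [Scheme.Cover.ι_glueMorphisms_assoc]
    exact hyl t
  exact ⟨Over.homMk f (by rw [← Over.w i, reassoc_of% hf, Over.w x]), Over.OverMorphism.ext hf⟩

end Groth.Agent.ThetaLift

namespace Groth.Agent.ThetaLift

open Groth.Agent Groth.Agent.H23 ThetaGrp ThetaPts ThetaScalar

variable {k : Type u} [Field k]

/-- Functions agreeing on a cover agree. -/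
theorem units_ext_of_cover {T : Over (Spec (CommRingCat.of k))} {c d : Γ(T.left, ⊤)ˣ}
    (h : ∀ t : T.left, ∃ U : T.left.Opens, t ∈ U ∧
      Units.map (inc U).left.appTop.hom.toMonoidHom c = Units.map (inc U).left.appTop.hom.toMonoidHom d) : c = d := by
  choose U htU hU using h
  refine Units.ext (TopCat.Sheaf.eq_of_locally_eq' T.left.sheaf (fun t => (U t).ι ''ᵁ ⊤) ⊤
    (fun t => homOfLE le_top) (fun t _ => Opens.mem_iSup.2 ⟨t, by rw [Scheme.Opens.ι_image_top]; exact htU t⟩)
    _ _ fun t => ?_)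
  exact congrArg Units.val (hU t)

variable {A : Over (Spec (CommRingCat.of k))} [GrpObj A] [IsCommMonObj A] [IsProper A.hom]
  [GeometricallyIntegral A.hom] {L : A.left.Modules} (hL : PicF.IsInvertible L)

include hL

/-- If every translation is in `K(L)`, the theta group is commutative. -/
theorem commute_of_isKL_id (hK : IsKL A L (𝟙 A)) {T : Over (Spec (CommRingCat.of k))} (β₁ β₂ : thetaPts A L T) :
    β₁ * β₂ = β₂ * β₁ := by
  let S₂ := A ⊗ A
  haveI : IsProper S₂.hom := inferInstanceAs (IsProper (pullback.fst A.hom A.hom ≫ A.hom))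
  have hlift : ∀ {U : Over (Spec (CommRingCat.of k))} (z : U ⟶ A), IsMumfordTriv A L z := fun z =>
    (hK.univ _ z).2 ⟨z, Category.comp_id z⟩
  have hcov : ∀ s : S₂.left, ∃ W : S₂.left.Opens, s ∈ W ∧ ∃ α β : thetaPts A L (opn S₂ W),
      IsOverPt α (inc W ≫ fst A A) ∧ IsOverPt β (inc W ≫ snd A A) := by
    intro s
    obtain ⟨U, hsU, α, hα⟩ := exists_local hL (hlift (fst A A)) s
    obtain ⟨V, hsV, β, hβ⟩ := exists_local hL (hlift (snd A A)) s
    let gU : opn S₂ (U ⊓ V) ⟶ opn S₂ U := Over.homMk (S₂.left.homOfLE (inf_le_left : U ⊓ V ≤ U)) (by simp)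
    let gV : opn S₂ (U ⊓ V) ⟶ opn S₂ V := Over.homMk (S₂.left.homOfLE (inf_le_right : U ⊓ V ≤ V)) (by simp)
    have hU : gU ≫ inc U = inc (U ⊓ V) := Over.OverMorphism.ext (S₂.left.homOfLE_ι (inf_le_left : U ⊓ V ≤ U))
    have hV : gV ≫ inc V = inc (U ⊓ V) := Over.OverMorphism.ext (S₂.left.homOfLE_ι (inf_le_right : U ⊓ V ≤ V))
    exact ⟨U ⊓ V, ⟨hsU, hsV⟩, bc gU α, bc gV β,
      by rw [← hU, Category.assoc]; exact isOverPt_bc gU hα, by rw [← hV, Category.assoc]; exact isOverPt_bc gV hβ⟩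
  choose W hsW α β hα hβ using hcov
  have hcm : ∀ {U : Over (Spec (CommRingCat.of k))} (s : S₂.left) (g : U ⟶ opn S₂ (W s)) (p q : thetaPts A L U),
      IsOverPt p (g ≫ inc (W s) ≫ fst A A) → IsOverPt q (g ≫ inc (W s) ≫ snd A A) →
      cm hL p q = Units.map g.left.appTop.hom.toMonoidHom (cm hL (α s) (β s)) := fun s g p q hp hq => by
    rw [cm_congr hL (isOverPt_bc g (hα s)) hp (isOverPt_bc g (hβ s)) hq, cm_bc]
  let c : ∀ s, Γ(S₂.left, W s) := fun s => (W s).topIso.hom (cm hL (α s) (β s)).1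
  obtain ⟨C, hC, -⟩ := TopCat.Sheaf.existsUnique_gluing' S₂.left.sheaf W ⊤ (fun s => homOfLE le_top)
    (fun s _ => Opens.mem_iSup.2 ⟨s, hsW s⟩) c fun a b => by
      let ga : opn S₂ (W a ⊓ W b) ⟶ opn S₂ (W a) := Over.homMk (S₂.left.homOfLE (inf_le_left : W a ⊓ W b ≤ W a)) (by simp)
      let gb : opn S₂ (W a ⊓ W b) ⟶ opn S₂ (W b) := Over.homMk (S₂.left.homOfLE (inf_le_right : W a ⊓ W b ≤ W b)) (by simp)
      have hab : ga ≫ inc (W a) = gb ≫ inc (W b) :=
        Over.OverMorphism.ext ((S₂.left.homOfLE_ι (inf_le_left : W a ⊓ W b ≤ W a)).trans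
          (S₂.left.homOfLE_ι (inf_le_right : W a ⊓ W b ≤ W b)).symm)
      have h1 := hcm a ga (bc ga (α a)) (bc ga (β a)) (isOverPt_bc ga (hα a)) (isOverPt_bc ga (hβ a))
      have h2 := hcm b gb (bc ga (α a)) (bc ga (β a)) (by rw [← reassoc_of% hab]; exact isOverPt_bc ga (hα a))
        (by rw [← reassoc_of% hab]; exact isOverPt_bc ga (hβ a))
      have h3 := congrArg (fun z => (W a ⊓ W b).topIso.hom (Units.val z)) (h1.symm.trans h2)
      change ((S₂.left.homOfLE (inf_le_left : W a ⊓ W b ≤ W a)).appTop ≫ (W a ⊓ W b).topIso.hom) _ =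
        ((S₂.left.homOfLE (inf_le_right : W a ⊓ W b ≤ W b)).appTop ≫ (W a ⊓ W b).topIso.hom) _ at h3
      simp only [Scheme.Opens.topIso_hom, Scheme.homOfLE_appTop, ← Functor.map_comp] at h3
      show (S₂.left.presheaf.map _).hom ((S₂.left.presheaf.map _).hom _) =
        (S₂.left.presheaf.map _).hom ((S₂.left.presheaf.map _).hom _)
      rw [← CommRingCat.comp_apply, ← CommRingCat.comp_apply, ← Functor.map_comp, ← Functor.map_comp]
      exact h3
  have hbij : Function.Bijective S₂.hom.appTop :=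
    CubeField.bijective_appTop_prod A A (Rigid.bijective_appTop A.hom) (Rigid.bijective_appTop A.hom)
  obtain ⟨a, ha⟩ := hbij.2 C
  have hW : ∀ s, (cm hL (α s) (β s)).1 = ((W s).ι ≫ S₂.hom).appTop a := by
    intro s
    apply (ConcreteCategory.bijective_of_isIso (W s).topIso.hom).1
    show c s = _
    rw [← hC s, ← ha]
    show S₂.left.presheaf.map _ (S₂.hom.appTop a) = ((W s).ι.appTop ≫ (W s).topIso.hom) (S₂.hom.appTop a)
    rw [Scheme.Opens.ι_appTop, Scheme.Opens.topIso_hom, ← Functor.map_comp]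
    rfl
  have ha1 : a = 1 := by
    let o : 𝟙_ (Over (Spec (CommRingCat.of k))) ⟶ S₂ := lift (1 : 𝟙_ _ ⟶ A) 1
    let s₀ := o.left (IsLocalRing.closedPoint k)
    haveI : Subsingleton ↥(𝟙_ (Over (Spec (CommRingCat.of k)))).left :=
      inferInstanceAs (Subsingleton (PrimeSpectrum k))
    have hr : Set.range o.left ⊆ Set.range (W s₀).ι := by
      rw [Scheme.Opens.range_ι]
      rintro _ ⟨z, rfl⟩
      rw [Subsingleton.elim z (IsLocalRing.closedPoint k)]
      exact hsW s₀
    let o' : 𝟙_ (Over (Spec (CommRingCat.of k))) ⟶ opn S₂ (W s₀) :=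
      Over.homMk (IsOpenImmersion.lift (W s₀).ι o.left hr) (by
        show IsOpenImmersion.lift (W s₀).ι o.left hr ≫ (W s₀).ι ≫ S₂.hom = _
        rw [IsOpenImmersion.lift_fac_assoc]
        exact Over.w o)
    have hoo : o' ≫ inc (W s₀) = o := Over.OverMorphism.ext (IsOpenImmersion.lift_fac _ _ _)
    have h1 := hcm s₀ o' 1 1 (by rw [← Category.assoc, hoo]; simpa [o] using isOverPt_one _)
      (by rw [← Category.assoc, hoo]; simpa [o] using isOverPt_one _)
    rw [(cm_eq_one_iff hL _ _).2 rfl] at h1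
    have h2 := congrArg Units.val h1
    change (1 : Γ((𝟙_ (Over (Spec (CommRingCat.of k)))).left, ⊤)) = o'.left.appTop (cm hL (α s₀) (β s₀)).1 at h2
    rw [hW] at h2
    change 1 = ((o'.left ≫ (W s₀).ι ≫ S₂.hom).appTop) a at h2
    rw [show o'.left ≫ (W s₀).ι ≫ S₂.hom = 𝟙 _ from Over.w o'] at h2
    exact h2.symm
  let z : T ⟶ S₂ := lift (pt β₁) (pt β₂)
  rw [← cm_eq_one_iff hL]
  refine units_ext_of_cover fun t => ⟨z.left ⁻¹ᵁ W (z.left t), hsW _, ?_⟩
  let s := z.left t
  let g : opn T (z.left ⁻¹ᵁ W s) ⟶ opn S₂ (W s) := Over.homMk (z.left.resLE (W s) _ le_rfl) (by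
    show z.left.resLE (W s) _ le_rfl ≫ (W s).ι ≫ S₂.hom = _
    rw [Scheme.Hom.resLE_comp_ι_assoc, Over.w z]
    rfl)
  have hg : g ≫ inc (W s) = inc (z.left ⁻¹ᵁ W s) ≫ z := Over.OverMorphism.ext (Scheme.Hom.resLE_comp_ι _ _)
  rw [map_one, ← cm_bc hL, hcm s g _ _ (by
      rw [← Category.assoc, hg, Category.assoc, lift_fst]; exact isOverPt_bc _ (isOverPt_pt β₁)) (by
      rw [← Category.assoc, hg, Category.assoc, lift_snd]; exact isOverPt_bc _ (isOverPt_pt β₂))]
  refine Units.ext ?_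
  show g.left.appTop (cm hL (α s) (β s)).1 = 1
  rw [hW, ha1, map_one, map_one]

end Groth.Agent.ThetaLift
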