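import Groth.Agent.Lib.ThetaCo

/-!
Points of theta groups: base change and functoriality in the module.
-/

set_option autoImplicit false
set_option linter.style.haveILetI false
set_option linter.unusedSectionVars false
set_option backward.isDefEq.respectTransparency false
set_option backward.isDefEq.respectTransparency.types false

universe u

open CategoryTheory CategoryTheory.Limits MonoidalCategory CartesianMonoidalCategory MonObj AlgebraicGeometry
open Pseudofunctor Bicategory

noncomputable section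

namespace Groth.Agent.ThetaPts

open Groth.Agent ThetaGrp

variable {S : Scheme.{u}} {A : Over S} [GrpObj A] {L : A.left.Modules}

instance isIso_transl {T : Over S} (x : T ⟶ A) : IsIso (transl A x).left := by
  refine ⟨(transl A x⁻¹).left, ?_, ?_⟩ <;>
    rw [← Over.comp_left, ← transl_mul] <;> simp [transl_one]

theorem transl_left_inj {T : Over S} {x y : T ⟶ A} (h : (transl A x).left = (transl A y).left) : x = y := by
  have e := congrArg (fun φ => lift (1 : T ⟶ A) (𝟙 T) ≫ φ ≫ fst A T) (Over.OverMorphism.ext h)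
  simpa [MonObj.comp_mul] using e

@[simp]
theorem transl_fst_assoc {T X : Over S} (x : T ⟶ A) (φ : A ⟶ X) :
    transl A x ≫ fst A T ≫ φ = (fst A T * (snd A T ≫ x)) ≫ φ := by rw [← Category.assoc, transl_fst]

@[simp]
theorem transl_snd_assoc {T X : Over S} (x : T ⟶ A) (φ : T ⟶ X) :
    transl A x ≫ snd A T ≫ φ = snd A T ≫ φ := by rw [← Category.assoc, transl_snd]

theorem whiskerLeft_transl {T T' : Over S} (g : T' ⟶ T) (x : T ⟶ A) :
    transl A (g ≫ x) ≫ (A ◁ g) = (A ◁ g) ≫ transl A x := by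
  apply CartesianMonoidalCategory.hom_ext <;> simp [MonObj.comp_mul]

theorem isOverPt_unique {T : Over S} {α : thetaPts A L T} {x y : T ⟶ A} (hx : IsOverPt α x) (hy : IsOverPt α y) :
    x = y :=
  transl_left_inj (hx.symm.trans hy)

/-- The translation under a point. -/
def pt {T : Over S} (α : thetaPts A L T) : T ⟶ A := α.2.choose

theorem isOverPt_pt {T : Over S} (α : thetaPts A L T) : IsOverPt α (pt α) := α.2.choose_spec

theorem pt_eq {T : Over S} {α : thetaPts A L T} {x : T ⟶ A} (hx : IsOverPt α x) : pt α = x :=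
  isOverPt_unique (isOverPt_pt α) hx

theorem isOverPt_one (T : Over S) : IsOverPt (1 : thetaPts A L T) (1 : T ⟶ A) := by
  show _ = (transl A 1).left
  rw [transl_one]
  rfl

theorem isOverPt_mul {T : Over S} {α β : thetaPts A L T} {x y : T ⟶ A} (hx : IsOverPt α x) (hy : IsOverPt β y) :
    IsOverPt (α * β) (y * x) := by
  show (β.1.hom ≫ α.1.hom).base = (transl A (y * x)).left
  rw [transl_mul, Over.comp_left, ← hx, ← hy]
  rfl

theorem isOverPt_inv {T : Over S} {α : thetaPts A L T} {x : T ⟶ A} (hx : IsOverPt α x) : IsOverPt α⁻¹ x⁻¹ := by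
  have h := isOverPt_unique (isOverPt_mul hx (isOverPt_pt α⁻¹)) (by rw [mul_inv_cancel]; exact isOverPt_one T)
  exact eq_inv_of_mul_eq_one_left h ▸ isOverPt_pt α⁻¹

theorem hom_inj {T : Over S} {α β : thetaPts A L T} (h : α.1.hom = β.1.hom) : α = β :=
  Subtype.ext (Iso.ext h)

theorem isCart_hom {T : Over S} (α : thetaPts A L T) : ThetaCo.IsCart α.1.hom := ThetaCo.isCart_hom α.1

theorem exists_point {T : Over S} (f : thetaObj A L T ⟶ thetaObj A L T) (hf : ThetaCo.IsCart f) {x : T ⟶ A}
    (hx : f.base = (transl A x).left) : ∃ α : thetaPts A L T, α.1.hom = f := by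
  haveI : IsIso f.base := by rw [hx]; exact isIso_transl x
  haveI := ThetaCo.isIso_of_isCart f hf
  exact ⟨⟨asIso f, x, hx⟩, rfl⟩

variable (A L)

/-- The projection of `(A ×_S T, L_T)` to `(A, L)`. -/
def proj (T : Over S) : thetaObj A L T ⟶ (⟨A.left, L⟩ : ThetaCo.Obj.{u}) :=
  ThetaCo.mk' (fst A T).left (𝟙 _)

theorem isCart_proj (T : Over S) : ThetaCo.IsCart (proj A L T) := by
  unfold ThetaCo.IsCart
  rw [proj, ThetaCo.fib_mk']
  infer_instance

theorem fib_bcLift {T G : Over S} (g : T ⟶ G) : ThetaCo.fib (bcLift A L g) =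
    (Scheme.Modules.pullbackCongr (by rw [← Over.comp_left, whiskerLeft_fst])).hom.app L ≫
      (Scheme.Modules.pullbackComp (A ◁ g).left (fst A G).left).inv.app L := rfl

theorem bcLift_base {T G : Over S} (g : T ⟶ G) : (bcLift A L g).base = (A ◁ g).left := rfl

theorem isCart_bcLift {T G : Over S} (g : T ⟶ G) : ThetaCo.IsCart (bcLift A L g) := by
  unfold ThetaCo.IsCart
  rw [fib_bcLift]
  infer_instance

theorem bcLift_proj {T G : Over S} (g : T ⟶ G) : bcLift A L g ≫ proj A L G = proj A L T := by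
  have h : (bcLift A L g ≫ proj A L G).base = (proj A L T).base := by
    show (A ◁ g).left ≫ (fst A G).left = (fst A T).left
    rw [← Over.comp_left, whiskerLeft_fst]
  refine ThetaCo.ext' h ?_
  rw [ThetaCo.comp_fib, show ThetaCo.fib (proj A L G) = 𝟙 _ from rfl, show ThetaCo.fib (proj A L T) = 𝟙 _ from rfl,
    fib_bcLift]
  simp only [bcLift_base, CategoryTheory.Functor.map_id, Category.id_comp, Category.assoc]
  erw [Iso.inv_hom_id_app, Category.comp_id]

theorem bcLift_comp {T T' G : Over S} (g : T ⟶ G) (t : T' ⟶ T) :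
    bcLift A L t ≫ bcLift A L g = bcLift A L (t ≫ g) := by
  refine ThetaCo.cancel (isCart_proj A L G) ?_ ?_
  · show (A ◁ t).left ≫ (A ◁ g).left = (A ◁ (t ≫ g)).left
    rw [← Over.comp_left, MonoidalCategory.whiskerLeft_comp]
  · rw [Category.assoc, bcLift_proj, bcLift_proj, bcLift_proj]

theorem bcLift_id (T : Over S) : bcLift A L (𝟙 T) = 𝟙 (thetaObj A L T) := by
  refine ThetaCo.cancel (isCart_proj A L T) ?_ ?_
  · show (A ◁ 𝟙 T).left = _
    rw [MonoidalCategory.whiskerLeft_id]
    rfl
  · rw [bcLift_proj, Category.id_comp]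

variable {A L}

theorem existsUnique_bc {T G : Over S} (g : T ⟶ G) (u : thetaPts A L G) :
    ∃! β : thetaPts A L T, IsBaseChange β g u := by
  have hbase : (transl A (g ≫ pt u)).left ≫ (bcLift A L g).base = (bcLift A L g ≫ u.1.hom).base := by
    show _ ≫ (A ◁ g).left = (A ◁ g).left ≫ u.1.hom.base
    rw [isOverPt_pt u, ← Over.comp_left, ← Over.comp_left, whiskerLeft_transl]
  obtain ⟨f, ⟨hf, hfg⟩, huniq⟩ := ThetaCo.existsUnique_lift (isCart_bcLift A L g) (bcLift A L g ≫ u.1.hom) _ hbase
  obtain ⟨β, hβ⟩ := exists_point f (ThetaCo.isCart_of_comp (isCart_bcLift A L g)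
    (ThetaCo.isCart_congr hfg (ThetaCo.isCart_comp (isCart_bcLift A L g) (isCart_hom u)))) hf
  refine ⟨β, by show β.1.hom ≫ _ = _; rw [hβ, hfg], fun β' hβ' => hom_inj ?_⟩
  rw [hβ]
  refine huniq _ ⟨?_, hβ'⟩
  have h' := congrArg (fun φ => φ.base) hβ'
  show β'.1.hom.base = _
  rw [isOverPt_pt β']
  refine congrArg (fun z => (transl A z).left) ?_
  have e : transl A (pt β') ≫ (A ◁ g) = (A ◁ g) ≫ transl A (pt u) := Over.OverMorphism.ext (by
    rw [Over.comp_left, Over.comp_left, ← isOverPt_pt β', ← isOverPt_pt u]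
    exact h')
  have := congrArg (fun φ => lift (1 : T ⟶ A) (𝟙 T) ≫ φ ≫ fst A G) e
  simpa [MonObj.comp_mul] using this

/-- Base change of points. -/
def bc {T G : Over S} (g : T ⟶ G) (u : thetaPts A L G) : thetaPts A L T := (existsUnique_bc g u).exists.choose

theorem isBaseChange_bc {T G : Over S} (g : T ⟶ G) (u : thetaPts A L G) : IsBaseChange (bc g u) g u :=
  (existsUnique_bc g u).exists.choose_spec

theorem bc_eq {T G : Over S} {g : T ⟶ G} {u : thetaPts A L G} {β : thetaPts A L T} (h : IsBaseChange β g u) :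
    bc g u = β :=
  (existsUnique_bc g u).unique (isBaseChange_bc g u) h

theorem isOverPt_bc {T G : Over S} (g : T ⟶ G) {u : thetaPts A L G} {x : G ⟶ A} (hx : IsOverPt u x) :
    IsOverPt (bc g u) (g ≫ x) := by
  have h' := congrArg (fun φ => φ.base) (isBaseChange_bc g u)
  have e : transl A (pt (bc g u)) ≫ (A ◁ g) = (A ◁ g) ≫ transl A x := Over.OverMorphism.ext (by
    rw [Over.comp_left, Over.comp_left, ← isOverPt_pt, ← hx]
    exact h')
  have := congrArg (fun φ => lift (1 : T ⟶ A) (𝟙 T) ≫ φ ≫ fst A G) e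
  have h2 : pt (bc g u) = g ≫ x := by simpa [MonObj.comp_mul] using this
  exact h2 ▸ isOverPt_pt _

theorem bc_mul {T G : Over S} (g : T ⟶ G) (u v : thetaPts A L G) : bc g (u * v) = bc g u * bc g v := by
  refine bc_eq ?_
  show ((bc g v).1.hom ≫ (bc g u).1.hom) ≫ _ = _ ≫ (v.1.hom ≫ u.1.hom)
  rw [Category.assoc, isBaseChange_bc g u, ← Category.assoc, isBaseChange_bc g v, Category.assoc]

/-- Base change as a homomorphism. -/
def bcHom {T G : Over S} (g : T ⟶ G) : thetaPts A L G →* thetaPts A L T := MonoidHom.mk' (bc g) (bc_mul g)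

theorem bcHom_apply {T G : Over S} (g : T ⟶ G) (u : thetaPts A L G) : bcHom g u = bc g u := rfl

theorem bc_one {T G : Over S} (g : T ⟶ G) : bc g (1 : thetaPts A L G) = 1 := map_one (bcHom g)

theorem bc_inv {T G : Over S} (g : T ⟶ G) (u : thetaPts A L G) : bc g u⁻¹ = (bc g u)⁻¹ := map_inv (bcHom g) u

theorem bc_bc {T T' G : Over S} (t : T' ⟶ T) (g : T ⟶ G) (u : thetaPts A L G) : bc t (bc g u) = bc (t ≫ g) u := by
  refine (bc_eq ?_).symm
  show (bc t (bc g u)).1.hom ≫ bcLift A L (t ≫ g) = bcLift A L (t ≫ g) ≫ u.1.hom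
  rw [← bcLift_comp, ← Category.assoc, isBaseChange_bc t, Category.assoc, isBaseChange_bc g, Category.assoc]

theorem bc_id {G : Over S} (u : thetaPts A L G) : bc (𝟙 G) u = u := by
  refine bc_eq ?_
  show _ ≫ bcLift A L (𝟙 G) = bcLift A L (𝟙 G) ≫ _
  rw [bcLift_id, Category.comp_id, Category.id_comp]

section Functorial

variable {B : Over S} [GrpObj B] (f : A ⟶ B) [IsMonHom f] {M : B.left.Modules}

/-- The map of pairs along a homomorphism. -/
def overMap (e : L ≅ (Scheme.Modules.pullback f.left).obj M) :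
    (⟨A.left, L⟩ : ThetaCo.Obj.{u}) ⟶ ⟨B.left, M⟩ :=
  ThetaCo.mk' f.left e.hom

theorem isCart_overMap (e : L ≅ (Scheme.Modules.pullback f.left).obj M) : ThetaCo.IsCart (overMap f e) := by
  unfold ThetaCo.IsCart
  show IsIso e.hom
  infer_instance

variable (e : L ≅ (Scheme.Modules.pullback f.left).obj M)

theorem existsUnique_funMap (T : Over S) :
    ∃! q : thetaObj A L T ⟶ thetaObj B M T,
      q.base = (f ▷ T).left ∧ q ≫ proj B M T = proj A L T ≫ overMap f e :=
  ThetaCo.existsUnique_lift (isCart_proj B M T) _ _ (by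
    show (f ▷ T).left ≫ (fst B T).left = (fst A T).left ≫ f.left
    rw [← Over.comp_left, ← Over.comp_left, whiskerRight_fst])

/-- The map `(A ×_S T, f^*M_T) ⟶ (B ×_S T, M_T)`. -/
def funMap (T : Over S) : thetaObj A L T ⟶ thetaObj B M T :=
  (existsUnique_funMap f e T).exists.choose

theorem funMap_base (T : Over S) : (funMap f e T).base = (f ▷ T).left :=
  (existsUnique_funMap f e T).exists.choose_spec.1

theorem funMap_proj (T : Over S) : funMap f e T ≫ proj B M T = proj A L T ≫ overMap f e :=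
  (existsUnique_funMap f e T).exists.choose_spec.2

theorem isCart_funMap (T : Over S) : ThetaCo.IsCart (funMap f e T) :=
  ThetaCo.isCart_of_comp (isCart_proj B M T)
    (ThetaCo.isCart_congr (funMap_proj f e T) (ThetaCo.isCart_comp (isCart_proj _ _ T) (isCart_overMap f e)))

theorem bcLift_funMap {T G : Over S} (g : T ⟶ G) :
    bcLift A L g ≫ funMap f e G = funMap f e T ≫ bcLift B M g := by
  refine ThetaCo.cancel (isCart_proj B M G) ?_ ?_
  · show (A ◁ g).left ≫ (funMap f e G).base = (funMap f e T).base ≫ (B ◁ g).left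
    rw [funMap_base, funMap_base, ← Over.comp_left, ← Over.comp_left, MonoidalCategory.whisker_exchange]
  · rw [Category.assoc, funMap_proj, ← Category.assoc, bcLift_proj, Category.assoc, bcLift_proj, funMap_proj]

theorem whiskerRight_transl {T : Over S} (x : T ⟶ A) :
    transl A x ≫ (f ▷ T) = (f ▷ T) ≫ transl B (x ≫ f) := by
  apply CartesianMonoidalCategory.hom_ext <;> simp [MonObj.comp_mul, MonObj.mul_comp]

/-- Points related through the map. -/
def Rel {T : Over S} (α : thetaPts A L T) (β : thetaPts B M T) : Prop :=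
  α.1.hom ≫ funMap f e T = funMap f e T ≫ β.1.hom

theorem existsUnique_rel {T : Over S} {β : thetaPts B M T} {x : T ⟶ A} (hβ : IsOverPt β (x ≫ f)) :
    ∃! α : thetaPts A L T, IsOverPt α x ∧ Rel f e α β := by
  obtain ⟨h, ⟨hh, hhq⟩, huniq⟩ := ThetaCo.existsUnique_lift (isCart_funMap f e T)
    (funMap f e T ≫ β.1.hom) (transl A x).left (by
      show _ ≫ (funMap f e T).base = (funMap f e T).base ≫ β.1.hom.base
      rw [funMap_base, hβ, ← Over.comp_left, ← Over.comp_left, whiskerRight_transl])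
  obtain ⟨α, hα⟩ := exists_point h (ThetaCo.isCart_of_comp (isCart_funMap f e T)
    (ThetaCo.isCart_congr hhq (ThetaCo.isCart_comp (isCart_funMap f e T) (isCart_hom β)))) hh
  refine ⟨α, ⟨by unfold IsOverPt; rw [hα, hh], by unfold Rel; rw [hα, hhq]⟩, fun α' hα' => hom_inj ?_⟩
  rw [hα]
  exact huniq _ ⟨hα'.1, hα'.2⟩

theorem rel_mul {T : Over S} {α α' : thetaPts A L T}
    {β β' : thetaPts B M T} (h : Rel f e α β) (h' : Rel f e α' β') : Rel f e (α * α') (β * β') := by
  show (α'.1.hom ≫ α.1.hom) ≫ _ = _ ≫ (β'.1.hom ≫ β.1.hom)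
  unfold Rel at h h'
  rw [Category.assoc, h, ← Category.assoc, h', Category.assoc]

theorem rel_one (T : Over S) : Rel f e (1 : thetaPts A L T) 1 := by
  show 𝟙 _ ≫ _ = _ ≫ 𝟙 _
  rw [Category.id_comp, Category.comp_id]

theorem rel_inv {T : Over S} {α : thetaPts A L T}
    {β : thetaPts B M T} (h : Rel f e α β) : Rel f e α⁻¹ β⁻¹ := by
  show α.1.inv ≫ _ = _ ≫ β.1.inv
  unfold Rel at h
  rw [Iso.inv_comp_eq, ← Category.assoc, h, Category.assoc, Iso.hom_inv_id, Category.comp_id]

theorem rel_bc {T G : Over S} (g : T ⟶ G) {α : thetaPts A L G}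
    {β : thetaPts B M G} (h : Rel f e α β) {x : G ⟶ A} (hx : IsOverPt α x) : Rel f e (bc g α) (bc g β) := by
  refine ThetaCo.cancel (isCart_bcLift B M g) ?_ ?_
  · show (bc g α).1.hom.base ≫ (funMap f e T).base = (funMap f e T).base ≫ (bc g β).1.hom.base
    rw [funMap_base, isOverPt_bc g hx, isOverPt_bc g (isOverPt_pt β), ← Over.comp_left, ← Over.comp_left,
      whiskerRight_transl, Category.assoc g x f]
    have e₁ := congrArg (fun φ => φ.base) h
    have e' : transl A x ≫ (f ▷ G) = (f ▷ G) ≫ transl B (pt β) := Over.OverMorphism.ext (by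
      rw [Over.comp_left, Over.comp_left, ← hx, ← isOverPt_pt β, ← funMap_base f e G]
      exact e₁)
    have e2 := congrArg (fun φ => lift (1 : G ⟶ A) (𝟙 G) ≫ φ ≫ fst B G) e'
    simp [MonObj.comp_mul, MonObj.mul_comp, MonObj.one_comp] at e2
    rw [e2]
  · have h1 := isBaseChange_bc g α
    have h2 := isBaseChange_bc g β
    unfold ThetaGrp.IsBaseChange at h1 h2
    unfold Rel at h
    rw [Category.assoc, ← bcLift_funMap, ← Category.assoc, h1, Category.assoc, h, ← Category.assoc,
      bcLift_funMap, Category.assoc, Category.assoc, h2]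

end Functorial

end Groth.Agent.ThetaPts
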