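import Groth.Prelude.Def_GmPts
import Mathlib.AlgebraicGeometry.Sites.Fpqc
import Mathlib.CategoryTheory.Sites.Subcanonical

/-!
Units descend along jointly surjective flat families locally of finite presentation; pulling back units to points.
-/

set_option autoImplicit false
set_option backward.isDefEq.respectTransparency false
set_option backward.isDefEq.respectTransparency.types false

universe u

open CategoryTheory CategoryTheory.Limits AlgebraicGeometry TopologicalSpace Opposite CartesianMonoidalCategory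
open scoped CategoryTheory.MonObj

noncomputable section

namespace Groth.Agent.UnitDescent

variable {X Y Z W : Scheme.{u}}

/-- Units pulled back along a morphism. -/
abbrev uP (x : Z ⟶ X) : Γ(X, ⊤)ˣ →* Γ(Z, ⊤)ˣ := Units.map x.appTop.hom.toMonoidHom

/-- Units over an open pulled back along a morphism landing in it. -/
def ev (x : Z ⟶ X) {U : X.Opens} (h : (⊤ : Z.Opens) ≤ x ⁻¹ᵁ U) : Γ(X, U)ˣ →* Γ(Z, ⊤)ˣ :=
  Units.map (x.appLE U ⊤ h).hom.toMonoidHom

theorem uP_comp (y : W ⟶ Z) (x : Z ⟶ X) (g : Γ(X, ⊤)ˣ) : uP (y ≫ x) g = uP y (uP x g) := Units.ext rfl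

theorem uP_id (g : Γ(X, ⊤)ˣ) : uP (𝟙 X) g = g := Units.ext rfl

theorem ev_top (x : Z ⟶ X) (h : (⊤ : Z.Opens) ≤ x ⁻¹ᵁ ⊤) (g : Γ(X, ⊤)ˣ) : ev x h g = uP x g :=
  Units.ext (by
    show (x.appLE ⊤ ⊤ h).hom g = x.appTop.hom g
    rw [Scheme.Hom.appTop, Scheme.Hom.app_eq_appLE]
    rfl)

theorem uP_ev (y : W ⟶ Z) (x : Z ⟶ X) {U : X.Opens} (h : (⊤ : Z.Opens) ≤ x ⁻¹ᵁ U) (g : Γ(X, U)ˣ) :
    uP y (ev x h g) = ev (y ≫ x) (fun _ _ => h trivial) g :=
  Units.ext (by
    show y.appTop.hom ((x.appLE U ⊤ h).hom g) = ((y ≫ x).appLE U ⊤ _).hom g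
    rw [Scheme.Hom.appTop, Scheme.Hom.app_eq_appLE]
    exact ConcreteCategory.congr_hom (Scheme.Hom.appLE_comp_appLE y x U ⊤ ⊤ h (fun z _ => trivial)) (g : Γ(X, U)))

theorem ev_res (x : Z ⟶ X) {U V : X.Opens} (e : V ≤ U) (h : (⊤ : Z.Opens) ≤ x ⁻¹ᵁ V) (g : Γ(X, U)ˣ) :
    ev x h (Units.map (X.presheaf.map (homOfLE e).op).hom.toMonoidHom g) = ev x (h.trans (x.preimage_mono e)) g :=
  Units.ext (ConcreteCategory.congr_hom (Scheme.Hom.map_appLE x h (homOfLE e).op) (g : Γ(X, U)))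

theorem ev_congr {x x' : Z ⟶ X} (e : x = x') {U : X.Opens} (h : (⊤ : Z.Opens) ≤ x ⁻¹ᵁ U) (g : Γ(X, U)ˣ) :
    ev x h g = ev x' (e ▸ h) g := by subst e; rfl

variable {I : Type u} {Q : I → Scheme.{u}} (g : ∀ i, Q i ⟶ Y) [∀ i, Flat (g i)]
  [∀ i, LocallyOfFinitePresentation (g i)] (hcov : ∀ y : Y, ∃ i q, g i q = y)

include hcov

theorem mem_fppf : Presieve.ofArrows Q g ∈ Scheme.fppfPrecoverage Y :=
  (Scheme.ofArrows_mem_precoverage_iff _).2 ⟨fun y => (hcov y).imp fun _ ⟨q, hq⟩ => ⟨q, hq⟩,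
    fun _ => ⟨inferInstance, inferInstance⟩⟩

theorem hom_ext {K : Scheme.{u}} {a b : Y ⟶ K} (h : ∀ i, g i ≫ a = g i ≫ b) : a = b :=
  ((GrothendieckTopology.Subcanonical.isSheaf_of_isRepresentable
    (J := Scheme.fppfTopology) (yoneda.obj K)).isSheafFor _
      (Precoverage.generate_mem_toGrothendieck (mem_fppf g hcov))).isSeparatedFor.ext fun _ v hv => by
    obtain ⟨i⟩ := hv
    exact h i

/-- Units agreeing on the covering are equal. -/
theorem eq_of_uP {s t : Γ(Y, ⊤)ˣ} (h : ∀ i, uP (g i) s = uP (g i) t) : s = t := by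
  refine (GmPts.equiv (S := Y) (Over.mk (𝟙 Y))).symm.injective (Over.OverMorphism.ext (hom_ext g hcov fun i => ?_))
  let a : Over.mk (g i) ⟶ Over.mk (𝟙 Y) := Over.homMk (g i) (Category.comp_id _)
  exact congrArg CommaMorphism.left (show a ≫ GmPts.ptOfUnit s = a ≫ GmPts.ptOfUnit t from
    (GmPts.equiv (S := Y) (Over.mk (g i))).injective (by
      show GmPts.unitOfPt _ = GmPts.unitOfPt _
      rw [GmPts.unitOfPt_comp, GmPts.unitOfPt_comp, GmPts.unitOfPt_ptOfUnit, GmPts.unitOfPt_ptOfUnit]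
      exact h i))

/-- Compatible units on the covering descend. -/
theorem exists_unit (r : ∀ i, Γ(Q i, ⊤)ˣ)
    (hr : ∀ i j (W : Scheme.{u}) (a : W ⟶ Q i) (b : W ⟶ Q j), a ≫ g i = b ≫ g j → uP a (r i) = uP b (r j)) :
    ∃ s : Γ(Y, ⊤)ˣ, ∀ i, uP (g i) s = r i := by
  let K := Red.Gm Y
  let p : ∀ i, Over.mk (g i) ⟶ K := fun i => GmPts.ptOfUnit (r i)
  obtain ⟨z, hz, -⟩ := (Presieve.isSheafFor_arrows_iff (yoneda.obj K.left) g).1
    (((GrothendieckTopology.Subcanonical.isSheaf_of_isRepresentable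
      (J := Scheme.fppfTopology) (yoneda.obj K.left)).isSheafFor _
        (Precoverage.generate_mem_toGrothendieck (mem_fppf g hcov)))) (fun i => (p i).left) fun i j W a b hab => by
    let ā : Over.mk (a ≫ g i) ⟶ Over.mk (g i) := Over.homMk a
    let b' : Over.mk (a ≫ g i) ⟶ Over.mk (g j) := Over.homMk b hab.symm
    exact congrArg CommaMorphism.left (show ā ≫ p i = b' ≫ p j from
      (GmPts.equiv (S := Y) (Over.mk (a ≫ g i))).injective (by
        show GmPts.unitOfPt _ = GmPts.unitOfPt _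
        rw [GmPts.unitOfPt_comp, GmPts.unitOfPt_comp, GmPts.unitOfPt_ptOfUnit, GmPts.unitOfPt_ptOfUnit]
        exact hr i j W a b hab))
  let t : Over.mk (𝟙 Y) ⟶ K := Over.homMk z (hom_ext g hcov fun i => by
    rw [← Category.assoc]
    show (g i ≫ z) ≫ K.hom = g i ≫ 𝟙 Y
    rw [show g i ≫ z = (p i).left from hz i, Over.w (p i)]
    exact (Category.comp_id _).symm)
  refine ⟨GmPts.unitOfPt t, fun i => ?_⟩
  let a : Over.mk (g i) ⟶ Over.mk (𝟙 Y) := Over.homMk (g i) (Category.comp_id _)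
  have h : a ≫ t = p i := Over.OverMorphism.ext (hz i)
  calc uP (g i) (GmPts.unitOfPt t) = GmPts.unitOfPt (a ≫ t) := (GmPts.unitOfPt_comp a t).symm
    _ = r i := by rw [h]; exact GmPts.unitOfPt_ptOfUnit _

end Groth.Agent.UnitDescent
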