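import Groth.Agent.Lib.ThetaGlue
import Groth.Agent.Lib.ThetaLift
import Groth.Agent.H23.RepCharts
import Groth.Agent.GrpSchLib.Coincidence
import Groth.Agent.Lib.UnitDescent
import Groth.Prelude.Def_GmPts

/-!
The theta group is representable.
-/

set_option autoImplicit false
set_option linter.style.haveILetI false
set_option linter.unusedSectionVars false
set_option backward.isDefEq.respectTransparency false
set_option backward.isDefEq.respectTransparency.types false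
set_option maxHeartbeats 800000

universe u

open CategoryTheory CategoryTheory.Limits MonoidalCategory CartesianMonoidalCategory MonObj AlgebraicGeometry TopologicalSpace
open Pseudofunctor Bicategory Opposite

noncomputable section

namespace Groth.Agent.ThetaRep

open Groth.Agent Groth.Agent.H23 Groth.Agent.AVKLExist ThetaGrp ThetaPts ThetaScalar ThetaLift

variable {k : Type u} [Field k] {A : Over (Spec (CommRingCat.of k))} [GrpObj A] [IsCommMonObj A] [IsProper A.hom]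
  [GeometricallyIntegral A.hom] {L : A.left.Modules} (hL : PicF.IsInvertible L)

include hL in
theorem hab_aux {T T₁ T₂ : Over (Spec (CommRingCat.of k))} (g₁ : T₁ ⟶ T) (g₂ : T₂ ⟶ T)
    (α₁ : thetaPts A L T₁) (α₂ : thetaPts A L T₂)
    (hα : ∀ (W : Over (Spec (CommRingCat.of k))) (a : W ⟶ T₁)
      (b : W ⟶ T₂), a ≫ g₁ = b ≫ g₂ → bc a α₁ = bc b α₂)
    {P : ThetaCo.Obj.{u}} (a : P ⟶ thetaObj A L T₁) (b : P ⟶ thetaObj A L T₂)
    (hab : a ≫ bcLift A L g₁ = b ≫ bcLift A L g₂) :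
    a ≫ (α₁.1.hom ≫ bcLift A L g₁) = b ≫ (α₂.1.hom ≫ bcLift A L g₂) := by
  let P' : Over (Spec (CommRingCat.of k)) := Over.mk (a.base ≫ (A ⊗ T₁).hom)
  let qa : P' ⟶ A ⊗ T₁ := Over.homMk a.base rfl
  have hbase : a.base ≫ (A ◁ g₁).left = b.base ≫ (A ◁ g₂).left := (congrArg (fun φ => φ.base) hab :)
  let qb : P' ⟶ A ⊗ T₂ := Over.homMk b.base (by
    show b.base ≫ _ = a.base ≫ _
    rw [← Over.w (A ◁ g₂), ← Over.w (A ◁ g₁), ← Category.assoc, ← hbase, Category.assoc])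
  have hq : qa ≫ (A ◁ g₁) = qb ≫ (A ◁ g₂) := Over.OverMorphism.ext hbase
  have hfst : qa ≫ fst A _ = qb ≫ fst A _ := by
    simpa only [Category.assoc, whiskerLeft_fst] using congrArg (fun φ => φ ≫ fst A T) hq
  let ga : P' ⟶ T₁ := qa ≫ snd A _
  let gb : P' ⟶ T₂ := qb ≫ snd A _
  have hgg : ga ≫ g₁ = gb ≫ g₂ := by
    simpa only [ga, gb, Category.assoc, whiskerLeft_snd] using congrArg (fun φ => φ ≫ snd A T) hq
  obtain ⟨a0, ⟨ha0b, ha0⟩, -⟩ := ThetaCo.existsUnique_lift (isCart_bcLift A L ga) a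
    (lift (qa ≫ fst A _) (𝟙 P')).left (by
      show _ ≫ (A ◁ ga).left = qa.left
      rw [← Over.comp_left]
      congr 1
      apply CartesianMonoidalCategory.hom_ext <;> simp [ga])
  have hb0 : a0 ≫ bcLift A L gb = b := by
    refine ThetaCo.cancel (isCart_bcLift A L g₂) ?_ ?_
    · show a0.base ≫ (A ◁ gb).left = qb.left
      rw [ha0b, ← Over.comp_left]
      congr 1
      apply CartesianMonoidalCategory.hom_ext <;> simp [gb, hfst]
    · rw [← hab, Category.assoc, bcLift_comp, ← hgg, ← bcLift_comp, ← Category.assoc, ha0]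
  have hc : bc ga α₁ = bc gb α₂ := hα P' ga gb hgg
  have e : ∀ {U : Over (Spec (CommRingCat.of k))} (z : P' ⟶ U) (v : thetaPts A L U),
      bcLift A L z ≫ v.1.hom = (bc z v).1.hom ≫ bcLift A L z := fun z v => (isBaseChange_bc z v).symm
  rw [← ha0, ← hb0, Category.assoc, Category.assoc, ← Category.assoc (bcLift A L ga), e,
    ← Category.assoc (bcLift A L gb), e, Category.assoc, Category.assoc, bcLift_comp, bcLift_comp, hc, hgg]

/-- The translation parts glue. -/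
theorem exists_glue_x {T : Over (Spec (CommRingCat.of k))} (𝒰 : Scheme.OpenCover.{u} T.left)
    (α : ∀ i, thetaPts A L (Over.mk (𝒰.f i ≫ T.hom)))
    (hα : ∀ (i j) (W : Over (Spec (CommRingCat.of k))) (a : W ⟶ Over.mk (𝒰.f i ≫ T.hom))
      (b : W ⟶ Over.mk (𝒰.f j ≫ T.hom)), a.left ≫ 𝒰.f i = b.left ≫ 𝒰.f j → bc a (α i) = bc b (α j)) :
    ∃ x : T ⟶ A, ∀ i, (Over.homMk (𝒰.f i) rfl : Over.mk (𝒰.f i ≫ T.hom) ⟶ T) ≫ x = pt (α i) := by
  have hx : ∀ i j, pullback.fst (𝒰.f i) (𝒰.f j) ≫ (pt (α i)).left = pullback.snd _ _ ≫ (pt (α j)).left := by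
    intro i j
    let W : Over (Spec (CommRingCat.of k)) := Over.mk (pullback.fst (𝒰.f i) (𝒰.f j) ≫ 𝒰.f i ≫ T.hom)
    let a : W ⟶ Over.mk (𝒰.f i ≫ T.hom) := Over.homMk (pullback.fst _ _) rfl
    let b : W ⟶ Over.mk (𝒰.f j ≫ T.hom) := Over.homMk (pullback.snd _ _) (pullback.condition_assoc T.hom).symm
    have h := hα i j W a b pullback.condition
    have h1 := isOverPt_unique (isOverPt_bc a (isOverPt_pt (α i))) (h ▸ isOverPt_bc b (isOverPt_pt (α j)))
    exact congrArg (fun φ => φ.left) h1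
  obtain ⟨x0, hι⟩ : ∃ x0 : T.left ⟶ A.left, ∀ i, 𝒰.f i ≫ x0 = (pt (α i)).left :=
    ⟨Scheme.Cover.glueMorphisms 𝒰 (fun i => (pt (α i)).left) hx,
      fun i => Scheme.Cover.ι_glueMorphisms 𝒰 (fun i => (pt (α i)).left) hx i⟩
  have hw : x0 ≫ A.hom = T.hom := Scheme.Cover.hom_ext 𝒰 _ _ fun i => by
    rw [← Category.assoc, hι]
    exact Over.w (pt (α i))
  refine ⟨Over.homMk x0 hw, fun i => ?_⟩
  apply Over.OverMorphism.ext
  rw [Over.comp_left]
  exact hι i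

theorem isOpenImmersion_bcLift {T T' : Over (Spec (CommRingCat.of k))} (g : T' ⟶ T) [IsOpenImmersion g.left] :
    IsOpenImmersion (bcLift A L g).base :=
  MorphismProperty.of_isPullback (P := @IsOpenImmersion)
    (GrpSchLib.isPullback_whiskerLeft (W := A) g).flip inferInstance

include hL in
/-- Points glue along open coverings: existence. -/
theorem exists_glue_pt {T : Over (Spec (CommRingCat.of k))} {ι' : Type u} (T' : ι' → Over (Spec (CommRingCat.of k)))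
    (g : ∀ i, T' i ⟶ T) [∀ i, IsOpenImmersion (g i).left] (hg : ∀ y, ∃ i z, (g i).left z = y)
    (α : ∀ i, thetaPts A L (T' i))
    (hα : ∀ (i j) (W : Over (Spec (CommRingCat.of k))) (a : W ⟶ T' i)
      (b : W ⟶ T' j), a ≫ g i = b ≫ g j → bc a (α i) = bc b (α j))
    (x : T ⟶ A) (hx : ∀ i, g i ≫ x = pt (α i)) :
    ∃ β : thetaPts A L T, IsOverPt β x ∧ ∀ i, bc (g i) β = α i := by
  haveI : ∀ i, IsOpenImmersion (bcLift A L (g i)).base := fun i => isOpenImmersion_bcLift (g i)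
  obtain ⟨β₀, hb, hc, hβ⟩ := ThetaCo.exists_glue (Y := thetaObj A L T) (Z := thetaObj A L T)
    (fun i => bcLift A L (g i)) (fun i => isCart_bcLift A L (g i))
    (fun y => by
      obtain ⟨i, z, hz⟩ := hg ((snd A T).left y)
      obtain ⟨w, hw, -⟩ := Scheme.exists_preimage_of_isPullback
        (GrpSchLib.isPullback_whiskerLeft (W := A) (g i)) y z hz.symm
      exact ⟨i, w, hw⟩)
    (isInvertible_fiber T hL) (isInvertible_fiber T hL) (transl A x).left
    (fun i => (α i).1.hom ≫ bcLift A L (g i))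
    (fun i => ThetaCo.isCart_comp (isCart_hom (α i)) (isCart_bcLift A L (g i)))
    (fun i => by
      show (α i).1.hom.base ≫ (A ◁ g i).left = (A ◁ g i).left ≫ (transl A x).left
      rw [isOverPt_pt (α i), ← hx i, ← Over.comp_left, ← Over.comp_left, whiskerLeft_transl])
    (fun i j {P} a b ha hb' hab => hab_aux hL (g i) (g j) (α i) (α j) (hα i j) a b hab)
  obtain ⟨β, hβh⟩ := exists_point β₀ hc hb
  refine ⟨β, by show _ = _; rw [hβh, hb], fun i => bc_eq (by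
    show (α i).1.hom ≫ _ = _
    rw [hβh, hβ])⟩

include hL in
/-- Points glue along open coverings: uniqueness. -/
theorem glue_pt_unique {T : Over (Spec (CommRingCat.of k))} {ι' : Type u} (T' : ι' → Over (Spec (CommRingCat.of k)))
    (g : ∀ i, T' i ⟶ T) [∀ i, IsOpenImmersion (g i).left] (hg : ∀ y, ∃ i z, (g i).left z = y)
    (β β' : thetaPts A L T) {x : T ⟶ A} (h : IsOverPt β x) (h' : IsOverPt β' x)
    (he : ∀ i, bc (g i) β' = bc (g i) β) : β' = β := by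
  obtain ⟨c, rfl⟩ := exists_sc_mul hL h h'
  have hc1 : c = 1 := by
    refine UnitDescent.eq_of_uP (fun i => (g i).left) hg fun i => ?_
    refine sc_injective hL (T' i) ?_
    have h2 := he i
    rw [bc_mul, bc_sc] at h2
    rw [map_one, map_one]
    exact mul_eq_right.1 h2
  rw [hc1, map_one, _root_.one_mul]

include hL in
/-- Points glue along open coverings. -/
theorem exists_glue_pts {T : Over (Spec (CommRingCat.of k))} (𝒰 : Scheme.OpenCover.{u} T.left)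
    (α : ∀ i, thetaPts A L (Over.mk (𝒰.f i ≫ T.hom)))
    (hα : ∀ (i j) (W : Over (Spec (CommRingCat.of k))) (a : W ⟶ Over.mk (𝒰.f i ≫ T.hom))
      (b : W ⟶ Over.mk (𝒰.f j ≫ T.hom)), a.left ≫ 𝒰.f i = b.left ≫ 𝒰.f j → bc a (α i) = bc b (α j)) :
    ∃! β : thetaPts A L T, ∀ i, bc (Over.homMk (𝒰.f i) rfl : Over.mk (𝒰.f i ≫ T.hom) ⟶ T) β = α i := by
  obtain ⟨x, hgx⟩ := exists_glue_x 𝒰 α hα
  have hg : ∀ y, ∃ i z, (Over.homMk (𝒰.f i) rfl : Over.mk (𝒰.f i ≫ T.hom) ⟶ T).left z = y := fun y => by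
    obtain ⟨i, z, hz⟩ := 𝒰.exists_eq y
    exact ⟨i, z, hz⟩
  haveI : ∀ i, IsOpenImmersion (Over.homMk (𝒰.f i) rfl : Over.mk (𝒰.f i ≫ T.hom) ⟶ T).left :=
    fun i => inferInstanceAs (IsOpenImmersion (𝒰.f i))
  have hα' : ∀ (i j : 𝒰.I₀) (W : Over (Spec (CommRingCat.of k))) (a : W ⟶ Over.mk (𝒰.f i ≫ T.hom))
      (b : W ⟶ Over.mk (𝒰.f j ≫ T.hom)),
      a ≫ (Over.homMk (𝒰.f i) rfl : Over.mk (𝒰.f i ≫ T.hom) ⟶ T) =
        b ≫ (Over.homMk (𝒰.f j) rfl : Over.mk (𝒰.f j ≫ T.hom) ⟶ T) → bc a (α i) = bc b (α j) := by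
    intro i j W a b hw
    refine hα i j W a b ?_
    have h := congrArg (fun φ => φ.left) hw
    simp only [Over.comp_left, Over.homMk_left] at h
    exact h
  obtain ⟨β, hβx, hβe⟩ := exists_glue_pt (ι' := 𝒰.I₀) hL (fun i : 𝒰.I₀ => Over.mk (𝒰.f i ≫ T.hom))
    (fun i : 𝒰.I₀ => (Over.homMk (𝒰.f i) rfl : Over.mk (𝒰.f i ≫ T.hom) ⟶ T)) hg α hα' x hgx
  refine ⟨β, hβe, fun β' hβ' => ?_⟩
  have hpt : pt β' = x := Over.OverMorphism.ext (Scheme.Cover.hom_ext 𝒰 _ _ fun i => by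
    have h0 : IsOverPt (α i) ((Over.homMk (𝒰.f i) rfl : Over.mk (𝒰.f i ≫ T.hom) ⟶ T) ≫ pt β') :=
      (hβ' i) ▸ isOverPt_bc _ (isOverPt_pt β')
    have h1 := isOverPt_unique h0 (isOverPt_pt (α i))
    rw [← hgx i] at h1
    exact congrArg (fun φ => φ.left) h1)
  exact glue_pt_unique (ι' := 𝒰.I₀) hL (fun i : 𝒰.I₀ => Over.mk (𝒰.f i ≫ T.hom))
    (fun i : 𝒰.I₀ => (Over.homMk (𝒰.f i) rfl : Over.mk (𝒰.f i ≫ T.hom) ⟶ T)) hg β β' hβx (hpt ▸ isOverPt_pt β')
    (fun i => (hβ' i).trans (hβe i).symm)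

theorem sig_ext {T : Scheme.{u}} {s s' : T ⟶ Spec (CommRingCat.of k)} (h : s = s') (β : thetaPts A L (Over.mk s))
    (β' : thetaPts A L (Over.mk s'))
    (hb : bc (Over.homMk (𝟙 T) (by simp [h]) : Over.mk s ⟶ Over.mk s') β' = β) :
    (⟨s, β⟩ : Σ s : T ⟶ Spec (CommRingCat.of k), thetaPts A L (Over.mk s)) = ⟨s', β'⟩ := by
  subst h
  rw [show (Over.homMk (𝟙 T) (by simp) : Over.mk s ⟶ Over.mk s) = 𝟙 _ from Over.OverMorphism.ext rfl, bc_id] at hb
  rw [hb]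

theorem sig_out {T : Scheme.{u}} {s s' : T ⟶ Spec (CommRingCat.of k)} {β : thetaPts A L (Over.mk s)}
    {β' : thetaPts A L (Over.mk s')}
    (h : (⟨s, β⟩ : Σ s : T ⟶ Spec (CommRingCat.of k), thetaPts A L (Over.mk s)) = ⟨s', β'⟩) :
    ∃ hs : s = s', bc (Over.homMk (𝟙 T) (by simp [hs]) : Over.mk s ⟶ Over.mk s') β' = β := by
  cases h
  refine ⟨rfl, ?_⟩
  rw [show (Over.homMk (𝟙 T) (by simp) : Over.mk s ⟶ Over.mk s) = 𝟙 _ from Over.OverMorphism.ext rfl, bc_id]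

variable (A L) in
/-- The functor of points on schemes. -/
def pf : Scheme.{u}ᵒᵖ ⥤ Type u where
  obj T := Σ s : T.unop ⟶ Spec (CommRingCat.of k), thetaPts A L (Over.mk s)
  map {T T'} a := TypeCat.ofHom fun p => ⟨a.unop ≫ p.1, bc (Over.homMk a.unop rfl : Over.mk (a.unop ≫ p.1) ⟶ Over.mk p.1) p.2⟩
  map_id T := by
    refine ConcreteCategory.hom_ext _ _ fun p => ?_
    obtain ⟨s, β⟩ := p
    exact sig_ext (A := A) (L := L) (Category.id_comp s) _ _ rfl
  map_comp {T T' T''} a b := by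
    refine ConcreteCategory.hom_ext _ _ fun p => ?_
    obtain ⟨s, β⟩ := p
    refine sig_ext (A := A) (L := L) (Category.assoc b.unop a.unop s) _ _ ?_
    show bc _ (bc _ (bc _ β)) = bc _ β
    rw [bc_bc, bc_bc]
    congr 1

theorem pf_map {T T' : Scheme.{u}} (a : T' ⟶ T) (s : T ⟶ Spec (CommRingCat.of k))
    (β : thetaPts A L (Over.mk s)) :
    (pf A L).map a.op ⟨s, β⟩ = ⟨a ≫ s, bc (Over.homMk a rfl : Over.mk (a ≫ s) ⟶ Over.mk s) β⟩ := rfl

/-- Reading off equal images. -/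
theorem pf_eq {T₁ T₂ T' : Scheme.{u}} {a : T' ⟶ T₁} {b : T' ⟶ T₂} {s₁ : T₁ ⟶ Spec (CommRingCat.of k)}
    {s₂ : T₂ ⟶ Spec (CommRingCat.of k)} {β₁ : thetaPts A L (Over.mk s₁)} {β₂ : thetaPts A L (Over.mk s₂)}
    (h : (pf A L).map a.op ⟨s₁, β₁⟩ = (pf A L).map b.op ⟨s₂, β₂⟩) {W : Over (Spec (CommRingCat.of k))}
    (a₁ : W ⟶ Over.mk s₁) (b₁ : W ⟶ Over.mk s₂) (w : W.left ⟶ T') (ha : a₁.left = w ≫ a) (hb : b₁.left = w ≫ b) :
    bc a₁ β₁ = bc b₁ β₂ := by
  rw [pf_map, pf_map] at h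
  obtain ⟨h1, h2⟩ := sig_out h
  have hw : w ≫ a ≫ s₁ = W.hom := by
    rw [← Category.assoc, ← ha]
    exact Over.w a₁
  have h3 := congrArg (bc (Over.homMk w hw : W ⟶ Over.mk (a ≫ s₁))) h2
  rw [bc_bc, bc_bc, bc_bc] at h3
  refine Eq.trans ?_ (h3.symm.trans ?_)
  · exact congrArg (bc · β₁) (Over.OverMorphism.ext ha)
  · refine congrArg (bc · β₂) (Over.OverMorphism.ext ?_)
    rw [hb, Over.comp_left, Over.comp_left]
    exact congrArg (w ≫ ·) (Category.id_comp b)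

/-- Equal images. -/
theorem pf_ext {T₁ T₂ T' : Scheme.{u}} {a : T' ⟶ T₁} {b : T' ⟶ T₂} {s₁ : T₁ ⟶ Spec (CommRingCat.of k)}
    {s₂ : T₂ ⟶ Spec (CommRingCat.of k)} {β₁ : thetaPts A L (Over.mk s₁)} {β₂ : thetaPts A L (Over.mk s₂)}
    (hs : b ≫ s₂ = a ≫ s₁)
    (h : bc (Over.homMk a rfl : Over.mk (a ≫ s₁) ⟶ Over.mk s₁) β₁ =
      bc (Over.homMk b hs : Over.mk (a ≫ s₁) ⟶ Over.mk s₂) β₂) :
    (pf A L).map a.op ⟨s₁, β₁⟩ = (pf A L).map b.op ⟨s₂, β₂⟩ := by
  rw [pf_map, pf_map]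
  refine sig_ext hs.symm _ _ ?_
  rw [h, bc_bc]
  exact congrArg (bc · β₂) (Over.OverMorphism.ext (Category.id_comp b))

include hL in
theorem isSheaf_pf : Presieve.IsSheaf Scheme.zariskiTopology (pf A L) := by
  refine H23.RepCharts.isSheaf_of_covers _ fun {Y} 𝒰 => ?_
  rw [Presieve.isSheafFor_arrows_iff]
  intro x hx
  have hσ : ∀ i j, pullback.fst (𝒰.f i) (𝒰.f j) ≫ (x i).1 = pullback.snd _ _ ≫ (x j).1 := fun i j =>
    congrArg Sigma.fst (hx i j _ (pullback.fst _ _) (pullback.snd _ _) pullback.condition)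
  obtain ⟨s, hs⟩ : ∃ s : Y ⟶ Spec (CommRingCat.of k), ∀ i, 𝒰.f i ≫ s = (x i).1 :=
    ⟨Scheme.Cover.glueMorphisms 𝒰 (fun i => (x i).1) hσ,
      fun i => Scheme.Cover.ι_glueMorphisms 𝒰 (fun i => (x i).1) hσ i⟩
  let T : Over (Spec (CommRingCat.of k)) := Over.mk s
  let e : ∀ i, Over.mk (𝒰.f i ≫ s) ⟶ Over.mk (x i).1 := fun i =>
    Over.homMk (𝟙 _) (by simp [hs i])
  let α : ∀ i, thetaPts A L (Over.mk (𝒰.f i ≫ T.hom)) := fun i => bc (e i) (x i).2
  have hα : ∀ (i j) (W : Over (Spec (CommRingCat.of k))) (a : W ⟶ Over.mk (𝒰.f i ≫ T.hom))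
      (b : W ⟶ Over.mk (𝒰.f j ≫ T.hom)), a.left ≫ 𝒰.f i = b.left ≫ 𝒰.f j → bc a (α i) = bc b (α j) := by
    intro i j W a b hab
    have h0 : (pf A L).map a.left.op ⟨(x i).1, (x i).2⟩ = (pf A L).map b.left.op ⟨(x j).1, (x j).2⟩ :=
      hx i j W.left a.left b.left hab
    show bc a (bc (e i) (x i).2) = bc b (bc (e j) (x j).2)
    rw [bc_bc, bc_bc]
    exact pf_eq h0 _ _ (𝟙 _) (by simp [e]) (by simp [e])
  obtain ⟨β, hβ, huniq⟩ := exists_glue_pts hL (T := T) 𝒰 α hα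
  refine ⟨⟨s, β⟩, fun i => ?_, ?_⟩
  · exact sig_ext (A := A) (L := L) (hs i) _ _ (hβ i).symm
  · rintro ⟨s', β'⟩ h'
    obtain rfl : s' = s := Scheme.Cover.hom_ext 𝒰 _ _ fun i => by
      rw [hs i]
      exact congrArg Sigma.fst (h' i)
    have : β' = β := huniq β' fun i => by
      have h0 : (pf A L).map (𝒰.f i).op ⟨s', β'⟩ = ⟨(x i).1, (x i).2⟩ := h' i
      rw [pf_map] at h0
      obtain ⟨_, h2⟩ := sig_out h0
      exact h2.symm
    rw [this]

section Chart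

variable {K : Over (Spec (CommRingCat.of k))} (iK : K ⟶ A) (V : K.left.Opens) (δ : thetaPts A L (opn K V))

/-- The universal point on a chart. -/
def el : thetaPts A L (opn K V ⊗ Red.Gm (Spec (CommRingCat.of k))) :=
  sc hL (GmPts.unitOfPt (snd _ _)) * bc (fst _ _) δ

theorem bc_el {T : Over (Spec (CommRingCat.of k))} (c : T ⟶ opn K V ⊗ Red.Gm (Spec (CommRingCat.of k))) :
    bc c (el hL V δ) = sc hL (GmPts.unitOfPt (c ≫ snd _ _)) * bc (c ≫ fst _ _) δ := by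
  rw [el, bc_mul, bc_sc, bc_bc, GmPts.unitOfPt_comp]

variable {iK V δ}

theorem isOverPt_bc_el (hδ : IsOverPt δ (inc V ≫ iK)) {T : Over (Spec (CommRingCat.of k))}
    (c : T ⟶ opn K V ⊗ Red.Gm (Spec (CommRingCat.of k))) :
    IsOverPt (bc c (el hL V δ)) ((c ≫ fst _ _) ≫ inc V ≫ iK) := by
  rw [bc_el]
  have h := isOverPt_mul (isOverPt_sc hL (GmPts.unitOfPt (c ≫ snd _ _))) (isOverPt_bc (c ≫ fst _ _) hδ)
  rwa [_root_.mul_one] at h

theorem exists_chart (hδ : IsOverPt δ (inc V ≫ iK)) {T : Over (Spec (CommRingCat.of k))} (β : thetaPts A L T)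
    (l : T ⟶ opn K V) (hl : l ≫ inc V ≫ iK = pt β) :
    ∃ c : T ⟶ opn K V ⊗ Red.Gm (Spec (CommRingCat.of k)), bc c (el hL V δ) = β := by
  obtain ⟨c, hc⟩ := exists_sc_mul hL (isOverPt_bc l hδ) (hl.symm ▸ isOverPt_pt β : IsOverPt β (l ≫ inc V ≫ iK))
  refine ⟨lift l (GmPts.ptOfUnit c), ?_⟩
  rw [bc_el, lift_fst, lift_snd, GmPts.unitOfPt_ptOfUnit]
  exact hc.symm

theorem chart_injective (hK : IsImmersion iK.left) (hδ : IsOverPt δ (inc V ≫ iK)) {T : Over (Spec (CommRingCat.of k))}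
    (c c' : T ⟶ opn K V ⊗ Red.Gm (Spec (CommRingCat.of k))) (h : bc c (el hL V δ) = bc c' (el hL V δ)) : c = c' := by
  haveI := hK
  have h1 := isOverPt_unique (h ▸ isOverPt_bc_el hL hδ c) (isOverPt_bc_el hL hδ c')
  have h2 : c ≫ fst _ _ = c' ≫ fst _ _ := by
    refine Over.OverMorphism.ext ((cancel_mono V.ι).1 ((cancel_mono iK.left).1 ?_))
    rw [Category.assoc, Category.assoc]
    exact congrArg (fun φ => φ.left) h1
  refine CartesianMonoidalCategory.hom_ext _ _ h2 ?_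
  rw [bc_el, bc_el, h2] at h
  rw [← GmPts.ptOfUnit_unitOfPt (c ≫ snd _ _), ← GmPts.ptOfUnit_unitOfPt (c' ≫ snd _ _),
    sc_injective hL T (mul_right_cancel h)]

end Chart

include hL in
/-- The universal point of the theta group. -/
theorem exists_univ_pt :
    ∃ (G : Over (Spec (CommRingCat.of k))) (u : thetaPts A L G),
      ∀ (T : Over (Spec (CommRingCat.of k))) (β : thetaPts A L T), ∃! g : T ⟶ G, bc g u = β := by
  obtain ⟨K, iK, hK, hKu⟩ := AVKLExist.exists_locus hL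
  have hy : ∀ {T : Over (Spec (CommRingCat.of k))} (β : thetaPts A L T), ∃ y : T ⟶ K, y ≫ iK = pt β := fun β =>
    (hKu _ _).1 (mumford_of_eq hL (eq_of_pt hL (isOverPt_pt β)))
  choose y hy using @hy
  let I := Σ' V : K.left.Opens, {δ : thetaPts A L (opn K V) // IsOverPt δ (inc V ≫ iK)}
  let H : I → Scheme.{u} := fun i => (opn K i.1 ⊗ Red.Gm (Spec (CommRingCat.of k))).left
  let ell : ∀ i, (pf A L).obj (op (H i)) := fun i =>
    ⟨(opn K i.1 ⊗ Red.Gm (Spec (CommRingCat.of k))).hom, el hL i.1 i.2.1⟩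
  let W : ∀ (T : Scheme.{u}), (pf A L).obj (op T) → I → T.Opens := fun T p i =>
    (y p.2).left ⁻¹ᵁ i.1
  haveI := hK
  have hW : ∀ (i : I) {T : Scheme.{u}} (p : (pf A L).obj (op T)) {T' : Scheme.{u}} (a : T' ⟶ T),
      (∃ c : T' ⟶ H i, (pf A L).map c.op (ell i) = (pf A L).map a.op p) ↔ Set.range a ⊆ (W T p i : Set T) := by
    rintro ⟨V, δ, hδ⟩ T ⟨s, β⟩ T' a
    let a' : Over.mk (a ≫ s) ⟶ Over.mk s := Over.homMk a rfl
    constructor
    · rintro ⟨c, hc⟩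
      have h1 : c ≫ (opn K V ⊗ Red.Gm (Spec (CommRingCat.of k))).hom = a ≫ s := congrArg Sigma.fst hc
      let c' : Over.mk (a ≫ s) ⟶ opn K V ⊗ Red.Gm (Spec (CommRingCat.of k)) := Over.homMk c h1
      have h4 : bc a' β = bc c' (el hL V δ) :=
        (pf_eq hc c' a' (𝟙 T') (Category.id_comp c).symm (Category.id_comp a).symm).symm
      have h5 := isOverPt_unique (isOverPt_bc a' (isOverPt_pt β)) (h4 ▸ isOverPt_bc_el hL hδ c')
      rw [← hy β] at h5
      have h6 : a ≫ (y β).left = (c' ≫ fst _ _).left ≫ V.ι := by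
        refine (cancel_mono iK.left).1 ?_
        rw [Category.assoc, Category.assoc]
        exact congrArg (fun φ => φ.left) h5
      rintro _ ⟨t, rfl⟩
      show (a ≫ (y β).left) t ∈ V
      rw [h6]
      exact ((c' ≫ fst _ _).left t).2
    · intro ha
      have hr : Set.range (a ≫ (y β).left) ⊆ Set.range V.ι := by
        rw [Scheme.Opens.range_ι]
        rintro _ ⟨t, rfl⟩
        exact ha ⟨t, rfl⟩
      let l : Over.mk (a ≫ s) ⟶ opn K V := Over.homMk (IsOpenImmersion.lift V.ι _ hr) (by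
        show IsOpenImmersion.lift V.ι _ hr ≫ V.ι ≫ K.hom = a ≫ s
        rw [IsOpenImmersion.lift_fac_assoc, Category.assoc]
        exact congrArg (a ≫ ·) (Over.w (y β)))
      have hl : l ≫ inc V ≫ iK = a' ≫ pt β := by
        rw [← hy β]
        apply Over.OverMorphism.ext
        show IsOpenImmersion.lift V.ι _ hr ≫ V.ι ≫ iK.left = a ≫ (y β).left ≫ iK.left
        rw [IsOpenImmersion.lift_fac_assoc, Category.assoc]
      have hp : pt (bc a' β) = a' ≫ pt β := isOverPt_unique (isOverPt_pt _) (isOverPt_bc a' (isOverPt_pt β))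
      obtain ⟨c, hc⟩ := exists_chart hL hδ (bc a' β) l (hl.trans hp.symm)
      exact ⟨c.left, (pf_ext (b := c.left) (Over.w c) hc.symm).symm⟩
  have hmono : ∀ (i : I) {T : Scheme.{u}} (c c' : T ⟶ H i),
      (pf A L).map c.op (ell i) = (pf A L).map c'.op (ell i) → c = c' := by
    rintro ⟨V, δ, hδ⟩ T c c' h
    let Z := opn K V ⊗ Red.Gm (Spec (CommRingCat.of k))
    have h1 : c ≫ Z.hom = c' ≫ Z.hom := congrArg Sigma.fst h
    exact congrArg (fun φ => φ.left) (chart_injective hL hK hδ (Over.homMk c rfl : Over.mk (c ≫ Z.hom) ⟶ Z)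
      (Over.homMk c' h1.symm) (pf_eq h _ _ (𝟙 T) (Category.id_comp c).symm (Category.id_comp c').symm))
  have hcov : ∀ {T : Scheme.{u}} (p : (pf A L).obj (op T)) (t : T), ∃ i : I, t ∈ W T p i := by
    rintro T ⟨s, β⟩ t
    obtain ⟨V, htV, δ, hδ⟩ := exists_local hL ((hKu K iK).2 ⟨𝟙 _, Category.id_comp _⟩) ((y β).left t)
    exact ⟨⟨V, δ, hδ⟩, htV⟩
  obtain ⟨G0, ⟨sG, u⟩, hu⟩ := H23.RepCharts.exists_univ (pf A L) (isSheaf_pf hL) H ell W hW hmono @hcov
  refine ⟨Over.mk sG, u, fun T β => ?_⟩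
  obtain ⟨h, hh, huq⟩ := hu T.left ⟨T.hom, β⟩
  let g : T ⟶ Over.mk sG := Over.homMk h (congrArg Sigma.fst hh)
  refine ⟨g, ?_, fun g' hg' => ?_⟩
  · show bc g u = β
    have h3 : (pf A L).map h.op ⟨sG, u⟩ = (pf A L).map (𝟙 T.left).op ⟨T.hom, β⟩ :=
      hh.trans (FunctorToTypes.map_id_apply (pf A L) _).symm
    exact (pf_eq h3 g (𝟙 T) (𝟙 _) (Category.id_comp h).symm (Category.id_comp _).symm).trans (bc_id β)
  · have h4 : g'.left = h := by
      refine huq _ ?_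
      show (pf A L).map g'.left.op ⟨sG, u⟩ = _
      rw [pf_map]
      refine sig_ext (Over.w g') _ _ ?_
      rw [← hg', bc_bc]
      exact congrArg (bc · u) (Over.OverMorphism.ext rfl)
    exact Over.OverMorphism.ext h4

include hL in
/-- The theta group is representable. -/
theorem exists_thetaGrpSch :
    ∃ (G : Over (Spec (CommRingCat.of k))) (_ : GrpObj G) (u : thetaPts A L G), IsThetaGrpSch A L G u := by
  obtain ⟨G, u, hu⟩ := exists_univ_pt hL
  let F : (Over (Spec (CommRingCat.of k)))ᵒᵖ ⥤ GrpCat.{u} :=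
    { obj := fun T => GrpCat.of (thetaPts A L T.unop)
      map := fun {T T'} a => GrpCat.ofHom (bcHom a.unop)
      map_id := fun T => GrpCat.hom_ext (MonoidHom.ext fun β => bc_id β)
      map_comp := fun {T T' T''} a b => GrpCat.hom_ext (MonoidHom.ext fun β => (bc_bc b.unop a.unop β).symm) }
  let hom : ∀ {T}, (T ⟶ G) ≃ thetaPts A L T := fun {T} =>
    Equiv.ofBijective (fun g => bc g u) ⟨fun g g' h => (hu T (bc g u)).unique rfl h.symm, fun β => (hu T β).exists⟩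
  let α : (F ⋙ forget _).RepresentableBy G :=
    { homEquiv := hom
      homEquiv_comp := fun {X X'} f g => (bc_bc f g u).symm }
  letI : GrpObj G := GrpObj.ofRepresentableBy G F α
  have hmul : ∀ {T} (g h : T ⟶ G), bc (g * h) u = bc g u * bc h u := fun {T} g h =>
    ((yonedaGrpObjIsoOfRepresentableBy G F α).hom.app (op T)).hom.map_mul g h
  refine ⟨G, inferInstance, u, ⟨fun T β => ?_, fun T g => existsUnique_bc g u, fun T g h β₁ β₂ h₁ h₂ => ?_⟩⟩
  · obtain ⟨g, hg, hq⟩ := hu T β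
    exact ⟨g, hg ▸ isBaseChange_bc g u, fun g' hg' => hq g' (bc_eq hg')⟩
  · rw [← bc_eq h₁, ← bc_eq h₂, ← hmul]
    exact isBaseChange_bc _ u

end Groth.Agent.ThetaRep
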