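import Groth.Agent.Lib.ThetaPts
import Groth.Agent.H23.Rigid
import Groth.Agent.H23.PicMul
import Groth.Agent.PicClLib.Basic

/-!
Scalars and commutators in theta groups of abelian varieties over a field.
-/

set_option autoImplicit false
set_option linter.style.haveILetI false
set_option linter.unusedSectionVars false
set_option backward.isDefEq.respectTransparency false
set_option backward.isDefEq.respectTransparency.types false

universe u

open CategoryTheory CategoryTheory.Limits MonoidalCategory CartesianMonoidalCategory MonObj AlgebraicGeometry TopologicalSpace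
open Pseudofunctor Bicategory

noncomputable section

namespace Groth.Agent.ThetaScalar

open Groth.Agent ThetaGrp ThetaPts

/-- Endomorphisms of invertible modules are multiplications by functions. -/
theorem existsUnique_smulMod {X : Scheme.{u}} {M : X.Modules} (hM : PicF.IsInvertible M) (φ : M ⟶ M) :
    ∃! c : Γ(X, ⊤), CurveEnd.smulMod M c = φ := by
  choose U hxU e he using InvX.exists_frame hM
  have hex : ∀ x, ∃ r : Γ(X, U x), φ.app (U x) (e x) = r • e x := fun x => by
    obtain ⟨r, hr⟩ := (he x).exists_coord le_rfl (φ.app (U x) (e x))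
    rw [AModX.res_self] at hr
    exact ⟨r, hr⟩
  choose r hr using hex
  have happ : ∀ (c : Γ(X, ⊤)) (x : X),
      (CurveEnd.smulMod M c).app (U x) (e x) = AModX.resR (le_top : U x ≤ ⊤) c • e x := fun c x => rfl
  obtain ⟨c, hc, huniq⟩ := TopCat.Sheaf.existsUnique_gluing' X.sheaf U ⊤ (fun x => homOfLE le_top)
    (fun p _ => Opens.mem_iSup.2 ⟨p, hxU p⟩) r fun p q => by
      refine (he p).coord_unique (inf_le_left : U p ⊓ U q ≤ U p) ?_
      obtain ⟨s, hs⟩ := (he q).exists_coord (inf_le_right : U p ⊓ U q ≤ U q) (AModX.res M inf_le_left (e p))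
      show AModX.resR (inf_le_left : U p ⊓ U q ≤ U p) (r p) • AModX.res M inf_le_left (e p) =
        AModX.resR (inf_le_right : U p ⊓ U q ≤ U q) (r q) • AModX.res M inf_le_left (e p)
      rw [← AModX.res_smul, ← hr p, ← AModX.app_res, hs, Scheme.Modules.Hom.app_smul, AModX.app_res, hr q,
        AModX.res_smul, smul_comm]
  refine ⟨c, InvX.hom_ext_of_frames U (fun x => ⟨x, hxU x⟩) e he fun x => ?_, fun d hd => huniq d fun x => ?_⟩
  · rw [happ, hr]
    exact congrArg (· • e x) (hc x)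
  · refine (he x).coord_unique le_rfl ?_
    rw [AModX.res_self, ← hr x, ← hd, happ]
    rfl

variable {k : Type u} [Field k] {A : Over (Spec (CommRingCat.of k))} [GrpObj A] [IsProper A.hom]
  [GeometricallyIntegral A.hom] {L : A.left.Modules} (hL : PicF.IsInvertible L)

omit [GrpObj A] in
theorem bijective_pr (T : Over (Spec (CommRingCat.of k))) : Function.Bijective (snd A T).left.appTop :=
  H23.Rigid.bijective_app_snd A.hom T.hom ⊤

theorem isInvertible_fiber (T : Over (Spec (CommRingCat.of k))) (hL : PicF.IsInvertible L) :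
    PicF.IsInvertible (thetaObj A L T).fiber :=
  PicClLib.isInvertible_pullback (fst A T).left hL

/-- Multiplication by a function of the base. -/
def scEnd {T : Over (Spec (CommRingCat.of k))} (c : Γ(T.left, ⊤)) : thetaObj A L T ⟶ thetaObj A L T :=
  ThetaCo.smul ((snd A T).left.appTop c) (𝟙 _)

theorem scEnd_one (T : Over (Spec (CommRingCat.of k))) : scEnd (A := A) (L := L) (1 : Γ(T.left, ⊤)) = 𝟙 _ := by
  rw [scEnd, map_one, ThetaCo.one_smul]

include hL in
theorem comp_scEnd {T T' : Over (Spec (CommRingCat.of k))} (g : T' ⟶ T) (φ : thetaObj A L T' ⟶ thetaObj A L T)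
    (hφ : φ.base ≫ (snd A T).left = (snd A T').left ≫ g.left) (c : Γ(T.left, ⊤)) :
    φ ≫ scEnd c = ThetaCo.smul ((snd A T').left.appTop (g.left.appTop c)) φ := by
  rw [scEnd, ThetaCo.comp_smul φ _ (𝟙 _) (isInvertible_fiber T hL), Category.comp_id]
  congr 1
  show (φ.base ≫ (snd A T).left).appTop c = ((snd A T').left ≫ g.left).appTop c
  rw [hφ]

omit [GrpObj A] [IsProper A.hom] [GeometricallyIntegral A.hom] in
theorem id_base (X : ThetaCo.Obj.{u}) : (𝟙 X : X ⟶ X).base = 𝟙 X.base := rfl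

include hL in
theorem scEnd_comp {T : Over (Spec (CommRingCat.of k))} (c d : Γ(T.left, ⊤)) :
    scEnd (A := A) (L := L) c ≫ scEnd d = scEnd (c * d) := by
  rw [comp_scEnd hL (𝟙 T) (scEnd c) (by
    rw [Over.id_left, Category.comp_id]
    exact Category.id_comp _) d]
  show ThetaCo.smul _ (ThetaCo.smul _ (𝟙 _)) = ThetaCo.smul _ (𝟙 _)
  rw [ThetaCo.smul_smul, map_mul]
  rfl

/-- The scalar as an automorphism. -/
def scIso (hL : PicF.IsInvertible L) {T : Over (Spec (CommRingCat.of k))} (c : Γ(T.left, ⊤)ˣ) :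
    thetaObj A L T ≅ thetaObj A L T where
  hom := scEnd (c : Γ(T.left, ⊤))
  inv := scEnd (↑c⁻¹ : Γ(T.left, ⊤))
  hom_inv_id := by rw [scEnd_comp hL, Units.mul_inv, scEnd_one]
  inv_hom_id := by rw [scEnd_comp hL, Units.inv_mul, scEnd_one]

/-- The scalars of the theta group. -/
def sc {T : Over (Spec (CommRingCat.of k))} : Γ(T.left, ⊤)ˣ →* thetaPts A L T :=
  MonoidHom.mk' (fun c => ⟨scIso hL c, 1, by rw [transl_one]; rfl⟩) fun c d => ThetaPts.hom_inj (by
    show scEnd ((c : Γ(T.left, ⊤)) * (d : Γ(T.left, ⊤))) = scEnd (d : Γ(T.left, ⊤)) ≫ scEnd (c : Γ(T.left, ⊤))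
    rw [scEnd_comp hL, _root_.mul_comm])

theorem sc_hom {T : Over (Spec (CommRingCat.of k))} (c : Γ(T.left, ⊤)ˣ) :
    (sc hL c : thetaPts A L T).1.hom = scEnd (c : Γ(T.left, ⊤)) := rfl

theorem isOverPt_sc {T : Over (Spec (CommRingCat.of k))} (c : Γ(T.left, ⊤)ˣ) :
    IsOverPt (sc hL c : thetaPts A L T) (1 : T ⟶ A) := by
  show _ = (transl A 1).left
  rw [transl_one]
  rfl

theorem fib_scEnd {T : Over (Spec (CommRingCat.of k))} (x : Γ(T.left, ⊤)) :
    ThetaCo.fib (scEnd (A := A) (L := L) x) =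
      CurveEnd.smulMod (thetaObj A L T).fiber ((snd A T).left.appTop x) ≫ ThetaCo.fib (𝟙 (thetaObj A L T)) := rfl

include hL in
theorem scEnd_injective {T : Over (Spec (CommRingCat.of k))} {x y : Γ(T.left, ⊤)}
    (h : scEnd (A := A) (L := L) x = scEnd y) : x = y := by
  have h2 : ThetaCo.fib (scEnd (A := A) (L := L) x) = ThetaCo.fib (scEnd (A := A) (L := L) y) :=
    (ThetaCo.fib_congr h).trans (by rw [ThetaCo.congr_app]; exact Category.comp_id _)
  rw [fib_scEnd, fib_scEnd] at h2
  haveI : IsIso (ThetaCo.fib (𝟙 (thetaObj A L T))) := ThetaCo.isCart_id _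
  rw [cancel_mono] at h2
  exact (bijective_pr T).1 ((existsUnique_smulMod (isInvertible_fiber T hL) _).unique rfl h2.symm)

theorem sc_injective (T : Over (Spec (CommRingCat.of k))) :
    Function.Injective (sc hL : Γ(T.left, ⊤)ˣ →* thetaPts A L T) := fun c d h =>
  Units.ext (scEnd_injective hL (congrArg (fun α : thetaPts A L T => α.1.hom) h))

/-- A point over the identity translation is a scalar. -/
theorem exists_eq_sc {T : Over (Spec (CommRingCat.of k))} {α : thetaPts A L T} (hα : IsOverPt α 1) :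
    ∃ c : Γ(T.left, ⊤)ˣ, α = sc hL c := by
  have key : ∀ φ : thetaObj A L T ⟶ thetaObj A L T, φ.base = 𝟙 _ → ∃ c, φ = scEnd c := by
    rintro ⟨b, ff⟩ hb
    change b = 𝟙 _ at hb
    subst hb
    haveI : IsIso (ThetaCo.fib (𝟙 (thetaObj A L T))) := ThetaCo.isCart_id _
    let φ : (thetaObj A L T).fiber ⟶ (thetaObj A L T).fiber :=
      ThetaCo.fib (⟨𝟙 _, ff⟩ : thetaObj A L T ⟶ thetaObj A L T) ≫ inv (ThetaCo.fib (𝟙 (thetaObj A L T)))
    obtain ⟨d, hd⟩ := (existsUnique_smulMod (isInvertible_fiber T hL) φ).exists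
    obtain ⟨c, rfl⟩ := (bijective_pr (A := A) T).2 d
    refine ⟨c, ThetaCo.ext' rfl ?_⟩
    rw [ThetaCo.congr_app, Category.comp_id, fib_scEnd, hd, Category.assoc, IsIso.inv_hom_id,
      Category.comp_id]
  obtain ⟨c, hc⟩ := key α.1.hom (by rw [hα, transl_one]; rfl)
  obtain ⟨d, hd⟩ := key α.1.inv (by
    have h := isOverPt_inv hα
    rw [inv_one] at h
    show (α⁻¹).1.hom.base = _
    rw [h, transl_one]
    rfl)
  have h1 : c * d = 1 := scEnd_injective hL (by
    rw [← scEnd_comp hL, ← hc, ← hd, Iso.hom_inv_id, scEnd_one])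
  exact ⟨⟨c, d, h1, by rw [_root_.mul_comm]; exact h1⟩, ThetaPts.hom_inj hc⟩

theorem sc_comm {T : Over (Spec (CommRingCat.of k))} (c : Γ(T.left, ⊤)ˣ) (α : thetaPts A L T) :
    sc hL c * α = α * sc hL c := by
  refine ThetaPts.hom_inj ?_
  show α.1.hom ≫ scEnd (c : Γ(T.left, ⊤)) = scEnd (c : Γ(T.left, ⊤)) ≫ α.1.hom
  rw [comp_scEnd hL (𝟙 T) α.1.hom (by
      rw [isOverPt_pt α, ← Over.comp_left, transl_snd, Over.id_left, Category.comp_id]) _,
    scEnd, ThetaCo.smul_comp, Category.id_comp]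
  rfl

theorem bc_sc {T G : Over (Spec (CommRingCat.of k))} (g : T ⟶ G) (c : Γ(G.left, ⊤)ˣ) :
    bc g (sc hL c : thetaPts A L G) = sc hL (Units.map g.left.appTop.hom.toMonoidHom c) := by
  refine bc_eq ?_
  show scEnd (g.left.appTop (c : Γ(G.left, ⊤))) ≫ bcLift A L g = bcLift A L g ≫ scEnd (c : Γ(G.left, ⊤))
  rw [comp_scEnd hL g (bcLift A L g) (by
      show (A ◁ g).left ≫ (snd A G).left = _
      rw [← Over.comp_left, whiskerLeft_snd, Over.comp_left]) _,
    scEnd, ThetaCo.smul_comp, Category.id_comp]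

/-- Two points over one translation differ by a scalar. -/
theorem exists_sc_mul {T : Over (Spec (CommRingCat.of k))} {α β : thetaPts A L T} {x : T ⟶ A}
    (hα : IsOverPt α x) (hβ : IsOverPt β x) : ∃ c : Γ(T.left, ⊤)ˣ, β = sc hL c * α := by
  obtain ⟨c, hc⟩ := exists_eq_sc hL (α := β * α⁻¹)
    (by have h := isOverPt_mul hβ (isOverPt_inv hα); rwa [inv_mul_cancel] at h)
  exact ⟨c, eq_mul_of_mul_inv_eq hc⟩

include hL in
theorem commute_congr {T : Over (Spec (CommRingCat.of k))} {α α' β β' : thetaPts A L T} {x y : T ⟶ A}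
    (hα : IsOverPt α x) (hα' : IsOverPt α' x) (hβ : IsOverPt β y) (hβ' : IsOverPt β' y)
    (h : α * β = β * α) : α' * β' = β' * α' := by
  obtain ⟨c, rfl⟩ := exists_sc_mul hL hα hα'
  obtain ⟨d, rfl⟩ := exists_sc_mul hL hβ hβ'
  have hc : Commute (sc hL c) (sc hL d * β) := sc_comm hL c _
  have hd : Commute α (sc hL d) := (sc_comm hL d α).symm
  exact ((hc).mul_left (hd.mul_right h)).eq

variable [IsCommMonObj A]

/-- The commutator of two points, as a function on the base. -/
def cm {T : Over (Spec (CommRingCat.of k))} (α β : thetaPts A L T) : Γ(T.left, ⊤)ˣ :=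
  (exists_eq_sc hL (α := (α * β) * (β * α)⁻¹) (by
    have h := isOverPt_mul (isOverPt_mul (isOverPt_pt α) (isOverPt_pt β))
      (isOverPt_inv (isOverPt_mul (isOverPt_pt β) (isOverPt_pt α)))
    rwa [_root_.mul_comm (pt α) (pt β), inv_mul_cancel] at h)).choose

theorem sc_cm {T : Over (Spec (CommRingCat.of k))} (α β : thetaPts A L T) :
    (α * β) * (β * α)⁻¹ = sc hL (cm hL α β) :=
  (exists_eq_sc hL (α := (α * β) * (β * α)⁻¹) (by
    have h := isOverPt_mul (isOverPt_mul (isOverPt_pt α) (isOverPt_pt β))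
      (isOverPt_inv (isOverPt_mul (isOverPt_pt β) (isOverPt_pt α)))
    rwa [_root_.mul_comm (pt α) (pt β), inv_mul_cancel] at h)).choose_spec

theorem cm_eq_one_iff {T : Over (Spec (CommRingCat.of k))} (α β : thetaPts A L T) :
    cm hL α β = 1 ↔ α * β = β * α := by
  rw [← (sc_injective hL T).eq_iff, ← sc_cm, map_one, mul_inv_eq_one]

theorem cm_bc {T G : Over (Spec (CommRingCat.of k))} (g : T ⟶ G) (α β : thetaPts A L G) :
    cm hL (bc g α) (bc g β) = Units.map g.left.appTop.hom.toMonoidHom (cm hL α β) := by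
  refine sc_injective hL T ?_
  rw [← bc_sc, ← sc_cm, ← sc_cm, bc_mul, bc_inv, bc_mul, bc_mul]

theorem cm_congr {T : Over (Spec (CommRingCat.of k))} {α α' β β' : thetaPts A L T} {x y : T ⟶ A}
    (hα : IsOverPt α x) (hα' : IsOverPt α' x) (hβ : IsOverPt β y) (hβ' : IsOverPt β' y) :
    cm hL α' β' = cm hL α β := by
  obtain ⟨c, rfl⟩ := exists_sc_mul hL hα hα'
  obtain ⟨d, rfl⟩ := exists_sc_mul hL hβ hβ'
  refine sc_injective hL T ?_
  rw [← sc_cm, ← sc_cm]
  have hd : Commute α (sc hL d) := (sc_comm hL d α).symm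
  have hb : Commute β (sc hL c) := (sc_comm hL c β).symm
  have hcd : Commute (sc hL c : thetaPts A L T) (sc hL d) := sc_comm hL c _
  have e1 : sc hL c * α * (sc hL d * β) = sc hL c * sc hL d * (α * β) := by
    rw [_root_.mul_assoc, ← _root_.mul_assoc α, hd.eq]
    simp only [_root_.mul_assoc]
  have e2 : sc hL d * β * (sc hL c * α) = sc hL c * sc hL d * (β * α) := by
    rw [hcd.eq, _root_.mul_assoc, ← _root_.mul_assoc β, hb.eq]
    simp only [_root_.mul_assoc]
  rw [e1, e2, mul_inv_rev, _root_.mul_assoc (sc hL c * sc hL d), ← _root_.mul_assoc (α * β),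
    sc_cm, ← _root_.mul_assoc, ← sc_comm hL _ (sc hL c * sc hL d), _root_.mul_assoc, mul_inv_cancel,
    _root_.mul_one]

end Groth.Agent.ThetaScalar
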