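import Groth.Agent.QCohAb.Gen
import Groth.Agent.QcqsColim.Rpush
import Groth.Agent.SiteBase.ModColim
import Groth.Agent.SiteBase.Global
import Groth.Agent.RelPC17.HighVanish
import Groth.Prelude.Def_Canon
import Mathlib.CategoryTheory.Adjunction.AdjointFunctorTheorems
import Mathlib.CategoryTheory.Limits.Constructions.Filtered
import Mathlib.Algebra.Category.ModuleCat.FilteredColimits
import Mathlib.Algebra.Homology.DerivedCategory.Ext.ExactSequences

/-!
# The top cohomology of quasi-coherent modules has a right adjoint
-/

set_option autoImplicit false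
set_option linter.style.haveILetI false
set_option linter.unusedSectionVars false
set_option backward.isDefEq.respectTransparency false
set_option backward.isDefEq.respectTransparency.types false
set_option synthInstance.maxHeartbeats 400000
set_option maxHeartbeats 1000000

universe w u v' v u' u₁

open CategoryTheory CategoryTheory.Limits AlgebraicGeometry TopologicalSpace Opposite
open CategoryTheory.Abelian

noncomputable section

namespace Groth.Agent.TopDual

open CoproductsFromFiniteFiltered in
/-- A functor preserving finite colimits and filtered colimits preserves coproducts. -/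
theorem preservesCoproducts_of_finite_and_filtered {C : Type u'} [Category.{v} C] {D : Type u₁} [Category.{v'} D]
    (G : C ⥤ D) [HasFiniteCoproducts C] (α : Type w) [HasColimitsOfShape (Finset (Discrete α)) C]
    [PreservesFiniteColimits G] [PreservesColimitsOfShape (Finset (Discrete α)) G] :
    PreservesColimitsOfShape (Discrete α) G where
  preservesColimit {F} := by
    refine preservesColimit_of_preserves_colimit_cocone (liftToFinsetColimitCocone F).isColimit ?_
    have hT : ∀ T : Finset (Discrete α), IsColimit (G.mapCocone (colimit.cocone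
        (Discrete.functor fun x : T => F.obj x.1))) := fun T =>
      isColimitOfPreserves G (colimit.isColimit _)
    let hL := isColimitOfPreserves G (colimit.isColimit (liftToFinsetObj F))
    let ext (s : Cocone (F ⋙ G)) (T : Finset (Discrete α)) : G.obj ((liftToFinsetObj F).obj T) ⟶ s.pt :=
      (hT T).desc ⟨s.pt, Discrete.natTrans fun x => s.ι.app x.as.1⟩
    have hext : ∀ (s : Cocone (F ⋙ G)) (T : Finset (Discrete α)) (x : T),
        G.map (Sigma.ι (fun x : T => F.obj x.1) x) ≫ ext s T = s.ι.app x.1 := fun s T x =>
      (hT T).fac ⟨s.pt, Discrete.natTrans fun x => s.ι.app x.as.1⟩ ⟨x⟩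
    let coc (s : Cocone (F ⋙ G)) : Cocone (liftToFinsetObj F ⋙ G) :=
      { pt := s.pt
        ι :=
          { app := ext s
            naturality := fun T T' h => by
              refine (hT T).hom_ext fun x => ?_
              show G.map (Sigma.ι _ x.as) ≫ G.map ((liftToFinsetObj F).map h) ≫ ext s T' =
                G.map (Sigma.ι _ x.as) ≫ ext s T ≫ 𝟙 _
              rw [Category.comp_id, hext, ← Category.assoc, ← G.map_comp]
              simp only [liftToFinsetObj, Sigma.ι_desc]
              exact hext s T' ⟨x.as.1, _⟩ } }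
    refine
      { desc := fun s => hL.desc (coc s)
        fac := fun s j => ?_
        uniq := fun s m hm => ?_ }
    · show G.map (Sigma.ι (fun x : ({j} : Finset (Discrete α)) => F.obj x.1) ⟨j, by simp⟩ ≫
        colimit.ι (liftToFinsetObj F) {j}) ≫ _ = _
      rw [G.map_comp, Category.assoc]
      refine (congrArg (G.map (Sigma.ι (fun x : ({j} : Finset (Discrete α)) => F.obj x.1) ⟨j, by simp⟩) ≫ ·)
        (hL.fac (coc s) {j})).trans ?_
      exact hext s {j} ⟨j, by simp⟩
    · refine hL.uniq (coc s) m fun T => (hT T).hom_ext fun x => ?_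
      show G.map (Sigma.ι _ x.as) ≫ G.map (colimit.ι (liftToFinsetObj F) T) ≫ m = G.map (Sigma.ι _ x.as) ≫ ext s T
      rw [hext, ← hm x.as.1, ← Category.assoc, ← G.map_comp]
      congr 2
      show _ = Sigma.ι (fun y : ({x.as.1} : Finset (Discrete α)) => F.obj y.1) ⟨x.as.1, by simp⟩ ≫
        colimit.ι (liftToFinsetObj F) {x.as.1}
      rw [← colimit.w (liftToFinsetObj F) (homOfLE (x := ({x.as.1} : Finset (Discrete α))) (y := T) (by simp)),
        ← Category.assoc]
      simp [liftToFinsetObj]

/-- Finite and filtered colimits give all colimits. -/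
theorem preservesColimits_of_finite_and_filtered {C : Type u'} [Category.{v} C] {D : Type u₁} [Category.{v'} D]
    (G : C ⥤ D) [HasColimitsOfSize.{w, w} C] [PreservesFiniteColimits G]
    (h : ∀ (J : Type w) [SmallCategory J] [IsFiltered J], PreservesColimitsOfShape J G) :
    PreservesColimitsOfSize.{w, w} G := by
  haveI : HasFiniteColimits C := hasFiniteColimits_of_hasColimitsOfSize.{w, w} C
  haveI : ∀ J : Type w, PreservesColimitsOfShape (Discrete J) G := fun J => by
    classical
    haveI := h (Finset (Discrete J))
    exact preservesCoproducts_of_finite_and_filtered G J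
  exact preservesColimits_of_preservesCoequalizers_and_coproducts G

variable (A : Type u) [CommRing A] (X : Scheme.{u}) [X.Over (Spec (CommRingCat.of A))] (n : ℕ)

/-- Cohomology in degree `n` of quasi-coherent modules, with values in modules over the base. -/
def HF : QCohCat.QCoh X ⥤ ModuleCat.{u} A where
  obj F := ModuleCat.of A (Coh.HH X F.obj n)
  map φ := ModuleCat.ofHom (Canon.HHlin A φ.hom n)
  map_id F := by
    refine ModuleCat.hom_ext (LinearMap.ext fun x => ?_)
    show Sheaf.H.map ((SheafOfModules.toSheaf X.ringCatSheaf).map (𝟙 F.obj)) n x = x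
    rw [CategoryTheory.Functor.map_id, Sheaf.H.map_id_apply]
  map_comp φ ψ := by
    refine ModuleCat.hom_ext (LinearMap.ext fun x => ?_)
    show Sheaf.H.map ((SheafOfModules.toSheaf X.ringCatSheaf).map (φ.hom ≫ ψ.hom)) n x = _
    rw [Functor.map_comp, Sheaf.H.map_comp_apply]
    rfl

instance : (HF A X n).Additive where
  map_add {F G φ ψ} := by
    refine ModuleCat.hom_ext (LinearMap.ext fun x => ?_)
    show Sheaf.H.map ((SheafOfModules.toSheaf X.ringCatSheaf).map (φ.hom + ψ.hom)) n x = _
    rw [Functor.map_add, Sheaf.H.map_add_apply]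
    rfl

theorem preservesFiniteColimits_HF
    (hv : ∀ M : X.Modules, Coh.IsQCoh M → Subsingleton (Coh.HH X M (n + 1))) :
    PreservesFiniteColimits (HF A X n) := by
  refine (Functor.preservesFiniteColimits_iff_forall_exact_map_and_epi _).2 fun S hS => ?_
  have hS' := hS.map_of_exact (QCohCat.isQCoh X).ι
  have hT := QCoh.toAb_shortExact hS'
  refine ⟨(ShortComplex.moduleCat_exact_iff _).2 fun x hx => ?_, (ModuleCat.epi_iff_surjective _).2 fun y => ?_⟩
  · exact Ext.covariant_sequence_exact₂ _ hT (show Coh.HH X S.X₂.obj n from x) hx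
  · obtain ⟨x, hx⟩ := Ext.covariant_sequence_exact₃ _ hT (show Coh.HH X S.X₃.obj n from y) (n₁ := n + 1) rfl
      ((hv _ S.X₁.property).elim _ _)
    exact ⟨x, hx⟩

variable [CompactSpace X] [QuasiSeparatedSpace X]

theorem preservesColimitsOfShape_HF (J : Type u) [SmallCategory J] [IsFiltered J] :
    PreservesColimitsOfShape J (HF A X n) := by
  let T : TopCat.{u} := X.toPresheafedSpace.carrier
  let JX := Opens.grothendieckTopology T
  let HFun : Sheaf JX AddCommGrpCat.{u} ⥤ AddCommGrpCat.{u} := Sheaf.functorH.{u, u, u, u} JX n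
  let L := (Sheaf.cohomologyPresheafFunctor.{u} JX n).flip.obj (op (⊤ : Opens T))
  have hb : Opens.IsBasis {U : Opens T | QcqsColim.GoodOpen U} :=
    Opens.isBasis_iff_nbhd.2 fun {U x} hx => by
      obtain ⟨W, hW, hxW, hWU⟩ := exists_isAffineOpen_mem_and_subset (X := X) (x := x) hx
      exact ⟨W, ⟨hW.isCompact, hW.isQuasiSeparated⟩, hxW, hWU⟩
  have htop : QcqsColim.GoodOpen (⊤ : Opens T) :=
    ⟨(isCompact_univ : IsCompact (Set.univ : Set X)), isQuasiSeparated_univ (α := X)⟩
  haveI hL : PreservesColimitsOfShape J L := QcqsColim.preservesColimitsOfShape_cohomologyPresheaf hb htop J n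
  let e : L ≅ HFun := NatIso.ofComponents
    (fun F => (SiteBase.huTerminalEquiv (isTerminalTop : IsTerminal (⊤ : Opens T)) F n).toAddCommGrpIso)
    (fun {F G} g => by
      ext x
      exact (Ext.comp_assoc_of_third_deg_zero (Ext.mk₀ (SiteBase.freeSheafIsoConst JX isTerminalTop).inv) x
        (Ext.mk₀ g) (zero_add n)).symm)
  haveI : PreservesColimitsOfShape J (HFun) := preservesColimitsOfShape_of_natIso e
  haveI : PreservesColimitsOfSize.{u, u} (SheafOfModules.toSheaf.{u} X.ringCatSheaf) :=
    SiteBase.preservesColimitsOfSize_toSheaf _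
  haveI : PreservesColimitsOfShape J (QCoh.toAbFunctor X) :=
    inferInstanceAs (PreservesColimitsOfShape J (SheafOfModules.toSheaf.{u} X.ringCatSheaf))
  haveI : PreservesColimitsOfShape J
      (((QCohCat.isQCoh X).ι ⋙ QCoh.toAbFunctor X) ⋙ HFun) := inferInstance
  haveI : PreservesColimitsOfShape J (HF A X n ⋙ forget₂ (ModuleCat.{u} A) AddCommGrpCat.{u}) :=
    preservesColimitsOfShape_of_natIso (F := ((QCohCat.isQCoh X).ι ⋙ QCoh.toAbFunctor X) ⋙ HFun)
      (NatIso.ofComponents (fun F => Iso.refl _) fun {F G} g => by ext x; rfl)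
  haveI : ReflectsColimitsOfShape J (forget₂ (ModuleCat.{u} A) AddCommGrpCat.{u}) :=
    reflectsColimitsOfShape_of_reflectsIsomorphisms
  exact preservesColimitsOfShape_of_reflects_of_preserves (HF A X n) (forget₂ (ModuleCat.{u} A) AddCommGrpCat.{u})

/-- Representability of the dual of the top cohomology of quasi-coherent modules. -/
theorem exists_rep (hv : ∀ M : X.Modules, Coh.IsQCoh M → Subsingleton (Coh.HH X M (n + 1))) :
    ∃ (ω : X.Modules) (tr : Coh.HH X ω n →ₗ[A] A), Canon.IsRDualOver A X n ω tr := by
  haveI := preservesFiniteColimits_HF A X n hv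
  haveI : PreservesColimitsOfSize.{u, u} (HF A X n) :=
    preservesColimits_of_finite_and_filtered _ fun J _ _ => preservesColimitsOfShape_HF A X n J
  haveI : WellPowered.{u} (QCohCat.QCoh X) := inferInstance
  haveI : (HF A X n).IsLeftAdjoint := isLeftAdjoint_of_preservesColimits_of_isSeparating
    (P := ObjectProperty.singleton (separator (QCohCat.QCoh X))) (isSeparator_separator _) _
  let adj := Adjunction.ofIsLeftAdjoint (HF A X n)
  let R := (HF A X n).rightAdjoint
  refine ⟨(R.obj (ModuleCat.of A A)).obj, (adj.counit.app (ModuleCat.of A A)).hom,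
    (R.obj (ModuleCat.of A A)).property, fun F hF => ?_⟩
  let F' : QCohCat.QCoh X := ⟨F, hF⟩
  let e : (F ⟶ (R.obj (ModuleCat.of A A)).obj) ≃ (Coh.HH X F n →ₗ[A] A) :=
    (InducedCategory.homEquiv (X := F') (Y := R.obj (ModuleCat.of A A))).symm.trans
      ((adj.homEquiv F' (ModuleCat.of A A)).symm.trans ModuleCat.homEquiv)
  refine (congrArg Function.Bijective (funext fun φ => ?_)).mp e.bijective
  show ((adj.homEquiv F' (ModuleCat.of A A)).symm
    ((InducedCategory.homEquiv (X := F') (Y := R.obj (ModuleCat.of A A))).symm φ)).hom = _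
  rw [Adjunction.homEquiv_counit]
  rfl

end Groth.Agent.TopDual
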