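import Mathlib

/-! Avoiding countably many proper closed subsets over an uncountable field. -/

set_option linter.style.haveILetI false

universe u

open AlgebraicGeometry CategoryTheory Polynomial

namespace Groth.Agent.UncountableAvoid

theorem exists_eval_ne_zero_poly (k : Type u) [Field k] [Uncountable k] {ι : Type*} [Countable ι]
    (g : ι → k[X]) (hg : ∀ i, g i ≠ 0) : ∃ t : k, ∀ i, (g i).eval t ≠ 0 := by
  by_contra! h
  have hc : (⋃ i, {t : k | (g i).eval t = 0}).Countable :=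
    Set.countable_iUnion fun i => (Polynomial.finite_setOfPred_isRoot (hg i)).countable
  apply not_countable_iff.mpr ‹Uncountable k›
  rw [← Set.countable_univ_iff]
  refine hc.mono fun t _ => ?_
  obtain ⟨i, hi⟩ := h t
  exact Set.mem_iUnion.mpr ⟨i, hi⟩

theorem exists_eval_ne_zero (k : Type u) [Field k] [Uncountable k] {ι : Type*} [Countable ι] :
    ∀ (d : ℕ) (g : ι → MvPolynomial (Fin d) k), (∀ i, g i ≠ 0) →
      ∃ y : Fin d → k, ∀ i, MvPolynomial.eval y (g i) ≠ 0
  | 0, g, hg => by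
    refine ⟨Fin.elim0, fun i h => hg i ?_⟩
    have : g i = MvPolynomial.C ((g i).coeff 0) := MvPolynomial.eq_C_of_isEmpty _
    rw [this] at h ⊢
    simp only [MvPolynomial.eval_C] at h
    simp [h]
  | d + 1, g, hg => by
    let P : ι → Polynomial (MvPolynomial (Fin d) k) := fun i => MvPolynomial.finSuccEquiv k d (g i)
    have hP : ∀ i, P i ≠ 0 := fun i => by
      simp only [P, ne_eq, EmbeddingLike.map_eq_zero_iff]; exact hg i
    obtain ⟨y, hy⟩ := exists_eval_ne_zero k d (fun i => (P i).leadingCoeff)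
      fun i => leadingCoeff_ne_zero.mpr (hP i)
    obtain ⟨t, ht⟩ := exists_eval_ne_zero_poly k (fun i => (P i).map (MvPolynomial.eval y))
      fun i h => hy i (by
        have := congrArg (fun q => q.coeff (P i).natDegree) h
        simpa [Polynomial.coeff_map] using this)
    refine ⟨Fin.cons t y, fun i => ?_⟩
    rw [MvPolynomial.eval_eq_eval_mv_eval']
    exact ht i

/-- A countable family of non-nilpotent-in-`A ⧸ p` elements misses some maximal ideal over `p`. -/
theorem exists_maximal_avoid (k : Type u) [Field k] [Uncountable k] (A : Type u) [CommRing A]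
    [Algebra k A] [Algebra.FiniteType k A] (p : Ideal A) [p.IsPrime] {ι : Type*} [Countable ι]
    (f : ι → A) (hf : ∀ i, f i ∉ p) :
    ∃ m : Ideal A, m.IsMaximal ∧ p ≤ m ∧ ∀ i, f i ∉ m := by
  haveI : Algebra.FiniteType k (A ⧸ p) :=
    Algebra.FiniteType.of_surjective (Ideal.Quotient.mkₐ k p) Ideal.Quotient.mk_surjective
  obtain ⟨s, φ, hinj, hfin⟩ := exists_finite_inj_algHom_of_fg k (A ⧸ p)
  letI : Algebra (MvPolynomial (Fin s) k) (A ⧸ p) := φ.toRingHom.toAlgebra
  haveI : Module.Finite (MvPolynomial (Fin s) k) (A ⧸ p) := hfin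
  have hne : ∀ i, Ideal.Quotient.mk p (f i) ≠ 0 := fun i h =>
    hf i (Ideal.Quotient.eq_zero_iff_mem.mp h)
  have hg : ∀ i, ∃ g : MvPolynomial (Fin s) k, g ≠ 0 ∧
      algebraMap (MvPolynomial (Fin s) k) (A ⧸ p) g ∈ Ideal.span {Ideal.Quotient.mk p (f i)} := by
    intro i
    have := Ideal.comap_ne_bot_of_integral_mem (R := MvPolynomial (Fin s) k) (hne i)
      (Ideal.mem_span_singleton_self _) (Algebra.IsIntegral.isIntegral _)
    obtain ⟨g, hg1, hg2⟩ := Submodule.exists_mem_ne_zero_of_ne_bot this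
    exact ⟨g, hg2, hg1⟩
  choose g hg0 hgmem using hg
  obtain ⟨y, hy⟩ := exists_eval_ne_zero k s g hg0
  haveI : (RingHom.ker (MvPolynomial.eval y)).IsMaximal :=
    RingHom.ker_isMaximal_of_surjective _ fun c => ⟨MvPolynomial.C c, by simp⟩
  obtain ⟨Q, hQ, hQy⟩ := Ideal.exists_ideal_over_maximal_of_isIntegral (S := A ⧸ p)
    (RingHom.ker (MvPolynomial.eval y))
    ((RingHom.injective_iff_ker_eq_bot (algebraMap (MvPolynomial (Fin s) k) (A ⧸ p))).mp hinj
      ▸ bot_le)
  haveI := hQ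
  refine ⟨Q.comap (Ideal.Quotient.mk p),
    Ideal.comap_isMaximal_of_surjective _ Ideal.Quotient.mk_surjective, ?_, fun i hi => hy i ?_⟩
  · intro a ha
    simp [Ideal.mem_comap, Ideal.Quotient.eq_zero_iff_mem.mpr ha]
  · have h1 : Ideal.span {Ideal.Quotient.mk p (f i)} ≤ Q :=
      (Ideal.span_singleton_le_iff_mem _).mpr (Ideal.mem_comap.mp hi)
    have h2 : g i ∈ Q.comap (algebraMap (MvPolynomial (Fin s) k) (A ⧸ p)) := h1 (hgmem i)
    rw [hQy] at h2
    exact h2

/-- An irreducible closed set contains a closed point outside any countable family of closed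
sets not containing it. -/
theorem exists_closedPoint_avoid (k : Type u) [Field k] [Uncountable k]
    (X : Scheme.{u}) (sX : X ⟶ Spec (CommRingCat.of k)) [LocallyOfFiniteType sX]
    (T : Set X) (hT : IsClosed T) (hTi : IsIrreducible T) {ι : Type*} [Countable ι]
    (Z : ι → TopologicalSpace.Closeds X) (hZ : ∀ i, ¬ T ⊆ (Z i : Set X)) :
    ∃ x ∈ T, IsClosed ({x} : Set X) ∧ ∀ i, x ∉ Z i := by
  obtain ⟨η, hη⟩ := QuasiSober.sober hTi hT
  obtain ⟨_, ⟨U, hU, rfl⟩, hηU, -⟩ :=
    X.isBasis_affineOpens.exists_subset_of_mem_open (Set.mem_univ η) isOpen_univ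
  replace hU : IsAffineOpen U := hU
  obtain ⟨φ, hφ⟩ := Spec.map_surjective (hU.fromSpec ≫ sX)
  have hft : φ.hom.FiniteType := by
    rw [← HasRingHomProperty.Spec_iff (P := @LocallyOfFiniteType), hφ]
    infer_instance
  letI : Algebra k Γ(X, U) := φ.hom.toAlgebra
  haveI : Algebra.FiniteType k Γ(X, U) := hft
  haveI : JacobsonSpace (Spec (CommRingCat.of k)) := inferInstance
  haveI : JacobsonSpace X := LocallyOfFiniteType.jacobsonSpace sX
  have hj := hU.fromSpec.isOpenEmbedding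
  obtain ⟨P, hP⟩ : ∃ P, hU.fromSpec P = η := by
    rw [← Set.mem_range, hU.range_fromSpec]; exact hηU
  have hf : ∀ i, ∃ f : Γ(X, U), f ∉ P.asIdeal ∧
      ∀ Q : Spec Γ(X, U), f ∉ Q.asIdeal → hU.fromSpec Q ∉ Z i := by
    intro i
    have hclosed : IsClosed (hU.fromSpec ⁻¹' (Z i : Set X)) :=
      (Z i).isClosed.preimage hU.fromSpec.continuous
    obtain ⟨I, hI⟩ := (PrimeSpectrum.isClosed_iff_zeroLocus_ideal _).mp hclosed
    have hPI : ¬ (I : Set Γ(X, U)) ⊆ P.asIdeal := by
      intro h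
      have : P ∈ hU.fromSpec ⁻¹' (Z i : Set X) := by rw [hI]; exact h
      apply hZ i
      rw [← hη]
      exact (Z i).isClosed.closure_subset_iff.mpr (Set.singleton_subset_iff.mpr (hP ▸ this))
    obtain ⟨f, hfI, hfP⟩ := Set.not_subset.mp hPI
    refine ⟨f, hfP, fun Q hQ hmem => hQ ?_⟩
    have : Q ∈ PrimeSpectrum.zeroLocus (I : Set Γ(X, U)) := by rw [← hI]; exact hmem
    exact this hfI
  choose f hf hfZ using hf
  haveI : P.asIdeal.IsPrime := P.2
  obtain ⟨m, hm, hPm, hfm⟩ := exists_maximal_avoid k Γ(X, U) P.asIdeal f hf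
  let Q : Spec Γ(X, U) := ⟨m, hm.isPrime⟩
  refine ⟨hU.fromSpec Q, ?_, ?_, fun i => hfZ i Q (hfm i)⟩
  · have h1 : Q ∈ closure {P} := by
      rw [← specializes_iff_mem_closure]
      exact (PrimeSpectrum.le_iff_specializes P Q).mp hPm
    rw [← hη, ← hP]
    exact image_closure_subset_closure_image hU.fromSpec.continuous ⟨Q, h1, rfl⟩ |>
      fun h => by rwa [Set.image_singleton] at h
  · have h1 : Q ∈ closedPoints (Spec Γ(X, U)) :=
      mem_closedPoints_iff.mpr ((PrimeSpectrum.isClosed_singleton_iff_isMaximal Q).mpr hm)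
    rw [← hj.preimage_closedPoints] at h1
    exact mem_closedPoints_iff.mp h1

theorem exists_closedPoint_avoid_open (k : Type u) [Field k] [Uncountable k]
    (X : Scheme.{u}) (sX : X ⟶ Spec (CommRingCat.of k)) [LocallyOfFiniteType sX]
    [IrreducibleSpace X] (Z : ℕ → TopologicalSpace.Closeds X)
    (hZ : ∀ n, (Z n : Set X) ≠ Set.univ) (W : Set X) (hW : IsOpen W) (hne : W.Nonempty) :
    ∃ x ∈ W, IsClosed ({x} : Set X) ∧ ∀ n, x ∉ Z n := by
  obtain ⟨x, -, hx, hx'⟩ := exists_closedPoint_avoid k X sX Set.univ isClosed_univ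
    (IrreducibleSpace.isIrreducible_univ X)
    (fun o : Option ℕ => o.elim ⟨Wᶜ, hW.isClosed_compl⟩ Z) (by
      rintro (_ | n) h
      · obtain ⟨w, hw⟩ := hne
        exact h (Set.mem_univ w) hw
      · exact hZ n (Set.univ_subset_iff.mp h))
  exact ⟨x, not_not.mp (hx' none), hx, fun n => hx' (some n)⟩

/-- Above an irreducible closed set, a family of irreducible closed sets has a maximal element. -/
theorem exists_maximal_irreducible (k : Type u) [Field k] (X : Scheme.{u})
    (sX : X ⟶ Spec (CommRingCat.of k)) [LocallyOfFiniteType sX]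
    (F : Set (TopologicalSpace.Closeds X)) (hF : ∀ T ∈ F, IsIrreducible (T : Set X))
    (T₀ : TopologicalSpace.Closeds X) (hT₀ : T₀ ∈ F) :
    ∃ T, Maximal (· ∈ F) T ∧ T₀ ≤ T := by
  haveI : IsLocallyNoetherian X := LocallyOfFiniteType.isLocallyNoetherian sX
  obtain ⟨η₀, hη₀⟩ := QuasiSober.sober (hF T₀ hT₀) T₀.isClosed
  obtain ⟨_, ⟨U, hU, rfl⟩, hηU, -⟩ :=
    X.isBasis_affineOpens.exists_subset_of_mem_open (Set.mem_univ η₀) isOpen_univ
  replace hU : IsAffineOpen U := hU
  haveI : IsNoetherianRing Γ(X, U) := IsLocallyNoetherian.component_noetherian ⟨U, hU⟩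
  let G : Set (Spec Γ(X, U)) :=
    {P | ∃ T ∈ F, T₀ ≤ T ∧ IsGenericPoint (hU.fromSpec P) (T : Set X)}
  have hmem : ∀ T ∈ F, T₀ ≤ T → ∃ P, IsGenericPoint (hU.fromSpec P) (T : Set X) := by
    intro T hT hle
    obtain ⟨η, hη⟩ := QuasiSober.sober (hF T hT) T.isClosed
    have h1 : η₀ ∈ (T : Set X) := hle hη₀.mem
    have h2 : η ∈ U := (hη.specializes h1).mem_open U.isOpen hηU
    obtain ⟨P, hP⟩ : η ∈ Set.range hU.fromSpec := by rw [hU.range_fromSpec]; exact h2
    exact ⟨P, hP ▸ hη⟩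
  obtain ⟨P₀, hP₀⟩ := hmem T₀ hT₀ le_rfl
  have hne : G.Nonempty := ⟨P₀, T₀, hT₀, le_rfl, hP₀⟩
  obtain ⟨P, ⟨T, hT, hle, hPT⟩, hmin⟩ :=
    (InvImage.wf (fun P : Spec Γ(X, U) => P.asIdeal.height) wellFounded_lt).has_min G hne
  refine ⟨T, ⟨hT, fun T' hT' hTT' => ?_⟩, hle⟩
  obtain ⟨P', hP'⟩ := hmem T' hT' (hle.trans hTT')
  have h1 : hU.fromSpec P' ⤳ hU.fromSpec P := hP'.specializes (hTT' hPT.mem)
  rw [hU.fromSpec.isOpenEmbedding.isInducing.specializes_iff] at h1
  have h2 : P'.asIdeal ≤ P.asIdeal := (PrimeSpectrum.le_iff_specializes P' P).mpr h1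
  rcases h2.lt_or_eq with hlt | heq
  · haveI : P'.asIdeal.IsPrime := P'.2
    exact absurd (Ideal.height_strict_mono_of_isPrime hlt)
      (hmin P' ⟨T', hT', hle.trans hTT', hP'⟩)
  · have : P' = P := PrimeSpectrum.ext heq
    subst this
    intro x hx
    show x ∈ (T : Set X)
    rw [← hPT.def, hP'.def]
    exact hx

end Groth.Agent.UncountableAvoid
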