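import Groth.Agent.Lib.AsympCoh
import Groth.Agent.AssPtX.Noeth

/-!
Uniform growth by devissage: a family of numerical functions on coherent modules, each obeying the
inequalities of a long exact sequence for sequences avoiding its bad locus, grows like the dimension of the
support with one constant for all members avoiding a finite set of points.
-/

set_option autoImplicit false
set_option linter.style.haveILetI false
set_option linter.unusedSectionVars false
set_option backward.isDefEq.respectTransparency false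
set_option backward.isDefEq.respectTransparency.types false
set_option maxHeartbeats 1000000

universe u v

open CategoryTheory CategoryTheory.Limits AlgebraicGeometry TopologicalSpace Opposite

noncomputable section

namespace Groth.Agent.UniformGrowth

open Groth.Agent Groth.Agent.Snapper Groth.Agent.CohGrowth
open scoped Groth.Agent.H23.PicMul

/-- The weakly associated points. -/
def wass {X : Scheme.{u}} (F : X.Modules) : Set X := {x | Curv2.IsWeakAssPoint F x}

theorem finite_wass {X : Scheme.{u}} [IsNoetherian X] {F : X.Modules} (hF : Coh.IsCoh F) : (wass F).Finite :=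
  (AssPtX.finite_assPoints hF (U := ⊤) isCompact_univ).subset fun _ hx => ⟨trivial, AssPtX.isAssPoint_iff.2 hx⟩

/-- A family of numerical functions with the properties needed for devissage. -/
structure Th (X : Scheme.{u}) {r : ℕ} (L : Fin r → X.Modules) where
  A : Type v
  av : A → Set X
  G : A → ℕ → X.Modules → (Fin r → ℕ) → ℕ
  off : ℕ
  congr : ∀ a j {M N : X.Modules}, (M ≅ N) → ∀ n, G a j M n = G a j N n
  les : ∀ a {S : ShortComplex X.Modules}, S.ShortExact → Coh.IsCoh S.X₁ → Coh.IsCoh S.X₂ → Coh.IsCoh S.X₃ →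
    wass S.X₁ ⊆ av a → wass S.X₂ ⊆ av a → wass S.X₃ ⊆ av a → ∀ j n,
      G a j S.X₂ n ≤ G a j S.X₁ n + G a j S.X₃ n ∧ G a j S.X₁ n ≤ G a j S.X₂ n + G a (j - 1) S.X₃ n ∧
        G a j S.X₃ n ≤ G a j S.X₂ n + G a (j + 1) S.X₁ n
  bump : ∀ a j M n i, G a j (CohB1.tensorMod (L i) M) n = G a j M (Function.update n i (n i + 1))
  base : ∀ F, Coh.IsCoh F → ∀ j, ∃ C : ℕ, ∃ Z : Set X, Z.Finite ∧ ∀ a, Z ⊆ av a → G a j F 0 ≤ C
  small : ∀ F, Coh.IsCoh F → ∀ C : Closeds X, topologicalKrullDim ↥(C : Set X) < (off : WithBot ℕ∞) →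
    CohB1.support F ⊆ C → ∃ Z : Set X, Z.Finite ∧ ∀ a, Z ⊆ av a → ∀ j n, G a j F n = 0

variable {X : Scheme.{u}} {r : ℕ} {L : Fin r → X.Modules} (T : Th.{u, v} X L)

/-- Bounded by the allowed growth with one constant, for the members avoiding finitely many points. -/
def UB (e : ℕ) (f : T.A → (Fin r → ℕ) → ℕ) : Prop :=
  ∃ C : ℕ, ∃ Z : Set X, Z.Finite ∧ ∀ a, Z ⊆ T.av a → ∀ n, f a n ≤ C * w e (∑ i, n i)

variable {T}

theorem UB.mono {e : ℕ} {f g : T.A → (Fin r → ℕ) → ℕ} (h : UB T e f) {Z : Set X} (hZ : Z.Finite)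
    (hle : ∀ a, Z ⊆ T.av a → ∀ n, g a n ≤ f a n) : UB T e g :=
  let ⟨C, W, hW, hC⟩ := h
  ⟨C, Z ∪ W, hZ.union hW, fun a ha n => (hle a (fun _ hx => ha (Or.inl hx)) n).trans
    (hC a (fun _ hx => ha (Or.inr hx)) n)⟩

theorem UB.add {e : ℕ} {f g : T.A → (Fin r → ℕ) → ℕ} (h : UB T e f) (h' : UB T e g) :
    UB T e fun a n => f a n + g a n :=
  let ⟨C, Z, hZ, hC⟩ := h; let ⟨C', Z', hZ', hC'⟩ := h'
  ⟨C + C', Z ∪ Z', hZ.union hZ', fun a ha n => by
    rw [add_mul]
    exact Nat.add_le_add (hC a (fun _ hx => ha (Or.inl hx)) n) (hC' a (fun _ hx => ha (Or.inr hx)) n)⟩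

/-- Small steps give growth one degree up. -/
theorem ub_of_step {e : ℕ} {f : T.A → (Fin r → ℕ) → ℕ}
    (h : ∀ i, UB T e fun a n => Nat.dist (f a (Function.update n i (n i + 1))) (f a n))
    (h0 : ∃ C : ℕ, ∃ Z : Set X, Z.Finite ∧ ∀ a, Z ⊆ T.av a → f a 0 ≤ C) : UB T (e + 1) f := by
  classical
  choose C Z hZ hC using h
  obtain ⟨C₀, Z₀, hZ₀, hC₀⟩ := h0
  let c := ∑ i, C i
  refine ⟨C₀ + c, Z₀ ∪ ⋃ i, Z i, hZ₀.union (Set.finite_iUnion hZ), fun a ha => ?_⟩
  have key : ∀ s, ∀ n : Fin r → ℕ, ∑ i, n i = s → f a n ≤ f a 0 + s * (c * w e s) := by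
    intro s
    induction s with
    | zero =>
      intro n hn
      rw [show n = 0 from funext fun i => (Finset.sum_eq_zero_iff.1 hn) i (Finset.mem_univ i)]
      exact Nat.le_add_right _ _
    | succ s ih =>
      intro n hn
      obtain ⟨i, -, hi⟩ := Finset.exists_ne_zero_of_sum_ne_zero (s := Finset.univ) (f := n) (by omega)
      let m := Function.update n i (n i - 1)
      have hn' : Function.update m i (m i + 1) = n := by
        simp only [m, Function.update_self, Function.update_idem]
        rw [Nat.sub_add_cancel (Nat.one_le_iff_ne_zero.2 hi), Function.update_eq_self]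
      have hm : ∑ l, m l = s := by
        have := CohGrowth.sum_update m i
        rw [hn', hn] at this
        omega
      have h1 : Nat.dist (f a (Function.update m i (m i + 1))) (f a m) ≤ C i * w e (∑ l, m l) :=
        hC i a (fun _ hx => ha (Or.inr (Set.mem_iUnion.2 ⟨i, hx⟩))) m
      rw [hn', hm, Nat.dist] at h1
      have h2 := ih m hm
      have h3 : C i * w e s ≤ c * w e (s + 1) :=
        Nat.mul_le_mul (Finset.single_le_sum (fun l _ => Nat.zero_le _) (Finset.mem_univ i)) (w_mono (Nat.le_succ s))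
      have h4 : s * (c * w e s) ≤ s * (c * w e (s + 1)) :=
        Nat.mul_le_mul_left _ (Nat.mul_le_mul_left _ (w_mono (Nat.le_succ s)))
      rw [Nat.succ_mul]
      omega
  intro n
  refine (key _ n rfl).trans ?_
  rw [w_succ, add_mul]
  refine Nat.add_le_add ((hC₀ a fun _ hx => ha (Or.inl hx)).trans
    (Nat.le_mul_of_pos_right _ (pow_pos (Nat.succ_pos _) _))) ?_
  rw [mul_left_comm]
  exact Nat.mul_le_mul_left c (mul_w_le _ _)

variable [IsNoetherian X]

/-- A map changes the functions by at most those of its kernel and cokernel. -/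
theorem dist_map_le {A B : X.Modules} (hA : Coh.IsCoh A) (hB : Coh.IsCoh B) (φ : A ⟶ B) :
    ∃ Z : Set X, Z.Finite ∧ ∀ a, Z ⊆ T.av a → ∀ j n, Nat.dist (T.G a j A n) (T.G a j B n) ≤
      T.G a j (kernel φ) n + T.G a (j + 1) (kernel φ) n + (T.G a j (cokernel φ) n + T.G a (j - 1) (cokernel φ) n) := by
  have hK := QCoh.isCoh_kernel hA hB φ
  have hC := QCoh.isCoh_cokernel hA.1 hB φ
  have hI : Coh.IsCoh (Abelian.image φ) :=
    QCoh.isCoh_of_epi (Abelian.factorThruImage φ) hA (QCoh.isQCoh_kernel hB.1 hC.1 _)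
  have hS₁ : (ShortComplex.mk (kernel.ι φ) (Abelian.factorThruImage φ)
      ((cancel_mono (Abelian.image.ι φ)).1 (by rw [Category.assoc, Abelian.image.fac, kernel.condition, zero_comp]))).ShortExact :=
    { exact := ShortComplex.exact_of_f_is_kernel _ (KernelFork.IsLimit.ofι' _ _ fun {T} t ht =>
        ⟨kernel.lift φ t (by rw [← Abelian.image.fac φ, reassoc_of% ht, zero_comp]), kernel.lift_ι _ _ _⟩)
      mono_f := inferInstance
      epi_g := inferInstance }
  have hS₂ : (ShortComplex.mk (Abelian.image.ι φ) (cokernel.π φ) (kernel.condition _)).ShortExact :=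
    { exact := ShortComplex.exact_of_f_is_kernel _ (kernelIsKernel (cokernel.π φ))
      mono_f := inferInstance
      epi_g := inferInstance }
  refine ⟨wass (kernel φ) ∪ wass A ∪ wass (Abelian.image φ) ∪ wass B ∪ wass (cokernel φ),
    ((((finite_wass hK).union (finite_wass hA)).union (finite_wass hI)).union (finite_wass hB)).union (finite_wass hC),
    fun a ha j n => ?_⟩
  obtain ⟨a1, -, a2⟩ := T.les a hS₁ hK hA hI (fun _ h => ha (Or.inl (Or.inl (Or.inl (Or.inl h)))))
    (fun _ h => ha (Or.inl (Or.inl (Or.inl (Or.inr h))))) (fun _ h => ha (Or.inl (Or.inl (Or.inr h)))) j n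
  obtain ⟨b1, b2, -⟩ := T.les a hS₂ hI hB hC (fun _ h => ha (Or.inl (Or.inl (Or.inr h))))
    (fun _ h => ha (Or.inl (Or.inr h))) (fun _ h => ha (Or.inr h)) j n
  dsimp only at a1 a2 b1 b2
  unfold Nat.dist
  omega

/-- A map which is an isomorphism over `U` changes little. -/
theorem ub_dist_of_isoOn {e : ℕ} {C : Set X} {U : X.Opens}
    (IH : ∀ M : X.Modules, Coh.IsCoh M → CohB1.support M ⊆ C \ U → ∀ j, UB T e fun a => T.G a j M)
    {A B : X.Modules} (hA : Coh.IsCoh A) (hB : Coh.IsCoh B) (hAC : CohB1.support A ⊆ C)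
    (hBC : CohB1.support B ⊆ C) (φ : A ⟶ B) (hφ : IsoOn U φ) (j : ℕ) :
    UB T e fun a n => Nat.dist (T.G a j A n) (T.G a j B n) := by
  obtain ⟨hk, hc⟩ := support_subset_compl hφ
  obtain ⟨hk', hc'⟩ := support_sub_of_map hA hB φ
  have IK := IH _ (QCoh.isCoh_kernel hA hB φ) fun x hx => ⟨hAC (hk' hx), hk hx⟩
  have IC := IH _ (QCoh.isCoh_cokernel hA.1 hB φ) fun x hx => ⟨hBC (hc' hx), hc hx⟩
  obtain ⟨Z, hZ, hle⟩ := dist_map_le (T := T) hA hB φ
  exact (((IK j).add (IK (j + 1))).add ((IC j).add (IC (j - 1)))).mono hZ fun a ha n => hle a ha j n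

variable (hL : ∀ i, PicF.IsInvertible (L i))

include hL in
/-- Raising one exponent changes little. -/
theorem ub_dist_bump {e : ℕ} {C : Closeds X} {U : X.Opens} (i : Fin r) {ε : Γ(L i, U)} (hε : InvX.IsFrame ε)
    (IH : ∀ M : X.Modules, Coh.IsCoh M → CohB1.support M ⊆ (C : Set X) \ U → ∀ j, UB T e fun a => T.G a j M)
    {M : X.Modules} (hM : Coh.IsCoh M) (hMC : CohB1.support M ⊆ C) (j : ℕ) :
    UB T e fun a n => Nat.dist (T.G a j M (Function.update n i (n i + 1))) (T.G a j M n) := by
  obtain ⟨K, I, a', b', c', hK, hI, ha, hb, hc⟩ := exists_link_frame (hL i) hε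
  let F := AmpleVan.tw M
  have hsupp : ∀ A, CohB1.support (F.obj A) ⊆ C := fun A => fun x hx => hMC (CurveTensor.support_tensor_subset hx)
  have hcoh : ∀ {A}, Coh.IsCoh A → Coh.IsCoh (F.obj A) := fun h => AmpleVan.isCoh_tensor h hM
  have e1 := ub_dist_of_isoOn IH (hcoh hK) (hcoh QCoh.isCoh_structureModule') (hsupp _) (hsupp _) _ (ha.tensor M) j
  have e2 := ub_dist_of_isoOn IH (hcoh hK) (hcoh hI) (hsupp _) (hsupp _) _ (hb.tensor M) j
  have e3 := ub_dist_of_isoOn IH (hcoh (AmpleVan.isCoh_invertible (hL i))) (hcoh hI) (hsupp _) (hsupp _) _ (hc.tensor M) j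
  refine ((e1.add e2).add e3).mono Set.finite_empty fun a _ n => ?_
  have h1 : T.G a j (F.obj (Coh.structureModule X)) n = T.G a j M n :=
    T.congr a j (CurveTensor.structureTensorIso M) n
  have h2 : T.G a j (F.obj (L i)) n = T.G a j M (Function.update n i (n i + 1)) := T.bump a j M n i
  rw [← h1, ← h2]
  unfold Nat.dist
  omega

include hL in
/-- **Uniform growth.** -/
theorem ub_of_dim_lt : ∀ (e : ℕ) (C : Closeds X),
    topologicalKrullDim ↥(C : Set X) < ((T.off + e : ℕ) : WithBot ℕ∞) →
      ∀ M : X.Modules, Coh.IsCoh M → CohB1.support M ⊆ C → ∀ j, UB T e fun a => T.G a j M := by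
  intro e
  induction e with
  | zero =>
    intro C hC M hM hMC j
    obtain ⟨Z, hZ, h⟩ := T.small M hM C hC hMC
    exact ⟨0, Z, hZ, fun a ha n => by simp [h a ha j n]⟩
  | succ e IHe =>
    intro C
    induction C using WellFoundedLT.induction with
    | ind C IH =>
      intro hC M hM hMC j
      rcases Set.eq_empty_or_nonempty (C : Set X) with h0 | hne
      · obtain ⟨Z, hZ, h⟩ := T.small M hM C (by
          haveI : IsEmpty ↥(C : Set X) := Set.isEmpty_coe_sort.2 h0
          haveI : IsEmpty (IrreducibleCloseds ↥(C : Set X)) := ⟨fun z => isEmptyElim z.isIrreducible.nonempty.some⟩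
          rw [topologicalKrullDim, Order.krullDim_eq_bot]
          exact WithBot.bot_lt_coe _) hMC
        exact ⟨0, Z, hZ, fun a ha n => by simp [h a ha j n]⟩
      by_cases hirr : IsIrreducible (C : Set X)
      · obtain ⟨η, hη⟩ := QuasiSober.sober hirr C.isClosed
        have hηC : η ∈ (C : Set X) := hη.mem
        refine ub_of_step (fun i => ?_) (T.base M hM j)
        obtain ⟨U, hηU, ε, hε⟩ := InvX.exists_frame (hL i) η
        refine ub_dist_bump hL i hε (fun N hN hNs => IHe ⟨_, C.isClosed.sdiff U.2⟩ ?_ N hN hNs) hM hMC j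
        haveI : IrreducibleSpace ↥(C : Set X) := isIrreducible_iff_irreducibleSpace.1 hirr
        let Y : Set ↥(C : Set X) := {y | (y : X) ∈ (U : Set X)ᶜ}
        have hlt := H23.TopDim.dim_lt_of_ssubset (X := ↥(C : Set X)) (fun h => by rw [h] at hC; exact not_top_lt hC)
          (Y := Y) (U.2.isClosed_compl.preimage continuous_subtype_val)
          (fun h => (h.ge (Set.mem_univ ⟨η, hηC⟩) : η ∈ (U : Set X)ᶜ) hηU)
        have hle : topologicalKrullDim ↥((C : Set X) \ U) ≤ topologicalKrullDim ↥Y := by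
          let g : ↥((C : Set X) \ U) → ↥Y := fun p => ⟨⟨p.1, p.2.1⟩, p.2.2⟩
          have hcomp : Topology.IsInducing ((Subtype.val ∘ Subtype.val : ↥Y → X) ∘ g) :=
            show Topology.IsInducing (Subtype.val : ↥((C : Set X) \ U) → X) from Topology.IsInducing.subtypeVal
          exact ((Topology.IsInducing.subtypeVal.comp Topology.IsInducing.subtypeVal).of_comp_iff.1 hcomp).topologicalKrullDim_le
        refine lt_of_le_of_lt hle ?_
        revert hlt hC
        rw [show T.off + (e + 1) = (T.off + e) + 1 from rfl]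
        generalize topologicalKrullDim ↥Y = a
        generalize topologicalKrullDim ↥(C : Set X) = b
        generalize T.off + e = d
        intro hC hlt
        cases a with
        | bot => exact WithBot.bot_lt_coe _
        | coe a =>
          cases b with
          | bot => exact absurd hlt not_lt_bot
          | coe b =>
            have h1 : a < b := WithBot.coe_lt_coe.1 hlt
            have h2 : b < ((d + 1 : ℕ) : ℕ∞) := WithBot.coe_lt_coe.1 hC
            refine WithBot.coe_lt_coe.2 (lt_of_lt_of_le h1 ?_)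
            exact ENat.lt_add_one_iff (ENat.natCast_ne_top d) |>.1 (by exact_mod_cast h2)
      · obtain ⟨A, B, hA, hB, hsub, hnA, hnB⟩ : ∃ A B : Set X, IsClosed A ∧ IsClosed B ∧
            (C : Set X) ⊆ A ∪ B ∧ ¬ (C : Set X) ⊆ A ∧ ¬ (C : Set X) ⊆ B := by
          by_contra! hno
          exact hirr ⟨hne, isPreirreducible_iff_isClosed_union_isClosed.2 fun A B hA hB hs =>
            or_iff_not_imp_left.2 fun hA' => hno A B hA hB hs hA'⟩
        let C₁ : Closeds X := ⟨(C : Set X) ∩ A, C.isClosed.inter hA⟩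
        let C₂ : Closeds X := ⟨(C : Set X) ∩ B, C.isClosed.inter hB⟩
        have h1 : C₁ < C := lt_of_le_of_ne (Set.inter_subset_left : (C : Set X) ∩ A ⊆ C)
          fun h => hnA (Set.inter_eq_left.1 (congrArg (SetLike.coe) h))
        have h2 : C₂ < C := lt_of_le_of_ne (Set.inter_subset_left : (C : Set X) ∩ B ⊆ C)
          fun h => hnB (Set.inter_eq_left.1 (congrArg (SetLike.coe) h))
        have hdim : ∀ C' : Closeds X, C' ≤ C →
            topologicalKrullDim ↥(C' : Set X) < ((T.off + (e + 1) : ℕ) : WithBot ℕ∞) :=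
          fun C' h => lt_of_le_of_lt (H23.TopDim.dim_le_dim_of_subset (show (C' : Set X) ⊆ C from h)) hC
        let U : X.Opens := ⟨(C₂ : Set X)ᶜ, C₂.isClosed.isOpen_compl⟩
        let φ := resMap U M
        have hQ : Coh.IsQCoh ((Scheme.Modules.pushforward U.ι).obj (M.restrict U.ι)) :=
          QCoh.isQCoh_pushforward U.ι (QCoh.isQCoh_restrict U.ι hM.1)
        have hco := QCoh.isQCoh_cokernel hM.1 hQ φ
        have hI : Coh.IsCoh (Abelian.image φ) :=
          QCoh.isCoh_of_epi (Abelian.factorThruImage φ) hM (QCoh.isQCoh_kernel hQ hco _)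
        have hK : Coh.IsCoh (kernel φ) := QCoh.isCoh_of_mono (kernel.ι φ) hM (QCoh.isQCoh_kernel hM.1 hQ φ)
        have b₂ := IH C₂ h2 (hdim C₂ h2.le) _ hK fun x hx =>
          not_not.1 fun hx2 => (support_subset_compl (isoOn_resMap U M)).1 hx (show x ∈ U from hx2)
        have b₁ := IH C₁ h1 (hdim C₁ h1.le) _ hI fun x hx => by
          by_contra hx1
          have hP := QCoh.mem_support_of_mono hI.1 hQ (Abelian.image.ι φ) hx
          refine notMem_support_push (W := ⟨(C₁ : Set X)ᶜ, C₁.isClosed.isOpen_compl⟩) hx1 ?_ hP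
          refine Set.disjoint_left.2 fun y hy hyM => ?_
          rcases hsub (hMC hyM) with h | h
          · exact hy.1 ⟨hMC hyM, h⟩
          · exact hy.2 ⟨hMC hyM, h⟩
        refine ((b₂ j).add (b₁ j)).mono (((finite_wass hK).union (finite_wass hM)).union (finite_wass hI)) fun a ha n => ?_
        exact (T.les a (S := ShortComplex.mk (kernel.ι φ) (Abelian.factorThruImage φ)
            ((cancel_mono (Abelian.image.ι φ)).1 (by rw [Category.assoc, Abelian.image.fac, kernel.condition, zero_comp])))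
          { exact := ShortComplex.exact_of_f_is_kernel _ (KernelFork.IsLimit.ofι' _ _ fun {T} t ht =>
              ⟨kernel.lift φ t (by rw [← Abelian.image.fac φ, reassoc_of% ht, zero_comp]), kernel.lift_ι _ _ _⟩)
            mono_f := inferInstance
            epi_g := inferInstance } hK hM hI (fun _ h => ha (Or.inl (Or.inl h))) (fun _ h => ha (Or.inl (Or.inr h)))
          (fun _ h => ha (Or.inr h)) j n).1

end Groth.Agent.UniformGrowth
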