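import Groth.Agent.H23.RigidAb
import Groth.Agent.H23.RatExt
import Groth.Agent.H23.CubeAb
import Groth.Agent.AssLib.FlatField
import Groth.Agent.H23.RedSub
import Groth.Agent.NodeLib.Completion
import Groth.Agent.S2501
import Groth.Agent.S2535
import Groth.Agent.S2759
import Groth.Agent.S2803
import Groth.Agent.Lib.AVDual
import Mathlib.AlgebraicGeometry.AlgClosed.Basic
import Mathlib.AlgebraicGeometry.Morphisms.Flat

/-!
A proper flat scheme with geometrically integral fibres and a unital multiplication is a group scheme.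
-/

set_option linter.style.haveILetI false
set_option linter.unusedSectionVars false
set_option backward.isDefEq.respectTransparency false
set_option backward.isDefEq.respectTransparency.types false
set_option maxHeartbeats 800000

universe u

open CategoryTheory CategoryTheory.Limits MonoidalCategory CartesianMonoidalCategory AlgebraicGeometry TopologicalSpace

namespace Groth.Agent.UnitalMul

open Groth.Agent.H23

/-- A map out of a product which is constant on one slice factors through the second projection. -/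
theorem factor_snd {S : Scheme.{u}} {X W Y : Over S} [IsProper X.hom] [Flat X.hom] [LocallyOfFinitePresentation X.hom]
    [GeometricallyReduced X.hom] [GeometricallyConnected X.hom] [GeometricallyConnected W.hom] [IsSeparated Y.hom]
    (eX : 𝟙_ (Over S) ⟶ X) (eW : 𝟙_ (Over S) ⟶ W) (d : X ⊗ W ⟶ Y) (y : 𝟙_ (Over S) ⟶ Y)
    (h1 : lift (𝟙 X) (toUnit X ≫ eW) ≫ d = toUnit X ≫ y) :
    d = snd X W ≫ lift (toUnit W ≫ eX) (𝟙 W) ≫ d := by
  let p := pullback.snd X.hom W.hom
  let e : W.left ⟶ (X ⊗ W).left := (lift (toUnit W ≫ eX) (𝟙 W)).left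
  have he : e ≫ p = 𝟙 W.left := RigidAb.lift_left_snd eX W
  have h0 : RigidApply.ConstFibres p := (RigidGamma.constFibres X.hom).baseChange W.hom
  have hp : (X ⊗ W).hom = p ≫ W.hom := pullback.condition
  have hg : p ≫ e ≫ d.left ≫ Y.hom = d.left ≫ Y.hom := by
    have hd : d.left ≫ Y.hom = p ≫ W.hom := (Over.w d).trans hp
    rw [hd, reassoc_of% he]
  obtain ⟨C, hCc, hC, hCeq⟩ := RigidGen.of_section p h0 e he Y.hom d.left hg
  have hunit : ∀ s : S, eW.left s ∈ RigidNoeth.collapsed p d.left := by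
    intro s
    refine ⟨y.left s, fun z hz => ?_⟩
    let sl : X.left ⟶ (X ⊗ W).left := (lift (𝟙 X) (toUnit X ≫ eW)).left
    have hfst : sl ≫ pullback.fst X.hom W.hom = 𝟙 X.left := by
      show sl ≫ (fst X W).left = 𝟙 X.left
      rw [← Over.comp_left, lift_fst, Over.id_left]
    have hsnd : sl ≫ p = X.hom ≫ eW.left := by
      show sl ≫ (snd X W).left = (toUnit X).left ≫ eW.left
      rw [← Over.comp_left, lift_snd, Over.comp_left]
    have hsq : IsPullback sl X.hom p eW.left := by
      refine IsPullback.of_right (h₁₂ := pullback.fst X.hom W.hom) (h₂₂ := W.hom) (v₁₃ := X.hom) ?_ hsnd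
        (IsPullback.of_hasPullback X.hom W.hom).flip.flip
      rw [hfst, RigidAb.section_hom]
      exact IsPullback.of_horiz_isIso ⟨by simp⟩
    obtain ⟨w, hw, -⟩ := Scheme.exists_preimage_of_isPullback hsq z s hz
    subst hw
    have e2 : sl ≫ d.left = X.hom ≫ y.left := by
      show sl ≫ d.left = (toUnit X).left ≫ y.left
      rw [← Over.comp_left, h1, ← Over.comp_left]
    have e3 : X.hom w = s := by
      have hinj : Function.Injective eW.left := fun a b hab => by
        have hid : ∀ c, W.hom (eW.left c) = c := fun c => congr($(RigidAb.section_hom eW) c)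
        rw [← hid a, ← hid b, hab]
      refine hinj ?_
      exact ((congr($hsnd w) : p (sl w) = eW.left (X.hom w)).symm).trans hz
    exact (congr($e2 w) : d.left (sl w) = y.left (X.hom w)).trans (congrArg _ e3)
  have htop : ∀ x : W.left, x ∈ RigidNoeth.collapsed p d.left := by
    intro x
    rw [← hC]
    refine (RigidAb.isPreconnected_preimage W.hom (W.hom x)).subset_isClopen ⟨hCc, C.2⟩
      ⟨eW.left (W.hom x), ?_, hC ▸ hunit (W.hom x)⟩ rfl
    show W.hom (eW.left (W.hom x)) = W.hom x
    rw [← Scheme.Hom.comp_apply eW.left, RigidAb.section_hom]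
    rfl
  exact Over.OverMorphism.ext (RigidGen.eq_comp_section p h0 e he d.left htop)

section Magma

variable {S : Scheme.{u}} {X : Over S} (m : X ⊗ X ⟶ X)

/-- The map `(x, y) ↦ (x, xy)`. -/
noncomputable abbrev shear : X ⊗ X ⟶ X ⊗ X := lift (fst X X) m

/-- Left multiplication by a point. -/
noncomputable abbrev left (a : 𝟙_ (Over S) ⟶ X) : X ⟶ X := lift (toUnit X ≫ a) (𝟙 X) ≫ m

end Magma

section Generic

variable {k : Type u} [Field k] [IsAlgClosed k]

/-- The fibre over a rational point with trivial preimage. -/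
theorem isIso_fiber_point {P Q : Scheme.{u}} (f : P ⟶ Q) (g : Q ⟶ Spec (CommRingCat.of k))
    (pt : Spec (CommRingCat.of k) ⟶ Q) (hpt : pt ≫ g = 𝟙 _) (p₀ : Spec (CommRingCat.of k) ⟶ P)
    (hfib : IsPullback p₀ (𝟙 _) f pt) : IsIso (f.fiberToSpecResidueField (pt (IsLocalRing.closedPoint k))) := by
  let q := pt (IsLocalRing.closedPoint k)
  let g' := Q.fromSpecResidueField q
  let φ := Scheme.descResidueField (Scheme.stalkClosedPointTo pt)
  have hd : Spec.map φ ≫ g' = pt := Scheme.descResidueField_stalkClosedPointTo_fromSpecResidueField k _ pt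
  obtain ⟨ψ, hψ⟩ : ∃ ψ, Spec.map ψ = g' ≫ g := ⟨Spec.preimage (g' ≫ g), Spec.map_preimage _⟩
  have hcomp : Spec.map φ ≫ (g' ≫ g) = 𝟙 _ := by rw [← Category.assoc, hd, hpt]
  have h1 : ψ ≫ φ = 𝟙 _ := Spec.map_injective (by rw [Spec.map_comp, Spec.map_id, hψ]; exact hcomp)
  haveI : IsIso φ := (ConcreteCategory.isIso_iff_bijective φ).2
    ⟨φ.hom.injective, fun c => ⟨ψ c, congr($h1 c)⟩⟩
  have hg : g' = inv (Spec.map φ) ≫ pt := by rw [IsIso.eq_inv_comp]; exact hd
  have h2 : IsPullback (pullback.fst f g') (pullback.snd f g' ≫ inv (Spec.map φ)) f pt :=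
    IsPullback.of_iso (IsPullback.of_hasPullback f g') (Iso.refl _) (Iso.refl _) (asIso (inv (Spec.map φ)))
      (Iso.refl _) (by simp) (by simp) (by simp) (by simp [← hg])
  have h3 : pullback.snd f g' ≫ inv (Spec.map φ) = (h2.isoIsPullback _ _ hfib).hom ≫ 𝟙 _ :=
    (IsPullback.isoIsPullback_hom_snd _ _ h2 hfib).symm
  haveI : IsIso (pullback.snd f g' ≫ inv (Spec.map φ)) := by rw [h3]; infer_instance
  exact IsIso.of_isIso_comp_right (pullback.snd f g') (inv (Spec.map φ))

/-- A surjection between isomorphic Noetherian rings is injective. -/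
theorem injective_comp_iso {A B : CommRingCat.{u}} (c : B ≅ A) [IsNoetherianRing B] (g : A ⟶ B)
    (hg : Function.Surjective g) : Function.Injective g := by
  have hb := ConcreteCategory.bijective_of_isIso c.hom
  have := NodeLib.injective_of_surjective_endo (g.hom.comp c.hom.hom) (hg.comp hb.2)
  intro a b hab
  obtain ⟨a', rfl⟩ := hb.2 a
  obtain ⟨b', rfl⟩ := hb.2 b
  exact congrArg c.hom (this hab)

/-- An endomorphism with a closed immersion near a fixed point has injective stalk map there. -/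
theorem injective_stalkMap {Q : Scheme.{u}} [IsLocallyNoetherian Q] (f : Q ⟶ Q) (V : Q.Opens)
    [IsClosedImmersion (f ∣_ V)] (q : Q) (hfq : f q = q) (hq : q ∈ V) : Function.Injective (f.stalkMap q) := by
  have hq' : q ∈ f ⁻¹ᵁ V := by
    show f q ∈ V
    rw [hfq]; exact hq
  have hs := (f ∣_ V).stalkMap_surjective ⟨q, hq'⟩
  have hs' : Function.Surjective (f.stalkMap q) :=
    ((MorphismProperty.surjective CommRingCat).arrow_mk_iso_iff (morphismRestrictStalkMap f V ⟨q, hq'⟩)).1 hs
  exact injective_comp_iso (Q.presheaf.stalkCongr (.of_eq hfq.symm)) _ hs'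

/-- The generic point of a local scheme is the generic point. -/
theorem fromSpecStalk_bot {Q : Scheme.{u}} [IsIntegral Q] (q : Q) :
    Q.fromSpecStalk q (⊥ : PrimeSpectrum (Q.presheaf.stalk q)) = genericPoint Q := by
  obtain ⟨z, hz⟩ : genericPoint Q ∈ Set.range (Q.fromSpecStalk q) := by
    rw [Scheme.range_fromSpecStalk]
    exact (genericPoint_spec Q).specializes (Set.mem_univ q)
  have h : (⊥ : PrimeSpectrum (Q.presheaf.stalk q)) ⤳ z :=
    (PrimeSpectrum.le_iff_specializes _ _).1 bot_le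
  refine (Specializes.antisymm ?_ ((genericPoint_spec Q).specializes (Set.mem_univ _))).eq
  rw [← hz]
  exact h.map (Q.fromSpecStalk q).continuous

/-- An endomorphism of an integral scheme with injective stalk map at a point fixes the generic point. -/
theorem map_genericPoint {Q : Scheme.{u}} [IsIntegral Q] (f : Q ⟶ Q) (q : Q)
    (hinj : Function.Injective (f.stalkMap q)) : f (genericPoint Q) = genericPoint Q := by
  haveI : IsDomain (Q.presheaf.stalk q) := inferInstance
  haveI : IsDomain (Q.presheaf.stalk (f q)) := inferInstance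
  let zA : Spec (Q.presheaf.stalk q) := (⊥ : PrimeSpectrum _)
  let zB : Spec (Q.presheaf.stalk (f q)) := (⊥ : PrimeSpectrum _)
  have hA : Q.fromSpecStalk q zA = genericPoint Q := fromSpecStalk_bot q
  have hB : Q.fromSpecStalk (f q) zB = genericPoint Q := fromSpecStalk_bot (f q)
  have hz : Spec.map (f.stalkMap q) zA = zB := PrimeSpectrum.ext (Ideal.comap_bot_of_injective _ hinj)
  rw [← hA, ← Scheme.Hom.comp_apply, ← Scheme.SpecMap_stalkMap_fromSpecStalk, Scheme.Hom.comp_apply, hz, hB, hA]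

/-- A proper endomorphism with reduced trivial fibre over a fixed point is an isomorphism near it. -/
theorem exists_iso_nhd {Q : Scheme.{u}} [IsIntegral Q] [IsLocallyNoetherian Q] (f : Q ⟶ Q) [IsProper f] (q : Q)
    (hfq : f q = q) (hiso : IsIso (f.fiberToSpecResidueField q)) : ∃ V : Q.Opens, q ∈ V ∧ IsIso (f ∣_ V) := by
  obtain ⟨V, hqV, hV⟩ := (S2803.result f q).2 ⟨Or.inr hiso, ⊤, trivial,
    MorphismProperty.of_isPullback (isPullback_morphismRestrict f ⊤).flip inferInstance⟩
  haveI := hV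
  have hgen := map_genericPoint f q (injective_stalkMap f V q hfq hqV)
  refine ⟨V, hqV, ?_⟩
  haveI : Surjective (f ∣_ V) := by
    refine ⟨Set.range_eq_univ.1 ((Set.eq_univ_iff_forall).2 fun v => ?_)⟩
    have hgV : genericPoint Q ∈ V := ((genericPoint_spec _).specializes (Set.mem_univ q)).mem_open V.2 hqV
    have hmem : (⟨genericPoint Q, hgV⟩ : ↥V) ∈ Set.range (f ∣_ V) :=
      ⟨⟨genericPoint Q, show f (genericPoint Q) ∈ V by rw [hgen]; exact hgV⟩,
        Subtype.ext (by rw [morphismRestrict_base]; exact hgen)⟩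
    refine Specializes.mem_closed ?_ (f ∣_ V).isClosedEmbedding.isClosed_range hmem
    rw [← V.ι.isOpenEmbedding.isInducing.specializes_iff]
    exact (genericPoint_spec _).specializes (Set.mem_univ v.1)
  exact isIso_of_isClosedImmersion_of_surjective _

/-- An endomorphism with a left inverse of an integral Noetherian scheme is an isomorphism. -/
theorem isIso_of_retraction {P : Scheme.{u}} [IsReduced P] [NoetherianSpace P] (i : P ⟶ P) [IsClosedImmersion i] :
    IsIso i := by
  have hinj : Function.Injective i := i.isClosedEmbedding.injective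
  let K : ℕ →o (Closeds P)ᵒᵈ := ⟨fun n => OrderDual.toDual ⟨Set.range (i.base^[n]),
    (Nat.rec (motive := fun n => Topology.IsClosedEmbedding (i.base^[n])) Topology.IsClosedEmbedding.id
      (fun n h => h.comp i.isClosedEmbedding) n).isClosed_range⟩, monotone_nat_of_le_succ fun n => by
    rintro _ ⟨x, rfl⟩
    exact ⟨i x, (Function.iterate_succ_apply _ n x).symm⟩⟩
  obtain ⟨N, hN⟩ := WellFoundedGT.monotone_chain_condition K
  haveI : Surjective i := ⟨fun x => by
    have h1 : i.base^[N] x ∈ Set.range (i.base^[N + 1]) := by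
      have := congrArg (fun c : (Closeds P)ᵒᵈ => ((OrderDual.ofDual c : Closeds P) : Set P)) (hN (N + 1) N.le_succ)
      exact this.subset ⟨x, rfl⟩
    obtain ⟨y, hy⟩ := h1
    rw [Function.iterate_succ_apply] at hy
    exact ⟨y, hinj.iterate N hy⟩⟩
  exact isIso_of_isClosedImmersion_of_surjective i

end Generic

section Field

variable {k : Type u} [Field k] [IsAlgClosed k] {X : Over (Spec (CommRingCat.of k))} [IsProper X.hom]
  [GeometricallyIntegral X.hom] {e : 𝟙_ (Over (Spec (CommRingCat.of k))) ⟶ X} {m : X ⊗ X ⟶ X}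

theorem point_fixed (h₂ : lift (toUnit X ≫ e) (𝟙 X) ≫ m = 𝟙 X) : lift e e ≫ shear m = lift e e := by
  refine CartesianMonoidalCategory.hom_ext _ _ (by simp) ?_
  have : lift e e = e ≫ lift (toUnit X ≫ e) (𝟙 X) := by ext <;> simp
  simp only [Category.assoc, lift_snd]
  rw [this, Category.assoc, h₂, Category.comp_id]

theorem point_fibre (h₂ : lift (toUnit X ≫ e) (𝟙 X) ≫ m = 𝟙 X) {T : Over (Spec (CommRingCat.of k))}
    (t : T ⟶ X ⊗ X) (ht : t ≫ shear m = toUnit T ≫ lift e e) : toUnit T ≫ lift e e = t := by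
  have e1 : t ≫ fst X X = toUnit T ≫ e := by simpa using congrArg (· ≫ fst X X) ht
  have e2 : t ≫ m = toUnit T ≫ e := by simpa using congrArg (· ≫ snd X X) ht
  have e3 : t ≫ snd X X = toUnit T ≫ e := by
    rw [← e2]
    have : t = (t ≫ snd X X) ≫ lift (toUnit X ≫ e) (𝟙 X) := by
      refine CartesianMonoidalCategory.hom_ext _ _ ?_ (by simp)
      rw [e1, Category.assoc, lift_fst, ← Category.assoc, comp_toUnit]
    conv_rhs => rw [this, Category.assoc, h₂, Category.comp_id]
  exact CartesianMonoidalCategory.hom_ext _ _ (by simp [e1]) (by simp [e3])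

theorem isPullback_point (h₂ : lift (toUnit X ≫ e) (𝟙 X) ≫ m = 𝟙 X) :
    IsPullback (lift e e).left (𝟙 _) (shear m).left (lift e e).left := by
  have hc : (lift e e).left ≫ (shear m).left = (lift e e).left := by rw [← Over.comp_left, point_fixed h₂]
  refine ⟨⟨by rw [hc, Category.id_comp]⟩,
    ⟨PullbackCone.IsLimit.mk _ (fun s => s.snd) (fun s => ?_) (fun s => Category.comp_id _)
      fun s mm _ hm => (Category.comp_id mm).symm.trans hm⟩⟩
  exact congrArg CommaMorphism.left (point_fibre h₂ (T := Over.mk s.snd)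
    (Over.homMk s.fst (by
      rw [← Over.w (shear m), ← Category.assoc, s.condition, Category.assoc, Over.w (lift e e)]
      exact Category.comp_id _)) (Over.OverMorphism.ext s.condition))

theorem isProper_sq : IsProper (X ⊗ X).hom := by
  rw [show (X ⊗ X).hom = pullback.snd X.hom X.hom ≫ X.hom from pullback.condition]
  infer_instance

/-- The shear map is an isomorphism near the unit. -/
theorem exists_nhd (h₂ : lift (toUnit X ≫ e) (𝟙 X) ≫ m = 𝟙 X) :
    ∃ V : (X ⊗ X).left.Opens, (lift e e).left (IsLocalRing.closedPoint k) ∈ V ∧ IsIso ((shear m).left ∣_ V) := by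
  haveI := RatExt.geometricallyIntegral_prod X X
  haveI := isProper_sq (X := X)
  haveI : IsIntegral (X ⊗ X).left := GeometricallyIntegral.isIntegral_of_subsingleton (X ⊗ X).hom
  haveI : IsLocallyNoetherian (X ⊗ X).left := LocallyOfFiniteType.isLocallyNoetherian (X ⊗ X).hom
  haveI : IsProper ((shear m).left ≫ (X ⊗ X).hom) := by rw [Over.w (shear m)]; infer_instance
  haveI : IsProper (shear m).left := IsProper.of_comp (shear m).left (X ⊗ X).hom
  refine exists_iso_nhd (shear m).left _ ?_
    (isIso_fiber_point (shear m).left (X ⊗ X).hom (lift e e).left (Over.w _) _ (isPullback_point h₂))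
  exact congr($(congrArg CommaMorphism.left (point_fixed h₂)) (IsLocalRing.closedPoint k))

/-- A proper connected reduced family of right inverses over all of `X`. -/
theorem exists_family (h₂ : lift (toUnit X ≫ e) (𝟙 X) ≫ m = 𝟙 X) :
    ∃ (Γ : Over (Spec (CommRingCat.of k))) (j : Γ ⟶ X ⊗ X), IsProper Γ.hom ∧ GeometricallyConnected Γ.hom ∧
      GeometricallyReduced Γ.hom ∧ j ≫ m = toUnit Γ ≫ e ∧ Function.Surjective (j ≫ fst X X).left := by
  obtain ⟨V, hqV, hV⟩ := exists_nhd h₂
  haveI := hV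
  let f := (shear m).left
  let u := (lift (𝟙 X) (toUnit X ≫ e)).left
  haveI : IsIntegral X.left := GeometricallyIntegral.isIntegral_of_subsingleton X.hom
  haveI : Subsingleton ↥(Spec (CommRingCat.of k)) := inferInstanceAs (Subsingleton (PrimeSpectrum k))
  haveI := isProper_sq (X := X)
  let U := u ⁻¹ᵁ V
  have heU : e.left (IsLocalRing.closedPoint k) ∈ U := by
    show (e.left ≫ u) (IsLocalRing.closedPoint k) ∈ V
    rw [← Over.comp_left, comp_lift, Category.comp_id, ← Category.assoc, toUnit_unique (e ≫ toUnit X) (𝟙 _),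
      Category.id_comp]
    exact hqV
  let s : U.toScheme ⟶ (X ⊗ X).left := (u ∣_ V) ≫ inv (f ∣_ V) ≫ (f ⁻¹ᵁ V).ι
  have hs : s ≫ f = U.ι ≫ u := by
    simp only [s, Category.assoc, ← morphismRestrict_ι, IsIso.inv_hom_id_assoc]
    exact morphismRestrict_ι u V
  let I := Scheme.IdealSheafData.vanishingIdeal ⟨closure (Set.range s), isClosed_closure⟩
  let Γ : Over (Spec (CommRingCat.of k)) := Over.mk (I.subschemeι ≫ (X ⊗ X).hom)
  let j : Γ ⟶ X ⊗ X := Over.homMk I.subschemeι rfl
  haveI : IsReduced Γ.left := RedSub.isReduced_vanishingIdeal _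
  have hrange : Set.range j.left = closure (Set.range s) := RedSub.range_vanishingIdeal _
  haveI : IsClosedImmersion j.left := inferInstanceAs (IsClosedImmersion I.subschemeι)
  haveI : Nonempty U.toScheme := ⟨⟨_, heU⟩⟩
  haveI : IsIntegral U.toScheme := isIntegral_of_isOpenImmersion U.ι
  have hconn : _root_.IsConnected (Set.range j.left) := by
    rw [hrange]
    exact (isConnected_range s.continuous).closure
  haveI : ConnectedSpace Γ.left := by
    haveI : ConnectedSpace (Set.range j.left) := isConnected_iff_connectedSpace.1 hconn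
    exact (j.left.isClosedEmbedding.isEmbedding.toHomeomorph).connectedSpace_iff.2 inferInstance
  haveI : IsProper Γ.hom := inferInstanceAs (IsProper (I.subschemeι ≫ (X ⊗ X).hom))
  have hred : GeometricallyReduced Γ.hom := by
    haveI : AlgebraicGeometry.IsReduced (FBase.bc Γ.hom k) := by
      haveI : IsIso (Spec.map (CommRingCat.ofHom (algebraMap k k))) := by
        rw [show CommRingCat.ofHom (algebraMap k k) = 𝟙 _ from rfl, Spec.map_id]; infer_instance
      exact isReduced_of_isOpenImmersion (pullback.fst Γ.hom (Spec.map (CommRingCat.ofHom (algebraMap k k))))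
    exact S2535.result (k := k) (Ω := k) Γ.hom
  haveI hu : IsClosedImmersion u := by
    haveI : IsSeparated X.hom := inferInstance
    haveI : IsSeparated (fst X X).left := inferInstanceAs (IsSeparated (pullback.fst X.hom X.hom))
    haveI : IsClosedImmersion (u ≫ (fst X X).left) := by
      rw [← Over.comp_left, lift_fst]
      infer_instance
    exact IsClosedImmersion.of_comp u (fst X X).left
  refine ⟨Γ, j, inferInstance, S2501.result Γ.hom, hred, ?_, ?_⟩
  · have hjf : ∀ z, f (j.left z) ∈ Set.range u := by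
      intro z
      have hz : j.left z ∈ closure (Set.range s) := by rw [← hrange]; exact Set.mem_range_self _
      refine closure_minimal ?_ (u.isClosedEmbedding.isClosed_range.preimage f.continuous) hz
      rintro _ ⟨x, rfl⟩
      exact ⟨U.ι x, (congr($hs x) : f (s x) = u (U.ι x)).symm⟩
    obtain ⟨l, hl⟩ := RedSub.exists_lift_closed (j.left ≫ f) u (by rintro _ ⟨z, rfl⟩; exact hjf z)
    let l' : Γ ⟶ X := Over.homMk l (by
      rw [← Over.w (lift (𝟙 X) (toUnit X ≫ e)), ← Category.assoc, hl, Category.assoc, Over.w (shear m), Over.w j])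
    have hl' : l' ≫ lift (𝟙 X) (toUnit X ≫ e) = j ≫ shear m := Over.OverMorphism.ext hl
    simpa using (congrArg (· ≫ snd X X) hl').symm
  · haveI : IsProper ((j ≫ fst X X).left ≫ X.hom) := by rw [Over.w (j ≫ fst X X)]; infer_instance
    haveI : IsProper (j ≫ fst X X).left := IsProper.of_comp _ X.hom
    have hd : Dense (U : Set X.left) := U.2.dense ⟨_, heU⟩
    have hfst : (shear m).left ≫ (fst X X).left = (fst X X).left := by rw [← Over.comp_left, lift_fst]
    have hufst : u ≫ (fst X X).left = 𝟙 X.left := by rw [← Over.comp_left, lift_fst]; rfl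
    have hsub : (U : Set X.left) ⊆ Set.range (j ≫ fst X X).left := fun x hx => by
      obtain ⟨z, hz⟩ : s ⟨x, hx⟩ ∈ Set.range j.left := by rw [hrange]; exact subset_closure ⟨_, rfl⟩
      refine ⟨z, ?_⟩
      have h3 : s ≫ (fst X X).left = U.ι := by
        rw [← hfst, ← Category.assoc, hs, Category.assoc, hufst, Category.comp_id]
      show (fst X X).left (j.left z) = x
      rw [hz]
      exact congr($h3 ⟨x, hx⟩)
    exact Set.range_eq_univ.1 (((j ≫ fst X X).left.isClosedMap.isClosed_range).closure_eq ▸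
      Set.univ_subset_iff.1 ((dense_iff_closure_eq.1 hd).ge.trans (closure_mono hsub)))

theorem exists_point {Γ : Over (Spec (CommRingCat.of k))} [IsProper Γ.hom] (p : Γ ⟶ X)
    (hp : Function.Surjective p.left) (b : 𝟙_ (Over (Spec (CommRingCat.of k))) ⟶ X) :
    ∃ γ : 𝟙_ (Over (Spec (CommRingCat.of k))) ⟶ Γ, γ ≫ p = b := by
  let x := b.left (IsLocalRing.closedPoint k)
  haveI : JacobsonSpace (Spec (CommRingCat.of k)) := inferInstanceAs (JacobsonSpace (PrimeSpectrum k))
  haveI : JacobsonSpace Γ.left := LocallyOfFiniteType.jacobsonSpace Γ.hom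
  have hx : IsClosed ({x} : Set X.left) := (pointEquivClosedPoint X.hom ⟨b.left, Over.w b⟩).2
  obtain ⟨z, hz⟩ := hp x
  obtain ⟨w, hw, hwc⟩ := nonempty_inter_closedPoints (Z := p.left ⁻¹' {x}) ⟨z, hz⟩
    (hx.preimage p.left.continuous).isLocallyClosed
  obtain ⟨⟨γ, hγ⟩, hγw⟩ := (pointEquivClosedPoint Γ.hom).surjective ⟨w, hwc⟩
  let γ' : 𝟙_ (Over (Spec (CommRingCat.of k))) ⟶ Γ := Over.homMk γ hγ
  refine ⟨γ', Over.OverMorphism.ext (ext_of_apply_closedPoint_eq X.hom (Over.w (γ' ≫ p)) (Over.w b) ?_)⟩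
  show p.left (γ (IsLocalRing.closedPoint k)) = x
  rw [show γ (IsLocalRing.closedPoint k) = w from congrArg Subtype.val hγw]
  exact hw

theorem left_comp {Γ : Over (Spec (CommRingCat.of k))} (p q : Γ ⟶ X)
    (γ : 𝟙_ (Over (Spec (CommRingCat.of k))) ⟶ Γ) :
    left m (γ ≫ q) ≫ left m (γ ≫ p) =
      lift (toUnit X ≫ γ) (𝟙 X) ≫ lift (fst Γ X ≫ p) (lift (fst Γ X ≫ q) (snd Γ X) ≫ m) ≫ m := by
  simp [left, comp_lift_assoc, Category.assoc]

theorem left_inverse_family (h₁ : lift (𝟙 X) (toUnit X ≫ e) ≫ m = 𝟙 X) (h₂ : lift (toUnit X ≫ e) (𝟙 X) ≫ m = 𝟙 X)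
    {Γ : Over (Spec (CommRingCat.of k))} [IsProper Γ.hom] [GeometricallyConnected Γ.hom] [GeometricallyReduced Γ.hom]
    (p q : Γ ⟶ X) (hpq : lift p q ≫ m = toUnit Γ ≫ e) (γ₀ : 𝟙_ (Over (Spec (CommRingCat.of k))) ⟶ Γ)
    (hγ₀ : γ₀ ≫ p = e) (γ : 𝟙_ (Over (Spec (CommRingCat.of k))) ⟶ Γ) :
    left m (γ ≫ q) ≫ left m (γ ≫ p) = 𝟙 X := by
  haveI : Flat Γ.hom := AssLib.flat_over_field _
  haveI : GeometricallyConnected X.hom := CubeAb.geometricallyConnected_of_integral X.hom
  let g : Γ ⊗ X ⟶ X := lift (fst Γ X ≫ p) (lift (fst Γ X ≫ q) (snd Γ X) ≫ m) ≫ m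
  have hone : ∀ {Z : Over (Spec (CommRingCat.of k))} (x : Z ⟶ X), lift x (toUnit Z ≫ e) ≫ m = x := fun {Z} x => by
    conv_rhs => rw [← Category.comp_id x, ← h₁]
    simp [comp_lift_assoc]
  have hg1 : lift (𝟙 Γ) (toUnit Γ ≫ e) ≫ g = toUnit Γ ≫ e := by
    simp [g, comp_lift_assoc, comp_lift, hone, hpq]
  have he₀ : γ₀ ≫ q = e := by
    have h := congrArg (γ₀ ≫ ·) hpq
    rw [show γ₀ ≫ toUnit Γ ≫ e = e by rw [← Category.assoc, toUnit_unique (γ₀ ≫ toUnit Γ) (𝟙 _), Category.id_comp],
      comp_lift_assoc, hγ₀] at h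
    calc γ₀ ≫ q = (γ₀ ≫ q) ≫ lift (toUnit X ≫ e) (𝟙 X) ≫ m := by rw [h₂, Category.comp_id]
      _ = lift e (γ₀ ≫ q) ≫ m := by
        rw [← Category.assoc _ (lift (toUnit X ≫ e) (𝟙 X))]
        congr 1
        ext <;> simp [← Category.assoc, toUnit_unique ((γ₀ ≫ q) ≫ toUnit X) (𝟙 _)]
      _ = e := h
  have h0 : lift (toUnit X ≫ γ₀) (𝟙 X) ≫ g = 𝟙 X := by
    rw [← left_comp, hγ₀, he₀]
    simp [left, h₂]
  rw [left_comp, show lift (fst Γ X ≫ p) (lift (fst Γ X ≫ q) (snd Γ X) ≫ m) ≫ m = g from rfl,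
    factor_snd γ₀ e g e hg1, ← Category.assoc, lift_snd, Category.id_comp, h0]

/-- Every left multiplication is an isomorphism. -/
theorem isIso_left (h₁ : lift (𝟙 X) (toUnit X ≫ e) ≫ m = 𝟙 X) (h₂ : lift (toUnit X ≫ e) (𝟙 X) ≫ m = 𝟙 X)
    (a : 𝟙_ (Over (Spec (CommRingCat.of k))) ⟶ X) : IsIso (left m a).left := by
  obtain ⟨Γ, j, hp, hc, hr, hje, hsurj⟩ := exists_family h₂
  haveI := hp; haveI := hc; haveI := hr
  obtain ⟨γ₀, hγ₀⟩ := exists_point (j ≫ fst X X) hsurj e
  obtain ⟨γ, hγ⟩ := exists_point (j ≫ fst X X) hsurj a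
  have hk := left_inverse_family h₁ h₂ (j ≫ fst X X) (j ≫ snd X X)
    (by rw [← comp_lift, lift_fst_snd, Category.comp_id]; exact hje) γ₀ hγ₀ γ
  rw [hγ] at hk
  haveI : IsIntegral X.left := GeometricallyIntegral.isIntegral_of_subsingleton X.hom
  haveI : IsLocallyNoetherian X.left := LocallyOfFiniteType.isLocallyNoetherian X.hom
  haveI : CompactSpace X.left := QuasiCompact.compactSpace_of_compactSpace X.hom
  haveI : IsNoetherian X.left := ⟨⟩
  have hk' : (left m (γ ≫ j ≫ snd X X)).left ≫ (left m a).left = 𝟙 X.left := by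
    rw [← Over.comp_left, hk]; rfl
  haveI : IsSeparated ((left m a).left ≫ X.hom) := by rw [Over.w]; infer_instance
  haveI : IsSeparated (left m a).left := IsSeparated.of_comp _ X.hom
  haveI : IsClosedImmersion ((left m (γ ≫ j ≫ snd X X)).left ≫ (left m a).left) := by rw [hk']; infer_instance
  haveI : IsClosedImmersion (left m (γ ≫ j ≫ snd X X)).left :=
    IsClosedImmersion.of_comp _ (left m a).left
  haveI := isIso_of_retraction (left m (γ ≫ j ≫ snd X X)).left
  haveI : IsIso ((left m (γ ≫ j ≫ snd X X)).left ≫ (left m a).left) := by rw [hk']; infer_instance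
  exact IsIso.of_isIso_comp_left (left m (γ ≫ j ≫ snd X X)).left (left m a).left

end Field

section Base

variable {S : Scheme.{u}} {X : Over S} [IsProper X.hom] [Flat X.hom] [LocallyOfFinitePresentation X.hom]
  [GeometricallyIntegral X.hom] {e : 𝟙_ (Over S) ⟶ X} {m : X ⊗ X ⟶ X}

/-- Left multiplication by a point of `X` on the fibre through it. -/
noncomputable abbrev Λ' (m : X ⊗ X ⟶ X) {T : Over S} (a : T ⟶ X) : X ⊗ T ⟶ X ⊗ T :=
  lift (lift (snd X T ≫ a) (fst X T) ≫ m) (snd X T)

/-- Left multiplication by a geometric point is an isomorphism. -/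
theorem isIso_geometric (h₁ : lift (𝟙 X) (toUnit X ≫ e) ≫ m = 𝟙 X) (h₂ : lift (toUnit X ≫ e) (𝟙 X) ≫ m = 𝟙 X)
    {Ω : Type u} [Field Ω] [IsAlgClosed Ω] (σ : Spec (CommRingCat.of Ω) ⟶ S) (a : Over.mk σ ⟶ X) :
    IsIso (Λ' m a).left := by
  let j := a.left
  let T : Over S := Over.mk σ
  let GX : Over (Spec (CommRingCat.of Ω)) := (Over.pullback σ).obj X
  haveI : IsProper GX.hom := inferInstanceAs (IsProper (pullback.snd X.hom σ))
  haveI : GeometricallyIntegral GX.hom := inferInstanceAs (GeometricallyIntegral (pullback.snd X.hom σ))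
  let e' : 𝟙_ (Over (Spec (CommRingCat.of Ω))) ⟶ GX := Over.homMk (pullback.lift (σ ≫ e.left) (𝟙 _) (by
    rw [Category.assoc, Over.w e, Category.id_comp]; exact Category.comp_id _)) (pullback.lift_snd _ _ _)
  let a' : 𝟙_ (Over (Spec (CommRingCat.of Ω))) ⟶ GX :=
    Over.homMk (pullback.lift j (𝟙 _) ((Over.w a).trans (Category.id_comp _).symm)) (pullback.lift_snd _ _ _)
  let q : (GX ⊗ GX).left ⟶ (X ⊗ X).left :=
    pullback.lift ((fst GX GX).left ≫ pullback.fst X.hom σ) ((snd GX GX).left ≫ pullback.fst X.hom σ) (by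
      rw [Category.assoc, Category.assoc, pullback.condition, ← Category.assoc, ← Category.assoc]
      exact congrArg (· ≫ σ) ((Over.w (fst GX GX)).trans (Over.w (snd GX GX)).symm))
  let m' : GX ⊗ GX ⟶ GX := Over.homMk (pullback.lift (q ≫ m.left) (GX ⊗ GX).hom (by
    rw [Category.assoc, Over.w m, show (X ⊗ X).hom = pullback.fst X.hom X.hom ≫ X.hom from rfl, ← Category.assoc,
      pullback.lift_fst, Category.assoc, pullback.condition, ← Category.assoc]
    exact congrArg (· ≫ σ) (Over.w (fst GX GX)))) (pullback.lift_snd _ _ _)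
  let pr : GX.left ⟶ X.left := pullback.fst X.hom σ
  have hm'1 : ∀ {Z : Over (Spec (CommRingCat.of Ω))} (u v : Z ⟶ GX), (lift u v ≫ m').left ≫ pr =
      pullback.lift (u.left ≫ pr) (v.left ≫ pr) (by
        rw [Category.assoc, Category.assoc, show pr ≫ X.hom = GX.hom ≫ σ from pullback.condition, ← Category.assoc,
          ← Category.assoc, Over.w u, Over.w v]) ≫ m.left := by
    intro Z u v
    rw [Over.comp_left, Category.assoc]
    show _ ≫ pullback.lift (q ≫ m.left) _ _ ≫ pullback.fst _ _ = _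
    rw [pullback.lift_fst, ← Category.assoc]
    congr 1
    refine pullback.hom_ext ?_ ?_
    · rw [Category.assoc, pullback.lift_fst, pullback.lift_fst, ← Category.assoc, ← Over.comp_left, lift_fst]
    · rw [Category.assoc, pullback.lift_snd, pullback.lift_snd, ← Category.assoc, ← Over.comp_left, lift_snd]
  have hu : ∀ (u v : GX ⟶ GX) (u₀ v₀ : X ⟶ X), u.left ≫ pr = pr ≫ u₀.left → v.left ≫ pr = pr ≫ v₀.left →
      lift u₀ v₀ ≫ m = 𝟙 X → lift u v ≫ m' = 𝟙 GX := by
    intro u v u₀ v₀ hu hv h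
    apply Over.OverMorphism.ext
    refine pullback.hom_ext ?_ (Over.w (lift u v ≫ m') |>.trans (Category.id_comp _).symm)
    refine (hm'1 u v).trans ?_
    rw [Over.id_left, show (𝟙 GX.left ≫ pullback.fst X.hom σ) = pr ≫ (lift u₀ v₀ ≫ m).left by
      rw [h]; exact (Category.id_comp _).trans (Category.comp_id _).symm, Over.comp_left]
    refine Eq.trans ?_ (Category.assoc _ _ _)
    congr 1
    refine pullback.hom_ext ?_ ?_
    · rw [pullback.lift_fst, Category.assoc, hu]
      show pr ≫ u₀.left = pr ≫ (lift u₀ v₀).left ≫ (fst X X).left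
      rw [← Over.comp_left, lift_fst]
    · rw [pullback.lift_snd, Category.assoc, hv]
      show pr ≫ v₀.left = pr ≫ (lift u₀ v₀).left ≫ (snd X X).left
      rw [← Over.comp_left, lift_snd]
  have he' : (toUnit GX ≫ e').left ≫ pr = pr ≫ (toUnit X ≫ e).left := by
    rw [Over.comp_left, Category.assoc, Over.comp_left]
    show GX.hom ≫ pullback.lift _ _ _ ≫ pullback.fst _ _ = pr ≫ X.hom ≫ e.left
    rw [pullback.lift_fst, ← Category.assoc, ← Category.assoc, show pr ≫ X.hom = GX.hom ≫ σ from pullback.condition]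
  have hid : (𝟙 GX : GX ⟶ GX).left ≫ pr = pr ≫ (𝟙 X : X ⟶ X).left := by simp
  haveI hL : IsIso (left m' a').left := isIso_left (hu _ _ _ _ hid he' h₁) (hu _ _ _ _ he' hid h₂) a'
  have hΛ : (Λ' m a).left = (left m' a').left := by
    refine pullback.hom_ext ?_ ?_
    · show _ = (lift (toUnit GX ≫ a') (𝟙 GX) ≫ m').left ≫ pr
      rw [hm'1]
      show (Λ' m a).left ≫ (fst X T).left = _
      rw [← Over.comp_left, lift_fst, Over.comp_left]
      congr 1
      refine pullback.hom_ext ?_ ?_
      · show (lift (snd X T ≫ a) (fst X T)).left ≫ (fst X X).left = _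
        rw [← Over.comp_left, lift_fst, pullback.lift_fst, Over.comp_left, Over.comp_left, Category.assoc]
        show _ = GX.hom ≫ pullback.lift _ _ _ ≫ pullback.fst _ _
        rw [pullback.lift_fst]
        rfl
      · show (lift (snd X T ≫ a) (fst X T)).left ≫ (snd X X).left = _
        rw [← Over.comp_left, lift_snd, pullback.lift_snd, Over.id_left, Category.id_comp]
        rfl
    · refine Eq.trans ?_ (Over.w (left m' a')).symm
      show (Λ' m a).left ≫ (snd X T).left = _
      rw [← Over.comp_left, lift_snd]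
      rfl
  rw [hΛ]
  exact hL

/-- An endomorphism over the base is an isomorphism on a fibre if it is on the geometric fibre. -/
theorem isIso_fibre {P B T : Scheme.{u}} (f : P ⟶ P) (p : P ⟶ B) (hf : f ≫ p = p) (x : B) {Ω : Type u} [Field Ω]
    (c : Spec (CommRingCat.of Ω) ⟶ Spec (B.residueField x)) (b : T ⟶ P) (sT : T ⟶ Spec (CommRingCat.of Ω))
    (hb : IsPullback b sT p (c ≫ B.fromSpecResidueField x)) (Λ : T ⟶ T) [IsIso Λ] (hw : Λ ≫ b = b ≫ f)
    (hs : Λ ≫ sT = sT) : IsIso (pullback.snd f (p.fiberι x)) := by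
  have hΛb : IsPullback b Λ f b := by
    refine IsPullback.of_bot ?_ hw.symm hb
    rw [hf, hs]
    exact hb
  let ι := p.fiberι x
  let r : T ⟶ p.fiber x := pullback.lift b (sT ≫ c) (hb.w.trans (Category.assoc _ _ _).symm)
  have hr : IsPullback r sT (pullback.snd p (B.fromSpecResidueField x)) c :=
    IsPullback.of_right (h₁₂ := pullback.fst _ _) (h₂₂ := B.fromSpecResidueField x) (v₁₃ := p)
      (by rw [pullback.lift_fst]; exact hb) (pullback.lift_snd _ _ _)
      (IsPullback.of_hasPullback p (B.fromSpecResidueField x))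
  haveI : Surjective c := ⟨fun z => ⟨IsLocalRing.closedPoint Ω,
    @Subsingleton.elim _ (inferInstanceAs (Subsingleton (PrimeSpectrum (B.residueField x)))) _ _⟩⟩
  haveI : Flat c := AssLib.flat_over_field c
  have hrQ : (@Surjective ⊓ @Flat ⊓ @QuasiCompact : MorphismProperty Scheme.{u}) r :=
    MorphismProperty.of_isPullback hr.flip ⟨⟨‹Surjective c›, ‹Flat c›⟩, inferInstance⟩
  have hg : IsPullback (pullback.snd (pullback.snd f ι) r) (pullback.fst _ r ≫ pullback.fst _ ι) b f := by
    have := (IsPullback.of_hasPullback (pullback.snd f ι) r).flip.paste_vert (IsPullback.of_hasPullback f ι).flip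
    rw [show r ≫ ι = b from pullback.lift_fst _ _ _] at this
    exact this
  haveI : IsIso (pullback.snd (pullback.snd f ι) r) := by
    rw [← IsPullback.isoIsPullback_hom_fst _ _ hg hΛb.flip]
    infer_instance
  exact MorphismProperty.of_pullback_snd_of_descendsAlong (P := MorphismProperty.isomorphisms Scheme)
    (Q := @Surjective ⊓ @Flat ⊓ @QuasiCompact) (g := r) hrQ
    (inferInstanceAs (IsIso (pullback.snd (pullback.snd f ι) r)))

/-- The shear map is an isomorphism. -/
theorem isIso_shear (h₁ : lift (𝟙 X) (toUnit X ≫ e) ≫ m = 𝟙 X) (h₂ : lift (toUnit X ≫ e) (𝟙 X) ≫ m = 𝟙 X) :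
    IsIso (shear m).left := by
  let p := (fst X X).left
  haveI : Flat p := inferInstanceAs (Flat (pullback.fst X.hom X.hom))
  haveI : LocallyOfFinitePresentation p := inferInstanceAs (LocallyOfFinitePresentation (pullback.fst X.hom X.hom))
  refine (S2759.result p p (shear m).left (by rw [← Over.comp_left, lift_fst])).2.2 fun x => ?_
  let Ω := AlgebraicClosure (X.left.residueField x)
  let c : Spec (CommRingCat.of Ω) ⟶ Spec (X.left.residueField x) :=
    Spec.map (CommRingCat.ofHom (algebraMap (X.left.residueField x) Ω))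
  let σ := (c ≫ X.left.fromSpecResidueField x) ≫ X.hom
  let T : Over S := Over.mk σ
  let a : T ⟶ X := Over.homMk (c ≫ X.left.fromSpecResidueField x) rfl
  let b : X ⊗ T ⟶ X ⊗ X := lift (snd X T ≫ a) (fst X T)
  haveI : IsIso (Λ' m a).left := isIso_geometric h₁ h₂ σ a
  refine isIso_fibre (shear m).left p (by rw [← Over.comp_left, lift_fst]) x c b.left (snd X T).left ?_
    (Λ' m a).left ?_ ?_
  · refine IsPullback.of_right (h₁₂ := (snd X X).left) (h₂₂ := X.hom) (v₁₃ := X.hom) ?_ ?_
      (IsPullback.of_hasPullback X.hom X.hom).flip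
    · rw [← Over.comp_left, lift_snd]
      exact IsPullback.of_hasPullback X.hom σ
    · rw [← Over.comp_left, lift_fst]
      rfl
  · rw [← Over.comp_left, ← Over.comp_left]
    congr 1
    ext <;> simp [Λ', b]
  · rw [← Over.comp_left, lift_snd]

/-- A unital multiplication makes a group scheme. -/
theorem exists_grpObj (h₁ : lift (𝟙 X) (toUnit X ≫ e) ≫ m = 𝟙 X) (h₂ : lift (toUnit X ≫ e) (𝟙 X) ≫ m = 𝟙 X) :
    ∃ h : GrpObj X, h.one = e ∧ h.mul = m := by
  haveI := isIso_shear h₁ h₂
  haveI : IsIso ((Over.forget S).map (shear m)) := inferInstanceAs (IsIso (shear m).left)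
  haveI : IsIso (shear m) := isIso_of_reflects_iso _ (Over.forget S)
  have hinj : ∀ {Z : Over S} (x y y' : Z ⟶ X), lift x y ≫ m = lift x y' ≫ m → y = y' := by
    intro Z x y y' h
    have : lift x y ≫ shear m = lift x y' ≫ shear m := by ext <;> simp [h]
    simpa using congrArg (· ≫ snd X X) ((cancel_mono (shear m)).1 this)
  let dv : X ⊗ X ⟶ X := inv (shear m) ≫ snd X X
  have hdiv : ∀ {Z : Over S} (x z : Z ⟶ X), lift x (lift x z ≫ dv) ≫ m = z := by
    intro Z x z
    have hf : inv (shear m) ≫ fst X X = fst X X := by rw [IsIso.inv_comp_eq]; simp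
    have : lift x (lift x z ≫ dv) = lift x z ≫ inv (shear m) := by
      ext <;> simp [dv, hf]
    rw [this, Category.assoc, show inv (shear m) ≫ m = snd X X by rw [IsIso.inv_comp_eq]; simp, lift_snd]
  have hone : ∀ {Z : Over S} (x : Z ⟶ X), lift x (toUnit Z ≫ e) ≫ m = x := fun {Z} x => by
    conv_rhs => rw [← Category.comp_id x, ← h₁]
    simp [comp_lift_assoc]
  have hone' : ∀ {Z : Over S} (x : Z ⟶ X), lift (toUnit Z ≫ e) x ≫ m = x := fun {Z} x => by
    conv_rhs => rw [← Category.comp_id x, ← h₂]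
    simp [comp_lift_assoc]
  haveI : GeometricallyConnected X.hom := CubeAb.geometricallyConnected_of_integral X.hom
  haveI : GeometricallyConnected (X ⊗ X).hom := by
    rw [show (X ⊗ X).hom = pullback.snd X.hom X.hom ≫ X.hom from pullback.condition]
    exact GeometricallyConnected.comp _ _
  let W := X ⊗ X
  let x := fst X W
  let y := snd X W ≫ fst X X
  let z := snd X W ≫ snd X X
  let f : X ⊗ W ⟶ X := lift (lift x y ≫ m) (lift x (lift y z ≫ m) ≫ m) ≫ dv
  let eW : 𝟙_ (Over S) ⟶ W := lift e e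
  have hf1 : lift (𝟙 X) (toUnit X ≫ eW) ≫ f = toUnit X ≫ e := by
    refine hinj (𝟙 X) _ _ ?_
    have : lift (𝟙 X) (toUnit X ≫ eW) ≫ f = lift (𝟙 X) (𝟙 X) ≫ dv := by
      simp [f, x, y, z, eW, comp_lift_assoc, comp_lift, hone]
    rw [this, hdiv, h₁]
  have hf := factor_snd e eW f e hf1
  have hf2 : lift (toUnit W ≫ e) (𝟙 W) ≫ f = snd X X := by
    refine hinj (fst X X) _ _ ?_
    have : lift (toUnit W ≫ e) (𝟙 W) ≫ f = lift (fst X X) m ≫ dv := by
      simp [f, x, y, z, comp_lift_assoc, comp_lift, hone']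
    rw [this, hdiv]
    simp [lift_fst_snd]
  have hfz : f = z := by rw [hf, hf2]
  have hassoc : ∀ {Z : Over S} (a b c : Z ⟶ X), lift (lift a b ≫ m) c ≫ m = lift a (lift b c ≫ m) ≫ m := by
    intro Z a b c
    have h := hdiv (lift x y ≫ m) (lift x (lift y z ≫ m) ≫ m)
    rw [show lift (lift x y ≫ m) (lift x (lift y z ≫ m) ≫ m) ≫ dv = z from hfz] at h
    simpa [x, y, z, W, comp_lift_assoc, comp_lift] using congrArg (lift a (lift b c) ≫ ·) h
  let ν : X ⟶ X := lift (𝟙 X) (toUnit X ≫ e) ≫ dv
  have hν : lift (𝟙 X) ν ≫ m = toUnit X ≫ e := hdiv _ _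
  have hν' : lift ν (𝟙 X) ≫ m = toUnit X ≫ e := by
    refine hinj (𝟙 X) _ _ ?_
    rw [← hassoc, hν, hone', hone]
  refine ⟨
    { one := e
      mul := m
      one_mul := ?_
      mul_one := ?_
      mul_assoc := ?_
      inv := ν
      left_inv := hν'
      right_inv := hν }, rfl, rfl⟩
  · rw [show e ▷ X = lift (fst _ _ ≫ e) (snd _ _) by ext <;> simp]
    have h := hone' (Z := 𝟙_ (Over S) ⊗ X) (snd _ _)
    rw [show toUnit (𝟙_ (Over S) ⊗ X) = fst _ _ from toUnit_unique _ _] at h
    rw [h, leftUnitor_hom]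
  · rw [show X ◁ e = lift (fst _ _) (snd _ _ ≫ e) by ext <;> simp]
    have h := hone (Z := X ⊗ 𝟙_ (Over S)) (fst _ _)
    rw [show toUnit (X ⊗ 𝟙_ (Over S)) = snd _ _ from toUnit_unique _ _] at h
    rw [h, rightUnitor_hom]
  · have h := hassoc (fst (X ⊗ X) X ≫ fst X X) (fst (X ⊗ X) X ≫ snd X X) (snd (X ⊗ X) X)
    rw [show m ▷ X = lift (lift (fst (X ⊗ X) X ≫ fst X X) (fst (X ⊗ X) X ≫ snd X X) ≫ m) (snd _ _) by
      ext1 <;> simp [← comp_lift], h]
    rw [← Category.assoc]
    congr 1
    ext1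
    · simp
    · rw [lift_snd, Category.assoc, whiskerLeft_snd, ← Category.assoc]
      congr 1
      ext1 <;> simp

end Base

end Groth.Agent.UnitalMul
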