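import Groth.Agent.FlatLoc6.Regular
import Groth.Agent.CotTLib.SmoothField
import Groth.Agent.RegLoc6.Basic
import Groth.Agent.S7603
import Mathlib.RingTheory.Smooth.Flat
import Mathlib.RingTheory.MvPolynomial.Ideal
import Mathlib.RingTheory.LocalRing.ResidueField.Fiber
import Mathlib.FieldTheory.IsAlgClosed.AlgebraicClosure
import Mathlib.RingTheory.Filtration

/-! Elements vanishing on all infinitesimal neighbourhoods of a section of a smooth algebra with
connected fibres. -/

universe u

open TensorProduct AlgebraicGeometry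

namespace Groth.Agent.WeilInf12

theorem isDomain_of_smooth_of_idem {k F : Type u} [Field k] [CommRing F] [Algebra k F] [Algebra.Smooth k F]
    [Nontrivial F] (hconn : ∀ e : F, IsIdempotentElem e → e = 0 ∨ e = 1) : IsDomain F := by
  haveI : IsNoetherianRing F := Algebra.FiniteType.isNoetherianRing k F
  have hloc : ∀ (p : Ideal F) [p.IsPrime], IsDomain (Localization.AtPrime p) := fun p _ => by
    haveI := CotTLib.isRegularLocalRing_of_isSmoothAt (k := k) p
    exact RegLoc6.isDomain_of_isRegularLocalRing _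
  haveI : _root_.IsReduced F := isReduced_ofLocalizationMaximal F fun m _ => by
    haveI := hloc m
    infer_instance
  haveI : Nonempty ↥(Spec (CommRingCat.of F)) := inferInstanceAs (Nonempty (PrimeSpectrum F))
  haveI : PreconnectedSpace (PrimeSpectrum F) := preconnectedSpace_iff_clopen.2 fun s hs => by
    obtain ⟨e, he, rfl⟩ := PrimeSpectrum.isClopen_iff.1 hs
    rcases hconn e he with rfl | rfl
    · left; simp
    · right; simp
  haveI : ConnectedSpace ↥(Spec (CommRingCat.of F)) :=
    { toPreconnectedSpace := ‹PreconnectedSpace (PrimeSpectrum F)›, toNonempty := inferInstance }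
  haveI := Groth.Agent.S7603.irreducibleSpace_of_isDomain_stalk (Y := Spec (CommRingCat.of F)) fun y => by
    change PrimeSpectrum F at y
    haveI := hloc y.asIdeal
    exact MulEquiv.isDomain _
      (Spec.stalkIso (CommRingCat.of F) y).commRingCatIsoToRingEquiv.toMulEquiv
  have h : (nilradical F).IsPrime := PrimeSpectrum.irreducibleSpace_iff_isPrime_nilradical.1
    ‹IrreducibleSpace ↥(Spec (CommRingCat.of F))›
  rw [nilradical_eq_zero, Ideal.zero_eq_bot] at h
  haveI := h
  exact IsDomain.of_bot_isPrime F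

section Fibre

variable {A B : Type u} [CommRing A] [CommRing B] [Algebra A B] (p : Ideal A) [p.IsPrime]

theorem fibre_eq_zero_iff (b : B) :
    (1 : p.ResidueField) ⊗ₜ[A] b = (0 : p.Fiber B) ↔
      ∃ r ∉ p, algebraMap A B r * b ∈ p.map (algebraMap A B) := by
  letI : Algebra B (p.Fiber B) := Algebra.TensorProduct.rightAlgebra
  let Sp := Localization (Algebra.algebraMapSubmonoid B p.primeCompl)
  have h1 : (1 : p.ResidueField) ⊗ₜ[A] b = algebraMap B (p.Fiber B) b := rfl
  rw [h1, ← EmbeddingLike.map_eq_zero_iff (f := Ideal.Fiber.algEquivQuotient (S := B) p), AlgEquiv.commutes,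
    IsScalarTower.algebraMap_apply B Sp, Ideal.Quotient.algebraMap_eq,
    Ideal.Quotient.eq_zero_iff_mem, ← Localization.AtPrime.map_eq_maximalIdeal, Ideal.map_map,
    ← IsScalarTower.algebraMap_eq, IsScalarTower.algebraMap_eq A B Sp, ← Ideal.map_map]
  constructor
  · intro h
    obtain ⟨m, hm, hmem⟩ :=
      (IsLocalization.algebraMap_mem_map_algebraMap_iff (Algebra.algebraMapSubmonoid B p.primeCompl) Sp _ b).1 h
    obtain ⟨r, hr, rfl⟩ := hm
    exact ⟨r, hr, hmem⟩
  · rintro ⟨r, hr, hmem⟩
    exact (IsLocalization.algebraMap_mem_map_algebraMap_iff (Algebra.algebraMapSubmonoid B p.primeCompl) Sp _ b).2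
      ⟨_, ⟨r, hr, rfl⟩, hmem⟩

theorem fibre_ne_zero (Q : Ideal B) [Q.IsPrime] (hQ : Q.comap (algebraMap A B) = p) {u : B} (hu : u ∉ Q) :
    (1 : p.ResidueField) ⊗ₜ[A] u ≠ (0 : p.Fiber B) := by
  rw [Ne, fibre_eq_zero_iff]
  rintro ⟨r, hr, hmem⟩
  have hle : p.map (algebraMap A B) ≤ Q := Ideal.map_le_iff_le_comap.2 hQ.ge
  rcases Ideal.IsPrime.mem_or_mem inferInstance (hle hmem) with h | h
  · exact hr (hQ ▸ h)
  · exact hu h

variable [IsNoetherianRing A] [IsNoetherianRing B] [Module.Flat A B]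

/-- If the fibre over `p` is a domain then an element not vanishing on it is regular near every point
over `p`. -/
theorem exists_notMem_mul_eq_zero [IsDomain (p.Fiber B)] (Q : Ideal B) [Q.IsPrime]
    (hQ : Q.comap (algebraMap A B) = p) {t x : B}
    (ht : (1 : p.ResidueField) ⊗ₜ[A] t ≠ (0 : p.Fiber B)) (hx : t * x = 0) :
    ∃ s ∉ Q, s * x = 0 := by
  haveI : Q.LiesOver p := ⟨hQ.symm⟩
  letI := Localization.AtPrime.algebraOfLiesOver p Q
  haveI : IsLocalHom (algebraMap (Localization.AtPrime p) (Localization.AtPrime Q)) := by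
    rw [Localization.AtPrime.IsLiesOverAlgebra.algebraMap_eq]
    exact Localization.isLocalHom_localRingHom p Q (algebraMap A B) Ideal.LiesOver.over
  haveI : IsNoetherianRing (Localization.AtPrime Q) :=
    IsLocalization.isNoetherianRing Q.primeCompl _ inferInstance
  haveI : IsNoetherianRing (Localization.AtPrime p) :=
    IsLocalization.isNoetherianRing p.primeCompl _ inferInstance
  haveI : Module.Flat B (Localization.AtPrime Q) := IsLocalization.flat _ Q.primeCompl
  haveI : Module.Flat A (Localization.AtPrime Q) := Module.Flat.trans A B _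
  haveI : Module.Flat (Localization.AtPrime p) (Localization.AtPrime Q) :=
    (Module.flat_iff_of_isLocalization (Localization.AtPrime p) p.primeCompl _).mpr inferInstance
  let ι := algebraMap B (Localization.AtPrime Q)
  have hmap : (IsLocalRing.maximalIdeal (Localization.AtPrime p)).map
      (algebraMap (Localization.AtPrime p) (Localization.AtPrime Q)) = (p.map (algebraMap A B)).map ι := by
    rw [← Localization.AtPrime.map_eq_maximalIdeal, Ideal.map_map, Ideal.map_map,
      ← IsScalarTower.algebraMap_eq, ← IsScalarTower.algebraMap_eq]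
  have hreg : FlatLoc6.RegFib (Localization.AtPrime p) (Localization.AtPrime Q) (ι t) := by
    intro n hn
    rw [FlatLoc6.mN, Ideal.smul_top_eq_map] at hn ⊢
    simp only [Algebra.algebraMap_self, Ideal.map_id, Submodule.restrictScalars_self, smul_eq_mul] at hn ⊢
    rw [hmap] at hn ⊢
    obtain ⟨⟨b, s⟩, rfl⟩ := IsLocalization.mk'_surjective Q.primeCompl n
    rw [IsLocalization.mul_mk'_eq_mk'_of_mul, IsLocalization.mk'_mem_map_algebraMap_iff] at hn
    obtain ⟨u, hu, hmem⟩ := hn
    have h0 : (1 : p.ResidueField) ⊗ₜ[A] (u * (t * b)) = (0 : p.Fiber B) := by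
      rw [fibre_eq_zero_iff]
      exact ⟨1, fun h => (Ideal.IsPrime.ne_top inferInstance) ((Ideal.eq_top_iff_one p).2 h),
        by rw [map_one, one_mul]; exact hmem⟩
    have hsplit : (1 : p.ResidueField) ⊗ₜ[A] (u * (t * b)) =
        ((1 : p.ResidueField) ⊗ₜ[A] u : p.Fiber B) * ((1 ⊗ₜ[A] t) * (1 ⊗ₜ[A] b)) := by
      simp [Algebra.TensorProduct.tmul_mul_tmul]
    rw [hsplit] at h0
    rcases mul_eq_zero.1 h0 with h | h
    · exact absurd h (fibre_ne_zero p Q hQ hu)
    rcases mul_eq_zero.1 h with h | h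
    · exact absurd h ht
    obtain ⟨r, hr, hrb⟩ := (fibre_eq_zero_iff p b).1 h
    rw [IsLocalization.mk'_mem_map_algebraMap_iff]
    exact ⟨algebraMap A B r, fun h => hr (hQ ▸ h), hrb⟩
  have h2 : IsSMulRegular (Localization.AtPrime Q) (ι t) := FlatLoc6.regular_self hreg
  have h3 : ι x = 0 := (isSMulRegular_iff_right_eq_zero_of_smul.1 h2) (ι x) (by
    rw [smul_eq_mul, ← map_mul, hx, map_zero])
  obtain ⟨⟨s, hs⟩, h4⟩ := (IsLocalization.map_eq_zero_iff Q.primeCompl _ x).1 h3
  exact ⟨s, hs, h4⟩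

end Fibre

/-- An element vanishing to infinite order along a section vanishes near the connected fibres. -/
theorem exists_notMem_of_iInf {A B : Type u} [CommRing A] [IsNoetherianRing A] [CommRing B] [Algebra A B]
    [Algebra.Smooth A B] (e : B →ₐ[A] A) (x : B) (hx : ∀ k : ℕ, x ∈ RingHom.ker e ^ k)
    (Q : Ideal B) [Q.IsPrime] (p : Ideal A) [p.IsPrime] (hQ : Q.comap (algebraMap A B) = p)
    (hconn : ∀ z : p.Fiber B, IsIdempotentElem z → z = 0 ∨ z = 1) :
    ∃ s ∉ Q, s * x = 0 := by
  haveI : IsNoetherianRing B := Algebra.FiniteType.isNoetherianRing A B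
  let P : Ideal B := p.comap e
  haveI : P.IsPrime := Ideal.comap_isPrime e p
  have hP : P.comap (algebraMap A B) = p := by
    ext a
    simp [P]
  have hker : RingHom.ker e ≤ P := fun b hb => by
    show e b ∈ p
    rw [RingHom.mem_ker.1 hb]
    exact zero_mem p
  let ι := algebraMap B (Localization.AtPrime P)
  have h0 : ι x = 0 := by
    have hmem : ι x ∈ ⨅ k : ℕ, IsLocalRing.maximalIdeal (Localization.AtPrime P) ^ k := by
      rw [Submodule.mem_iInf]
      intro k
      rw [← Localization.AtPrime.map_eq_maximalIdeal, ← Ideal.map_pow]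
      exact Ideal.mem_map_of_mem _ (Ideal.pow_right_mono hker k (hx k))
    haveI : IsNoetherianRing (Localization.AtPrime P) :=
      IsLocalization.isNoetherianRing P.primeCompl _ inferInstance
    rw [Ideal.iInf_pow_eq_bot_of_isLocalRing _ (Ideal.IsPrime.ne_top inferInstance)] at hmem
    exact hmem
  obtain ⟨⟨t, ht⟩, h1⟩ := (IsLocalization.map_eq_zero_iff P.primeCompl _ x).1 h0
  haveI : Nontrivial (p.Fiber B) := nontrivial_of_ne _ _ (fibre_ne_zero p P hP ht)
  haveI : IsDomain (p.Fiber B) := isDomain_of_smooth_of_idem (k := p.ResidueField) hconn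
  exact exists_notMem_mul_eq_zero p Q hQ (fibre_ne_zero p P hP ht) h1

section Content

variable {A B : Type u} [CommRing A] [CommRing B] [Algebra A B] (e : B →ₐ[A] A) (J : Ideal B)

/-- The base change to `R'` of the `n`-th infinitesimal neighbourhood of the section lies in `V(J)`. -/
def VInf (n : ℕ) (R' : Type u) [CommRing R'] [Algebra A R'] : Prop :=
  ∀ x ∈ J, (1 : R') ⊗ₜ[A] (Ideal.Quotient.mk (RingHom.ker e ^ (n + 1)) x) =
    (0 : R' ⊗[A] (B ⧸ RingHom.ker e ^ (n + 1)))

theorem VInf.of_succ {n : ℕ} {R' : Type u} [CommRing R'] [Algebra A R'] (h : VInf e J (n + 1) R') :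
    VInf e J n R' := fun x hx => by
  let g : (B ⧸ RingHom.ker e ^ (n + 1 + 1)) →ₐ[A] B ⧸ RingHom.ker e ^ (n + 1) :=
    Ideal.Quotient.factorₐ A (Ideal.pow_le_pow_right (Nat.le_succ _))
  have := congrArg (Algebra.TensorProduct.map (AlgHom.id A R') g) (h x hx)
  rw [map_zero, Algebra.TensorProduct.map_tmul] at this
  exact this

theorem exists_content [Algebra.Smooth A B] (n : ℕ) :
    ∃ C : Ideal A, ∀ (R' : Type u) [CommRing R'] [Algebra A R'],
      VInf e J n R' ↔ C ≤ RingHom.ker (algebraMap A R') := by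
  classical
  obtain ⟨r, π₀, hπ₀⟩ := Algebra.FiniteType.iff_quotient_mvPolynomial''.1
    (inferInstance : Algebra.FiniteType A B)
  let b : Fin r → B := fun i => π₀ (MvPolynomial.X i) - algebraMap A B (e (π₀ (MvPolynomial.X i)))
  let π : MvPolynomial (Fin r) A →ₐ[A] B := MvPolynomial.aeval b
  have hπ : Function.Surjective π := by
    rw [← AlgHom.range_eq_top, eq_top_iff]
    have htop : (π₀.range : Subalgebra A B) = ⊤ := (AlgHom.range_eq_top π₀).2 hπ₀
    rw [← htop, ← Algebra.map_top π₀, ← MvPolynomial.adjoin_range_X, AlgHom.map_adjoin, Algebra.adjoin_le_iff]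
    rintro _ ⟨_, ⟨i, rfl⟩, rfl⟩
    exact ⟨MvPolynomial.X i + MvPolynomial.C (e (π₀ (MvPolynomial.X i))), by simp [π, b]⟩
  have heπ : ∀ q : MvPolynomial (Fin r) A, e (π q) = MvPolynomial.constantCoeff q := by
    intro q
    induction q using MvPolynomial.induction_on with
    | C a => simp [π]
    | add p q hp hq => simp [hp, hq]
    | mul_X p i hp => simp [π, b, map_mul]
  let I := MvPolynomial.idealOfVars (Fin r) A ^ (n + 1)
  let m := RingHom.ker e ^ (n + 1)
  have hvars : (MvPolynomial.idealOfVars (Fin r) A).map π ≤ RingHom.ker e := by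
    rw [MvPolynomial.idealOfVars, Ideal.map_span, Ideal.span_le]
    rintro _ ⟨_, ⟨i, rfl⟩, rfl⟩
    show e (π (MvPolynomial.X i)) = 0
    rw [heπ, MvPolynomial.constantCoeff_X]
  let πb : (MvPolynomial (Fin r) A ⧸ I) →ₐ[A] B ⧸ m :=
    Ideal.quotientMapₐ m π (by
      rw [← Ideal.map_le_iff_le_comap, Ideal.map_pow]
      exact Ideal.pow_right_mono hvars _)
  have hπb : Function.Surjective πb := fun y => by
    obtain ⟨y, rfl⟩ := Ideal.Quotient.mk_surjective y
    obtain ⟨q, rfl⟩ := hπ y
    exact ⟨Ideal.Quotient.mk I q, rfl⟩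
  have hker : RingHom.ker πb ≤ (MvPolynomial.idealOfVars (Fin r) A).map (Ideal.Quotient.mk I) := by
    intro y hy
    obtain ⟨q, rfl⟩ := Ideal.Quotient.mk_surjective y
    have hq : π q ∈ m := Ideal.Quotient.eq_zero_iff_mem.1 hy
    have h0 : e (π q) = 0 := Ideal.pow_le_self (Nat.succ_ne_zero n) hq
    rw [heπ] at h0
    refine Ideal.mem_map_of_mem _ ?_
    rw [← pow_one (MvPolynomial.idealOfVars (Fin r) A), MvPolynomial.mem_pow_idealOfVars_iff']
    intro d hd
    obtain rfl : d = 0 := Finsupp.degree_eq_zero_iff d |>.1 (by omega)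
    exact h0
  have hnil : IsNilpotent (RingHom.ker πb) := by
    refine ⟨n + 1, eq_bot_iff.2 ((Ideal.pow_right_mono hker _).trans ?_)⟩
    rw [← Ideal.map_pow]
    exact (Ideal.map_quotient_self I).le
  let σ : B →ₐ[A] MvPolynomial (Fin r) A ⧸ I :=
    Algebra.FormallySmooth.liftOfSurjective (Ideal.Quotient.mkₐ A m) πb hπb hnil
  have hσ : ∀ x, πb (σ x) = Ideal.Quotient.mk m x := fun x =>
    Algebra.FormallySmooth.liftOfSurjective_apply _ πb hπb hnil x
  have hσm : m ≤ RingHom.ker σ := by
    have h1 : (RingHom.ker e).map σ ≤ (MvPolynomial.idealOfVars (Fin r) A).map (Ideal.Quotient.mk I) := by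
      rw [Ideal.map_le_iff_le_comap]
      intro x hx
      obtain ⟨q, hq⟩ := Ideal.Quotient.mk_surjective (σ x)
      have h2 : Ideal.Quotient.mk m (π q) = Ideal.Quotient.mk m x := by
        rw [← hσ x, ← hq]; rfl
      have h3 : π q - x ∈ RingHom.ker e :=
        Ideal.pow_le_self (Nat.succ_ne_zero n) (Ideal.Quotient.eq.1 h2)
      have h4 : e (π q) = 0 := by
        have := RingHom.mem_ker.1 h3
        rwa [map_sub, RingHom.mem_ker.1 hx, sub_zero] at this
      rw [heπ] at h4
      show σ x ∈ (MvPolynomial.idealOfVars (Fin r) A).map (Ideal.Quotient.mk I)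
      rw [← hq]
      refine Ideal.mem_map_of_mem _ ?_
      rw [← pow_one (MvPolynomial.idealOfVars (Fin r) A), MvPolynomial.mem_pow_idealOfVars_iff']
      intro d hd
      obtain rfl : d = 0 := Finsupp.degree_eq_zero_iff d |>.1 (by omega)
      exact h4
    rw [← Ideal.map_eq_bot_iff_le_ker, Ideal.map_pow, eq_bot_iff]
    refine (Ideal.pow_right_mono h1 _).trans ?_
    rw [← Ideal.map_pow]
    exact (Ideal.map_quotient_self I).le
  let σb : (B ⧸ m) →ₐ[A] MvPolynomial (Fin r) A ⧸ I := Ideal.Quotient.liftₐ m σ fun a ha => hσm ha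
  have hc : ∀ d : Fin r →₀ ℕ, d.degree < n + 1 → ∀ q ∈ I, MvPolynomial.coeff d q = 0 := fun d hd q hq =>
    (MvPolynomial.mem_pow_idealOfVars_iff' _ _).1 hq d hd
  let S : Set A := {a | ∃ x ∈ J, ∃ (d : Fin r →₀ ℕ) (q : MvPolynomial (Fin r) A),
    d.degree < n + 1 ∧ Ideal.Quotient.mk I q = σ x ∧ MvPolynomial.coeff d q = a}
  refine ⟨Ideal.span S, fun R' _ _ => ⟨fun h => Ideal.span_le.2 ?_, fun h x hx => ?_⟩⟩
  · rintro _ ⟨x, hx, d, q, hd, hq, rfl⟩
    let ℓ : (MvPolynomial (Fin r) A ⧸ I.restrictScalars A) →ₗ[A] A :=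
      (I.restrictScalars A).liftQ (MvPolynomial.lcoeff A d) fun q hq => hc d hd q hq
    let L : (B ⧸ m) →ₗ[A] A :=
      ℓ ∘ₗ (Submodule.Quotient.restrictScalarsEquiv A I).symm.toLinearMap ∘ₗ σb.toLinearMap
    have hL : L (Ideal.Quotient.mk m x) = MvPolynomial.coeff d q := by
      show ℓ ((Submodule.Quotient.restrictScalarsEquiv A I).symm (σ x)) = _
      rw [← hq]
      rfl
    have h2 := congrArg (TensorProduct.map (LinearMap.id (R := A) (M := R')) L) (h x hx)
    rw [map_zero, TensorProduct.map_tmul, hL, LinearMap.id_apply] at h2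
    have h3 := congrArg (TensorProduct.rid A R') h2
    rw [map_zero, TensorProduct.rid_tmul, Algebra.smul_def, mul_one] at h3
    exact RingHom.mem_ker.2 h3
  · obtain ⟨q, hq⟩ := Ideal.Quotient.mk_surjective (σ x)
    have h2 : Ideal.Quotient.mk m x = Ideal.Quotient.mk m (π q) := by
      rw [← hσ x, ← hq]; rfl
    show (1 : R') ⊗ₜ[A] (Ideal.Quotient.mk m x) = 0
    rw [h2, MvPolynomial.as_sum q, map_sum, map_sum, TensorProduct.tmul_sum]
    refine Finset.sum_eq_zero fun d _ => ?_
    by_cases hd : d.degree < n + 1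
    · rw [← mul_one (MvPolynomial.coeff d q), ← smul_eq_mul, ← MvPolynomial.smul_monomial,
        map_smul, ← Ideal.Quotient.mkₐ_eq_mk A, map_smul,
        ← TensorProduct.smul_tmul, Algebra.smul_def, mul_one,
        RingHom.mem_ker.1 (h (Ideal.subset_span ⟨x, hx, d, q, hd, hq, rfl⟩)), TensorProduct.zero_tmul]
    · have hmem : MvPolynomial.monomial d (MvPolynomial.coeff d q) ∈ I := by
        rw [MvPolynomial.mem_pow_idealOfVars_iff']
        intro d' hd'
        rw [MvPolynomial.coeff_monomial, if_neg]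
        rintro rfl
        exact hd hd'
      have hmem' : π (MvPolynomial.monomial d (MvPolynomial.coeff d q)) ∈ m := by
        have := Ideal.mem_map_of_mem π hmem
        rw [Ideal.map_pow] at this
        exact Ideal.pow_right_mono hvars _ this
      rw [Ideal.Quotient.eq_zero_iff_mem.2 hmem', TensorProduct.tmul_zero]

end Content

theorem idem_fibre {A A' B K : Type u} [CommRing A] [CommRing A'] [Algebra A A'] [CommRing B] [Algebra A B]
    [Field K] [Algebra A K] [Algebra A' K] [IsScalarTower A A' K] (p : Ideal A') [p.IsPrime]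
    (hp : p = RingHom.ker (algebraMap A' K))
    (h : ∀ z : K ⊗[A] B, IsIdempotentElem z → z = 0 ∨ z = 1) :
    ∀ z : p.Fiber (A' ⊗[A] B), IsIdempotentElem z → z = 0 ∨ z = 1 := by
  letI : Algebra p.ResidueField K := (Ideal.ResidueField.lift p (algebraMap A' K) hp.le (by
    intro a ha
    exact (Ne.isUnit fun h => ha (hp.ge h)))).toAlgebra
  haveI : IsScalarTower A' p.ResidueField K := IsScalarTower.of_algebraMap_eq fun a =>
    (Ideal.ResidueField.lift_algebraMap _ _ _ _ _).symm
  let ι : p.Fiber (A' ⊗[A] B) →ₐ[A'] K ⊗[A] B :=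
    (AlgEquiv.restrictScalars A' (Algebra.TensorProduct.cancelBaseChange A A' K K B)).toAlgHom.comp
      (Algebra.TensorProduct.map (IsScalarTower.toAlgHom A' p.ResidueField K) (AlgHom.id A' (A' ⊗[A] B)))
  have hι : Function.Injective ι := by
    refine (Algebra.TensorProduct.cancelBaseChange A A' K K B).injective.comp ?_
    let E := Algebra.TensorProduct.cancelBaseChange A' p.ResidueField K K (A' ⊗[A] B)
    have h1 : Function.Injective (Algebra.TensorProduct.includeRight :
        p.Fiber (A' ⊗[A] B) →ₐ[p.ResidueField] K ⊗[p.ResidueField] p.Fiber (A' ⊗[A] B)) :=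
      Algebra.TensorProduct.includeRight_injective (algebraMap p.ResidueField K).injective
    have h2 : ∀ z : p.Fiber (A' ⊗[A] B),
        Algebra.TensorProduct.map (IsScalarTower.toAlgHom A' p.ResidueField K) (AlgHom.id A' (A' ⊗[A] B)) z =
          E (Algebra.TensorProduct.includeRight z) := by
      intro z
      induction z using TensorProduct.induction_on with
      | zero => simp
      | tmul c b => simp [E, Algebra.smul_def]
      | add u v hu hv => simp only [map_add, hu, hv]
    intro u v huv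
    change Algebra.TensorProduct.map _ _ u = Algebra.TensorProduct.map _ _ v at huv
    rw [h2, h2] at huv
    exact h1 (E.injective huv)
  intro z hz
  rcases h (ι z) (hz.map ι) with h | h
  · exact Or.inl (hι (h.trans (map_zero ι).symm))
  · exact Or.inr (hι (h.trans (map_one ι).symm))

/-- Over a Noetherian base: one order of infinitesimal neighbourhood suffices. -/
theorem exists_order {A B : Type u} [CommRing A] [IsNoetherianRing A] [CommRing B] [Algebra A B]
    [Algebra.Smooth A B] (e : B →ₐ[A] A) (J : Ideal B) :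
    ∃ n : ℕ, ∀ (R' : Type u) [CommRing R'] [Algebra A R'],
      (∀ (K : Type u) [Field K] [IsAlgClosed K] [Algebra A K], (R' →ₐ[A] K) →
        ∀ z : K ⊗[A] B, IsIdempotentElem z → z = 0 ∨ z = 1) →
      VInf e J n R' → ∀ x ∈ J, (1 : R') ⊗ₜ[A] x = (0 : R' ⊗[A] B) := by
  choose C hC using exists_content e J
  have hmono : Monotone C := monotone_nat_of_le_succ fun n => by
    have h1 : VInf e J (n + 1) (A ⧸ C (n + 1)) :=
      (hC (n + 1) _).2 (by rw [Ideal.Quotient.algebraMap_eq, Ideal.mk_ker])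
    have h2 := (hC n _).1 (VInf.of_succ e J h1)
    rwa [Ideal.Quotient.algebraMap_eq, Ideal.mk_ker] at h2
  obtain ⟨n, hn⟩ := monotone_stabilizes_iff_noetherian.2 inferInstance ⟨C, hmono⟩
  refine ⟨n, fun R' _ _ hconn hV x hx => ?_⟩
  let A' := A ⧸ C n
  haveI : IsNoetherianRing A' := inferInstance
  let f : A' →ₐ[A] R' := Ideal.Quotient.liftₐ (C n) (Algebra.ofId A R') fun a ha => (hC n R').1 hV ha
  let e' : A' ⊗[A] B →ₐ[A'] A' :=
    Algebra.TensorProduct.lift (AlgHom.id A' A') ((Algebra.ofId A A').comp e) fun _ _ => Commute.all _ _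
  have hinf : ∀ k : ℕ, (1 : A') ⊗ₜ[A] x ∈ RingHom.ker e' ^ k := by
    intro k
    have hk : VInf e J k A' := by
      refine (hC k A').2 ?_
      rw [Ideal.Quotient.algebraMap_eq, Ideal.mk_ker]
      rcases le_or_gt k n with h | h
      · exact hmono h
      · exact (hn k h.le).ge
    have h1 : (1 : A') ⊗ₜ[A] x ∈ RingHom.ker (Algebra.TensorProduct.map (AlgHom.id A A')
        (Ideal.Quotient.mkₐ A (RingHom.ker e ^ (k + 1)))) := by
      rw [RingHom.mem_ker, Algebra.TensorProduct.map_tmul]
      exact hk x hx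
    rw [Algebra.TensorProduct.lTensor_ker _ (Ideal.Quotient.mkₐ_surjective A _),
      show RingHom.ker (Ideal.Quotient.mkₐ A (RingHom.ker e ^ (k + 1))) = RingHom.ker e ^ (k + 1) from
        Ideal.Quotient.mkₐ_ker A _, Ideal.map_pow] at h1
    refine Ideal.pow_le_pow_right (Nat.le_succ k) (Ideal.pow_right_mono ?_ _ h1)
    rw [Ideal.map_le_iff_le_comap]
    intro b hb
    show e' (Algebra.TensorProduct.includeRight b) = 0
    simp [e', RingHom.mem_ker.1 hb]
  let g : A' ⊗[A] B →ₐ[A] R' ⊗[A] B := Algebra.TensorProduct.map f (AlgHom.id A B)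
  have key : ∀ Q' : Ideal (R' ⊗[A] B), Q'.IsPrime → ∃ s ∉ Q', s * ((1 : R') ⊗ₜ[A] x) = 0 := by
    intro Q' hQ'
    let p' : Ideal R' := Q'.comap (algebraMap R' (R' ⊗[A] B))
    haveI : p'.IsPrime := Ideal.comap_isPrime _ _
    let K := AlgebraicClosure p'.ResidueField
    let φ : R' →ₐ[A] K := IsScalarTower.toAlgHom A R' K
    let p : Ideal A' := p'.comap f
    haveI : p.IsPrime := Ideal.comap_isPrime _ _
    letI : Algebra A' K := (φ.comp f).toRingHom.toAlgebra
    haveI : IsScalarTower A A' K := IsScalarTower.of_algebraMap_eq fun a => ((φ.comp f).commutes a).symm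
    have hpker : p = RingHom.ker (algebraMap A' K) := by
      ext a
      show f a ∈ p' ↔ φ (f a) = 0
      show _ ↔ algebraMap R' K (f a) = 0
      rw [IsScalarTower.algebraMap_apply R' p'.ResidueField K, map_eq_zero (algebraMap p'.ResidueField K),
        Ideal.algebraMap_residueField_eq_zero]
    have hidem : ∀ z : p.Fiber (A' ⊗[A] B), IsIdempotentElem z → z = 0 ∨ z = 1 :=
      idem_fibre p hpker (hconn K φ)
    haveI : (Q'.comap g).IsPrime := Ideal.comap_isPrime _ _
    have hQ : (Q'.comap g).comap (algebraMap A' (A' ⊗[A] B)) = p := by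
      ext a
      show g (a ⊗ₜ[A] (1 : B)) ∈ Q' ↔ f a ∈ p'
      rw [Algebra.TensorProduct.map_tmul]
      rfl
    obtain ⟨s, hs, hsx⟩ := exists_notMem_of_iInf e' _ hinf (Q'.comap g) p hQ hidem
    refine ⟨g s, hs, ?_⟩
    have := congrArg g hsx
    rwa [map_mul, map_zero, Algebra.TensorProduct.map_tmul, map_one] at this
  have htop : (Submodule.span (R' ⊗[A] B) {(1 : R') ⊗ₜ[A] x}).annihilator = ⊤ := by
    by_contra hne
    obtain ⟨Q', hQ'max, hle⟩ := Ideal.exists_le_maximal _ hne
    obtain ⟨s, hs, hsx⟩ := key Q' hQ'max.isPrime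
    exact hs (hle (Submodule.mem_annihilator_span_singleton _ _ |>.2 hsx))
  have h1 := (Submodule.mem_annihilator_span_singleton _ _).1 ((Ideal.eq_top_iff_one _).1 htop)
  rwa [one_smul] at h1

end Groth.Agent.WeilInf12
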