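import Groth.Agent.Lib.ZMTIso
import Groth.Agent.DimFormula.Scheme
import Groth.Agent.DimFormula.QuasiSection
import Groth.Agent.CurveCohLib.Proper

/-!
# Proper birational morphisms over points of codimension at most one
-/

set_option autoImplicit false
set_option linter.style.haveILetI false
set_option backward.isDefEq.respectTransparency false
set_option backward.isDefEq.respectTransparency.types false

universe u

open CategoryTheory CategoryTheory.Limits AlgebraicGeometry TopologicalSpace Opposite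

namespace Groth.Agent.Lib.ZMTCodimDim

variable {X Y : Scheme.{u}}

/-- A birational morphism of integral schemes has zero relative dimension over points of codimension `≤ 1`. -/
theorem rd_eq_zero [IsIntegral X] [IsIntegral Y] [IsLocallyNoetherian Y] (f : X ⟶ Y) [LocallyOfFiniteType f]
    {U : Y.Opens} (hU : genericPoint Y ∈ U) [IsIso (f ∣_ U)] (x : X) (hdim : ringKrullDim (Y.presheaf.stalk (f x)) ≤ 1)
    (hx : f x ∉ U) : FibDim.rd f x = 0 := by
  haveI := LocallyOfFiniteType.isLocallyNoetherian f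
  obtain ⟨η', hη'⟩ := (f ∣_ U).homeomorph.surjective ⟨genericPoint Y, hU⟩
  have hη'' : f ((f ⁻¹ᵁ U).ι η') = genericPoint Y := by
    rw [← Scheme.Hom.comp_apply, ← morphismRestrict_ι, Scheme.Hom.comp_apply,
      show (f ∣_ U) η' = ⟨genericPoint Y, hU⟩ from hη']
    rfl
  have hgen : f (genericPoint X) = genericPoint Y := by
    refine Inseparable.eq ?_
    have h1 : f (genericPoint X) ⤳ genericPoint Y :=
      hη'' ▸ (genericPoint_specializes ((f ⁻¹ᵁ U).ι η')).map f.continuous
    exact h1.antisymm (genericPoint_specializes _)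
  have hη : FibDim.rd f (genericPoint X) = 0 := by
    refine DimFormula.rd_eq_zero_of_closed f fun x' hx' _ => ?_
    have hxU : x' ∈ f ⁻¹ᵁ U := by
      show f x' ∈ U; rw [hx', hgen]; exact hU
    have hgU : genericPoint X ∈ f ⁻¹ᵁ U := by
      show f (genericPoint X) ∈ U; rw [hgen]; exact hU
    exact congrArg Subtype.val ((f ∣_ U).homeomorph.injective (a₁ := ⟨x', hxU⟩) (a₂ := ⟨genericPoint X, hgU⟩) (by
      apply U.ι.isOpenEmbedding.injective
      show ((f ∣_ U) ≫ U.ι).base _ = ((f ∣_ U) ≫ U.ι).base _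
      rw [morphismRestrict_ι]
      exact hx'))
  have hne : genericPoint X ≠ x := fun e => hx (by rw [← e, hgen]; exact hU)
  obtain ⟨h1, -⟩ := DimFormula.cd_formula f (genericPoint_specializes x)
  have h2 : DimFormula.cd (genericPoint X) x ≠ 0 := fun h0 =>
    hne ((DimFormula.cd_eq_zero_iff (genericPoint_specializes x)).mp h0)
  have h3 : DimFormula.cd (f (genericPoint X)) (f x) ≤ DimFormula.codim (f x) :=
    DimFormula.cd_le_codim ((genericPoint_specializes x).map f.continuous)
  have h4 : DimFormula.codim (f x) ≤ 1 := by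
    rw [DimFormula.ringKrullDim_stalk] at hdim
    exact_mod_cast hdim
  rw [hη] at h1
  omega

/-- A finite type scheme over a field all of whose points are closed is discrete. -/
theorem isOpen_singleton_of_closed {y : Y} (f : X ⟶ Y) [LocallyOfFiniteType f] [QuasiCompact f]
    (hcl : ∀ p : f.fiber y, IsClosed ({p} : Set (f.fiber y))) (q : f.fiber y) :
    IsOpen ({q} : Set (f.fiber y)) := by
  haveI : LocallyOfFiniteType (f.fiberToSpecResidueField y) := MorphismProperty.pullback_snd _ _ inferInstance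
  haveI : IsLocallyNoetherian (f.fiber y) := LocallyOfFiniteType.isLocallyNoetherian (f.fiberToSpecResidueField y)
  haveI : IsNoetherian (f.fiber y) := { }
  haveI : Finite (f.fiber y) := Set.finite_univ_iff.mp
    (CurveCohLib.finite_of_closedPoints isClosed_univ fun p _ => hcl p)
  haveI : T1Space (f.fiber y) := ⟨hcl⟩
  exact isOpen_discrete _

theorem exists_open [IsIntegral X] [IsIntegral Y] [IsLocallyNoetherian Y] (f : X ⟶ Y) [IsProper f]
    {U : Y.Opens} (hU : genericPoint Y ∈ U) [IsIso (f ∣_ U)] (hO : ∀ W : Y.Opens, Function.Bijective (f.app W)) :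
    ∃ V : Y.Opens, IsIso (f ∣_ V) ∧ ∀ y : Y, y ∉ (V : Set Y) → 2 ≤ ringKrullDim (Y.presheaf.stalk y) := by
  obtain ⟨V, hV, hmem, hiso⟩ := ZMTIso.exists_open f hO
  refine ⟨V, hV, fun y hy => ?_⟩
  by_contra hdim
  have hle : ringKrullDim (Y.presheaf.stalk y) ≤ 1 := Order.le_of_lt_succ (not_le.mp hdim)
  haveI : Surjective f := ⟨fun z => by
    obtain ⟨η', hη'⟩ := (f ∣_ U).homeomorph.surjective ⟨genericPoint Y, hU⟩
    refine f.isClosedMap.isClosed_range.stableUnderSpecialization (genericPoint_specializes z) ⟨(f ⁻¹ᵁ U).ι η', ?_⟩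
    rw [← Scheme.Hom.comp_apply, ← morphismRestrict_ι, Scheme.Hom.comp_apply,
      show (f ∣_ U) η' = ⟨genericPoint Y, hU⟩ from hη']
    rfl⟩
  obtain ⟨x, hx⟩ := f.surjective y
  subst hx
  by_cases hxU : f x ∈ U
  · refine hy ((hmem x).mpr (Scheme.Hom.quasiFiniteAt_iff_isOpen_singleton_asFiber.mpr ?_))
    rw [ZMTIso.isOpen_singleton_asFiber_iff]
    have : Subsingleton ↥(f ⁻¹' {f x}) := ⟨fun a b => Subtype.ext (congrArg (fun q : ↥(f ⁻¹ᵁ U) => q.1)
      ((f ∣_ U).homeomorph.injective (a₁ := ⟨a.1, show f a.1 ∈ U by rw [show f a.1 = f x from a.2]; exact hxU⟩)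
        (a₂ := ⟨b.1, show f b.1 ∈ U by rw [show f b.1 = f x from b.2]; exact hxU⟩) (by
        apply U.ι.isOpenEmbedding.injective
        show ((f ∣_ U) ≫ U.ι).base _ = ((f ∣_ U) ≫ U.ι).base _
        rw [morphismRestrict_ι]
        exact (show f a.1 = f b.1 from a.2.trans b.2.symm))))⟩
    exact isOpen_discrete _
  refine hiso _ hy (f.asFiber x) (isOpen_singleton_of_closed f (fun p => ?_) _)
  refine closure_subset_iff_isClosed.mp fun p' hp' => ?_
  have hι : ∀ q : f.fiber (f x), f (f.fiberι _ q) = f x := fun q => by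
    have : f.fiberι _ q ∈ Set.range (f.fiberι (f x)) := ⟨q, rfl⟩
    rwa [f.range_fiberι] at this
  have hs : f.fiberι _ p ⤳ f.fiberι _ p' :=
    (specializes_iff_mem_closure.mpr hp').map (f.fiberι (f x)).continuous
  refine ((f.fiberι _).isEmbedding.injective (by_contra fun hne => ?_)).symm
  have h0 := rd_eq_zero f hU (f.fiberι _ p) (by rw [hι]; exact hle) (by rw [hι]; exact hxU)
  have := FibDim.rd_lt f hs hne ((hι p).trans (hι p').symm)
  omega

end Groth.Agent.Lib.ZMTCodimDim
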